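import Cfsg.Agent.Helper17.SuzbTC.Fin1

set_option autoImplicit false
set_option linter.all false
set_option maxRecDepth 100000

noncomputable section

namespace Cfsg.Agent.Helper17.SuzbTC

theorem N10001 : nd 10001 = n20181 := ndS (p := 6206) (l := 1) rfl N6206 D20181
theorem N10002 : nd 10002 = n20182 := ndS (p := 6206) (l := 3) rfl N6206 D20182
theorem N10003 : nd 10003 = n20183 := ndS (p := 6207) (l := 2) rfl N6207 D20183
theorem N10004 : nd 10004 = n20184 := ndS (p := 6207) (l := 4) rfl N6207 D20184
theorem N10005 : nd 10005 = n20185 := ndS (p := 6207) (l := 5) rfl N6207 D20185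
theorem N10006 : nd 10006 = n20187 := ndS (p := 6209) (l := 0) rfl N6209 D20187
theorem N10007 : nd 10007 = n20188 := ndS (p := 6209) (l := 2) rfl N6209 D20188
theorem N10008 : nd 10008 = n20189 := ndS (p := 6209) (l := 6) rfl N6209 D20189
theorem N10009 : nd 10009 = n20190 := ndS (p := 6210) (l := 1) rfl N6210 D20190
theorem N10010 : nd 10010 = n20191 := ndS (p := 6210) (l := 2) rfl N6210 D20191
theorem N10011 : nd 10011 = n20192 := ndS (p := 6210) (l := 6) rfl N6210 D20192
theorem N10012 : nd 10012 = n20193 := ndS (p := 6211) (l := 3) rfl N6211 D20193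
theorem N10013 : nd 10013 = n20194 := ndS (p := 6211) (l := 6) rfl N6211 D20194
theorem N10014 : nd 10014 = n20195 := ndS (p := 6212) (l := 5) rfl N6212 D20195
theorem N10015 : nd 10015 = n20196 := ndS (p := 6213) (l := 2) rfl N6213 D20196
theorem N10016 : nd 10016 = n20197 := ndS (p := 6214) (l := 1) rfl N6214 D20197
theorem N10017 : nd 10017 = n20198 := ndS (p := 6214) (l := 3) rfl N6214 D20198
theorem N10018 : nd 10018 = n20199 := ndS (p := 6214) (l := 5) rfl N6214 D20199
theorem N10019 : nd 10019 = n20200 := ndS (p := 6214) (l := 6) rfl N6214 D20200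
theorem N10020 : nd 10020 = n20201 := ndS (p := 6215) (l := 6) rfl N6215 D20201
theorem N10021 : nd 10021 = n20202 := ndS (p := 6216) (l := 5) rfl N6216 D20202
theorem N10022 : nd 10022 = n20203 := ndS (p := 6217) (l := 0) rfl N6217 D20203
theorem N10023 : nd 10023 = n20204 := ndS (p := 6217) (l := 3) rfl N6217 D20204
theorem N10024 : nd 10024 = n20205 := ndS (p := 6217) (l := 5) rfl N6217 D20205
theorem N10025 : nd 10025 = n20206 := ndS (p := 6217) (l := 6) rfl N6217 D20206
theorem N10026 : nd 10026 = n20207 := ndS (p := 6218) (l := 2) rfl N6218 D20207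
theorem N10027 : nd 10027 = n20208 := ndS (p := 6218) (l := 4) rfl N6218 D20208
theorem N10028 : nd 10028 = n20209 := ndS (p := 6219) (l := 1) rfl N6219 D20209
theorem N10029 : nd 10029 = n20210 := ndS (p := 6219) (l := 3) rfl N6219 D20210
theorem N10030 : nd 10030 = n20211 := ndS (p := 6219) (l := 4) rfl N6219 D20211
theorem N10031 : nd 10031 = n20212 := ndS (p := 6219) (l := 6) rfl N6219 D20212
theorem N10032 : nd 10032 = n20213 := ndS (p := 6220) (l := 6) rfl N6220 D20213
theorem N10033 : nd 10033 = n20214 := ndS (p := 6221) (l := 1) rfl N6221 D20214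
theorem N10034 : nd 10034 = n20215 := ndS (p := 6222) (l := 0) rfl N6222 D20215
theorem N10035 : nd 10035 = n20216 := ndS (p := 6222) (l := 2) rfl N6222 D20216
theorem N10036 : nd 10036 = n20217 := ndS (p := 6222) (l := 5) rfl N6222 D20217
theorem N10037 : nd 10037 = n20218 := ndS (p := 6223) (l := 1) rfl N6223 D20218
theorem N10038 : nd 10038 = n20219 := ndS (p := 6223) (l := 2) rfl N6223 D20219
theorem N10039 : nd 10039 = n20220 := ndS (p := 6224) (l := 3) rfl N6224 D20220
theorem N10040 : nd 10040 = n20221 := ndS (p := 6224) (l := 5) rfl N6224 D20221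
theorem N10041 : nd 10041 = n20222 := ndS (p := 6226) (l := 2) rfl N6226 D20222
theorem N10042 : nd 10042 = n20223 := ndS (p := 6227) (l := 1) rfl N6227 D20223
theorem N10043 : nd 10043 = n20224 := ndS (p := 6227) (l := 3) rfl N6227 D20224
theorem N10044 : nd 10044 = n20225 := ndS (p := 6227) (l := 5) rfl N6227 D20225
theorem N10045 : nd 10045 = n20226 := ndS (p := 6229) (l := 2) rfl N6229 D20226
theorem N10046 : nd 10046 = n20227 := ndS (p := 6229) (l := 4) rfl N6229 D20227
theorem N10047 : nd 10047 = n20228 := ndS (p := 6229) (l := 5) rfl N6229 D20228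
theorem N10048 : nd 10048 = n20229 := ndS (p := 6230) (l := 6) rfl N6230 D20229
theorem N10049 : nd 10049 = n20230 := ndS (p := 6232) (l := 2) rfl N6232 D20230
theorem N10050 : nd 10050 = n20231 := ndS (p := 6233) (l := 1) rfl N6233 D20231
theorem N10051 : nd 10051 = n20232 := ndS (p := 6233) (l := 3) rfl N6233 D20232
theorem N10052 : nd 10052 = n20233 := ndS (p := 6233) (l := 5) rfl N6233 D20233
theorem N10053 : nd 10053 = n20234 := ndS (p := 6233) (l := 6) rfl N6233 D20234
theorem N10054 : nd 10054 = n20235 := ndS (p := 6234) (l := 6) rfl N6234 D20235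
theorem N10055 : nd 10055 = n20236 := ndS (p := 6235) (l := 5) rfl N6235 D20236
theorem N10056 : nd 10056 = n20237 := ndS (p := 6236) (l := 0) rfl N6236 D20237
theorem N10057 : nd 10057 = n20238 := ndS (p := 6236) (l := 3) rfl N6236 D20238
theorem N10058 : nd 10058 = n20239 := ndS (p := 6236) (l := 5) rfl N6236 D20239
theorem N10059 : nd 10059 = n20240 := ndS (p := 6236) (l := 6) rfl N6236 D20240
theorem N10060 : nd 10060 = n20241 := ndS (p := 6237) (l := 2) rfl N6237 D20241
theorem N10061 : nd 10061 = n20242 := ndS (p := 6237) (l := 4) rfl N6237 D20242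
theorem N10062 : nd 10062 = n20243 := ndS (p := 6238) (l := 1) rfl N6238 D20243
theorem N10063 : nd 10063 = n20244 := ndS (p := 6238) (l := 3) rfl N6238 D20244
theorem N10064 : nd 10064 = n20245 := ndS (p := 6238) (l := 4) rfl N6238 D20245
theorem N10065 : nd 10065 = n20246 := ndS (p := 6238) (l := 5) rfl N6238 D20246
theorem N10066 : nd 10066 = n20247 := ndS (p := 6239) (l := 5) rfl N6239 D20247
theorem N10067 : nd 10067 = n20248 := ndS (p := 6240) (l := 1) rfl N6240 D20248
theorem N10068 : nd 10068 = n20249 := ndS (p := 6241) (l := 0) rfl N6241 D20249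
theorem N10069 : nd 10069 = n20250 := ndS (p := 6241) (l := 2) rfl N6241 D20250
theorem N10070 : nd 10070 = n20251 := ndS (p := 6241) (l := 6) rfl N6241 D20251
theorem N10071 : nd 10071 = n20252 := ndS (p := 6242) (l := 1) rfl N6242 D20252
theorem N10072 : nd 10072 = n20253 := ndS (p := 6242) (l := 2) rfl N6242 D20253
theorem N10073 : nd 10073 = n20254 := ndS (p := 6243) (l := 3) rfl N6243 D20254
theorem N10074 : nd 10074 = n20255 := ndS (p := 6243) (l := 6) rfl N6243 D20255
theorem N10075 : nd 10075 = n20256 := ndS (p := 6245) (l := 2) rfl N6245 D20256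
theorem N10076 : nd 10076 = n20257 := ndS (p := 6246) (l := 1) rfl N6246 D20257
theorem N10077 : nd 10077 = n20258 := ndS (p := 6246) (l := 3) rfl N6246 D20258
theorem N10078 : nd 10078 = n20259 := ndS (p := 6246) (l := 6) rfl N6246 D20259
theorem N10079 : nd 10079 = n20260 := ndS (p := 6248) (l := 2) rfl N6248 D20260
theorem N10080 : nd 10080 = n20261 := ndS (p := 6248) (l := 4) rfl N6248 D20261
theorem N10081 : nd 10081 = n20262 := ndS (p := 6248) (l := 6) rfl N6248 D20262
theorem N10082 : nd 10082 = n20263 := ndS (p := 6249) (l := 5) rfl N6249 D20263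
theorem N10083 : nd 10083 = n20264 := ndS (p := 6251) (l := 6) rfl N6251 D20264
theorem N10084 : nd 10084 = n20265 := ndS (p := 6252) (l := 1) rfl N6252 D20265
theorem N10085 : nd 10085 = n20266 := ndS (p := 6252) (l := 5) rfl N6252 D20266
theorem N10086 : nd 10086 = n20267 := ndS (p := 6254) (l := 6) rfl N6254 D20267
theorem N10087 : nd 10087 = n20268 := ndS (p := 6255) (l := 1) rfl N6255 D20268
theorem N10088 : nd 10088 = n20269 := ndS (p := 6256) (l := 0) rfl N6256 D20269
theorem N10089 : nd 10089 = n20270 := ndS (p := 6256) (l := 2) rfl N6256 D20270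
theorem N10090 : nd 10090 = n20271 := ndS (p := 6256) (l := 5) rfl N6256 D20271
theorem N10091 : nd 10091 = n20272 := ndS (p := 6257) (l := 1) rfl N6257 D20272
theorem N10092 : nd 10092 = n20273 := ndS (p := 6257) (l := 4) rfl N6257 D20273
theorem N10093 : nd 10093 = n20274 := ndS (p := 6257) (l := 6) rfl N6257 D20274
theorem N10094 : nd 10094 = n20275 := ndS (p := 6258) (l := 6) rfl N6258 D20275
theorem N10095 : nd 10095 = n20276 := ndS (p := 6259) (l := 1) rfl N6259 D20276
theorem N10096 : nd 10096 = n20277 := ndS (p := 6259) (l := 5) rfl N6259 D20277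
theorem N10097 : nd 10097 = n20279 := ndS (p := 6260) (l := 5) rfl N6260 D20279
theorem N10098 : nd 10098 = n20280 := ndS (p := 6261) (l := 1) rfl N6261 D20280
theorem N10099 : nd 10099 = n20281 := ndS (p := 6262) (l := 0) rfl N6262 D20281
theorem N10100 : nd 10100 = n20282 := ndS (p := 6262) (l := 2) rfl N6262 D20282
theorem N10101 : nd 10101 = n20283 := ndS (p := 6262) (l := 6) rfl N6262 D20283
theorem N10102 : nd 10102 = n20284 := ndS (p := 6263) (l := 1) rfl N6263 D20284
theorem N10103 : nd 10103 = n20285 := ndS (p := 6263) (l := 6) rfl N6263 D20285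
theorem N10104 : nd 10104 = n20286 := ndS (p := 6264) (l := 5) rfl N6264 D20286
theorem N10105 : nd 10105 = n20287 := ndS (p := 6266) (l := 5) rfl N6266 D20287
theorem N10106 : nd 10106 = n20288 := ndS (p := 6267) (l := 1) rfl N6267 D20288
theorem N10107 : nd 10107 = n20289 := ndS (p := 6268) (l := 0) rfl N6268 D20289
theorem N10108 : nd 10108 = n20290 := ndS (p := 6268) (l := 2) rfl N6268 D20290
theorem N10109 : nd 10109 = n20291 := ndS (p := 6268) (l := 6) rfl N6268 D20291
theorem N10110 : nd 10110 = n20292 := ndS (p := 6269) (l := 1) rfl N6269 D20292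
theorem N10111 : nd 10111 = n20293 := ndS (p := 6269) (l := 4) rfl N6269 D20293
theorem N10112 : nd 10112 = n20294 := ndS (p := 6269) (l := 5) rfl N6269 D20294
theorem N10113 : nd 10113 = n20295 := ndS (p := 6270) (l := 5) rfl N6270 D20295
theorem N10114 : nd 10114 = n20296 := ndS (p := 6271) (l := 1) rfl N6271 D20296
theorem N10115 : nd 10115 = n20297 := ndS (p := 6271) (l := 6) rfl N6271 D20297
theorem N10116 : nd 10116 = n20298 := ndS (p := 6272) (l := 6) rfl N6272 D20298
theorem N10117 : nd 10117 = n20299 := ndS (p := 6273) (l := 1) rfl N6273 D20299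
theorem N10118 : nd 10118 = n20300 := ndS (p := 6274) (l := 0) rfl N6274 D20300
theorem N10119 : nd 10119 = n20301 := ndS (p := 6274) (l := 2) rfl N6274 D20301
theorem N10120 : nd 10120 = n20302 := ndS (p := 6274) (l := 5) rfl N6274 D20302
theorem N10121 : nd 10121 = n20303 := ndS (p := 6280) (l := 4) rfl N6280 D20303
theorem N10122 : nd 10122 = n20304 := ndS (p := 6280) (l := 5) rfl N6280 D20304
theorem N10123 : nd 10123 = n20305 := ndS (p := 6280) (l := 6) rfl N6280 D20305
theorem N10124 : nd 10124 = n20306 := ndS (p := 6282) (l := 1) rfl N6282 D20306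
theorem N10125 : nd 10125 = n20307 := ndS (p := 6283) (l := 1) rfl N6283 D20307
theorem N10126 : nd 10126 = n20308 := ndS (p := 6283) (l := 4) rfl N6283 D20308
theorem N10127 : nd 10127 = n20309 := ndS (p := 6283) (l := 6) rfl N6283 D20309
theorem N10128 : nd 10128 = n20310 := ndS (p := 6284) (l := 6) rfl N6284 D20310
theorem N10129 : nd 10129 = n20311 := ndS (p := 6285) (l := 1) rfl N6285 D20311
theorem N10130 : nd 10130 = n20312 := ndS (p := 6286) (l := 0) rfl N6286 D20312
theorem N10131 : nd 10131 = n20313 := ndS (p := 6286) (l := 2) rfl N6286 D20313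
theorem N10132 : nd 10132 = n20314 := ndS (p := 6286) (l := 5) rfl N6286 D20314
theorem N10133 : nd 10133 = n20315 := ndS (p := 6287) (l := 1) rfl N6287 D20315
theorem N10134 : nd 10134 = n20316 := ndS (p := 6290) (l := 4) rfl N6290 D20316
theorem N10135 : nd 10135 = n20317 := ndS (p := 6290) (l := 6) rfl N6290 D20317
theorem N10136 : nd 10136 = n20318 := ndS (p := 6291) (l := 3) rfl N6291 D20318
theorem N10137 : nd 10137 = n20319 := ndS (p := 6291) (l := 6) rfl N6291 D20319
theorem N10138 : nd 10138 = n20320 := ndS (p := 6292) (l := 1) rfl N6292 D20320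
theorem N10139 : nd 10139 = n20321 := ndS (p := 6292) (l := 5) rfl N6292 D20321
theorem N10140 : nd 10140 = n20322 := ndS (p := 6293) (l := 1) rfl N6293 D20322
theorem N10141 : nd 10141 = n20323 := ndS (p := 6293) (l := 5) rfl N6293 D20323
theorem N10142 : nd 10142 = n20324 := ndS (p := 6294) (l := 0) rfl N6294 D20324
theorem N10143 : nd 10143 = n20325 := ndS (p := 6294) (l := 2) rfl N6294 D20325
theorem N10144 : nd 10144 = n20326 := ndS (p := 6294) (l := 5) rfl N6294 D20326
theorem N10145 : nd 10145 = n20327 := ndS (p := 6295) (l := 1) rfl N6295 D20327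
theorem N10146 : nd 10146 = n20328 := ndS (p := 6296) (l := 1) rfl N6296 D20328
theorem N10147 : nd 10147 = n20329 := ndS (p := 6297) (l := 1) rfl N6297 D20329
theorem N10148 : nd 10148 = n20330 := ndS (p := 6298) (l := 0) rfl N6298 D20330
theorem N10149 : nd 10149 = n20331 := ndS (p := 6298) (l := 2) rfl N6298 D20331
theorem N10150 : nd 10150 = n20332 := ndS (p := 6298) (l := 6) rfl N6298 D20332
theorem N10151 : nd 10151 = n20333 := ndS (p := 6299) (l := 2) rfl N6299 D20333
theorem N10152 : nd 10152 = n20335 := ndS (p := 6300) (l := 6) rfl N6300 D20335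
theorem N10153 : nd 10153 = n20336 := ndS (p := 6301) (l := 5) rfl N6301 D20336
theorem N10154 : nd 10154 = n20337 := ndS (p := 6307) (l := 4) rfl N6307 D20337
theorem N10155 : nd 10155 = n20338 := ndS (p := 6307) (l := 5) rfl N6307 D20338
theorem N10156 : nd 10156 = n20339 := ndS (p := 6307) (l := 6) rfl N6307 D20339
theorem N10157 : nd 10157 = n20340 := ndS (p := 6308) (l := 1) rfl N6308 D20340
theorem N10158 : nd 10158 = n20341 := ndS (p := 6310) (l := 1) rfl N6310 D20341
theorem N10159 : nd 10159 = n20342 := ndS (p := 6310) (l := 4) rfl N6310 D20342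
theorem N10160 : nd 10160 = n20343 := ndS (p := 6310) (l := 5) rfl N6310 D20343
theorem N10161 : nd 10161 = n20344 := ndS (p := 6311) (l := 5) rfl N6311 D20344
theorem N10162 : nd 10162 = n20345 := ndS (p := 6312) (l := 1) rfl N6312 D20345
theorem N10163 : nd 10163 = n20346 := ndS (p := 6313) (l := 0) rfl N6313 D20346
theorem N10164 : nd 10164 = n20347 := ndS (p := 6313) (l := 2) rfl N6313 D20347
theorem N10165 : nd 10165 = n20348 := ndS (p := 6313) (l := 6) rfl N6313 D20348
theorem N10166 : nd 10166 = n20349 := ndS (p := 6314) (l := 1) rfl N6314 D20349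
theorem N10167 : nd 10167 = n20350 := ndS (p := 6317) (l := 4) rfl N6317 D20350
theorem N10168 : nd 10168 = n20351 := ndS (p := 6317) (l := 5) rfl N6317 D20351
theorem N10169 : nd 10169 = n20352 := ndS (p := 6318) (l := 3) rfl N6318 D20352
theorem N10170 : nd 10170 = n20353 := ndS (p := 6318) (l := 5) rfl N6318 D20353
theorem N10171 : nd 10171 = n20354 := ndS (p := 6319) (l := 1) rfl N6319 D20354
theorem N10172 : nd 10172 = n20355 := ndS (p := 6319) (l := 6) rfl N6319 D20355
theorem N10173 : nd 10173 = n20356 := ndS (p := 6320) (l := 1) rfl N6320 D20356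
theorem N10174 : nd 10174 = n20357 := ndS (p := 6320) (l := 6) rfl N6320 D20357
theorem N10175 : nd 10175 = n20358 := ndS (p := 6321) (l := 0) rfl N6321 D20358
theorem N10176 : nd 10176 = n20359 := ndS (p := 6321) (l := 2) rfl N6321 D20359
theorem N10177 : nd 10177 = n20360 := ndS (p := 6321) (l := 6) rfl N6321 D20360
theorem N10178 : nd 10178 = n20361 := ndS (p := 6322) (l := 1) rfl N6322 D20361
theorem N10179 : nd 10179 = n20362 := ndS (p := 6323) (l := 1) rfl N6323 D20362
theorem N10180 : nd 10180 = n20363 := ndS (p := 6324) (l := 1) rfl N6324 D20363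
theorem N10181 : nd 10181 = n20364 := ndS (p := 6325) (l := 0) rfl N6325 D20364
theorem N10182 : nd 10182 = n20365 := ndS (p := 6325) (l := 2) rfl N6325 D20365
theorem N10183 : nd 10183 = n20366 := ndS (p := 6325) (l := 5) rfl N6325 D20366
theorem N10184 : nd 10184 = n20367 := ndS (p := 6326) (l := 2) rfl N6326 D20367
theorem N10185 : nd 10185 = n20369 := ndS (p := 6327) (l := 5) rfl N6327 D20369
theorem N10186 : nd 10186 = n20370 := ndS (p := 6328) (l := 6) rfl N6328 D20370
theorem N10187 : nd 10187 = n20371 := ndS (p := 6329) (l := 3) rfl N6329 D20371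
theorem N10188 : nd 10188 = n20372 := ndS (p := 6329) (l := 6) rfl N6329 D20372
theorem N10189 : nd 10189 = n20373 := ndS (p := 6330) (l := 2) rfl N6330 D20373
theorem N10190 : nd 10190 = n20374 := ndS (p := 6330) (l := 4) rfl N6330 D20374
theorem N10191 : nd 10191 = n20375 := ndS (p := 6330) (l := 5) rfl N6330 D20375
theorem N10192 : nd 10192 = n20376 := ndS (p := 6330) (l := 6) rfl N6330 D20376
theorem N10193 : nd 10193 = n20377 := ndS (p := 6331) (l := 1) rfl N6331 D20377
theorem N10194 : nd 10194 = n20378 := ndS (p := 6332) (l := 1) rfl N6332 D20378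
theorem N10195 : nd 10195 = n20379 := ndS (p := 6333) (l := 3) rfl N6333 D20379
theorem N10196 : nd 10196 = n20380 := ndS (p := 6333) (l := 4) rfl N6333 D20380
theorem N10197 : nd 10197 = n20381 := ndS (p := 6333) (l := 5) rfl N6333 D20381
theorem N10198 : nd 10198 = n20382 := ndS (p := 6333) (l := 6) rfl N6333 D20382
theorem N10199 : nd 10199 = n20383 := ndS (p := 6334) (l := 5) rfl N6334 D20383
theorem N10200 : nd 10200 = n20384 := ndS (p := 6334) (l := 6) rfl N6334 D20384
theorem N10201 : nd 10201 = n20385 := ndS (p := 6335) (l := 6) rfl N6335 D20385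
theorem N10202 : nd 10202 = n20386 := ndS (p := 6336) (l := 5) rfl N6336 D20386
theorem N10203 : nd 10203 = n20387 := ndS (p := 6337) (l := 1) rfl N6337 D20387
theorem N10204 : nd 10204 = n20388 := ndS (p := 6338) (l := 0) rfl N6338 D20388
theorem N10205 : nd 10205 = n20389 := ndS (p := 6338) (l := 5) rfl N6338 D20389
theorem N10206 : nd 10206 = n20390 := ndS (p := 6339) (l := 1) rfl N6339 D20390
theorem N10207 : nd 10207 = n20391 := ndS (p := 6340) (l := 1) rfl N6340 D20391
theorem N10208 : nd 10208 = n20392 := ndS (p := 6340) (l := 5) rfl N6340 D20392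
theorem N10209 : nd 10209 = n20393 := ndS (p := 6341) (l := 6) rfl N6341 D20393
theorem N10210 : nd 10210 = n20394 := ndS (p := 6342) (l := 0) rfl N6342 D20394
theorem N10211 : nd 10211 = n20395 := ndS (p := 6342) (l := 2) rfl N6342 D20395
theorem N10212 : nd 10212 = n20396 := ndS (p := 6342) (l := 5) rfl N6342 D20396
theorem N10213 : nd 10213 = n20397 := ndS (p := 6343) (l := 1) rfl N6343 D20397
theorem N10214 : nd 10214 = n20398 := ndS (p := 6343) (l := 2) rfl N6343 D20398
theorem N10215 : nd 10215 = n20399 := ndS (p := 6343) (l := 5) rfl N6343 D20399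
theorem N10216 : nd 10216 = n20400 := ndS (p := 6344) (l := 3) rfl N6344 D20400
theorem N10217 : nd 10217 = n20401 := ndS (p := 6344) (l := 5) rfl N6344 D20401
theorem N10218 : nd 10218 = n20402 := ndS (p := 6345) (l := 6) rfl N6345 D20402
theorem N10219 : nd 10219 = n20403 := ndS (p := 6346) (l := 5) rfl N6346 D20403
theorem N10220 : nd 10220 = n20404 := ndS (p := 6346) (l := 6) rfl N6346 D20404
theorem N10221 : nd 10221 = n20405 := ndS (p := 6348) (l := 1) rfl N6348 D20405
theorem N10222 : nd 10222 = n20406 := ndS (p := 6349) (l := 3) rfl N6349 D20406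
theorem N10223 : nd 10223 = n20407 := ndS (p := 6349) (l := 5) rfl N6349 D20407
theorem N10224 : nd 10224 = n20408 := ndS (p := 6350) (l := 2) rfl N6350 D20408
theorem N10225 : nd 10225 = n20409 := ndS (p := 6350) (l := 4) rfl N6350 D20409
theorem N10226 : nd 10226 = n20410 := ndS (p := 6350) (l := 5) rfl N6350 D20410
theorem N10227 : nd 10227 = n20411 := ndS (p := 6350) (l := 6) rfl N6350 D20411
theorem N10228 : nd 10228 = n20412 := ndS (p := 6351) (l := 1) rfl N6351 D20412
theorem N10229 : nd 10229 = n20413 := ndS (p := 6352) (l := 1) rfl N6352 D20413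
theorem N10230 : nd 10230 = n20414 := ndS (p := 6353) (l := 3) rfl N6353 D20414
theorem N10231 : nd 10231 = n20415 := ndS (p := 6353) (l := 4) rfl N6353 D20415
theorem N10232 : nd 10232 = n20416 := ndS (p := 6353) (l := 5) rfl N6353 D20416
theorem N10233 : nd 10233 = n20417 := ndS (p := 6353) (l := 6) rfl N6353 D20417
theorem N10234 : nd 10234 = n20418 := ndS (p := 6354) (l := 5) rfl N6354 D20418
theorem N10235 : nd 10235 = n20419 := ndS (p := 6354) (l := 6) rfl N6354 D20419
theorem N10236 : nd 10236 = n20420 := ndS (p := 6355) (l := 6) rfl N6355 D20420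
theorem N10237 : nd 10237 = n20421 := ndS (p := 6356) (l := 5) rfl N6356 D20421
theorem N10238 : nd 10238 = n20422 := ndS (p := 6357) (l := 0) rfl N6357 D20422
theorem N10239 : nd 10239 = n20423 := ndS (p := 6357) (l := 6) rfl N6357 D20423
theorem N10240 : nd 10240 = n20424 := ndS (p := 6358) (l := 1) rfl N6358 D20424
theorem N10241 : nd 10241 = n20425 := ndS (p := 6359) (l := 1) rfl N6359 D20425
theorem N10242 : nd 10242 = n20426 := ndS (p := 6360) (l := 1) rfl N6360 D20426
theorem N10243 : nd 10243 = n20427 := ndS (p := 6360) (l := 6) rfl N6360 D20427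
theorem N10244 : nd 10244 = n20428 := ndS (p := 6361) (l := 5) rfl N6361 D20428
theorem N10245 : nd 10245 = n20429 := ndS (p := 6362) (l := 0) rfl N6362 D20429
theorem N10246 : nd 10246 = n20430 := ndS (p := 6362) (l := 2) rfl N6362 D20430
theorem N10247 : nd 10247 = n20431 := ndS (p := 6362) (l := 6) rfl N6362 D20431
theorem N10248 : nd 10248 = n20432 := ndS (p := 6363) (l := 1) rfl N6363 D20432
theorem N10249 : nd 10249 = n20433 := ndS (p := 6363) (l := 2) rfl N6363 D20433
theorem N10250 : nd 10250 = n20434 := ndS (p := 6363) (l := 6) rfl N6363 D20434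
theorem N10251 : nd 10251 = n20435 := ndS (p := 6364) (l := 3) rfl N6364 D20435
theorem N10252 : nd 10252 = n20436 := ndS (p := 6364) (l := 6) rfl N6364 D20436
theorem N10253 : nd 10253 = n20437 := ndS (p := 6365) (l := 5) rfl N6365 D20437
theorem N10254 : nd 10254 = n20438 := ndS (p := 6366) (l := 5) rfl N6366 D20438
theorem N10255 : nd 10255 = n20439 := ndS (p := 6366) (l := 6) rfl N6366 D20439
theorem N10256 : nd 10256 = n20440 := ndS (p := 6368) (l := 1) rfl N6368 D20440
theorem N10257 : nd 10257 = n20441 := ndS (p := 6369) (l := 3) rfl N6369 D20441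
theorem N10258 : nd 10258 = n20442 := ndS (p := 6369) (l := 6) rfl N6369 D20442
theorem N10259 : nd 10259 = n20443 := ndS (p := 6370) (l := 2) rfl N6370 D20443
theorem N10260 : nd 10260 = n20444 := ndS (p := 6370) (l := 4) rfl N6370 D20444
theorem N10261 : nd 10261 = n20445 := ndS (p := 6370) (l := 5) rfl N6370 D20445
theorem N10262 : nd 10262 = n20446 := ndS (p := 6370) (l := 6) rfl N6370 D20446
theorem N10263 : nd 10263 = n20447 := ndS (p := 6371) (l := 1) rfl N6371 D20447
theorem N10264 : nd 10264 = n20448 := ndS (p := 6372) (l := 1) rfl N6372 D20448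
theorem N10265 : nd 10265 = n20449 := ndS (p := 6373) (l := 3) rfl N6373 D20449
theorem N10266 : nd 10266 = n20450 := ndS (p := 6373) (l := 4) rfl N6373 D20450
theorem N10267 : nd 10267 = n20451 := ndS (p := 6373) (l := 5) rfl N6373 D20451
theorem N10268 : nd 10268 = n20452 := ndS (p := 6373) (l := 6) rfl N6373 D20452
theorem N10269 : nd 10269 = n20453 := ndS (p := 6374) (l := 5) rfl N6374 D20453
theorem N10270 : nd 10270 = n20454 := ndS (p := 6374) (l := 6) rfl N6374 D20454
theorem N10271 : nd 10271 = n20455 := ndS (p := 6375) (l := 6) rfl N6375 D20455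
theorem N10272 : nd 10272 = n20456 := ndS (p := 6376) (l := 5) rfl N6376 D20456
theorem N10273 : nd 10273 = n20457 := ndS (p := 6377) (l := 1) rfl N6377 D20457
theorem N10274 : nd 10274 = n20458 := ndS (p := 6378) (l := 1) rfl N6378 D20458
theorem N10275 : nd 10275 = n20459 := ndS (p := 6379) (l := 3) rfl N6379 D20459
theorem N10276 : nd 10276 = n20460 := ndS (p := 6379) (l := 5) rfl N6379 D20460
theorem N10277 : nd 10277 = n20461 := ndS (p := 6380) (l := 2) rfl N6380 D20461
theorem N10278 : nd 10278 = n20462 := ndS (p := 6380) (l := 4) rfl N6380 D20462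
theorem N10279 : nd 10279 = n20463 := ndS (p := 6380) (l := 5) rfl N6380 D20463
theorem N10280 : nd 10280 = n20464 := ndS (p := 6380) (l := 6) rfl N6380 D20464
theorem N10281 : nd 10281 = n20465 := ndS (p := 6381) (l := 1) rfl N6381 D20465
theorem N10282 : nd 10282 = n20466 := ndS (p := 6382) (l := 1) rfl N6382 D20466
theorem N10283 : nd 10283 = n20467 := ndS (p := 6383) (l := 3) rfl N6383 D20467
theorem N10284 : nd 10284 = n20468 := ndS (p := 6383) (l := 4) rfl N6383 D20468
theorem N10285 : nd 10285 = n20469 := ndS (p := 6383) (l := 5) rfl N6383 D20469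
theorem N10286 : nd 10286 = n20470 := ndS (p := 6383) (l := 6) rfl N6383 D20470
theorem N10287 : nd 10287 = n20471 := ndS (p := 6384) (l := 5) rfl N6384 D20471
theorem N10288 : nd 10288 = n20472 := ndS (p := 6384) (l := 6) rfl N6384 D20472
theorem N10289 : nd 10289 = n20473 := ndS (p := 6385) (l := 6) rfl N6385 D20473
theorem N10290 : nd 10290 = n20474 := ndS (p := 6386) (l := 5) rfl N6386 D20474
theorem N10291 : nd 10291 = n20475 := ndS (p := 6387) (l := 1) rfl N6387 D20475
theorem N10292 : nd 10292 = n20476 := ndS (p := 6388) (l := 1) rfl N6388 D20476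
theorem N10293 : nd 10293 = n20477 := ndS (p := 6389) (l := 3) rfl N6389 D20477
theorem N10294 : nd 10294 = n20478 := ndS (p := 6389) (l := 6) rfl N6389 D20478
theorem N10295 : nd 10295 = n20479 := ndS (p := 6391) (l := 3) rfl N6391 D20479
theorem N10296 : nd 10296 = n20480 := ndS (p := 6391) (l := 5) rfl N6391 D20480
theorem N10297 : nd 10297 = n20481 := ndS (p := 6395) (l := 2) rfl N6395 D20481
theorem N10298 : nd 10298 = n20482 := ndS (p := 6395) (l := 5) rfl N6395 D20482
theorem N10299 : nd 10299 = n20483 := ndS (p := 6398) (l := 2) rfl N6398 D20483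
theorem N10300 : nd 10300 = n20484 := ndS (p := 6398) (l := 6) rfl N6398 D20484
theorem N10301 : nd 10301 = n20489 := ndS (p := 6406) (l := 3) rfl N6406 D20489
theorem N10302 : nd 10302 = n20490 := ndS (p := 6406) (l := 6) rfl N6406 D20490
theorem N10303 : nd 10303 = n20491 := ndS (p := 6407) (l := 4) rfl N6407 D20491
theorem N10304 : nd 10304 = n20492 := ndS (p := 6407) (l := 6) rfl N6407 D20492
theorem N10305 : nd 10305 = n20493 := ndS (p := 6408) (l := 6) rfl N6408 D20493
theorem N10306 : nd 10306 = n20494 := ndS (p := 6409) (l := 1) rfl N6409 D20494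
theorem N10307 : nd 10307 = n20495 := ndS (p := 6409) (l := 5) rfl N6409 D20495
theorem N10308 : nd 10308 = n20496 := ndS (p := 6412) (l := 3) rfl N6412 D20496
theorem N10309 : nd 10309 = n20497 := ndS (p := 6412) (l := 6) rfl N6412 D20497
theorem N10310 : nd 10310 = n20498 := ndS (p := 6413) (l := 2) rfl N6413 D20498
theorem N10311 : nd 10311 = n20499 := ndS (p := 6413) (l := 4) rfl N6413 D20499
theorem N10312 : nd 10312 = n20500 := ndS (p := 6413) (l := 6) rfl N6413 D20500
theorem N10313 : nd 10313 = n20501 := ndS (p := 6414) (l := 6) rfl N6414 D20501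
theorem N10314 : nd 10314 = n20502 := ndS (p := 6417) (l := 6) rfl N6417 D20502
theorem N10315 : nd 10315 = n20503 := ndS (p := 6419) (l := 1) rfl N6419 D20503
theorem N10316 : nd 10316 = n20504 := ndS (p := 6420) (l := 0) rfl N6420 D20504
theorem N10317 : nd 10317 = n20507 := ndS (p := 6421) (l := 1) rfl N6421 D20507
theorem N10318 : nd 10318 = n20508 := ndS (p := 6421) (l := 2) rfl N6421 D20508
theorem N10319 : nd 10319 = n20509 := ndS (p := 6421) (l := 5) rfl N6421 D20509
theorem N10320 : nd 10320 = n20511 := ndS (p := 6422) (l := 5) rfl N6422 D20511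
theorem N10321 : nd 10321 = n20512 := ndS (p := 6423) (l := 6) rfl N6423 D20512
theorem N10322 : nd 10322 = n20513 := ndS (p := 6424) (l := 2) rfl N6424 D20513
theorem N10323 : nd 10323 = n20514 := ndS (p := 6425) (l := 1) rfl N6425 D20514
theorem N10324 : nd 10324 = n20515 := ndS (p := 6425) (l := 3) rfl N6425 D20515
theorem N10325 : nd 10325 = n20518 := ndS (p := 6426) (l := 5) rfl N6426 D20518
theorem N10326 : nd 10326 = n20519 := ndS (p := 6427) (l := 1) rfl N6427 D20519
theorem N10327 : nd 10327 = n20520 := ndS (p := 6428) (l := 1) rfl N6428 D20520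
theorem N10328 : nd 10328 = n20521 := ndS (p := 6428) (l := 3) rfl N6428 D20521
theorem N10329 : nd 10329 = n20522 := ndS (p := 6429) (l := 0) rfl N6429 D20522
theorem N10330 : nd 10330 = n20524 := ndS (p := 6429) (l := 5) rfl N6429 D20524
theorem N10331 : nd 10331 = n20525 := ndS (p := 6429) (l := 6) rfl N6429 D20525
theorem N10332 : nd 10332 = n20527 := ndS (p := 6430) (l := 5) rfl N6430 D20527
theorem N10333 : nd 10333 = n20528 := ndS (p := 6431) (l := 1) rfl N6431 D20528
theorem N10334 : nd 10334 = n20531 := ndS (p := 6432) (l := 5) rfl N6432 D20531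
theorem N10335 : nd 10335 = n20532 := ndS (p := 6433) (l := 5) rfl N6433 D20532
theorem N10336 : nd 10336 = n20533 := ndS (p := 6434) (l := 6) rfl N6434 D20533
theorem N10337 : nd 10337 = n20534 := ndS (p := 6435) (l := 1) rfl N6435 D20534
theorem N10338 : nd 10338 = n20535 := ndS (p := 6437) (l := 3) rfl N6437 D20535
theorem N10339 : nd 10339 = n20536 := ndS (p := 6437) (l := 5) rfl N6437 D20536
theorem N10340 : nd 10340 = n20537 := ndS (p := 6438) (l := 4) rfl N6438 D20537
theorem N10341 : nd 10341 = n20538 := ndS (p := 6438) (l := 5) rfl N6438 D20538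
theorem N10342 : nd 10342 = n20539 := ndS (p := 6439) (l := 1) rfl N6439 D20539
theorem N10343 : nd 10343 = n20540 := ndS (p := 6439) (l := 6) rfl N6439 D20540
theorem N10344 : nd 10344 = n20541 := ndS (p := 6440) (l := 5) rfl N6440 D20541
theorem N10345 : nd 10345 = n20542 := ndS (p := 6443) (l := 3) rfl N6443 D20542
theorem N10346 : nd 10346 = n20543 := ndS (p := 6443) (l := 5) rfl N6443 D20543
theorem N10347 : nd 10347 = n20544 := ndS (p := 6444) (l := 2) rfl N6444 D20544
theorem N10348 : nd 10348 = n20545 := ndS (p := 6444) (l := 4) rfl N6444 D20545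
theorem N10349 : nd 10349 = n20546 := ndS (p := 6444) (l := 5) rfl N6444 D20546
theorem N10350 : nd 10350 = n20547 := ndS (p := 6446) (l := 5) rfl N6446 D20547
theorem N10351 : nd 10351 = n20548 := ndS (p := 6448) (l := 5) rfl N6448 D20548
theorem N10352 : nd 10352 = n20549 := ndS (p := 6450) (l := 1) rfl N6450 D20549
theorem N10353 : nd 10353 = n20550 := ndS (p := 6451) (l := 0) rfl N6451 D20550
theorem N10354 : nd 10354 = n20553 := ndS (p := 6452) (l := 1) rfl N6452 D20553
theorem N10355 : nd 10355 = n20554 := ndS (p := 6452) (l := 2) rfl N6452 D20554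
theorem N10356 : nd 10356 = n20555 := ndS (p := 6452) (l := 6) rfl N6452 D20555
theorem N10357 : nd 10357 = n20557 := ndS (p := 6453) (l := 6) rfl N6453 D20557
theorem N10358 : nd 10358 = n20558 := ndS (p := 6454) (l := 5) rfl N6454 D20558
theorem N10359 : nd 10359 = n20559 := ndS (p := 6455) (l := 2) rfl N6455 D20559
theorem N10360 : nd 10360 = n20560 := ndS (p := 6456) (l := 1) rfl N6456 D20560
theorem N10361 : nd 10361 = n20561 := ndS (p := 6456) (l := 3) rfl N6456 D20561
theorem N10362 : nd 10362 = n20564 := ndS (p := 6457) (l := 6) rfl N6457 D20564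
theorem N10363 : nd 10363 = n20565 := ndS (p := 6458) (l := 1) rfl N6458 D20565
theorem N10364 : nd 10364 = n20568 := ndS (p := 6460) (l := 0) rfl N6460 D20568
theorem N10365 : nd 10365 = n20570 := ndS (p := 6460) (l := 5) rfl N6460 D20570
theorem N10366 : nd 10366 = n20571 := ndS (p := 6460) (l := 6) rfl N6460 D20571
theorem N10367 : nd 10367 = n20573 := ndS (p := 6461) (l := 6) rfl N6461 D20573
theorem N10368 : nd 10368 = n20574 := ndS (p := 6462) (l := 1) rfl N6462 D20574
theorem N10369 : nd 10369 = n20577 := ndS (p := 6463) (l := 6) rfl N6463 D20577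
theorem N10370 : nd 10370 = n20578 := ndS (p := 6464) (l := 6) rfl N6464 D20578
theorem N10371 : nd 10371 = n20579 := ndS (p := 6465) (l := 5) rfl N6465 D20579
theorem N10372 : nd 10372 = n20580 := ndS (p := 6466) (l := 1) rfl N6466 D20580
theorem N10373 : nd 10373 = n20581 := ndS (p := 6471) (l := 1) rfl N6471 D20581
theorem N10374 : nd 10374 = n20582 := ndS (p := 6472) (l := 5) rfl N6472 D20582
theorem N10375 : nd 10375 = n20583 := ndS (p := 6473) (l := 1) rfl N6473 D20583
theorem N10376 : nd 10376 = n20584 := ndS (p := 6474) (l := 0) rfl N6474 D20584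
theorem N10377 : nd 10377 = n20585 := ndS (p := 6474) (l := 2) rfl N6474 D20585
theorem N10378 : nd 10378 = n20586 := ndS (p := 6474) (l := 5) rfl N6474 D20586
theorem N10379 : nd 10379 = n20587 := ndS (p := 6475) (l := 1) rfl N6475 D20587
theorem N10380 : nd 10380 = n20588 := ndS (p := 6475) (l := 5) rfl N6475 D20588
theorem N10381 : nd 10381 = n20589 := ndS (p := 6476) (l := 3) rfl N6476 D20589
theorem N10382 : nd 10382 = n20590 := ndS (p := 6478) (l := 2) rfl N6478 D20590
theorem N10383 : nd 10383 = n20591 := ndS (p := 6481) (l := 2) rfl N6481 D20591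
theorem N10384 : nd 10384 = n20592 := ndS (p := 6483) (l := 1) rfl N6483 D20592
theorem N10385 : nd 10385 = n20593 := ndS (p := 6486) (l := 2) rfl N6486 D20593
theorem N10386 : nd 10386 = n20594 := ndS (p := 6486) (l := 6) rfl N6486 D20594
theorem N10387 : nd 10387 = n20595 := ndS (p := 6487) (l := 5) rfl N6487 D20595
theorem N10388 : nd 10388 = n20596 := ndS (p := 6489) (l := 0) rfl N6489 D20596
theorem N10389 : nd 10389 = n20597 := ndS (p := 6490) (l := 1) rfl N6490 D20597
theorem N10390 : nd 10390 = n20598 := ndS (p := 6491) (l := 1) rfl N6491 D20598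
theorem N10391 : nd 10391 = n20599 := ndS (p := 6492) (l := 0) rfl N6492 D20599
theorem N10392 : nd 10392 = n20600 := ndS (p := 6492) (l := 6) rfl N6492 D20600
theorem N10393 : nd 10393 = n20601 := ndS (p := 6493) (l := 0) rfl N6493 D20601
theorem N10394 : nd 10394 = n20602 := ndS (p := 6493) (l := 5) rfl N6493 D20602
theorem N10395 : nd 10395 = n20603 := ndS (p := 6494) (l := 0) rfl N6494 D20603
theorem N10396 : nd 10396 = n20604 := ndS (p := 6494) (l := 2) rfl N6494 D20604
theorem N10397 : nd 10397 = n20605 := ndS (p := 6494) (l := 6) rfl N6494 D20605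
theorem N10398 : nd 10398 = n20606 := ndS (p := 6495) (l := 1) rfl N6495 D20606
theorem N10399 : nd 10399 = n20607 := ndS (p := 6495) (l := 2) rfl N6495 D20607
theorem N10400 : nd 10400 = n20608 := ndS (p := 6495) (l := 6) rfl N6495 D20608
theorem N10401 : nd 10401 = n20609 := ndS (p := 6496) (l := 3) rfl N6496 D20609
theorem N10402 : nd 10402 = n20610 := ndS (p := 6496) (l := 6) rfl N6496 D20610
theorem N10403 : nd 10403 = n20611 := ndS (p := 6497) (l := 5) rfl N6497 D20611
theorem N10404 : nd 10404 = n20612 := ndS (p := 6498) (l := 1) rfl N6498 D20612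
theorem N10405 : nd 10405 = n20613 := ndS (p := 6498) (l := 3) rfl N6498 D20613
theorem N10406 : nd 10406 = n20617 := ndS (p := 6500) (l := 1) rfl N6500 D20617
theorem N10407 : nd 10407 = n20619 := ndS (p := 6505) (l := 1) rfl N6505 D20619
theorem N10408 : nd 10408 = n20620 := ndS (p := 6506) (l := 6) rfl N6506 D20620
theorem N10409 : nd 10409 = n20621 := ndS (p := 6507) (l := 1) rfl N6507 D20621
theorem N10410 : nd 10410 = n20622 := ndS (p := 6508) (l := 0) rfl N6508 D20622
theorem N10411 : nd 10411 = n20623 := ndS (p := 6508) (l := 2) rfl N6508 D20623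
theorem N10412 : nd 10412 = n20624 := ndS (p := 6508) (l := 6) rfl N6508 D20624
theorem N10413 : nd 10413 = n20625 := ndS (p := 6509) (l := 1) rfl N6509 D20625
theorem N10414 : nd 10414 = n20626 := ndS (p := 6509) (l := 6) rfl N6509 D20626
theorem N10415 : nd 10415 = n20627 := ndS (p := 6510) (l := 3) rfl N6510 D20627
theorem N10416 : nd 10416 = n20628 := ndS (p := 6512) (l := 2) rfl N6512 D20628
theorem N10417 : nd 10417 = n20629 := ndS (p := 6514) (l := 2) rfl N6514 D20629
theorem N10418 : nd 10418 = n20630 := ndS (p := 6516) (l := 1) rfl N6516 D20630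
theorem N10419 : nd 10419 = n20631 := ndS (p := 6519) (l := 2) rfl N6519 D20631
theorem N10420 : nd 10420 = n20632 := ndS (p := 6519) (l := 5) rfl N6519 D20632
theorem N10421 : nd 10421 = n20633 := ndS (p := 6520) (l := 6) rfl N6520 D20633
theorem N10422 : nd 10422 = n20634 := ndS (p := 6522) (l := 0) rfl N6522 D20634
theorem N10423 : nd 10423 = n20635 := ndS (p := 6523) (l := 1) rfl N6523 D20635
theorem N10424 : nd 10424 = n20636 := ndS (p := 6524) (l := 1) rfl N6524 D20636
theorem N10425 : nd 10425 = n20637 := ndS (p := 6525) (l := 0) rfl N6525 D20637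
theorem N10426 : nd 10426 = n20638 := ndS (p := 6525) (l := 5) rfl N6525 D20638
theorem N10427 : nd 10427 = n20639 := ndS (p := 6526) (l := 0) rfl N6526 D20639
theorem N10428 : nd 10428 = n20640 := ndS (p := 6526) (l := 6) rfl N6526 D20640
theorem N10429 : nd 10429 = n20641 := ndS (p := 6527) (l := 0) rfl N6527 D20641
theorem N10430 : nd 10430 = n20642 := ndS (p := 6527) (l := 2) rfl N6527 D20642
theorem N10431 : nd 10431 = n20643 := ndS (p := 6527) (l := 5) rfl N6527 D20643
theorem N10432 : nd 10432 = n20644 := ndS (p := 6528) (l := 1) rfl N6528 D20644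
theorem N10433 : nd 10433 = n20645 := ndS (p := 6528) (l := 2) rfl N6528 D20645
theorem N10434 : nd 10434 = n20646 := ndS (p := 6528) (l := 5) rfl N6528 D20646
theorem N10435 : nd 10435 = n20647 := ndS (p := 6529) (l := 3) rfl N6529 D20647
theorem N10436 : nd 10436 = n20648 := ndS (p := 6529) (l := 5) rfl N6529 D20648
theorem N10437 : nd 10437 = n20649 := ndS (p := 6530) (l := 6) rfl N6530 D20649
theorem N10438 : nd 10438 = n20650 := ndS (p := 6531) (l := 1) rfl N6531 D20650
theorem N10439 : nd 10439 = n20651 := ndS (p := 6531) (l := 3) rfl N6531 D20651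
theorem N10440 : nd 10440 = n20655 := ndS (p := 6533) (l := 1) rfl N6533 D20655
theorem N10441 : nd 10441 = n20657 := ndS (p := 6535) (l := 1) rfl N6535 D20657
theorem N10442 : nd 10442 = n20658 := ndS (p := 6536) (l := 4) rfl N6536 D20658
theorem N10443 : nd 10443 = n20659 := ndS (p := 6536) (l := 6) rfl N6536 D20659
theorem N10444 : nd 10444 = n20660 := ndS (p := 6537) (l := 5) rfl N6537 D20660
theorem N10445 : nd 10445 = n20661 := ndS (p := 6537) (l := 6) rfl N6537 D20661
theorem N10446 : nd 10446 = n20662 := ndS (p := 6539) (l := 1) rfl N6539 D20662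
theorem N10447 : nd 10447 = n20663 := ndS (p := 6540) (l := 6) rfl N6540 D20663
theorem N10448 : nd 10448 = n20664 := ndS (p := 6541) (l := 0) rfl N6541 D20664
theorem N10449 : nd 10449 = n20667 := ndS (p := 6542) (l := 3) rfl N6542 D20667
theorem N10450 : nd 10450 = n20668 := ndS (p := 6542) (l := 6) rfl N6542 D20668
theorem N10451 : nd 10451 = n20669 := ndS (p := 6543) (l := 5) rfl N6543 D20669
theorem N10452 : nd 10452 = n20670 := ndS (p := 6544) (l := 6) rfl N6544 D20670
theorem N10453 : nd 10453 = n20671 := ndS (p := 6545) (l := 1) rfl N6545 D20671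
theorem N10454 : nd 10454 = n20672 := ndS (p := 6545) (l := 5) rfl N6545 D20672
theorem N10455 : nd 10455 = n20673 := ndS (p := 6546) (l := 1) rfl N6546 D20673
theorem N10456 : nd 10456 = n20674 := ndS (p := 6547) (l := 0) rfl N6547 D20674
theorem N10457 : nd 10457 = n20675 := ndS (p := 6547) (l := 5) rfl N6547 D20675
theorem N10458 : nd 10458 = n20676 := ndS (p := 6548) (l := 1) rfl N6548 D20676
theorem N10459 : nd 10459 = n20677 := ndS (p := 6549) (l := 0) rfl N6549 D20677
theorem N10460 : nd 10460 = n20680 := ndS (p := 6550) (l := 1) rfl N6550 D20680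
theorem N10461 : nd 10461 = n20681 := ndS (p := 6552) (l := 0) rfl N6552 D20681
theorem N10462 : nd 10462 = n20682 := ndS (p := 6552) (l := 6) rfl N6552 D20682
theorem N10463 : nd 10463 = n20683 := ndS (p := 6553) (l := 0) rfl N6553 D20683
theorem N10464 : nd 10464 = n20684 := ndS (p := 6554) (l := 1) rfl N6554 D20684
theorem N10465 : nd 10465 = n20685 := ndS (p := 6555) (l := 5) rfl N6555 D20685
theorem N10466 : nd 10466 = n20686 := ndS (p := 6555) (l := 6) rfl N6555 D20686
theorem N10467 : nd 10467 = n20687 := ndS (p := 6557) (l := 1) rfl N6557 D20687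
theorem N10468 : nd 10468 = n20688 := ndS (p := 6558) (l := 2) rfl N6558 D20688
theorem N10469 : nd 10469 = n20689 := ndS (p := 6558) (l := 6) rfl N6558 D20689
theorem N10470 : nd 10470 = n20690 := ndS (p := 6559) (l := 0) rfl N6559 D20690
theorem N10471 : nd 10471 = n20691 := ndS (p := 6559) (l := 5) rfl N6559 D20691
theorem N10472 : nd 10472 = n20692 := ndS (p := 6561) (l := 0) rfl N6561 D20692
theorem N10473 : nd 10473 = n20693 := ndS (p := 6561) (l := 2) rfl N6561 D20693
theorem N10474 : nd 10474 = n20694 := ndS (p := 6561) (l := 5) rfl N6561 D20694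
theorem N10475 : nd 10475 = n20695 := ndS (p := 6562) (l := 2) rfl N6562 D20695
theorem N10476 : nd 10476 = n20696 := ndS (p := 6562) (l := 5) rfl N6562 D20696
theorem N10477 : nd 10477 = n20697 := ndS (p := 6564) (l := 6) rfl N6564 D20697
theorem N10478 : nd 10478 = n20698 := ndS (p := 6565) (l := 1) rfl N6565 D20698
theorem N10479 : nd 10479 = n20699 := ndS (p := 6565) (l := 2) rfl N6565 D20699
theorem N10480 : nd 10480 = n20700 := ndS (p := 6566) (l := 3) rfl N6566 D20700
theorem N10481 : nd 10481 = n20701 := ndS (p := 6567) (l := 6) rfl N6567 D20701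
theorem N10482 : nd 10482 = n20702 := ndS (p := 6568) (l := 2) rfl N6568 D20702
theorem N10483 : nd 10483 = n20703 := ndS (p := 6568) (l := 6) rfl N6568 D20703
theorem N10484 : nd 10484 = n20704 := ndS (p := 6569) (l := 1) rfl N6569 D20704
theorem N10485 : nd 10485 = n20705 := ndS (p := 6570) (l := 1) rfl N6570 D20705
theorem N10486 : nd 10486 = n20706 := ndS (p := 6571) (l := 6) rfl N6571 D20706
theorem N10487 : nd 10487 = n20707 := ndS (p := 6572) (l := 5) rfl N6572 D20707
theorem N10488 : nd 10488 = n20708 := ndS (p := 6573) (l := 0) rfl N6573 D20708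
theorem N10489 : nd 10489 = n20709 := ndS (p := 6573) (l := 2) rfl N6573 D20709
theorem N10490 : nd 10490 = n20710 := ndS (p := 6573) (l := 5) rfl N6573 D20710
theorem N10491 : nd 10491 = n20711 := ndS (p := 6574) (l := 1) rfl N6574 D20711
theorem N10492 : nd 10492 = n20712 := ndS (p := 6575) (l := 4) rfl N6575 D20712
theorem N10493 : nd 10493 = n20713 := ndS (p := 6575) (l := 5) rfl N6575 D20713
theorem N10494 : nd 10494 = n20714 := ndS (p := 6576) (l := 5) rfl N6576 D20714
theorem N10495 : nd 10495 = n20715 := ndS (p := 6576) (l := 6) rfl N6576 D20715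
theorem N10496 : nd 10496 = n20716 := ndS (p := 6577) (l := 1) rfl N6577 D20716
theorem N10497 : nd 10497 = n20717 := ndS (p := 6579) (l := 0) rfl N6579 D20717
theorem N10498 : nd 10498 = n20720 := ndS (p := 6580) (l := 5) rfl N6580 D20720
theorem N10499 : nd 10499 = n20721 := ndS (p := 6581) (l := 3) rfl N6581 D20721
theorem N10500 : nd 10500 = n20722 := ndS (p := 6581) (l := 5) rfl N6581 D20722
theorem N10501 : nd 10501 = n20723 := ndS (p := 6582) (l := 6) rfl N6582 D20723
theorem N10502 : nd 10502 = n20724 := ndS (p := 6583) (l := 1) rfl N6583 D20724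
theorem N10503 : nd 10503 = n20725 := ndS (p := 6583) (l := 6) rfl N6583 D20725
theorem N10504 : nd 10504 = n20726 := ndS (p := 6584) (l := 5) rfl N6584 D20726
theorem N10505 : nd 10505 = n20727 := ndS (p := 6585) (l := 0) rfl N6585 D20727
theorem N10506 : nd 10506 = n20728 := ndS (p := 6585) (l := 6) rfl N6585 D20728
theorem N10507 : nd 10507 = n20729 := ndS (p := 6586) (l := 1) rfl N6586 D20729
theorem N10508 : nd 10508 = n20730 := ndS (p := 6587) (l := 1) rfl N6587 D20730
theorem N10509 : nd 10509 = n20731 := ndS (p := 6588) (l := 1) rfl N6588 D20731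
theorem N10510 : nd 10510 = n20732 := ndS (p := 6590) (l := 0) rfl N6590 D20732
theorem N10511 : nd 10511 = n20733 := ndS (p := 6590) (l := 5) rfl N6590 D20733
theorem N10512 : nd 10512 = n20734 := ndS (p := 6591) (l := 0) rfl N6591 D20734
theorem N10513 : nd 10513 = n20737 := ndS (p := 6592) (l := 0) rfl N6592 D20737
theorem N10514 : nd 10514 = n20738 := ndS (p := 6593) (l := 1) rfl N6593 D20738
theorem N10515 : nd 10515 = n20739 := ndS (p := 6594) (l := 5) rfl N6594 D20739
theorem N10516 : nd 10516 = n20740 := ndS (p := 6594) (l := 6) rfl N6594 D20740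
theorem N10517 : nd 10517 = n20741 := ndS (p := 6596) (l := 1) rfl N6596 D20741
theorem N10518 : nd 10518 = n20742 := ndS (p := 6597) (l := 2) rfl N6597 D20742
theorem N10519 : nd 10519 = n20743 := ndS (p := 6597) (l := 5) rfl N6597 D20743
theorem N10520 : nd 10520 = n20744 := ndS (p := 6598) (l := 0) rfl N6598 D20744
theorem N10521 : nd 10521 = n20745 := ndS (p := 6598) (l := 6) rfl N6598 D20745
theorem N10522 : nd 10522 = n20746 := ndS (p := 6600) (l := 0) rfl N6600 D20746
theorem N10523 : nd 10523 = n20747 := ndS (p := 6600) (l := 2) rfl N6600 D20747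
theorem N10524 : nd 10524 = n20748 := ndS (p := 6600) (l := 6) rfl N6600 D20748
theorem N10525 : nd 10525 = n20749 := ndS (p := 6601) (l := 2) rfl N6601 D20749
theorem N10526 : nd 10526 = n20750 := ndS (p := 6601) (l := 6) rfl N6601 D20750
theorem N10527 : nd 10527 = n20751 := ndS (p := 6603) (l := 5) rfl N6603 D20751
theorem N10528 : nd 10528 = n20752 := ndS (p := 6604) (l := 1) rfl N6604 D20752
theorem N10529 : nd 10529 = n20753 := ndS (p := 6605) (l := 3) rfl N6605 D20753
theorem N10530 : nd 10530 = n20754 := ndS (p := 6607) (l := 2) rfl N6607 D20754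
theorem N10531 : nd 10531 = n20755 := ndS (p := 6607) (l := 5) rfl N6607 D20755
theorem N10532 : nd 10532 = n20756 := ndS (p := 6608) (l := 6) rfl N6608 D20756
theorem N10533 : nd 10533 = n20757 := ndS (p := 6609) (l := 5) rfl N6609 D20757
theorem N10534 : nd 10534 = n20758 := ndS (p := 6610) (l := 0) rfl N6610 D20758
theorem N10535 : nd 10535 = n20759 := ndS (p := 6610) (l := 2) rfl N6610 D20759
theorem N10536 : nd 10536 = n20760 := ndS (p := 6610) (l := 6) rfl N6610 D20760
theorem N10537 : nd 10537 = n20761 := ndS (p := 6611) (l := 2) rfl N6611 D20761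
theorem N10538 : nd 10538 = n20762 := ndS (p := 6611) (l := 6) rfl N6611 D20762
theorem N10539 : nd 10539 = n20763 := ndS (p := 6614) (l := 0) rfl N6614 D20763
theorem N10540 : nd 10540 = n20764 := ndS (p := 6614) (l := 5) rfl N6614 D20764
theorem N10541 : nd 10541 = n20765 := ndS (p := 6615) (l := 5) rfl N6615 D20765
theorem N10542 : nd 10542 = n20766 := ndS (p := 6616) (l := 6) rfl N6616 D20766
theorem N10543 : nd 10543 = n20767 := ndS (p := 6617) (l := 6) rfl N6617 D20767
theorem N10544 : nd 10544 = n20768 := ndS (p := 6619) (l := 6) rfl N6619 D20768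
theorem N10545 : nd 10545 = n20769 := ndS (p := 6621) (l := 3) rfl N6621 D20769
theorem N10546 : nd 10546 = n20770 := ndS (p := 6621) (l := 6) rfl N6621 D20770
theorem N10547 : nd 10547 = n20771 := ndS (p := 6623) (l := 6) rfl N6623 D20771
theorem N10548 : nd 10548 = n20772 := ndS (p := 6625) (l := 2) rfl N6625 D20772
theorem N10549 : nd 10549 = n20773 := ndS (p := 6625) (l := 5) rfl N6625 D20773
theorem N10550 : nd 10550 = n20774 := ndS (p := 6625) (l := 6) rfl N6625 D20774
theorem N10551 : nd 10551 = n20775 := ndS (p := 6626) (l := 6) rfl N6626 D20775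
theorem N10552 : nd 10552 = n20776 := ndS (p := 6627) (l := 1) rfl N6627 D20776
theorem N10553 : nd 10553 = n20777 := ndS (p := 6628) (l := 1) rfl N6628 D20777
theorem N10554 : nd 10554 = n20778 := ndS (p := 6630) (l := 6) rfl N6630 D20778
theorem N10555 : nd 10555 = n20779 := ndS (p := 6631) (l := 6) rfl N6631 D20779
theorem N10556 : nd 10556 = n20780 := ndS (p := 6632) (l := 1) rfl N6632 D20780
theorem N10557 : nd 10557 = n20781 := ndS (p := 6632) (l := 5) rfl N6632 D20781
theorem N10558 : nd 10558 = n20782 := ndS (p := 6634) (l := 0) rfl N6634 D20782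
theorem N10559 : nd 10559 = n20783 := ndS (p := 6634) (l := 2) rfl N6634 D20783
theorem N10560 : nd 10560 = n20784 := ndS (p := 6634) (l := 5) rfl N6634 D20784
theorem N10561 : nd 10561 = n20785 := ndS (p := 6635) (l := 1) rfl N6635 D20785
theorem N10562 : nd 10562 = n20786 := ndS (p := 6637) (l := 1) rfl N6637 D20786
theorem N10563 : nd 10563 = n20787 := ndS (p := 6637) (l := 2) rfl N6637 D20787
theorem N10564 : nd 10564 = n20788 := ndS (p := 6638) (l := 3) rfl N6638 D20788
theorem N10565 : nd 10565 = n20789 := ndS (p := 6638) (l := 5) rfl N6638 D20789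
theorem N10566 : nd 10566 = n20790 := ndS (p := 6640) (l := 2) rfl N6640 D20790
theorem N10567 : nd 10567 = n20791 := ndS (p := 6641) (l := 1) rfl N6641 D20791
theorem N10568 : nd 10568 = n20792 := ndS (p := 6642) (l := 2) rfl N6642 D20792
theorem N10569 : nd 10569 = n20793 := ndS (p := 6642) (l := 5) rfl N6642 D20793
theorem N10570 : nd 10570 = n20794 := ndS (p := 6644) (l := 6) rfl N6644 D20794
theorem N10571 : nd 10571 = n20795 := ndS (p := 6645) (l := 0) rfl N6645 D20795
theorem N10572 : nd 10572 = n20796 := ndS (p := 6645) (l := 2) rfl N6645 D20796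
theorem N10573 : nd 10573 = n20797 := ndS (p := 6646) (l := 2) rfl N6646 D20797
theorem N10574 : nd 10574 = n20798 := ndS (p := 6646) (l := 5) rfl N6646 D20798
theorem N10575 : nd 10575 = n20799 := ndS (p := 6647) (l := 3) rfl N6647 D20799
theorem N10576 : nd 10576 = n20800 := ndS (p := 6647) (l := 5) rfl N6647 D20800
theorem N10577 : nd 10577 = n20801 := ndS (p := 6649) (l := 1) rfl N6649 D20801
theorem N10578 : nd 10578 = n20802 := ndS (p := 6649) (l := 3) rfl N6649 D20802
theorem N10579 : nd 10579 = n20803 := ndS (p := 6649) (l := 5) rfl N6649 D20803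
theorem N10580 : nd 10580 = n20804 := ndS (p := 6651) (l := 2) rfl N6651 D20804
theorem N10581 : nd 10581 = n20805 := ndS (p := 6651) (l := 4) rfl N6651 D20805
theorem N10582 : nd 10582 = n20806 := ndS (p := 6651) (l := 5) rfl N6651 D20806
theorem N10583 : nd 10583 = n20807 := ndS (p := 6652) (l := 6) rfl N6652 D20807
theorem N10584 : nd 10584 = n20808 := ndS (p := 6654) (l := 4) rfl N6654 D20808
theorem N10585 : nd 10585 = n20809 := ndS (p := 6655) (l := 0) rfl N6655 D20809
theorem N10586 : nd 10586 = n20810 := ndS (p := 6655) (l := 3) rfl N6655 D20810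
theorem N10587 : nd 10587 = n20811 := ndS (p := 6655) (l := 5) rfl N6655 D20811
theorem N10588 : nd 10588 = n20812 := ndS (p := 6655) (l := 6) rfl N6655 D20812
theorem N10589 : nd 10589 = n20813 := ndS (p := 6656) (l := 4) rfl N6656 D20813
theorem N10590 : nd 10590 = n20814 := ndS (p := 6657) (l := 1) rfl N6657 D20814
theorem N10591 : nd 10591 = n20815 := ndS (p := 6657) (l := 4) rfl N6657 D20815
theorem N10592 : nd 10592 = n20816 := ndS (p := 6659) (l := 2) rfl N6659 D20816
theorem N10593 : nd 10593 = n20817 := ndS (p := 6659) (l := 5) rfl N6659 D20817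
theorem N10594 : nd 10594 = n20818 := ndS (p := 6662) (l := 0) rfl N6662 D20818
theorem N10595 : nd 10595 = n20819 := ndS (p := 6662) (l := 6) rfl N6662 D20819
theorem N10596 : nd 10596 = n20820 := ndS (p := 6663) (l := 6) rfl N6663 D20820
theorem N10597 : nd 10597 = n20821 := ndS (p := 6664) (l := 5) rfl N6664 D20821
theorem N10598 : nd 10598 = n20822 := ndS (p := 6665) (l := 5) rfl N6665 D20822
theorem N10599 : nd 10599 = n20823 := ndS (p := 6668) (l := 5) rfl N6668 D20823
theorem N10600 : nd 10600 = n20824 := ndS (p := 6669) (l := 3) rfl N6669 D20824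
theorem N10601 : nd 10601 = n20825 := ndS (p := 6669) (l := 5) rfl N6669 D20825
theorem N10602 : nd 10602 = n20826 := ndS (p := 6671) (l := 5) rfl N6671 D20826
theorem N10603 : nd 10603 = n20827 := ndS (p := 6673) (l := 2) rfl N6673 D20827
theorem N10604 : nd 10604 = n20828 := ndS (p := 6673) (l := 5) rfl N6673 D20828
theorem N10605 : nd 10605 = n20829 := ndS (p := 6673) (l := 6) rfl N6673 D20829
theorem N10606 : nd 10606 = n20830 := ndS (p := 6674) (l := 1) rfl N6674 D20830
theorem N10607 : nd 10607 = n20831 := ndS (p := 6675) (l := 5) rfl N6675 D20831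
theorem N10608 : nd 10608 = n20832 := ndS (p := 6678) (l := 5) rfl N6678 D20832
theorem N10609 : nd 10609 = n20833 := ndS (p := 6679) (l := 1) rfl N6679 D20833
theorem N10610 : nd 10610 = n20834 := ndS (p := 6679) (l := 6) rfl N6679 D20834
theorem N10611 : nd 10611 = n20835 := ndS (p := 6681) (l := 0) rfl N6681 D20835
theorem N10612 : nd 10612 = n20836 := ndS (p := 6681) (l := 2) rfl N6681 D20836
theorem N10613 : nd 10613 = n20837 := ndS (p := 6681) (l := 6) rfl N6681 D20837
theorem N10614 : nd 10614 = n20838 := ndS (p := 6683) (l := 1) rfl N6683 D20838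
theorem N10615 : nd 10615 = n20839 := ndS (p := 6683) (l := 2) rfl N6683 D20839
theorem N10616 : nd 10616 = n20840 := ndS (p := 6684) (l := 3) rfl N6684 D20840
theorem N10617 : nd 10617 = n20841 := ndS (p := 6684) (l := 6) rfl N6684 D20841
theorem N10618 : nd 10618 = n20842 := ndS (p := 6686) (l := 1) rfl N6686 D20842
theorem N10619 : nd 10619 = n20843 := ndS (p := 6687) (l := 2) rfl N6687 D20843
theorem N10620 : nd 10620 = n20844 := ndS (p := 6687) (l := 6) rfl N6687 D20844
theorem N10621 : nd 10621 = n20845 := ndS (p := 6689) (l := 5) rfl N6689 D20845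
theorem N10622 : nd 10622 = n20846 := ndS (p := 6690) (l := 0) rfl N6690 D20846
theorem N10623 : nd 10623 = n20847 := ndS (p := 6690) (l := 2) rfl N6690 D20847
theorem N10624 : nd 10624 = n20848 := ndS (p := 6691) (l := 2) rfl N6691 D20848
theorem N10625 : nd 10625 = n20849 := ndS (p := 6692) (l := 3) rfl N6692 D20849
theorem N10626 : nd 10626 = n20850 := ndS (p := 6692) (l := 6) rfl N6692 D20850
theorem N10627 : nd 10627 = n20851 := ndS (p := 6694) (l := 1) rfl N6694 D20851
theorem N10628 : nd 10628 = n20852 := ndS (p := 6694) (l := 3) rfl N6694 D20852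
theorem N10629 : nd 10629 = n20853 := ndS (p := 6695) (l := 2) rfl N6695 D20853
theorem N10630 : nd 10630 = n20854 := ndS (p := 6695) (l := 4) rfl N6695 D20854
theorem N10631 : nd 10631 = n20855 := ndS (p := 6695) (l := 6) rfl N6695 D20855
theorem N10632 : nd 10632 = n20856 := ndS (p := 6696) (l := 5) rfl N6696 D20856
theorem N10633 : nd 10633 = n20857 := ndS (p := 6698) (l := 4) rfl N6698 D20857
theorem N10634 : nd 10634 = n20858 := ndS (p := 6699) (l := 0) rfl N6699 D20858
theorem N10635 : nd 10635 = n20859 := ndS (p := 6699) (l := 5) rfl N6699 D20859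
theorem N10636 : nd 10636 = n20860 := ndS (p := 6699) (l := 6) rfl N6699 D20860
theorem N10637 : nd 10637 = n20861 := ndS (p := 6702) (l := 3) rfl N6702 D20861
theorem N10638 : nd 10638 = n20862 := ndS (p := 6702) (l := 6) rfl N6702 D20862
theorem N10639 : nd 10639 = n20863 := ndS (p := 6703) (l := 1) rfl N6703 D20863
theorem N10640 : nd 10640 = n20864 := ndS (p := 6704) (l := 0) rfl N6704 D20864
theorem N10641 : nd 10641 = n20865 := ndS (p := 6704) (l := 2) rfl N6704 D20865
theorem N10642 : nd 10642 = n20866 := ndS (p := 6704) (l := 5) rfl N6704 D20866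
theorem N10643 : nd 10643 = n20867 := ndS (p := 6705) (l := 0) rfl N6705 D20867
theorem N10644 : nd 10644 = n20868 := ndS (p := 6705) (l := 2) rfl N6705 D20868
theorem N10645 : nd 10645 = n20869 := ndS (p := 6705) (l := 5) rfl N6705 D20869
theorem N10646 : nd 10646 = n20870 := ndS (p := 6707) (l := 2) rfl N6707 D20870
theorem N10647 : nd 10647 = n20871 := ndS (p := 6707) (l := 6) rfl N6707 D20871
theorem N10648 : nd 10648 = n20872 := ndS (p := 6708) (l := 1) rfl N6708 D20872
theorem N10649 : nd 10649 = n20873 := ndS (p := 6709) (l := 1) rfl N6709 D20873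
theorem N10650 : nd 10650 = n20874 := ndS (p := 6710) (l := 1) rfl N6710 D20874
theorem N10651 : nd 10651 = n20875 := ndS (p := 6711) (l := 0) rfl N6711 D20875
theorem N10652 : nd 10652 = n20876 := ndS (p := 6711) (l := 5) rfl N6711 D20876
theorem N10653 : nd 10653 = n20877 := ndS (p := 6714) (l := 1) rfl N6714 D20877
theorem N10654 : nd 10654 = n20878 := ndS (p := 6715) (l := 6) rfl N6715 D20878
theorem N10655 : nd 10655 = n20879 := ndS (p := 6717) (l := 0) rfl N6717 D20879
theorem N10656 : nd 10656 = n20880 := ndS (p := 6719) (l := 1) rfl N6719 D20880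
theorem N10657 : nd 10657 = n20881 := ndS (p := 6722) (l := 1) rfl N6722 D20881
theorem N10658 : nd 10658 = n20882 := ndS (p := 6724) (l := 6) rfl N6724 D20882
theorem N10659 : nd 10659 = n20883 := ndS (p := 6725) (l := 0) rfl N6725 D20883
theorem N10660 : nd 10660 = n20884 := ndS (p := 6725) (l := 2) rfl N6725 D20884
theorem N10661 : nd 10661 = n20885 := ndS (p := 6725) (l := 6) rfl N6725 D20885
theorem N10662 : nd 10662 = n20886 := ndS (p := 6726) (l := 1) rfl N6726 D20886
theorem N10663 : nd 10663 = n20887 := ndS (p := 6727) (l := 4) rfl N6727 D20887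
theorem N10664 : nd 10664 = n20888 := ndS (p := 6729) (l := 0) rfl N6729 D20888
theorem N10665 : nd 10665 = n20889 := ndS (p := 6729) (l := 6) rfl N6729 D20889
theorem N10666 : nd 10666 = n20890 := ndS (p := 6730) (l := 1) rfl N6730 D20890
theorem N10667 : nd 10667 = n20891 := ndS (p := 6730) (l := 2) rfl N6730 D20891
theorem N10668 : nd 10668 = n20892 := ndS (p := 6731) (l := 3) rfl N6731 D20892
theorem N10669 : nd 10669 = n20893 := ndS (p := 6732) (l := 0) rfl N6732 D20893
theorem N10670 : nd 10670 = n20894 := ndS (p := 6732) (l := 2) rfl N6732 D20894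
theorem N10671 : nd 10671 = n20895 := ndS (p := 6732) (l := 5) rfl N6732 D20895
theorem N10672 : nd 10672 = n20896 := ndS (p := 6733) (l := 1) rfl N6733 D20896
theorem N10673 : nd 10673 = n20897 := ndS (p := 6733) (l := 2) rfl N6733 D20897
theorem N10674 : nd 10674 = n20898 := ndS (p := 6733) (l := 5) rfl N6733 D20898
theorem N10675 : nd 10675 = n20899 := ndS (p := 6734) (l := 5) rfl N6734 D20899
theorem N10676 : nd 10676 = n20900 := ndS (p := 6737) (l := 5) rfl N6737 D20900
theorem N10677 : nd 10677 = n20901 := ndS (p := 6738) (l := 1) rfl N6738 D20901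
theorem N10678 : nd 10678 = n20902 := ndS (p := 6739) (l := 4) rfl N6739 D20902
theorem N10679 : nd 10679 = n20903 := ndS (p := 6741) (l := 0) rfl N6741 D20903
theorem N10680 : nd 10680 = n20904 := ndS (p := 6742) (l := 6) rfl N6742 D20904
theorem N10681 : nd 10681 = n20905 := ndS (p := 6743) (l := 5) rfl N6743 D20905
theorem N10682 : nd 10682 = n20906 := ndS (p := 6744) (l := 6) rfl N6744 D20906
theorem N10683 : nd 10683 = n20907 := ndS (p := 6745) (l := 6) rfl N6745 D20907
theorem N10684 : nd 10684 = n20908 := ndS (p := 6746) (l := 1) rfl N6746 D20908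
theorem N10685 : nd 10685 = n20909 := ndS (p := 6746) (l := 6) rfl N6746 D20909
theorem N10686 : nd 10686 = n20910 := ndS (p := 6748) (l := 3) rfl N6748 D20910
theorem N10687 : nd 10687 = n20911 := ndS (p := 6749) (l := 4) rfl N6749 D20911
theorem N10688 : nd 10688 = n20912 := ndS (p := 6750) (l := 1) rfl N6750 D20912
theorem N10689 : nd 10689 = n20913 := ndS (p := 6751) (l := 0) rfl N6751 D20913
theorem N10690 : nd 10690 = n20914 := ndS (p := 6751) (l := 2) rfl N6751 D20914
theorem N10691 : nd 10691 = n20915 := ndS (p := 6751) (l := 6) rfl N6751 D20915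
theorem N10692 : nd 10692 = n20916 := ndS (p := 6753) (l := 6) rfl N6753 D20916
theorem N10693 : nd 10693 = n20917 := ndS (p := 6754) (l := 1) rfl N6754 D20917
theorem N10694 : nd 10694 = n20918 := ndS (p := 6755) (l := 6) rfl N6755 D20918
theorem N10695 : nd 10695 = n20919 := ndS (p := 6759) (l := 1) rfl N6759 D20919
theorem N10696 : nd 10696 = n20920 := ndS (p := 6761) (l := 0) rfl N6761 D20920
theorem N10697 : nd 10697 = n20921 := ndS (p := 6761) (l := 3) rfl N6761 D20921
theorem N10698 : nd 10698 = n20922 := ndS (p := 6761) (l := 5) rfl N6761 D20922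
theorem N10699 : nd 10699 = n20923 := ndS (p := 6761) (l := 6) rfl N6761 D20923
theorem N10700 : nd 10700 = n20924 := ndS (p := 6762) (l := 4) rfl N6762 D20924
theorem N10701 : nd 10701 = n20925 := ndS (p := 6764) (l := 0) rfl N6764 D20925
theorem N10702 : nd 10702 = n20926 := ndS (p := 6764) (l := 3) rfl N6764 D20926
theorem N10703 : nd 10703 = n20927 := ndS (p := 6764) (l := 5) rfl N6764 D20927
theorem N10704 : nd 10704 = n20928 := ndS (p := 6764) (l := 6) rfl N6764 D20928
theorem N10705 : nd 10705 = n20929 := ndS (p := 6765) (l := 4) rfl N6765 D20929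
theorem N10706 : nd 10706 = n20930 := ndS (p := 6766) (l := 1) rfl N6766 D20930
theorem N10707 : nd 10707 = n20931 := ndS (p := 6766) (l := 3) rfl N6766 D20931
theorem N10708 : nd 10708 = n20932 := ndS (p := 6766) (l := 5) rfl N6766 D20932
theorem N10709 : nd 10709 = n20933 := ndS (p := 6766) (l := 6) rfl N6766 D20933
theorem N10710 : nd 10710 = n20934 := ndS (p := 6767) (l := 4) rfl N6767 D20934
theorem N10711 : nd 10711 = n20935 := ndS (p := 6767) (l := 6) rfl N6767 D20935
theorem N10712 : nd 10712 = n20936 := ndS (p := 6768) (l := 6) rfl N6768 D20936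
theorem N10713 : nd 10713 = n20937 := ndS (p := 6769) (l := 5) rfl N6769 D20937
theorem N10714 : nd 10714 = n20938 := ndS (p := 6771) (l := 0) rfl N6771 D20938
theorem N10715 : nd 10715 = n20939 := ndS (p := 6771) (l := 4) rfl N6771 D20939
theorem N10716 : nd 10716 = n20940 := ndS (p := 6771) (l := 5) rfl N6771 D20940
theorem N10717 : nd 10717 = n20941 := ndS (p := 6772) (l := 3) rfl N6772 D20941
theorem N10718 : nd 10718 = n20942 := ndS (p := 6773) (l := 1) rfl N6773 D20942
theorem N10719 : nd 10719 = n20943 := ndS (p := 6774) (l := 0) rfl N6774 D20943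
theorem N10720 : nd 10720 = n20944 := ndS (p := 6774) (l := 2) rfl N6774 D20944
theorem N10721 : nd 10721 = n20945 := ndS (p := 6774) (l := 6) rfl N6774 D20945
theorem N10722 : nd 10722 = n20946 := ndS (p := 6775) (l := 6) rfl N6775 D20946
theorem N10723 : nd 10723 = n20947 := ndS (p := 6776) (l := 5) rfl N6776 D20947
theorem N10724 : nd 10724 = n20948 := ndS (p := 6778) (l := 3) rfl N6778 D20948
theorem N10725 : nd 10725 = n20949 := ndS (p := 6778) (l := 5) rfl N6778 D20949
theorem N10726 : nd 10726 = n20950 := ndS (p := 6779) (l := 1) rfl N6779 D20950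
theorem N10727 : nd 10727 = n20951 := ndS (p := 6780) (l := 0) rfl N6780 D20951
theorem N10728 : nd 10728 = n20952 := ndS (p := 6781) (l := 0) rfl N6781 D20952
theorem N10729 : nd 10729 = n20953 := ndS (p := 6781) (l := 2) rfl N6781 D20953
theorem N10730 : nd 10730 = n20954 := ndS (p := 6781) (l := 6) rfl N6781 D20954
theorem N10731 : nd 10731 = n20955 := ndS (p := 6783) (l := 2) rfl N6783 D20955
theorem N10732 : nd 10732 = n20956 := ndS (p := 6783) (l := 5) rfl N6783 D20956
theorem N10733 : nd 10733 = n20957 := ndS (p := 6784) (l := 1) rfl N6784 D20957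
theorem N10734 : nd 10734 = n20958 := ndS (p := 6785) (l := 1) rfl N6785 D20958
theorem N10735 : nd 10735 = n20959 := ndS (p := 6786) (l := 0) rfl N6786 D20959
theorem N10736 : nd 10736 = n20960 := ndS (p := 6786) (l := 6) rfl N6786 D20960
theorem N10737 : nd 10737 = n20961 := ndS (p := 6788) (l := 1) rfl N6788 D20961
theorem N10738 : nd 10738 = n20962 := ndS (p := 6790) (l := 1) rfl N6790 D20962
theorem N10739 : nd 10739 = n20963 := ndS (p := 6793) (l := 0) rfl N6793 D20963
theorem N10740 : nd 10740 = n20964 := ndS (p := 6794) (l := 1) rfl N6794 D20964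
theorem N10741 : nd 10741 = n20965 := ndS (p := 6797) (l := 0) rfl N6797 D20965
theorem N10742 : nd 10742 = n20966 := ndS (p := 6797) (l := 2) rfl N6797 D20966
theorem N10743 : nd 10743 = n20967 := ndS (p := 6797) (l := 5) rfl N6797 D20967
theorem N10744 : nd 10744 = n20968 := ndS (p := 6798) (l := 1) rfl N6798 D20968
theorem N10745 : nd 10745 = n20969 := ndS (p := 6799) (l := 4) rfl N6799 D20969
theorem N10746 : nd 10746 = n20970 := ndS (p := 6801) (l := 0) rfl N6801 D20970
theorem N10747 : nd 10747 = n20971 := ndS (p := 6801) (l := 5) rfl N6801 D20971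
theorem N10748 : nd 10748 = n20972 := ndS (p := 6802) (l := 1) rfl N6802 D20972
theorem N10749 : nd 10749 = n20973 := ndS (p := 6802) (l := 2) rfl N6802 D20973
theorem N10750 : nd 10750 = n20974 := ndS (p := 6803) (l := 3) rfl N6803 D20974
theorem N10751 : nd 10751 = n20975 := ndS (p := 6804) (l := 1) rfl N6804 D20975
theorem N10752 : nd 10752 = n20976 := ndS (p := 6805) (l := 5) rfl N6805 D20976
theorem N10753 : nd 10753 = n20977 := ndS (p := 6806) (l := 0) rfl N6806 D20977
theorem N10754 : nd 10754 = n20978 := ndS (p := 6806) (l := 2) rfl N6806 D20978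
theorem N10755 : nd 10755 = n20979 := ndS (p := 6806) (l := 6) rfl N6806 D20979
theorem N10756 : nd 10756 = n20980 := ndS (p := 6807) (l := 1) rfl N6807 D20980
theorem N10757 : nd 10757 = n20981 := ndS (p := 6807) (l := 2) rfl N6807 D20981
theorem N10758 : nd 10758 = n20982 := ndS (p := 6807) (l := 6) rfl N6807 D20982
theorem N10759 : nd 10759 = n20983 := ndS (p := 6808) (l := 6) rfl N6808 D20983
theorem N10760 : nd 10760 = n20984 := ndS (p := 6811) (l := 6) rfl N6811 D20984
theorem N10761 : nd 10761 = n20985 := ndS (p := 6812) (l := 1) rfl N6812 D20985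
theorem N10762 : nd 10762 = n20986 := ndS (p := 6813) (l := 4) rfl N6813 D20986
theorem N10763 : nd 10763 = n20987 := ndS (p := 6815) (l := 0) rfl N6815 D20987
theorem N10764 : nd 10764 = n20988 := ndS (p := 6816) (l := 5) rfl N6816 D20988
theorem N10765 : nd 10765 = n20989 := ndS (p := 6817) (l := 6) rfl N6817 D20989
theorem N10766 : nd 10766 = n20990 := ndS (p := 6818) (l := 5) rfl N6818 D20990
theorem N10767 : nd 10767 = n20991 := ndS (p := 6819) (l := 5) rfl N6819 D20991
theorem N10768 : nd 10768 = n20992 := ndS (p := 6821) (l := 1) rfl N6821 D20992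
theorem N10769 : nd 10769 = n20993 := ndS (p := 6821) (l := 5) rfl N6821 D20993
theorem N10770 : nd 10770 = n20994 := ndS (p := 6822) (l := 3) rfl N6822 D20994
theorem N10771 : nd 10771 = n20995 := ndS (p := 6823) (l := 4) rfl N6823 D20995
theorem N10772 : nd 10772 = n20996 := ndS (p := 6824) (l := 1) rfl N6824 D20996
theorem N10773 : nd 10773 = n20997 := ndS (p := 6825) (l := 0) rfl N6825 D20997
theorem N10774 : nd 10774 = n20998 := ndS (p := 6825) (l := 2) rfl N6825 D20998
theorem N10775 : nd 10775 = n20999 := ndS (p := 6825) (l := 5) rfl N6825 D20999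
theorem N10776 : nd 10776 = n21000 := ndS (p := 6827) (l := 5) rfl N6827 D21000
theorem N10777 : nd 10777 = n21001 := ndS (p := 6828) (l := 1) rfl N6828 D21001
theorem N10778 : nd 10778 = n21002 := ndS (p := 6829) (l := 5) rfl N6829 D21002
theorem N10779 : nd 10779 = n21003 := ndS (p := 6833) (l := 1) rfl N6833 D21003
theorem N10780 : nd 10780 = n21004 := ndS (p := 6835) (l := 0) rfl N6835 D21004
theorem N10781 : nd 10781 = n21005 := ndS (p := 6835) (l := 3) rfl N6835 D21005
theorem N10782 : nd 10782 = n21006 := ndS (p := 6835) (l := 5) rfl N6835 D21006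
theorem N10783 : nd 10783 = n21007 := ndS (p := 6835) (l := 6) rfl N6835 D21007
theorem N10784 : nd 10784 = n21008 := ndS (p := 6836) (l := 4) rfl N6836 D21008
theorem N10785 : nd 10785 = n21009 := ndS (p := 6838) (l := 0) rfl N6838 D21009
theorem N10786 : nd 10786 = n21010 := ndS (p := 6838) (l := 5) rfl N6838 D21010
theorem N10787 : nd 10787 = n21011 := ndS (p := 6839) (l := 4) rfl N6839 D21011
theorem N10788 : nd 10788 = n21012 := ndS (p := 6840) (l := 1) rfl N6840 D21012
theorem N10789 : nd 10789 = n21013 := ndS (p := 6840) (l := 3) rfl N6840 D21013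
theorem N10790 : nd 10790 = n21014 := ndS (p := 6840) (l := 5) rfl N6840 D21014
theorem N10791 : nd 10791 = n21015 := ndS (p := 6840) (l := 6) rfl N6840 D21015
theorem N10792 : nd 10792 = n21016 := ndS (p := 6841) (l := 4) rfl N6841 D21016
theorem N10793 : nd 10793 = n21017 := ndS (p := 6841) (l := 5) rfl N6841 D21017
theorem N10794 : nd 10794 = n21018 := ndS (p := 6842) (l := 6) rfl N6842 D21018
theorem N10795 : nd 10795 = n21019 := ndS (p := 6845) (l := 0) rfl N6845 D21019
theorem N10796 : nd 10796 = n21020 := ndS (p := 6845) (l := 4) rfl N6845 D21020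
theorem N10797 : nd 10797 = n21021 := ndS (p := 6845) (l := 6) rfl N6845 D21021
theorem N10798 : nd 10798 = n21022 := ndS (p := 6846) (l := 3) rfl N6846 D21022
theorem N10799 : nd 10799 = n21023 := ndS (p := 6847) (l := 1) rfl N6847 D21023
theorem N10800 : nd 10800 = n21024 := ndS (p := 6848) (l := 0) rfl N6848 D21024
theorem N10801 : nd 10801 = n21025 := ndS (p := 6848) (l := 2) rfl N6848 D21025
theorem N10802 : nd 10802 = n21026 := ndS (p := 6848) (l := 5) rfl N6848 D21026
theorem N10803 : nd 10803 = n21027 := ndS (p := 6849) (l := 5) rfl N6849 D21027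
theorem N10804 : nd 10804 = n21028 := ndS (p := 6850) (l := 6) rfl N6850 D21028
theorem N10805 : nd 10805 = n21029 := ndS (p := 6851) (l := 6) rfl N6851 D21029
theorem N10806 : nd 10806 = n21030 := ndS (p := 6852) (l := 6) rfl N6852 D21030
theorem N10807 : nd 10807 = n21031 := ndS (p := 6853) (l := 5) rfl N6853 D21031
theorem N10808 : nd 10808 = n21032 := ndS (p := 6855) (l := 6) rfl N6855 D21032
theorem N10809 : nd 10809 = n21033 := ndS (p := 6856) (l := 1) rfl N6856 D21033
theorem N10810 : nd 10810 = n21034 := ndS (p := 6857) (l := 6) rfl N6857 D21034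
theorem N10811 : nd 10811 = n21035 := ndS (p := 6858) (l := 6) rfl N6858 D21035
theorem N10812 : nd 10812 = n21036 := ndS (p := 6859) (l := 6) rfl N6859 D21036
theorem N10813 : nd 10813 = n21037 := ndS (p := 6860) (l := 5) rfl N6860 D21037
theorem N10814 : nd 10814 = n21038 := ndS (p := 6861) (l := 1) rfl N6861 D21038
theorem N10815 : nd 10815 = n21039 := ndS (p := 6864) (l := 0) rfl N6864 D21039
theorem N10816 : nd 10816 = n21040 := ndS (p := 6864) (l := 6) rfl N6864 D21040
theorem N10817 : nd 10817 = n21041 := ndS (p := 6865) (l := 1) rfl N6865 D21041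
theorem N10818 : nd 10818 = n21042 := ndS (p := 6866) (l := 1) rfl N6866 D21042
theorem N10819 : nd 10819 = n21043 := ndS (p := 6868) (l := 1) rfl N6868 D21043
theorem N10820 : nd 10820 = n21044 := ndS (p := 6869) (l := 0) rfl N6869 D21044
theorem N10821 : nd 10821 = n21045 := ndS (p := 6869) (l := 2) rfl N6869 D21045
theorem N10822 : nd 10822 = n21046 := ndS (p := 6869) (l := 5) rfl N6869 D21046
theorem N10823 : nd 10823 = n21047 := ndS (p := 6870) (l := 0) rfl N6870 D21047
theorem N10824 : nd 10824 = n21048 := ndS (p := 6870) (l := 2) rfl N6870 D21048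
theorem N10825 : nd 10825 = n21049 := ndS (p := 6870) (l := 5) rfl N6870 D21049
theorem N10826 : nd 10826 = n21050 := ndS (p := 6872) (l := 5) rfl N6872 D21050
theorem N10827 : nd 10827 = n21051 := ndS (p := 6873) (l := 5) rfl N6873 D21051
theorem N10828 : nd 10828 = n21052 := ndS (p := 6874) (l := 6) rfl N6874 D21052
theorem N10829 : nd 10829 = n21053 := ndS (p := 6876) (l := 5) rfl N6876 D21053
theorem N10830 : nd 10830 = n21054 := ndS (p := 6877) (l := 1) rfl N6877 D21054
theorem N10831 : nd 10831 = n21055 := ndS (p := 6878) (l := 5) rfl N6878 D21055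
theorem N10832 : nd 10832 = n21056 := ndS (p := 6879) (l := 5) rfl N6879 D21056
theorem N10833 : nd 10833 = n21057 := ndS (p := 6880) (l := 6) rfl N6880 D21057
theorem N10834 : nd 10834 = n21058 := ndS (p := 6881) (l := 5) rfl N6881 D21058
theorem N10835 : nd 10835 = n21059 := ndS (p := 6883) (l := 1) rfl N6883 D21059
theorem N10836 : nd 10836 = n21060 := ndS (p := 6885) (l := 0) rfl N6885 D21060
theorem N10837 : nd 10837 = n21061 := ndS (p := 6885) (l := 5) rfl N6885 D21061
theorem N10838 : nd 10838 = n21062 := ndS (p := 6886) (l := 1) rfl N6886 D21062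
theorem N10839 : nd 10839 = n21063 := ndS (p := 6887) (l := 1) rfl N6887 D21063
theorem N10840 : nd 10840 = n21064 := ndS (p := 6889) (l := 1) rfl N6889 D21064
theorem N10841 : nd 10841 = n21065 := ndS (p := 6890) (l := 0) rfl N6890 D21065
theorem N10842 : nd 10842 = n21066 := ndS (p := 6890) (l := 2) rfl N6890 D21066
theorem N10843 : nd 10843 = n21067 := ndS (p := 6890) (l := 6) rfl N6890 D21067
theorem N10844 : nd 10844 = n21068 := ndS (p := 6892) (l := 0) rfl N6892 D21068
theorem N10845 : nd 10845 = n21069 := ndS (p := 6892) (l := 2) rfl N6892 D21069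
theorem N10846 : nd 10846 = n21070 := ndS (p := 6892) (l := 6) rfl N6892 D21070
theorem N10847 : nd 10847 = n21071 := ndS (p := 6893) (l := 2) rfl N6893 D21071
theorem N10848 : nd 10848 = n21072 := ndS (p := 6894) (l := 3) rfl N6894 D21072
theorem N10849 : nd 10849 = n21073 := ndS (p := 6894) (l := 6) rfl N6894 D21073
theorem N10850 : nd 10850 = n21074 := ndS (p := 6896) (l := 2) rfl N6896 D21074
theorem N10851 : nd 10851 = n21075 := ndS (p := 6897) (l := 3) rfl N6897 D21075
theorem N10852 : nd 10852 = n21076 := ndS (p := 6897) (l := 5) rfl N6897 D21076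
theorem N10853 : nd 10853 = n21077 := ndS (p := 6899) (l := 2) rfl N6899 D21077
theorem N10854 : nd 10854 = n21078 := ndS (p := 6899) (l := 6) rfl N6899 D21078
theorem N10855 : nd 10855 = n21079 := ndS (p := 6901) (l := 2) rfl N6901 D21079
theorem N10856 : nd 10856 = n21080 := ndS (p := 6901) (l := 5) rfl N6901 D21080
theorem N10857 : nd 10857 = n21081 := ndS (p := 6903) (l := 3) rfl N6903 D21081
theorem N10858 : nd 10858 = n21082 := ndS (p := 6903) (l := 6) rfl N6903 D21082
theorem N10859 : nd 10859 = n21083 := ndS (p := 6904) (l := 1) rfl N6904 D21083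
theorem N10860 : nd 10860 = n21084 := ndS (p := 6905) (l := 0) rfl N6905 D21084
theorem N10861 : nd 10861 = n21085 := ndS (p := 6905) (l := 2) rfl N6905 D21085
theorem N10862 : nd 10862 = n21086 := ndS (p := 6906) (l := 3) rfl N6906 D21086
theorem N10863 : nd 10863 = n21087 := ndS (p := 6906) (l := 5) rfl N6906 D21087
theorem N10864 : nd 10864 = n21088 := ndS (p := 6907) (l := 1) rfl N6907 D21088
theorem N10865 : nd 10865 = n21089 := ndS (p := 6908) (l := 0) rfl N6908 D21089
theorem N10866 : nd 10866 = n21090 := ndS (p := 6908) (l := 2) rfl N6908 D21090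
theorem N10867 : nd 10867 = n21091 := ndS (p := 6909) (l := 1) rfl N6909 D21091
theorem N10868 : nd 10868 = n21092 := ndS (p := 6909) (l := 2) rfl N6909 D21092
theorem N10869 : nd 10869 = n21093 := ndS (p := 6910) (l := 3) rfl N6910 D21093
theorem N10870 : nd 10870 = n21094 := ndS (p := 6910) (l := 6) rfl N6910 D21094
theorem N10871 : nd 10871 = n21095 := ndS (p := 6911) (l := 1) rfl N6911 D21095
theorem N10872 : nd 10872 = n21096 := ndS (p := 6912) (l := 0) rfl N6912 D21096
theorem N10873 : nd 10873 = n21097 := ndS (p := 6912) (l := 2) rfl N6912 D21097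
theorem N10874 : nd 10874 = n21098 := ndS (p := 6912) (l := 5) rfl N6912 D21098
theorem N10875 : nd 10875 = n21099 := ndS (p := 6913) (l := 1) rfl N6913 D21099
theorem N10876 : nd 10876 = n21100 := ndS (p := 6913) (l := 2) rfl N6913 D21100
theorem N10877 : nd 10877 = n21101 := ndS (p := 6914) (l := 3) rfl N6914 D21101
theorem N10878 : nd 10878 = n21102 := ndS (p := 6914) (l := 5) rfl N6914 D21102
theorem N10879 : nd 10879 = n21103 := ndS (p := 6915) (l := 1) rfl N6915 D21103
theorem N10880 : nd 10880 = n21104 := ndS (p := 6916) (l := 0) rfl N6916 D21104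
theorem N10881 : nd 10881 = n21105 := ndS (p := 6916) (l := 2) rfl N6916 D21105
theorem N10882 : nd 10882 = n21106 := ndS (p := 6916) (l := 6) rfl N6916 D21106
theorem N10883 : nd 10883 = n21107 := ndS (p := 6918) (l := 3) rfl N6918 D21107
theorem N10884 : nd 10884 = n21108 := ndS (p := 6919) (l := 6) rfl N6919 D21108
theorem N10885 : nd 10885 = n21109 := ndS (p := 6921) (l := 2) rfl N6921 D21109
theorem N10886 : nd 10886 = n21110 := ndS (p := 6922) (l := 2) rfl N6922 D21110
theorem N10887 : nd 10887 = n21111 := ndS (p := 6923) (l := 3) rfl N6923 D21111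
theorem N10888 : nd 10888 = n21112 := ndS (p := 6923) (l := 5) rfl N6923 D21112
theorem N10889 : nd 10889 = n21113 := ndS (p := 6924) (l := 6) rfl N6924 D21113
theorem N10890 : nd 10890 = n21114 := ndS (p := 6926) (l := 3) rfl N6926 D21114
theorem N10891 : nd 10891 = n21115 := ndS (p := 6927) (l := 5) rfl N6927 D21115
theorem N10892 : nd 10892 = n21116 := ndS (p := 6929) (l := 2) rfl N6929 D21116
theorem N10893 : nd 10893 = n21117 := ndS (p := 6930) (l := 2) rfl N6930 D21117
theorem N10894 : nd 10894 = n21118 := ndS (p := 6931) (l := 3) rfl N6931 D21118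
theorem N10895 : nd 10895 = n21119 := ndS (p := 6931) (l := 6) rfl N6931 D21119
theorem N10896 : nd 10896 = n21120 := ndS (p := 6932) (l := 5) rfl N6932 D21120
theorem N10897 : nd 10897 = n21121 := ndS (p := 6933) (l := 3) rfl N6933 D21121
theorem N10898 : nd 10898 = n21122 := ndS (p := 6934) (l := 5) rfl N6934 D21122
theorem N10899 : nd 10899 = n21123 := ndS (p := 6934) (l := 6) rfl N6934 D21123
theorem N10900 : nd 10900 = n21124 := ndS (p := 6937) (l := 1) rfl N6937 D21124
theorem N10901 : nd 10901 = n21125 := ndS (p := 6937) (l := 6) rfl N6937 D21125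
theorem N10902 : nd 10902 = n21126 := ndS (p := 6938) (l := 1) rfl N6938 D21126
theorem N10903 : nd 10903 = n21127 := ndS (p := 6938) (l := 5) rfl N6938 D21127
theorem N10904 : nd 10904 = n21128 := ndS (p := 6939) (l := 2) rfl N6939 D21128
theorem N10905 : nd 10905 = n21129 := ndS (p := 6940) (l := 1) rfl N6940 D21129
theorem N10906 : nd 10906 = n21130 := ndS (p := 6941) (l := 2) rfl N6941 D21130
theorem N10907 : nd 10907 = n21131 := ndS (p := 6942) (l := 1) rfl N6942 D21131
theorem N10908 : nd 10908 = n21132 := ndS (p := 6943) (l := 0) rfl N6943 D21132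
theorem N10909 : nd 10909 = n21133 := ndS (p := 6943) (l := 2) rfl N6943 D21133
theorem N10910 : nd 10910 = n21134 := ndS (p := 6943) (l := 6) rfl N6943 D21134
theorem N10911 : nd 10911 = n21135 := ndS (p := 6944) (l := 0) rfl N6944 D21135
theorem N10912 : nd 10912 = n21136 := ndS (p := 6944) (l := 2) rfl N6944 D21136
theorem N10913 : nd 10913 = n21137 := ndS (p := 6944) (l := 5) rfl N6944 D21137
theorem N10914 : nd 10914 = n21138 := ndS (p := 6945) (l := 2) rfl N6945 D21138
theorem N10915 : nd 10915 = n21139 := ndS (p := 6945) (l := 6) rfl N6945 D21139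
theorem N10916 : nd 10916 = n21140 := ndS (p := 6946) (l := 3) rfl N6946 D21140
theorem N10917 : nd 10917 = n21141 := ndS (p := 6946) (l := 6) rfl N6946 D21141
theorem N10918 : nd 10918 = n21142 := ndS (p := 6948) (l := 2) rfl N6948 D21142
theorem N10919 : nd 10919 = n21143 := ndS (p := 6948) (l := 5) rfl N6948 D21143
theorem N10920 : nd 10920 = n21144 := ndS (p := 6949) (l := 3) rfl N6949 D21144
theorem N10921 : nd 10921 = n21145 := ndS (p := 6949) (l := 5) rfl N6949 D21145
theorem N10922 : nd 10922 = n21146 := ndS (p := 6951) (l := 5) rfl N6951 D21146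
theorem N10923 : nd 10923 = n21147 := ndS (p := 6951) (l := 6) rfl N6951 D21147
theorem N10924 : nd 10924 = n21148 := ndS (p := 6952) (l := 3) rfl N6952 D21148
theorem N10925 : nd 10925 = n21149 := ndS (p := 6952) (l := 6) rfl N6952 D21149
theorem N10926 : nd 10926 = n21150 := ndS (p := 6953) (l := 1) rfl N6953 D21150
theorem N10927 : nd 10927 = n21151 := ndS (p := 6954) (l := 2) rfl N6954 D21151
theorem N10928 : nd 10928 = n21152 := ndS (p := 6954) (l := 4) rfl N6954 D21152
theorem N10929 : nd 10929 = n21153 := ndS (p := 6954) (l := 6) rfl N6954 D21153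
theorem N10930 : nd 10930 = n21154 := ndS (p := 6955) (l := 1) rfl N6955 D21154
theorem N10931 : nd 10931 = n21155 := ndS (p := 6955) (l := 5) rfl N6955 D21155
theorem N10932 : nd 10932 = n21156 := ndS (p := 6957) (l := 5) rfl N6957 D21156
theorem N10933 : nd 10933 = n21157 := ndS (p := 6957) (l := 6) rfl N6957 D21157
theorem N10934 : nd 10934 = n21158 := ndS (p := 6958) (l := 3) rfl N6958 D21158
theorem N10935 : nd 10935 = n21159 := ndS (p := 6958) (l := 5) rfl N6958 D21159
theorem N10936 : nd 10936 = n21160 := ndS (p := 6959) (l := 1) rfl N6959 D21160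
theorem N10937 : nd 10937 = n21161 := ndS (p := 6960) (l := 2) rfl N6960 D21161
theorem N10938 : nd 10938 = n21162 := ndS (p := 6960) (l := 4) rfl N6960 D21162
theorem N10939 : nd 10939 = n21163 := ndS (p := 6960) (l := 5) rfl N6960 D21163
theorem N10940 : nd 10940 = n21164 := ndS (p := 6961) (l := 1) rfl N6961 D21164
theorem N10941 : nd 10941 = n21165 := ndS (p := 6961) (l := 6) rfl N6961 D21165
theorem N10942 : nd 10942 = n21166 := ndS (p := 6965) (l := 6) rfl N6965 D21166
theorem N10943 : nd 10943 = n21167 := ndS (p := 6966) (l := 2) rfl N6966 D21167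
theorem N10944 : nd 10944 = n21168 := ndS (p := 6966) (l := 6) rfl N6966 D21168
theorem N10945 : nd 10945 = n21169 := ndS (p := 6967) (l := 1) rfl N6967 D21169
theorem N10946 : nd 10946 = n21170 := ndS (p := 6968) (l := 2) rfl N6968 D21170
theorem N10947 : nd 10947 = n21171 := ndS (p := 6969) (l := 3) rfl N6969 D21171
theorem N10948 : nd 10948 = n21172 := ndS (p := 6969) (l := 6) rfl N6969 D21172
theorem N10949 : nd 10949 = n21173 := ndS (p := 6970) (l := 6) rfl N6970 D21173
theorem N10950 : nd 10950 = n21174 := ndS (p := 6971) (l := 1) rfl N6971 D21174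
theorem N10951 : nd 10951 = n21175 := ndS (p := 6971) (l := 5) rfl N6971 D21175
theorem N10952 : nd 10952 = n21176 := ndS (p := 6972) (l := 5) rfl N6972 D21176
theorem N10953 : nd 10953 = n21177 := ndS (p := 6973) (l := 1) rfl N6973 D21177
theorem N10954 : nd 10954 = n21178 := ndS (p := 6976) (l := 5) rfl N6976 D21178
theorem N10955 : nd 10955 = n21179 := ndS (p := 6977) (l := 2) rfl N6977 D21179
theorem N10956 : nd 10956 = n21180 := ndS (p := 6977) (l := 5) rfl N6977 D21180
theorem N10957 : nd 10957 = n21181 := ndS (p := 6978) (l := 1) rfl N6978 D21181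
theorem N10958 : nd 10958 = n21182 := ndS (p := 6979) (l := 2) rfl N6979 D21182
theorem N10959 : nd 10959 = n21183 := ndS (p := 6980) (l := 3) rfl N6980 D21183
theorem N10960 : nd 10960 = n21184 := ndS (p := 6980) (l := 5) rfl N6980 D21184
theorem N10961 : nd 10961 = n21185 := ndS (p := 6981) (l := 5) rfl N6981 D21185
theorem N10962 : nd 10962 = n21186 := ndS (p := 6982) (l := 1) rfl N6982 D21186
theorem N10963 : nd 10963 = n21187 := ndS (p := 6982) (l := 6) rfl N6982 D21187
theorem N10964 : nd 10964 = n21188 := ndS (p := 6983) (l := 6) rfl N6983 D21188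
theorem N10965 : nd 10965 = n21189 := ndS (p := 6984) (l := 1) rfl N6984 D21189
theorem N10966 : nd 10966 = n21190 := ndS (p := 6986) (l := 0) rfl N6986 D21190
theorem N10967 : nd 10967 = n21191 := ndS (p := 6988) (l := 0) rfl N6988 D21191
theorem N10968 : nd 10968 = n21192 := ndS (p := 6989) (l := 2) rfl N6989 D21192
theorem N10969 : nd 10969 = n21193 := ndS (p := 6991) (l := 2) rfl N6991 D21193
theorem N10970 : nd 10970 = n21194 := ndS (p := 6992) (l := 1) rfl N6992 D21194
theorem N10971 : nd 10971 = n21195 := ndS (p := 6992) (l := 2) rfl N6992 D21195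
theorem N10972 : nd 10972 = n21196 := ndS (p := 6993) (l := 3) rfl N6993 D21196
theorem N10973 : nd 10973 = n21197 := ndS (p := 6994) (l := 2) rfl N6994 D21197
theorem N10974 : nd 10974 = n21198 := ndS (p := 6996) (l := 2) rfl N6996 D21198
theorem N10975 : nd 10975 = n21199 := ndS (p := 6997) (l := 1) rfl N6997 D21199
theorem N10976 : nd 10976 = n21200 := ndS (p := 6997) (l := 2) rfl N6997 D21200
theorem N10977 : nd 10977 = n21201 := ndS (p := 6998) (l := 3) rfl N6998 D21201
theorem N10978 : nd 10978 = n21202 := ndS (p := 6999) (l := 5) rfl N6999 D21202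
theorem N10979 : nd 10979 = n21203 := ndS (p := 6999) (l := 6) rfl N6999 D21203
theorem N10980 : nd 10980 = n21204 := ndS (p := 7000) (l := 6) rfl N7000 D21204
theorem N10981 : nd 10981 = n21205 := ndS (p := 7001) (l := 5) rfl N7001 D21205
theorem N10982 : nd 10982 = n21206 := ndS (p := 7002) (l := 6) rfl N7002 D21206
theorem N10983 : nd 10983 = n21207 := ndS (p := 7003) (l := 6) rfl N7003 D21207
theorem N10984 : nd 10984 = n21208 := ndS (p := 7005) (l := 0) rfl N7005 D21208
theorem N10985 : nd 10985 = n21209 := ndS (p := 7005) (l := 2) rfl N7005 D21209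
theorem N10986 : nd 10986 = n21210 := ndS (p := 7005) (l := 5) rfl N7005 D21210
theorem N10987 : nd 10987 = n21211 := ndS (p := 7006) (l := 1) rfl N7006 D21211
theorem N10988 : nd 10988 = n21212 := ndS (p := 7006) (l := 2) rfl N7006 D21212
theorem N10989 : nd 10989 = n21213 := ndS (p := 7007) (l := 3) rfl N7007 D21213
theorem N10990 : nd 10990 = n21214 := ndS (p := 7007) (l := 5) rfl N7007 D21214
theorem N10991 : nd 10991 = n21215 := ndS (p := 7009) (l := 2) rfl N7009 D21215
theorem N10992 : nd 10992 = n21216 := ndS (p := 7009) (l := 6) rfl N7009 D21216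
theorem N10993 : nd 10993 = n21217 := ndS (p := 7010) (l := 1) rfl N7010 D21217
theorem N10994 : nd 10994 = n21218 := ndS (p := 7010) (l := 3) rfl N7010 D21218
theorem N10995 : nd 10995 = n21219 := ndS (p := 7010) (l := 5) rfl N7010 D21219
theorem N10996 : nd 10996 = n21220 := ndS (p := 7012) (l := 2) rfl N7012 D21220
theorem N10997 : nd 10997 = n21221 := ndS (p := 7012) (l := 4) rfl N7012 D21221
theorem N10998 : nd 10998 = n21222 := ndS (p := 7012) (l := 5) rfl N7012 D21222
theorem N10999 : nd 10999 = n21223 := ndS (p := 7013) (l := 1) rfl N7013 D21223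
theorem N11000 : nd 11000 = n21224 := ndS (p := 7013) (l := 6) rfl N7013 D21224
theorem N11001 : nd 11001 = n21225 := ndS (p := 7014) (l := 1) rfl N7014 D21225
theorem N11002 : nd 11002 = n21226 := ndS (p := 7015) (l := 5) rfl N7015 D21226
theorem N11003 : nd 11003 = n21227 := ndS (p := 7015) (l := 6) rfl N7015 D21227
theorem N11004 : nd 11004 = n21228 := ndS (p := 7016) (l := 6) rfl N7016 D21228
theorem N11005 : nd 11005 = n21229 := ndS (p := 7017) (l := 5) rfl N7017 D21229
theorem N11006 : nd 11006 = n21230 := ndS (p := 7018) (l := 5) rfl N7018 D21230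
theorem N11007 : nd 11007 = n21231 := ndS (p := 7019) (l := 5) rfl N7019 D21231
theorem N11008 : nd 11008 = n21232 := ndS (p := 7021) (l := 0) rfl N7021 D21232
theorem N11009 : nd 11009 = n21233 := ndS (p := 7021) (l := 2) rfl N7021 D21233
theorem N11010 : nd 11010 = n21234 := ndS (p := 7021) (l := 6) rfl N7021 D21234
theorem N11011 : nd 11011 = n21235 := ndS (p := 7022) (l := 1) rfl N7022 D21235
theorem N11012 : nd 11012 = n21236 := ndS (p := 7022) (l := 2) rfl N7022 D21236
theorem N11013 : nd 11013 = n21237 := ndS (p := 7023) (l := 3) rfl N7023 D21237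
theorem N11014 : nd 11014 = n21238 := ndS (p := 7023) (l := 6) rfl N7023 D21238
theorem N11015 : nd 11015 = n21239 := ndS (p := 7025) (l := 2) rfl N7025 D21239
theorem N11016 : nd 11016 = n21240 := ndS (p := 7025) (l := 5) rfl N7025 D21240
theorem N11017 : nd 11017 = n21241 := ndS (p := 7026) (l := 1) rfl N7026 D21241
theorem N11018 : nd 11018 = n21242 := ndS (p := 7026) (l := 3) rfl N7026 D21242
theorem N11019 : nd 11019 = n21243 := ndS (p := 7026) (l := 6) rfl N7026 D21243
theorem N11020 : nd 11020 = n21244 := ndS (p := 7028) (l := 2) rfl N7028 D21244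
theorem N11021 : nd 11021 = n21245 := ndS (p := 7028) (l := 4) rfl N7028 D21245
theorem N11022 : nd 11022 = n21246 := ndS (p := 7028) (l := 6) rfl N7028 D21246
theorem N11023 : nd 11023 = n21247 := ndS (p := 7029) (l := 1) rfl N7029 D21247
theorem N11024 : nd 11024 = n21248 := ndS (p := 7029) (l := 5) rfl N7029 D21248
theorem N11025 : nd 11025 = n21249 := ndS (p := 7030) (l := 1) rfl N7030 D21249
theorem N11026 : nd 11026 = n21250 := ndS (p := 7033) (l := 5) rfl N7033 D21250
theorem N11027 : nd 11027 = n21251 := ndS (p := 7033) (l := 6) rfl N7033 D21251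
theorem N11028 : nd 11028 = n21252 := ndS (p := 7034) (l := 5) rfl N7034 D21252
theorem N11029 : nd 11029 = n21253 := ndS (p := 7034) (l := 6) rfl N7034 D21253
theorem N11030 : nd 11030 = n21254 := ndS (p := 7035) (l := 6) rfl N7035 D21254
theorem N11031 : nd 11031 = n21255 := ndS (p := 7036) (l := 5) rfl N7036 D21255
theorem N11032 : nd 11032 = n21256 := ndS (p := 7039) (l := 6) rfl N7039 D21256
theorem N11033 : nd 11033 = n21257 := ndS (p := 7040) (l := 1) rfl N7040 D21257
theorem N11034 : nd 11034 = n21258 := ndS (p := 7041) (l := 1) rfl N7041 D21258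
theorem N11035 : nd 11035 = n21259 := ndS (p := 7042) (l := 2) rfl N7042 D21259
theorem N11036 : nd 11036 = n21260 := ndS (p := 7042) (l := 5) rfl N7042 D21260
theorem N11037 : nd 11037 = n21261 := ndS (p := 7043) (l := 3) rfl N7043 D21261
theorem N11038 : nd 11038 = n21262 := ndS (p := 7043) (l := 5) rfl N7043 D21262
theorem N11039 : nd 11039 = n21263 := ndS (p := 7045) (l := 2) rfl N7045 D21263
theorem N11040 : nd 11040 = n21264 := ndS (p := 7045) (l := 6) rfl N7045 D21264
theorem N11041 : nd 11041 = n21265 := ndS (p := 7046) (l := 1) rfl N7046 D21265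
theorem N11042 : nd 11042 = n21266 := ndS (p := 7046) (l := 3) rfl N7046 D21266
theorem N11043 : nd 11043 = n21267 := ndS (p := 7047) (l := 2) rfl N7047 D21267
theorem N11044 : nd 11044 = n21268 := ndS (p := 7047) (l := 4) rfl N7047 D21268
theorem N11045 : nd 11045 = n21269 := ndS (p := 7047) (l := 5) rfl N7047 D21269
theorem N11046 : nd 11046 = n21270 := ndS (p := 7048) (l := 1) rfl N7048 D21270
theorem N11047 : nd 11047 = n21271 := ndS (p := 7050) (l := 0) rfl N7050 D21271
theorem N11048 : nd 11048 = n21272 := ndS (p := 7050) (l := 3) rfl N7050 D21272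
theorem N11049 : nd 11049 = n21273 := ndS (p := 7050) (l := 5) rfl N7050 D21273
theorem N11050 : nd 11050 = n21274 := ndS (p := 7050) (l := 6) rfl N7050 D21274
theorem N11051 : nd 11051 = n21275 := ndS (p := 7051) (l := 2) rfl N7051 D21275
theorem N11052 : nd 11052 = n21276 := ndS (p := 7051) (l := 4) rfl N7051 D21276
theorem N11053 : nd 11053 = n21277 := ndS (p := 7051) (l := 5) rfl N7051 D21277
theorem N11054 : nd 11054 = n21278 := ndS (p := 7052) (l := 1) rfl N7052 D21278
theorem N11055 : nd 11055 = n21280 := ndS (p := 7053) (l := 3) rfl N7053 D21280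
theorem N11056 : nd 11056 = n21281 := ndS (p := 7053) (l := 4) rfl N7053 D21281
theorem N11057 : nd 11057 = n21282 := ndS (p := 7053) (l := 5) rfl N7053 D21282
theorem N11058 : nd 11058 = n21283 := ndS (p := 7054) (l := 5) rfl N7054 D21283
theorem N11059 : nd 11059 = n21284 := ndS (p := 7055) (l := 1) rfl N7055 D21284
theorem N11060 : nd 11060 = n21285 := ndS (p := 7055) (l := 6) rfl N7055 D21285
theorem N11061 : nd 11061 = n21286 := ndS (p := 7056) (l := 6) rfl N7056 D21286
theorem N11062 : nd 11062 = n21287 := ndS (p := 7057) (l := 1) rfl N7057 D21287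
theorem N11063 : nd 11063 = n21288 := ndS (p := 7058) (l := 2) rfl N7058 D21288
theorem N11064 : nd 11064 = n21289 := ndS (p := 7061) (l := 5) rfl N7061 D21289
theorem N11065 : nd 11065 = n21290 := ndS (p := 7061) (l := 6) rfl N7061 D21290
theorem N11066 : nd 11066 = n21291 := ndS (p := 7062) (l := 5) rfl N7062 D21291
theorem N11067 : nd 11067 = n21292 := ndS (p := 7062) (l := 6) rfl N7062 D21292
theorem N11068 : nd 11068 = n21293 := ndS (p := 7063) (l := 6) rfl N7063 D21293
theorem N11069 : nd 11069 = n21294 := ndS (p := 7064) (l := 5) rfl N7064 D21294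
theorem N11070 : nd 11070 = n21295 := ndS (p := 7067) (l := 5) rfl N7067 D21295
theorem N11071 : nd 11071 = n21296 := ndS (p := 7068) (l := 1) rfl N7068 D21296
theorem N11072 : nd 11072 = n21297 := ndS (p := 7069) (l := 1) rfl N7069 D21297
theorem N11073 : nd 11073 = n21298 := ndS (p := 7070) (l := 2) rfl N7070 D21298
theorem N11074 : nd 11074 = n21299 := ndS (p := 7070) (l := 6) rfl N7070 D21299
theorem N11075 : nd 11075 = n21300 := ndS (p := 7071) (l := 3) rfl N7071 D21300
theorem N11076 : nd 11076 = n21301 := ndS (p := 7071) (l := 6) rfl N7071 D21301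
theorem N11077 : nd 11077 = n21302 := ndS (p := 7073) (l := 2) rfl N7073 D21302
theorem N11078 : nd 11078 = n21303 := ndS (p := 7073) (l := 5) rfl N7073 D21303
theorem N11079 : nd 11079 = n21304 := ndS (p := 7074) (l := 1) rfl N7074 D21304
theorem N11080 : nd 11080 = n21305 := ndS (p := 7074) (l := 3) rfl N7074 D21305
theorem N11081 : nd 11081 = n21306 := ndS (p := 7075) (l := 2) rfl N7075 D21306
theorem N11082 : nd 11082 = n21307 := ndS (p := 7075) (l := 4) rfl N7075 D21307
theorem N11083 : nd 11083 = n21308 := ndS (p := 7075) (l := 6) rfl N7075 D21308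
theorem N11084 : nd 11084 = n21309 := ndS (p := 7076) (l := 1) rfl N7076 D21309
theorem N11085 : nd 11085 = n21310 := ndS (p := 7078) (l := 0) rfl N7078 D21310
theorem N11086 : nd 11086 = n21311 := ndS (p := 7078) (l := 3) rfl N7078 D21311
theorem N11087 : nd 11087 = n21312 := ndS (p := 7078) (l := 5) rfl N7078 D21312
theorem N11088 : nd 11088 = n21313 := ndS (p := 7078) (l := 6) rfl N7078 D21313
theorem N11089 : nd 11089 = n21314 := ndS (p := 7079) (l := 2) rfl N7079 D21314
theorem N11090 : nd 11090 = n21315 := ndS (p := 7079) (l := 4) rfl N7079 D21315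
theorem N11091 : nd 11091 = n21316 := ndS (p := 7079) (l := 6) rfl N7079 D21316
theorem N11092 : nd 11092 = n21317 := ndS (p := 7080) (l := 1) rfl N7080 D21317
theorem N11093 : nd 11093 = n21319 := ndS (p := 7081) (l := 3) rfl N7081 D21319
theorem N11094 : nd 11094 = n21320 := ndS (p := 7081) (l := 4) rfl N7081 D21320
theorem N11095 : nd 11095 = n21321 := ndS (p := 7081) (l := 6) rfl N7081 D21321
theorem N11096 : nd 11096 = n21322 := ndS (p := 7082) (l := 6) rfl N7082 D21322
theorem N11097 : nd 11097 = n21323 := ndS (p := 7083) (l := 1) rfl N7083 D21323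
theorem N11098 : nd 11098 = n21324 := ndS (p := 7083) (l := 5) rfl N7083 D21324
theorem N11099 : nd 11099 = n21325 := ndS (p := 7084) (l := 5) rfl N7084 D21325
theorem N11100 : nd 11100 = n21326 := ndS (p := 7085) (l := 1) rfl N7085 D21326
theorem N11101 : nd 11101 = n21327 := ndS (p := 7086) (l := 2) rfl N7086 D21327
theorem N11102 : nd 11102 = n21328 := ndS (p := 7087) (l := 1) rfl N7087 D21328
theorem N11103 : nd 11103 = n21329 := ndS (p := 7088) (l := 0) rfl N7088 D21329
theorem N11104 : nd 11104 = n21330 := ndS (p := 7088) (l := 2) rfl N7088 D21330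
theorem N11105 : nd 11105 = n21331 := ndS (p := 7088) (l := 5) rfl N7088 D21331
theorem N11106 : nd 11106 = n21332 := ndS (p := 7089) (l := 1) rfl N7089 D21332
theorem N11107 : nd 11107 = n21333 := ndS (p := 7090) (l := 2) rfl N7090 D21333
theorem N11108 : nd 11108 = n21334 := ndS (p := 7091) (l := 6) rfl N7091 D21334
theorem N11109 : nd 11109 = n21335 := ndS (p := 7092) (l := 1) rfl N7092 D21335
theorem N11110 : nd 11110 = n21336 := ndS (p := 7093) (l := 1) rfl N7093 D21336
theorem N11111 : nd 11111 = n21337 := ndS (p := 7094) (l := 0) rfl N7094 D21337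
theorem N11112 : nd 11112 = n21338 := ndS (p := 7094) (l := 2) rfl N7094 D21338
theorem N11113 : nd 11113 = n21339 := ndS (p := 7094) (l := 5) rfl N7094 D21339
theorem N11114 : nd 11114 = n21340 := ndS (p := 7095) (l := 1) rfl N7095 D21340
theorem N11115 : nd 11115 = n21341 := ndS (p := 7095) (l := 2) rfl N7095 D21341
theorem N11116 : nd 11116 = n21342 := ndS (p := 7095) (l := 5) rfl N7095 D21342
theorem N11117 : nd 11117 = n21343 := ndS (p := 7096) (l := 3) rfl N7096 D21343
theorem N11118 : nd 11118 = n21344 := ndS (p := 7096) (l := 5) rfl N7096 D21344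
theorem N11119 : nd 11119 = n21345 := ndS (p := 7098) (l := 0) rfl N7098 D21345
theorem N11120 : nd 11120 = n21346 := ndS (p := 7098) (l := 4) rfl N7098 D21346
theorem N11121 : nd 11121 = n21347 := ndS (p := 7098) (l := 6) rfl N7098 D21347
theorem N11122 : nd 11122 = n21348 := ndS (p := 7099) (l := 6) rfl N7099 D21348
theorem N11123 : nd 11123 = n21349 := ndS (p := 7100) (l := 1) rfl N7100 D21349
theorem N11124 : nd 11124 = n21350 := ndS (p := 7101) (l := 1) rfl N7101 D21350
theorem N11125 : nd 11125 = n21352 := ndS (p := 7102) (l := 2) rfl N7102 D21352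
theorem N11126 : nd 11126 = n21353 := ndS (p := 7102) (l := 5) rfl N7102 D21353
theorem N11127 : nd 11127 = n21354 := ndS (p := 7103) (l := 1) rfl N7103 D21354
theorem N11128 : nd 11128 = n21358 := ndS (p := 7104) (l := 3) rfl N7104 D21358
theorem N11129 : nd 11129 = n21359 := ndS (p := 7104) (l := 5) rfl N7104 D21359
theorem N11130 : nd 11130 = n21360 := ndS (p := 7105) (l := 1) rfl N7105 D21360
theorem N11131 : nd 11131 = n21361 := ndS (p := 7106) (l := 0) rfl N7106 D21361
theorem N11132 : nd 11132 = n21362 := ndS (p := 7106) (l := 2) rfl N7106 D21362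
theorem N11133 : nd 11133 = n21363 := ndS (p := 7106) (l := 6) rfl N7106 D21363
theorem N11134 : nd 11134 = n21364 := ndS (p := 7107) (l := 0) rfl N7107 D21364
theorem N11135 : nd 11135 = n21365 := ndS (p := 7107) (l := 2) rfl N7107 D21365
theorem N11136 : nd 11136 = n21366 := ndS (p := 7107) (l := 5) rfl N7107 D21366
theorem N11137 : nd 11137 = n21367 := ndS (p := 7107) (l := 6) rfl N7107 D21367
theorem N11138 : nd 11138 = n21368 := ndS (p := 7108) (l := 1) rfl N7108 D21368
theorem N11139 : nd 11139 = n21369 := ndS (p := 7108) (l := 3) rfl N7108 D21369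
theorem N11140 : nd 11140 = n21370 := ndS (p := 7109) (l := 2) rfl N7109 D21370
theorem N11141 : nd 11141 = n21371 := ndS (p := 7109) (l := 4) rfl N7109 D21371
theorem N11142 : nd 11142 = n21372 := ndS (p := 7109) (l := 5) rfl N7109 D21372
theorem N11143 : nd 11143 = n21373 := ndS (p := 7110) (l := 1) rfl N7110 D21373
theorem N11144 : nd 11144 = n21374 := ndS (p := 7111) (l := 0) rfl N7111 D21374
theorem N11145 : nd 11145 = n21375 := ndS (p := 7111) (l := 2) rfl N7111 D21375
theorem N11146 : nd 11146 = n21376 := ndS (p := 7111) (l := 6) rfl N7111 D21376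
theorem N11147 : nd 11147 = n21377 := ndS (p := 7112) (l := 2) rfl N7112 D21377
theorem N11148 : nd 11148 = n21378 := ndS (p := 7112) (l := 6) rfl N7112 D21378
theorem N11149 : nd 11149 = n21379 := ndS (p := 7113) (l := 3) rfl N7113 D21379
theorem N11150 : nd 11150 = n21380 := ndS (p := 7113) (l := 6) rfl N7113 D21380
theorem N11151 : nd 11151 = n21381 := ndS (p := 7114) (l := 5) rfl N7114 D21381
theorem N11152 : nd 11152 = n21382 := ndS (p := 7115) (l := 1) rfl N7115 D21382
theorem N11153 : nd 11153 = n21383 := ndS (p := 7116) (l := 5) rfl N7116 D21383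
theorem N11154 : nd 11154 = n21384 := ndS (p := 7117) (l := 0) rfl N7117 D21384
theorem N11155 : nd 11155 = n21385 := ndS (p := 7117) (l := 3) rfl N7117 D21385
theorem N11156 : nd 11156 = n21386 := ndS (p := 7117) (l := 5) rfl N7117 D21386
theorem N11157 : nd 11157 = n21387 := ndS (p := 7117) (l := 6) rfl N7117 D21387
theorem N11158 : nd 11158 = n21388 := ndS (p := 7118) (l := 4) rfl N7118 D21388
theorem N11159 : nd 11159 = n21389 := ndS (p := 7118) (l := 5) rfl N7118 D21389
theorem N11160 : nd 11160 = n21390 := ndS (p := 7119) (l := 1) rfl N7119 D21390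
theorem N11161 : nd 11161 = n21391 := ndS (p := 7120) (l := 2) rfl N7120 D21391
theorem N11162 : nd 11162 = n21392 := ndS (p := 7121) (l := 1) rfl N7121 D21392
theorem N11163 : nd 11163 = n21393 := ndS (p := 7121) (l := 4) rfl N7121 D21393
theorem N11164 : nd 11164 = n21394 := ndS (p := 7121) (l := 5) rfl N7121 D21394
theorem N11165 : nd 11165 = n21395 := ndS (p := 7122) (l := 5) rfl N7122 D21395
theorem N11166 : nd 11166 = n21396 := ndS (p := 7123) (l := 1) rfl N7123 D21396
theorem N11167 : nd 11167 = n21397 := ndS (p := 7123) (l := 6) rfl N7123 D21397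
theorem N11168 : nd 11168 = n21398 := ndS (p := 7124) (l := 6) rfl N7124 D21398
theorem N11169 : nd 11169 = n21399 := ndS (p := 7125) (l := 1) rfl N7125 D21399
theorem N11170 : nd 11170 = n21400 := ndS (p := 7126) (l := 0) rfl N7126 D21400
theorem N11171 : nd 11171 = n21401 := ndS (p := 7126) (l := 2) rfl N7126 D21401
theorem N11172 : nd 11172 = n21402 := ndS (p := 7126) (l := 5) rfl N7126 D21402
theorem N11173 : nd 11173 = n21403 := ndS (p := 7127) (l := 0) rfl N7127 D21403
theorem N11174 : nd 11174 = n21404 := ndS (p := 7127) (l := 2) rfl N7127 D21404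
theorem N11175 : nd 11175 = n21405 := ndS (p := 7127) (l := 6) rfl N7127 D21405
theorem N11176 : nd 11176 = n21406 := ndS (p := 7129) (l := 1) rfl N7129 D21406
theorem N11177 : nd 11177 = n21407 := ndS (p := 7130) (l := 2) rfl N7130 D21407
theorem N11178 : nd 11178 = n21408 := ndS (p := 7131) (l := 1) rfl N7131 D21408
theorem N11179 : nd 11179 = n21409 := ndS (p := 7132) (l := 5) rfl N7132 D21409
theorem N11180 : nd 11180 = n21410 := ndS (p := 7133) (l := 1) rfl N7133 D21410
theorem N11181 : nd 11181 = n21411 := ndS (p := 7134) (l := 0) rfl N7134 D21411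
theorem N11182 : nd 11182 = n21412 := ndS (p := 7134) (l := 2) rfl N7134 D21412
theorem N11183 : nd 11183 = n21413 := ndS (p := 7134) (l := 6) rfl N7134 D21413
theorem N11184 : nd 11184 = n21414 := ndS (p := 7135) (l := 1) rfl N7135 D21414
theorem N11185 : nd 11185 = n21415 := ndS (p := 7135) (l := 2) rfl N7135 D21415
theorem N11186 : nd 11186 = n21416 := ndS (p := 7136) (l := 3) rfl N7136 D21416
theorem N11187 : nd 11187 = n21417 := ndS (p := 7136) (l := 6) rfl N7136 D21417
theorem N11188 : nd 11188 = n21418 := ndS (p := 7138) (l := 0) rfl N7138 D21418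
theorem N11189 : nd 11189 = n21419 := ndS (p := 7138) (l := 4) rfl N7138 D21419
theorem N11190 : nd 11190 = n21420 := ndS (p := 7138) (l := 5) rfl N7138 D21420
theorem N11191 : nd 11191 = n21421 := ndS (p := 7139) (l := 5) rfl N7139 D21421
theorem N11192 : nd 11192 = n21422 := ndS (p := 7140) (l := 1) rfl N7140 D21422
theorem N11193 : nd 11193 = n21423 := ndS (p := 7141) (l := 1) rfl N7141 D21423
theorem N11194 : nd 11194 = n21424 := ndS (p := 7142) (l := 2) rfl N7142 D21424
theorem N11195 : nd 11195 = n21425 := ndS (p := 7142) (l := 6) rfl N7142 D21425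
theorem N11196 : nd 11196 = n21426 := ndS (p := 7143) (l := 1) rfl N7143 D21426
theorem N11197 : nd 11197 = n21427 := ndS (p := 7144) (l := 3) rfl N7144 D21427
theorem N11198 : nd 11198 = n21428 := ndS (p := 7144) (l := 6) rfl N7144 D21428
theorem N11199 : nd 11199 = n21429 := ndS (p := 7145) (l := 1) rfl N7145 D21429
theorem N11200 : nd 11200 = n21430 := ndS (p := 7146) (l := 0) rfl N7146 D21430
theorem N11201 : nd 11201 = n21431 := ndS (p := 7146) (l := 2) rfl N7146 D21431
theorem N11202 : nd 11202 = n21432 := ndS (p := 7146) (l := 5) rfl N7146 D21432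
theorem N11203 : nd 11203 = n21433 := ndS (p := 7147) (l := 0) rfl N7147 D21433
theorem N11204 : nd 11204 = n21434 := ndS (p := 7147) (l := 2) rfl N7147 D21434
theorem N11205 : nd 11205 = n21435 := ndS (p := 7147) (l := 5) rfl N7147 D21435
theorem N11206 : nd 11206 = n21436 := ndS (p := 7147) (l := 6) rfl N7147 D21436
theorem N11207 : nd 11207 = n21437 := ndS (p := 7148) (l := 1) rfl N7148 D21437
theorem N11208 : nd 11208 = n21438 := ndS (p := 7148) (l := 3) rfl N7148 D21438
theorem N11209 : nd 11209 = n21439 := ndS (p := 7149) (l := 2) rfl N7149 D21439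
theorem N11210 : nd 11210 = n21440 := ndS (p := 7149) (l := 4) rfl N7149 D21440
theorem N11211 : nd 11211 = n21441 := ndS (p := 7149) (l := 6) rfl N7149 D21441
theorem N11212 : nd 11212 = n21442 := ndS (p := 7150) (l := 1) rfl N7150 D21442
theorem N11213 : nd 11213 = n21443 := ndS (p := 7151) (l := 0) rfl N7151 D21443
theorem N11214 : nd 11214 = n21444 := ndS (p := 7151) (l := 2) rfl N7151 D21444
theorem N11215 : nd 11215 = n21445 := ndS (p := 7151) (l := 5) rfl N7151 D21445
theorem N11216 : nd 11216 = n21446 := ndS (p := 7152) (l := 2) rfl N7152 D21446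
theorem N11217 : nd 11217 = n21447 := ndS (p := 7152) (l := 5) rfl N7152 D21447
theorem N11218 : nd 11218 = n21448 := ndS (p := 7153) (l := 3) rfl N7153 D21448
theorem N11219 : nd 11219 = n21449 := ndS (p := 7153) (l := 5) rfl N7153 D21449
theorem N11220 : nd 11220 = n21450 := ndS (p := 7154) (l := 6) rfl N7154 D21450
theorem N11221 : nd 11221 = n21451 := ndS (p := 7155) (l := 6) rfl N7155 D21451
theorem N11222 : nd 11222 = n21452 := ndS (p := 7156) (l := 1) rfl N7156 D21452
theorem N11223 : nd 11223 = n21453 := ndS (p := 7157) (l := 0) rfl N7157 D21453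
theorem N11224 : nd 11224 = n21454 := ndS (p := 7157) (l := 3) rfl N7157 D21454
theorem N11225 : nd 11225 = n21455 := ndS (p := 7157) (l := 5) rfl N7157 D21455
theorem N11226 : nd 11226 = n21456 := ndS (p := 7157) (l := 6) rfl N7157 D21456
theorem N11227 : nd 11227 = n21457 := ndS (p := 7158) (l := 4) rfl N7158 D21457
theorem N11228 : nd 11228 = n21458 := ndS (p := 7158) (l := 6) rfl N7158 D21458
theorem N11229 : nd 11229 = n21459 := ndS (p := 7159) (l := 1) rfl N7159 D21459
theorem N11230 : nd 11230 = n21460 := ndS (p := 7160) (l := 2) rfl N7160 D21460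
theorem N11231 : nd 11231 = n21461 := ndS (p := 7161) (l := 1) rfl N7161 D21461
theorem N11232 : nd 11232 = n21462 := ndS (p := 7161) (l := 4) rfl N7161 D21462
theorem N11233 : nd 11233 = n21463 := ndS (p := 7161) (l := 6) rfl N7161 D21463
theorem N11234 : nd 11234 = n21464 := ndS (p := 7162) (l := 6) rfl N7162 D21464
theorem N11235 : nd 11235 = n21465 := ndS (p := 7163) (l := 1) rfl N7163 D21465
theorem N11236 : nd 11236 = n21466 := ndS (p := 7163) (l := 5) rfl N7163 D21466
theorem N11237 : nd 11237 = n21467 := ndS (p := 7164) (l := 5) rfl N7164 D21467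
theorem N11238 : nd 11238 = n21468 := ndS (p := 7165) (l := 1) rfl N7165 D21468
theorem N11239 : nd 11239 = n21469 := ndS (p := 7166) (l := 0) rfl N7166 D21469
theorem N11240 : nd 11240 = n21470 := ndS (p := 7166) (l := 2) rfl N7166 D21470
theorem N11241 : nd 11241 = n21471 := ndS (p := 7166) (l := 6) rfl N7166 D21471
theorem N11242 : nd 11242 = n21472 := ndS (p := 7167) (l := 2) rfl N7167 D21472
theorem N11243 : nd 11243 = n21473 := ndS (p := 7169) (l := 6) rfl N7169 D21473
theorem N11244 : nd 11244 = n21474 := ndS (p := 7170) (l := 1) rfl N7170 D21474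
theorem N11245 : nd 11245 = n21475 := ndS (p := 7170) (l := 5) rfl N7170 D21475
theorem N11246 : nd 11246 = n21476 := ndS (p := 7171) (l := 6) rfl N7171 D21476
theorem N11247 : nd 11247 = n21477 := ndS (p := 7172) (l := 6) rfl N7172 D21477
theorem N11248 : nd 11248 = n21478 := ndS (p := 7173) (l := 1) rfl N7173 D21478
theorem N11249 : nd 11249 = n21479 := ndS (p := 7173) (l := 5) rfl N7173 D21479
theorem N11250 : nd 11250 = n21480 := ndS (p := 7174) (l := 1) rfl N7174 D21480
theorem N11251 : nd 11251 = n21481 := ndS (p := 7175) (l := 0) rfl N7175 D21481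
theorem N11252 : nd 11252 = n21482 := ndS (p := 7175) (l := 2) rfl N7175 D21482
theorem N11253 : nd 11253 = n21483 := ndS (p := 7175) (l := 5) rfl N7175 D21483
theorem N11254 : nd 11254 = n21484 := ndS (p := 7176) (l := 1) rfl N7176 D21484
theorem N11255 : nd 11255 = n21485 := ndS (p := 7177) (l := 2) rfl N7177 D21485
theorem N11256 : nd 11256 = n21486 := ndS (p := 7178) (l := 2) rfl N7178 D21486
theorem N11257 : nd 11257 = n21487 := ndS (p := 7179) (l := 3) rfl N7179 D21487
theorem N11258 : nd 11258 = n21488 := ndS (p := 7179) (l := 5) rfl N7179 D21488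
theorem N11259 : nd 11259 = n21489 := ndS (p := 7181) (l := 2) rfl N7181 D21489
theorem N11260 : nd 11260 = n21490 := ndS (p := 7183) (l := 1) rfl N7183 D21490
theorem N11261 : nd 11261 = n21491 := ndS (p := 7184) (l := 6) rfl N7184 D21491
theorem N11262 : nd 11262 = n21492 := ndS (p := 7185) (l := 6) rfl N7185 D21492
theorem N11263 : nd 11263 = n21493 := ndS (p := 7186) (l := 1) rfl N7186 D21493
theorem N11264 : nd 11264 = n21494 := ndS (p := 7186) (l := 5) rfl N7186 D21494
theorem N11265 : nd 11265 = n21495 := ndS (p := 7187) (l := 1) rfl N7187 D21495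
theorem N11266 : nd 11266 = n21496 := ndS (p := 7188) (l := 0) rfl N7188 D21496
theorem N11267 : nd 11267 = n21497 := ndS (p := 7188) (l := 2) rfl N7188 D21497
theorem N11268 : nd 11268 = n21498 := ndS (p := 7190) (l := 5) rfl N7190 D21498
theorem N11269 : nd 11269 = n21499 := ndS (p := 7190) (l := 6) rfl N7190 D21499
theorem N11270 : nd 11270 = n21500 := ndS (p := 7192) (l := 1) rfl N7192 D21500
theorem N11271 : nd 11271 = n21501 := ndS (p := 7193) (l := 1) rfl N7193 D21501
theorem N11272 : nd 11272 = n21502 := ndS (p := 7194) (l := 0) rfl N7194 D21502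
theorem N11273 : nd 11273 = n21503 := ndS (p := 7194) (l := 2) rfl N7194 D21503
theorem N11274 : nd 11274 = n21504 := ndS (p := 7194) (l := 5) rfl N7194 D21504
theorem N11275 : nd 11275 = n21505 := ndS (p := 7195) (l := 1) rfl N7195 D21505
theorem N11276 : nd 11276 = n21506 := ndS (p := 7195) (l := 2) rfl N7195 D21506
theorem N11277 : nd 11277 = n21507 := ndS (p := 7195) (l := 5) rfl N7195 D21507
theorem N11278 : nd 11278 = n21508 := ndS (p := 7196) (l := 3) rfl N7196 D21508
theorem N11279 : nd 11279 = n21509 := ndS (p := 7196) (l := 5) rfl N7196 D21509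
theorem N11280 : nd 11280 = n21510 := ndS (p := 7197) (l := 6) rfl N7197 D21510
theorem N11281 : nd 11281 = n21511 := ndS (p := 7198) (l := 2) rfl N7198 D21511
theorem N11282 : nd 11282 = n21512 := ndS (p := 7199) (l := 1) rfl N7199 D21512
theorem N11283 : nd 11283 = n21513 := ndS (p := 7199) (l := 3) rfl N7199 D21513
theorem N11284 : nd 11284 = n21514 := ndS (p := 7199) (l := 5) rfl N7199 D21514
theorem N11285 : nd 11285 = n21515 := ndS (p := 7201) (l := 2) rfl N7201 D21515
theorem N11286 : nd 11286 = n21516 := ndS (p := 7201) (l := 4) rfl N7201 D21516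
theorem N11287 : nd 11287 = n21517 := ndS (p := 7201) (l := 5) rfl N7201 D21517
theorem N11288 : nd 11288 = n21518 := ndS (p := 7202) (l := 1) rfl N7202 D21518
theorem N11289 : nd 11289 = n21519 := ndS (p := 7203) (l := 3) rfl N7203 D21519
theorem N11290 : nd 11290 = n21520 := ndS (p := 7203) (l := 5) rfl N7203 D21520
theorem N11291 : nd 11291 = n21521 := ndS (p := 7203) (l := 6) rfl N7203 D21521
theorem N11292 : nd 11292 = n21522 := ndS (p := 7204) (l := 2) rfl N7204 D21522
theorem N11293 : nd 11293 = n21523 := ndS (p := 7204) (l := 4) rfl N7204 D21523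
theorem N11294 : nd 11294 = n21524 := ndS (p := 7204) (l := 5) rfl N7204 D21524
theorem N11295 : nd 11295 = n21525 := ndS (p := 7204) (l := 6) rfl N7204 D21525
theorem N11296 : nd 11296 = n21526 := ndS (p := 7205) (l := 6) rfl N7205 D21526
theorem N11297 : nd 11297 = n21527 := ndS (p := 7206) (l := 6) rfl N7206 D21527
theorem N11298 : nd 11298 = n21528 := ndS (p := 7207) (l := 1) rfl N7207 D21528
theorem N11299 : nd 11299 = n21529 := ndS (p := 7207) (l := 5) rfl N7207 D21529
theorem N11300 : nd 11300 = n21530 := ndS (p := 7208) (l := 6) rfl N7208 D21530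
theorem N11301 : nd 11301 = n21531 := ndS (p := 7209) (l := 1) rfl N7209 D21531
theorem N11302 : nd 11302 = n21532 := ndS (p := 7212) (l := 1) rfl N7212 D21532
theorem N11303 : nd 11303 = n21533 := ndS (p := 7213) (l := 0) rfl N7213 D21533
theorem N11304 : nd 11304 = n21534 := ndS (p := 7213) (l := 5) rfl N7213 D21534
theorem N11305 : nd 11305 = n21535 := ndS (p := 7214) (l := 1) rfl N7214 D21535
theorem N11306 : nd 11306 = n21536 := ndS (p := 7215) (l := 1) rfl N7215 D21536
theorem N11307 : nd 11307 = n21537 := ndS (p := 7216) (l := 1) rfl N7216 D21537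
theorem N11308 : nd 11308 = n21538 := ndS (p := 7217) (l := 0) rfl N7217 D21538
theorem N11309 : nd 11309 = n21539 := ndS (p := 7217) (l := 2) rfl N7217 D21539
theorem N11310 : nd 11310 = n21540 := ndS (p := 7217) (l := 6) rfl N7217 D21540
theorem N11311 : nd 11311 = n21541 := ndS (p := 7218) (l := 0) rfl N7218 D21541
theorem N11312 : nd 11312 = n21542 := ndS (p := 7218) (l := 2) rfl N7218 D21542
theorem N11313 : nd 11313 = n21543 := ndS (p := 7218) (l := 5) rfl N7218 D21543
theorem N11314 : nd 11314 = n21544 := ndS (p := 7218) (l := 6) rfl N7218 D21544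
theorem N11315 : nd 11315 = n21545 := ndS (p := 7219) (l := 0) rfl N7219 D21545
theorem N11316 : nd 11316 = n21546 := ndS (p := 7219) (l := 2) rfl N7219 D21546
theorem N11317 : nd 11317 = n21547 := ndS (p := 7220) (l := 2) rfl N7220 D21547
theorem N11318 : nd 11318 = n21548 := ndS (p := 7220) (l := 6) rfl N7220 D21548
theorem N11319 : nd 11319 = n21549 := ndS (p := 7221) (l := 3) rfl N7221 D21549
theorem N11320 : nd 11320 = n21550 := ndS (p := 7221) (l := 6) rfl N7221 D21550
theorem N11321 : nd 11321 = n21551 := ndS (p := 7222) (l := 5) rfl N7222 D21551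
theorem N11322 : nd 11322 = n21552 := ndS (p := 7223) (l := 2) rfl N7223 D21552
theorem N11323 : nd 11323 = n21553 := ndS (p := 7224) (l := 1) rfl N7224 D21553
theorem N11324 : nd 11324 = n21554 := ndS (p := 7224) (l := 3) rfl N7224 D21554
theorem N11325 : nd 11325 = n21555 := ndS (p := 7224) (l := 5) rfl N7224 D21555
theorem N11326 : nd 11326 = n21556 := ndS (p := 7224) (l := 6) rfl N7224 D21556
theorem N11327 : nd 11327 = n21557 := ndS (p := 7227) (l := 0) rfl N7227 D21557
theorem N11328 : nd 11328 = n21558 := ndS (p := 7227) (l := 3) rfl N7227 D21558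
theorem N11329 : nd 11329 = n21559 := ndS (p := 7227) (l := 5) rfl N7227 D21559
theorem N11330 : nd 11330 = n21560 := ndS (p := 7227) (l := 6) rfl N7227 D21560
theorem N11331 : nd 11331 = n21561 := ndS (p := 7228) (l := 2) rfl N7228 D21561
theorem N11332 : nd 11332 = n21562 := ndS (p := 7228) (l := 4) rfl N7228 D21562
theorem N11333 : nd 11333 = n21563 := ndS (p := 7229) (l := 1) rfl N7229 D21563
theorem N11334 : nd 11334 = n21564 := ndS (p := 7229) (l := 3) rfl N7229 D21564
theorem N11335 : nd 11335 = n21565 := ndS (p := 7229) (l := 4) rfl N7229 D21565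
theorem N11336 : nd 11336 = n21566 := ndS (p := 7229) (l := 5) rfl N7229 D21566
theorem N11337 : nd 11337 = n21567 := ndS (p := 7230) (l := 5) rfl N7230 D21567
theorem N11338 : nd 11338 = n21568 := ndS (p := 7231) (l := 1) rfl N7231 D21568
theorem N11339 : nd 11339 = n21569 := ndS (p := 7232) (l := 0) rfl N7232 D21569
theorem N11340 : nd 11340 = n21570 := ndS (p := 7232) (l := 2) rfl N7232 D21570
theorem N11341 : nd 11341 = n21571 := ndS (p := 7232) (l := 6) rfl N7232 D21571
theorem N11342 : nd 11342 = n21572 := ndS (p := 7233) (l := 2) rfl N7233 D21572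
theorem N11343 : nd 11343 = n21573 := ndS (p := 7234) (l := 3) rfl N7234 D21573
theorem N11344 : nd 11344 = n21574 := ndS (p := 7234) (l := 6) rfl N7234 D21574
theorem N11345 : nd 11345 = n21575 := ndS (p := 7236) (l := 3) rfl N7236 D21575
theorem N11346 : nd 11346 = n21576 := ndS (p := 7236) (l := 6) rfl N7236 D21576
theorem N11347 : nd 11347 = n21577 := ndS (p := 7238) (l := 2) rfl N7238 D21577
theorem N11348 : nd 11348 = n21578 := ndS (p := 7238) (l := 4) rfl N7238 D21578
theorem N11349 : nd 11349 = n21579 := ndS (p := 7238) (l := 6) rfl N7238 D21579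
theorem N11350 : nd 11350 = n21580 := ndS (p := 7239) (l := 1) rfl N7239 D21580
theorem N11351 : nd 11351 = n21581 := ndS (p := 7239) (l := 5) rfl N7239 D21581
theorem N11352 : nd 11352 = n21582 := ndS (p := 7241) (l := 1) rfl N7241 D21582
theorem N11353 : nd 11353 = n21583 := ndS (p := 7241) (l := 3) rfl N7241 D21583
theorem N11354 : nd 11354 = n21584 := ndS (p := 7241) (l := 5) rfl N7241 D21584
theorem N11355 : nd 11355 = n21585 := ndS (p := 7241) (l := 6) rfl N7241 D21585
theorem N11356 : nd 11356 = n21586 := ndS (p := 7244) (l := 0) rfl N7244 D21586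
theorem N11357 : nd 11357 = n21587 := ndS (p := 7244) (l := 3) rfl N7244 D21587
theorem N11358 : nd 11358 = n21588 := ndS (p := 7244) (l := 5) rfl N7244 D21588
theorem N11359 : nd 11359 = n21589 := ndS (p := 7244) (l := 6) rfl N7244 D21589
theorem N11360 : nd 11360 = n21590 := ndS (p := 7245) (l := 4) rfl N7245 D21590
theorem N11361 : nd 11361 = n21591 := ndS (p := 7245) (l := 5) rfl N7245 D21591
theorem N11362 : nd 11362 = n21592 := ndS (p := 7245) (l := 6) rfl N7245 D21592
theorem N11363 : nd 11363 = n21593 := ndS (p := 7246) (l := 1) rfl N7246 D21593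
theorem N11364 : nd 11364 = n21594 := ndS (p := 7247) (l := 1) rfl N7247 D21594
theorem N11365 : nd 11365 = n21595 := ndS (p := 7248) (l := 2) rfl N7248 D21595
theorem N11366 : nd 11366 = n21596 := ndS (p := 7250) (l := 1) rfl N7250 D21596
theorem N11367 : nd 11367 = n21597 := ndS (p := 7250) (l := 3) rfl N7250 D21597
theorem N11368 : nd 11368 = n21598 := ndS (p := 7250) (l := 5) rfl N7250 D21598
theorem N11369 : nd 11369 = n21599 := ndS (p := 7250) (l := 6) rfl N7250 D21599
theorem N11370 : nd 11370 = n21600 := ndS (p := 7251) (l := 2) rfl N7251 D21600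
theorem N11371 : nd 11371 = n21601 := ndS (p := 7251) (l := 4) rfl N7251 D21601
theorem N11372 : nd 11372 = n21602 := ndS (p := 7251) (l := 5) rfl N7251 D21602
theorem N11373 : nd 11373 = n21603 := ndS (p := 7251) (l := 6) rfl N7251 D21603
theorem N11374 : nd 11374 = n21604 := ndS (p := 7252) (l := 1) rfl N7252 D21604
theorem N11375 : nd 11375 = n21605 := ndS (p := 7252) (l := 6) rfl N7252 D21605
theorem N11376 : nd 11376 = n21606 := ndS (p := 7253) (l := 5) rfl N7253 D21606
theorem N11377 : nd 11377 = n21607 := ndS (p := 7254) (l := 1) rfl N7254 D21607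
theorem N11378 : nd 11378 = n21608 := ndS (p := 7254) (l := 4) rfl N7254 D21608
theorem N11379 : nd 11379 = n21609 := ndS (p := 7254) (l := 5) rfl N7254 D21609
theorem N11380 : nd 11380 = n21610 := ndS (p := 7255) (l := 5) rfl N7255 D21610
theorem N11381 : nd 11381 = n21611 := ndS (p := 7256) (l := 1) rfl N7256 D21611
theorem N11382 : nd 11382 = n21612 := ndS (p := 7257) (l := 2) rfl N7257 D21612
theorem N11383 : nd 11383 = n21613 := ndS (p := 7257) (l := 6) rfl N7257 D21613
theorem N11384 : nd 11384 = n21614 := ndS (p := 7258) (l := 3) rfl N7258 D21614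
theorem N11385 : nd 11385 = n21615 := ndS (p := 7259) (l := 0) rfl N7259 D21615
theorem N11386 : nd 11386 = n21616 := ndS (p := 7259) (l := 3) rfl N7259 D21616
theorem N11387 : nd 11387 = n21617 := ndS (p := 7259) (l := 4) rfl N7259 D21617
theorem N11388 : nd 11388 = n21618 := ndS (p := 7259) (l := 5) rfl N7259 D21618
theorem N11389 : nd 11389 = n21619 := ndS (p := 7259) (l := 6) rfl N7259 D21619
theorem N11390 : nd 11390 = n21620 := ndS (p := 7260) (l := 4) rfl N7260 D21620
theorem N11391 : nd 11391 = n21621 := ndS (p := 7260) (l := 5) rfl N7260 D21621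
theorem N11392 : nd 11392 = n21622 := ndS (p := 7261) (l := 3) rfl N7261 D21622
theorem N11393 : nd 11393 = n21623 := ndS (p := 7261) (l := 5) rfl N7261 D21623
theorem N11394 : nd 11394 = n21624 := ndS (p := 7262) (l := 1) rfl N7262 D21624
theorem N11395 : nd 11395 = n21625 := ndS (p := 7262) (l := 6) rfl N7262 D21625
theorem N11396 : nd 11396 = n21626 := ndS (p := 7263) (l := 6) rfl N7263 D21626
theorem N11397 : nd 11397 = n21627 := ndS (p := 7264) (l := 1) rfl N7264 D21627
theorem N11398 : nd 11398 = n21628 := ndS (p := 7265) (l := 0) rfl N7265 D21628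
theorem N11399 : nd 11399 = n21629 := ndS (p := 7265) (l := 2) rfl N7265 D21629
theorem N11400 : nd 11400 = n21630 := ndS (p := 7265) (l := 5) rfl N7265 D21630
theorem N11401 : nd 11401 = n21631 := ndS (p := 7266) (l := 2) rfl N7266 D21631
theorem N11402 : nd 11402 = n21632 := ndS (p := 7267) (l := 5) rfl N7267 D21632
theorem N11403 : nd 11403 = n21633 := ndS (p := 7270) (l := 2) rfl N7270 D21633
theorem N11404 : nd 11404 = n21634 := ndS (p := 7271) (l := 5) rfl N7271 D21634
theorem N11405 : nd 11405 = n21635 := ndS (p := 7272) (l := 1) rfl N7272 D21635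
theorem N11406 : nd 11406 = n21636 := ndS (p := 7272) (l := 6) rfl N7272 D21636
theorem N11407 : nd 11407 = n21637 := ndS (p := 7273) (l := 5) rfl N7273 D21637
theorem N11408 : nd 11408 = n21638 := ndS (p := 7274) (l := 1) rfl N7274 D21638
theorem N11409 : nd 11409 = n21639 := ndS (p := 7274) (l := 6) rfl N7274 D21639
theorem N11410 : nd 11410 = n21640 := ndS (p := 7275) (l := 5) rfl N7275 D21640
theorem N11411 : nd 11411 = n21641 := ndS (p := 7276) (l := 0) rfl N7276 D21641
theorem N11412 : nd 11412 = n21642 := ndS (p := 7276) (l := 2) rfl N7276 D21642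
theorem N11413 : nd 11413 = n21643 := ndS (p := 7276) (l := 6) rfl N7276 D21643
theorem N11414 : nd 11414 = n21644 := ndS (p := 7277) (l := 1) rfl N7277 D21644
theorem N11415 : nd 11415 = n21645 := ndS (p := 7278) (l := 1) rfl N7278 D21645
theorem N11416 : nd 11416 = n21646 := ndS (p := 7279) (l := 2) rfl N7279 D21646
theorem N11417 : nd 11417 = n21647 := ndS (p := 7280) (l := 3) rfl N7280 D21647
theorem N11418 : nd 11418 = n21648 := ndS (p := 7280) (l := 6) rfl N7280 D21648
theorem N11419 : nd 11419 = n21649 := ndS (p := 7282) (l := 2) rfl N7282 D21649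
theorem N11420 : nd 11420 = n21650 := ndS (p := 7283) (l := 1) rfl N7283 D21650
theorem N11421 : nd 11421 = n21651 := ndS (p := 7285) (l := 5) rfl N7285 D21651
theorem N11422 : nd 11422 = n21652 := ndS (p := 7286) (l := 1) rfl N7286 D21652
theorem N11423 : nd 11423 = n21653 := ndS (p := 7286) (l := 6) rfl N7286 D21653
theorem N11424 : nd 11424 = n21654 := ndS (p := 7287) (l := 5) rfl N7287 D21654
theorem N11425 : nd 11425 = n21655 := ndS (p := 7288) (l := 0) rfl N7288 D21655
theorem N11426 : nd 11426 = n21656 := ndS (p := 7288) (l := 2) rfl N7288 D21656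
theorem N11427 : nd 11427 = n21657 := ndS (p := 7290) (l := 1) rfl N7290 D21657
theorem N11428 : nd 11428 = n21658 := ndS (p := 7291) (l := 5) rfl N7291 D21658
theorem N11429 : nd 11429 = n21659 := ndS (p := 7291) (l := 6) rfl N7291 D21659
theorem N11430 : nd 11430 = n21660 := ndS (p := 7293) (l := 1) rfl N7293 D21660
theorem N11431 : nd 11431 = n21661 := ndS (p := 7294) (l := 1) rfl N7294 D21661
theorem N11432 : nd 11432 = n21662 := ndS (p := 7295) (l := 0) rfl N7295 D21662
theorem N11433 : nd 11433 = n21663 := ndS (p := 7295) (l := 2) rfl N7295 D21663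
theorem N11434 : nd 11434 = n21664 := ndS (p := 7295) (l := 6) rfl N7295 D21664
theorem N11435 : nd 11435 = n21665 := ndS (p := 7296) (l := 1) rfl N7296 D21665
theorem N11436 : nd 11436 = n21666 := ndS (p := 7296) (l := 2) rfl N7296 D21666
theorem N11437 : nd 11437 = n21667 := ndS (p := 7296) (l := 6) rfl N7296 D21667
theorem N11438 : nd 11438 = n21668 := ndS (p := 7297) (l := 3) rfl N7297 D21668
theorem N11439 : nd 11439 = n21669 := ndS (p := 7297) (l := 6) rfl N7297 D21669
theorem N11440 : nd 11440 = n21670 := ndS (p := 7298) (l := 5) rfl N7298 D21670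
theorem N11441 : nd 11441 = n21671 := ndS (p := 7299) (l := 2) rfl N7299 D21671
theorem N11442 : nd 11442 = n21672 := ndS (p := 7300) (l := 1) rfl N7300 D21672
theorem N11443 : nd 11443 = n21673 := ndS (p := 7300) (l := 3) rfl N7300 D21673
theorem N11444 : nd 11444 = n21674 := ndS (p := 7301) (l := 2) rfl N7301 D21674
theorem N11445 : nd 11445 = n21675 := ndS (p := 7301) (l := 4) rfl N7301 D21675
theorem N11446 : nd 11446 = n21676 := ndS (p := 7301) (l := 6) rfl N7301 D21676
theorem N11447 : nd 11447 = n21677 := ndS (p := 7302) (l := 1) rfl N7302 D21677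
theorem N11448 : nd 11448 = n21678 := ndS (p := 7303) (l := 3) rfl N7303 D21678
theorem N11449 : nd 11449 = n21679 := ndS (p := 7303) (l := 5) rfl N7303 D21679
theorem N11450 : nd 11450 = n21680 := ndS (p := 7303) (l := 6) rfl N7303 D21680
theorem N11451 : nd 11451 = n21681 := ndS (p := 7304) (l := 2) rfl N7304 D21681
theorem N11452 : nd 11452 = n21682 := ndS (p := 7304) (l := 4) rfl N7304 D21682
theorem N11453 : nd 11453 = n21683 := ndS (p := 7304) (l := 5) rfl N7304 D21683
theorem N11454 : nd 11454 = n21684 := ndS (p := 7304) (l := 6) rfl N7304 D21684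
theorem N11455 : nd 11455 = n21685 := ndS (p := 7305) (l := 5) rfl N7305 D21685
theorem N11456 : nd 11456 = n21686 := ndS (p := 7306) (l := 1) rfl N7306 D21686
theorem N11457 : nd 11457 = n21687 := ndS (p := 7306) (l := 6) rfl N7306 D21687
theorem N11458 : nd 11458 = n21688 := ndS (p := 7307) (l := 5) rfl N7307 D21688
theorem N11459 : nd 11459 = n21689 := ndS (p := 7308) (l := 5) rfl N7308 D21689
theorem N11460 : nd 11460 = n21690 := ndS (p := 7309) (l := 1) rfl N7309 D21690
theorem N11461 : nd 11461 = n21691 := ndS (p := 7312) (l := 1) rfl N7312 D21691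
theorem N11462 : nd 11462 = n21692 := ndS (p := 7313) (l := 0) rfl N7313 D21692
theorem N11463 : nd 11463 = n21693 := ndS (p := 7313) (l := 6) rfl N7313 D21693
theorem N11464 : nd 11464 = n21694 := ndS (p := 7314) (l := 1) rfl N7314 D21694
theorem N11465 : nd 11465 = n21695 := ndS (p := 7315) (l := 1) rfl N7315 D21695
theorem N11466 : nd 11466 = n21696 := ndS (p := 7316) (l := 1) rfl N7316 D21696
theorem N11467 : nd 11467 = n21697 := ndS (p := 7317) (l := 0) rfl N7317 D21697
theorem N11468 : nd 11468 = n21698 := ndS (p := 7317) (l := 2) rfl N7317 D21698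
theorem N11469 : nd 11469 = n21699 := ndS (p := 7317) (l := 5) rfl N7317 D21699
theorem N11470 : nd 11470 = n21700 := ndS (p := 7318) (l := 0) rfl N7318 D21700
theorem N11471 : nd 11471 = n21701 := ndS (p := 7318) (l := 2) rfl N7318 D21701
theorem N11472 : nd 11472 = n21702 := ndS (p := 7318) (l := 5) rfl N7318 D21702
theorem N11473 : nd 11473 = n21703 := ndS (p := 7318) (l := 6) rfl N7318 D21703
theorem N11474 : nd 11474 = n21704 := ndS (p := 7319) (l := 0) rfl N7319 D21704
theorem N11475 : nd 11475 = n21705 := ndS (p := 7319) (l := 2) rfl N7319 D21705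
theorem N11476 : nd 11476 = n21706 := ndS (p := 7320) (l := 2) rfl N7320 D21706
theorem N11477 : nd 11477 = n21707 := ndS (p := 7320) (l := 5) rfl N7320 D21707
theorem N11478 : nd 11478 = n21708 := ndS (p := 7321) (l := 3) rfl N7321 D21708
theorem N11479 : nd 11479 = n21709 := ndS (p := 7321) (l := 5) rfl N7321 D21709
theorem N11480 : nd 11480 = n21710 := ndS (p := 7322) (l := 6) rfl N7322 D21710
theorem N11481 : nd 11481 = n21711 := ndS (p := 7323) (l := 2) rfl N7323 D21711
theorem N11482 : nd 11482 = n21712 := ndS (p := 7324) (l := 1) rfl N7324 D21712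
theorem N11483 : nd 11483 = n21713 := ndS (p := 7324) (l := 3) rfl N7324 D21713
theorem N11484 : nd 11484 = n21714 := ndS (p := 7324) (l := 5) rfl N7324 D21714
theorem N11485 : nd 11485 = n21715 := ndS (p := 7324) (l := 6) rfl N7324 D21715
theorem N11486 : nd 11486 = n21716 := ndS (p := 7327) (l := 0) rfl N7327 D21716
theorem N11487 : nd 11487 = n21717 := ndS (p := 7327) (l := 3) rfl N7327 D21717
theorem N11488 : nd 11488 = n21718 := ndS (p := 7327) (l := 5) rfl N7327 D21718
theorem N11489 : nd 11489 = n21719 := ndS (p := 7327) (l := 6) rfl N7327 D21719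
theorem N11490 : nd 11490 = n21720 := ndS (p := 7328) (l := 2) rfl N7328 D21720
theorem N11491 : nd 11491 = n21721 := ndS (p := 7328) (l := 4) rfl N7328 D21721
theorem N11492 : nd 11492 = n21722 := ndS (p := 7329) (l := 1) rfl N7329 D21722
theorem N11493 : nd 11493 = n21723 := ndS (p := 7329) (l := 3) rfl N7329 D21723
theorem N11494 : nd 11494 = n21724 := ndS (p := 7329) (l := 4) rfl N7329 D21724
theorem N11495 : nd 11495 = n21725 := ndS (p := 7329) (l := 6) rfl N7329 D21725
theorem N11496 : nd 11496 = n21726 := ndS (p := 7330) (l := 6) rfl N7330 D21726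
theorem N11497 : nd 11497 = n21727 := ndS (p := 7331) (l := 1) rfl N7331 D21727
theorem N11498 : nd 11498 = n21728 := ndS (p := 7332) (l := 0) rfl N7332 D21728
theorem N11499 : nd 11499 = n21729 := ndS (p := 7332) (l := 2) rfl N7332 D21729
theorem N11500 : nd 11500 = n21730 := ndS (p := 7332) (l := 5) rfl N7332 D21730
theorem N11501 : nd 11501 = n21731 := ndS (p := 7333) (l := 2) rfl N7333 D21731
theorem N11502 : nd 11502 = n21732 := ndS (p := 7334) (l := 3) rfl N7334 D21732
theorem N11503 : nd 11503 = n21733 := ndS (p := 7334) (l := 5) rfl N7334 D21733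
theorem N11504 : nd 11504 = n21734 := ndS (p := 7336) (l := 3) rfl N7336 D21734
theorem N11505 : nd 11505 = n21735 := ndS (p := 7336) (l := 5) rfl N7336 D21735
theorem N11506 : nd 11506 = n21736 := ndS (p := 7338) (l := 2) rfl N7338 D21736
theorem N11507 : nd 11507 = n21737 := ndS (p := 7338) (l := 4) rfl N7338 D21737
theorem N11508 : nd 11508 = n21738 := ndS (p := 7338) (l := 5) rfl N7338 D21738
theorem N11509 : nd 11509 = n21739 := ndS (p := 7339) (l := 1) rfl N7339 D21739
theorem N11510 : nd 11510 = n21740 := ndS (p := 7339) (l := 6) rfl N7339 D21740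
theorem N11511 : nd 11511 = n21741 := ndS (p := 7341) (l := 1) rfl N7341 D21741
theorem N11512 : nd 11512 = n21742 := ndS (p := 7341) (l := 3) rfl N7341 D21742
theorem N11513 : nd 11513 = n21743 := ndS (p := 7341) (l := 5) rfl N7341 D21743
theorem N11514 : nd 11514 = n21744 := ndS (p := 7341) (l := 6) rfl N7341 D21744
theorem N11515 : nd 11515 = n21745 := ndS (p := 7344) (l := 0) rfl N7344 D21745
theorem N11516 : nd 11516 = n21746 := ndS (p := 7344) (l := 3) rfl N7344 D21746
theorem N11517 : nd 11517 = n21747 := ndS (p := 7344) (l := 5) rfl N7344 D21747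
theorem N11518 : nd 11518 = n21748 := ndS (p := 7344) (l := 6) rfl N7344 D21748
theorem N11519 : nd 11519 = n21749 := ndS (p := 7345) (l := 4) rfl N7345 D21749
theorem N11520 : nd 11520 = n21750 := ndS (p := 7345) (l := 5) rfl N7345 D21750
theorem N11521 : nd 11521 = n21751 := ndS (p := 7345) (l := 6) rfl N7345 D21751
theorem N11522 : nd 11522 = n21752 := ndS (p := 7346) (l := 1) rfl N7346 D21752
theorem N11523 : nd 11523 = n21753 := ndS (p := 7347) (l := 1) rfl N7347 D21753
theorem N11524 : nd 11524 = n21754 := ndS (p := 7349) (l := 2) rfl N7349 D21754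
theorem N11525 : nd 11525 = n21755 := ndS (p := 7350) (l := 1) rfl N7350 D21755
theorem N11526 : nd 11526 = n21756 := ndS (p := 7350) (l := 3) rfl N7350 D21756
theorem N11527 : nd 11527 = n21757 := ndS (p := 7350) (l := 5) rfl N7350 D21757
theorem N11528 : nd 11528 = n21758 := ndS (p := 7350) (l := 6) rfl N7350 D21758
theorem N11529 : nd 11529 = n21759 := ndS (p := 7351) (l := 2) rfl N7351 D21759
theorem N11530 : nd 11530 = n21760 := ndS (p := 7351) (l := 4) rfl N7351 D21760
theorem N11531 : nd 11531 = n21761 := ndS (p := 7351) (l := 5) rfl N7351 D21761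
theorem N11532 : nd 11532 = n21762 := ndS (p := 7351) (l := 6) rfl N7351 D21762
theorem N11533 : nd 11533 = n21763 := ndS (p := 7352) (l := 6) rfl N7352 D21763
theorem N11534 : nd 11534 = n21764 := ndS (p := 7353) (l := 1) rfl N7353 D21764
theorem N11535 : nd 11535 = n21765 := ndS (p := 7353) (l := 5) rfl N7353 D21765
theorem N11536 : nd 11536 = n21766 := ndS (p := 7354) (l := 1) rfl N7354 D21766
theorem N11537 : nd 11537 = n21767 := ndS (p := 7354) (l := 4) rfl N7354 D21767
theorem N11538 : nd 11538 = n21768 := ndS (p := 7354) (l := 6) rfl N7354 D21768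
theorem N11539 : nd 11539 = n21769 := ndS (p := 7355) (l := 6) rfl N7355 D21769
theorem N11540 : nd 11540 = n21770 := ndS (p := 7356) (l := 1) rfl N7356 D21770
theorem N11541 : nd 11541 = n21771 := ndS (p := 7357) (l := 2) rfl N7357 D21771
theorem N11542 : nd 11542 = n21772 := ndS (p := 7357) (l := 5) rfl N7357 D21772
theorem N11543 : nd 11543 = n21773 := ndS (p := 7358) (l := 3) rfl N7358 D21773
theorem N11544 : nd 11544 = n21774 := ndS (p := 7359) (l := 0) rfl N7359 D21774
theorem N11545 : nd 11545 = n21775 := ndS (p := 7359) (l := 3) rfl N7359 D21775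
theorem N11546 : nd 11546 = n21776 := ndS (p := 7359) (l := 4) rfl N7359 D21776
theorem N11547 : nd 11547 = n21777 := ndS (p := 7359) (l := 5) rfl N7359 D21777
theorem N11548 : nd 11548 = n21778 := ndS (p := 7359) (l := 6) rfl N7359 D21778
theorem N11549 : nd 11549 = n21779 := ndS (p := 7360) (l := 4) rfl N7360 D21779
theorem N11550 : nd 11550 = n21780 := ndS (p := 7360) (l := 6) rfl N7360 D21780
theorem N11551 : nd 11551 = n21781 := ndS (p := 7361) (l := 3) rfl N7361 D21781
theorem N11552 : nd 11552 = n21782 := ndS (p := 7361) (l := 6) rfl N7361 D21782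
theorem N11553 : nd 11553 = n21783 := ndS (p := 7362) (l := 1) rfl N7362 D21783
theorem N11554 : nd 11554 = n21784 := ndS (p := 7362) (l := 5) rfl N7362 D21784
theorem N11555 : nd 11555 = n21785 := ndS (p := 7363) (l := 5) rfl N7363 D21785
theorem N11556 : nd 11556 = n21786 := ndS (p := 7364) (l := 1) rfl N7364 D21786
theorem N11557 : nd 11557 = n21787 := ndS (p := 7365) (l := 0) rfl N7365 D21787
theorem N11558 : nd 11558 = n21788 := ndS (p := 7365) (l := 2) rfl N7365 D21788
theorem N11559 : nd 11559 = n21789 := ndS (p := 7365) (l := 6) rfl N7365 D21789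
theorem N11560 : nd 11560 = n21790 := ndS (p := 7366) (l := 2) rfl N7366 D21790
theorem N11561 : nd 11561 = n21791 := ndS (p := 7367) (l := 6) rfl N7367 D21791
theorem N11562 : nd 11562 = n21792 := ndS (p := 7369) (l := 6) rfl N7369 D21792
theorem N11563 : nd 11563 = n21793 := ndS (p := 7370) (l := 5) rfl N7370 D21793
theorem N11564 : nd 11564 = n21794 := ndS (p := 7372) (l := 6) rfl N7372 D21794
theorem N11565 : nd 11565 = n21795 := ndS (p := 7373) (l := 1) rfl N7373 D21795
theorem N11566 : nd 11566 = n21796 := ndS (p := 7374) (l := 6) rfl N7374 D21796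
theorem N11567 : nd 11567 = n21797 := ndS (p := 7375) (l := 6) rfl N7375 D21797
theorem N11568 : nd 11568 = n21798 := ndS (p := 7376) (l := 5) rfl N7376 D21798
theorem N11569 : nd 11569 = n21799 := ndS (p := 7377) (l := 0) rfl N7377 D21799
theorem N11570 : nd 11570 = n21800 := ndS (p := 7377) (l := 2) rfl N7377 D21800
theorem N11571 : nd 11571 = n21801 := ndS (p := 7377) (l := 5) rfl N7377 D21801
theorem N11572 : nd 11572 = n21802 := ndS (p := 7378) (l := 3) rfl N7378 D21802
theorem N11573 : nd 11573 = n21803 := ndS (p := 7378) (l := 5) rfl N7378 D21803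
theorem N11574 : nd 11574 = n21804 := ndS (p := 7378) (l := 6) rfl N7378 D21804
theorem N11575 : nd 11575 = n21805 := ndS (p := 7379) (l := 4) rfl N7379 D21805
theorem N11576 : nd 11576 = n21806 := ndS (p := 7380) (l := 3) rfl N7380 D21806
theorem N11577 : nd 11577 = n21807 := ndS (p := 7380) (l := 5) rfl N7380 D21807
theorem N11578 : nd 11578 = n21808 := ndS (p := 7380) (l := 6) rfl N7380 D21808
theorem N11579 : nd 11579 = n21809 := ndS (p := 7381) (l := 2) rfl N7381 D21809
theorem N11580 : nd 11580 = n21810 := ndS (p := 7381) (l := 4) rfl N7381 D21810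
theorem N11581 : nd 11581 = n21811 := ndS (p := 7381) (l := 5) rfl N7381 D21811
theorem N11582 : nd 11582 = n21812 := ndS (p := 7381) (l := 6) rfl N7381 D21812
theorem N11583 : nd 11583 = n21813 := ndS (p := 7382) (l := 6) rfl N7382 D21813
theorem N11584 : nd 11584 = n21814 := ndS (p := 7383) (l := 5) rfl N7383 D21814
theorem N11585 : nd 11585 = n21815 := ndS (p := 7384) (l := 1) rfl N7384 D21815
theorem N11586 : nd 11586 = n21816 := ndS (p := 7384) (l := 4) rfl N7384 D21816
theorem N11587 : nd 11587 = n21817 := ndS (p := 7386) (l := 3) rfl N7386 D21817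
theorem N11588 : nd 11588 = n21818 := ndS (p := 7386) (l := 5) rfl N7386 D21818
theorem N11589 : nd 11589 = n21819 := ndS (p := 7386) (l := 6) rfl N7386 D21819
theorem N11590 : nd 11590 = n21820 := ndS (p := 7387) (l := 2) rfl N7387 D21820
theorem N11591 : nd 11591 = n21821 := ndS (p := 7387) (l := 4) rfl N7387 D21821
theorem N11592 : nd 11592 = n21822 := ndS (p := 7387) (l := 5) rfl N7387 D21822
theorem N11593 : nd 11593 = n21823 := ndS (p := 7387) (l := 6) rfl N7387 D21823
theorem N11594 : nd 11594 = n21824 := ndS (p := 7388) (l := 1) rfl N7388 D21824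
theorem N11595 : nd 11595 = n21825 := ndS (p := 7389) (l := 1) rfl N7389 D21825
theorem N11596 : nd 11596 = n21826 := ndS (p := 7390) (l := 3) rfl N7390 D21826
theorem N11597 : nd 11597 = n21827 := ndS (p := 7390) (l := 4) rfl N7390 D21827
theorem N11598 : nd 11598 = n21828 := ndS (p := 7390) (l := 5) rfl N7390 D21828
theorem N11599 : nd 11599 = n21829 := ndS (p := 7390) (l := 6) rfl N7390 D21829
theorem N11600 : nd 11600 = n21830 := ndS (p := 7391) (l := 5) rfl N7391 D21830
theorem N11601 : nd 11601 = n21831 := ndS (p := 7391) (l := 6) rfl N7391 D21831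
theorem N11602 : nd 11602 = n21832 := ndS (p := 7392) (l := 6) rfl N7392 D21832
theorem N11603 : nd 11603 = n21833 := ndS (p := 7393) (l := 5) rfl N7393 D21833
theorem N11604 : nd 11604 = n21834 := ndS (p := 7394) (l := 1) rfl N7394 D21834
theorem N11605 : nd 11605 = n21835 := ndS (p := 7395) (l := 1) rfl N7395 D21835
theorem N11606 : nd 11606 = n21836 := ndS (p := 7396) (l := 1) rfl N7396 D21836
theorem N11607 : nd 11607 = n21837 := ndS (p := 7396) (l := 4) rfl N7396 D21837
theorem N11608 : nd 11608 = n21838 := ndS (p := 7396) (l := 5) rfl N7396 D21838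
theorem N11609 : nd 11609 = n21839 := ndS (p := 7396) (l := 6) rfl N7396 D21839
theorem N11610 : nd 11610 = n21840 := ndS (p := 7397) (l := 5) rfl N7397 D21840
theorem N11611 : nd 11611 = n21841 := ndS (p := 7397) (l := 6) rfl N7397 D21841
theorem N11612 : nd 11612 = n21842 := ndS (p := 7398) (l := 6) rfl N7398 D21842
theorem N11613 : nd 11613 = n21843 := ndS (p := 7399) (l := 5) rfl N7399 D21843
theorem N11614 : nd 11614 = n21844 := ndS (p := 7400) (l := 5) rfl N7400 D21844
theorem N11615 : nd 11615 = n21845 := ndS (p := 7401) (l := 6) rfl N7401 D21845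
theorem N11616 : nd 11616 = n21846 := ndS (p := 7403) (l := 5) rfl N7403 D21846
theorem N11617 : nd 11617 = n21847 := ndS (p := 7404) (l := 1) rfl N7404 D21847
theorem N11618 : nd 11618 = n21848 := ndS (p := 7405) (l := 5) rfl N7405 D21848
theorem N11619 : nd 11619 = n21849 := ndS (p := 7406) (l := 5) rfl N7406 D21849
theorem N11620 : nd 11620 = n21850 := ndS (p := 7407) (l := 6) rfl N7407 D21850
theorem N11621 : nd 11621 = n21851 := ndS (p := 7408) (l := 0) rfl N7408 D21851
theorem N11622 : nd 11622 = n21852 := ndS (p := 7408) (l := 2) rfl N7408 D21852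
theorem N11623 : nd 11623 = n21853 := ndS (p := 7408) (l := 6) rfl N7408 D21853
theorem N11624 : nd 11624 = n21854 := ndS (p := 7409) (l := 3) rfl N7409 D21854
theorem N11625 : nd 11625 = n21855 := ndS (p := 7409) (l := 5) rfl N7409 D21855
theorem N11626 : nd 11626 = n21856 := ndS (p := 7409) (l := 6) rfl N7409 D21856
theorem N11627 : nd 11627 = n21857 := ndS (p := 7410) (l := 4) rfl N7410 D21857
theorem N11628 : nd 11628 = n21858 := ndS (p := 7411) (l := 3) rfl N7411 D21858
theorem N11629 : nd 11629 = n21859 := ndS (p := 7411) (l := 5) rfl N7411 D21859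
theorem N11630 : nd 11630 = n21860 := ndS (p := 7411) (l := 6) rfl N7411 D21860
theorem N11631 : nd 11631 = n21861 := ndS (p := 7412) (l := 2) rfl N7412 D21861
theorem N11632 : nd 11632 = n21862 := ndS (p := 7412) (l := 4) rfl N7412 D21862
theorem N11633 : nd 11633 = n21863 := ndS (p := 7412) (l := 5) rfl N7412 D21863
theorem N11634 : nd 11634 = n21864 := ndS (p := 7412) (l := 6) rfl N7412 D21864
theorem N11635 : nd 11635 = n21865 := ndS (p := 7413) (l := 6) rfl N7413 D21865
theorem N11636 : nd 11636 = n21866 := ndS (p := 7414) (l := 5) rfl N7414 D21866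
theorem N11637 : nd 11637 = n21867 := ndS (p := 7415) (l := 1) rfl N7415 D21867
theorem N11638 : nd 11638 = n21868 := ndS (p := 7415) (l := 4) rfl N7415 D21868
theorem N11639 : nd 11639 = n21869 := ndS (p := 7417) (l := 3) rfl N7417 D21869
theorem N11640 : nd 11640 = n21870 := ndS (p := 7417) (l := 5) rfl N7417 D21870
theorem N11641 : nd 11641 = n21871 := ndS (p := 7417) (l := 6) rfl N7417 D21871
theorem N11642 : nd 11642 = n21872 := ndS (p := 7418) (l := 2) rfl N7418 D21872
theorem N11643 : nd 11643 = n21873 := ndS (p := 7418) (l := 4) rfl N7418 D21873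
theorem N11644 : nd 11644 = n21874 := ndS (p := 7418) (l := 5) rfl N7418 D21874
theorem N11645 : nd 11645 = n21875 := ndS (p := 7418) (l := 6) rfl N7418 D21875
theorem N11646 : nd 11646 = n21876 := ndS (p := 7419) (l := 1) rfl N7419 D21876
theorem N11647 : nd 11647 = n21877 := ndS (p := 7420) (l := 1) rfl N7420 D21877
theorem N11648 : nd 11648 = n21878 := ndS (p := 7421) (l := 3) rfl N7421 D21878
theorem N11649 : nd 11649 = n21879 := ndS (p := 7421) (l := 4) rfl N7421 D21879
theorem N11650 : nd 11650 = n21880 := ndS (p := 7421) (l := 5) rfl N7421 D21880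
theorem N11651 : nd 11651 = n21881 := ndS (p := 7421) (l := 6) rfl N7421 D21881
theorem N11652 : nd 11652 = n21882 := ndS (p := 7422) (l := 5) rfl N7422 D21882
theorem N11653 : nd 11653 = n21883 := ndS (p := 7422) (l := 6) rfl N7422 D21883
theorem N11654 : nd 11654 = n21884 := ndS (p := 7423) (l := 6) rfl N7423 D21884
theorem N11655 : nd 11655 = n21885 := ndS (p := 7424) (l := 5) rfl N7424 D21885
theorem N11656 : nd 11656 = n21886 := ndS (p := 7425) (l := 1) rfl N7425 D21886
theorem N11657 : nd 11657 = n21887 := ndS (p := 7426) (l := 1) rfl N7426 D21887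
theorem N11658 : nd 11658 = n21888 := ndS (p := 7427) (l := 1) rfl N7427 D21888
theorem N11659 : nd 11659 = n21889 := ndS (p := 7427) (l := 4) rfl N7427 D21889
theorem N11660 : nd 11660 = n21890 := ndS (p := 7427) (l := 5) rfl N7427 D21890
theorem N11661 : nd 11661 = n21891 := ndS (p := 7427) (l := 6) rfl N7427 D21891
theorem N11662 : nd 11662 = n21892 := ndS (p := 7428) (l := 5) rfl N7428 D21892
theorem N11663 : nd 11663 = n21893 := ndS (p := 7428) (l := 6) rfl N7428 D21893
theorem N11664 : nd 11664 = n21894 := ndS (p := 7429) (l := 6) rfl N7429 D21894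
theorem N11665 : nd 11665 = n21895 := ndS (p := 7430) (l := 5) rfl N7430 D21895
theorem N11666 : nd 11666 = n21896 := ndS (p := 7431) (l := 2) rfl N7431 D21896
theorem N11667 : nd 11667 = n21897 := ndS (p := 7432) (l := 1) rfl N7432 D21897
theorem N11668 : nd 11668 = n21898 := ndS (p := 7433) (l := 0) rfl N7433 D21898
theorem N11669 : nd 11669 = n21899 := ndS (p := 7433) (l := 3) rfl N7433 D21899
theorem N11670 : nd 11670 = n21900 := ndS (p := 7433) (l := 5) rfl N7433 D21900
theorem N11671 : nd 11671 = n21901 := ndS (p := 7433) (l := 6) rfl N7433 D21901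
theorem N11672 : nd 11672 = n21902 := ndS (p := 7434) (l := 4) rfl N7434 D21902
theorem N11673 : nd 11673 = n21903 := ndS (p := 7435) (l := 2) rfl N7435 D21903
theorem N11674 : nd 11674 = n21904 := ndS (p := 7436) (l := 1) rfl N7436 D21904
theorem N11675 : nd 11675 = n21905 := ndS (p := 7437) (l := 0) rfl N7437 D21905
theorem N11676 : nd 11676 = n21906 := ndS (p := 7437) (l := 3) rfl N7437 D21906
theorem N11677 : nd 11677 = n21907 := ndS (p := 7437) (l := 5) rfl N7437 D21907
theorem N11678 : nd 11678 = n21908 := ndS (p := 7437) (l := 6) rfl N7437 D21908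
theorem N11679 : nd 11679 = n21909 := ndS (p := 7438) (l := 4) rfl N7438 D21909
theorem N11680 : nd 11680 = n21910 := ndS (p := 7442) (l := 6) rfl N7442 D21910
theorem N11681 : nd 11681 = n21911 := ndS (p := 7444) (l := 5) rfl N7444 D21911
theorem N11682 : nd 11682 = n21912 := ndS (p := 7447) (l := 4) rfl N7447 D21912
theorem N11683 : nd 11683 = n21913 := ndS (p := 7447) (l := 6) rfl N7447 D21913
theorem N11684 : nd 11684 = n21914 := ndS (p := 7448) (l := 1) rfl N7448 D21914
theorem N11685 : nd 11685 = n21915 := ndS (p := 7450) (l := 4) rfl N7450 D21915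
theorem N11686 : nd 11686 = n21916 := ndS (p := 7450) (l := 5) rfl N7450 D21916
theorem N11687 : nd 11687 = n21917 := ndS (p := 7451) (l := 1) rfl N7451 D21917
theorem N11688 : nd 11688 = n21918 := ndS (p := 7453) (l := 3) rfl N7453 D21918
theorem N11689 : nd 11689 = n21919 := ndS (p := 7457) (l := 6) rfl N7457 D21919
theorem N11690 : nd 11690 = n21920 := ndS (p := 7458) (l := 5) rfl N7458 D21920
theorem N11691 : nd 11691 = n21921 := ndS (p := 7459) (l := 1) rfl N7459 D21921
theorem N11692 : nd 11692 = n21922 := ndS (p := 7460) (l := 1) rfl N7460 D21922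
theorem N11693 : nd 11693 = n21923 := ndS (p := 7469) (l := 4) rfl N7469 D21923
theorem N11694 : nd 11694 = n21924 := ndS (p := 7469) (l := 6) rfl N7469 D21924
theorem N11695 : nd 11695 = n21925 := ndS (p := 7474) (l := 4) rfl N7474 D21925
theorem N11696 : nd 11696 = n21926 := ndS (p := 7474) (l := 5) rfl N7474 D21926
theorem N11697 : nd 11697 = n21927 := ndS (p := 7480) (l := 4) rfl N7480 D21927
theorem N11698 : nd 11698 = n21928 := ndS (p := 7481) (l := 6) rfl N7481 D21928
theorem N11699 : nd 11699 = n21929 := ndS (p := 7484) (l := 3) rfl N7484 D21929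
theorem N11700 : nd 11700 = n21930 := ndS (p := 7485) (l := 2) rfl N7485 D21930
theorem N11701 : nd 11701 = n21931 := ndS (p := 7485) (l := 4) rfl N7485 D21931
theorem N11702 : nd 11702 = n21932 := ndS (p := 7485) (l := 5) rfl N7485 D21932
theorem N11703 : nd 11703 = n21933 := ndS (p := 7489) (l := 4) rfl N7489 D21933
theorem N11704 : nd 11704 = n21934 := ndS (p := 7490) (l := 5) rfl N7490 D21934
theorem N11705 : nd 11705 = n21935 := ndS (p := 7493) (l := 3) rfl N7493 D21935
theorem N11706 : nd 11706 = n21936 := ndS (p := 7494) (l := 2) rfl N7494 D21936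
theorem N11707 : nd 11707 = n21937 := ndS (p := 7494) (l := 4) rfl N7494 D21937
theorem N11708 : nd 11708 = n21938 := ndS (p := 7494) (l := 6) rfl N7494 D21938
theorem N11709 : nd 11709 = n21939 := ndS (p := 7500) (l := 6) rfl N7500 D21939
theorem N11710 : nd 11710 = n21940 := ndS (p := 7502) (l := 6) rfl N7502 D21940
theorem N11711 : nd 11711 = n21941 := ndS (p := 7503) (l := 1) rfl N7503 D21941
theorem N11712 : nd 11712 = n21942 := ndS (p := 7504) (l := 2) rfl N7504 D21942
theorem N11713 : nd 11713 = n21943 := ndS (p := 7506) (l := 1) rfl N7506 D21943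
theorem N11714 : nd 11714 = n21944 := ndS (p := 7506) (l := 5) rfl N7506 D21944
theorem N11715 : nd 11715 = n21945 := ndS (p := 7507) (l := 2) rfl N7507 D21945
theorem N11716 : nd 11716 = n21946 := ndS (p := 7507) (l := 5) rfl N7507 D21946
theorem N11717 : nd 11717 = n21947 := ndS (p := 7508) (l := 1) rfl N7508 D21947
theorem N11718 : nd 11718 = n21948 := ndS (p := 7514) (l := 5) rfl N7514 D21948
theorem N11719 : nd 11719 = n21949 := ndS (p := 7516) (l := 5) rfl N7516 D21949
theorem N11720 : nd 11720 = n21950 := ndS (p := 7517) (l := 1) rfl N7517 D21950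
theorem N11721 : nd 11721 = n21951 := ndS (p := 7518) (l := 2) rfl N7518 D21951
theorem N11722 : nd 11722 = n21952 := ndS (p := 7520) (l := 1) rfl N7520 D21952
theorem N11723 : nd 11723 = n21953 := ndS (p := 7520) (l := 6) rfl N7520 D21953
theorem N11724 : nd 11724 = n21954 := ndS (p := 7521) (l := 2) rfl N7521 D21954
theorem N11725 : nd 11725 = n21955 := ndS (p := 7521) (l := 6) rfl N7521 D21955
theorem N11726 : nd 11726 = n21956 := ndS (p := 7522) (l := 1) rfl N7522 D21956
theorem N11727 : nd 11727 = n21957 := ndS (p := 7529) (l := 6) rfl N7529 D21957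
theorem N11728 : nd 11728 = n21958 := ndS (p := 7532) (l := 4) rfl N7532 D21958
theorem N11729 : nd 11729 = n21959 := ndS (p := 7533) (l := 5) rfl N7533 D21959
theorem N11730 : nd 11730 = n21960 := ndS (p := 7533) (l := 6) rfl N7533 D21960
theorem N11731 : nd 11731 = n21961 := ndS (p := 7534) (l := 6) rfl N7534 D21961
theorem N11732 : nd 11732 = n21962 := ndS (p := 7536) (l := 1) rfl N7536 D21962
theorem N11733 : nd 11733 = n21964 := ndS (p := 7539) (l := 2) rfl N7539 D21964
theorem N11734 : nd 11734 = n21965 := ndS (p := 7541) (l := 5) rfl N7541 D21965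
theorem N11735 : nd 11735 = n21966 := ndS (p := 7542) (l := 3) rfl N7542 D21966
theorem N11736 : nd 11736 = n21967 := ndS (p := 7542) (l := 5) rfl N7542 D21967
theorem N11737 : nd 11737 = n21968 := ndS (p := 7544) (l := 2) rfl N7544 D21968
theorem N11738 : nd 11738 = n21969 := ndS (p := 7544) (l := 4) rfl N7544 D21969
theorem N11739 : nd 11739 = n21970 := ndS (p := 7544) (l := 5) rfl N7544 D21970
theorem N11740 : nd 11740 = n21971 := ndS (p := 7545) (l := 1) rfl N7545 D21971
theorem N11741 : nd 11741 = n21972 := ndS (p := 7548) (l := 3) rfl N7548 D21972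
theorem N11742 : nd 11742 = n21973 := ndS (p := 7548) (l := 5) rfl N7548 D21973
theorem N11743 : nd 11743 = n21974 := ndS (p := 7548) (l := 6) rfl N7548 D21974
theorem N11744 : nd 11744 = n21975 := ndS (p := 7549) (l := 2) rfl N7549 D21975
theorem N11745 : nd 11745 = n21976 := ndS (p := 7549) (l := 4) rfl N7549 D21976
theorem N11746 : nd 11746 = n21977 := ndS (p := 7550) (l := 5) rfl N7550 D21977
theorem N11747 : nd 11747 = n21978 := ndS (p := 7551) (l := 5) rfl N7551 D21978
theorem N11748 : nd 11748 = n21979 := ndS (p := 7552) (l := 1) rfl N7552 D21979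
theorem N11749 : nd 11749 = n21980 := ndS (p := 7553) (l := 0) rfl N7553 D21980
theorem N11750 : nd 11750 = n21981 := ndS (p := 7555) (l := 1) rfl N7555 D21981
theorem N11751 : nd 11751 = n21982 := ndS (p := 7555) (l := 3) rfl N7555 D21982
theorem N11752 : nd 11752 = n21983 := ndS (p := 7555) (l := 6) rfl N7555 D21983
theorem N11753 : nd 11753 = n21984 := ndS (p := 7556) (l := 4) rfl N7556 D21984
theorem N11754 : nd 11754 = n21985 := ndS (p := 7556) (l := 5) rfl N7556 D21985
theorem N11755 : nd 11755 = n21986 := ndS (p := 7557) (l := 1) rfl N7557 D21986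
theorem N11756 : nd 11756 = n21987 := ndS (p := 7559) (l := 5) rfl N7559 D21987
theorem N11757 : nd 11757 = n21988 := ndS (p := 7560) (l := 5) rfl N7560 D21988
theorem N11758 : nd 11758 = n21989 := ndS (p := 7561) (l := 1) rfl N7561 D21989
theorem N11759 : nd 11759 = n21990 := ndS (p := 7562) (l := 0) rfl N7562 D21990
theorem N11760 : nd 11760 = n21991 := ndS (p := 7562) (l := 6) rfl N7562 D21991
theorem N11761 : nd 11761 = n21992 := ndS (p := 7563) (l := 6) rfl N7563 D21992
theorem N11762 : nd 11762 = n21993 := ndS (p := 7564) (l := 1) rfl N7564 D21993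
theorem N11763 : nd 11763 = n21994 := ndS (p := 7564) (l := 6) rfl N7564 D21994
theorem N11764 : nd 11764 = n21995 := ndS (p := 7565) (l := 2) rfl N7565 D21995
theorem N11765 : nd 11765 = n21996 := ndS (p := 7565) (l := 6) rfl N7565 D21996
theorem N11766 : nd 11766 = n21997 := ndS (p := 7566) (l := 1) rfl N7566 D21997
theorem N11767 : nd 11767 = n21998 := ndS (p := 7567) (l := 1) rfl N7567 D21998
theorem N11768 : nd 11768 = n21999 := ndS (p := 7568) (l := 0) rfl N7568 D21999
theorem N11769 : nd 11769 = n22000 := ndS (p := 7568) (l := 2) rfl N7568 D22000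
theorem N11770 : nd 11770 = n22001 := ndS (p := 7574) (l := 5) rfl N7574 D22001
theorem N11771 : nd 11771 = n22002 := ndS (p := 7577) (l := 4) rfl N7577 D22002
theorem N11772 : nd 11772 = n22003 := ndS (p := 7578) (l := 5) rfl N7578 D22003
theorem N11773 : nd 11773 = n22004 := ndS (p := 7578) (l := 6) rfl N7578 D22004
theorem N11774 : nd 11774 = n22005 := ndS (p := 7580) (l := 5) rfl N7580 D22005
theorem N11775 : nd 11775 = n22007 := ndS (p := 7582) (l := 1) rfl N7582 D22007
theorem N11776 : nd 11776 = n22008 := ndS (p := 7584) (l := 2) rfl N7584 D22008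
theorem N11777 : nd 11777 = n22009 := ndS (p := 7586) (l := 6) rfl N7586 D22009
theorem N11778 : nd 11778 = n22010 := ndS (p := 7587) (l := 3) rfl N7587 D22010
theorem N11779 : nd 11779 = n22011 := ndS (p := 7587) (l := 6) rfl N7587 D22011
theorem N11780 : nd 11780 = n22012 := ndS (p := 7589) (l := 2) rfl N7589 D22012
theorem N11781 : nd 11781 = n22013 := ndS (p := 7589) (l := 4) rfl N7589 D22013
theorem N11782 : nd 11782 = n22014 := ndS (p := 7589) (l := 6) rfl N7589 D22014
theorem N11783 : nd 11783 = n22015 := ndS (p := 7590) (l := 1) rfl N7590 D22015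
theorem N11784 : nd 11784 = n22016 := ndS (p := 7593) (l := 3) rfl N7593 D22016
theorem N11785 : nd 11785 = n22017 := ndS (p := 7593) (l := 5) rfl N7593 D22017
theorem N11786 : nd 11786 = n22018 := ndS (p := 7593) (l := 6) rfl N7593 D22018
theorem N11787 : nd 11787 = n22019 := ndS (p := 7594) (l := 2) rfl N7594 D22019
theorem N11788 : nd 11788 = n22020 := ndS (p := 7594) (l := 4) rfl N7594 D22020
theorem N11789 : nd 11789 = n22021 := ndS (p := 7595) (l := 6) rfl N7595 D22021
theorem N11790 : nd 11790 = n22022 := ndS (p := 7596) (l := 6) rfl N7596 D22022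
theorem N11791 : nd 11791 = n22023 := ndS (p := 7597) (l := 1) rfl N7597 D22023
theorem N11792 : nd 11792 = n22024 := ndS (p := 7598) (l := 0) rfl N7598 D22024
theorem N11793 : nd 11793 = n22025 := ndS (p := 7600) (l := 1) rfl N7600 D22025
theorem N11794 : nd 11794 = n22026 := ndS (p := 7600) (l := 3) rfl N7600 D22026
theorem N11795 : nd 11795 = n22027 := ndS (p := 7600) (l := 5) rfl N7600 D22027
theorem N11796 : nd 11796 = n22028 := ndS (p := 7601) (l := 4) rfl N7601 D22028
theorem N11797 : nd 11797 = n22029 := ndS (p := 7601) (l := 6) rfl N7601 D22029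
theorem N11798 : nd 11798 = n22030 := ndS (p := 7603) (l := 1) rfl N7603 D22030
theorem N11799 : nd 11799 = n22031 := ndS (p := 7604) (l := 6) rfl N7604 D22031
theorem N11800 : nd 11800 = n22032 := ndS (p := 7605) (l := 6) rfl N7605 D22032
theorem N11801 : nd 11801 = n22033 := ndS (p := 7606) (l := 1) rfl N7606 D22033
theorem N11802 : nd 11802 = n22034 := ndS (p := 7607) (l := 0) rfl N7607 D22034
theorem N11803 : nd 11803 = n22035 := ndS (p := 7607) (l := 5) rfl N7607 D22035
theorem N11804 : nd 11804 = n22036 := ndS (p := 7608) (l := 5) rfl N7608 D22036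
theorem N11805 : nd 11805 = n22037 := ndS (p := 7609) (l := 1) rfl N7609 D22037
theorem N11806 : nd 11806 = n22038 := ndS (p := 7609) (l := 5) rfl N7609 D22038
theorem N11807 : nd 11807 = n22039 := ndS (p := 7610) (l := 2) rfl N7610 D22039
theorem N11808 : nd 11808 = n22040 := ndS (p := 7610) (l := 5) rfl N7610 D22040
theorem N11809 : nd 11809 = n22041 := ndS (p := 7611) (l := 1) rfl N7611 D22041
theorem N11810 : nd 11810 = n22042 := ndS (p := 7612) (l := 1) rfl N7612 D22042
theorem N11811 : nd 11811 = n22043 := ndS (p := 7613) (l := 0) rfl N7613 D22043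
theorem N11812 : nd 11812 = n22044 := ndS (p := 7613) (l := 2) rfl N7613 D22044
theorem N11813 : nd 11813 = n22045 := ndS (p := 7615) (l := 3) rfl N7615 D22045
theorem N11814 : nd 11814 = n22046 := ndS (p := 7617) (l := 0) rfl N7617 D22046
theorem N11815 : nd 11815 = n22047 := ndS (p := 7617) (l := 2) rfl N7617 D22047
theorem N11816 : nd 11816 = n22048 := ndS (p := 7617) (l := 5) rfl N7617 D22048
theorem N11817 : nd 11817 = n22049 := ndS (p := 7619) (l := 1) rfl N7619 D22049
theorem N11818 : nd 11818 = n22050 := ndS (p := 7620) (l := 0) rfl N7620 D22050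
theorem N11819 : nd 11819 = n22051 := ndS (p := 7620) (l := 2) rfl N7620 D22051
theorem N11820 : nd 11820 = n22052 := ndS (p := 7620) (l := 5) rfl N7620 D22052
theorem N11821 : nd 11821 = n22053 := ndS (p := 7621) (l := 1) rfl N7621 D22053
theorem N11822 : nd 11822 = n22054 := ndS (p := 7622) (l := 0) rfl N7622 D22054
theorem N11823 : nd 11823 = n22055 := ndS (p := 7622) (l := 2) rfl N7622 D22055
theorem N11824 : nd 11824 = n22056 := ndS (p := 7622) (l := 5) rfl N7622 D22056
theorem N11825 : nd 11825 = n22057 := ndS (p := 7623) (l := 1) rfl N7623 D22057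
theorem N11826 : nd 11826 = n22058 := ndS (p := 7623) (l := 2) rfl N7623 D22058
theorem N11827 : nd 11827 = n22059 := ndS (p := 7623) (l := 5) rfl N7623 D22059
theorem N11828 : nd 11828 = n22060 := ndS (p := 7624) (l := 3) rfl N7624 D22060
theorem N11829 : nd 11829 = n22061 := ndS (p := 7624) (l := 5) rfl N7624 D22061
theorem N11830 : nd 11830 = n22062 := ndS (p := 7625) (l := 6) rfl N7625 D22062
theorem N11831 : nd 11831 = n22063 := ndS (p := 7626) (l := 2) rfl N7626 D22063
theorem N11832 : nd 11832 = n22064 := ndS (p := 7626) (l := 6) rfl N7626 D22064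
theorem N11833 : nd 11833 = n22065 := ndS (p := 7628) (l := 3) rfl N7628 D22065
theorem N11834 : nd 11834 = n22066 := ndS (p := 7629) (l := 2) rfl N7629 D22066
theorem N11835 : nd 11835 = n22067 := ndS (p := 7629) (l := 4) rfl N7629 D22067
theorem N11836 : nd 11836 = n22068 := ndS (p := 7629) (l := 5) rfl N7629 D22068
theorem N11837 : nd 11837 = n22069 := ndS (p := 7630) (l := 1) rfl N7630 D22069
theorem N11838 : nd 11838 = n22070 := ndS (p := 7631) (l := 3) rfl N7631 D22070
theorem N11839 : nd 11839 = n22071 := ndS (p := 7632) (l := 5) rfl N7632 D22071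
theorem N11840 : nd 11840 = n22072 := ndS (p := 7632) (l := 6) rfl N7632 D22072
theorem N11841 : nd 11841 = n22073 := ndS (p := 7633) (l := 5) rfl N7633 D22073
theorem N11842 : nd 11842 = n22074 := ndS (p := 7633) (l := 6) rfl N7633 D22074
theorem N11843 : nd 11843 = n22075 := ndS (p := 7635) (l := 1) rfl N7635 D22075
theorem N11844 : nd 11844 = n22076 := ndS (p := 7636) (l := 0) rfl N7636 D22076
theorem N11845 : nd 11845 = n22077 := ndS (p := 7636) (l := 2) rfl N7636 D22077
theorem N11846 : nd 11846 = n22078 := ndS (p := 7636) (l := 5) rfl N7636 D22078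
theorem N11847 : nd 11847 = n22079 := ndS (p := 7638) (l := 6) rfl N7638 D22079
theorem N11848 : nd 11848 = n22080 := ndS (p := 7639) (l := 5) rfl N7639 D22080
theorem N11849 : nd 11849 = n22081 := ndS (p := 7639) (l := 6) rfl N7639 D22081
theorem N11850 : nd 11850 = n22082 := ndS (p := 7640) (l := 6) rfl N7640 D22082
theorem N11851 : nd 11851 = n22083 := ndS (p := 7641) (l := 5) rfl N7641 D22083
theorem N11852 : nd 11852 = n22084 := ndS (p := 7642) (l := 6) rfl N7642 D22084
theorem N11853 : nd 11853 = n22085 := ndS (p := 7643) (l := 1) rfl N7643 D22085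
theorem N11854 : nd 11854 = n22086 := ndS (p := 7643) (l := 5) rfl N7643 D22086
theorem N11855 : nd 11855 = n22087 := ndS (p := 7644) (l := 1) rfl N7644 D22087
theorem N11856 : nd 11856 = n22088 := ndS (p := 7645) (l := 0) rfl N7645 D22088
theorem N11857 : nd 11857 = n22089 := ndS (p := 7647) (l := 2) rfl N7647 D22089
theorem N11858 : nd 11858 = n22090 := ndS (p := 7648) (l := 1) rfl N7648 D22090
theorem N11859 : nd 11859 = n22091 := ndS (p := 7648) (l := 2) rfl N7648 D22091
theorem N11860 : nd 11860 = n22092 := ndS (p := 7649) (l := 3) rfl N7649 D22092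
theorem N11861 : nd 11861 = n22093 := ndS (p := 7651) (l := 0) rfl N7651 D22093
theorem N11862 : nd 11862 = n22094 := ndS (p := 7651) (l := 5) rfl N7651 D22094
theorem N11863 : nd 11863 = n22095 := ndS (p := 7652) (l := 1) rfl N7652 D22095
theorem N11864 : nd 11864 = n22096 := ndS (p := 7652) (l := 5) rfl N7652 D22096
theorem N11865 : nd 11865 = n22097 := ndS (p := 7653) (l := 6) rfl N7653 D22097
theorem N11866 : nd 11866 = n22098 := ndS (p := 7654) (l := 2) rfl N7654 D22098
theorem N11867 : nd 11867 = n22099 := ndS (p := 7655) (l := 1) rfl N7655 D22099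
theorem N11868 : nd 11868 = n22100 := ndS (p := 7655) (l := 3) rfl N7655 D22100
theorem N11869 : nd 11869 = n22101 := ndS (p := 7655) (l := 5) rfl N7655 D22101
theorem N11870 : nd 11870 = n22102 := ndS (p := 7657) (l := 2) rfl N7657 D22102
theorem N11871 : nd 11871 = n22103 := ndS (p := 7657) (l := 4) rfl N7657 D22103
theorem N11872 : nd 11872 = n22104 := ndS (p := 7660) (l := 3) rfl N7660 D22104
theorem N11873 : nd 11873 = n22105 := ndS (p := 7662) (l := 2) rfl N7662 D22105
theorem N11874 : nd 11874 = n22106 := ndS (p := 7662) (l := 4) rfl N7662 D22106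
theorem N11875 : nd 11875 = n22107 := ndS (p := 7662) (l := 5) rfl N7662 D22107
theorem N11876 : nd 11876 = n22108 := ndS (p := 7663) (l := 1) rfl N7663 D22108
theorem N11877 : nd 11877 = n22109 := ndS (p := 7664) (l := 1) rfl N7664 D22109
theorem N11878 : nd 11878 = n22110 := ndS (p := 7664) (l := 3) rfl N7664 D22110
theorem N11879 : nd 11879 = n22111 := ndS (p := 7664) (l := 4) rfl N7664 D22111
theorem N11880 : nd 11880 = n22112 := ndS (p := 7665) (l := 5) rfl N7665 D22112
theorem N11881 : nd 11881 = n22113 := ndS (p := 7667) (l := 0) rfl N7667 D22113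
theorem N11882 : nd 11882 = n22114 := ndS (p := 7667) (l := 6) rfl N7667 D22114
theorem N11883 : nd 11883 = n22115 := ndS (p := 7668) (l := 6) rfl N7668 D22115
theorem N11884 : nd 11884 = n22116 := ndS (p := 7669) (l := 1) rfl N7669 D22116
theorem N11885 : nd 11885 = n22117 := ndS (p := 7670) (l := 2) rfl N7670 D22117
theorem N11886 : nd 11886 = n22118 := ndS (p := 7670) (l := 5) rfl N7670 D22118
theorem N11887 : nd 11887 = n22119 := ndS (p := 7672) (l := 2) rfl N7672 D22119
theorem N11888 : nd 11888 = n22120 := ndS (p := 7672) (l := 5) rfl N7672 D22120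
theorem N11889 : nd 11889 = n22121 := ndS (p := 7673) (l := 1) rfl N7673 D22121
theorem N11890 : nd 11890 = n22122 := ndS (p := 7674) (l := 2) rfl N7674 D22122
theorem N11891 : nd 11891 = n22123 := ndS (p := 7675) (l := 5) rfl N7675 D22123
theorem N11892 : nd 11892 = n22124 := ndS (p := 7677) (l := 2) rfl N7677 D22124
theorem N11893 : nd 11893 = n22125 := ndS (p := 7678) (l := 1) rfl N7678 D22125
theorem N11894 : nd 11894 = n22126 := ndS (p := 7680) (l := 1) rfl N7680 D22126
theorem N11895 : nd 11895 = n22127 := ndS (p := 7681) (l := 0) rfl N7681 D22127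
theorem N11896 : nd 11896 = n22128 := ndS (p := 7681) (l := 2) rfl N7681 D22128
theorem N11897 : nd 11897 = n22129 := ndS (p := 7681) (l := 6) rfl N7681 D22129
theorem N11898 : nd 11898 = n22130 := ndS (p := 7682) (l := 0) rfl N7682 D22130
theorem N11899 : nd 11899 = n22131 := ndS (p := 7682) (l := 2) rfl N7682 D22131
theorem N11900 : nd 11900 = n22132 := ndS (p := 7682) (l := 5) rfl N7682 D22132
theorem N11901 : nd 11901 = n22133 := ndS (p := 7682) (l := 6) rfl N7682 D22133
theorem N11902 : nd 11902 = n22134 := ndS (p := 7683) (l := 0) rfl N7683 D22134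
theorem N11903 : nd 11903 = n22135 := ndS (p := 7683) (l := 2) rfl N7683 D22135
theorem N11904 : nd 11904 = n22136 := ndS (p := 7684) (l := 6) rfl N7684 D22136
theorem N11905 : nd 11905 = n22137 := ndS (p := 7687) (l := 2) rfl N7687 D22137
theorem N11906 : nd 11906 = n22138 := ndS (p := 7689) (l := 6) rfl N7689 D22138
theorem N11907 : nd 11907 = n22139 := ndS (p := 7691) (l := 0) rfl N7691 D22139
theorem N11908 : nd 11908 = n22140 := ndS (p := 7691) (l := 3) rfl N7691 D22140
theorem N11909 : nd 11909 = n22141 := ndS (p := 7691) (l := 5) rfl N7691 D22141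
theorem N11910 : nd 11910 = n22142 := ndS (p := 7692) (l := 4) rfl N7692 D22142
theorem N11911 : nd 11911 = n22143 := ndS (p := 7693) (l := 1) rfl N7693 D22143
theorem N11912 : nd 11912 = n22144 := ndS (p := 7693) (l := 4) rfl N7693 D22144
theorem N11913 : nd 11913 = n22145 := ndS (p := 7695) (l := 0) rfl N7695 D22145
theorem N11914 : nd 11914 = n22146 := ndS (p := 7695) (l := 2) rfl N7695 D22146
theorem N11915 : nd 11915 = n22147 := ndS (p := 7695) (l := 6) rfl N7695 D22147
theorem N11916 : nd 11916 = n22148 := ndS (p := 7696) (l := 2) rfl N7696 D22148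
theorem N11917 : nd 11917 = n22149 := ndS (p := 7697) (l := 3) rfl N7697 D22149
theorem N11918 : nd 11918 = n22150 := ndS (p := 7698) (l := 6) rfl N7698 D22150
theorem N11919 : nd 11919 = n22151 := ndS (p := 7700) (l := 2) rfl N7700 D22151
theorem N11920 : nd 11920 = n22152 := ndS (p := 7700) (l := 4) rfl N7700 D22152
theorem N11921 : nd 11921 = n22153 := ndS (p := 7700) (l := 6) rfl N7700 D22153
theorem N11922 : nd 11922 = n22154 := ndS (p := 7701) (l := 1) rfl N7701 D22154
theorem N11923 : nd 11923 = n22155 := ndS (p := 7701) (l := 5) rfl N7701 D22155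
theorem N11924 : nd 11924 = n22156 := ndS (p := 7702) (l := 1) rfl N7702 D22156
theorem N11925 : nd 11925 = n22157 := ndS (p := 7703) (l := 3) rfl N7703 D22157
theorem N11926 : nd 11926 = n22158 := ndS (p := 7704) (l := 0) rfl N7704 D22158
theorem N11927 : nd 11927 = n22159 := ndS (p := 7704) (l := 3) rfl N7704 D22159
theorem N11928 : nd 11928 = n22160 := ndS (p := 7704) (l := 5) rfl N7704 D22160
theorem N11929 : nd 11929 = n22161 := ndS (p := 7704) (l := 6) rfl N7704 D22161
theorem N11930 : nd 11930 = n22162 := ndS (p := 7705) (l := 4) rfl N7705 D22162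
theorem N11931 : nd 11931 = n22163 := ndS (p := 7707) (l := 1) rfl N7707 D22163
theorem N11932 : nd 11932 = n22164 := ndS (p := 7708) (l := 3) rfl N7708 D22164
theorem N11933 : nd 11933 = n22165 := ndS (p := 7708) (l := 6) rfl N7708 D22165
theorem N11934 : nd 11934 = n22166 := ndS (p := 7709) (l := 2) rfl N7709 D22166
theorem N11935 : nd 11935 = n22167 := ndS (p := 7709) (l := 4) rfl N7709 D22167
theorem N11936 : nd 11936 = n22168 := ndS (p := 7709) (l := 5) rfl N7709 D22168
theorem N11937 : nd 11937 = n22169 := ndS (p := 7709) (l := 6) rfl N7709 D22169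
theorem N11938 : nd 11938 = n22170 := ndS (p := 7710) (l := 6) rfl N7710 D22170
theorem N11939 : nd 11939 = n22171 := ndS (p := 7712) (l := 4) rfl N7712 D22171
theorem N11940 : nd 11940 = n22172 := ndS (p := 7714) (l := 0) rfl N7714 D22172
theorem N11941 : nd 11941 = n22173 := ndS (p := 7714) (l := 4) rfl N7714 D22173
theorem N11942 : nd 11942 = n22174 := ndS (p := 7714) (l := 5) rfl N7714 D22174
theorem N11943 : nd 11943 = n22175 := ndS (p := 7714) (l := 6) rfl N7714 D22175
theorem N11944 : nd 11944 = n22176 := ndS (p := 7715) (l := 4) rfl N7715 D22176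
theorem N11945 : nd 11945 = n22177 := ndS (p := 7716) (l := 3) rfl N7716 D22177
theorem N11946 : nd 11946 = n22178 := ndS (p := 7716) (l := 5) rfl N7716 D22178
theorem N11947 : nd 11947 = n22179 := ndS (p := 7717) (l := 1) rfl N7717 D22179
theorem N11948 : nd 11948 = n22180 := ndS (p := 7718) (l := 1) rfl N7718 D22180
theorem N11949 : nd 11949 = n22181 := ndS (p := 7719) (l := 0) rfl N7719 D22181
theorem N11950 : nd 11950 = n22182 := ndS (p := 7719) (l := 6) rfl N7719 D22182
theorem N11951 : nd 11951 = n22183 := ndS (p := 7720) (l := 1) rfl N7720 D22183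
theorem N11952 : nd 11952 = n22184 := ndS (p := 7720) (l := 2) rfl N7720 D22184
theorem N11953 : nd 11953 = n22185 := ndS (p := 7720) (l := 6) rfl N7720 D22185
theorem N11954 : nd 11954 = n22186 := ndS (p := 7721) (l := 3) rfl N7721 D22186
theorem N11955 : nd 11955 = n22187 := ndS (p := 7721) (l := 6) rfl N7721 D22187
theorem N11956 : nd 11956 = n22188 := ndS (p := 7722) (l := 5) rfl N7722 D22188
theorem N11957 : nd 11957 = n22189 := ndS (p := 7723) (l := 3) rfl N7723 D22189
theorem N11958 : nd 11958 = n22190 := ndS (p := 7725) (l := 1) rfl N7725 D22190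
theorem N11959 : nd 11959 = n22191 := ndS (p := 7726) (l := 4) rfl N7726 D22191
theorem N11960 : nd 11960 = n22192 := ndS (p := 7727) (l := 1) rfl N7727 D22192
theorem N11961 : nd 11961 = n22193 := ndS (p := 7729) (l := 6) rfl N7729 D22193
theorem N11962 : nd 11962 = n22194 := ndS (p := 7730) (l := 1) rfl N7730 D22194
theorem N11963 : nd 11963 = n22195 := ndS (p := 7731) (l := 5) rfl N7731 D22195
theorem N11964 : nd 11964 = n22196 := ndS (p := 7732) (l := 1) rfl N7732 D22196
theorem N11965 : nd 11965 = n22197 := ndS (p := 7733) (l := 6) rfl N7733 D22197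
theorem N11966 : nd 11966 = n22198 := ndS (p := 7734) (l := 1) rfl N7734 D22198
theorem N11967 : nd 11967 = n22199 := ndS (p := 7735) (l := 1) rfl N7735 D22199
theorem N11968 : nd 11968 = n22200 := ndS (p := 7736) (l := 6) rfl N7736 D22200
theorem N11969 : nd 11969 = n22201 := ndS (p := 7737) (l := 4) rfl N7737 D22201
theorem N11970 : nd 11970 = n22202 := ndS (p := 7738) (l := 1) rfl N7738 D22202
theorem N11971 : nd 11971 = n22203 := ndS (p := 7738) (l := 6) rfl N7738 D22203
theorem N11972 : nd 11972 = n22204 := ndS (p := 7739) (l := 1) rfl N7739 D22204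
theorem N11973 : nd 11973 = n22205 := ndS (p := 7741) (l := 1) rfl N7741 D22205
theorem N11974 : nd 11974 = n22206 := ndS (p := 7742) (l := 0) rfl N7742 D22206
theorem N11975 : nd 11975 = n22207 := ndS (p := 7742) (l := 2) rfl N7742 D22207
theorem N11976 : nd 11976 = n22208 := ndS (p := 7742) (l := 6) rfl N7742 D22208
theorem N11977 : nd 11977 = n22209 := ndS (p := 7744) (l := 3) rfl N7744 D22209
theorem N11978 : nd 11978 = n22210 := ndS (p := 7745) (l := 3) rfl N7745 D22210
theorem N11979 : nd 11979 = n22211 := ndS (p := 7745) (l := 6) rfl N7745 D22211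
theorem N11980 : nd 11980 = n22212 := ndS (p := 7746) (l := 4) rfl N7746 D22212
theorem N11981 : nd 11981 = n22213 := ndS (p := 7746) (l := 6) rfl N7746 D22213
theorem N11982 : nd 11982 = n22214 := ndS (p := 7748) (l := 1) rfl N7748 D22214
theorem N11983 : nd 11983 = n22215 := ndS (p := 7749) (l := 1) rfl N7749 D22215
theorem N11984 : nd 11984 = n22216 := ndS (p := 7749) (l := 4) rfl N7749 D22216
theorem N11985 : nd 11985 = n22217 := ndS (p := 7749) (l := 6) rfl N7749 D22217
theorem N11986 : nd 11986 = n22218 := ndS (p := 7750) (l := 5) rfl N7750 D22218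
theorem N11987 : nd 11987 = n22219 := ndS (p := 7750) (l := 6) rfl N7750 D22219
theorem N11988 : nd 11988 = n22220 := ndS (p := 7751) (l := 6) rfl N7751 D22220
theorem N11989 : nd 11989 = n22221 := ndS (p := 7752) (l := 5) rfl N7752 D22221
theorem N11990 : nd 11990 = n22222 := ndS (p := 7753) (l := 2) rfl N7753 D22222
theorem N11991 : nd 11991 = n22223 := ndS (p := 7753) (l := 6) rfl N7753 D22223
theorem N11992 : nd 11992 = n22225 := ndS (p := 7756) (l := 0) rfl N7756 D22225
theorem N11993 : nd 11993 = n22226 := ndS (p := 7756) (l := 4) rfl N7756 D22226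
theorem N11994 : nd 11994 = n22227 := ndS (p := 7756) (l := 5) rfl N7756 D22227
theorem N11995 : nd 11995 = n22228 := ndS (p := 7756) (l := 6) rfl N7756 D22228
theorem N11996 : nd 11996 = n22229 := ndS (p := 7757) (l := 3) rfl N7757 D22229
theorem N11997 : nd 11997 = n22230 := ndS (p := 7757) (l := 5) rfl N7757 D22230
theorem N11998 : nd 11998 = n22231 := ndS (p := 7760) (l := 3) rfl N7760 D22231
theorem N11999 : nd 11999 = n22232 := ndS (p := 7761) (l := 5) rfl N7761 D22232
theorem N12000 : nd 12000 = n22233 := ndS (p := 7762) (l := 4) rfl N7762 D22233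
theorem N12001 : nd 12001 = n22234 := ndS (p := 7763) (l := 1) rfl N7763 D22234
theorem N12002 : nd 12002 = n22235 := ndS (p := 7763) (l := 3) rfl N7763 D22235
theorem N12003 : nd 12003 = n22236 := ndS (p := 7763) (l := 4) rfl N7763 D22236
theorem N12004 : nd 12004 = n22237 := ndS (p := 7763) (l := 5) rfl N7763 D22237
theorem N12005 : nd 12005 = n22238 := ndS (p := 7763) (l := 6) rfl N7763 D22238
theorem N12006 : nd 12006 = n22239 := ndS (p := 7764) (l := 2) rfl N7764 D22239
theorem N12007 : nd 12007 = n22240 := ndS (p := 7764) (l := 4) rfl N7764 D22240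
theorem N12008 : nd 12008 = n22241 := ndS (p := 7764) (l := 5) rfl N7764 D22241
theorem N12009 : nd 12009 = n22242 := ndS (p := 7764) (l := 6) rfl N7764 D22242
theorem N12010 : nd 12010 = n22243 := ndS (p := 7765) (l := 3) rfl N7765 D22243
theorem N12011 : nd 12011 = n22244 := ndS (p := 7765) (l := 5) rfl N7765 D22244
theorem N12012 : nd 12012 = n22245 := ndS (p := 7765) (l := 6) rfl N7765 D22245
theorem N12013 : nd 12013 = n22246 := ndS (p := 7766) (l := 6) rfl N7766 D22246
theorem N12014 : nd 12014 = n22247 := ndS (p := 7767) (l := 5) rfl N7767 D22247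
theorem N12015 : nd 12015 = n22248 := ndS (p := 7768) (l := 3) rfl N7768 D22248
theorem N12016 : nd 12016 = n22249 := ndS (p := 7768) (l := 5) rfl N7768 D22249
theorem N12017 : nd 12017 = n22250 := ndS (p := 7770) (l := 2) rfl N7770 D22250
theorem N12018 : nd 12018 = n22251 := ndS (p := 7770) (l := 5) rfl N7770 D22251
theorem N12019 : nd 12019 = n22252 := ndS (p := 7771) (l := 6) rfl N7771 D22252
theorem N12020 : nd 12020 = n22253 := ndS (p := 7772) (l := 1) rfl N7772 D22253
theorem N12021 : nd 12021 = n22254 := ndS (p := 7773) (l := 1) rfl N7773 D22254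
theorem N12022 : nd 12022 = n22255 := ndS (p := 7774) (l := 0) rfl N7774 D22255
theorem N12023 : nd 12023 = n22256 := ndS (p := 7774) (l := 2) rfl N7774 D22256
theorem N12024 : nd 12024 = n22258 := ndS (p := 7775) (l := 2) rfl N7775 D22258
theorem N12025 : nd 12025 = n22259 := ndS (p := 7775) (l := 5) rfl N7775 D22259
theorem N12026 : nd 12026 = n22260 := ndS (p := 7776) (l := 3) rfl N7776 D22260
theorem N12027 : nd 12027 = n22261 := ndS (p := 7776) (l := 5) rfl N7776 D22261
theorem N12028 : nd 12028 = n22262 := ndS (p := 7777) (l := 6) rfl N7777 D22262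
theorem N12029 : nd 12029 = n22263 := ndS (p := 7778) (l := 1) rfl N7778 D22263
theorem N12030 : nd 12030 = n22264 := ndS (p := 7782) (l := 3) rfl N7782 D22264
theorem N12031 : nd 12031 = n22265 := ndS (p := 7783) (l := 0) rfl N7783 D22265
theorem N12032 : nd 12032 = n22266 := ndS (p := 7785) (l := 1) rfl N7785 D22266
theorem N12033 : nd 12033 = n22267 := ndS (p := 7786) (l := 0) rfl N7786 D22267
theorem N12034 : nd 12034 = n22268 := ndS (p := 7786) (l := 2) rfl N7786 D22268
theorem N12035 : nd 12035 = n22269 := ndS (p := 7786) (l := 6) rfl N7786 D22269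
theorem N12036 : nd 12036 = n22270 := ndS (p := 7787) (l := 1) rfl N7787 D22270
theorem N12037 : nd 12037 = n22271 := ndS (p := 7788) (l := 1) rfl N7788 D22271
theorem N12038 : nd 12038 = n22272 := ndS (p := 7788) (l := 2) rfl N7788 D22272
theorem N12039 : nd 12039 = n22273 := ndS (p := 7788) (l := 6) rfl N7788 D22273
theorem N12040 : nd 12040 = n22274 := ndS (p := 7789) (l := 3) rfl N7789 D22274
theorem N12041 : nd 12041 = n22275 := ndS (p := 7789) (l := 6) rfl N7789 D22275
theorem N12042 : nd 12042 = n22276 := ndS (p := 7790) (l := 5) rfl N7790 D22276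
theorem N12043 : nd 12043 = n22277 := ndS (p := 7791) (l := 5) rfl N7791 D22277
theorem N12044 : nd 12044 = n22278 := ndS (p := 7792) (l := 0) rfl N7792 D22278
theorem N12045 : nd 12045 = n22279 := ndS (p := 7792) (l := 2) rfl N7792 D22279
theorem N12046 : nd 12046 = n22280 := ndS (p := 7792) (l := 6) rfl N7792 D22280
theorem N12047 : nd 12047 = n22281 := ndS (p := 7793) (l := 3) rfl N7793 D22281
theorem N12048 : nd 12048 = n22282 := ndS (p := 7794) (l := 2) rfl N7794 D22282
theorem N12049 : nd 12049 = n22283 := ndS (p := 7794) (l := 4) rfl N7794 D22283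
theorem N12050 : nd 12050 = n22284 := ndS (p := 7794) (l := 6) rfl N7794 D22284
theorem N12051 : nd 12051 = n22285 := ndS (p := 7795) (l := 1) rfl N7795 D22285
theorem N12052 : nd 12052 = n22286 := ndS (p := 7797) (l := 5) rfl N7797 D22286
theorem N12053 : nd 12053 = n22287 := ndS (p := 7797) (l := 6) rfl N7797 D22287
theorem N12054 : nd 12054 = n22288 := ndS (p := 7798) (l := 5) rfl N7798 D22288
theorem N12055 : nd 12055 = n22289 := ndS (p := 7798) (l := 6) rfl N7798 D22289
theorem N12056 : nd 12056 = n22290 := ndS (p := 7799) (l := 1) rfl N7799 D22290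
theorem N12057 : nd 12057 = n22291 := ndS (p := 7801) (l := 0) rfl N7801 D22291
theorem N12058 : nd 12058 = n22292 := ndS (p := 7801) (l := 2) rfl N7801 D22292
theorem N12059 : nd 12059 = n22293 := ndS (p := 7801) (l := 6) rfl N7801 D22293
theorem N12060 : nd 12060 = n22294 := ndS (p := 7803) (l := 5) rfl N7803 D22294
theorem N12061 : nd 12061 = n22295 := ndS (p := 7804) (l := 5) rfl N7804 D22295
theorem N12062 : nd 12062 = n22296 := ndS (p := 7804) (l := 6) rfl N7804 D22296
theorem N12063 : nd 12063 = n22297 := ndS (p := 7805) (l := 6) rfl N7805 D22297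
theorem N12064 : nd 12064 = n22298 := ndS (p := 7806) (l := 5) rfl N7806 D22298
theorem N12065 : nd 12065 = n22299 := ndS (p := 7807) (l := 1) rfl N7807 D22299
theorem N12066 : nd 12066 = n22300 := ndS (p := 7807) (l := 6) rfl N7807 D22300
theorem N12067 : nd 12067 = n22301 := ndS (p := 7808) (l := 5) rfl N7808 D22301
theorem N12068 : nd 12068 = n22302 := ndS (p := 7809) (l := 0) rfl N7809 D22302
theorem N12069 : nd 12069 = n22303 := ndS (p := 7811) (l := 1) rfl N7811 D22303
theorem N12070 : nd 12070 = n22304 := ndS (p := 7812) (l := 1) rfl N7812 D22304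
theorem N12071 : nd 12071 = n22305 := ndS (p := 7812) (l := 2) rfl N7812 D22305
theorem N12072 : nd 12072 = n22306 := ndS (p := 7813) (l := 3) rfl N7813 D22306
theorem N12073 : nd 12073 = n22307 := ndS (p := 7814) (l := 2) rfl N7814 D22307
theorem N12074 : nd 12074 = n22308 := ndS (p := 7816) (l := 0) rfl N7816 D22308
theorem N12075 : nd 12075 = n22309 := ndS (p := 7816) (l := 6) rfl N7816 D22309
theorem N12076 : nd 12076 = n22310 := ndS (p := 7817) (l := 1) rfl N7817 D22310
theorem N12077 : nd 12077 = n22311 := ndS (p := 7817) (l := 6) rfl N7817 D22311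
theorem N12078 : nd 12078 = n22312 := ndS (p := 7818) (l := 5) rfl N7818 D22312
theorem N12079 : nd 12079 = n22313 := ndS (p := 7819) (l := 2) rfl N7819 D22313
theorem N12080 : nd 12080 = n22314 := ndS (p := 7820) (l := 1) rfl N7820 D22314
theorem N12081 : nd 12081 = n22315 := ndS (p := 7820) (l := 6) rfl N7820 D22315
theorem N12082 : nd 12082 = n22316 := ndS (p := 7822) (l := 4) rfl N7822 D22316
theorem N12083 : nd 12083 = n22317 := ndS (p := 7825) (l := 3) rfl N7825 D22317
theorem N12084 : nd 12084 = n22318 := ndS (p := 7827) (l := 2) rfl N7827 D22318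
theorem N12085 : nd 12085 = n22319 := ndS (p := 7827) (l := 4) rfl N7827 D22319
theorem N12086 : nd 12086 = n22320 := ndS (p := 7828) (l := 1) rfl N7828 D22320
theorem N12087 : nd 12087 = n22321 := ndS (p := 7828) (l := 3) rfl N7828 D22321
theorem N12088 : nd 12088 = n22322 := ndS (p := 7828) (l := 4) rfl N7828 D22322
theorem N12089 : nd 12089 = n22323 := ndS (p := 7829) (l := 6) rfl N7829 D22323
theorem N12090 : nd 12090 = n22324 := ndS (p := 7831) (l := 0) rfl N7831 D22324
theorem N12091 : nd 12091 = n22325 := ndS (p := 7831) (l := 5) rfl N7831 D22325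
theorem N12092 : nd 12092 = n22326 := ndS (p := 7832) (l := 5) rfl N7832 D22326
theorem N12093 : nd 12093 = n22327 := ndS (p := 7833) (l := 1) rfl N7833 D22327
theorem N12094 : nd 12094 = n22328 := ndS (p := 7834) (l := 2) rfl N7834 D22328
theorem N12095 : nd 12095 = n22329 := ndS (p := 7834) (l := 6) rfl N7834 D22329
theorem N12096 : nd 12096 = n22330 := ndS (p := 7836) (l := 2) rfl N7836 D22330
theorem N12097 : nd 12097 = n22331 := ndS (p := 7836) (l := 6) rfl N7836 D22331
theorem N12098 : nd 12098 = n22332 := ndS (p := 7837) (l := 1) rfl N7837 D22332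
theorem N12099 : nd 12099 = n22333 := ndS (p := 7838) (l := 2) rfl N7838 D22333
theorem N12100 : nd 12100 = n22334 := ndS (p := 7839) (l := 6) rfl N7839 D22334
theorem N12101 : nd 12101 = n22335 := ndS (p := 7841) (l := 2) rfl N7841 D22335
theorem N12102 : nd 12102 = n22336 := ndS (p := 7842) (l := 1) rfl N7842 D22336
theorem N12103 : nd 12103 = n22337 := ndS (p := 7844) (l := 1) rfl N7844 D22337
theorem N12104 : nd 12104 = n22338 := ndS (p := 7845) (l := 0) rfl N7845 D22338
theorem N12105 : nd 12105 = n22339 := ndS (p := 7845) (l := 2) rfl N7845 D22339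
theorem N12106 : nd 12106 = n22340 := ndS (p := 7845) (l := 5) rfl N7845 D22340
theorem N12107 : nd 12107 = n22341 := ndS (p := 7846) (l := 0) rfl N7846 D22341
theorem N12108 : nd 12108 = n22342 := ndS (p := 7846) (l := 2) rfl N7846 D22342
theorem N12109 : nd 12109 = n22343 := ndS (p := 7846) (l := 5) rfl N7846 D22343
theorem N12110 : nd 12110 = n22344 := ndS (p := 7846) (l := 6) rfl N7846 D22344
theorem N12111 : nd 12111 = n22345 := ndS (p := 7848) (l := 5) rfl N7848 D22345
theorem N12112 : nd 12112 = n22346 := ndS (p := 7851) (l := 2) rfl N7851 D22346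
theorem N12113 : nd 12113 = n22347 := ndS (p := 7854) (l := 5) rfl N7854 D22347
theorem N12114 : nd 12114 = n22348 := ndS (p := 7855) (l := 3) rfl N7855 D22348
theorem N12115 : nd 12115 = n22349 := ndS (p := 7855) (l := 6) rfl N7855 D22349
theorem N12116 : nd 12116 = n22350 := ndS (p := 7856) (l := 4) rfl N7856 D22350
theorem N12117 : nd 12117 = n22351 := ndS (p := 7857) (l := 1) rfl N7857 D22351
theorem N12118 : nd 12118 = n22352 := ndS (p := 7857) (l := 4) rfl N7857 D22352
theorem N12119 : nd 12119 = n22353 := ndS (p := 7859) (l := 0) rfl N7859 D22353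
theorem N12120 : nd 12120 = n22354 := ndS (p := 7859) (l := 2) rfl N7859 D22354
theorem N12121 : nd 12121 = n22355 := ndS (p := 7859) (l := 5) rfl N7859 D22355
theorem N12122 : nd 12122 = n22356 := ndS (p := 7860) (l := 2) rfl N7860 D22356
theorem N12123 : nd 12123 = n22357 := ndS (p := 7861) (l := 3) rfl N7861 D22357
theorem N12124 : nd 12124 = n22358 := ndS (p := 7862) (l := 5) rfl N7862 D22358
theorem N12125 : nd 12125 = n22359 := ndS (p := 7864) (l := 2) rfl N7864 D22359
theorem N12126 : nd 12126 = n22360 := ndS (p := 7864) (l := 4) rfl N7864 D22360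
theorem N12127 : nd 12127 = n22361 := ndS (p := 7864) (l := 5) rfl N7864 D22361
theorem N12128 : nd 12128 = n22362 := ndS (p := 7865) (l := 1) rfl N7865 D22362
theorem N12129 : nd 12129 = n22363 := ndS (p := 7865) (l := 6) rfl N7865 D22363
theorem N12130 : nd 12130 = n22364 := ndS (p := 7866) (l := 1) rfl N7866 D22364
theorem N12131 : nd 12131 = n22365 := ndS (p := 7868) (l := 0) rfl N7868 D22365
theorem N12132 : nd 12132 = n22366 := ndS (p := 7868) (l := 3) rfl N7868 D22366
theorem N12133 : nd 12133 = n22367 := ndS (p := 7868) (l := 5) rfl N7868 D22367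
theorem N12134 : nd 12134 = n22368 := ndS (p := 7868) (l := 6) rfl N7868 D22368
theorem N12135 : nd 12135 = n22369 := ndS (p := 7869) (l := 4) rfl N7869 D22369
theorem N12136 : nd 12136 = n22370 := ndS (p := 7870) (l := 1) rfl N7870 D22370
theorem N12137 : nd 12137 = n22371 := ndS (p := 7872) (l := 3) rfl N7872 D22371
theorem N12138 : nd 12138 = n22372 := ndS (p := 7872) (l := 5) rfl N7872 D22372
theorem N12139 : nd 12139 = n22373 := ndS (p := 7873) (l := 2) rfl N7873 D22373
theorem N12140 : nd 12140 = n22374 := ndS (p := 7873) (l := 4) rfl N7873 D22374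
theorem N12141 : nd 12141 = n22375 := ndS (p := 7873) (l := 5) rfl N7873 D22375
theorem N12142 : nd 12142 = n22376 := ndS (p := 7873) (l := 6) rfl N7873 D22376
theorem N12143 : nd 12143 = n22377 := ndS (p := 7875) (l := 5) rfl N7875 D22377
theorem N12144 : nd 12144 = n22378 := ndS (p := 7877) (l := 0) rfl N7877 D22378
theorem N12145 : nd 12145 = n22379 := ndS (p := 7877) (l := 4) rfl N7877 D22379
theorem N12146 : nd 12146 = n22380 := ndS (p := 7877) (l := 5) rfl N7877 D22380
theorem N12147 : nd 12147 = n22381 := ndS (p := 7877) (l := 6) rfl N7877 D22381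
theorem N12148 : nd 12148 = n22382 := ndS (p := 7878) (l := 3) rfl N7878 D22382
theorem N12149 : nd 12149 = n22383 := ndS (p := 7878) (l := 6) rfl N7878 D22383
theorem N12150 : nd 12150 = n22384 := ndS (p := 7879) (l := 1) rfl N7879 D22384
theorem N12151 : nd 12151 = n22385 := ndS (p := 7880) (l := 1) rfl N7880 D22385
theorem N12152 : nd 12152 = n22386 := ndS (p := 7881) (l := 0) rfl N7881 D22386
theorem N12153 : nd 12153 = n22387 := ndS (p := 7881) (l := 5) rfl N7881 D22387
theorem N12154 : nd 12154 = n22388 := ndS (p := 7882) (l := 1) rfl N7882 D22388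
theorem N12155 : nd 12155 = n22389 := ndS (p := 7882) (l := 2) rfl N7882 D22389
theorem N12156 : nd 12156 = n22390 := ndS (p := 7882) (l := 5) rfl N7882 D22390
theorem N12157 : nd 12157 = n22391 := ndS (p := 7883) (l := 3) rfl N7883 D22391
theorem N12158 : nd 12158 = n22392 := ndS (p := 7883) (l := 5) rfl N7883 D22392
theorem N12159 : nd 12159 = n22393 := ndS (p := 7884) (l := 6) rfl N7884 D22393
theorem N12160 : nd 12160 = n22394 := ndS (p := 7885) (l := 3) rfl N7885 D22394
theorem N12161 : nd 12161 = n22395 := ndS (p := 7887) (l := 1) rfl N7887 D22395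
theorem N12162 : nd 12162 = n22396 := ndS (p := 7888) (l := 4) rfl N7888 D22396
theorem N12163 : nd 12163 = n22397 := ndS (p := 7889) (l := 1) rfl N7889 D22397
theorem N12164 : nd 12164 = n22398 := ndS (p := 7891) (l := 5) rfl N7891 D22398
theorem N12165 : nd 12165 = n22399 := ndS (p := 7892) (l := 1) rfl N7892 D22399
theorem N12166 : nd 12166 = n22400 := ndS (p := 7893) (l := 6) rfl N7893 D22400
theorem N12167 : nd 12167 = n22401 := ndS (p := 7894) (l := 1) rfl N7894 D22401
theorem N12168 : nd 12168 = n22402 := ndS (p := 7895) (l := 5) rfl N7895 D22402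
theorem N12169 : nd 12169 = n22403 := ndS (p := 7896) (l := 1) rfl N7896 D22403
theorem N12170 : nd 12170 = n22404 := ndS (p := 7897) (l := 5) rfl N7897 D22404
theorem N12171 : nd 12171 = n22405 := ndS (p := 7898) (l := 4) rfl N7898 D22405
theorem N12172 : nd 12172 = n22406 := ndS (p := 7899) (l := 1) rfl N7899 D22406
theorem N12173 : nd 12173 = n22407 := ndS (p := 7900) (l := 1) rfl N7900 D22407
theorem N12174 : nd 12174 = n22408 := ndS (p := 7903) (l := 0) rfl N7903 D22408
theorem N12175 : nd 12175 = n22409 := ndS (p := 7904) (l := 3) rfl N7904 D22409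
theorem N12176 : nd 12176 = n22410 := ndS (p := 7905) (l := 3) rfl N7905 D22410
theorem N12177 : nd 12177 = n22411 := ndS (p := 7905) (l := 5) rfl N7905 D22411
theorem N12178 : nd 12178 = n22412 := ndS (p := 7906) (l := 4) rfl N7906 D22412
theorem N12179 : nd 12179 = n22413 := ndS (p := 7906) (l := 5) rfl N7906 D22413
theorem N12180 : nd 12180 = n22414 := ndS (p := 7907) (l := 1) rfl N7907 D22414
theorem N12181 : nd 12181 = n22415 := ndS (p := 7909) (l := 4) rfl N7909 D22415
theorem N12182 : nd 12182 = n22416 := ndS (p := 7909) (l := 5) rfl N7909 D22416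
theorem N12183 : nd 12183 = n22417 := ndS (p := 7910) (l := 5) rfl N7910 D22417
theorem N12184 : nd 12184 = n22418 := ndS (p := 7910) (l := 6) rfl N7910 D22418
theorem N12185 : nd 12185 = n22419 := ndS (p := 7911) (l := 6) rfl N7911 D22419
theorem N12186 : nd 12186 = n22420 := ndS (p := 7912) (l := 5) rfl N7912 D22420
theorem N12187 : nd 12187 = n22421 := ndS (p := 7914) (l := 5) rfl N7914 D22421
theorem N12188 : nd 12188 = n22422 := ndS (p := 7917) (l := 3) rfl N7917 D22422
theorem N12189 : nd 12189 = n22423 := ndS (p := 7918) (l := 6) rfl N7918 D22423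
theorem N12190 : nd 12190 = n22424 := ndS (p := 7919) (l := 4) rfl N7919 D22424
theorem N12191 : nd 12191 = n22425 := ndS (p := 7920) (l := 1) rfl N7920 D22425
theorem N12192 : nd 12192 = n22426 := ndS (p := 7920) (l := 4) rfl N7920 D22426
theorem N12193 : nd 12193 = n22427 := ndS (p := 7920) (l := 5) rfl N7920 D22427
theorem N12194 : nd 12194 = n22428 := ndS (p := 7920) (l := 6) rfl N7920 D22428
theorem N12195 : nd 12195 = n22429 := ndS (p := 7921) (l := 3) rfl N7921 D22429
theorem N12196 : nd 12196 = n22430 := ndS (p := 7921) (l := 5) rfl N7921 D22430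
theorem N12197 : nd 12197 = n22431 := ndS (p := 7921) (l := 6) rfl N7921 D22431
theorem N12198 : nd 12198 = n22432 := ndS (p := 7922) (l := 6) rfl N7922 D22432
theorem N12199 : nd 12199 = n22433 := ndS (p := 7923) (l := 5) rfl N7923 D22433
theorem N12200 : nd 12200 = n22434 := ndS (p := 7924) (l := 2) rfl N7924 D22434
theorem N12201 : nd 12201 = n22435 := ndS (p := 7924) (l := 6) rfl N7924 D22435
theorem N12202 : nd 12202 = n22436 := ndS (p := 7925) (l := 5) rfl N7925 D22436
theorem N12203 : nd 12203 = n22437 := ndS (p := 7926) (l := 1) rfl N7926 D22437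
theorem N12204 : nd 12204 = n22438 := ndS (p := 7927) (l := 1) rfl N7927 D22438
theorem N12205 : nd 12205 = n22439 := ndS (p := 7928) (l := 0) rfl N7928 D22439
theorem N12206 : nd 12206 = n22440 := ndS (p := 7928) (l := 2) rfl N7928 D22440
theorem N12207 : nd 12207 = n22442 := ndS (p := 7929) (l := 2) rfl N7929 D22442
theorem N12208 : nd 12208 = n22443 := ndS (p := 7929) (l := 6) rfl N7929 D22443
theorem N12209 : nd 12209 = n22444 := ndS (p := 7930) (l := 3) rfl N7930 D22444
theorem N12210 : nd 12210 = n22445 := ndS (p := 7930) (l := 6) rfl N7930 D22445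
theorem N12211 : nd 12211 = n22446 := ndS (p := 7931) (l := 5) rfl N7931 D22446
theorem N12212 : nd 12212 = n22447 := ndS (p := 7932) (l := 1) rfl N7932 D22447
theorem N12213 : nd 12213 = n22448 := ndS (p := 7935) (l := 6) rfl N7935 D22448
theorem N12214 : nd 12214 = n22449 := ndS (p := 7937) (l := 6) rfl N7937 D22449
theorem N12215 : nd 12215 = n22450 := ndS (p := 7938) (l := 5) rfl N7938 D22450
theorem N12216 : nd 12216 = n22451 := ndS (p := 7945) (l := 3) rfl N7945 D22451
theorem N12217 : nd 12217 = n22452 := ndS (p := 7946) (l := 6) rfl N7946 D22452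
theorem N12218 : nd 12218 = n22453 := ndS (p := 7947) (l := 1) rfl N7947 D22453
theorem N12219 : nd 12219 = n22454 := ndS (p := 7948) (l := 0) rfl N7948 D22454
theorem N12220 : nd 12220 = n22455 := ndS (p := 7948) (l := 2) rfl N7948 D22455
theorem N12221 : nd 12221 = n22456 := ndS (p := 7948) (l := 5) rfl N7948 D22456
theorem N12222 : nd 12222 = n22457 := ndS (p := 7949) (l := 2) rfl N7949 D22457
theorem N12223 : nd 12223 = n22458 := ndS (p := 7950) (l := 3) rfl N7950 D22458
theorem N12224 : nd 12224 = n22459 := ndS (p := 7950) (l := 5) rfl N7950 D22459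
theorem N12225 : nd 12225 = n22460 := ndS (p := 7952) (l := 4) rfl N7952 D22460
theorem N12226 : nd 12226 = n22461 := ndS (p := 7956) (l := 4) rfl N7956 D22461
theorem N12227 : nd 12227 = n22462 := ndS (p := 7959) (l := 3) rfl N7959 D22462
theorem N12228 : nd 12228 = n22463 := ndS (p := 7959) (l := 4) rfl N7959 D22463
theorem N12229 : nd 12229 = n22464 := ndS (p := 7959) (l := 6) rfl N7959 D22464
theorem N12230 : nd 12230 = n22465 := ndS (p := 7960) (l := 5) rfl N7960 D22465
theorem N12231 : nd 12231 = n22466 := ndS (p := 7960) (l := 6) rfl N7960 D22466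
theorem N12232 : nd 12232 = n22467 := ndS (p := 7965) (l := 4) rfl N7965 D22467
theorem N12233 : nd 12233 = n22468 := ndS (p := 7965) (l := 5) rfl N7965 D22468
theorem N12234 : nd 12234 = n22469 := ndS (p := 7965) (l := 6) rfl N7965 D22469
theorem N12235 : nd 12235 = n22470 := ndS (p := 7967) (l := 2) rfl N7967 D22470
theorem N12236 : nd 12236 = n22471 := ndS (p := 7967) (l := 4) rfl N7967 D22471
theorem N12237 : nd 12237 = n22472 := ndS (p := 7967) (l := 5) rfl N7967 D22472
theorem N12238 : nd 12238 = n22473 := ndS (p := 7967) (l := 6) rfl N7967 D22473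
theorem N12239 : nd 12239 = n22474 := ndS (p := 7968) (l := 1) rfl N7968 D22474
theorem N12240 : nd 12240 = n22475 := ndS (p := 7968) (l := 6) rfl N7968 D22475
theorem N12241 : nd 12241 = n22476 := ndS (p := 7969) (l := 5) rfl N7969 D22476
theorem N12242 : nd 12242 = n22477 := ndS (p := 7970) (l := 1) rfl N7970 D22477
theorem N12243 : nd 12243 = n22478 := ndS (p := 7970) (l := 3) rfl N7970 D22478
theorem N12244 : nd 12244 = n22479 := ndS (p := 7970) (l := 4) rfl N7970 D22479
theorem N12245 : nd 12245 = n22480 := ndS (p := 7970) (l := 6) rfl N7970 D22480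
theorem N12246 : nd 12246 = n22481 := ndS (p := 7971) (l := 5) rfl N7971 D22481
theorem N12247 : nd 12247 = n22482 := ndS (p := 7971) (l := 6) rfl N7971 D22482
theorem N12248 : nd 12248 = n22483 := ndS (p := 7974) (l := 2) rfl N7974 D22483
theorem N12249 : nd 12249 = n22484 := ndS (p := 7976) (l := 4) rfl N7976 D22484
theorem N12250 : nd 12250 = n22485 := ndS (p := 7976) (l := 6) rfl N7976 D22485
theorem N12251 : nd 12251 = n22486 := ndS (p := 7977) (l := 3) rfl N7977 D22486
theorem N12252 : nd 12252 = n22487 := ndS (p := 7977) (l := 6) rfl N7977 D22487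
theorem N12253 : nd 12253 = n22488 := ndS (p := 7978) (l := 1) rfl N7978 D22488
theorem N12254 : nd 12254 = n22489 := ndS (p := 7978) (l := 5) rfl N7978 D22489
theorem N12255 : nd 12255 = n22490 := ndS (p := 7979) (l := 6) rfl N7979 D22490
theorem N12256 : nd 12256 = n22491 := ndS (p := 7980) (l := 5) rfl N7980 D22491
theorem N12257 : nd 12257 = n22492 := ndS (p := 7981) (l := 1) rfl N7981 D22492
theorem N12258 : nd 12258 = n22493 := ndS (p := 7982) (l := 1) rfl N7982 D22493
theorem N12259 : nd 12259 = n22494 := ndS (p := 7983) (l := 2) rfl N7983 D22494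
theorem N12260 : nd 12260 = n22495 := ndS (p := 7983) (l := 5) rfl N7983 D22495
theorem N12261 : nd 12261 = n22496 := ndS (p := 7984) (l := 0) rfl N7984 D22496
theorem N12262 : nd 12262 = n22497 := ndS (p := 7984) (l := 2) rfl N7984 D22497
theorem N12263 : nd 12263 = n22498 := ndS (p := 7984) (l := 6) rfl N7984 D22498
theorem N12264 : nd 12264 = n22499 := ndS (p := 7985) (l := 3) rfl N7985 D22499
theorem N12265 : nd 12265 = n22500 := ndS (p := 7985) (l := 5) rfl N7985 D22500
theorem N12266 : nd 12266 = n22501 := ndS (p := 7985) (l := 6) rfl N7985 D22501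
theorem N12267 : nd 12267 = n22502 := ndS (p := 7988) (l := 2) rfl N7988 D22502
theorem N12268 : nd 12268 = n22503 := ndS (p := 7988) (l := 5) rfl N7988 D22503
theorem N12269 : nd 12269 = n22504 := ndS (p := 7988) (l := 6) rfl N7988 D22504
theorem N12270 : nd 12270 = n22505 := ndS (p := 7989) (l := 6) rfl N7989 D22505
theorem N12271 : nd 12271 = n22506 := ndS (p := 7990) (l := 5) rfl N7990 D22506
theorem N12272 : nd 12272 = n22507 := ndS (p := 7993) (l := 5) rfl N7993 D22507
theorem N12273 : nd 12273 = n22508 := ndS (p := 7995) (l := 5) rfl N7995 D22508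
theorem N12274 : nd 12274 = n22509 := ndS (p := 7996) (l := 6) rfl N7996 D22509
theorem N12275 : nd 12275 = n22510 := ndS (p := 8003) (l := 3) rfl N8003 D22510
theorem N12276 : nd 12276 = n22511 := ndS (p := 8004) (l := 5) rfl N8004 D22511
theorem N12277 : nd 12277 = n22512 := ndS (p := 8005) (l := 1) rfl N8005 D22512
theorem N12278 : nd 12278 = n22513 := ndS (p := 8006) (l := 0) rfl N8006 D22513
theorem N12279 : nd 12279 = n22514 := ndS (p := 8006) (l := 2) rfl N8006 D22514
theorem N12280 : nd 12280 = n22515 := ndS (p := 8006) (l := 6) rfl N8006 D22515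
theorem N12281 : nd 12281 = n22516 := ndS (p := 8007) (l := 2) rfl N8007 D22516
theorem N12282 : nd 12282 = n22517 := ndS (p := 8008) (l := 3) rfl N8008 D22517
theorem N12283 : nd 12283 = n22518 := ndS (p := 8008) (l := 6) rfl N8008 D22518
theorem N12284 : nd 12284 = n22519 := ndS (p := 8010) (l := 4) rfl N8010 D22519
theorem N12285 : nd 12285 = n22520 := ndS (p := 8014) (l := 4) rfl N8014 D22520
theorem N12286 : nd 12286 = n22521 := ndS (p := 8017) (l := 3) rfl N8017 D22521
theorem N12287 : nd 12287 = n22522 := ndS (p := 8017) (l := 4) rfl N8017 D22522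
theorem N12288 : nd 12288 = n22523 := ndS (p := 8017) (l := 5) rfl N8017 D22523
theorem N12289 : nd 12289 = n22524 := ndS (p := 8018) (l := 5) rfl N8018 D22524
theorem N12290 : nd 12290 = n22525 := ndS (p := 8018) (l := 6) rfl N8018 D22525
theorem N12291 : nd 12291 = n22526 := ndS (p := 8023) (l := 4) rfl N8023 D22526
theorem N12292 : nd 12292 = n22527 := ndS (p := 8023) (l := 5) rfl N8023 D22527
theorem N12293 : nd 12293 = n22528 := ndS (p := 8023) (l := 6) rfl N8023 D22528
theorem N12294 : nd 12294 = n22529 := ndS (p := 8025) (l := 2) rfl N8025 D22529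
theorem N12295 : nd 12295 = n22530 := ndS (p := 8025) (l := 4) rfl N8025 D22530
theorem N12296 : nd 12296 = n22531 := ndS (p := 8025) (l := 5) rfl N8025 D22531
theorem N12297 : nd 12297 = n22532 := ndS (p := 8025) (l := 6) rfl N8025 D22532
theorem N12298 : nd 12298 = n22533 := ndS (p := 8026) (l := 6) rfl N8026 D22533
theorem N12299 : nd 12299 = n22534 := ndS (p := 8027) (l := 1) rfl N8027 D22534
theorem N12300 : nd 12300 = n22535 := ndS (p := 8027) (l := 5) rfl N8027 D22535
theorem N12301 : nd 12301 = n22536 := ndS (p := 8028) (l := 1) rfl N8028 D22536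
theorem N12302 : nd 12302 = n22537 := ndS (p := 8028) (l := 3) rfl N8028 D22537
theorem N12303 : nd 12303 = n22538 := ndS (p := 8028) (l := 4) rfl N8028 D22538
theorem N12304 : nd 12304 = n22539 := ndS (p := 8028) (l := 5) rfl N8028 D22539
theorem N12305 : nd 12305 = n22540 := ndS (p := 8029) (l := 5) rfl N8029 D22540
theorem N12306 : nd 12306 = n22541 := ndS (p := 8029) (l := 6) rfl N8029 D22541
theorem N12307 : nd 12307 = n22542 := ndS (p := 8033) (l := 2) rfl N8033 D22542
theorem N12308 : nd 12308 = n22543 := ndS (p := 8034) (l := 4) rfl N8034 D22543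
theorem N12309 : nd 12309 = n22544 := ndS (p := 8034) (l := 5) rfl N8034 D22544
theorem N12310 : nd 12310 = n22545 := ndS (p := 8035) (l := 3) rfl N8035 D22545
theorem N12311 : nd 12311 = n22546 := ndS (p := 8035) (l := 5) rfl N8035 D22546
theorem N12312 : nd 12312 = n22547 := ndS (p := 8036) (l := 1) rfl N8036 D22547
theorem N12313 : nd 12313 = n22548 := ndS (p := 8036) (l := 6) rfl N8036 D22548
theorem N12314 : nd 12314 = n22549 := ndS (p := 8037) (l := 6) rfl N8037 D22549
theorem N12315 : nd 12315 = n22550 := ndS (p := 8038) (l := 5) rfl N8038 D22550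
theorem N12316 : nd 12316 = n22551 := ndS (p := 8039) (l := 1) rfl N8039 D22551
theorem N12317 : nd 12317 = n22552 := ndS (p := 8040) (l := 1) rfl N8040 D22552
theorem N12318 : nd 12318 = n22553 := ndS (p := 8041) (l := 0) rfl N8041 D22553
theorem N12319 : nd 12319 = n22554 := ndS (p := 8041) (l := 2) rfl N8041 D22554
theorem N12320 : nd 12320 = n22555 := ndS (p := 8041) (l := 5) rfl N8041 D22555
theorem N12321 : nd 12321 = n22556 := ndS (p := 8042) (l := 2) rfl N8042 D22556
theorem N12322 : nd 12322 = n22557 := ndS (p := 8042) (l := 6) rfl N8042 D22557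
theorem N12323 : nd 12323 = n22558 := ndS (p := 8043) (l := 3) rfl N8043 D22558
theorem N12324 : nd 12324 = n22559 := ndS (p := 8043) (l := 5) rfl N8043 D22559
theorem N12325 : nd 12325 = n22560 := ndS (p := 8043) (l := 6) rfl N8043 D22560
theorem N12326 : nd 12326 = n22561 := ndS (p := 8046) (l := 2) rfl N8046 D22561
theorem N12327 : nd 12327 = n22562 := ndS (p := 8046) (l := 5) rfl N8046 D22562
theorem N12328 : nd 12328 = n22563 := ndS (p := 8046) (l := 6) rfl N8046 D22563
theorem N12329 : nd 12329 = n22564 := ndS (p := 8047) (l := 6) rfl N8047 D22564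
theorem N12330 : nd 12330 = n22565 := ndS (p := 8048) (l := 5) rfl N8048 D22565
theorem N12331 : nd 12331 = n22566 := ndS (p := 8051) (l := 0) rfl N8051 D22566
theorem N12332 : nd 12332 = n22567 := ndS (p := 8051) (l := 5) rfl N8051 D22567
theorem N12333 : nd 12333 = n22568 := ndS (p := 8051) (l := 6) rfl N8051 D22568
theorem N12334 : nd 12334 = n22569 := ndS (p := 8053) (l := 4) rfl N8053 D22569
theorem N12335 : nd 12335 = n22570 := ndS (p := 8054) (l := 5) rfl N8054 D22570
theorem N12336 : nd 12336 = n22571 := ndS (p := 8058) (l := 0) rfl N8058 D22571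
theorem N12337 : nd 12337 = n22572 := ndS (p := 8058) (l := 3) rfl N8058 D22572
theorem N12338 : nd 12338 = n22573 := ndS (p := 8058) (l := 5) rfl N8058 D22573
theorem N12339 : nd 12339 = n22574 := ndS (p := 8059) (l := 4) rfl N8059 D22574
theorem N12340 : nd 12340 = n22575 := ndS (p := 8060) (l := 5) rfl N8060 D22575
theorem N12341 : nd 12341 = n22576 := ndS (p := 8060) (l := 6) rfl N8060 D22576
theorem N12342 : nd 12342 = n22577 := ndS (p := 8061) (l := 2) rfl N8061 D22577
theorem N12343 : nd 12343 = n22578 := ndS (p := 8061) (l := 4) rfl N8061 D22578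
theorem N12344 : nd 12344 = n22579 := ndS (p := 8061) (l := 6) rfl N8061 D22579
theorem N12345 : nd 12345 = n22580 := ndS (p := 8062) (l := 6) rfl N8062 D22580
theorem N12346 : nd 12346 = n22581 := ndS (p := 8063) (l := 5) rfl N8063 D22581
theorem N12347 : nd 12347 = n22582 := ndS (p := 8065) (l := 1) rfl N8065 D22582
theorem N12348 : nd 12348 = n22583 := ndS (p := 8067) (l := 6) rfl N8067 D22583
theorem N12349 : nd 12349 = n22584 := ndS (p := 8069) (l := 1) rfl N8069 D22584
theorem N12350 : nd 12350 = n22585 := ndS (p := 8070) (l := 2) rfl N8070 D22585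
theorem N12351 : nd 12351 = n22586 := ndS (p := 8070) (l := 5) rfl N8070 D22586
theorem N12352 : nd 12352 = n22587 := ndS (p := 8071) (l := 6) rfl N8071 D22587
theorem N12353 : nd 12353 = n22588 := ndS (p := 8075) (l := 3) rfl N8075 D22588
theorem N12354 : nd 12354 = n22589 := ndS (p := 8075) (l := 6) rfl N8075 D22589
theorem N12355 : nd 12355 = n22590 := ndS (p := 8076) (l := 6) rfl N8076 D22590
theorem N12356 : nd 12356 = n22591 := ndS (p := 8077) (l := 1) rfl N8077 D22591
theorem N12357 : nd 12357 = n22592 := ndS (p := 8078) (l := 1) rfl N8078 D22592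
theorem N12358 : nd 12358 = n22593 := ndS (p := 8078) (l := 4) rfl N8078 D22593
theorem N12359 : nd 12359 = n22594 := ndS (p := 8078) (l := 5) rfl N8078 D22594
theorem N12360 : nd 12360 = n22595 := ndS (p := 8078) (l := 6) rfl N8078 D22595
theorem N12361 : nd 12361 = n22596 := ndS (p := 8079) (l := 3) rfl N8079 D22596
theorem N12362 : nd 12362 = n22597 := ndS (p := 8079) (l := 5) rfl N8079 D22597
theorem N12363 : nd 12363 = n22598 := ndS (p := 8079) (l := 6) rfl N8079 D22598
theorem N12364 : nd 12364 = n22599 := ndS (p := 8081) (l := 1) rfl N8081 D22599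
theorem N12365 : nd 12365 = n22600 := ndS (p := 8083) (l := 5) rfl N8083 D22600
theorem N12366 : nd 12366 = n22601 := ndS (p := 8084) (l := 4) rfl N8084 D22601
theorem N12367 : nd 12367 = n22602 := ndS (p := 8084) (l := 6) rfl N8084 D22602
theorem N12368 : nd 12368 = n22603 := ndS (p := 8085) (l := 3) rfl N8085 D22603
theorem N12369 : nd 12369 = n22604 := ndS (p := 8085) (l := 5) rfl N8085 D22604
theorem N12370 : nd 12370 = n22605 := ndS (p := 8085) (l := 6) rfl N8085 D22605
theorem N12371 : nd 12371 = n22606 := ndS (p := 8087) (l := 1) rfl N8087 D22606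
theorem N12372 : nd 12372 = n22607 := ndS (p := 8088) (l := 2) rfl N8088 D22607
theorem N12373 : nd 12373 = n22608 := ndS (p := 8088) (l := 5) rfl N8088 D22608
theorem N12374 : nd 12374 = n22609 := ndS (p := 8089) (l := 6) rfl N8089 D22609
theorem N12375 : nd 12375 = n22610 := ndS (p := 8092) (l := 5) rfl N8092 D22610
theorem N12376 : nd 12376 = n22611 := ndS (p := 8094) (l := 5) rfl N8094 D22611
theorem N12377 : nd 12377 = n22612 := ndS (p := 8095) (l := 0) rfl N8095 D22612
theorem N12378 : nd 12378 = n22613 := ndS (p := 8095) (l := 5) rfl N8095 D22613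
theorem N12379 : nd 12379 = n22614 := ndS (p := 8095) (l := 6) rfl N8095 D22614
theorem N12380 : nd 12380 = n22615 := ndS (p := 8097) (l := 4) rfl N8097 D22615
theorem N12381 : nd 12381 = n22616 := ndS (p := 8098) (l := 6) rfl N8098 D22616
theorem N12382 : nd 12382 = n22617 := ndS (p := 8102) (l := 0) rfl N8102 D22617
theorem N12383 : nd 12383 = n22618 := ndS (p := 8102) (l := 3) rfl N8102 D22618
theorem N12384 : nd 12384 = n22619 := ndS (p := 8102) (l := 6) rfl N8102 D22619
theorem N12385 : nd 12385 = n22620 := ndS (p := 8103) (l := 4) rfl N8103 D22620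
theorem N12386 : nd 12386 = n22621 := ndS (p := 8104) (l := 5) rfl N8104 D22621
theorem N12387 : nd 12387 = n22622 := ndS (p := 8104) (l := 6) rfl N8104 D22622
theorem N12388 : nd 12388 = n22623 := ndS (p := 8105) (l := 2) rfl N8105 D22623
theorem N12389 : nd 12389 = n22624 := ndS (p := 8105) (l := 4) rfl N8105 D22624
theorem N12390 : nd 12390 = n22625 := ndS (p := 8105) (l := 5) rfl N8105 D22625
theorem N12391 : nd 12391 = n22626 := ndS (p := 8106) (l := 6) rfl N8106 D22626
theorem N12392 : nd 12392 = n22627 := ndS (p := 8107) (l := 5) rfl N8107 D22627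
theorem N12393 : nd 12393 = n22628 := ndS (p := 8109) (l := 1) rfl N8109 D22628
theorem N12394 : nd 12394 = n22629 := ndS (p := 8111) (l := 5) rfl N8111 D22629
theorem N12395 : nd 12395 = n22630 := ndS (p := 8112) (l := 1) rfl N8112 D22630
theorem N12396 : nd 12396 = n22631 := ndS (p := 8114) (l := 2) rfl N8114 D22631
theorem N12397 : nd 12397 = n22632 := ndS (p := 8114) (l := 6) rfl N8114 D22632
theorem N12398 : nd 12398 = n22633 := ndS (p := 8116) (l := 5) rfl N8116 D22633
theorem N12399 : nd 12399 = n22634 := ndS (p := 8119) (l := 3) rfl N8119 D22634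
theorem N12400 : nd 12400 = n22635 := ndS (p := 8119) (l := 5) rfl N8119 D22635
theorem N12401 : nd 12401 = n22636 := ndS (p := 8120) (l := 1) rfl N8120 D22636
theorem N12402 : nd 12402 = n22637 := ndS (p := 8121) (l := 1) rfl N8121 D22637
theorem N12403 : nd 12403 = n22638 := ndS (p := 8121) (l := 4) rfl N8121 D22638
theorem N12404 : nd 12404 = n22639 := ndS (p := 8122) (l := 5) rfl N8122 D22639
theorem N12405 : nd 12405 = n22640 := ndS (p := 8123) (l := 1) rfl N8123 D22640
theorem N12406 : nd 12406 = n22641 := ndS (p := 8124) (l := 6) rfl N8124 D22641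
theorem N12407 : nd 12407 = n22642 := ndS (p := 8125) (l := 4) rfl N8125 D22642
theorem N12408 : nd 12408 = n22643 := ndS (p := 8126) (l := 3) rfl N8126 D22643
theorem N12409 : nd 12409 = n22644 := ndS (p := 8126) (l := 5) rfl N8126 D22644
theorem N12410 : nd 12410 = n22645 := ndS (p := 8126) (l := 6) rfl N8126 D22645
theorem N12411 : nd 12411 = n22646 := ndS (p := 8127) (l := 1) rfl N8127 D22646
theorem N12412 : nd 12412 = n22647 := ndS (p := 8129) (l := 2) rfl N8129 D22647
theorem N12413 : nd 12413 = n22648 := ndS (p := 8133) (l := 5) rfl N8133 D22648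
theorem N12414 : nd 12414 = n22649 := ndS (p := 8135) (l := 1) rfl N8135 D22649
theorem N12415 : nd 12415 = n22650 := ndS (p := 8135) (l := 2) rfl N8135 D22650
theorem N12416 : nd 12416 = n22651 := ndS (p := 8136) (l := 3) rfl N8136 D22651
theorem N12417 : nd 12417 = n22652 := ndS (p := 8137) (l := 0) rfl N8137 D22652
theorem N12418 : nd 12418 = n22653 := ndS (p := 8137) (l := 2) rfl N8137 D22653
theorem N12419 : nd 12419 = n22654 := ndS (p := 8137) (l := 5) rfl N8137 D22654
theorem N12420 : nd 12420 = n22655 := ndS (p := 8138) (l := 1) rfl N8138 D22655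
theorem N12421 : nd 12421 = n22656 := ndS (p := 8139) (l := 4) rfl N8139 D22656
theorem N12422 : nd 12422 = n22657 := ndS (p := 8140) (l := 5) rfl N8140 D22657
theorem N12423 : nd 12423 = n22658 := ndS (p := 8141) (l := 1) rfl N8141 D22658
theorem N12424 : nd 12424 = n22659 := ndS (p := 8143) (l := 4) rfl N8143 D22659
theorem N12425 : nd 12425 = n22660 := ndS (p := 8143) (l := 5) rfl N8143 D22660
theorem N12426 : nd 12426 = n22661 := ndS (p := 8144) (l := 1) rfl N8144 D22661
theorem N12427 : nd 12427 = n22662 := ndS (p := 8145) (l := 2) rfl N8145 D22662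
theorem N12428 : nd 12428 = n22663 := ndS (p := 8146) (l := 1) rfl N8146 D22663
theorem N12429 : nd 12429 = n22664 := ndS (p := 8146) (l := 2) rfl N8146 D22664
theorem N12430 : nd 12430 = n22665 := ndS (p := 8147) (l := 3) rfl N8147 D22665
theorem N12431 : nd 12431 = n22666 := ndS (p := 8148) (l := 1) rfl N8148 D22666
theorem N12432 : nd 12432 = n22667 := ndS (p := 8148) (l := 2) rfl N8148 D22667
theorem N12433 : nd 12433 = n22668 := ndS (p := 8148) (l := 5) rfl N8148 D22668
theorem N12434 : nd 12434 = n22669 := ndS (p := 8149) (l := 5) rfl N8149 D22669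
theorem N12435 : nd 12435 = n22670 := ndS (p := 8150) (l := 6) rfl N8150 D22670
theorem N12436 : nd 12436 = n22671 := ndS (p := 8151) (l := 0) rfl N8151 D22671
theorem N12437 : nd 12437 = n22672 := ndS (p := 8151) (l := 2) rfl N8151 D22672
theorem N12438 : nd 12438 = n22673 := ndS (p := 8151) (l := 5) rfl N8151 D22673
theorem N12439 : nd 12439 = n22674 := ndS (p := 8151) (l := 6) rfl N8151 D22674
theorem N12440 : nd 12440 = n22675 := ndS (p := 8152) (l := 1) rfl N8152 D22675
theorem N12441 : nd 12441 = n22676 := ndS (p := 8152) (l := 3) rfl N8152 D22676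
theorem N12442 : nd 12442 = n22677 := ndS (p := 8153) (l := 2) rfl N8153 D22677
theorem N12443 : nd 12443 = n22678 := ndS (p := 8153) (l := 4) rfl N8153 D22678
theorem N12444 : nd 12444 = n22679 := ndS (p := 8155) (l := 2) rfl N8155 D22679
theorem N12445 : nd 12445 = n22680 := ndS (p := 8156) (l := 1) rfl N8156 D22680
theorem N12446 : nd 12446 = n22681 := ndS (p := 8156) (l := 5) rfl N8156 D22681
theorem N12447 : nd 12447 = n22682 := ndS (p := 8158) (l := 0) rfl N8158 D22682
theorem N12448 : nd 12448 = n22683 := ndS (p := 8158) (l := 3) rfl N8158 D22683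
theorem N12449 : nd 12449 = n22684 := ndS (p := 8158) (l := 5) rfl N8158 D22684
theorem N12450 : nd 12450 = n22685 := ndS (p := 8158) (l := 6) rfl N8158 D22685
theorem N12451 : nd 12451 = n22686 := ndS (p := 8159) (l := 2) rfl N8159 D22686
theorem N12452 : nd 12452 = n22687 := ndS (p := 8159) (l := 4) rfl N8159 D22687
theorem N12453 : nd 12453 = n22688 := ndS (p := 8160) (l := 4) rfl N8160 D22688
theorem N12454 : nd 12454 = n22689 := ndS (p := 8161) (l := 6) rfl N8161 D22689
theorem N12455 : nd 12455 = n22690 := ndS (p := 8162) (l := 1) rfl N8162 D22690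
theorem N12456 : nd 12456 = n22691 := ndS (p := 8162) (l := 5) rfl N8162 D22691
theorem N12457 : nd 12457 = n22692 := ndS (p := 8163) (l := 5) rfl N8163 D22692
theorem N12458 : nd 12458 = n22693 := ndS (p := 8165) (l := 0) rfl N8165 D22693
theorem N12459 : nd 12459 = n22694 := ndS (p := 8165) (l := 6) rfl N8165 D22694
theorem N12460 : nd 12460 = n22695 := ndS (p := 8166) (l := 0) rfl N8166 D22695
theorem N12461 : nd 12461 = n22696 := ndS (p := 8166) (l := 5) rfl N8166 D22696
theorem N12462 : nd 12462 = n22697 := ndS (p := 8167) (l := 1) rfl N8167 D22697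
theorem N12463 : nd 12463 = n22698 := ndS (p := 8167) (l := 5) rfl N8167 D22698
theorem N12464 : nd 12464 = n22699 := ndS (p := 8170) (l := 1) rfl N8170 D22699
theorem N12465 : nd 12465 = n22700 := ndS (p := 8173) (l := 1) rfl N8173 D22700
theorem N12466 : nd 12466 = n22701 := ndS (p := 8174) (l := 4) rfl N8174 D22701
theorem N12467 : nd 12467 = n22702 := ndS (p := 8175) (l := 6) rfl N8175 D22702
theorem N12468 : nd 12468 = n22703 := ndS (p := 8176) (l := 1) rfl N8176 D22703
theorem N12469 : nd 12469 = n22704 := ndS (p := 8178) (l := 4) rfl N8178 D22704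
theorem N12470 : nd 12470 = n22705 := ndS (p := 8178) (l := 6) rfl N8178 D22705
theorem N12471 : nd 12471 = n22706 := ndS (p := 8179) (l := 1) rfl N8179 D22706
theorem N12472 : nd 12472 = n22707 := ndS (p := 8180) (l := 1) rfl N8180 D22707
theorem N12473 : nd 12473 = n22708 := ndS (p := 8180) (l := 2) rfl N8180 D22708
theorem N12474 : nd 12474 = n22709 := ndS (p := 8182) (l := 2) rfl N8182 D22709
theorem N12475 : nd 12475 = n22710 := ndS (p := 8182) (l := 5) rfl N8182 D22710
theorem N12476 : nd 12476 = n22711 := ndS (p := 8183) (l := 1) rfl N8183 D22711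
theorem N12477 : nd 12477 = n22712 := ndS (p := 8183) (l := 3) rfl N8183 D22712
theorem N12478 : nd 12478 = n22713 := ndS (p := 8184) (l := 2) rfl N8184 D22713
theorem N12479 : nd 12479 = n22714 := ndS (p := 8184) (l := 4) rfl N8184 D22714
theorem N12480 : nd 12480 = n22715 := ndS (p := 8185) (l := 2) rfl N8185 D22715
theorem N12481 : nd 12481 = n22716 := ndS (p := 8186) (l := 1) rfl N8186 D22716
theorem N12482 : nd 12482 = n22717 := ndS (p := 8186) (l := 6) rfl N8186 D22717
theorem N12483 : nd 12483 = n22718 := ndS (p := 8188) (l := 0) rfl N8188 D22718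
theorem N12484 : nd 12484 = n22719 := ndS (p := 8188) (l := 3) rfl N8188 D22719
theorem N12485 : nd 12485 = n22720 := ndS (p := 8188) (l := 5) rfl N8188 D22720
theorem N12486 : nd 12486 = n22721 := ndS (p := 8188) (l := 6) rfl N8188 D22721
theorem N12487 : nd 12487 = n22722 := ndS (p := 8189) (l := 2) rfl N8189 D22722
theorem N12488 : nd 12488 = n22723 := ndS (p := 8189) (l := 4) rfl N8189 D22723
theorem N12489 : nd 12489 = n22724 := ndS (p := 8190) (l := 4) rfl N8190 D22724
theorem N12490 : nd 12490 = n22725 := ndS (p := 8191) (l := 5) rfl N8191 D22725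
theorem N12491 : nd 12491 = n22726 := ndS (p := 8192) (l := 1) rfl N8192 D22726
theorem N12492 : nd 12492 = n22727 := ndS (p := 8192) (l := 6) rfl N8192 D22727
theorem N12493 : nd 12493 = n22728 := ndS (p := 8193) (l := 6) rfl N8193 D22728
theorem N12494 : nd 12494 = n22729 := ndS (p := 8196) (l := 0) rfl N8196 D22729
theorem N12495 : nd 12495 = n22730 := ndS (p := 8196) (l := 6) rfl N8196 D22730
theorem N12496 : nd 12496 = n22731 := ndS (p := 8197) (l := 1) rfl N8197 D22731
theorem N12497 : nd 12497 = n22732 := ndS (p := 8197) (l := 6) rfl N8197 D22732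
theorem N12498 : nd 12498 = n22733 := ndS (p := 8200) (l := 1) rfl N8200 D22733
theorem N12499 : nd 12499 = n22734 := ndS (p := 8203) (l := 2) rfl N8203 D22734
theorem N12500 : nd 12500 = n22735 := ndS (p := 8203) (l := 5) rfl N8203 D22735
theorem N12501 : nd 12501 = n22736 := ndS (p := 8204) (l := 2) rfl N8204 D22736
theorem N12502 : nd 12502 = n22737 := ndS (p := 8204) (l := 6) rfl N8204 D22737
theorem N12503 : nd 12503 = n22738 := ndS (p := 8211) (l := 5) rfl N8211 D22738
theorem N12504 : nd 12504 = n22739 := ndS (p := 8211) (l := 6) rfl N8211 D22739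
theorem N12505 : nd 12505 = n22740 := ndS (p := 8214) (l := 6) rfl N8214 D22740
theorem N12506 : nd 12506 = n22741 := ndS (p := 8215) (l := 5) rfl N8215 D22741
theorem N12507 : nd 12507 = n22742 := ndS (p := 8216) (l := 1) rfl N8216 D22742
theorem N12508 : nd 12508 = n22743 := ndS (p := 8217) (l := 1) rfl N8217 D22743
theorem N12509 : nd 12509 = n22744 := ndS (p := 8218) (l := 0) rfl N8218 D22744
theorem N12510 : nd 12510 = n22745 := ndS (p := 8218) (l := 2) rfl N8218 D22745
theorem N12511 : nd 12511 = n22746 := ndS (p := 8218) (l := 6) rfl N8218 D22746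
theorem N12512 : nd 12512 = n22747 := ndS (p := 8219) (l := 0) rfl N8219 D22747
theorem N12513 : nd 12513 = n22748 := ndS (p := 8219) (l := 2) rfl N8219 D22748
theorem N12514 : nd 12514 = n22749 := ndS (p := 8219) (l := 5) rfl N8219 D22749
theorem N12515 : nd 12515 = n22750 := ndS (p := 8220) (l := 1) rfl N8220 D22750
theorem N12516 : nd 12516 = n22751 := ndS (p := 8220) (l := 6) rfl N8220 D22751
theorem N12517 : nd 12517 = n22752 := ndS (p := 8221) (l := 5) rfl N8221 D22752
theorem N12518 : nd 12518 = n22753 := ndS (p := 8222) (l := 1) rfl N8222 D22753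
theorem N12519 : nd 12519 = n22754 := ndS (p := 8222) (l := 5) rfl N8222 D22754
theorem N12520 : nd 12520 = n22755 := ndS (p := 8223) (l := 6) rfl N8223 D22755
theorem N12521 : nd 12521 = n22756 := ndS (p := 8224) (l := 6) rfl N8224 D22756
theorem N12522 : nd 12522 = n22757 := ndS (p := 8225) (l := 5) rfl N8225 D22757
theorem N12523 : nd 12523 = n22758 := ndS (p := 8228) (l := 1) rfl N8228 D22758
theorem N12524 : nd 12524 = n22759 := ndS (p := 8229) (l := 0) rfl N8229 D22759
theorem N12525 : nd 12525 = n22760 := ndS (p := 8229) (l := 2) rfl N8229 D22760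
theorem N12526 : nd 12526 = n22761 := ndS (p := 8229) (l := 5) rfl N8229 D22761
theorem N12527 : nd 12527 = n22762 := ndS (p := 8232) (l := 1) rfl N8232 D22762
theorem N12528 : nd 12528 = n22763 := ndS (p := 8233) (l := 0) rfl N8233 D22763
theorem N12529 : nd 12529 = n22764 := ndS (p := 8233) (l := 2) rfl N8233 D22764
theorem N12530 : nd 12530 = n22765 := ndS (p := 8233) (l := 6) rfl N8233 D22765
theorem N12531 : nd 12531 = n22766 := ndS (p := 8234) (l := 0) rfl N8234 D22766
theorem N12532 : nd 12532 = n22767 := ndS (p := 8234) (l := 2) rfl N8234 D22767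
theorem N12533 : nd 12533 = n22768 := ndS (p := 8234) (l := 5) rfl N8234 D22768
theorem N12534 : nd 12534 = n22769 := ndS (p := 8235) (l := 1) rfl N8235 D22769
theorem N12535 : nd 12535 = n22770 := ndS (p := 8235) (l := 2) rfl N8235 D22770
theorem N12536 : nd 12536 = n22771 := ndS (p := 8235) (l := 5) rfl N8235 D22771
theorem N12537 : nd 12537 = n22772 := ndS (p := 8236) (l := 3) rfl N8236 D22772
theorem N12538 : nd 12538 = n22773 := ndS (p := 8236) (l := 5) rfl N8236 D22773
theorem N12539 : nd 12539 = n22774 := ndS (p := 8237) (l := 6) rfl N8237 D22774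
theorem N12540 : nd 12540 = n22775 := ndS (p := 8238) (l := 0) rfl N8238 D22775
theorem N12541 : nd 12541 = n22776 := ndS (p := 8238) (l := 2) rfl N8238 D22776
theorem N12542 : nd 12542 = n22777 := ndS (p := 8238) (l := 6) rfl N8238 D22777
theorem N12543 : nd 12543 = n22778 := ndS (p := 8239) (l := 1) rfl N8239 D22778
theorem N12544 : nd 12544 = n22779 := ndS (p := 8239) (l := 2) rfl N8239 D22779
theorem N12545 : nd 12545 = n22780 := ndS (p := 8239) (l := 6) rfl N8239 D22780
theorem N12546 : nd 12546 = n22781 := ndS (p := 8240) (l := 3) rfl N8240 D22781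
theorem N12547 : nd 12547 = n22782 := ndS (p := 8240) (l := 6) rfl N8240 D22782
theorem N12548 : nd 12548 = n22783 := ndS (p := 8241) (l := 5) rfl N8241 D22783
theorem N12549 : nd 12549 = n22784 := ndS (p := 8242) (l := 1) rfl N8242 D22784
theorem N12550 : nd 12550 = n22785 := ndS (p := 8243) (l := 1) rfl N8243 D22785
theorem N12551 : nd 12551 = n22786 := ndS (p := 8244) (l := 1) rfl N8244 D22786
theorem N12552 : nd 12552 = n22787 := ndS (p := 8245) (l := 1) rfl N8245 D22787
theorem N12553 : nd 12553 = n22788 := ndS (p := 8246) (l := 1) rfl N8246 D22788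
theorem N12554 : nd 12554 = n22789 := ndS (p := 8247) (l := 1) rfl N8247 D22789
theorem N12555 : nd 12555 = n22790 := ndS (p := 8248) (l := 0) rfl N8248 D22790
theorem N12556 : nd 12556 = n22791 := ndS (p := 8248) (l := 2) rfl N8248 D22791
theorem N12557 : nd 12557 = n22792 := ndS (p := 8248) (l := 5) rfl N8248 D22792
theorem N12558 : nd 12558 = n22793 := ndS (p := 8249) (l := 0) rfl N8249 D22793
theorem N12559 : nd 12559 = n22794 := ndS (p := 8249) (l := 2) rfl N8249 D22794
theorem N12560 : nd 12560 = n22795 := ndS (p := 8249) (l := 6) rfl N8249 D22795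
theorem N12561 : nd 12561 = n22796 := ndS (p := 8250) (l := 0) rfl N8250 D22796
theorem N12562 : nd 12562 = n22797 := ndS (p := 8250) (l := 2) rfl N8250 D22797
theorem N12563 : nd 12563 = n22798 := ndS (p := 8250) (l := 6) rfl N8250 D22798
theorem N12564 : nd 12564 = n22799 := ndS (p := 8251) (l := 0) rfl N8251 D22799
theorem N12565 : nd 12565 = n22800 := ndS (p := 8251) (l := 2) rfl N8251 D22800
theorem N12566 : nd 12566 = n22801 := ndS (p := 8251) (l := 5) rfl N8251 D22801
theorem N12567 : nd 12567 = n22802 := ndS (p := 8254) (l := 6) rfl N8254 D22802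
theorem N12568 : nd 12568 = n22803 := ndS (p := 8257) (l := 5) rfl N8257 D22803
theorem N12569 : nd 12569 = n22804 := ndS (p := 8261) (l := 5) rfl N8261 D22804
theorem N12570 : nd 12570 = n22805 := ndS (p := 8262) (l := 1) rfl N8262 D22805
theorem N12571 : nd 12571 = n22806 := ndS (p := 8262) (l := 2) rfl N8262 D22806
theorem N12572 : nd 12572 = n22807 := ndS (p := 8265) (l := 2) rfl N8265 D22807
theorem N12573 : nd 12573 = n22808 := ndS (p := 8266) (l := 1) rfl N8266 D22808
theorem N12574 : nd 12574 = n22809 := ndS (p := 8268) (l := 4) rfl N8268 D22809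
theorem N12575 : nd 12575 = n22810 := ndS (p := 8272) (l := 6) rfl N8272 D22810
theorem N12576 : nd 12576 = n22811 := ndS (p := 8273) (l := 1) rfl N8273 D22811
theorem N12577 : nd 12577 = n22812 := ndS (p := 8273) (l := 2) rfl N8273 D22812
theorem N12578 : nd 12578 = n22813 := ndS (p := 8276) (l := 2) rfl N8276 D22813
theorem N12579 : nd 12579 = n22814 := ndS (p := 8277) (l := 1) rfl N8277 D22814
theorem N12580 : nd 12580 = n22815 := ndS (p := 8279) (l := 4) rfl N8279 D22815
theorem N12581 : nd 12581 = n22816 := ndS (p := 8282) (l := 1) rfl N8282 D22816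
theorem N12582 : nd 12582 = n22817 := ndS (p := 8283) (l := 2) rfl N8283 D22817
theorem N12583 : nd 12583 = n22818 := ndS (p := 8284) (l := 1) rfl N8284 D22818
theorem N12584 : nd 12584 = n22819 := ndS (p := 8285) (l := 1) rfl N8285 D22819
theorem N12585 : nd 12585 = n22820 := ndS (p := 8285) (l := 2) rfl N8285 D22820
theorem N12586 : nd 12586 = n22821 := ndS (p := 8285) (l := 5) rfl N8285 D22821
theorem N12587 : nd 12587 = n22822 := ndS (p := 8290) (l := 5) rfl N8290 D22822
theorem N12588 : nd 12588 = n22823 := ndS (p := 8291) (l := 1) rfl N8291 D22823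
theorem N12589 : nd 12589 = n22824 := ndS (p := 8292) (l := 2) rfl N8292 D22824
theorem N12590 : nd 12590 = n22825 := ndS (p := 8294) (l := 1) rfl N8294 D22825
theorem N12591 : nd 12591 = n22826 := ndS (p := 8294) (l := 2) rfl N8294 D22826
theorem N12592 : nd 12592 = n22827 := ndS (p := 8299) (l := 6) rfl N8299 D22827
theorem N12593 : nd 12593 = n22828 := ndS (p := 8301) (l := 6) rfl N8301 D22828
theorem N12594 : nd 12594 = n22829 := ndS (p := 8304) (l := 5) rfl N8304 D22829
theorem N12595 : nd 12595 = n22830 := ndS (p := 8306) (l := 6) rfl N8306 D22830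
theorem N12596 : nd 12596 = n22831 := ndS (p := 8307) (l := 6) rfl N8307 D22831
theorem N12597 : nd 12597 = n22832 := ndS (p := 8312) (l := 5) rfl N8312 D22832
theorem N12598 : nd 12598 = n22833 := ndS (p := 8313) (l := 5) rfl N8313 D22833
theorem N12599 : nd 12599 = n22834 := ndS (p := 8320) (l := 6) rfl N8320 D22834
theorem N12600 : nd 12600 = n22835 := ndS (p := 8321) (l := 6) rfl N8321 D22835
theorem N12601 : nd 12601 = n22836 := ndS (p := 8323) (l := 5) rfl N8323 D22836
theorem N12602 : nd 12602 = n22837 := ndS (p := 8324) (l := 5) rfl N8324 D22837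
theorem N12603 : nd 12603 = n22838 := ndS (p := 8327) (l := 6) rfl N8327 D22838
theorem N12604 : nd 12604 = n22839 := ndS (p := 8330) (l := 5) rfl N8330 D22839
theorem N12605 : nd 12605 = n22840 := ndS (p := 8333) (l := 5) rfl N8333 D22840
theorem N12606 : nd 12606 = n22841 := ndS (p := 8333) (l := 6) rfl N8333 D22841
theorem N12607 : nd 12607 = n22842 := ndS (p := 8334) (l := 6) rfl N8334 D22842
theorem N12608 : nd 12608 = n22843 := ndS (p := 8335) (l := 1) rfl N8335 D22843
theorem N12609 : nd 12609 = n22844 := ndS (p := 8338) (l := 1) rfl N8338 D22844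
theorem N12610 : nd 12610 = n22845 := ndS (p := 8339) (l := 2) rfl N8339 D22845
theorem N12611 : nd 12611 = n22846 := ndS (p := 8341) (l := 5) rfl N8341 D22846
theorem N12612 : nd 12612 = n22847 := ndS (p := 8341) (l := 6) rfl N8341 D22847
theorem N12613 : nd 12613 = n22848 := ndS (p := 8342) (l := 5) rfl N8342 D22848
theorem N12614 : nd 12614 = n22849 := ndS (p := 8343) (l := 1) rfl N8343 D22849
theorem N12615 : nd 12615 = n22850 := ndS (p := 8346) (l := 1) rfl N8346 D22850
theorem N12616 : nd 12616 = n22851 := ndS (p := 8347) (l := 2) rfl N8347 D22851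
theorem N12617 : nd 12617 = n22852 := ndS (p := 8352) (l := 1) rfl N8352 D22852
theorem N12618 : nd 12618 = n22853 := ndS (p := 8353) (l := 0) rfl N8353 D22853
theorem N12619 : nd 12619 = n22854 := ndS (p := 8356) (l := 1) rfl N8356 D22854
theorem N12620 : nd 12620 = n22855 := ndS (p := 8357) (l := 0) rfl N8357 D22855
theorem N12621 : nd 12621 = n22856 := ndS (p := 8358) (l := 6) rfl N8358 D22856
theorem N12622 : nd 12622 = n22857 := ndS (p := 8359) (l := 3) rfl N8359 D22857
theorem N12623 : nd 12623 = n22858 := ndS (p := 8360) (l := 6) rfl N8360 D22858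
theorem N12624 : nd 12624 = n22859 := ndS (p := 8361) (l := 1) rfl N8361 D22859
theorem N12625 : nd 12625 = n22860 := ndS (p := 8362) (l := 0) rfl N8362 D22860
theorem N12626 : nd 12626 = n22861 := ndS (p := 8362) (l := 2) rfl N8362 D22861
theorem N12627 : nd 12627 = n22862 := ndS (p := 8362) (l := 5) rfl N8362 D22862
theorem N12628 : nd 12628 = n22863 := ndS (p := 8363) (l := 2) rfl N8363 D22863
theorem N12629 : nd 12629 = n22864 := ndS (p := 8363) (l := 5) rfl N8363 D22864
theorem N12630 : nd 12630 = n22865 := ndS (p := 8364) (l := 5) rfl N8364 D22865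
theorem N12631 : nd 12631 = n22866 := ndS (p := 8365) (l := 6) rfl N8365 D22866
theorem N12632 : nd 12632 = n22867 := ndS (p := 8366) (l := 5) rfl N8366 D22867
theorem N12633 : nd 12633 = n22868 := ndS (p := 8367) (l := 3) rfl N8367 D22868
theorem N12634 : nd 12634 = n22869 := ndS (p := 8368) (l := 5) rfl N8368 D22869
theorem N12635 : nd 12635 = n22870 := ndS (p := 8369) (l := 1) rfl N8369 D22870
theorem N12636 : nd 12636 = n22871 := ndS (p := 8370) (l := 0) rfl N8370 D22871
theorem N12637 : nd 12637 = n22872 := ndS (p := 8370) (l := 2) rfl N8370 D22872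
theorem N12638 : nd 12638 = n22873 := ndS (p := 8370) (l := 6) rfl N8370 D22873
theorem N12639 : nd 12639 = n22874 := ndS (p := 8371) (l := 2) rfl N8371 D22874
theorem N12640 : nd 12640 = n22875 := ndS (p := 8371) (l := 6) rfl N8371 D22875
theorem N12641 : nd 12641 = n22876 := ndS (p := 8372) (l := 6) rfl N8372 D22876
theorem N12642 : nd 12642 = n22877 := ndS (p := 8373) (l := 5) rfl N8373 D22877
theorem N12643 : nd 12643 = n22878 := ndS (p := 8374) (l := 6) rfl N8374 D22878
theorem N12644 : nd 12644 = n22879 := ndS (p := 8375) (l := 1) rfl N8375 D22879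
theorem N12645 : nd 12645 = n22880 := ndS (p := 8376) (l := 1) rfl N8376 D22880
theorem N12646 : nd 12646 = n22881 := ndS (p := 8377) (l := 0) rfl N8377 D22881
theorem N12647 : nd 12647 = n22882 := ndS (p := 8377) (l := 5) rfl N8377 D22882
theorem N12648 : nd 12648 = n22883 := ndS (p := 8378) (l := 1) rfl N8378 D22883
theorem N12649 : nd 12649 = n22884 := ndS (p := 8379) (l := 1) rfl N8379 D22884
theorem N12650 : nd 12650 = n22885 := ndS (p := 8379) (l := 5) rfl N8379 D22885
theorem N12651 : nd 12651 = n22886 := ndS (p := 8380) (l := 6) rfl N8380 D22886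
theorem N12652 : nd 12652 = n22887 := ndS (p := 8381) (l := 5) rfl N8381 D22887
theorem N12653 : nd 12653 = n22888 := ndS (p := 8382) (l := 1) rfl N8382 D22888
theorem N12654 : nd 12654 = n22889 := ndS (p := 8383) (l := 1) rfl N8383 D22889
theorem N12655 : nd 12655 = n22890 := ndS (p := 8384) (l := 0) rfl N8384 D22890
theorem N12656 : nd 12656 = n22891 := ndS (p := 8384) (l := 6) rfl N8384 D22891
theorem N12657 : nd 12657 = n22892 := ndS (p := 8385) (l := 1) rfl N8385 D22892
theorem N12658 : nd 12658 = n22893 := ndS (p := 8386) (l := 1) rfl N8386 D22893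
theorem N12659 : nd 12659 = n22894 := ndS (p := 8386) (l := 6) rfl N8386 D22894
theorem N12660 : nd 12660 = n22895 := ndS (p := 8387) (l := 5) rfl N8387 D22895
theorem N12661 : nd 12661 = n22896 := ndS (p := 8388) (l := 1) rfl N8388 D22896
theorem N12662 : nd 12662 = n22897 := ndS (p := 8389) (l := 3) rfl N8389 D22897
theorem N12663 : nd 12663 = n22898 := ndS (p := 8389) (l := 6) rfl N8389 D22898
theorem N12664 : nd 12664 = n22899 := ndS (p := 8390) (l := 4) rfl N8390 D22899
theorem N12665 : nd 12665 = n22900 := ndS (p := 8390) (l := 6) rfl N8390 D22900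
theorem N12666 : nd 12666 = n22901 := ndS (p := 8391) (l := 1) rfl N8391 D22901
theorem N12667 : nd 12667 = n22902 := ndS (p := 8392) (l := 2) rfl N8392 D22902
theorem N12668 : nd 12668 = n22903 := ndS (p := 8392) (l := 5) rfl N8392 D22903
theorem N12669 : nd 12669 = n22904 := ndS (p := 8393) (l := 6) rfl N8393 D22904
theorem N12670 : nd 12670 = n22905 := ndS (p := 8394) (l := 1) rfl N8394 D22905
theorem N12671 : nd 12671 = n22906 := ndS (p := 8394) (l := 5) rfl N8394 D22906
theorem N12672 : nd 12672 = n22907 := ndS (p := 8395) (l := 0) rfl N8395 D22907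
theorem N12673 : nd 12673 = n22908 := ndS (p := 8395) (l := 5) rfl N8395 D22908
theorem N12674 : nd 12674 = n22909 := ndS (p := 8397) (l := 2) rfl N8397 D22909
theorem N12675 : nd 12675 = n22910 := ndS (p := 8398) (l := 3) rfl N8398 D22910
theorem N12676 : nd 12676 = n22911 := ndS (p := 8398) (l := 5) rfl N8398 D22911
theorem N12677 : nd 12677 = n22912 := ndS (p := 8399) (l := 1) rfl N8399 D22912
theorem N12678 : nd 12678 = n22913 := ndS (p := 8400) (l := 6) rfl N8400 D22913
theorem N12679 : nd 12679 = n22914 := ndS (p := 8401) (l := 0) rfl N8401 D22914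
theorem N12680 : nd 12680 = n22915 := ndS (p := 8401) (l := 2) rfl N8401 D22915
theorem N12681 : nd 12681 = n22916 := ndS (p := 8401) (l := 5) rfl N8401 D22916
theorem N12682 : nd 12682 = n22917 := ndS (p := 8401) (l := 6) rfl N8401 D22917
theorem N12683 : nd 12683 = n22918 := ndS (p := 8402) (l := 3) rfl N8402 D22918
theorem N12684 : nd 12684 = n22919 := ndS (p := 8402) (l := 5) rfl N8402 D22919
theorem N12685 : nd 12685 = n22920 := ndS (p := 8404) (l := 2) rfl N8404 D22920
theorem N12686 : nd 12686 = n22921 := ndS (p := 8404) (l := 4) rfl N8404 D22921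
theorem N12687 : nd 12687 = n22922 := ndS (p := 8404) (l := 5) rfl N8404 D22922
theorem N12688 : nd 12688 = n22923 := ndS (p := 8405) (l := 6) rfl N8405 D22923
theorem N12689 : nd 12689 = n22924 := ndS (p := 8406) (l := 1) rfl N8406 D22924
theorem N12690 : nd 12690 = n22925 := ndS (p := 8407) (l := 1) rfl N8407 D22925
theorem N12691 : nd 12691 = n22926 := ndS (p := 8408) (l := 3) rfl N8408 D22926
theorem N12692 : nd 12692 = n22927 := ndS (p := 8408) (l := 5) rfl N8408 D22927
theorem N12693 : nd 12693 = n22928 := ndS (p := 8409) (l := 4) rfl N8409 D22928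
theorem N12694 : nd 12694 = n22929 := ndS (p := 8409) (l := 5) rfl N8409 D22929
theorem N12695 : nd 12695 = n22930 := ndS (p := 8410) (l := 1) rfl N8410 D22930
theorem N12696 : nd 12696 = n22931 := ndS (p := 8411) (l := 2) rfl N8411 D22931
theorem N12697 : nd 12697 = n22932 := ndS (p := 8411) (l := 6) rfl N8411 D22932
theorem N12698 : nd 12698 = n22933 := ndS (p := 8412) (l := 5) rfl N8412 D22933
theorem N12699 : nd 12699 = n22934 := ndS (p := 8413) (l := 1) rfl N8413 D22934
theorem N12700 : nd 12700 = n22935 := ndS (p := 8413) (l := 6) rfl N8413 D22935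
theorem N12701 : nd 12701 = n22936 := ndS (p := 8414) (l := 0) rfl N8414 D22936
theorem N12702 : nd 12702 = n22937 := ndS (p := 8414) (l := 6) rfl N8414 D22937
theorem N12703 : nd 12703 = n22938 := ndS (p := 8416) (l := 2) rfl N8416 D22938
theorem N12704 : nd 12704 = n22939 := ndS (p := 8417) (l := 3) rfl N8417 D22939
theorem N12705 : nd 12705 = n22940 := ndS (p := 8417) (l := 6) rfl N8417 D22940
theorem N12706 : nd 12706 = n22941 := ndS (p := 8418) (l := 1) rfl N8418 D22941
theorem N12707 : nd 12707 = n22942 := ndS (p := 8419) (l := 5) rfl N8419 D22942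
theorem N12708 : nd 12708 = n22943 := ndS (p := 8420) (l := 0) rfl N8420 D22943
theorem N12709 : nd 12709 = n22944 := ndS (p := 8420) (l := 2) rfl N8420 D22944
theorem N12710 : nd 12710 = n22945 := ndS (p := 8420) (l := 5) rfl N8420 D22945
theorem N12711 : nd 12711 = n22946 := ndS (p := 8420) (l := 6) rfl N8420 D22946
theorem N12712 : nd 12712 = n22947 := ndS (p := 8421) (l := 3) rfl N8421 D22947
theorem N12713 : nd 12713 = n22948 := ndS (p := 8421) (l := 6) rfl N8421 D22948
theorem N12714 : nd 12714 = n22949 := ndS (p := 8423) (l := 2) rfl N8423 D22949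
theorem N12715 : nd 12715 = n22950 := ndS (p := 8423) (l := 4) rfl N8423 D22950
theorem N12716 : nd 12716 = n22951 := ndS (p := 8423) (l := 6) rfl N8423 D22951
theorem N12717 : nd 12717 = n22952 := ndS (p := 8424) (l := 5) rfl N8424 D22952
theorem N12718 : nd 12718 = n22953 := ndS (p := 8425) (l := 1) rfl N8425 D22953
theorem N12719 : nd 12719 = n22954 := ndS (p := 8426) (l := 1) rfl N8426 D22954
theorem N12720 : nd 12720 = n22955 := ndS (p := 8427) (l := 0) rfl N8427 D22955
theorem N12721 : nd 12721 = n22956 := ndS (p := 8427) (l := 2) rfl N8427 D22956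
theorem N12722 : nd 12722 = n22957 := ndS (p := 8427) (l := 5) rfl N8427 D22957
theorem N12723 : nd 12723 = n22958 := ndS (p := 8428) (l := 1) rfl N8428 D22958
theorem N12724 : nd 12724 = n22959 := ndS (p := 8428) (l := 5) rfl N8428 D22959
theorem N12725 : nd 12725 = n22960 := ndS (p := 8429) (l := 6) rfl N8429 D22960
theorem N12726 : nd 12726 = n22961 := ndS (p := 8431) (l := 1) rfl N8431 D22961
theorem N12727 : nd 12727 = n22962 := ndS (p := 8432) (l := 0) rfl N8432 D22962
theorem N12728 : nd 12728 = n22963 := ndS (p := 8432) (l := 2) rfl N8432 D22963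
theorem N12729 : nd 12729 = n22964 := ndS (p := 8432) (l := 6) rfl N8432 D22964
theorem N12730 : nd 12730 = n22965 := ndS (p := 8433) (l := 1) rfl N8433 D22965
theorem N12731 : nd 12731 = n22966 := ndS (p := 8433) (l := 6) rfl N8433 D22966
theorem N12732 : nd 12732 = n22967 := ndS (p := 8434) (l := 5) rfl N8434 D22967
theorem N12733 : nd 12733 = n22968 := ndS (p := 8453) (l := 0) rfl N8453 D22968
theorem N12734 : nd 12734 = n22969 := ndS (p := 8453) (l := 2) rfl N8453 D22969
theorem N12735 : nd 12735 = n22970 := ndS (p := 8453) (l := 5) rfl N8453 D22970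
theorem N12736 : nd 12736 = n22971 := ndS (p := 8454) (l := 2) rfl N8454 D22971
theorem N12737 : nd 12737 = n22972 := ndS (p := 8455) (l := 3) rfl N8455 D22972
theorem N12738 : nd 12738 = n22973 := ndS (p := 8455) (l := 5) rfl N8455 D22973
theorem N12739 : nd 12739 = n22974 := ndS (p := 8457) (l := 5) rfl N8457 D22974
theorem N12740 : nd 12740 = n22975 := ndS (p := 8459) (l := 5) rfl N8459 D22975
theorem N12741 : nd 12741 = n22976 := ndS (p := 8460) (l := 6) rfl N8460 D22976
theorem N12742 : nd 12742 = n22977 := ndS (p := 8464) (l := 0) rfl N8464 D22977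
theorem N12743 : nd 12743 = n22978 := ndS (p := 8464) (l := 2) rfl N8464 D22978
theorem N12744 : nd 12744 = n22979 := ndS (p := 8464) (l := 6) rfl N8464 D22979
theorem N12745 : nd 12745 = n22980 := ndS (p := 8465) (l := 2) rfl N8465 D22980
theorem N12746 : nd 12746 = n22981 := ndS (p := 8466) (l := 3) rfl N8466 D22981
theorem N12747 : nd 12747 = n22982 := ndS (p := 8466) (l := 6) rfl N8466 D22982
theorem N12748 : nd 12748 = n22983 := ndS (p := 8468) (l := 6) rfl N8468 D22983
theorem N12749 : nd 12749 = n22984 := ndS (p := 8470) (l := 6) rfl N8470 D22984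
theorem N12750 : nd 12750 = n22985 := ndS (p := 8471) (l := 5) rfl N8471 D22985
theorem N12751 : nd 12751 = n22986 := ndS (p := 8481) (l := 3) rfl N8481 D22986
theorem N12752 : nd 12752 = n22987 := ndS (p := 8483) (l := 2) rfl N8483 D22987
theorem N12753 : nd 12753 = n22988 := ndS (p := 8484) (l := 5) rfl N8484 D22988
theorem N12754 : nd 12754 = n22989 := ndS (p := 8485) (l := 6) rfl N8485 D22989
theorem N12755 : nd 12755 = n22990 := ndS (p := 8489) (l := 3) rfl N8489 D22990
theorem N12756 : nd 12756 = n22991 := ndS (p := 8491) (l := 2) rfl N8491 D22991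
theorem N12757 : nd 12757 = n22992 := ndS (p := 8492) (l := 6) rfl N8492 D22992
theorem N12758 : nd 12758 = n22993 := ndS (p := 8493) (l := 5) rfl N8493 D22993
theorem N12759 : nd 12759 = n22994 := ndS (p := 8496) (l := 5) rfl N8496 D22994
theorem N12760 : nd 12760 = n22995 := ndS (p := 8497) (l := 6) rfl N8497 D22995
theorem N12761 : nd 12761 = n22996 := ndS (p := 8498) (l := 1) rfl N8498 D22996
theorem N12762 : nd 12762 = n22997 := ndS (p := 8500) (l := 3) rfl N8500 D22997
theorem N12763 : nd 12763 = n22998 := ndS (p := 8502) (l := 1) rfl N8502 D22998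
theorem N12764 : nd 12764 = n22999 := ndS (p := 8503) (l := 0) rfl N8503 D22999
theorem N12765 : nd 12765 = n23000 := ndS (p := 8504) (l := 1) rfl N8504 D23000
theorem N12766 : nd 12766 = n23001 := ndS (p := 8505) (l := 1) rfl N8505 D23001
theorem N12767 : nd 12767 = n23002 := ndS (p := 8508) (l := 4) rfl N8508 D23002
theorem N12768 : nd 12768 = n23003 := ndS (p := 8509) (l := 1) rfl N8509 D23003
theorem N12769 : nd 12769 = n23004 := ndS (p := 8510) (l := 0) rfl N8510 D23004
theorem N12770 : nd 12770 = n23005 := ndS (p := 8510) (l := 2) rfl N8510 D23005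
theorem N12771 : nd 12771 = n23006 := ndS (p := 8511) (l := 2) rfl N8511 D23006
theorem N12772 : nd 12772 = n23007 := ndS (p := 8511) (l := 6) rfl N8511 D23007
theorem N12773 : nd 12773 = n23008 := ndS (p := 8512) (l := 6) rfl N8512 D23008
theorem N12774 : nd 12774 = n23009 := ndS (p := 8514) (l := 2) rfl N8514 D23009
theorem N12775 : nd 12775 = n23010 := ndS (p := 8514) (l := 5) rfl N8514 D23010
theorem N12776 : nd 12776 = n23011 := ndS (p := 8515) (l := 5) rfl N8515 D23011
theorem N12777 : nd 12777 = n23012 := ndS (p := 8515) (l := 6) rfl N8515 D23012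
theorem N12778 : nd 12778 = n23013 := ndS (p := 8519) (l := 4) rfl N8519 D23013
theorem N12779 : nd 12779 = n23014 := ndS (p := 8519) (l := 5) rfl N8519 D23014
theorem N12780 : nd 12780 = n23015 := ndS (p := 8520) (l := 5) rfl N8520 D23015
theorem N12781 : nd 12781 = n23016 := ndS (p := 8522) (l := 1) rfl N8522 D23016
theorem N12782 : nd 12782 = n23017 := ndS (p := 8523) (l := 2) rfl N8523 D23017
theorem N12783 : nd 12783 = n23018 := ndS (p := 8523) (l := 5) rfl N8523 D23018
theorem N12784 : nd 12784 = n23019 := ndS (p := 8525) (l := 6) rfl N8525 D23019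
theorem N12785 : nd 12785 = n23020 := ndS (p := 8526) (l := 5) rfl N8526 D23020
theorem N12786 : nd 12786 = n23021 := ndS (p := 8527) (l := 1) rfl N8527 D23021
theorem N12787 : nd 12787 = n23022 := ndS (p := 8529) (l := 3) rfl N8529 D23022
theorem N12788 : nd 12788 = n23023 := ndS (p := 8531) (l := 1) rfl N8531 D23023
theorem N12789 : nd 12789 = n23024 := ndS (p := 8532) (l := 0) rfl N8532 D23024
theorem N12790 : nd 12790 = n23025 := ndS (p := 8533) (l := 1) rfl N8533 D23025
theorem N12791 : nd 12791 = n23026 := ndS (p := 8534) (l := 1) rfl N8534 D23026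
theorem N12792 : nd 12792 = n23027 := ndS (p := 8537) (l := 4) rfl N8537 D23027
theorem N12793 : nd 12793 = n23028 := ndS (p := 8538) (l := 1) rfl N8538 D23028
theorem N12794 : nd 12794 = n23029 := ndS (p := 8539) (l := 0) rfl N8539 D23029
theorem N12795 : nd 12795 = n23030 := ndS (p := 8539) (l := 2) rfl N8539 D23030
theorem N12796 : nd 12796 = n23031 := ndS (p := 8540) (l := 2) rfl N8540 D23031
theorem N12797 : nd 12797 = n23032 := ndS (p := 8540) (l := 5) rfl N8540 D23032
theorem N12798 : nd 12798 = n23033 := ndS (p := 8541) (l := 5) rfl N8541 D23033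
theorem N12799 : nd 12799 = n23034 := ndS (p := 8543) (l := 2) rfl N8543 D23034
theorem N12800 : nd 12800 = n23035 := ndS (p := 8543) (l := 6) rfl N8543 D23035
theorem N12801 : nd 12801 = n23036 := ndS (p := 8544) (l := 5) rfl N8544 D23036
theorem N12802 : nd 12802 = n23037 := ndS (p := 8544) (l := 6) rfl N8544 D23037
theorem N12803 : nd 12803 = n23038 := ndS (p := 8548) (l := 4) rfl N8548 D23038
theorem N12804 : nd 12804 = n23039 := ndS (p := 8548) (l := 6) rfl N8548 D23039
theorem N12805 : nd 12805 = n23040 := ndS (p := 8549) (l := 6) rfl N8549 D23040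
theorem N12806 : nd 12806 = n23041 := ndS (p := 8551) (l := 1) rfl N8551 D23041
theorem N12807 : nd 12807 = n23042 := ndS (p := 8552) (l := 2) rfl N8552 D23042
theorem N12808 : nd 12808 = n23043 := ndS (p := 8552) (l := 6) rfl N8552 D23043
theorem N12809 : nd 12809 = n23044 := ndS (p := 8553) (l := 6) rfl N8553 D23044
theorem N12810 : nd 12810 = n23045 := ndS (p := 8554) (l := 6) rfl N8554 D23045
theorem N12811 : nd 12811 = n23046 := ndS (p := 8557) (l := 0) rfl N8557 D23046
theorem N12812 : nd 12812 = n23047 := ndS (p := 8560) (l := 1) rfl N8560 D23047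
theorem N12813 : nd 12813 = n23048 := ndS (p := 8562) (l := 5) rfl N8562 D23048
theorem N12814 : nd 12814 = n23049 := ndS (p := 8563) (l := 5) rfl N8563 D23049
theorem N12815 : nd 12815 = n23050 := ndS (p := 8566) (l := 0) rfl N8566 D23050
theorem N12816 : nd 12816 = n23051 := ndS (p := 8569) (l := 1) rfl N8569 D23051
theorem N12817 : nd 12817 = n23052 := ndS (p := 8572) (l := 1) rfl N8572 D23052
theorem N12818 : nd 12818 = n23053 := ndS (p := 8574) (l := 1) rfl N8574 D23053
theorem N12819 : nd 12819 = n23054 := ndS (p := 8581) (l := 1) rfl N8581 D23054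
theorem N12820 : nd 12820 = n23055 := ndS (p := 8583) (l := 1) rfl N8583 D23055
theorem N12821 : nd 12821 = n23056 := ndS (p := 8591) (l := 6) rfl N8591 D23056
theorem N12822 : nd 12822 = n23057 := ndS (p := 8592) (l := 5) rfl N8592 D23057
theorem N12823 : nd 12823 = n23058 := ndS (p := 8593) (l := 0) rfl N8593 D23058
theorem N12824 : nd 12824 = n23059 := ndS (p := 8593) (l := 2) rfl N8593 D23059
theorem N12825 : nd 12825 = n23060 := ndS (p := 8593) (l := 6) rfl N8593 D23060
theorem N12826 : nd 12826 = n23061 := ndS (p := 8594) (l := 1) rfl N8594 D23061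
theorem N12827 : nd 12827 = n23062 := ndS (p := 8595) (l := 0) rfl N8595 D23062
theorem N12828 : nd 12828 = n23063 := ndS (p := 8595) (l := 2) rfl N8595 D23063
theorem N12829 : nd 12829 = n23064 := ndS (p := 8595) (l := 5) rfl N8595 D23064
theorem N12830 : nd 12830 = n23065 := ndS (p := 8596) (l := 1) rfl N8596 D23065
theorem N12831 : nd 12831 = n23066 := ndS (p := 8598) (l := 6) rfl N8598 D23066
theorem N12832 : nd 12832 = n23067 := ndS (p := 8599) (l := 1) rfl N8599 D23067
theorem N12833 : nd 12833 = n23068 := ndS (p := 8600) (l := 0) rfl N8600 D23068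
theorem N12834 : nd 12834 = n23069 := ndS (p := 8600) (l := 2) rfl N8600 D23069
theorem N12835 : nd 12835 = n23070 := ndS (p := 8600) (l := 5) rfl N8600 D23070
theorem N12836 : nd 12836 = n23071 := ndS (p := 8602) (l := 5) rfl N8602 D23071
theorem N12837 : nd 12837 = n23072 := ndS (p := 8603) (l := 1) rfl N8603 D23072
theorem N12838 : nd 12838 = n23073 := ndS (p := 8604) (l := 0) rfl N8604 D23073
theorem N12839 : nd 12839 = n23074 := ndS (p := 8604) (l := 2) rfl N8604 D23074
theorem N12840 : nd 12840 = n23075 := ndS (p := 8604) (l := 6) rfl N8604 D23075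
theorem N12841 : nd 12841 = n23076 := ndS (p := 8605) (l := 1) rfl N8605 D23076
theorem N12842 : nd 12842 = n23077 := ndS (p := 8605) (l := 2) rfl N8605 D23077
theorem N12843 : nd 12843 = n23078 := ndS (p := 8605) (l := 6) rfl N8605 D23078
theorem N12844 : nd 12844 = n23079 := ndS (p := 8606) (l := 3) rfl N8606 D23079
theorem N12845 : nd 12845 = n23080 := ndS (p := 8606) (l := 6) rfl N8606 D23080
theorem N12846 : nd 12846 = n23081 := ndS (p := 8607) (l := 5) rfl N8607 D23081
theorem N12847 : nd 12847 = n23082 := ndS (p := 8608) (l := 1) rfl N8608 D23082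
theorem N12848 : nd 12848 = n23083 := ndS (p := 8608) (l := 2) rfl N8608 D23083
theorem N12849 : nd 12849 = n23084 := ndS (p := 8608) (l := 5) rfl N8608 D23084
theorem N12850 : nd 12850 = n23085 := ndS (p := 8609) (l := 3) rfl N8609 D23085
theorem N12851 : nd 12851 = n23086 := ndS (p := 8609) (l := 5) rfl N8609 D23086
theorem N12852 : nd 12852 = n23087 := ndS (p := 8610) (l := 6) rfl N8610 D23087
theorem N12853 : nd 12853 = n23088 := ndS (p := 8611) (l := 0) rfl N8611 D23088
theorem N12854 : nd 12854 = n23089 := ndS (p := 8611) (l := 2) rfl N8611 D23089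
theorem N12855 : nd 12855 = n23090 := ndS (p := 8611) (l := 5) rfl N8611 D23090
theorem N12856 : nd 12856 = n23091 := ndS (p := 8611) (l := 6) rfl N8611 D23091
theorem N12857 : nd 12857 = n23092 := ndS (p := 8612) (l := 6) rfl N8612 D23092
theorem N12858 : nd 12858 = n23093 := ndS (p := 8613) (l := 1) rfl N8613 D23093
theorem N12859 : nd 12859 = n23094 := ndS (p := 8616) (l := 0) rfl N8616 D23094
theorem N12860 : nd 12860 = n23095 := ndS (p := 8616) (l := 2) rfl N8616 D23095
theorem N12861 : nd 12861 = n23096 := ndS (p := 8616) (l := 5) rfl N8616 D23096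
theorem N12862 : nd 12862 = n23097 := ndS (p := 8616) (l := 6) rfl N8616 D23097
theorem N12863 : nd 12863 = n23098 := ndS (p := 8617) (l := 5) rfl N8617 D23098
theorem N12864 : nd 12864 = n23099 := ndS (p := 8618) (l := 1) rfl N8618 D23099
theorem N12865 : nd 12865 = n23100 := ndS (p := 8621) (l := 6) rfl N8621 D23100
theorem N12866 : nd 12866 = n23101 := ndS (p := 8624) (l := 5) rfl N8624 D23101
theorem N12867 : nd 12867 = n23102 := ndS (p := 8627) (l := 0) rfl N8627 D23102
theorem N12868 : nd 12868 = n23103 := ndS (p := 8627) (l := 2) rfl N8627 D23103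
theorem N12869 : nd 12869 = n23104 := ndS (p := 8627) (l := 6) rfl N8627 D23104
theorem N12870 : nd 12870 = n23105 := ndS (p := 8628) (l := 0) rfl N8628 D23105
theorem N12871 : nd 12871 = n23106 := ndS (p := 8628) (l := 2) rfl N8628 D23106
theorem N12872 : nd 12872 = n23107 := ndS (p := 8628) (l := 5) rfl N8628 D23107
theorem N12873 : nd 12873 = n23108 := ndS (p := 8629) (l := 1) rfl N8629 D23108
theorem N12874 : nd 12874 = n23109 := ndS (p := 8629) (l := 2) rfl N8629 D23109
theorem N12875 : nd 12875 = n23110 := ndS (p := 8629) (l := 5) rfl N8629 D23110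
theorem N12876 : nd 12876 = n23111 := ndS (p := 8630) (l := 3) rfl N8630 D23111
theorem N12877 : nd 12877 = n23112 := ndS (p := 8630) (l := 5) rfl N8630 D23112
theorem N12878 : nd 12878 = n23113 := ndS (p := 8631) (l := 6) rfl N8631 D23113
theorem N12879 : nd 12879 = n23114 := ndS (p := 8632) (l := 0) rfl N8632 D23114
theorem N12880 : nd 12880 = n23115 := ndS (p := 8632) (l := 2) rfl N8632 D23115
theorem N12881 : nd 12881 = n23116 := ndS (p := 8632) (l := 5) rfl N8632 D23116
theorem N12882 : nd 12882 = n23117 := ndS (p := 8633) (l := 0) rfl N8633 D23117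
theorem N12883 : nd 12883 = n23118 := ndS (p := 8633) (l := 2) rfl N8633 D23118
theorem N12884 : nd 12884 = n23119 := ndS (p := 8633) (l := 6) rfl N8633 D23119
theorem N12885 : nd 12885 = n23120 := ndS (p := 8634) (l := 1) rfl N8634 D23120
theorem N12886 : nd 12886 = n23121 := ndS (p := 8634) (l := 2) rfl N8634 D23121
theorem N12887 : nd 12887 = n23122 := ndS (p := 8634) (l := 6) rfl N8634 D23122
theorem N12888 : nd 12888 = n23123 := ndS (p := 8635) (l := 3) rfl N8635 D23123
theorem N12889 : nd 12889 = n23124 := ndS (p := 8635) (l := 6) rfl N8635 D23124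
theorem N12890 : nd 12890 = n23125 := ndS (p := 8636) (l := 5) rfl N8636 D23125
theorem N12891 : nd 12891 = n23126 := ndS (p := 8638) (l := 3) rfl N8638 D23126
theorem N12892 : nd 12892 = n23127 := ndS (p := 8638) (l := 6) rfl N8638 D23127
theorem N12893 : nd 12893 = n23128 := ndS (p := 8642) (l := 6) rfl N8642 D23128
theorem N12894 : nd 12894 = n23129 := ndS (p := 8643) (l := 1) rfl N8643 D23129
theorem N12895 : nd 12895 = n23130 := ndS (p := 8644) (l := 0) rfl N8644 D23130
theorem N12896 : nd 12896 = n23131 := ndS (p := 8644) (l := 2) rfl N8644 D23131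
theorem N12897 : nd 12897 = n23132 := ndS (p := 8644) (l := 5) rfl N8644 D23132
theorem N12898 : nd 12898 = n23133 := ndS (p := 8645) (l := 1) rfl N8645 D23133
theorem N12899 : nd 12899 = n23134 := ndS (p := 8648) (l := 0) rfl N8648 D23134
theorem N12900 : nd 12900 = n23135 := ndS (p := 8648) (l := 2) rfl N8648 D23135
theorem N12901 : nd 12901 = n23136 := ndS (p := 8648) (l := 6) rfl N8648 D23136
theorem N12902 : nd 12902 = n23137 := ndS (p := 8649) (l := 1) rfl N8649 D23137
theorem N12903 : nd 12903 = n23138 := ndS (p := 8649) (l := 5) rfl N8649 D23138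
theorem N12904 : nd 12904 = n23139 := ndS (p := 8651) (l := 1) rfl N8651 D23139
theorem N12905 : nd 12905 = n23140 := ndS (p := 8652) (l := 1) rfl N8652 D23140
theorem N12906 : nd 12906 = n23141 := ndS (p := 8654) (l := 3) rfl N8654 D23141
theorem N12907 : nd 12907 = n23142 := ndS (p := 8654) (l := 5) rfl N8654 D23142
theorem N12908 : nd 12908 = n23143 := ndS (p := 8658) (l := 5) rfl N8658 D23143
theorem N12909 : nd 12909 = n23144 := ndS (p := 8659) (l := 1) rfl N8659 D23144
theorem N12910 : nd 12910 = n23145 := ndS (p := 8660) (l := 0) rfl N8660 D23145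
theorem N12911 : nd 12911 = n23146 := ndS (p := 8660) (l := 2) rfl N8660 D23146
theorem N12912 : nd 12912 = n23147 := ndS (p := 8660) (l := 6) rfl N8660 D23147
theorem N12913 : nd 12913 = n23148 := ndS (p := 8661) (l := 1) rfl N8661 D23148
theorem N12914 : nd 12914 = n23149 := ndS (p := 8664) (l := 0) rfl N8664 D23149
theorem N12915 : nd 12915 = n23150 := ndS (p := 8664) (l := 2) rfl N8664 D23150
theorem N12916 : nd 12916 = n23151 := ndS (p := 8664) (l := 5) rfl N8664 D23151
theorem N12917 : nd 12917 = n23152 := ndS (p := 8665) (l := 1) rfl N8665 D23152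
theorem N12918 : nd 12918 = n23153 := ndS (p := 8665) (l := 6) rfl N8665 D23153
theorem N12919 : nd 12919 = n23154 := ndS (p := 8667) (l := 1) rfl N8667 D23154
theorem N12920 : nd 12920 = n23155 := ndS (p := 8668) (l := 1) rfl N8668 D23155
theorem N12921 : nd 12921 = n23156 := ndS (p := 8669) (l := 6) rfl N8669 D23156
theorem N12922 : nd 12922 = n23157 := ndS (p := 8670) (l := 1) rfl N8670 D23157
theorem N12923 : nd 12923 = n23158 := ndS (p := 8671) (l := 0) rfl N8671 D23158
theorem N12924 : nd 12924 = n23159 := ndS (p := 8671) (l := 2) rfl N8671 D23159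
theorem N12925 : nd 12925 = n23160 := ndS (p := 8671) (l := 5) rfl N8671 D23160
theorem N12926 : nd 12926 = n23161 := ndS (p := 8672) (l := 0) rfl N8672 D23161
theorem N12927 : nd 12927 = n23162 := ndS (p := 8673) (l := 1) rfl N8673 D23162
theorem N12928 : nd 12928 = n23163 := ndS (p := 8675) (l := 1) rfl N8675 D23163
theorem N12929 : nd 12929 = n23164 := ndS (p := 8676) (l := 0) rfl N8676 D23164
theorem N12930 : nd 12930 = n23165 := ndS (p := 8676) (l := 2) rfl N8676 D23165
theorem N12931 : nd 12931 = n23166 := ndS (p := 8676) (l := 6) rfl N8676 D23166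
theorem N12932 : nd 12932 = n23167 := ndS (p := 8677) (l := 0) rfl N8677 D23167
theorem N12933 : nd 12933 = n23168 := ndS (p := 8677) (l := 5) rfl N8677 D23168
theorem N12934 : nd 12934 = n23169 := ndS (p := 8677) (l := 6) rfl N8677 D23169
theorem N12935 : nd 12935 = n23170 := ndS (p := 8678) (l := 1) rfl N8678 D23170
theorem N12936 : nd 12936 = n23171 := ndS (p := 8680) (l := 1) rfl N8680 D23171
theorem N12937 : nd 12937 = n23172 := ndS (p := 8681) (l := 5) rfl N8681 D23172
theorem N12938 : nd 12938 = n23173 := ndS (p := 8682) (l := 1) rfl N8682 D23173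
theorem N12939 : nd 12939 = n23174 := ndS (p := 8683) (l := 0) rfl N8683 D23174
theorem N12940 : nd 12940 = n23175 := ndS (p := 8683) (l := 2) rfl N8683 D23175
theorem N12941 : nd 12941 = n23176 := ndS (p := 8683) (l := 6) rfl N8683 D23176
theorem N12942 : nd 12942 = n23177 := ndS (p := 8684) (l := 0) rfl N8684 D23177
theorem N12943 : nd 12943 = n23178 := ndS (p := 8685) (l := 1) rfl N8685 D23178
theorem N12944 : nd 12944 = n23179 := ndS (p := 8687) (l := 1) rfl N8687 D23179
theorem N12945 : nd 12945 = n23180 := ndS (p := 8688) (l := 0) rfl N8688 D23180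
theorem N12946 : nd 12946 = n23181 := ndS (p := 8688) (l := 2) rfl N8688 D23181
theorem N12947 : nd 12947 = n23182 := ndS (p := 8688) (l := 5) rfl N8688 D23182
theorem N12948 : nd 12948 = n23183 := ndS (p := 8689) (l := 0) rfl N8689 D23183
theorem N12949 : nd 12949 = n23184 := ndS (p := 8689) (l := 5) rfl N8689 D23184
theorem N12950 : nd 12950 = n23185 := ndS (p := 8689) (l := 6) rfl N8689 D23185
theorem N12951 : nd 12951 = n23186 := ndS (p := 8690) (l := 1) rfl N8690 D23186
theorem N12952 : nd 12952 = n23187 := ndS (p := 8692) (l := 1) rfl N8692 D23187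
theorem N12953 : nd 12953 = n23188 := ndS (p := 8693) (l := 3) rfl N8693 D23188
theorem N12954 : nd 12954 = n23189 := ndS (p := 8693) (l := 5) rfl N8693 D23189
theorem N12955 : nd 12955 = n23190 := ndS (p := 8693) (l := 6) rfl N8693 D23190
theorem N12956 : nd 12956 = n23191 := ndS (p := 8695) (l := 1) rfl N8695 D23191
theorem N12957 : nd 12957 = n23192 := ndS (p := 8696) (l := 3) rfl N8696 D23192
theorem N12958 : nd 12958 = n23193 := ndS (p := 8696) (l := 5) rfl N8696 D23193
theorem N12959 : nd 12959 = n23194 := ndS (p := 8696) (l := 6) rfl N8696 D23194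
theorem N12960 : nd 12960 = n23195 := ndS (p := 8697) (l := 2) rfl N8697 D23195
theorem N12961 : nd 12961 = n23196 := ndS (p := 8697) (l := 4) rfl N8697 D23196
theorem N12962 : nd 12962 = n23197 := ndS (p := 8697) (l := 5) rfl N8697 D23197
theorem N12963 : nd 12963 = n23198 := ndS (p := 8697) (l := 6) rfl N8697 D23198
theorem N12964 : nd 12964 = n23199 := ndS (p := 8698) (l := 6) rfl N8698 D23199
theorem N12965 : nd 12965 = n23200 := ndS (p := 8699) (l := 1) rfl N8699 D23200
theorem N12966 : nd 12966 = n23201 := ndS (p := 8699) (l := 5) rfl N8699 D23201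
theorem N12967 : nd 12967 = n23202 := ndS (p := 8701) (l := 0) rfl N8701 D23202
theorem N12968 : nd 12968 = n23203 := ndS (p := 8701) (l := 2) rfl N8701 D23203
theorem N12969 : nd 12969 = n23204 := ndS (p := 8701) (l := 5) rfl N8701 D23204
theorem N12970 : nd 12970 = n23205 := ndS (p := 8702) (l := 1) rfl N8702 D23205
theorem N12971 : nd 12971 = n23206 := ndS (p := 8703) (l := 4) rfl N8703 D23206
theorem N12972 : nd 12972 = n23207 := ndS (p := 8703) (l := 5) rfl N8703 D23207
theorem N12973 : nd 12973 = n23208 := ndS (p := 8703) (l := 6) rfl N8703 D23208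
theorem N12974 : nd 12974 = n23209 := ndS (p := 8704) (l := 6) rfl N8704 D23209
theorem N12975 : nd 12975 = n23210 := ndS (p := 8705) (l := 1) rfl N8705 D23210
theorem N12976 : nd 12976 = n23211 := ndS (p := 8705) (l := 5) rfl N8705 D23211
theorem N12977 : nd 12977 = n23212 := ndS (p := 8706) (l := 6) rfl N8706 D23212
theorem N12978 : nd 12978 = n23213 := ndS (p := 8707) (l := 1) rfl N8707 D23213
theorem N12979 : nd 12979 = n23214 := ndS (p := 8708) (l := 0) rfl N8708 D23214
theorem N12980 : nd 12980 = n23215 := ndS (p := 8708) (l := 2) rfl N8708 D23215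
theorem N12981 : nd 12981 = n23216 := ndS (p := 8708) (l := 5) rfl N8708 D23216
theorem N12982 : nd 12982 = n23217 := ndS (p := 8709) (l := 1) rfl N8709 D23217
theorem N12983 : nd 12983 = n23218 := ndS (p := 8709) (l := 2) rfl N8709 D23218
theorem N12984 : nd 12984 = n23219 := ndS (p := 8709) (l := 5) rfl N8709 D23219
theorem N12985 : nd 12985 = n23220 := ndS (p := 8710) (l := 3) rfl N8710 D23220
theorem N12986 : nd 12986 = n23221 := ndS (p := 8710) (l := 5) rfl N8710 D23221
theorem N12987 : nd 12987 = n23222 := ndS (p := 8712) (l := 1) rfl N8712 D23222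
theorem N12988 : nd 12988 = n23223 := ndS (p := 8712) (l := 5) rfl N8712 D23223
theorem N12989 : nd 12989 = n23224 := ndS (p := 8713) (l := 0) rfl N8713 D23224
theorem N12990 : nd 12990 = n23225 := ndS (p := 8713) (l := 2) rfl N8713 D23225
theorem N12991 : nd 12991 = n23226 := ndS (p := 8713) (l := 5) rfl N8713 D23226
theorem N12992 : nd 12992 = n23227 := ndS (p := 8714) (l := 1) rfl N8714 D23227
theorem N12993 : nd 12993 = n23228 := ndS (p := 8715) (l := 1) rfl N8715 D23228
theorem N12994 : nd 12994 = n23229 := ndS (p := 8715) (l := 2) rfl N8715 D23229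
theorem N12995 : nd 12995 = n23230 := ndS (p := 8716) (l := 3) rfl N8716 D23230
theorem N12996 : nd 12996 = n23231 := ndS (p := 8716) (l := 5) rfl N8716 D23231
theorem N12997 : nd 12997 = n23232 := ndS (p := 8717) (l := 1) rfl N8717 D23232
theorem N12998 : nd 12998 = n23233 := ndS (p := 8718) (l := 0) rfl N8718 D23233
theorem N12999 : nd 12999 = n23234 := ndS (p := 8718) (l := 2) rfl N8718 D23234
theorem N13000 : nd 13000 = n23235 := ndS (p := 8718) (l := 6) rfl N8718 D23235
theorem N13001 : nd 13001 = n23236 := ndS (p := 8719) (l := 0) rfl N8719 D23236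
theorem N13002 : nd 13002 = n23237 := ndS (p := 8719) (l := 2) rfl N8719 D23237
theorem N13003 : nd 13003 = n23238 := ndS (p := 8719) (l := 5) rfl N8719 D23238
theorem N13004 : nd 13004 = n23239 := ndS (p := 8719) (l := 6) rfl N8719 D23239
theorem N13005 : nd 13005 = n23240 := ndS (p := 8720) (l := 1) rfl N8720 D23240
theorem N13006 : nd 13006 = n23241 := ndS (p := 8720) (l := 3) rfl N8720 D23241
theorem N13007 : nd 13007 = n23242 := ndS (p := 8721) (l := 4) rfl N8721 D23242
theorem N13008 : nd 13008 = n23243 := ndS (p := 8721) (l := 5) rfl N8721 D23243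
theorem N13009 : nd 13009 = n23244 := ndS (p := 8722) (l := 1) rfl N8722 D23244
theorem N13010 : nd 13010 = n23245 := ndS (p := 8723) (l := 0) rfl N8723 D23245
theorem N13011 : nd 13011 = n23246 := ndS (p := 8723) (l := 2) rfl N8723 D23246
theorem N13012 : nd 13012 = n23247 := ndS (p := 8723) (l := 6) rfl N8723 D23247
theorem N13013 : nd 13013 = n23248 := ndS (p := 8724) (l := 2) rfl N8724 D23248
theorem N13014 : nd 13014 = n23249 := ndS (p := 8724) (l := 6) rfl N8724 D23249
theorem N13015 : nd 13015 = n23250 := ndS (p := 8725) (l := 3) rfl N8725 D23250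
theorem N13016 : nd 13016 = n23251 := ndS (p := 8725) (l := 6) rfl N8725 D23251
theorem N13017 : nd 13017 = n23252 := ndS (p := 8726) (l := 5) rfl N8726 D23252
theorem N13018 : nd 13018 = n23253 := ndS (p := 8727) (l := 5) rfl N8727 D23253
theorem N13019 : nd 13019 = n23254 := ndS (p := 8727) (l := 6) rfl N8727 D23254
theorem N13020 : nd 13020 = n23255 := ndS (p := 8728) (l := 6) rfl N8728 D23255
theorem N13021 : nd 13021 = n23256 := ndS (p := 8730) (l := 5) rfl N8730 D23256
theorem N13022 : nd 13022 = n23257 := ndS (p := 8731) (l := 0) rfl N8731 D23257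
theorem N13023 : nd 13023 = n23258 := ndS (p := 8731) (l := 3) rfl N8731 D23258
theorem N13024 : nd 13024 = n23259 := ndS (p := 8731) (l := 6) rfl N8731 D23259
theorem N13025 : nd 13025 = n23260 := ndS (p := 8732) (l := 4) rfl N8732 D23260
theorem N13026 : nd 13026 = n23261 := ndS (p := 8732) (l := 5) rfl N8732 D23261
theorem N13027 : nd 13027 = n23262 := ndS (p := 8737) (l := 0) rfl N8737 D23262
theorem N13028 : nd 13028 = n23263 := ndS (p := 8737) (l := 5) rfl N8737 D23263
theorem N13029 : nd 13029 = n23264 := ndS (p := 8738) (l := 3) rfl N8738 D23264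
theorem N13030 : nd 13030 = n23265 := ndS (p := 8738) (l := 5) rfl N8738 D23265
theorem N13031 : nd 13031 = n23266 := ndS (p := 8738) (l := 6) rfl N8738 D23266
theorem N13032 : nd 13032 = n23267 := ndS (p := 8739) (l := 1) rfl N8739 D23267
theorem N13033 : nd 13033 = n23268 := ndS (p := 8741) (l := 3) rfl N8741 D23268
theorem N13034 : nd 13034 = n23269 := ndS (p := 8741) (l := 5) rfl N8741 D23269
theorem N13035 : nd 13035 = n23270 := ndS (p := 8741) (l := 6) rfl N8741 D23270
theorem N13036 : nd 13036 = n23271 := ndS (p := 8742) (l := 2) rfl N8742 D23271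
theorem N13037 : nd 13037 = n23272 := ndS (p := 8742) (l := 4) rfl N8742 D23272
theorem N13038 : nd 13038 = n23273 := ndS (p := 8742) (l := 5) rfl N8742 D23273
theorem N13039 : nd 13039 = n23274 := ndS (p := 8742) (l := 6) rfl N8742 D23274
theorem N13040 : nd 13040 = n23275 := ndS (p := 8743) (l := 1) rfl N8743 D23275
theorem N13041 : nd 13041 = n23276 := ndS (p := 8743) (l := 6) rfl N8743 D23276
theorem N13042 : nd 13042 = n23277 := ndS (p := 8744) (l := 5) rfl N8744 D23277
theorem N13043 : nd 13043 = n23278 := ndS (p := 8745) (l := 0) rfl N8745 D23278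
theorem N13044 : nd 13044 = n23279 := ndS (p := 8745) (l := 2) rfl N8745 D23279
theorem N13045 : nd 13045 = n23280 := ndS (p := 8745) (l := 6) rfl N8745 D23280
theorem N13046 : nd 13046 = n23281 := ndS (p := 8748) (l := 4) rfl N8748 D23281
theorem N13047 : nd 13047 = n23282 := ndS (p := 8748) (l := 5) rfl N8748 D23282
theorem N13048 : nd 13048 = n23283 := ndS (p := 8748) (l := 6) rfl N8748 D23283
theorem N13049 : nd 13049 = n23284 := ndS (p := 8749) (l := 1) rfl N8749 D23284
theorem N13050 : nd 13050 = n23285 := ndS (p := 8749) (l := 6) rfl N8749 D23285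
theorem N13051 : nd 13051 = n23286 := ndS (p := 8750) (l := 5) rfl N8750 D23286
theorem N13052 : nd 13052 = n23287 := ndS (p := 8751) (l := 5) rfl N8751 D23287
theorem N13053 : nd 13053 = n23288 := ndS (p := 8752) (l := 1) rfl N8752 D23288
theorem N13054 : nd 13054 = n23289 := ndS (p := 8753) (l := 0) rfl N8753 D23289
theorem N13055 : nd 13055 = n23290 := ndS (p := 8753) (l := 2) rfl N8753 D23290
theorem N13056 : nd 13056 = n23291 := ndS (p := 8753) (l := 6) rfl N8753 D23291
theorem N13057 : nd 13057 = n23292 := ndS (p := 8754) (l := 1) rfl N8754 D23292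
theorem N13058 : nd 13058 = n23293 := ndS (p := 8754) (l := 2) rfl N8754 D23293
theorem N13059 : nd 13059 = n23294 := ndS (p := 8755) (l := 3) rfl N8755 D23294
theorem N13060 : nd 13060 = n23295 := ndS (p := 8755) (l := 6) rfl N8755 D23295
theorem N13061 : nd 13061 = n23296 := ndS (p := 8757) (l := 1) rfl N8757 D23296
theorem N13062 : nd 13062 = n23297 := ndS (p := 8757) (l := 6) rfl N8757 D23297
theorem N13063 : nd 13063 = n23298 := ndS (p := 8758) (l := 0) rfl N8758 D23298
theorem N13064 : nd 13064 = n23299 := ndS (p := 8758) (l := 2) rfl N8758 D23299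
theorem N13065 : nd 13065 = n23300 := ndS (p := 8758) (l := 6) rfl N8758 D23300
theorem N13066 : nd 13066 = n23301 := ndS (p := 8759) (l := 1) rfl N8759 D23301
theorem N13067 : nd 13067 = n23302 := ndS (p := 8760) (l := 1) rfl N8760 D23302
theorem N13068 : nd 13068 = n23303 := ndS (p := 8760) (l := 2) rfl N8760 D23303
theorem N13069 : nd 13069 = n23304 := ndS (p := 8761) (l := 3) rfl N8761 D23304
theorem N13070 : nd 13070 = n23305 := ndS (p := 8761) (l := 6) rfl N8761 D23305
theorem N13071 : nd 13071 = n23306 := ndS (p := 8762) (l := 1) rfl N8762 D23306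
theorem N13072 : nd 13072 = n23307 := ndS (p := 8763) (l := 0) rfl N8763 D23307
theorem N13073 : nd 13073 = n23308 := ndS (p := 8763) (l := 2) rfl N8763 D23308
theorem N13074 : nd 13074 = n23309 := ndS (p := 8763) (l := 5) rfl N8763 D23309
theorem N13075 : nd 13075 = n23310 := ndS (p := 8764) (l := 0) rfl N8764 D23310
theorem N13076 : nd 13076 = n23311 := ndS (p := 8764) (l := 2) rfl N8764 D23311
theorem N13077 : nd 13077 = n23312 := ndS (p := 8764) (l := 5) rfl N8764 D23312
theorem N13078 : nd 13078 = n23313 := ndS (p := 8764) (l := 6) rfl N8764 D23313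
theorem N13079 : nd 13079 = n23314 := ndS (p := 8765) (l := 1) rfl N8765 D23314
theorem N13080 : nd 13080 = n23315 := ndS (p := 8767) (l := 1) rfl N8767 D23315
theorem N13081 : nd 13081 = n23316 := ndS (p := 8768) (l := 0) rfl N8768 D23316
theorem N13082 : nd 13082 = n23317 := ndS (p := 8768) (l := 2) rfl N8768 D23317
theorem N13083 : nd 13083 = n23318 := ndS (p := 8768) (l := 5) rfl N8768 D23318
theorem N13084 : nd 13084 = n23319 := ndS (p := 8769) (l := 2) rfl N8769 D23319
theorem N13085 : nd 13085 = n23320 := ndS (p := 8769) (l := 5) rfl N8769 D23320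
theorem N13086 : nd 13086 = n23321 := ndS (p := 8770) (l := 3) rfl N8770 D23321
theorem N13087 : nd 13087 = n23322 := ndS (p := 8770) (l := 5) rfl N8770 D23322
theorem N13088 : nd 13088 = n23323 := ndS (p := 8771) (l := 6) rfl N8771 D23323
theorem N13089 : nd 13089 = n23324 := ndS (p := 8772) (l := 5) rfl N8772 D23324
theorem N13090 : nd 13090 = n23325 := ndS (p := 8772) (l := 6) rfl N8772 D23325
theorem N13091 : nd 13091 = n23326 := ndS (p := 8773) (l := 5) rfl N8773 D23326
theorem N13092 : nd 13092 = n23327 := ndS (p := 8774) (l := 6) rfl N8774 D23327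
theorem N13093 : nd 13093 = n23328 := ndS (p := 8776) (l := 0) rfl N8776 D23328
theorem N13094 : nd 13094 = n23329 := ndS (p := 8776) (l := 3) rfl N8776 D23329
theorem N13095 : nd 13095 = n23330 := ndS (p := 8776) (l := 5) rfl N8776 D23330
theorem N13096 : nd 13096 = n23331 := ndS (p := 8777) (l := 6) rfl N8777 D23331
theorem N13097 : nd 13097 = n23332 := ndS (p := 8782) (l := 0) rfl N8782 D23332
theorem N13098 : nd 13098 = n23333 := ndS (p := 8782) (l := 6) rfl N8782 D23333
theorem N13099 : nd 13099 = n23334 := ndS (p := 8783) (l := 6) rfl N8783 D23334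
theorem N13100 : nd 13100 = n23335 := ndS (p := 8784) (l := 5) rfl N8784 D23335
theorem N13101 : nd 13101 = n23336 := ndS (p := 8785) (l := 4) rfl N8785 D23336
theorem N13102 : nd 13102 = n23337 := ndS (p := 8785) (l := 5) rfl N8785 D23337
theorem N13103 : nd 13103 = n23338 := ndS (p := 8785) (l := 6) rfl N8785 D23338
theorem N13104 : nd 13104 = n23339 := ndS (p := 8787) (l := 1) rfl N8787 D23339
theorem N13105 : nd 13105 = n23340 := ndS (p := 8788) (l := 6) rfl N8788 D23340
theorem N13106 : nd 13106 = n23341 := ndS (p := 8789) (l := 6) rfl N8789 D23341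
theorem N13107 : nd 13107 = n23342 := ndS (p := 8790) (l := 6) rfl N8790 D23342
theorem N13108 : nd 13108 = n23343 := ndS (p := 8791) (l := 5) rfl N8791 D23343
theorem N13109 : nd 13109 = n23344 := ndS (p := 8792) (l := 1) rfl N8792 D23344
theorem N13110 : nd 13110 = n23345 := ndS (p := 8793) (l := 1) rfl N8793 D23345
theorem N13111 : nd 13111 = n23346 := ndS (p := 8794) (l := 0) rfl N8794 D23346
theorem N13112 : nd 13112 = n23347 := ndS (p := 8794) (l := 2) rfl N8794 D23347
theorem N13113 : nd 13113 = n23348 := ndS (p := 8794) (l := 5) rfl N8794 D23348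
theorem N13114 : nd 13114 = n23349 := ndS (p := 8795) (l := 1) rfl N8795 D23349
theorem N13115 : nd 13115 = n23350 := ndS (p := 8796) (l := 1) rfl N8796 D23350
theorem N13116 : nd 13116 = n23351 := ndS (p := 8796) (l := 2) rfl N8796 D23351
theorem N13117 : nd 13117 = n23352 := ndS (p := 8796) (l := 5) rfl N8796 D23352
theorem N13118 : nd 13118 = n23353 := ndS (p := 8797) (l := 3) rfl N8797 D23353
theorem N13119 : nd 13119 = n23354 := ndS (p := 8797) (l := 5) rfl N8797 D23354
theorem N13120 : nd 13120 = n23355 := ndS (p := 8798) (l := 1) rfl N8798 D23355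
theorem N13121 : nd 13121 = n23356 := ndS (p := 8798) (l := 6) rfl N8798 D23356
theorem N13122 : nd 13122 = n23357 := ndS (p := 8799) (l := 0) rfl N8799 D23357
theorem N13123 : nd 13123 = n23358 := ndS (p := 8799) (l := 2) rfl N8799 D23358
theorem N13124 : nd 13124 = n23359 := ndS (p := 8799) (l := 6) rfl N8799 D23359
theorem N13125 : nd 13125 = n23360 := ndS (p := 8801) (l := 3) rfl N8801 D23360
theorem N13126 : nd 13126 = n23361 := ndS (p := 8801) (l := 5) rfl N8801 D23361
theorem N13127 : nd 13127 = n23362 := ndS (p := 8802) (l := 1) rfl N8802 D23362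
theorem N13128 : nd 13128 = n23363 := ndS (p := 8803) (l := 2) rfl N8803 D23363
theorem N13129 : nd 13129 = n23364 := ndS (p := 8803) (l := 4) rfl N8803 D23364
theorem N13130 : nd 13130 = n23365 := ndS (p := 8803) (l := 5) rfl N8803 D23365
theorem N13131 : nd 13131 = n23366 := ndS (p := 8804) (l := 1) rfl N8804 D23366
theorem N13132 : nd 13132 = n23367 := ndS (p := 8804) (l := 6) rfl N8804 D23367
theorem N13133 : nd 13133 = n23368 := ndS (p := 8805) (l := 0) rfl N8805 D23368
theorem N13134 : nd 13134 = n23369 := ndS (p := 8805) (l := 6) rfl N8805 D23369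
theorem N13135 : nd 13135 = n23370 := ndS (p := 8806) (l := 1) rfl N8806 D23370
theorem N13136 : nd 13136 = n23371 := ndS (p := 8807) (l := 6) rfl N8807 D23371
theorem N13137 : nd 13137 = n23372 := ndS (p := 8808) (l := 5) rfl N8808 D23372
theorem N13138 : nd 13138 = n23373 := ndS (p := 8809) (l := 0) rfl N8809 D23373
theorem N13139 : nd 13139 = n23374 := ndS (p := 8809) (l := 3) rfl N8809 D23374
theorem N13140 : nd 13140 = n23375 := ndS (p := 8809) (l := 6) rfl N8809 D23375
theorem N13141 : nd 13141 = n23376 := ndS (p := 8810) (l := 4) rfl N8810 D23376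
theorem N13142 : nd 13142 = n23377 := ndS (p := 8811) (l := 1) rfl N8811 D23377
theorem N13143 : nd 13143 = n23378 := ndS (p := 8811) (l := 4) rfl N8811 D23378
theorem N13144 : nd 13144 = n23379 := ndS (p := 8813) (l := 1) rfl N8813 D23379
theorem N13145 : nd 13145 = n23380 := ndS (p := 8813) (l := 3) rfl N8813 D23380
theorem N13146 : nd 13146 = n23381 := ndS (p := 8813) (l := 5) rfl N8813 D23381
theorem N13147 : nd 13147 = n23382 := ndS (p := 8813) (l := 6) rfl N8813 D23382
theorem N13148 : nd 13148 = n23383 := ndS (p := 8814) (l := 2) rfl N8814 D23383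
theorem N13149 : nd 13149 = n23384 := ndS (p := 8814) (l := 4) rfl N8814 D23384
theorem N13150 : nd 13150 = n23385 := ndS (p := 8814) (l := 5) rfl N8814 D23385
theorem N13151 : nd 13151 = n23386 := ndS (p := 8814) (l := 6) rfl N8814 D23386
theorem N13152 : nd 13152 = n23387 := ndS (p := 8815) (l := 6) rfl N8815 D23387
theorem N13153 : nd 13153 = n23388 := ndS (p := 8816) (l := 5) rfl N8816 D23388
theorem N13154 : nd 13154 = n23389 := ndS (p := 8818) (l := 0) rfl N8818 D23389
theorem N13155 : nd 13155 = n23390 := ndS (p := 8818) (l := 4) rfl N8818 D23390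
theorem N13156 : nd 13156 = n23391 := ndS (p := 8818) (l := 5) rfl N8818 D23391
theorem N13157 : nd 13157 = n23392 := ndS (p := 8818) (l := 6) rfl N8818 D23392
theorem N13158 : nd 13158 = n23393 := ndS (p := 8820) (l := 6) rfl N8820 D23393
theorem N13159 : nd 13159 = n23394 := ndS (p := 8821) (l := 5) rfl N8821 D23394
theorem N13160 : nd 13160 = n23395 := ndS (p := 8822) (l := 4) rfl N8822 D23395
theorem N13161 : nd 13161 = n23396 := ndS (p := 8822) (l := 5) rfl N8822 D23396
theorem N13162 : nd 13162 = n23397 := ndS (p := 8822) (l := 6) rfl N8822 D23397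
theorem N13163 : nd 13163 = n23398 := ndS (p := 8823) (l := 1) rfl N8823 D23398
theorem N13164 : nd 13164 = n23399 := ndS (p := 8825) (l := 5) rfl N8825 D23399
theorem N13165 : nd 13165 = n23400 := ndS (p := 8826) (l := 5) rfl N8826 D23400
theorem N13166 : nd 13166 = n23401 := ndS (p := 8827) (l := 6) rfl N8827 D23401
theorem N13167 : nd 13167 = n23402 := ndS (p := 8828) (l := 5) rfl N8828 D23402
theorem N13168 : nd 13168 = n23403 := ndS (p := 8829) (l := 1) rfl N8829 D23403
theorem N13169 : nd 13169 = n23404 := ndS (p := 8830) (l := 1) rfl N8830 D23404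
theorem N13170 : nd 13170 = n23405 := ndS (p := 8831) (l := 0) rfl N8831 D23405
theorem N13171 : nd 13171 = n23406 := ndS (p := 8831) (l := 2) rfl N8831 D23406
theorem N13172 : nd 13172 = n23407 := ndS (p := 8831) (l := 6) rfl N8831 D23407
theorem N13173 : nd 13173 = n23408 := ndS (p := 8832) (l := 1) rfl N8832 D23408
theorem N13174 : nd 13174 = n23409 := ndS (p := 8833) (l := 1) rfl N8833 D23409
theorem N13175 : nd 13175 = n23410 := ndS (p := 8833) (l := 2) rfl N8833 D23410
theorem N13176 : nd 13176 = n23411 := ndS (p := 8833) (l := 6) rfl N8833 D23411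
theorem N13177 : nd 13177 = n23412 := ndS (p := 8834) (l := 3) rfl N8834 D23412
theorem N13178 : nd 13178 = n23413 := ndS (p := 8834) (l := 6) rfl N8834 D23413
theorem N13179 : nd 13179 = n23414 := ndS (p := 8835) (l := 1) rfl N8835 D23414
theorem N13180 : nd 13180 = n23415 := ndS (p := 8835) (l := 5) rfl N8835 D23415
theorem N13181 : nd 13181 = n23416 := ndS (p := 8836) (l := 0) rfl N8836 D23416
theorem N13182 : nd 13182 = n23417 := ndS (p := 8836) (l := 2) rfl N8836 D23417
theorem N13183 : nd 13183 = n23418 := ndS (p := 8836) (l := 5) rfl N8836 D23418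
theorem N13184 : nd 13184 = n23419 := ndS (p := 8838) (l := 3) rfl N8838 D23419
theorem N13185 : nd 13185 = n23420 := ndS (p := 8838) (l := 6) rfl N8838 D23420
theorem N13186 : nd 13186 = n23421 := ndS (p := 8839) (l := 1) rfl N8839 D23421
theorem N13187 : nd 13187 = n23422 := ndS (p := 8840) (l := 2) rfl N8840 D23422
theorem N13188 : nd 13188 = n23423 := ndS (p := 8840) (l := 4) rfl N8840 D23423
theorem N13189 : nd 13189 = n23424 := ndS (p := 8840) (l := 6) rfl N8840 D23424
theorem N13190 : nd 13190 = n23425 := ndS (p := 8841) (l := 1) rfl N8841 D23425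
theorem N13191 : nd 13191 = n23426 := ndS (p := 8841) (l := 5) rfl N8841 D23426
theorem N13192 : nd 13192 = n23427 := ndS (p := 8842) (l := 0) rfl N8842 D23427
theorem N13193 : nd 13193 = n23428 := ndS (p := 8842) (l := 5) rfl N8842 D23428
theorem N13194 : nd 13194 = n23429 := ndS (p := 8843) (l := 1) rfl N8843 D23429
theorem N13195 : nd 13195 = n23430 := ndS (p := 8844) (l := 5) rfl N8844 D23430
theorem N13196 : nd 13196 = n23431 := ndS (p := 8845) (l := 6) rfl N8845 D23431
theorem N13197 : nd 13197 = n23432 := ndS (p := 8846) (l := 0) rfl N8846 D23432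
theorem N13198 : nd 13198 = n23433 := ndS (p := 8846) (l := 3) rfl N8846 D23433
theorem N13199 : nd 13199 = n23434 := ndS (p := 8846) (l := 5) rfl N8846 D23434
theorem N13200 : nd 13200 = n23435 := ndS (p := 8847) (l := 4) rfl N8847 D23435
theorem N13201 : nd 13201 = n23436 := ndS (p := 8848) (l := 1) rfl N8848 D23436
theorem N13202 : nd 13202 = n23437 := ndS (p := 8848) (l := 4) rfl N8848 D23437
theorem N13203 : nd 13203 = n23438 := ndS (p := 8850) (l := 1) rfl N8850 D23438
theorem N13204 : nd 13204 = n23439 := ndS (p := 8850) (l := 3) rfl N8850 D23439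
theorem N13205 : nd 13205 = n23440 := ndS (p := 8850) (l := 5) rfl N8850 D23440
theorem N13206 : nd 13206 = n23441 := ndS (p := 8850) (l := 6) rfl N8850 D23441
theorem N13207 : nd 13207 = n23442 := ndS (p := 8851) (l := 2) rfl N8851 D23442
theorem N13208 : nd 13208 = n23443 := ndS (p := 8851) (l := 4) rfl N8851 D23443
theorem N13209 : nd 13209 = n23444 := ndS (p := 8851) (l := 5) rfl N8851 D23444
theorem N13210 : nd 13210 = n23445 := ndS (p := 8851) (l := 6) rfl N8851 D23445
theorem N13211 : nd 13211 = n23446 := ndS (p := 8852) (l := 6) rfl N8852 D23446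
theorem N13212 : nd 13212 = n23447 := ndS (p := 8853) (l := 5) rfl N8853 D23447
theorem N13213 : nd 13213 = n23448 := ndS (p := 8855) (l := 0) rfl N8855 D23448
theorem N13214 : nd 13214 = n23449 := ndS (p := 8855) (l := 4) rfl N8855 D23449
theorem N13215 : nd 13215 = n23450 := ndS (p := 8855) (l := 5) rfl N8855 D23450
theorem N13216 : nd 13216 = n23451 := ndS (p := 8855) (l := 6) rfl N8855 D23451
theorem N13217 : nd 13217 = n23452 := ndS (p := 8857) (l := 6) rfl N8857 D23452
theorem N13218 : nd 13218 = n23453 := ndS (p := 8858) (l := 1) rfl N8858 D23453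
theorem N13219 : nd 13219 = n23454 := ndS (p := 8859) (l := 5) rfl N8859 D23454
theorem N13220 : nd 13220 = n23455 := ndS (p := 8860) (l := 1) rfl N8860 D23455
theorem N13221 : nd 13221 = n23456 := ndS (p := 8861) (l := 2) rfl N8861 D23456
theorem N13222 : nd 13222 = n23457 := ndS (p := 8862) (l := 1) rfl N8862 D23457
theorem N13223 : nd 13223 = n23458 := ndS (p := 8863) (l := 0) rfl N8863 D23458
theorem N13224 : nd 13224 = n23459 := ndS (p := 8863) (l := 3) rfl N8863 D23459
theorem N13225 : nd 13225 = n23460 := ndS (p := 8863) (l := 5) rfl N8863 D23460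
theorem N13226 : nd 13226 = n23461 := ndS (p := 8863) (l := 6) rfl N8863 D23461
theorem N13227 : nd 13227 = n23462 := ndS (p := 8864) (l := 4) rfl N8864 D23462
theorem N13228 : nd 13228 = n23463 := ndS (p := 8865) (l := 0) rfl N8865 D23463
theorem N13229 : nd 13229 = n23464 := ndS (p := 8865) (l := 5) rfl N8865 D23464
theorem N13230 : nd 13230 = n23465 := ndS (p := 8865) (l := 6) rfl N8865 D23465
theorem N13231 : nd 13231 = n23467 := ndS (p := 8866) (l := 3) rfl N8866 D23467
theorem N13232 : nd 13232 = n23468 := ndS (p := 8866) (l := 5) rfl N8866 D23468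
theorem N13233 : nd 13233 = n23470 := ndS (p := 8867) (l := 2) rfl N8867 D23470
theorem N13234 : nd 13234 = n23471 := ndS (p := 8867) (l := 4) rfl N8867 D23471
theorem N13235 : nd 13235 = n23472 := ndS (p := 8867) (l := 5) rfl N8867 D23472
theorem N13236 : nd 13236 = n23473 := ndS (p := 8867) (l := 6) rfl N8867 D23473
theorem N13237 : nd 13237 = n23476 := ndS (p := 8871) (l := 5) rfl N8871 D23476
theorem N13238 : nd 13238 = n23477 := ndS (p := 8872) (l := 1) rfl N8872 D23477
theorem N13239 : nd 13239 = n23478 := ndS (p := 8873) (l := 6) rfl N8873 D23478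
theorem N13240 : nd 13240 = n23479 := ndS (p := 8874) (l := 1) rfl N8874 D23479
theorem N13241 : nd 13241 = n23480 := ndS (p := 8875) (l := 2) rfl N8875 D23480
theorem N13242 : nd 13242 = n23481 := ndS (p := 8876) (l := 1) rfl N8876 D23481
theorem N13243 : nd 13243 = n23482 := ndS (p := 8877) (l := 0) rfl N8877 D23482
theorem N13244 : nd 13244 = n23483 := ndS (p := 8877) (l := 3) rfl N8877 D23483
theorem N13245 : nd 13245 = n23484 := ndS (p := 8877) (l := 5) rfl N8877 D23484
theorem N13246 : nd 13246 = n23485 := ndS (p := 8877) (l := 6) rfl N8877 D23485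
theorem N13247 : nd 13247 = n23486 := ndS (p := 8878) (l := 4) rfl N8878 D23486
theorem N13248 : nd 13248 = n23487 := ndS (p := 8879) (l := 0) rfl N8879 D23487
theorem N13249 : nd 13249 = n23488 := ndS (p := 8879) (l := 5) rfl N8879 D23488
theorem N13250 : nd 13250 = n23489 := ndS (p := 8879) (l := 6) rfl N8879 D23489
theorem N13251 : nd 13251 = n23491 := ndS (p := 8880) (l := 3) rfl N8880 D23491
theorem N13252 : nd 13252 = n23494 := ndS (p := 8881) (l := 2) rfl N8881 D23494
theorem N13253 : nd 13253 = n23495 := ndS (p := 8881) (l := 4) rfl N8881 D23495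
theorem N13254 : nd 13254 = n23496 := ndS (p := 8881) (l := 5) rfl N8881 D23496
theorem N13255 : nd 13255 = n23500 := ndS (p := 8901) (l := 6) rfl N8901 D23500
theorem N13256 : nd 13256 = n23501 := ndS (p := 8908) (l := 5) rfl N8908 D23501
theorem N13257 : nd 13257 = n23502 := ndS (p := 8917) (l := 1) rfl N8917 D23502
theorem N13258 : nd 13258 = n23504 := ndS (p := 8918) (l := 2) rfl N8918 D23504
theorem N13259 : nd 13259 = n23506 := ndS (p := 8919) (l := 2) rfl N8919 D23506
theorem N13260 : nd 13260 = n23507 := ndS (p := 8919) (l := 5) rfl N8919 D23507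
theorem N13261 : nd 13261 = n23508 := ndS (p := 8920) (l := 5) rfl N8920 D23508
theorem N13262 : nd 13262 = n23509 := ndS (p := 8921) (l := 6) rfl N8921 D23509
theorem N13263 : nd 13263 = n23510 := ndS (p := 8922) (l := 2) rfl N8922 D23510
theorem N13264 : nd 13264 = n23511 := ndS (p := 8923) (l := 2) rfl N8923 D23511
theorem N13265 : nd 13265 = n23512 := ndS (p := 8924) (l := 1) rfl N8924 D23512
theorem N13266 : nd 13266 = n23513 := ndS (p := 8924) (l := 6) rfl N8924 D23513
theorem N13267 : nd 13267 = n23514 := ndS (p := 8926) (l := 5) rfl N8926 D23514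
theorem N13268 : nd 13268 = n23515 := ndS (p := 8926) (l := 6) rfl N8926 D23515
theorem N13269 : nd 13269 = n23516 := ndS (p := 8927) (l := 1) rfl N8927 D23516
theorem N13270 : nd 13270 = n23517 := ndS (p := 8933) (l := 1) rfl N8933 D23517
theorem N13271 : nd 13271 = n23518 := ndS (p := 8934) (l := 2) rfl N8934 D23518
theorem N13272 : nd 13272 = n23519 := ndS (p := 8935) (l := 2) rfl N8935 D23519
theorem N13273 : nd 13273 = n23520 := ndS (p := 8935) (l := 6) rfl N8935 D23520
theorem N13274 : nd 13274 = n23521 := ndS (p := 8936) (l := 6) rfl N8936 D23521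
theorem N13275 : nd 13275 = n23522 := ndS (p := 8937) (l := 5) rfl N8937 D23522
theorem N13276 : nd 13276 = n23523 := ndS (p := 8938) (l := 2) rfl N8938 D23523
theorem N13277 : nd 13277 = n23524 := ndS (p := 8939) (l := 2) rfl N8939 D23524
theorem N13278 : nd 13278 = n23525 := ndS (p := 8940) (l := 1) rfl N8940 D23525
theorem N13279 : nd 13279 = n23526 := ndS (p := 8940) (l := 5) rfl N8940 D23526
theorem N13280 : nd 13280 = n23527 := ndS (p := 8942) (l := 5) rfl N8942 D23527
theorem N13281 : nd 13281 = n23528 := ndS (p := 8942) (l := 6) rfl N8942 D23528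
theorem N13282 : nd 13282 = n23529 := ndS (p := 8943) (l := 1) rfl N8943 D23529
theorem N13283 : nd 13283 = n23530 := ndS (p := 8946) (l := 4) rfl N8946 D23530
theorem N13284 : nd 13284 = n23531 := ndS (p := 8953) (l := 6) rfl N8953 D23531
theorem N13285 : nd 13285 = n23532 := ndS (p := 8955) (l := 1) rfl N8955 D23532
theorem N13286 : nd 13286 = n23533 := ndS (p := 8956) (l := 2) rfl N8956 D23533
theorem N13287 : nd 13287 = n23534 := ndS (p := 8956) (l := 5) rfl N8956 D23534
theorem N13288 : nd 13288 = n23535 := ndS (p := 8957) (l := 1) rfl N8957 D23535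
theorem N13289 : nd 13289 = n23536 := ndS (p := 8962) (l := 2) rfl N8962 D23536
theorem N13290 : nd 13290 = n23537 := ndS (p := 8963) (l := 6) rfl N8963 D23537
theorem N13291 : nd 13291 = n23538 := ndS (p := 8964) (l := 1) rfl N8964 D23538
theorem N13292 : nd 13292 = n23539 := ndS (p := 8964) (l := 5) rfl N8964 D23539
theorem N13293 : nd 13293 = n23540 := ndS (p := 8965) (l := 1) rfl N8965 D23540
theorem N13294 : nd 13294 = n23541 := ndS (p := 8966) (l := 0) rfl N8966 D23541
theorem N13295 : nd 13295 = n23542 := ndS (p := 8966) (l := 2) rfl N8966 D23542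
theorem N13296 : nd 13296 = n23543 := ndS (p := 8966) (l := 5) rfl N8966 D23543
theorem N13297 : nd 13297 = n23544 := ndS (p := 8967) (l := 1) rfl N8967 D23544
theorem N13298 : nd 13298 = n23545 := ndS (p := 8968) (l := 1) rfl N8968 D23545
theorem N13299 : nd 13299 = n23546 := ndS (p := 8969) (l := 0) rfl N8969 D23546
theorem N13300 : nd 13300 = n23547 := ndS (p := 8969) (l := 2) rfl N8969 D23547
theorem N13301 : nd 13301 = n23548 := ndS (p := 8969) (l := 5) rfl N8969 D23548
theorem N13302 : nd 13302 = n23549 := ndS (p := 8970) (l := 1) rfl N8970 D23549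
theorem N13303 : nd 13303 = n23550 := ndS (p := 8970) (l := 5) rfl N8970 D23550
theorem N13304 : nd 13304 = n23551 := ndS (p := 8971) (l := 5) rfl N8971 D23551
theorem N13305 : nd 13305 = n23552 := ndS (p := 8972) (l := 6) rfl N8972 D23552
theorem N13306 : nd 13306 = n23553 := ndS (p := 8974) (l := 5) rfl N8974 D23553
theorem N13307 : nd 13307 = n23554 := ndS (p := 8976) (l := 4) rfl N8976 D23554
theorem N13308 : nd 13308 = n23555 := ndS (p := 8977) (l := 1) rfl N8977 D23555
theorem N13309 : nd 13309 = n23556 := ndS (p := 8978) (l := 0) rfl N8978 D23556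
theorem N13310 : nd 13310 = n23557 := ndS (p := 8978) (l := 2) rfl N8978 D23557
theorem N13311 : nd 13311 = n23558 := ndS (p := 8979) (l := 1) rfl N8979 D23558
theorem N13312 : nd 13312 = n23559 := ndS (p := 8982) (l := 0) rfl N8982 D23559
theorem N13313 : nd 13313 = n23560 := ndS (p := 8983) (l := 0) rfl N8983 D23560
theorem N13314 : nd 13314 = n23561 := ndS (p := 8983) (l := 5) rfl N8983 D23561
theorem N13315 : nd 13315 = n23562 := ndS (p := 8984) (l := 3) rfl N8984 D23562
theorem N13316 : nd 13316 = n23563 := ndS (p := 8985) (l := 2) rfl N8985 D23563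
theorem N13317 : nd 13317 = n23564 := ndS (p := 8985) (l := 5) rfl N8985 D23564
theorem N13318 : nd 13318 = n23565 := ndS (p := 8986) (l := 1) rfl N8986 D23565
theorem N13319 : nd 13319 = n23566 := ndS (p := 8987) (l := 0) rfl N8987 D23566
theorem N13320 : nd 13320 = n23567 := ndS (p := 8987) (l := 2) rfl N8987 D23567
theorem N13321 : nd 13321 = n23568 := ndS (p := 8987) (l := 6) rfl N8987 D23568
theorem N13322 : nd 13322 = n23569 := ndS (p := 8988) (l := 1) rfl N8988 D23569
theorem N13323 : nd 13323 = n23570 := ndS (p := 8988) (l := 2) rfl N8988 D23570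
theorem N13324 : nd 13324 = n23571 := ndS (p := 8988) (l := 6) rfl N8988 D23571
theorem N13325 : nd 13325 = n23572 := ndS (p := 8989) (l := 6) rfl N8989 D23572
theorem N13326 : nd 13326 = n23573 := ndS (p := 8990) (l := 5) rfl N8990 D23573
theorem N13327 : nd 13327 = n23574 := ndS (p := 8991) (l := 2) rfl N8991 D23574
theorem N13328 : nd 13328 = n23575 := ndS (p := 8992) (l := 1) rfl N8992 D23575
theorem N13329 : nd 13329 = n23576 := ndS (p := 8992) (l := 3) rfl N8992 D23576
theorem N13330 : nd 13330 = n23577 := ndS (p := 8992) (l := 5) rfl N8992 D23577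
theorem N13331 : nd 13331 = n23578 := ndS (p := 8992) (l := 6) rfl N8992 D23578
theorem N13332 : nd 13332 = n23579 := ndS (p := 8995) (l := 0) rfl N8995 D23579
theorem N13333 : nd 13333 = n23580 := ndS (p := 8995) (l := 6) rfl N8995 D23580
theorem N13334 : nd 13334 = n23581 := ndS (p := 8996) (l := 0) rfl N8996 D23581
theorem N13335 : nd 13335 = n23582 := ndS (p := 8996) (l := 2) rfl N8996 D23582
theorem N13336 : nd 13336 = n23583 := ndS (p := 8997) (l := 2) rfl N8997 D23583
theorem N13337 : nd 13337 = n23584 := ndS (p := 9000) (l := 1) rfl N9000 D23584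
theorem N13338 : nd 13338 = n23585 := ndS (p := 9002) (l := 1) rfl N9002 D23585
theorem N13339 : nd 13339 = n23586 := ndS (p := 9006) (l := 1) rfl N9006 D23586
theorem N13340 : nd 13340 = n23587 := ndS (p := 9008) (l := 1) rfl N9008 D23587
theorem N13341 : nd 13341 = n23588 := ndS (p := 9008) (l := 3) rfl N9008 D23588
theorem N13342 : nd 13342 = n23589 := ndS (p := 9009) (l := 2) rfl N9009 D23589
theorem N13343 : nd 13343 = n23590 := ndS (p := 9009) (l := 6) rfl N9009 D23590
theorem N13344 : nd 13344 = n23591 := ndS (p := 9013) (l := 4) rfl N9013 D23591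
theorem N13345 : nd 13345 = n23592 := ndS (p := 9020) (l := 5) rfl N9020 D23592
theorem N13346 : nd 13346 = n23593 := ndS (p := 9022) (l := 2) rfl N9022 D23593
theorem N13347 : nd 13347 = n23594 := ndS (p := 9022) (l := 6) rfl N9022 D23594
theorem N13348 : nd 13348 = n23595 := ndS (p := 9023) (l := 1) rfl N9023 D23595
theorem N13349 : nd 13349 = n23596 := ndS (p := 9024) (l := 1) rfl N9024 D23596
theorem N13350 : nd 13350 = n23597 := ndS (p := 9029) (l := 5) rfl N9029 D23597
theorem N13351 : nd 13351 = n23598 := ndS (p := 9030) (l := 1) rfl N9030 D23598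
theorem N13352 : nd 13352 = n23599 := ndS (p := 9030) (l := 6) rfl N9030 D23599
theorem N13353 : nd 13353 = n23600 := ndS (p := 9031) (l := 0) rfl N9031 D23600
theorem N13354 : nd 13354 = n23601 := ndS (p := 9031) (l := 2) rfl N9031 D23601
theorem N13355 : nd 13355 = n23602 := ndS (p := 9031) (l := 6) rfl N9031 D23602
theorem N13356 : nd 13356 = n23603 := ndS (p := 9032) (l := 1) rfl N9032 D23603
theorem N13357 : nd 13357 = n23604 := ndS (p := 9033) (l := 1) rfl N9033 D23604
theorem N13358 : nd 13358 = n23605 := ndS (p := 9034) (l := 1) rfl N9034 D23605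
theorem N13359 : nd 13359 = n23606 := ndS (p := 9035) (l := 0) rfl N9035 D23606
theorem N13360 : nd 13360 = n23607 := ndS (p := 9035) (l := 2) rfl N9035 D23607
theorem N13361 : nd 13361 = n23608 := ndS (p := 9035) (l := 6) rfl N9035 D23608
theorem N13362 : nd 13362 = n23609 := ndS (p := 9036) (l := 1) rfl N9036 D23609
theorem N13363 : nd 13363 = n23610 := ndS (p := 9036) (l := 6) rfl N9036 D23610
theorem N13364 : nd 13364 = n23611 := ndS (p := 9037) (l := 6) rfl N9037 D23611
theorem N13365 : nd 13365 = n23612 := ndS (p := 9038) (l := 5) rfl N9038 D23612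
theorem N13366 : nd 13366 = n23613 := ndS (p := 9041) (l := 4) rfl N9041 D23613
theorem N13367 : nd 13367 = n23614 := ndS (p := 9042) (l := 1) rfl N9042 D23614
theorem N13368 : nd 13368 = n23615 := ndS (p := 9043) (l := 0) rfl N9043 D23615
theorem N13369 : nd 13369 = n23616 := ndS (p := 9043) (l := 2) rfl N9043 D23616
theorem N13370 : nd 13370 = n23617 := ndS (p := 9044) (l := 1) rfl N9044 D23617
theorem N13371 : nd 13371 = n23618 := ndS (p := 9047) (l := 0) rfl N9047 D23618
theorem N13372 : nd 13372 = n23619 := ndS (p := 9048) (l := 0) rfl N9048 D23619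
theorem N13373 : nd 13373 = n23620 := ndS (p := 9048) (l := 6) rfl N9048 D23620
theorem N13374 : nd 13374 = n23621 := ndS (p := 9051) (l := 0) rfl N9051 D23621
theorem N13375 : nd 13375 = n23622 := ndS (p := 9051) (l := 2) rfl N9051 D23622
theorem N13376 : nd 13376 = n23623 := ndS (p := 9051) (l := 5) rfl N9051 D23623
theorem N13377 : nd 13377 = n23624 := ndS (p := 9052) (l := 1) rfl N9052 D23624
theorem N13378 : nd 13378 = n23625 := ndS (p := 9052) (l := 2) rfl N9052 D23625
theorem N13379 : nd 13379 = n23626 := ndS (p := 9052) (l := 5) rfl N9052 D23626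
theorem N13380 : nd 13380 = n23627 := ndS (p := 9054) (l := 6) rfl N9054 D23627
theorem N13381 : nd 13381 = n23628 := ndS (p := 9055) (l := 2) rfl N9055 D23628
theorem N13382 : nd 13382 = n23629 := ndS (p := 9056) (l := 3) rfl N9056 D23629
theorem N13383 : nd 13383 = n23630 := ndS (p := 9056) (l := 5) rfl N9056 D23630
theorem N13384 : nd 13384 = n23631 := ndS (p := 9056) (l := 6) rfl N9056 D23631
theorem N13385 : nd 13385 = n23632 := ndS (p := 9068) (l := 1) rfl N9068 D23632
theorem N13386 : nd 13386 = n23633 := ndS (p := 9070) (l := 1) rfl N9070 D23633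
theorem N13387 : nd 13387 = n23634 := ndS (p := 9075) (l := 1) rfl N9075 D23634
theorem N13388 : nd 13388 = n23635 := ndS (p := 9076) (l := 6) rfl N9076 D23635
theorem N13389 : nd 13389 = n23636 := ndS (p := 9077) (l := 6) rfl N9077 D23636
theorem N13390 : nd 13390 = n23637 := ndS (p := 9078) (l := 5) rfl N9078 D23637
theorem N13391 : nd 13391 = n23638 := ndS (p := 9079) (l := 1) rfl N9079 D23638
theorem N13392 : nd 13392 = n23639 := ndS (p := 9080) (l := 1) rfl N9080 D23639
theorem N13393 : nd 13393 = n23640 := ndS (p := 9084) (l := 0) rfl N9084 D23640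
theorem N13394 : nd 13394 = n23641 := ndS (p := 9084) (l := 2) rfl N9084 D23641
theorem N13395 : nd 13395 = n23642 := ndS (p := 9084) (l := 5) rfl N9084 D23642
theorem N13396 : nd 13396 = n23643 := ndS (p := 9085) (l := 2) rfl N9085 D23643
theorem N13397 : nd 13397 = n23644 := ndS (p := 9086) (l := 6) rfl N9086 D23644
theorem N13398 : nd 13398 = n23645 := ndS (p := 9087) (l := 1) rfl N9087 D23645
theorem N13399 : nd 13399 = n23646 := ndS (p := 9087) (l := 5) rfl N9087 D23646
theorem N13400 : nd 13400 = n23647 := ndS (p := 9091) (l := 1) rfl N9091 D23647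
theorem N13401 : nd 13401 = n23648 := ndS (p := 9094) (l := 3) rfl N9094 D23648
theorem N13402 : nd 13402 = n23649 := ndS (p := 9095) (l := 1) rfl N9095 D23649
theorem N13403 : nd 13403 = n23650 := ndS (p := 9095) (l := 6) rfl N9095 D23650
theorem N13404 : nd 13404 = n23651 := ndS (p := 9096) (l := 2) rfl N9096 D23651
theorem N13405 : nd 13405 = n23652 := ndS (p := 9097) (l := 6) rfl N9097 D23652
theorem N13406 : nd 13406 = n23653 := ndS (p := 9100) (l := 2) rfl N9100 D23653
theorem N13407 : nd 13407 = n23654 := ndS (p := 9100) (l := 4) rfl N9100 D23654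
theorem N13408 : nd 13408 = n23655 := ndS (p := 9101) (l := 1) rfl N9101 D23655
theorem N13409 : nd 13409 = n23656 := ndS (p := 9102) (l := 0) rfl N9102 D23656
theorem N13410 : nd 13410 = n23657 := ndS (p := 9102) (l := 2) rfl N9102 D23657
theorem N13411 : nd 13411 = n23658 := ndS (p := 9102) (l := 6) rfl N9102 D23658
theorem N13412 : nd 13412 = n23659 := ndS (p := 9103) (l := 1) rfl N9103 D23659
theorem N13413 : nd 13413 = n23660 := ndS (p := 9103) (l := 4) rfl N9103 D23660
theorem N13414 : nd 13414 = n23661 := ndS (p := 9105) (l := 0) rfl N9105 D23661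
theorem N13415 : nd 13415 = n23662 := ndS (p := 9105) (l := 6) rfl N9105 D23662
theorem N13416 : nd 13416 = n23663 := ndS (p := 9108) (l := 1) rfl N9108 D23663
theorem N13417 : nd 13417 = n23664 := ndS (p := 9109) (l := 5) rfl N9109 D23664
theorem N13418 : nd 13418 = n23665 := ndS (p := 9110) (l := 1) rfl N9110 D23665
theorem N13419 : nd 13419 = n23666 := ndS (p := 9111) (l := 1) rfl N9111 D23666
theorem N13420 : nd 13420 = n23667 := ndS (p := 9112) (l := 3) rfl N9112 D23667
theorem N13421 : nd 13421 = n23668 := ndS (p := 9112) (l := 6) rfl N9112 D23668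
theorem N13422 : nd 13422 = n23669 := ndS (p := 9113) (l := 4) rfl N9113 D23669
theorem N13423 : nd 13423 = n23670 := ndS (p := 9114) (l := 5) rfl N9114 D23670
theorem N13424 : nd 13424 = n23671 := ndS (p := 9116) (l := 0) rfl N9116 D23671
theorem N13425 : nd 13425 = n23672 := ndS (p := 9116) (l := 4) rfl N9116 D23672
theorem N13426 : nd 13426 = n23673 := ndS (p := 9116) (l := 6) rfl N9116 D23673
theorem N13427 : nd 13427 = n23674 := ndS (p := 9118) (l := 3) rfl N9118 D23674
theorem N13428 : nd 13428 = n23675 := ndS (p := 9118) (l := 5) rfl N9118 D23675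
theorem N13429 : nd 13429 = n23676 := ndS (p := 9118) (l := 6) rfl N9118 D23676
theorem N13430 : nd 13430 = n23677 := ndS (p := 9119) (l := 4) rfl N9119 D23677
theorem N13431 : nd 13431 = n23678 := ndS (p := 9120) (l := 1) rfl N9120 D23678
theorem N13432 : nd 13432 = n23679 := ndS (p := 9121) (l := 1) rfl N9121 D23679
theorem N13433 : nd 13433 = n23680 := ndS (p := 9123) (l := 1) rfl N9123 D23680
theorem N13434 : nd 13434 = n23681 := ndS (p := 9124) (l := 1) rfl N9124 D23681
theorem N13435 : nd 13435 = n23682 := ndS (p := 9125) (l := 1) rfl N9125 D23682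
theorem N13436 : nd 13436 = n23683 := ndS (p := 9125) (l := 4) rfl N9125 D23683
theorem N13437 : nd 13437 = n23684 := ndS (p := 9125) (l := 6) rfl N9125 D23684
theorem N13438 : nd 13438 = n23685 := ndS (p := 9126) (l := 6) rfl N9126 D23685
theorem N13439 : nd 13439 = n23686 := ndS (p := 9128) (l := 1) rfl N9128 D23686
theorem N13440 : nd 13440 = n23687 := ndS (p := 9130) (l := 5) rfl N9130 D23687
theorem N13441 : nd 13441 = n23688 := ndS (p := 9131) (l := 6) rfl N9131 D23688
theorem N13442 : nd 13442 = n23689 := ndS (p := 9132) (l := 5) rfl N9132 D23689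
theorem N13443 : nd 13443 = n23690 := ndS (p := 9133) (l := 1) rfl N9133 D23690
theorem N13444 : nd 13444 = n23691 := ndS (p := 9134) (l := 1) rfl N9134 D23691
theorem N13445 : nd 13445 = n23692 := ndS (p := 9138) (l := 2) rfl N9138 D23692
theorem N13446 : nd 13446 = n23693 := ndS (p := 9139) (l := 0) rfl N9139 D23693
theorem N13447 : nd 13447 = n23694 := ndS (p := 9139) (l := 2) rfl N9139 D23694
theorem N13448 : nd 13448 = n23695 := ndS (p := 9139) (l := 6) rfl N9139 D23695
theorem N13449 : nd 13449 = n23696 := ndS (p := 9140) (l := 5) rfl N9140 D23696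
theorem N13450 : nd 13450 = n23697 := ndS (p := 9141) (l := 1) rfl N9141 D23697
theorem N13451 : nd 13451 = n23698 := ndS (p := 9141) (l := 6) rfl N9141 D23698
theorem N13452 : nd 13452 = n23699 := ndS (p := 9145) (l := 1) rfl N9145 D23699
theorem N13453 : nd 13453 = n23700 := ndS (p := 9148) (l := 3) rfl N9148 D23700
theorem N13454 : nd 13454 = n23701 := ndS (p := 9149) (l := 1) rfl N9149 D23701
theorem N13455 : nd 13455 = n23702 := ndS (p := 9149) (l := 5) rfl N9149 D23702
theorem N13456 : nd 13456 = n23703 := ndS (p := 9150) (l := 2) rfl N9150 D23703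
theorem N13457 : nd 13457 = n23704 := ndS (p := 9151) (l := 5) rfl N9151 D23704
theorem N13458 : nd 13458 = n23705 := ndS (p := 9154) (l := 2) rfl N9154 D23705
theorem N13459 : nd 13459 = n23706 := ndS (p := 9154) (l := 4) rfl N9154 D23706
theorem N13460 : nd 13460 = n23707 := ndS (p := 9155) (l := 1) rfl N9155 D23707
theorem N13461 : nd 13461 = n23708 := ndS (p := 9156) (l := 0) rfl N9156 D23708
theorem N13462 : nd 13462 = n23709 := ndS (p := 9156) (l := 2) rfl N9156 D23709
theorem N13463 : nd 13463 = n23710 := ndS (p := 9156) (l := 5) rfl N9156 D23710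
theorem N13464 : nd 13464 = n23711 := ndS (p := 9157) (l := 1) rfl N9157 D23711
theorem N13465 : nd 13465 = n23712 := ndS (p := 9157) (l := 4) rfl N9157 D23712
theorem N13466 : nd 13466 = n23713 := ndS (p := 9159) (l := 0) rfl N9159 D23713
theorem N13467 : nd 13467 = n23714 := ndS (p := 9159) (l := 5) rfl N9159 D23714
theorem N13468 : nd 13468 = n23715 := ndS (p := 9162) (l := 1) rfl N9162 D23715
theorem N13469 : nd 13469 = n23716 := ndS (p := 9163) (l := 6) rfl N9163 D23716
theorem N13470 : nd 13470 = n23717 := ndS (p := 9164) (l := 1) rfl N9164 D23717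
theorem N13471 : nd 13471 = n23718 := ndS (p := 9165) (l := 1) rfl N9165 D23718
theorem N13472 : nd 13472 = n23719 := ndS (p := 9166) (l := 3) rfl N9166 D23719
theorem N13473 : nd 13473 = n23720 := ndS (p := 9166) (l := 5) rfl N9166 D23720
theorem N13474 : nd 13474 = n23721 := ndS (p := 9167) (l := 4) rfl N9167 D23721
theorem N13475 : nd 13475 = n23722 := ndS (p := 9168) (l := 6) rfl N9168 D23722
theorem N13476 : nd 13476 = n23723 := ndS (p := 9170) (l := 0) rfl N9170 D23723
theorem N13477 : nd 13477 = n23724 := ndS (p := 9170) (l := 4) rfl N9170 D23724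
theorem N13478 : nd 13478 = n23725 := ndS (p := 9170) (l := 5) rfl N9170 D23725
theorem N13479 : nd 13479 = n23726 := ndS (p := 9172) (l := 3) rfl N9172 D23726
theorem N13480 : nd 13480 = n23727 := ndS (p := 9172) (l := 5) rfl N9172 D23727
theorem N13481 : nd 13481 = n23728 := ndS (p := 9172) (l := 6) rfl N9172 D23728
theorem N13482 : nd 13482 = n23729 := ndS (p := 9173) (l := 4) rfl N9173 D23729
theorem N13483 : nd 13483 = n23730 := ndS (p := 9174) (l := 1) rfl N9174 D23730
theorem N13484 : nd 13484 = n23731 := ndS (p := 9175) (l := 1) rfl N9175 D23731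
theorem N13485 : nd 13485 = n23732 := ndS (p := 9177) (l := 1) rfl N9177 D23732
theorem N13486 : nd 13486 = n23733 := ndS (p := 9178) (l := 1) rfl N9178 D23733
theorem N13487 : nd 13487 = n23734 := ndS (p := 9179) (l := 1) rfl N9179 D23734
theorem N13488 : nd 13488 = n23735 := ndS (p := 9179) (l := 4) rfl N9179 D23735
theorem N13489 : nd 13489 = n23736 := ndS (p := 9179) (l := 5) rfl N9179 D23736
theorem N13490 : nd 13490 = n23737 := ndS (p := 9180) (l := 5) rfl N9180 D23737
theorem N13491 : nd 13491 = n23738 := ndS (p := 9185) (l := 1) rfl N9185 D23738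
theorem N13492 : nd 13492 = n23739 := ndS (p := 9187) (l := 6) rfl N9187 D23739
theorem N13493 : nd 13493 = n23740 := ndS (p := 9189) (l := 1) rfl N9189 D23740
theorem N13494 : nd 13494 = n23741 := ndS (p := 9191) (l := 0) rfl N9191 D23741
theorem N13495 : nd 13495 = n23742 := ndS (p := 9191) (l := 5) rfl N9191 D23742
theorem N13496 : nd 13496 = n23743 := ndS (p := 9192) (l := 5) rfl N9192 D23743
theorem N13497 : nd 13497 = n23744 := ndS (p := 9194) (l := 5) rfl N9194 D23744
theorem N13498 : nd 13498 = n23745 := ndS (p := 9195) (l := 1) rfl N9195 D23745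
theorem N13499 : nd 13499 = n23746 := ndS (p := 9196) (l := 1) rfl N9196 D23746
theorem N13500 : nd 13500 = n23747 := ndS (p := 9199) (l := 0) rfl N9199 D23747
theorem N13501 : nd 13501 = n23748 := ndS (p := 9200) (l := 6) rfl N9200 D23748
theorem N13502 : nd 13502 = n23749 := ndS (p := 9203) (l := 4) rfl N9203 D23749
theorem N13503 : nd 13503 = n23750 := ndS (p := 9205) (l := 3) rfl N9205 D23750
theorem N13504 : nd 13504 = n23751 := ndS (p := 9205) (l := 5) rfl N9205 D23751
theorem N13505 : nd 13505 = n23752 := ndS (p := 9206) (l := 2) rfl N9206 D23752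
theorem N13506 : nd 13506 = n23753 := ndS (p := 9206) (l := 4) rfl N9206 D23753
theorem N13507 : nd 13507 = n23754 := ndS (p := 9206) (l := 6) rfl N9206 D23754
theorem N13508 : nd 13508 = n23755 := ndS (p := 9210) (l := 1) rfl N9210 D23755
theorem N13509 : nd 13509 = n23756 := ndS (p := 9212) (l := 0) rfl N9212 D23756
theorem N13510 : nd 13510 = n23757 := ndS (p := 9212) (l := 2) rfl N9212 D23757
theorem N13511 : nd 13511 = n23758 := ndS (p := 9212) (l := 3) rfl N9212 D23758
theorem N13512 : nd 13512 = n23759 := ndS (p := 9212) (l := 4) rfl N9212 D23759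
theorem N13513 : nd 13513 = n23760 := ndS (p := 9212) (l := 5) rfl N9212 D23760
theorem N13514 : nd 13514 = n23761 := ndS (p := 9213) (l := 4) rfl N9213 D23761
theorem N13515 : nd 13515 = n23762 := ndS (p := 9214) (l := 5) rfl N9214 D23762
theorem N13516 : nd 13516 = n23763 := ndS (p := 9214) (l := 6) rfl N9214 D23763
theorem N13517 : nd 13517 = n23764 := ndS (p := 9215) (l := 1) rfl N9215 D23764
theorem N13518 : nd 13518 = n23765 := ndS (p := 9217) (l := 6) rfl N9217 D23765
theorem N13519 : nd 13519 = n23766 := ndS (p := 9220) (l := 5) rfl N9220 D23766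
theorem N13520 : nd 13520 = n23767 := ndS (p := 9221) (l := 1) rfl N9221 D23767
theorem N13521 : nd 13521 = n23768 := ndS (p := 9225) (l := 1) rfl N9225 D23768
theorem N13522 : nd 13522 = n23769 := ndS (p := 9227) (l := 5) rfl N9227 D23769
theorem N13523 : nd 13523 = n23770 := ndS (p := 9229) (l := 0) rfl N9229 D23770
theorem N13524 : nd 13524 = n23771 := ndS (p := 9235) (l := 0) rfl N9235 D23771
theorem N13525 : nd 13525 = n23772 := ndS (p := 9236) (l := 5) rfl N9236 D23772
theorem N13526 : nd 13526 = n23773 := ndS (p := 9239) (l := 4) rfl N9239 D23773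
theorem N13527 : nd 13527 = n23774 := ndS (p := 9241) (l := 3) rfl N9241 D23774
theorem N13528 : nd 13528 = n23775 := ndS (p := 9241) (l := 6) rfl N9241 D23775
theorem N13529 : nd 13529 = n23776 := ndS (p := 9242) (l := 2) rfl N9242 D23776
theorem N13530 : nd 13530 = n23777 := ndS (p := 9242) (l := 4) rfl N9242 D23777
theorem N13531 : nd 13531 = n23778 := ndS (p := 9242) (l := 5) rfl N9242 D23778
theorem N13532 : nd 13532 = n23779 := ndS (p := 9246) (l := 1) rfl N9246 D23779
theorem N13533 : nd 13533 = n23780 := ndS (p := 9248) (l := 0) rfl N9248 D23780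
theorem N13534 : nd 13534 = n23781 := ndS (p := 9248) (l := 2) rfl N9248 D23781
theorem N13535 : nd 13535 = n23782 := ndS (p := 9248) (l := 3) rfl N9248 D23782
theorem N13536 : nd 13536 = n23783 := ndS (p := 9248) (l := 4) rfl N9248 D23783
theorem N13537 : nd 13537 = n23784 := ndS (p := 9248) (l := 6) rfl N9248 D23784
theorem N13538 : nd 13538 = n23785 := ndS (p := 9249) (l := 4) rfl N9249 D23785
theorem N13539 : nd 13539 = n23786 := ndS (p := 9250) (l := 5) rfl N9250 D23786
theorem N13540 : nd 13540 = n23787 := ndS (p := 9250) (l := 6) rfl N9250 D23787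
theorem N13541 : nd 13541 = n23788 := ndS (p := 9252) (l := 1) rfl N9252 D23788
theorem N13542 : nd 13542 = n23789 := ndS (p := 9253) (l := 5) rfl N9253 D23789
theorem N13543 : nd 13543 = n23790 := ndS (p := 9255) (l := 6) rfl N9255 D23790
theorem N13544 : nd 13544 = n23791 := ndS (p := 9257) (l := 1) rfl N9257 D23791
theorem N13545 : nd 13545 = n23792 := ndS (p := 9259) (l := 1) rfl N9259 D23792
theorem N13546 : nd 13546 = n23793 := ndS (p := 9260) (l := 1) rfl N9260 D23793
theorem N13547 : nd 13547 = n23794 := ndS (p := 9261) (l := 0) rfl N9261 D23794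
theorem N13548 : nd 13548 = n23795 := ndS (p := 9261) (l := 2) rfl N9261 D23795
theorem N13549 : nd 13549 = n23796 := ndS (p := 9262) (l := 1) rfl N9262 D23796
theorem N13550 : nd 13550 = n23797 := ndS (p := 9263) (l := 2) rfl N9263 D23797
theorem N13551 : nd 13551 = n23798 := ndS (p := 9263) (l := 5) rfl N9263 D23798
theorem N13552 : nd 13552 = n23799 := ndS (p := 9265) (l := 3) rfl N9265 D23799
theorem N13553 : nd 13553 = n23800 := ndS (p := 9266) (l := 6) rfl N9266 D23800
theorem N13554 : nd 13554 = n23801 := ndS (p := 9268) (l := 0) rfl N9268 D23801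
theorem N13555 : nd 13555 = n23802 := ndS (p := 9271) (l := 5) rfl N9271 D23802
theorem N13556 : nd 13556 = n23803 := ndS (p := 9277) (l := 5) rfl N9277 D23803
theorem N13557 : nd 13557 = n23804 := ndS (p := 9281) (l := 0) rfl N9281 D23804
theorem N13558 : nd 13558 = n23805 := ndS (p := 9282) (l := 4) rfl N9282 D23805
theorem N13559 : nd 13559 = n23806 := ndS (p := 9283) (l := 5) rfl N9283 D23806
theorem N13560 : nd 13560 = n23807 := ndS (p := 9284) (l := 1) rfl N9284 D23807
theorem N13561 : nd 13561 = n23808 := ndS (p := 9288) (l := 5) rfl N9288 D23808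
theorem N13562 : nd 13562 = n23809 := ndS (p := 9288) (l := 6) rfl N9288 D23809
theorem N13563 : nd 13563 = n23810 := ndS (p := 9291) (l := 5) rfl N9291 D23810
theorem N13564 : nd 13564 = n23811 := ndS (p := 9296) (l := 2) rfl N9296 D23811
theorem N13565 : nd 13565 = n23812 := ndS (p := 9296) (l := 6) rfl N9296 D23812
theorem N13566 : nd 13566 = n23813 := ndS (p := 9298) (l := 3) rfl N9298 D23813
theorem N13567 : nd 13567 = n23814 := ndS (p := 9300) (l := 1) rfl N9300 D23814
theorem N13568 : nd 13568 = n23815 := ndS (p := 9300) (l := 5) rfl N9300 D23815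
theorem N13569 : nd 13569 = n23816 := ndS (p := 9301) (l := 2) rfl N9301 D23816
theorem N13570 : nd 13570 = n23817 := ndS (p := 9302) (l := 1) rfl N9302 D23817
theorem N13571 : nd 13571 = n23818 := ndS (p := 9303) (l := 1) rfl N9303 D23818
theorem N13572 : nd 13572 = n23819 := ndS (p := 9304) (l := 0) rfl N9304 D23819
theorem N13573 : nd 13573 = n23820 := ndS (p := 9305) (l := 0) rfl N9305 D23820
theorem N13574 : nd 13574 = n23821 := ndS (p := 9306) (l := 3) rfl N9306 D23821
theorem N13575 : nd 13575 = n23822 := ndS (p := 9306) (l := 6) rfl N9306 D23822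
theorem N13576 : nd 13576 = n23823 := ndS (p := 9312) (l := 1) rfl N9312 D23823
theorem N13577 : nd 13577 = n23824 := ndS (p := 9313) (l := 1) rfl N9313 D23824
theorem N13578 : nd 13578 = n23825 := ndS (p := 9314) (l := 0) rfl N9314 D23825
theorem N13579 : nd 13579 = n23826 := ndS (p := 9314) (l := 2) rfl N9314 D23826
theorem N13580 : nd 13580 = n23827 := ndS (p := 9315) (l := 1) rfl N9315 D23827
theorem N13581 : nd 13581 = n23828 := ndS (p := 9318) (l := 3) rfl N9318 D23828
theorem N13582 : nd 13582 = n23829 := ndS (p := 9323) (l := 6) rfl N9323 D23829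
theorem N13583 : nd 13583 = n23830 := ndS (p := 9325) (l := 6) rfl N9325 D23830
theorem N13584 : nd 13584 = n23831 := ndS (p := 9329) (l := 4) rfl N9329 D23831
theorem N13585 : nd 13585 = n23832 := ndS (p := 9330) (l := 6) rfl N9330 D23832
theorem N13586 : nd 13586 = n23833 := ndS (p := 9331) (l := 1) rfl N9331 D23833
theorem N13587 : nd 13587 = n23834 := ndS (p := 9335) (l := 5) rfl N9335 D23834
theorem N13588 : nd 13588 = n23835 := ndS (p := 9336) (l := 6) rfl N9336 D23835
theorem N13589 : nd 13589 = n23836 := ndS (p := 9340) (l := 3) rfl N9340 D23836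
theorem N13590 : nd 13590 = n23837 := ndS (p := 9341) (l := 1) rfl N9341 D23837
theorem N13591 : nd 13591 = n23838 := ndS (p := 9343) (l := 2) rfl N9343 D23838
theorem N13592 : nd 13592 = n23839 := ndS (p := 9344) (l := 1) rfl N9344 D23839
theorem N13593 : nd 13593 = n23840 := ndS (p := 9346) (l := 0) rfl N9346 D23840
theorem N13594 : nd 13594 = n23841 := ndS (p := 9347) (l := 0) rfl N9347 D23841
theorem N13595 : nd 13595 = n23842 := ndS (p := 9348) (l := 3) rfl N9348 D23842
theorem N13596 : nd 13596 = n23843 := ndS (p := 9348) (l := 5) rfl N9348 D23843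
theorem N13597 : nd 13597 = n23844 := ndS (p := 9354) (l := 0) rfl N9354 D23844
theorem N13598 : nd 13598 = n23845 := ndS (p := 9354) (l := 2) rfl N9354 D23845
theorem N13599 : nd 13599 = n23846 := ndS (p := 9354) (l := 5) rfl N9354 D23846
theorem N13600 : nd 13600 = n23847 := ndS (p := 9355) (l := 0) rfl N9355 D23847
theorem N13601 : nd 13601 = n23848 := ndS (p := 9355) (l := 2) rfl N9355 D23848
theorem N13602 : nd 13602 = n23849 := ndS (p := 9355) (l := 6) rfl N9355 D23849
theorem N13603 : nd 13603 = n23850 := ndS (p := 9356) (l := 6) rfl N9356 D23850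
theorem N13604 : nd 13604 = n23851 := ndS (p := 9357) (l := 5) rfl N9357 D23851
theorem N13605 : nd 13605 = n23852 := ndS (p := 9360) (l := 2) rfl N9360 D23852
theorem N13606 : nd 13606 = n23853 := ndS (p := 9361) (l := 2) rfl N9361 D23853
theorem N13607 : nd 13607 = n23854 := ndS (p := 9362) (l := 2) rfl N9362 D23854
theorem N13608 : nd 13608 = n23855 := ndS (p := 9362) (l := 5) rfl N9362 D23855
theorem N13609 : nd 13609 = n23856 := ndS (p := 9363) (l := 3) rfl N9363 D23856
theorem N13610 : nd 13610 = n23857 := ndS (p := 9363) (l := 5) rfl N9363 D23857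
theorem N13611 : nd 13611 = n23858 := ndS (p := 9365) (l := 2) rfl N9365 D23858
theorem N13612 : nd 13612 = n23859 := ndS (p := 9365) (l := 6) rfl N9365 D23859
theorem N13613 : nd 13613 = n23860 := ndS (p := 9366) (l := 3) rfl N9366 D23860
theorem N13614 : nd 13614 = n23861 := ndS (p := 9366) (l := 6) rfl N9366 D23861
theorem N13615 : nd 13615 = n23862 := ndS (p := 9368) (l := 2) rfl N9368 D23862
theorem N13616 : nd 13616 = n23863 := ndS (p := 9369) (l := 2) rfl N9369 D23863
theorem N13617 : nd 13617 = n23864 := ndS (p := 9370) (l := 3) rfl N9370 D23864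
theorem N13618 : nd 13618 = n23865 := ndS (p := 9370) (l := 6) rfl N9370 D23865
theorem N13619 : nd 13619 = n23866 := ndS (p := 9372) (l := 3) rfl N9372 D23866
theorem N13620 : nd 13620 = n23867 := ndS (p := 9372) (l := 5) rfl N9372 D23867
theorem N13621 : nd 13621 = n23868 := ndS (p := 9375) (l := 1) rfl N9375 D23868
theorem N13622 : nd 13622 = n23869 := ndS (p := 9376) (l := 0) rfl N9376 D23869
theorem N13623 : nd 13623 = n23870 := ndS (p := 9376) (l := 2) rfl N9376 D23870
theorem N13624 : nd 13624 = n23871 := ndS (p := 9376) (l := 5) rfl N9376 D23871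
theorem N13625 : nd 13625 = n23872 := ndS (p := 9378) (l := 1) rfl N9378 D23872
theorem N13626 : nd 13626 = n23873 := ndS (p := 9379) (l := 0) rfl N9379 D23873
theorem N13627 : nd 13627 = n23874 := ndS (p := 9379) (l := 2) rfl N9379 D23874
theorem N13628 : nd 13628 = n23875 := ndS (p := 9379) (l := 6) rfl N9379 D23875
theorem N13629 : nd 13629 = n23876 := ndS (p := 9380) (l := 0) rfl N9380 D23876
theorem N13630 : nd 13630 = n23877 := ndS (p := 9380) (l := 2) rfl N9380 D23877
theorem N13631 : nd 13631 = n23878 := ndS (p := 9380) (l := 5) rfl N9380 D23878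
theorem N13632 : nd 13632 = n23879 := ndS (p := 9381) (l := 1) rfl N9381 D23879
theorem N13633 : nd 13633 = n23880 := ndS (p := 9381) (l := 2) rfl N9381 D23880
theorem N13634 : nd 13634 = n23881 := ndS (p := 9381) (l := 5) rfl N9381 D23881
theorem N13635 : nd 13635 = n23882 := ndS (p := 9382) (l := 3) rfl N9382 D23882
theorem N13636 : nd 13636 = n23883 := ndS (p := 9382) (l := 5) rfl N9382 D23883
theorem N13637 : nd 13637 = n23884 := ndS (p := 9383) (l := 6) rfl N9383 D23884
theorem N13638 : nd 13638 = n23885 := ndS (p := 9384) (l := 0) rfl N9384 D23885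
theorem N13639 : nd 13639 = n23886 := ndS (p := 9384) (l := 2) rfl N9384 D23886
theorem N13640 : nd 13640 = n23887 := ndS (p := 9384) (l := 6) rfl N9384 D23887
theorem N13641 : nd 13641 = n23888 := ndS (p := 9385) (l := 1) rfl N9385 D23888
theorem N13642 : nd 13642 = n23889 := ndS (p := 9385) (l := 2) rfl N9385 D23889
theorem N13643 : nd 13643 = n23890 := ndS (p := 9385) (l := 6) rfl N9385 D23890
theorem N13644 : nd 13644 = n23891 := ndS (p := 9386) (l := 3) rfl N9386 D23891
theorem N13645 : nd 13645 = n23892 := ndS (p := 9386) (l := 6) rfl N9386 D23892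
theorem N13646 : nd 13646 = n23893 := ndS (p := 9387) (l := 5) rfl N9387 D23893
theorem N13647 : nd 13647 = n23894 := ndS (p := 9390) (l := 6) rfl N9390 D23894
theorem N13648 : nd 13648 = n23895 := ndS (p := 9391) (l := 1) rfl N9391 D23895
theorem N13649 : nd 13649 = n23896 := ndS (p := 9395) (l := 5) rfl N9395 D23896
theorem N13650 : nd 13650 = n23897 := ndS (p := 9396) (l := 1) rfl N9396 D23897
theorem N13651 : nd 13651 = n23898 := ndS (p := 9400) (l := 6) rfl N9400 D23898
theorem N13652 : nd 13652 = n23899 := ndS (p := 9401) (l := 1) rfl N9401 D23899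
theorem N13653 : nd 13653 = n23900 := ndS (p := 9402) (l := 2) rfl N9402 D23900
theorem N13654 : nd 13654 = n23901 := ndS (p := 9402) (l := 5) rfl N9402 D23901
theorem N13655 : nd 13655 = n23902 := ndS (p := 9403) (l := 2) rfl N9403 D23902
theorem N13656 : nd 13656 = n23903 := ndS (p := 9403) (l := 6) rfl N9403 D23903
theorem N13657 : nd 13657 = n23904 := ndS (p := 9404) (l := 1) rfl N9404 D23904
theorem N13658 : nd 13658 = n23905 := ndS (p := 9405) (l := 5) rfl N9405 D23905
theorem N13659 : nd 13659 = n23906 := ndS (p := 9406) (l := 2) rfl N9406 D23906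
theorem N13660 : nd 13660 = n23907 := ndS (p := 9406) (l := 6) rfl N9406 D23907
theorem N13661 : nd 13661 = n23908 := ndS (p := 9407) (l := 2) rfl N9407 D23908
theorem N13662 : nd 13662 = n23909 := ndS (p := 9407) (l := 5) rfl N9407 D23909
theorem N13663 : nd 13663 = n23910 := ndS (p := 9417) (l := 6) rfl N9417 D23910
theorem N13664 : nd 13664 = n23911 := ndS (p := 9418) (l := 5) rfl N9418 D23911
theorem N13665 : nd 13665 = n23912 := ndS (p := 9419) (l := 1) rfl N9419 D23912
theorem N13666 : nd 13666 = n23913 := ndS (p := 9420) (l := 1) rfl N9420 D23913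
theorem N13667 : nd 13667 = n23914 := ndS (p := 9421) (l := 1) rfl N9421 D23914
theorem N13668 : nd 13668 = n23915 := ndS (p := 9422) (l := 1) rfl N9422 D23915
theorem N13669 : nd 13669 = n23917 := ndS (p := 9423) (l := 2) rfl N9423 D23917
theorem N13670 : nd 13670 = n23919 := ndS (p := 9424) (l := 2) rfl N9424 D23919
theorem N13671 : nd 13671 = n23920 := ndS (p := 9425) (l := 1) rfl N9425 D23920
theorem N13672 : nd 13672 = n23921 := ndS (p := 9426) (l := 0) rfl N9426 D23921
theorem N13673 : nd 13673 = n23922 := ndS (p := 9426) (l := 2) rfl N9426 D23922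
theorem N13674 : nd 13674 = n23923 := ndS (p := 9427) (l := 1) rfl N9427 D23923
theorem N13675 : nd 13675 = n23924 := ndS (p := 9428) (l := 0) rfl N9428 D23924
theorem N13676 : nd 13676 = n23925 := ndS (p := 9428) (l := 2) rfl N9428 D23925
theorem N13677 : nd 13677 = n23926 := ndS (p := 9429) (l := 0) rfl N9429 D23926
theorem N13678 : nd 13678 = n23927 := ndS (p := 9429) (l := 2) rfl N9429 D23927
theorem N13679 : nd 13679 = n23928 := ndS (p := 9429) (l := 5) rfl N9429 D23928
theorem N13680 : nd 13680 = n23929 := ndS (p := 9430) (l := 1) rfl N9430 D23929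
theorem N13681 : nd 13681 = n23930 := ndS (p := 9430) (l := 2) rfl N9430 D23930
theorem N13682 : nd 13682 = n23931 := ndS (p := 9430) (l := 5) rfl N9430 D23931
theorem N13683 : nd 13683 = n23932 := ndS (p := 9431) (l := 3) rfl N9431 D23932
theorem N13684 : nd 13684 = n23933 := ndS (p := 9431) (l := 5) rfl N9431 D23933
theorem N13685 : nd 13685 = n23934 := ndS (p := 9432) (l := 6) rfl N9432 D23934
theorem N13686 : nd 13686 = n23935 := ndS (p := 9433) (l := 0) rfl N9433 D23935
theorem N13687 : nd 13687 = n23936 := ndS (p := 9433) (l := 2) rfl N9433 D23936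
theorem N13688 : nd 13688 = n23937 := ndS (p := 9433) (l := 6) rfl N9433 D23937
theorem N13689 : nd 13689 = n23938 := ndS (p := 9434) (l := 1) rfl N9434 D23938
theorem N13690 : nd 13690 = n23939 := ndS (p := 9434) (l := 2) rfl N9434 D23939
theorem N13691 : nd 13691 = n23940 := ndS (p := 9434) (l := 6) rfl N9434 D23940
theorem N13692 : nd 13692 = n23941 := ndS (p := 9435) (l := 3) rfl N9435 D23941
theorem N13693 : nd 13693 = n23942 := ndS (p := 9435) (l := 6) rfl N9435 D23942
theorem N13694 : nd 13694 = n23943 := ndS (p := 9436) (l := 5) rfl N9436 D23943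
theorem N13695 : nd 13695 = n23944 := ndS (p := 9441) (l := 5) rfl N9441 D23944
theorem N13696 : nd 13696 = n23945 := ndS (p := 9443) (l := 5) rfl N9443 D23945
theorem N13697 : nd 13697 = n23946 := ndS (p := 9444) (l := 6) rfl N9444 D23946
theorem N13698 : nd 13698 = n23947 := ndS (p := 9450) (l := 6) rfl N9450 D23947
theorem N13699 : nd 13699 = n23948 := ndS (p := 9452) (l := 6) rfl N9452 D23948
theorem N13700 : nd 13700 = n23949 := ndS (p := 9453) (l := 5) rfl N9453 D23949
theorem N13701 : nd 13701 = n23950 := ndS (p := 9456) (l := 6) rfl N9456 D23950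
theorem N13702 : nd 13702 = n23951 := ndS (p := 9458) (l := 5) rfl N9458 D23951
theorem N13703 : nd 13703 = n23952 := ndS (p := 9461) (l := 5) rfl N9461 D23952
theorem N13704 : nd 13704 = n23953 := ndS (p := 9463) (l := 6) rfl N9463 D23953
theorem N13705 : nd 13705 = n23954 := ndS (p := 9465) (l := 1) rfl N9465 D23954
theorem N13706 : nd 13706 = n23955 := ndS (p := 9468) (l := 1) rfl N9468 D23955
theorem N13707 : nd 13707 = n23956 := ndS (p := 9470) (l := 1) rfl N9470 D23956
theorem N13708 : nd 13708 = n23957 := ndS (p := 9473) (l := 1) rfl N9473 D23957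
theorem N13709 : nd 13709 = n23958 := ndS (p := 9476) (l := 2) rfl N9476 D23958
theorem N13710 : nd 13710 = n23959 := ndS (p := 9477) (l := 1) rfl N9477 D23959
theorem N13711 : nd 13711 = n23960 := ndS (p := 9478) (l := 5) rfl N9478 D23960
theorem N13712 : nd 13712 = n23961 := ndS (p := 9479) (l := 5) rfl N9479 D23961
theorem N13713 : nd 13713 = n23962 := ndS (p := 9481) (l := 6) rfl N9481 D23962
theorem N13714 : nd 13714 = n23963 := ndS (p := 9482) (l := 5) rfl N9482 D23963
theorem N13715 : nd 13715 = n23964 := ndS (p := 9483) (l := 2) rfl N9483 D23964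
theorem N13716 : nd 13716 = n23965 := ndS (p := 9487) (l := 6) rfl N9487 D23965
theorem N13717 : nd 13717 = n23966 := ndS (p := 9489) (l := 5) rfl N9489 D23966
theorem N13718 : nd 13718 = n23967 := ndS (p := 9490) (l := 6) rfl N9490 D23967
theorem N13719 : nd 13719 = n23968 := ndS (p := 9491) (l := 2) rfl N9491 D23968
theorem N13720 : nd 13720 = n23969 := ndS (p := 9492) (l := 2) rfl N9492 D23969
theorem N13721 : nd 13721 = n23970 := ndS (p := 9494) (l := 3) rfl N9494 D23970
theorem N13722 : nd 13722 = n23971 := ndS (p := 9494) (l := 6) rfl N9494 D23971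
theorem N13723 : nd 13723 = n23972 := ndS (p := 9495) (l := 2) rfl N9495 D23972
theorem N13724 : nd 13724 = n23973 := ndS (p := 9495) (l := 4) rfl N9495 D23973
theorem N13725 : nd 13725 = n23974 := ndS (p := 9496) (l := 1) rfl N9496 D23974
theorem N13726 : nd 13726 = n23975 := ndS (p := 9496) (l := 4) rfl N9496 D23975
theorem N13727 : nd 13727 = n23976 := ndS (p := 9496) (l := 6) rfl N9496 D23976
theorem N13728 : nd 13728 = n23977 := ndS (p := 9497) (l := 6) rfl N9497 D23977
theorem N13729 : nd 13729 = n23978 := ndS (p := 9498) (l := 1) rfl N9498 D23978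
theorem N13730 : nd 13730 = n23979 := ndS (p := 9499) (l := 0) rfl N9499 D23979
theorem N13731 : nd 13731 = n23980 := ndS (p := 9499) (l := 2) rfl N9499 D23980
theorem N13732 : nd 13732 = n23981 := ndS (p := 9499) (l := 5) rfl N9499 D23981
theorem N13733 : nd 13733 = n23982 := ndS (p := 9500) (l := 1) rfl N9500 D23982
theorem N13734 : nd 13734 = n23983 := ndS (p := 9500) (l := 2) rfl N9500 D23983
theorem N13735 : nd 13735 = n23984 := ndS (p := 9501) (l := 3) rfl N9501 D23984
theorem N13736 : nd 13736 = n23985 := ndS (p := 9501) (l := 5) rfl N9501 D23985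
theorem N13737 : nd 13737 = n23986 := ndS (p := 9503) (l := 0) rfl N9503 D23986
theorem N13738 : nd 13738 = n23987 := ndS (p := 9503) (l := 2) rfl N9503 D23987
theorem N13739 : nd 13739 = n23988 := ndS (p := 9503) (l := 6) rfl N9503 D23988
theorem N13740 : nd 13740 = n23989 := ndS (p := 9504) (l := 1) rfl N9504 D23989
theorem N13741 : nd 13741 = n23990 := ndS (p := 9504) (l := 3) rfl N9504 D23990
theorem N13742 : nd 13742 = n23991 := ndS (p := 9504) (l := 5) rfl N9504 D23991
theorem N13743 : nd 13743 = n23992 := ndS (p := 9506) (l := 5) rfl N9506 D23992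
theorem N13744 : nd 13744 = n23993 := ndS (p := 9507) (l := 6) rfl N9507 D23993
theorem N13745 : nd 13745 = n23994 := ndS (p := 9508) (l := 1) rfl N9508 D23994
theorem N13746 : nd 13746 = n23995 := ndS (p := 9510) (l := 3) rfl N9510 D23995
theorem N13747 : nd 13747 = n23996 := ndS (p := 9510) (l := 5) rfl N9510 D23996
theorem N13748 : nd 13748 = n23997 := ndS (p := 9511) (l := 2) rfl N9511 D23997
theorem N13749 : nd 13749 = n23998 := ndS (p := 9511) (l := 4) rfl N9511 D23998
theorem N13750 : nd 13750 = n23999 := ndS (p := 9512) (l := 1) rfl N9512 D23999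
theorem N13751 : nd 13751 = n24000 := ndS (p := 9512) (l := 4) rfl N9512 D24000
theorem N13752 : nd 13752 = n24001 := ndS (p := 9512) (l := 5) rfl N9512 D24001
theorem N13753 : nd 13753 = n24002 := ndS (p := 9513) (l := 5) rfl N9513 D24002
theorem N13754 : nd 13754 = n24003 := ndS (p := 9514) (l := 1) rfl N9514 D24003
theorem N13755 : nd 13755 = n24004 := ndS (p := 9515) (l := 0) rfl N9515 D24004
theorem N13756 : nd 13756 = n24005 := ndS (p := 9515) (l := 2) rfl N9515 D24005
theorem N13757 : nd 13757 = n24006 := ndS (p := 9515) (l := 6) rfl N9515 D24006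
theorem N13758 : nd 13758 = n24007 := ndS (p := 9516) (l := 1) rfl N9516 D24007
theorem N13759 : nd 13759 = n24008 := ndS (p := 9516) (l := 2) rfl N9516 D24008
theorem N13760 : nd 13760 = n24009 := ndS (p := 9517) (l := 3) rfl N9517 D24009
theorem N13761 : nd 13761 = n24010 := ndS (p := 9517) (l := 6) rfl N9517 D24010
theorem N13762 : nd 13762 = n24011 := ndS (p := 9519) (l := 0) rfl N9519 D24011
theorem N13763 : nd 13763 = n24012 := ndS (p := 9519) (l := 2) rfl N9519 D24012
theorem N13764 : nd 13764 = n24013 := ndS (p := 9519) (l := 5) rfl N9519 D24013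
theorem N13765 : nd 13765 = n24014 := ndS (p := 9520) (l := 1) rfl N9520 D24014
theorem N13766 : nd 13766 = n24015 := ndS (p := 9520) (l := 3) rfl N9520 D24015
theorem N13767 : nd 13767 = n24016 := ndS (p := 9520) (l := 6) rfl N9520 D24016
theorem N13768 : nd 13768 = n24017 := ndS (p := 9522) (l := 6) rfl N9522 D24017
theorem N13769 : nd 13769 = n24018 := ndS (p := 9523) (l := 5) rfl N9523 D24018
theorem N13770 : nd 13770 = n24019 := ndS (p := 9524) (l := 1) rfl N9524 D24019
theorem N13771 : nd 13771 = n24020 := ndS (p := 9528) (l := 1) rfl N9528 D24020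
theorem N13772 : nd 13772 = n24021 := ndS (p := 9530) (l := 4) rfl N9530 D24021
theorem N13773 : nd 13773 = n24022 := ndS (p := 9530) (l := 6) rfl N9530 D24022
theorem N13774 : nd 13774 = n24023 := ndS (p := 9534) (l := 3) rfl N9534 D24023
theorem N13775 : nd 13775 = n24024 := ndS (p := 9536) (l := 2) rfl N9536 D24024
theorem N13776 : nd 13776 = n24025 := ndS (p := 9537) (l := 0) rfl N9537 D24025
theorem N13777 : nd 13777 = n24026 := ndS (p := 9537) (l := 6) rfl N9537 D24026
theorem N13778 : nd 13778 = n24027 := ndS (p := 9539) (l := 2) rfl N9539 D24027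
theorem N13779 : nd 13779 = n24028 := ndS (p := 9541) (l := 1) rfl N9541 D24028
theorem N13780 : nd 13780 = n24029 := ndS (p := 9543) (l := 4) rfl N9543 D24029
theorem N13781 : nd 13781 = n24030 := ndS (p := 9543) (l := 5) rfl N9543 D24030
theorem N13782 : nd 13782 = n24031 := ndS (p := 9547) (l := 3) rfl N9547 D24031
theorem N13783 : nd 13783 = n24032 := ndS (p := 9549) (l := 2) rfl N9549 D24032
theorem N13784 : nd 13784 = n24033 := ndS (p := 9550) (l := 0) rfl N9550 D24033
theorem N13785 : nd 13785 = n24034 := ndS (p := 9550) (l := 5) rfl N9550 D24034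
theorem N13786 : nd 13786 = n24035 := ndS (p := 9552) (l := 2) rfl N9552 D24035
theorem N13787 : nd 13787 = n24036 := ndS (p := 9554) (l := 1) rfl N9554 D24036
theorem N13788 : nd 13788 = n24037 := ndS (p := 9556) (l := 5) rfl N9556 D24037
theorem N13789 : nd 13789 = n24038 := ndS (p := 9557) (l := 1) rfl N9557 D24038
theorem N13790 : nd 13790 = n24039 := ndS (p := 9559) (l := 4) rfl N9559 D24039
theorem N13791 : nd 13791 = n24040 := ndS (p := 9559) (l := 6) rfl N9559 D24040
theorem N13792 : nd 13792 = n24041 := ndS (p := 9560) (l := 6) rfl N9560 D24041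
theorem N13793 : nd 13793 = n24042 := ndS (p := 9561) (l := 1) rfl N9561 D24042
theorem N13794 : nd 13794 = n24043 := ndS (p := 9562) (l := 0) rfl N9562 D24043
theorem N13795 : nd 13795 = n24044 := ndS (p := 9562) (l := 2) rfl N9562 D24044
theorem N13796 : nd 13796 = n24045 := ndS (p := 9562) (l := 5) rfl N9562 D24045
theorem N13797 : nd 13797 = n24046 := ndS (p := 9563) (l := 5) rfl N9563 D24046
theorem N13798 : nd 13798 = n24047 := ndS (p := 9564) (l := 3) rfl N9564 D24047
theorem N13799 : nd 13799 = n24048 := ndS (p := 9564) (l := 5) rfl N9564 D24048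
theorem N13800 : nd 13800 = n24049 := ndS (p := 9566) (l := 3) rfl N9566 D24049
theorem N13801 : nd 13801 = n24050 := ndS (p := 9566) (l := 6) rfl N9566 D24050
theorem N13802 : nd 13802 = n24051 := ndS (p := 9567) (l := 1) rfl N9567 D24051
theorem N13803 : nd 13803 = n24052 := ndS (p := 9567) (l := 5) rfl N9567 D24052
theorem N13804 : nd 13804 = n24053 := ndS (p := 9568) (l := 5) rfl N9568 D24053
theorem N13805 : nd 13805 = n24054 := ndS (p := 9569) (l := 1) rfl N9569 D24054
theorem N13806 : nd 13806 = n24055 := ndS (p := 9570) (l := 0) rfl N9570 D24055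
theorem N13807 : nd 13807 = n24056 := ndS (p := 9570) (l := 2) rfl N9570 D24056
theorem N13808 : nd 13808 = n24057 := ndS (p := 9570) (l := 6) rfl N9570 D24057
theorem N13809 : nd 13809 = n24058 := ndS (p := 9571) (l := 2) rfl N9571 D24058
theorem N13810 : nd 13810 = n24059 := ndS (p := 9571) (l := 6) rfl N9571 D24059
theorem N13811 : nd 13811 = n24060 := ndS (p := 9572) (l := 1) rfl N9572 D24060
theorem N13812 : nd 13812 = n24061 := ndS (p := 9572) (l := 3) rfl N9572 D24061
theorem N13813 : nd 13813 = n24062 := ndS (p := 9573) (l := 2) rfl N9573 D24062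
theorem N13814 : nd 13814 = n24063 := ndS (p := 9573) (l := 4) rfl N9573 D24063
theorem N13815 : nd 13815 = n24064 := ndS (p := 9573) (l := 5) rfl N9573 D24064
theorem N13816 : nd 13816 = n24065 := ndS (p := 9574) (l := 1) rfl N9574 D24065
theorem N13817 : nd 13817 = n24066 := ndS (p := 9576) (l := 2) rfl N9576 D24066
theorem N13818 : nd 13818 = n24067 := ndS (p := 9577) (l := 3) rfl N9577 D24067
theorem N13819 : nd 13819 = n24068 := ndS (p := 9577) (l := 6) rfl N9577 D24068
theorem N13820 : nd 13820 = n24069 := ndS (p := 9580) (l := 1) rfl N9580 D24069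
theorem N13821 : nd 13821 = n24070 := ndS (p := 9580) (l := 3) rfl N9580 D24070
theorem N13822 : nd 13822 = n24071 := ndS (p := 9580) (l := 5) rfl N9580 D24071
theorem N13823 : nd 13823 = n24072 := ndS (p := 9580) (l := 6) rfl N9580 D24072
theorem N13824 : nd 13824 = n24075 := ndS (p := 9583) (l := 5) rfl N9583 D24075
theorem N13825 : nd 13825 = n24076 := ndS (p := 9583) (l := 6) rfl N9583 D24076
theorem N13826 : nd 13826 = n24077 := ndS (p := 9584) (l := 2) rfl N9584 D24077
theorem N13827 : nd 13827 = n24078 := ndS (p := 9584) (l := 4) rfl N9584 D24078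
theorem N13828 : nd 13828 = n24079 := ndS (p := 9584) (l := 5) rfl N9584 D24079
theorem N13829 : nd 13829 = n24080 := ndS (p := 9585) (l := 1) rfl N9585 D24080
theorem N13830 : nd 13830 = n24081 := ndS (p := 9586) (l := 1) rfl N9586 D24081
theorem N13831 : nd 13831 = n24082 := ndS (p := 9586) (l := 4) rfl N9586 D24082
theorem N13832 : nd 13832 = n24083 := ndS (p := 9586) (l := 5) rfl N9586 D24083
theorem N13833 : nd 13833 = n24084 := ndS (p := 9587) (l := 5) rfl N9587 D24084
theorem N13834 : nd 13834 = n24085 := ndS (p := 9588) (l := 6) rfl N9588 D24085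
theorem N13835 : nd 13835 = n24086 := ndS (p := 9589) (l := 1) rfl N9589 D24086
theorem N13836 : nd 13836 = n24087 := ndS (p := 9590) (l := 2) rfl N9590 D24087
theorem N13837 : nd 13837 = n24088 := ndS (p := 9590) (l := 5) rfl N9590 D24088
theorem N13838 : nd 13838 = n24089 := ndS (p := 9592) (l := 1) rfl N9592 D24089
theorem N13839 : nd 13839 = n24090 := ndS (p := 9593) (l := 6) rfl N9593 D24090
theorem N13840 : nd 13840 = n24091 := ndS (p := 9597) (l := 4) rfl N9597 D24091
theorem N13841 : nd 13841 = n24092 := ndS (p := 9597) (l := 5) rfl N9597 D24092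
theorem N13842 : nd 13842 = n24093 := ndS (p := 9598) (l := 5) rfl N9598 D24093
theorem N13843 : nd 13843 = n24094 := ndS (p := 9599) (l := 1) rfl N9599 D24094
theorem N13844 : nd 13844 = n24095 := ndS (p := 9600) (l := 0) rfl N9600 D24095
theorem N13845 : nd 13845 = n24096 := ndS (p := 9600) (l := 2) rfl N9600 D24096
theorem N13846 : nd 13846 = n24097 := ndS (p := 9600) (l := 6) rfl N9600 D24097
theorem N13847 : nd 13847 = n24098 := ndS (p := 9602) (l := 3) rfl N9602 D24098
theorem N13848 : nd 13848 = n24099 := ndS (p := 9602) (l := 6) rfl N9602 D24099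
theorem N13849 : nd 13849 = n24100 := ndS (p := 9604) (l := 3) rfl N9604 D24100
theorem N13850 : nd 13850 = n24101 := ndS (p := 9604) (l := 5) rfl N9604 D24101
theorem N13851 : nd 13851 = n24102 := ndS (p := 9605) (l := 1) rfl N9605 D24102
theorem N13852 : nd 13852 = n24103 := ndS (p := 9605) (l := 6) rfl N9605 D24103
theorem N13853 : nd 13853 = n24104 := ndS (p := 9606) (l := 6) rfl N9606 D24104
theorem N13854 : nd 13854 = n24105 := ndS (p := 9607) (l := 1) rfl N9607 D24105
theorem N13855 : nd 13855 = n24106 := ndS (p := 9608) (l := 0) rfl N9608 D24106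
theorem N13856 : nd 13856 = n24107 := ndS (p := 9608) (l := 2) rfl N9608 D24107
theorem N13857 : nd 13857 = n24108 := ndS (p := 9608) (l := 5) rfl N9608 D24108
theorem N13858 : nd 13858 = n24109 := ndS (p := 9609) (l := 2) rfl N9609 D24109
theorem N13859 : nd 13859 = n24110 := ndS (p := 9609) (l := 5) rfl N9609 D24110
theorem N13860 : nd 13860 = n24111 := ndS (p := 9610) (l := 1) rfl N9610 D24111
theorem N13861 : nd 13861 = n24112 := ndS (p := 9610) (l := 3) rfl N9610 D24112
theorem N13862 : nd 13862 = n24113 := ndS (p := 9611) (l := 2) rfl N9611 D24113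
theorem N13863 : nd 13863 = n24114 := ndS (p := 9611) (l := 4) rfl N9611 D24114
theorem N13864 : nd 13864 = n24115 := ndS (p := 9611) (l := 6) rfl N9611 D24115
theorem N13865 : nd 13865 = n24116 := ndS (p := 9612) (l := 1) rfl N9612 D24116
theorem N13866 : nd 13866 = n24117 := ndS (p := 9614) (l := 2) rfl N9614 D24117
theorem N13867 : nd 13867 = n24118 := ndS (p := 9615) (l := 3) rfl N9615 D24118
theorem N13868 : nd 13868 = n24119 := ndS (p := 9615) (l := 5) rfl N9615 D24119
theorem N13869 : nd 13869 = n24120 := ndS (p := 9618) (l := 1) rfl N9618 D24120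
theorem N13870 : nd 13870 = n24121 := ndS (p := 9618) (l := 3) rfl N9618 D24121
theorem N13871 : nd 13871 = n24122 := ndS (p := 9618) (l := 5) rfl N9618 D24122
theorem N13872 : nd 13872 = n24123 := ndS (p := 9618) (l := 6) rfl N9618 D24123
theorem N13873 : nd 13873 = n24126 := ndS (p := 9621) (l := 5) rfl N9621 D24126
theorem N13874 : nd 13874 = n24127 := ndS (p := 9621) (l := 6) rfl N9621 D24127
theorem N13875 : nd 13875 = n24128 := ndS (p := 9622) (l := 2) rfl N9622 D24128
theorem N13876 : nd 13876 = n24129 := ndS (p := 9622) (l := 4) rfl N9622 D24129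
theorem N13877 : nd 13877 = n24130 := ndS (p := 9622) (l := 6) rfl N9622 D24130
theorem N13878 : nd 13878 = n24131 := ndS (p := 9623) (l := 1) rfl N9623 D24131
theorem N13879 : nd 13879 = n24132 := ndS (p := 9624) (l := 1) rfl N9624 D24132
theorem N13880 : nd 13880 = n24133 := ndS (p := 9624) (l := 4) rfl N9624 D24133
theorem N13881 : nd 13881 = n24134 := ndS (p := 9624) (l := 6) rfl N9624 D24134
theorem N13882 : nd 13882 = n24135 := ndS (p := 9625) (l := 6) rfl N9625 D24135
theorem N13883 : nd 13883 = n24136 := ndS (p := 9626) (l := 5) rfl N9626 D24136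
theorem N13884 : nd 13884 = n24137 := ndS (p := 9627) (l := 1) rfl N9627 D24137
theorem N13885 : nd 13885 = n24138 := ndS (p := 9628) (l := 2) rfl N9628 D24138
theorem N13886 : nd 13886 = n24139 := ndS (p := 9628) (l := 6) rfl N9628 D24139
theorem N13887 : nd 13887 = n24140 := ndS (p := 9629) (l := 1) rfl N9629 D24140
theorem N13888 : nd 13888 = n24141 := ndS (p := 9629) (l := 3) rfl N9629 D24141
theorem N13889 : nd 13889 = n24142 := ndS (p := 9629) (l := 5) rfl N9629 D24142
theorem N13890 : nd 13890 = n24143 := ndS (p := 9629) (l := 6) rfl N9629 D24143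
theorem N13891 : nd 13891 = n24144 := ndS (p := 9630) (l := 2) rfl N9630 D24144
theorem N13892 : nd 13892 = n24145 := ndS (p := 9630) (l := 4) rfl N9630 D24145
theorem N13893 : nd 13893 = n24146 := ndS (p := 9630) (l := 5) rfl N9630 D24146
theorem N13894 : nd 13894 = n24147 := ndS (p := 9630) (l := 6) rfl N9630 D24147
theorem N13895 : nd 13895 = n24148 := ndS (p := 9632) (l := 5) rfl N9632 D24148
theorem N13896 : nd 13896 = n24149 := ndS (p := 9634) (l := 0) rfl N9634 D24149
theorem N13897 : nd 13897 = n24150 := ndS (p := 9634) (l := 4) rfl N9634 D24150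
theorem N13898 : nd 13898 = n24151 := ndS (p := 9634) (l := 5) rfl N9634 D24151
theorem N13899 : nd 13899 = n24152 := ndS (p := 9634) (l := 6) rfl N9634 D24152
theorem N13900 : nd 13900 = n24153 := ndS (p := 9636) (l := 1) rfl N9636 D24153
theorem N13901 : nd 13901 = n24154 := ndS (p := 9636) (l := 3) rfl N9636 D24154
theorem N13902 : nd 13902 = n24155 := ndS (p := 9636) (l := 5) rfl N9636 D24155
theorem N13903 : nd 13903 = n24156 := ndS (p := 9636) (l := 6) rfl N9636 D24156
theorem N13904 : nd 13904 = n24157 := ndS (p := 9637) (l := 2) rfl N9637 D24157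
theorem N13905 : nd 13905 = n24158 := ndS (p := 9637) (l := 4) rfl N9637 D24158
theorem N13906 : nd 13906 = n24159 := ndS (p := 9637) (l := 5) rfl N9637 D24159
theorem N13907 : nd 13907 = n24160 := ndS (p := 9637) (l := 6) rfl N9637 D24160
theorem N13908 : nd 13908 = n24161 := ndS (p := 9638) (l := 6) rfl N9638 D24161
theorem N13909 : nd 13909 = n24162 := ndS (p := 9641) (l := 0) rfl N9641 D24162
theorem N13910 : nd 13910 = n24163 := ndS (p := 9641) (l := 4) rfl N9641 D24163
theorem N13911 : nd 13911 = n24164 := ndS (p := 9641) (l := 5) rfl N9641 D24164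
theorem N13912 : nd 13912 = n24165 := ndS (p := 9641) (l := 6) rfl N9641 D24165
theorem N13913 : nd 13913 = n24166 := ndS (p := 9643) (l := 0) rfl N9643 D24166
theorem N13914 : nd 13914 = n24167 := ndS (p := 9643) (l := 5) rfl N9643 D24167
theorem N13915 : nd 13915 = n24168 := ndS (p := 9643) (l := 6) rfl N9643 D24168
theorem N13916 : nd 13916 = n24170 := ndS (p := 9644) (l := 3) rfl N9644 D24170
theorem N13917 : nd 13917 = n24171 := ndS (p := 9644) (l := 5) rfl N9644 D24171
theorem N13918 : nd 13918 = n24173 := ndS (p := 9645) (l := 2) rfl N9645 D24173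
theorem N13919 : nd 13919 = n24174 := ndS (p := 9645) (l := 4) rfl N9645 D24174
theorem N13920 : nd 13920 = n24175 := ndS (p := 9645) (l := 5) rfl N9645 D24175
theorem N13921 : nd 13921 = n24176 := ndS (p := 9645) (l := 6) rfl N9645 D24176
theorem N13922 : nd 13922 = n24179 := ndS (p := 9649) (l := 0) rfl N9649 D24179
theorem N13923 : nd 13923 = n24180 := ndS (p := 9649) (l := 5) rfl N9649 D24180
theorem N13924 : nd 13924 = n24181 := ndS (p := 9649) (l := 6) rfl N9649 D24181
theorem N13925 : nd 13925 = n24183 := ndS (p := 9650) (l := 3) rfl N9650 D24183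
theorem N13926 : nd 13926 = n24186 := ndS (p := 9651) (l := 2) rfl N9651 D24186
theorem N13927 : nd 13927 = n24187 := ndS (p := 9651) (l := 4) rfl N9651 D24187
theorem N13928 : nd 13928 = n24188 := ndS (p := 9651) (l := 5) rfl N9651 D24188
theorem N13929 : nd 13929 = n24192 := ndS (p := 9656) (l := 1) rfl N9656 D24192
theorem N13930 : nd 13930 = n24193 := ndS (p := 9660) (l := 2) rfl N9660 D24193
theorem N13931 : nd 13931 = n24194 := ndS (p := 9660) (l := 4) rfl N9660 D24194
theorem N13932 : nd 13932 = n24195 := ndS (p := 9663) (l := 1) rfl N9663 D24195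
theorem N13933 : nd 13933 = n24196 := ndS (p := 9667) (l := 2) rfl N9667 D24196
theorem N13934 : nd 13934 = n24197 := ndS (p := 9667) (l := 4) rfl N9667 D24197
theorem N13935 : nd 13935 = n24198 := ndS (p := 9672) (l := 1) rfl N9672 D24198
theorem N13936 : nd 13936 = n24199 := ndS (p := 9673) (l := 5) rfl N9673 D24199
theorem N13937 : nd 13937 = n24200 := ndS (p := 9674) (l := 2) rfl N9674 D24200
theorem N13938 : nd 13938 = n24201 := ndS (p := 9677) (l := 6) rfl N9677 D24201
theorem N13939 : nd 13939 = n24202 := ndS (p := 9678) (l := 3) rfl N9678 D24202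
theorem N13940 : nd 13940 = n24203 := ndS (p := 9679) (l := 5) rfl N9679 D24203
theorem N13941 : nd 13941 = n24204 := ndS (p := 9680) (l := 1) rfl N9680 D24204
theorem N13942 : nd 13942 = n24205 := ndS (p := 9681) (l := 2) rfl N9681 D24205
theorem N13943 : nd 13943 = n24206 := ndS (p := 9682) (l := 1) rfl N9682 D24206
theorem N13944 : nd 13944 = n24207 := ndS (p := 9682) (l := 3) rfl N9682 D24207
theorem N13945 : nd 13945 = n24208 := ndS (p := 9682) (l := 6) rfl N9682 D24208
theorem N13946 : nd 13946 = n24209 := ndS (p := 9684) (l := 0) rfl N9684 D24209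
theorem N13947 : nd 13947 = n24210 := ndS (p := 9684) (l := 3) rfl N9684 D24210
theorem N13948 : nd 13948 = n24211 := ndS (p := 9684) (l := 5) rfl N9684 D24211
theorem N13949 : nd 13949 = n24212 := ndS (p := 9685) (l := 2) rfl N9685 D24212
theorem N13950 : nd 13950 = n24213 := ndS (p := 9685) (l := 4) rfl N9685 D24213
theorem N13951 : nd 13951 = n24214 := ndS (p := 9685) (l := 5) rfl N9685 D24214
theorem N13952 : nd 13952 = n24215 := ndS (p := 9686) (l := 1) rfl N9686 D24215
theorem N13953 : nd 13953 = n24216 := ndS (p := 9687) (l := 3) rfl N9687 D24216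
theorem N13954 : nd 13954 = n24217 := ndS (p := 9687) (l := 4) rfl N9687 D24217
theorem N13955 : nd 13955 = n24218 := ndS (p := 9687) (l := 5) rfl N9687 D24218
theorem N13956 : nd 13956 = n24219 := ndS (p := 9688) (l := 5) rfl N9688 D24219
theorem N13957 : nd 13957 = n24220 := ndS (p := 9689) (l := 6) rfl N9689 D24220
theorem N13958 : nd 13958 = n24221 := ndS (p := 9690) (l := 1) rfl N9690 D24221
theorem N13959 : nd 13959 = n24222 := ndS (p := 9694) (l := 1) rfl N9694 D24222
theorem N13960 : nd 13960 = n24223 := ndS (p := 9695) (l := 6) rfl N9695 D24223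
theorem N13961 : nd 13961 = n24224 := ndS (p := 9696) (l := 2) rfl N9696 D24224
theorem N13962 : nd 13962 = n24225 := ndS (p := 9699) (l := 5) rfl N9699 D24225
theorem N13963 : nd 13963 = n24226 := ndS (p := 9700) (l := 3) rfl N9700 D24226
theorem N13964 : nd 13964 = n24227 := ndS (p := 9702) (l := 1) rfl N9702 D24227
theorem N13965 : nd 13965 = n24228 := ndS (p := 9704) (l := 1) rfl N9704 D24228
theorem N13966 : nd 13966 = n24229 := ndS (p := 9704) (l := 5) rfl N9704 D24229
theorem N13967 : nd 13967 = n24230 := ndS (p := 9706) (l := 0) rfl N9706 D24230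
theorem N13968 : nd 13968 = n24231 := ndS (p := 9706) (l := 3) rfl N9706 D24231
theorem N13969 : nd 13969 = n24232 := ndS (p := 9706) (l := 6) rfl N9706 D24232
theorem N13970 : nd 13970 = n24233 := ndS (p := 9707) (l := 2) rfl N9707 D24233
theorem N13971 : nd 13971 = n24234 := ndS (p := 9707) (l := 4) rfl N9707 D24234
theorem N13972 : nd 13972 = n24235 := ndS (p := 9707) (l := 6) rfl N9707 D24235
theorem N13973 : nd 13973 = n24236 := ndS (p := 9708) (l := 1) rfl N9708 D24236
theorem N13974 : nd 13974 = n24237 := ndS (p := 9709) (l := 3) rfl N9709 D24237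
theorem N13975 : nd 13975 = n24238 := ndS (p := 9709) (l := 6) rfl N9709 D24238
theorem N13976 : nd 13976 = n24239 := ndS (p := 9710) (l := 6) rfl N9710 D24239
theorem N13977 : nd 13977 = n24240 := ndS (p := 9711) (l := 5) rfl N9711 D24240
theorem N13978 : nd 13978 = n24241 := ndS (p := 9712) (l := 1) rfl N9712 D24241
theorem N13979 : nd 13979 = n24242 := ndS (p := 9715) (l := 2) rfl N9715 D24242
theorem N13980 : nd 13980 = n24243 := ndS (p := 9719) (l := 1) rfl N9719 D24243
theorem N13981 : nd 13981 = n24244 := ndS (p := 9719) (l := 5) rfl N9719 D24244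
theorem N13982 : nd 13982 = n24245 := ndS (p := 9721) (l := 1) rfl N9721 D24245
theorem N13983 : nd 13983 = n24246 := ndS (p := 9723) (l := 2) rfl N9723 D24246
theorem N13984 : nd 13984 = n24247 := ndS (p := 9727) (l := 1) rfl N9727 D24247
theorem N13985 : nd 13985 = n24248 := ndS (p := 9727) (l := 6) rfl N9727 D24248
theorem N13986 : nd 13986 = n24249 := ndS (p := 9729) (l := 1) rfl N9729 D24249
theorem N13987 : nd 13987 = n24250 := ndS (p := 9732) (l := 1) rfl N9732 D24250
theorem N13988 : nd 13988 = n24251 := ndS (p := 9736) (l := 2) rfl N9736 D24251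
theorem N13989 : nd 13989 = n24252 := ndS (p := 9737) (l := 1) rfl N9737 D24252
theorem N13990 : nd 13990 = n24253 := ndS (p := 9737) (l := 3) rfl N9737 D24253
theorem N13991 : nd 13991 = n24254 := ndS (p := 9738) (l := 4) rfl N9738 D24254
theorem N13992 : nd 13992 = n24255 := ndS (p := 9739) (l := 1) rfl N9739 D24255
theorem N13993 : nd 13993 = n24256 := ndS (p := 9742) (l := 1) rfl N9742 D24256
theorem N13994 : nd 13994 = n24257 := ndS (p := 9742) (l := 3) rfl N9742 D24257
theorem N13995 : nd 13995 = n24258 := ndS (p := 9743) (l := 0) rfl N9743 D24258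
theorem N13996 : nd 13996 = n24259 := ndS (p := 9743) (l := 3) rfl N9743 D24259
theorem N13997 : nd 13997 = n24260 := ndS (p := 9743) (l := 5) rfl N9743 D24260
theorem N13998 : nd 13998 = n24261 := ndS (p := 9743) (l := 6) rfl N9743 D24261
theorem N13999 : nd 13999 = n24262 := ndS (p := 9744) (l := 4) rfl N9744 D24262
theorem N14000 : nd 14000 = n24263 := ndS (p := 9744) (l := 5) rfl N9744 D24263
theorem N14001 : nd 14001 = n24264 := ndS (p := 9745) (l := 1) rfl N9745 D24264
theorem N14002 : nd 14002 = n24265 := ndS (p := 9746) (l := 4) rfl N9746 D24265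
theorem N14003 : nd 14003 = n24266 := ndS (p := 9746) (l := 5) rfl N9746 D24266
theorem N14004 : nd 14004 = n24267 := ndS (p := 9747) (l := 5) rfl N9747 D24267
theorem N14005 : nd 14005 = n24268 := ndS (p := 9748) (l := 1) rfl N9748 D24268
theorem N14006 : nd 14006 = n24269 := ndS (p := 9752) (l := 1) rfl N9752 D24269
theorem N14007 : nd 14007 = n24270 := ndS (p := 9756) (l := 2) rfl N9756 D24270
theorem N14008 : nd 14008 = n24271 := ndS (p := 9757) (l := 1) rfl N9757 D24271
theorem N14009 : nd 14009 = n24272 := ndS (p := 9757) (l := 3) rfl N9757 D24272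
theorem N14010 : nd 14010 = n24273 := ndS (p := 9758) (l := 4) rfl N9758 D24273
theorem N14011 : nd 14011 = n24274 := ndS (p := 9759) (l := 1) rfl N9759 D24274
theorem N14012 : nd 14012 = n24275 := ndS (p := 9762) (l := 1) rfl N9762 D24275
theorem N14013 : nd 14013 = n24276 := ndS (p := 9762) (l := 3) rfl N9762 D24276
theorem N14014 : nd 14014 = n24277 := ndS (p := 9763) (l := 0) rfl N9763 D24277
theorem N14015 : nd 14015 = n24278 := ndS (p := 9763) (l := 3) rfl N9763 D24278
theorem N14016 : nd 14016 = n24279 := ndS (p := 9763) (l := 5) rfl N9763 D24279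
theorem N14017 : nd 14017 = n24280 := ndS (p := 9763) (l := 6) rfl N9763 D24280
theorem N14018 : nd 14018 = n24281 := ndS (p := 9764) (l := 4) rfl N9764 D24281
theorem N14019 : nd 14019 = n24282 := ndS (p := 9764) (l := 6) rfl N9764 D24282
theorem N14020 : nd 14020 = n24283 := ndS (p := 9765) (l := 1) rfl N9765 D24283
theorem N14021 : nd 14021 = n24284 := ndS (p := 9766) (l := 4) rfl N9766 D24284
theorem N14022 : nd 14022 = n24285 := ndS (p := 9766) (l := 6) rfl N9766 D24285
theorem N14023 : nd 14023 = n24286 := ndS (p := 9767) (l := 6) rfl N9767 D24286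
theorem N14024 : nd 14024 = n24287 := ndS (p := 9768) (l := 1) rfl N9768 D24287
theorem N14025 : nd 14025 = n24288 := ndS (p := 9770) (l := 0) rfl N9770 D24288
theorem N14026 : nd 14026 = n24289 := ndS (p := 9770) (l := 5) rfl N9770 D24289
theorem N14027 : nd 14027 = n24290 := ndS (p := 9773) (l := 3) rfl N9773 D24290
theorem N14028 : nd 14028 = n24291 := ndS (p := 9775) (l := 2) rfl N9775 D24291
theorem N14029 : nd 14029 = n24292 := ndS (p := 9775) (l := 5) rfl N9775 D24292
theorem N14030 : nd 14030 = n24293 := ndS (p := 9777) (l := 6) rfl N9777 D24293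
theorem N14031 : nd 14031 = n24294 := ndS (p := 9779) (l := 2) rfl N9779 D24294
theorem N14032 : nd 14032 = n24295 := ndS (p := 9779) (l := 4) rfl N9779 D24295
theorem N14033 : nd 14033 = n24296 := ndS (p := 9779) (l := 5) rfl N9779 D24296
theorem N14034 : nd 14034 = n24297 := ndS (p := 9781) (l := 2) rfl N9781 D24297
theorem N14035 : nd 14035 = n24298 := ndS (p := 9781) (l := 6) rfl N9781 D24298
theorem N14036 : nd 14036 = n24299 := ndS (p := 9782) (l := 1) rfl N9782 D24299
theorem N14037 : nd 14037 = n24300 := ndS (p := 9784) (l := 1) rfl N9784 D24300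
theorem N14038 : nd 14038 = n24301 := ndS (p := 9786) (l := 2) rfl N9786 D24301
theorem N14039 : nd 14039 = n24302 := ndS (p := 9786) (l := 6) rfl N9786 D24302
theorem N14040 : nd 14040 = n24303 := ndS (p := 9787) (l := 6) rfl N9787 D24303
theorem N14041 : nd 14041 = n24304 := ndS (p := 9788) (l := 5) rfl N9788 D24304
theorem N14042 : nd 14042 = n24305 := ndS (p := 9790) (l := 1) rfl N9790 D24305
theorem N14043 : nd 14043 = n24306 := ndS (p := 9790) (l := 5) rfl N9790 D24306
theorem N14044 : nd 14044 = n24307 := ndS (p := 9790) (l := 6) rfl N9790 D24307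
theorem N14045 : nd 14045 = n24308 := ndS (p := 9793) (l := 0) rfl N9793 D24308
theorem N14046 : nd 14046 = n24309 := ndS (p := 9793) (l := 3) rfl N9793 D24309
theorem N14047 : nd 14047 = n24310 := ndS (p := 9793) (l := 5) rfl N9793 D24310
theorem N14048 : nd 14048 = n24311 := ndS (p := 9793) (l := 6) rfl N9793 D24311
theorem N14049 : nd 14049 = n24312 := ndS (p := 9794) (l := 2) rfl N9794 D24312
theorem N14050 : nd 14050 = n24313 := ndS (p := 9794) (l := 4) rfl N9794 D24313
theorem N14051 : nd 14051 = n24314 := ndS (p := 9795) (l := 3) rfl N9795 D24314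
theorem N14052 : nd 14052 = n24315 := ndS (p := 9795) (l := 4) rfl N9795 D24315
theorem N14053 : nd 14053 = n24316 := ndS (p := 9795) (l := 5) rfl N9795 D24316
theorem N14054 : nd 14054 = n24317 := ndS (p := 9796) (l := 5) rfl N9796 D24317
theorem N14055 : nd 14055 = n24318 := ndS (p := 9800) (l := 1) rfl N9800 D24318
theorem N14056 : nd 14056 = n24319 := ndS (p := 9804) (l := 3) rfl N9804 D24319
theorem N14057 : nd 14057 = n24320 := ndS (p := 9804) (l := 5) rfl N9804 D24320
theorem N14058 : nd 14058 = n24321 := ndS (p := 9805) (l := 4) rfl N9805 D24321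
theorem N14059 : nd 14059 = n24322 := ndS (p := 9805) (l := 6) rfl N9805 D24322
theorem N14060 : nd 14060 = n24323 := ndS (p := 9808) (l := 1) rfl N9808 D24323
theorem N14061 : nd 14061 = n24324 := ndS (p := 9808) (l := 3) rfl N9808 D24324
theorem N14062 : nd 14062 = n24325 := ndS (p := 9808) (l := 5) rfl N9808 D24325
theorem N14063 : nd 14063 = n24326 := ndS (p := 9808) (l := 6) rfl N9808 D24326
theorem N14064 : nd 14064 = n24327 := ndS (p := 9809) (l := 2) rfl N9809 D24327
theorem N14065 : nd 14065 = n24328 := ndS (p := 9809) (l := 4) rfl N9809 D24328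
theorem N14066 : nd 14066 = n24329 := ndS (p := 9809) (l := 6) rfl N9809 D24329
theorem N14067 : nd 14067 = n24330 := ndS (p := 9810) (l := 6) rfl N9810 D24330
theorem N14068 : nd 14068 = n24331 := ndS (p := 9811) (l := 5) rfl N9811 D24331
theorem N14069 : nd 14069 = n24332 := ndS (p := 9812) (l := 4) rfl N9812 D24332
theorem N14070 : nd 14070 = n24333 := ndS (p := 9813) (l := 5) rfl N9813 D24333
theorem N14071 : nd 14071 = n24334 := ndS (p := 9816) (l := 0) rfl N9816 D24334
theorem N14072 : nd 14072 = n24335 := ndS (p := 9816) (l := 3) rfl N9816 D24335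
theorem N14073 : nd 14073 = n24336 := ndS (p := 9816) (l := 4) rfl N9816 D24336
theorem N14074 : nd 14074 = n24337 := ndS (p := 9816) (l := 6) rfl N9816 D24337
theorem N14075 : nd 14075 = n24338 := ndS (p := 9817) (l := 4) rfl N9817 D24338
theorem N14076 : nd 14076 = n24339 := ndS (p := 9818) (l := 3) rfl N9818 D24339
theorem N14077 : nd 14077 = n24340 := ndS (p := 9819) (l := 6) rfl N9819 D24340
theorem N14078 : nd 14078 = n24341 := ndS (p := 9821) (l := 0) rfl N9821 D24341
theorem N14079 : nd 14079 = n24342 := ndS (p := 9821) (l := 2) rfl N9821 D24342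
theorem N14080 : nd 14080 = n24343 := ndS (p := 9821) (l := 5) rfl N9821 D24343
theorem N14081 : nd 14081 = n24344 := ndS (p := 9823) (l := 5) rfl N9823 D24344
theorem N14082 : nd 14082 = n24345 := ndS (p := 9825) (l := 0) rfl N9825 D24345
theorem N14083 : nd 14083 = n24346 := ndS (p := 9825) (l := 6) rfl N9825 D24346
theorem N14084 : nd 14084 = n24347 := ndS (p := 9827) (l := 3) rfl N9827 D24347
theorem N14085 : nd 14085 = n24348 := ndS (p := 9829) (l := 2) rfl N9829 D24348
theorem N14086 : nd 14086 = n24349 := ndS (p := 9829) (l := 6) rfl N9829 D24349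
theorem N14087 : nd 14087 = n24350 := ndS (p := 9831) (l := 5) rfl N9831 D24350
theorem N14088 : nd 14088 = n24351 := ndS (p := 9832) (l := 2) rfl N9832 D24351
theorem N14089 : nd 14089 = n24352 := ndS (p := 9832) (l := 4) rfl N9832 D24352
theorem N14090 : nd 14090 = n24353 := ndS (p := 9832) (l := 6) rfl N9832 D24353
theorem N14091 : nd 14091 = n24354 := ndS (p := 9834) (l := 2) rfl N9834 D24354
theorem N14092 : nd 14092 = n24355 := ndS (p := 9834) (l := 5) rfl N9834 D24355
theorem N14093 : nd 14093 = n24356 := ndS (p := 9835) (l := 1) rfl N9835 D24356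
theorem N14094 : nd 14094 = n24357 := ndS (p := 9837) (l := 1) rfl N9837 D24357
theorem N14095 : nd 14095 = n24359 := ndS (p := 9839) (l := 2) rfl N9839 D24359
theorem N14096 : nd 14096 = n24360 := ndS (p := 9839) (l := 5) rfl N9839 D24360
theorem N14097 : nd 14097 = n24361 := ndS (p := 9841) (l := 6) rfl N9841 D24361
theorem N14098 : nd 14098 = n24362 := ndS (p := 9843) (l := 1) rfl N9843 D24362
theorem N14099 : nd 14099 = n24363 := ndS (p := 9843) (l := 5) rfl N9843 D24363
theorem N14100 : nd 14100 = n24364 := ndS (p := 9843) (l := 6) rfl N9843 D24364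
theorem N14101 : nd 14101 = n24365 := ndS (p := 9846) (l := 0) rfl N9846 D24365
theorem N14102 : nd 14102 = n24366 := ndS (p := 9846) (l := 6) rfl N9846 D24366
theorem N14103 : nd 14103 = n24367 := ndS (p := 9847) (l := 2) rfl N9847 D24367
theorem N14104 : nd 14104 = n24368 := ndS (p := 9847) (l := 4) rfl N9847 D24368
theorem N14105 : nd 14105 = n24369 := ndS (p := 9848) (l := 3) rfl N9848 D24369
theorem N14106 : nd 14106 = n24370 := ndS (p := 9848) (l := 4) rfl N9848 D24370
theorem N14107 : nd 14107 = n24371 := ndS (p := 9848) (l := 6) rfl N9848 D24371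
theorem N14108 : nd 14108 = n24372 := ndS (p := 9849) (l := 6) rfl N9849 D24372
theorem N14109 : nd 14109 = n24373 := ndS (p := 9857) (l := 3) rfl N9857 D24373
theorem N14110 : nd 14110 = n24374 := ndS (p := 9857) (l := 6) rfl N9857 D24374
theorem N14111 : nd 14111 = n24375 := ndS (p := 9858) (l := 4) rfl N9858 D24375
theorem N14112 : nd 14112 = n24376 := ndS (p := 9858) (l := 5) rfl N9858 D24376
theorem N14113 : nd 14113 = n24377 := ndS (p := 9861) (l := 1) rfl N9861 D24377
theorem N14114 : nd 14114 = n24378 := ndS (p := 9861) (l := 3) rfl N9861 D24378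
theorem N14115 : nd 14115 = n24379 := ndS (p := 9861) (l := 5) rfl N9861 D24379
theorem N14116 : nd 14116 = n24380 := ndS (p := 9861) (l := 6) rfl N9861 D24380
theorem N14117 : nd 14117 = n24381 := ndS (p := 9862) (l := 2) rfl N9862 D24381
theorem N14118 : nd 14118 = n24382 := ndS (p := 9862) (l := 4) rfl N9862 D24382
theorem N14119 : nd 14119 = n24383 := ndS (p := 9864) (l := 5) rfl N9864 D24383
theorem N14120 : nd 14120 = n24384 := ndS (p := 9865) (l := 4) rfl N9865 D24384
theorem N14121 : nd 14121 = n24385 := ndS (p := 9866) (l := 6) rfl N9866 D24385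
theorem N14122 : nd 14122 = n24386 := ndS (p := 9869) (l := 0) rfl N9869 D24386
theorem N14123 : nd 14123 = n24387 := ndS (p := 9869) (l := 3) rfl N9869 D24387
theorem N14124 : nd 14124 = n24388 := ndS (p := 9869) (l := 4) rfl N9869 D24388
theorem N14125 : nd 14125 = n24389 := ndS (p := 9869) (l := 5) rfl N9869 D24389
theorem N14126 : nd 14126 = n24390 := ndS (p := 9870) (l := 4) rfl N9870 D24390
theorem N14127 : nd 14127 = n24391 := ndS (p := 9871) (l := 3) rfl N9871 D24391
theorem N14128 : nd 14128 = n24392 := ndS (p := 9872) (l := 5) rfl N9872 D24392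
theorem N14129 : nd 14129 = n24393 := ndS (p := 9874) (l := 0) rfl N9874 D24393
theorem N14130 : nd 14130 = n24394 := ndS (p := 9874) (l := 2) rfl N9874 D24394
theorem N14131 : nd 14131 = n24395 := ndS (p := 9874) (l := 6) rfl N9874 D24395
theorem N14132 : nd 14132 = n24396 := ndS (p := 9876) (l := 6) rfl N9876 D24396
theorem N14133 : nd 14133 = n24397 := ndS (p := 9878) (l := 3) rfl N9878 D24397
theorem N14134 : nd 14134 = n24398 := ndS (p := 9878) (l := 5) rfl N9878 D24398
theorem N14135 : nd 14135 = n24399 := ndS (p := 9880) (l := 1) rfl N9880 D24399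
theorem N14136 : nd 14136 = n24400 := ndS (p := 9884) (l := 1) rfl N9884 D24400
theorem N14137 : nd 14137 = n24401 := ndS (p := 9885) (l := 1) rfl N9885 D24401
theorem N14138 : nd 14138 = n24402 := ndS (p := 9885) (l := 4) rfl N9885 D24402
theorem N14139 : nd 14139 = n24403 := ndS (p := 9885) (l := 5) rfl N9885 D24403
theorem N14140 : nd 14140 = n24404 := ndS (p := 9885) (l := 6) rfl N9885 D24404
theorem N14141 : nd 14141 = n24405 := ndS (p := 9886) (l := 5) rfl N9886 D24405
theorem N14142 : nd 14142 = n24406 := ndS (p := 9886) (l := 6) rfl N9886 D24406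
theorem N14143 : nd 14143 = n24407 := ndS (p := 9888) (l := 5) rfl N9888 D24407
theorem N14144 : nd 14144 = n24408 := ndS (p := 9889) (l := 6) rfl N9889 D24408
theorem N14145 : nd 14145 = n24409 := ndS (p := 9890) (l := 1) rfl N9890 D24409
theorem N14146 : nd 14146 = n24410 := ndS (p := 9892) (l := 1) rfl N9892 D24410
theorem N14147 : nd 14147 = n24411 := ndS (p := 9892) (l := 4) rfl N9892 D24411
theorem N14148 : nd 14148 = n24412 := ndS (p := 9892) (l := 5) rfl N9892 D24412
theorem N14149 : nd 14149 = n24413 := ndS (p := 9892) (l := 6) rfl N9892 D24413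
theorem N14150 : nd 14150 = n24414 := ndS (p := 9893) (l := 5) rfl N9893 D24414
theorem N14151 : nd 14151 = n24415 := ndS (p := 9893) (l := 6) rfl N9893 D24415
theorem N14152 : nd 14152 = n24416 := ndS (p := 9894) (l := 6) rfl N9894 D24416
theorem N14153 : nd 14153 = n24417 := ndS (p := 9896) (l := 4) rfl N9896 D24417
theorem N14154 : nd 14154 = n24418 := ndS (p := 9897) (l := 6) rfl N9897 D24418
theorem N14155 : nd 14155 = n24419 := ndS (p := 9900) (l := 3) rfl N9900 D24419
theorem N14156 : nd 14156 = n24420 := ndS (p := 9900) (l := 6) rfl N9900 D24420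
theorem N14157 : nd 14157 = n24421 := ndS (p := 9901) (l := 1) rfl N9901 D24421
theorem N14158 : nd 14158 = n24422 := ndS (p := 9902) (l := 6) rfl N9902 D24422
theorem N14159 : nd 14159 = n24423 := ndS (p := 9905) (l := 0) rfl N9905 D24423
theorem N14160 : nd 14160 = n24424 := ndS (p := 9905) (l := 2) rfl N9905 D24424
theorem N14161 : nd 14161 = n24425 := ndS (p := 9905) (l := 3) rfl N9905 D24425
theorem N14162 : nd 14162 = n24426 := ndS (p := 9905) (l := 5) rfl N9905 D24426
theorem N14163 : nd 14163 = n24427 := ndS (p := 9905) (l := 6) rfl N9905 D24427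
theorem N14164 : nd 14164 = n24428 := ndS (p := 9906) (l := 2) rfl N9906 D24428
theorem N14165 : nd 14165 = n24429 := ndS (p := 9906) (l := 4) rfl N9906 D24429
theorem N14166 : nd 14166 = n24430 := ndS (p := 9906) (l := 5) rfl N9906 D24430
theorem N14167 : nd 14167 = n24431 := ndS (p := 9908) (l := 3) rfl N9908 D24431
theorem N14168 : nd 14168 = n24432 := ndS (p := 9908) (l := 4) rfl N9908 D24432
theorem N14169 : nd 14169 = n24433 := ndS (p := 9908) (l := 6) rfl N9908 D24433
theorem N14170 : nd 14170 = n24434 := ndS (p := 9909) (l := 5) rfl N9909 D24434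
theorem N14171 : nd 14171 = n24435 := ndS (p := 9909) (l := 6) rfl N9909 D24435
theorem N14172 : nd 14172 = n24436 := ndS (p := 9910) (l := 6) rfl N9910 D24436
theorem N14173 : nd 14173 = n24437 := ndS (p := 9912) (l := 1) rfl N9912 D24437
theorem N14174 : nd 14174 = n24438 := ndS (p := 9913) (l := 4) rfl N9913 D24438
theorem N14175 : nd 14175 = n24439 := ndS (p := 9914) (l := 5) rfl N9914 D24439
theorem N14176 : nd 14176 = n24440 := ndS (p := 9917) (l := 3) rfl N9917 D24440
theorem N14177 : nd 14177 = n24441 := ndS (p := 9917) (l := 5) rfl N9917 D24441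
theorem N14178 : nd 14178 = n24442 := ndS (p := 9918) (l := 1) rfl N9918 D24442
theorem N14179 : nd 14179 = n24443 := ndS (p := 9920) (l := 5) rfl N9920 D24443
theorem N14180 : nd 14180 = n24444 := ndS (p := 9922) (l := 0) rfl N9922 D24444
theorem N14181 : nd 14181 = n24445 := ndS (p := 9922) (l := 2) rfl N9922 D24445
theorem N14182 : nd 14182 = n24446 := ndS (p := 9922) (l := 3) rfl N9922 D24446
theorem N14183 : nd 14183 = n24447 := ndS (p := 9922) (l := 5) rfl N9922 D24447
theorem N14184 : nd 14184 = n24448 := ndS (p := 9922) (l := 6) rfl N9922 D24448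
theorem N14185 : nd 14185 = n24449 := ndS (p := 9923) (l := 2) rfl N9923 D24449
theorem N14186 : nd 14186 = n24450 := ndS (p := 9923) (l := 4) rfl N9923 D24450
theorem N14187 : nd 14187 = n24451 := ndS (p := 9923) (l := 6) rfl N9923 D24451
theorem N14188 : nd 14188 = n24452 := ndS (p := 9925) (l := 3) rfl N9925 D24452
theorem N14189 : nd 14189 = n24453 := ndS (p := 9925) (l := 4) rfl N9925 D24453
theorem N14190 : nd 14190 = n24454 := ndS (p := 9925) (l := 5) rfl N9925 D24454
theorem N14191 : nd 14191 = n24455 := ndS (p := 9926) (l := 5) rfl N9926 D24455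
theorem N14192 : nd 14192 = n24456 := ndS (p := 9926) (l := 6) rfl N9926 D24456
theorem N14193 : nd 14193 = n24457 := ndS (p := 9928) (l := 5) rfl N9928 D24457
theorem N14194 : nd 14194 = n24458 := ndS (p := 9929) (l := 1) rfl N9929 D24458
theorem N14195 : nd 14195 = n24459 := ndS (p := 9930) (l := 3) rfl N9930 D24459
theorem N14196 : nd 14196 = n24460 := ndS (p := 9930) (l := 6) rfl N9930 D24460
theorem N14197 : nd 14197 = n24461 := ndS (p := 9932) (l := 3) rfl N9932 D24461
theorem N14198 : nd 14198 = n24462 := ndS (p := 9932) (l := 5) rfl N9932 D24462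
theorem N14199 : nd 14199 = n24463 := ndS (p := 9934) (l := 3) rfl N9934 D24463
theorem N14200 : nd 14200 = n24464 := ndS (p := 9934) (l := 6) rfl N9934 D24464
theorem N14201 : nd 14201 = n24465 := ndS (p := 9935) (l := 1) rfl N9935 D24465
theorem N14202 : nd 14202 = n24466 := ndS (p := 9936) (l := 2) rfl N9936 D24466
theorem N14203 : nd 14203 = n24467 := ndS (p := 9937) (l := 3) rfl N9937 D24467
theorem N14204 : nd 14204 = n24468 := ndS (p := 9937) (l := 5) rfl N9937 D24468
theorem N14205 : nd 14205 = n24469 := ndS (p := 9938) (l := 1) rfl N9938 D24469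
theorem N14206 : nd 14206 = n24470 := ndS (p := 9939) (l := 2) rfl N9939 D24470
theorem N14207 : nd 14207 = n24471 := ndS (p := 9941) (l := 3) rfl N9941 D24471
theorem N14208 : nd 14208 = n24472 := ndS (p := 9943) (l := 3) rfl N9943 D24472
theorem N14209 : nd 14209 = n24473 := ndS (p := 9947) (l := 2) rfl N9947 D24473
theorem N14210 : nd 14210 = n24474 := ndS (p := 9948) (l := 1) rfl N9948 D24474
theorem N14211 : nd 14211 = n24475 := ndS (p := 9949) (l := 2) rfl N9949 D24475
theorem N14212 : nd 14212 = n24476 := ndS (p := 9950) (l := 1) rfl N9950 D24476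
theorem N14213 : nd 14213 = n24477 := ndS (p := 9951) (l := 2) rfl N9951 D24477
theorem N14214 : nd 14214 = n24478 := ndS (p := 9951) (l := 6) rfl N9951 D24478
theorem N14215 : nd 14215 = n24479 := ndS (p := 9952) (l := 3) rfl N9952 D24479
theorem N14216 : nd 14216 = n24480 := ndS (p := 9952) (l := 6) rfl N9952 D24480
theorem N14217 : nd 14217 = n24481 := ndS (p := 9954) (l := 2) rfl N9954 D24481
theorem N14218 : nd 14218 = n24482 := ndS (p := 9954) (l := 5) rfl N9954 D24482
theorem N14219 : nd 14219 = n24483 := ndS (p := 9955) (l := 3) rfl N9955 D24483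
theorem N14220 : nd 14220 = n24484 := ndS (p := 9955) (l := 5) rfl N9955 D24484
theorem N14221 : nd 14221 = n24485 := ndS (p := 9958) (l := 3) rfl N9958 D24485
theorem N14222 : nd 14222 = n24486 := ndS (p := 9958) (l := 6) rfl N9958 D24486
theorem N14223 : nd 14223 = n24487 := ndS (p := 9960) (l := 4) rfl N9960 D24487
theorem N14224 : nd 14224 = n24488 := ndS (p := 9960) (l := 6) rfl N9960 D24488
theorem N14225 : nd 14225 = n24489 := ndS (p := 9961) (l := 1) rfl N9961 D24489
theorem N14226 : nd 14226 = n24490 := ndS (p := 9961) (l := 5) rfl N9961 D24490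
theorem N14227 : nd 14227 = n24491 := ndS (p := 9964) (l := 3) rfl N9964 D24491
theorem N14228 : nd 14228 = n24492 := ndS (p := 9964) (l := 5) rfl N9964 D24492
theorem N14229 : nd 14229 = n24493 := ndS (p := 9966) (l := 4) rfl N9966 D24493
theorem N14230 : nd 14230 = n24494 := ndS (p := 9966) (l := 5) rfl N9966 D24494
theorem N14231 : nd 14231 = n24495 := ndS (p := 9967) (l := 1) rfl N9967 D24495
theorem N14232 : nd 14232 = n24496 := ndS (p := 9967) (l := 6) rfl N9967 D24496
theorem N14233 : nd 14233 = n24497 := ndS (p := 9970) (l := 1) rfl N9970 D24497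
theorem N14234 : nd 14234 = n24498 := ndS (p := 9970) (l := 3) rfl N9970 D24498
theorem N14235 : nd 14235 = n24499 := ndS (p := 9972) (l := 1) rfl N9972 D24499
theorem N14236 : nd 14236 = n24500 := ndS (p := 9972) (l := 3) rfl N9972 D24500
theorem N14237 : nd 14237 = n24501 := ndS (p := 9974) (l := 2) rfl N9974 D24501
theorem N14238 : nd 14238 = n24502 := ndS (p := 9975) (l := 1) rfl N9975 D24502
theorem N14239 : nd 14239 = n24503 := ndS (p := 9975) (l := 2) rfl N9975 D24503
theorem N14240 : nd 14240 = n24504 := ndS (p := 9976) (l := 3) rfl N9976 D24504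
theorem N14241 : nd 14241 = n24505 := ndS (p := 9978) (l := 2) rfl N9978 D24505
theorem N14242 : nd 14242 = n24506 := ndS (p := 9979) (l := 1) rfl N9979 D24506
theorem N14243 : nd 14243 = n24507 := ndS (p := 9979) (l := 2) rfl N9979 D24507
theorem N14244 : nd 14244 = n24508 := ndS (p := 9980) (l := 3) rfl N9980 D24508
theorem N14245 : nd 14245 = n24509 := ndS (p := 9981) (l := 3) rfl N9981 D24509
theorem N14246 : nd 14246 = n24510 := ndS (p := 9981) (l := 5) rfl N9981 D24510
theorem N14247 : nd 14247 = n24511 := ndS (p := 9981) (l := 6) rfl N9981 D24511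
theorem N14248 : nd 14248 = n24512 := ndS (p := 9982) (l := 6) rfl N9982 D24512
theorem N14249 : nd 14249 = n24513 := ndS (p := 9983) (l := 5) rfl N9983 D24513
theorem N14250 : nd 14250 = n24514 := ndS (p := 9986) (l := 4) rfl N9986 D24514
theorem N14251 : nd 14251 = n24515 := ndS (p := 9986) (l := 6) rfl N9986 D24515
theorem N14252 : nd 14252 = n24516 := ndS (p := 9989) (l := 1) rfl N9989 D24516
theorem N14253 : nd 14253 = n24517 := ndS (p := 9989) (l := 2) rfl N9989 D24517
theorem N14254 : nd 14254 = n24518 := ndS (p := 9990) (l := 3) rfl N9990 D24518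
theorem N14255 : nd 14255 = n24519 := ndS (p := 9990) (l := 5) rfl N9990 D24519
theorem N14256 : nd 14256 = n24520 := ndS (p := 9992) (l := 2) rfl N9992 D24520
theorem N14257 : nd 14257 = n24521 := ndS (p := 9993) (l := 1) rfl N9993 D24521
theorem N14258 : nd 14258 = n24522 := ndS (p := 9993) (l := 3) rfl N9993 D24522
theorem N14259 : nd 14259 = n24523 := ndS (p := 9993) (l := 5) rfl N9993 D24523
theorem N14260 : nd 14260 = n24524 := ndS (p := 9995) (l := 2) rfl N9995 D24524
theorem N14261 : nd 14261 = n24525 := ndS (p := 9995) (l := 4) rfl N9995 D24525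
theorem N14262 : nd 14262 = n24526 := ndS (p := 9995) (l := 5) rfl N9995 D24526
theorem N14263 : nd 14263 = n24527 := ndS (p := 9996) (l := 1) rfl N9996 D24527
theorem N14264 : nd 14264 = n24528 := ndS (p := 9996) (l := 6) rfl N9996 D24528
theorem N14265 : nd 14265 = n24529 := ndS (p := 9998) (l := 3) rfl N9998 D24529
theorem N14266 : nd 14266 = n24530 := ndS (p := 9998) (l := 5) rfl N9998 D24530
theorem N14267 : nd 14267 = n24531 := ndS (p := 9998) (l := 6) rfl N9998 D24531
theorem N14268 : nd 14268 = n24532 := ndS (p := 9999) (l := 6) rfl N9999 D24532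
theorem N14269 : nd 14269 = n24533 := ndS (p := 10000) (l := 5) rfl N10000 D24533
theorem N14270 : nd 14270 = n24534 := ndS (p := 10003) (l := 4) rfl N10003 D24534
theorem N14271 : nd 14271 = n24535 := ndS (p := 10003) (l := 5) rfl N10003 D24535
theorem N14272 : nd 14272 = n24536 := ndS (p := 10006) (l := 1) rfl N10006 D24536
theorem N14273 : nd 14273 = n24537 := ndS (p := 10006) (l := 2) rfl N10006 D24537
theorem N14274 : nd 14274 = n24538 := ndS (p := 10007) (l := 3) rfl N10007 D24538
theorem N14275 : nd 14275 = n24539 := ndS (p := 10007) (l := 6) rfl N10007 D24539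
theorem N14276 : nd 14276 = n24540 := ndS (p := 10009) (l := 2) rfl N10009 D24540
theorem N14277 : nd 14277 = n24541 := ndS (p := 10010) (l := 1) rfl N10010 D24541
theorem N14278 : nd 14278 = n24542 := ndS (p := 10010) (l := 3) rfl N10010 D24542
theorem N14279 : nd 14279 = n24543 := ndS (p := 10010) (l := 6) rfl N10010 D24543
theorem N14280 : nd 14280 = n24544 := ndS (p := 10012) (l := 2) rfl N10012 D24544
theorem N14281 : nd 14281 = n24545 := ndS (p := 10012) (l := 4) rfl N10012 D24545
theorem N14282 : nd 14282 = n24546 := ndS (p := 10012) (l := 6) rfl N10012 D24546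
theorem N14283 : nd 14283 = n24547 := ndS (p := 10013) (l := 1) rfl N10013 D24547
theorem N14284 : nd 14284 = n24548 := ndS (p := 10013) (l := 5) rfl N10013 D24548
theorem N14285 : nd 14285 = n24549 := ndS (p := 10015) (l := 3) rfl N10015 D24549
theorem N14286 : nd 14286 = n24550 := ndS (p := 10016) (l := 3) rfl N10016 D24550
theorem N14287 : nd 14287 = n24551 := ndS (p := 10016) (l := 6) rfl N10016 D24551
theorem N14288 : nd 14288 = n24552 := ndS (p := 10017) (l := 2) rfl N10017 D24552
theorem N14289 : nd 14289 = n24553 := ndS (p := 10017) (l := 4) rfl N10017 D24553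
theorem N14290 : nd 14290 = n24554 := ndS (p := 10017) (l := 5) rfl N10017 D24554
theorem N14291 : nd 14291 = n24555 := ndS (p := 10017) (l := 6) rfl N10017 D24555
theorem N14292 : nd 14292 = n24556 := ndS (p := 10018) (l := 6) rfl N10018 D24556
theorem N14293 : nd 14293 = n24557 := ndS (p := 10019) (l := 1) rfl N10019 D24557
theorem N14294 : nd 14294 = n24558 := ndS (p := 10019) (l := 5) rfl N10019 D24558
theorem N14295 : nd 14295 = n24559 := ndS (p := 10022) (l := 3) rfl N10022 D24559
theorem N14296 : nd 14296 = n24560 := ndS (p := 10022) (l := 6) rfl N10022 D24560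
theorem N14297 : nd 14297 = n24561 := ndS (p := 10023) (l := 2) rfl N10023 D24561
theorem N14298 : nd 14298 = n24562 := ndS (p := 10023) (l := 4) rfl N10023 D24562
theorem N14299 : nd 14299 = n24563 := ndS (p := 10023) (l := 5) rfl N10023 D24563
theorem N14300 : nd 14300 = n24564 := ndS (p := 10023) (l := 6) rfl N10023 D24564
theorem N14301 : nd 14301 = n24565 := ndS (p := 10024) (l := 6) rfl N10024 D24565
theorem N14302 : nd 14302 = n24566 := ndS (p := 10026) (l := 1) rfl N10026 D24566
theorem N14303 : nd 14303 = n24567 := ndS (p := 10026) (l := 4) rfl N10026 D24567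
theorem N14304 : nd 14304 = n24568 := ndS (p := 10028) (l := 0) rfl N10028 D24568
theorem N14305 : nd 14305 = n24569 := ndS (p := 10028) (l := 3) rfl N10028 D24569
theorem N14306 : nd 14306 = n24570 := ndS (p := 10028) (l := 4) rfl N10028 D24570
theorem N14307 : nd 14307 = n24571 := ndS (p := 10028) (l := 6) rfl N10028 D24571
theorem N14308 : nd 14308 = n24572 := ndS (p := 10029) (l := 6) rfl N10029 D24572
theorem N14309 : nd 14309 = n24573 := ndS (p := 10030) (l := 3) rfl N10030 D24573
theorem N14310 : nd 14310 = n24574 := ndS (p := 10030) (l := 6) rfl N10030 D24574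
theorem N14311 : nd 14311 = n24575 := ndS (p := 10031) (l := 1) rfl N10031 D24575
theorem N14312 : nd 14312 = n24576 := ndS (p := 10032) (l := 1) rfl N10032 D24576
theorem N14313 : nd 14313 = n24577 := ndS (p := 10033) (l := 0) rfl N10033 D24577
theorem N14314 : nd 14314 = n24578 := ndS (p := 10033) (l := 2) rfl N10033 D24578
theorem N14315 : nd 14315 = n24579 := ndS (p := 10033) (l := 5) rfl N10033 D24579
theorem N14316 : nd 14316 = n24580 := ndS (p := 10034) (l := 1) rfl N10034 D24580
theorem N14317 : nd 14317 = n24581 := ndS (p := 10034) (l := 2) rfl N10034 D24581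
theorem N14318 : nd 14318 = n24582 := ndS (p := 10034) (l := 5) rfl N10034 D24582
theorem N14319 : nd 14319 = n24583 := ndS (p := 10035) (l := 5) rfl N10035 D24583
theorem N14320 : nd 14320 = n24584 := ndS (p := 10036) (l := 6) rfl N10036 D24584
theorem N14321 : nd 14321 = n24585 := ndS (p := 10037) (l := 2) rfl N10037 D24585
theorem N14322 : nd 14322 = n24586 := ndS (p := 10038) (l := 1) rfl N10038 D24586
theorem N14323 : nd 14323 = n24587 := ndS (p := 10038) (l := 3) rfl N10038 D24587
theorem N14324 : nd 14324 = n24588 := ndS (p := 10039) (l := 2) rfl N10039 D24588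
theorem N14325 : nd 14325 = n24589 := ndS (p := 10039) (l := 5) rfl N10039 D24589
theorem N14326 : nd 14326 = n24590 := ndS (p := 10040) (l := 1) rfl N10040 D24590
theorem N14327 : nd 14327 = n24591 := ndS (p := 10041) (l := 1) rfl N10041 D24591
theorem N14328 : nd 14328 = n24592 := ndS (p := 10041) (l := 3) rfl N10041 D24592
theorem N14329 : nd 14329 = n24593 := ndS (p := 10042) (l := 0) rfl N10042 D24593
theorem N14330 : nd 14330 = n24594 := ndS (p := 10042) (l := 5) rfl N10042 D24594
theorem N14331 : nd 14331 = n24595 := ndS (p := 10042) (l := 6) rfl N10042 D24595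
theorem N14332 : nd 14332 = n24596 := ndS (p := 10043) (l := 2) rfl N10043 D24596
theorem N14333 : nd 14333 = n24597 := ndS (p := 10043) (l := 5) rfl N10043 D24597
theorem N14334 : nd 14334 = n24598 := ndS (p := 10044) (l := 1) rfl N10044 D24598
theorem N14335 : nd 14335 = n24599 := ndS (p := 10045) (l := 3) rfl N10045 D24599
theorem N14336 : nd 14336 = n24600 := ndS (p := 10045) (l := 5) rfl N10045 D24600
theorem N14337 : nd 14337 = n24601 := ndS (p := 10046) (l := 5) rfl N10046 D24601
theorem N14338 : nd 14338 = n24602 := ndS (p := 10047) (l := 6) rfl N10047 D24602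
theorem N14339 : nd 14339 = n24603 := ndS (p := 10048) (l := 1) rfl N10048 D24603
theorem N14340 : nd 14340 = n24604 := ndS (p := 10049) (l := 3) rfl N10049 D24604
theorem N14341 : nd 14341 = n24605 := ndS (p := 10050) (l := 3) rfl N10050 D24605
theorem N14342 : nd 14342 = n24606 := ndS (p := 10050) (l := 5) rfl N10050 D24606
theorem N14343 : nd 14343 = n24607 := ndS (p := 10051) (l := 2) rfl N10051 D24607
theorem N14344 : nd 14344 = n24608 := ndS (p := 10051) (l := 4) rfl N10051 D24608
theorem N14345 : nd 14345 = n24609 := ndS (p := 10051) (l := 5) rfl N10051 D24609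
theorem N14346 : nd 14346 = n24610 := ndS (p := 10051) (l := 6) rfl N10051 D24610
theorem N14347 : nd 14347 = n24611 := ndS (p := 10052) (l := 1) rfl N10052 D24611
theorem N14348 : nd 14348 = n24612 := ndS (p := 10052) (l := 6) rfl N10052 D24612
theorem N14349 : nd 14349 = n24613 := ndS (p := 10053) (l := 5) rfl N10053 D24613
theorem N14350 : nd 14350 = n24614 := ndS (p := 10056) (l := 3) rfl N10056 D24614
theorem N14351 : nd 14351 = n24615 := ndS (p := 10056) (l := 5) rfl N10056 D24615
theorem N14352 : nd 14352 = n24616 := ndS (p := 10057) (l := 2) rfl N10057 D24616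
theorem N14353 : nd 14353 = n24617 := ndS (p := 10057) (l := 4) rfl N10057 D24617
theorem N14354 : nd 14354 = n24618 := ndS (p := 10057) (l := 5) rfl N10057 D24618
theorem N14355 : nd 14355 = n24619 := ndS (p := 10057) (l := 6) rfl N10057 D24619
theorem N14356 : nd 14356 = n24620 := ndS (p := 10059) (l := 5) rfl N10059 D24620
theorem N14357 : nd 14357 = n24621 := ndS (p := 10060) (l := 1) rfl N10060 D24621
theorem N14358 : nd 14358 = n24622 := ndS (p := 10060) (l := 4) rfl N10060 D24622
theorem N14359 : nd 14359 = n24623 := ndS (p := 10062) (l := 0) rfl N10062 D24623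
theorem N14360 : nd 14360 = n24624 := ndS (p := 10062) (l := 3) rfl N10062 D24624
theorem N14361 : nd 14361 = n24625 := ndS (p := 10062) (l := 4) rfl N10062 D24625
theorem N14362 : nd 14362 = n24626 := ndS (p := 10062) (l := 5) rfl N10062 D24626
theorem N14363 : nd 14363 = n24627 := ndS (p := 10063) (l := 5) rfl N10063 D24627
theorem N14364 : nd 14364 = n24628 := ndS (p := 10064) (l := 3) rfl N10064 D24628
theorem N14365 : nd 14365 = n24629 := ndS (p := 10064) (l := 5) rfl N10064 D24629
theorem N14366 : nd 14366 = n24630 := ndS (p := 10065) (l := 1) rfl N10065 D24630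
theorem N14367 : nd 14367 = n24631 := ndS (p := 10066) (l := 1) rfl N10066 D24631
theorem N14368 : nd 14368 = n24632 := ndS (p := 10067) (l := 0) rfl N10067 D24632
theorem N14369 : nd 14369 = n24633 := ndS (p := 10067) (l := 2) rfl N10067 D24633
theorem N14370 : nd 14370 = n24634 := ndS (p := 10067) (l := 6) rfl N10067 D24634
theorem N14371 : nd 14371 = n24635 := ndS (p := 10068) (l := 1) rfl N10068 D24635
theorem N14372 : nd 14372 = n24636 := ndS (p := 10068) (l := 2) rfl N10068 D24636
theorem N14373 : nd 14373 = n24637 := ndS (p := 10068) (l := 6) rfl N10068 D24637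
theorem N14374 : nd 14374 = n24638 := ndS (p := 10069) (l := 6) rfl N10069 D24638
theorem N14375 : nd 14375 = n24639 := ndS (p := 10070) (l := 5) rfl N10070 D24639
theorem N14376 : nd 14376 = n24640 := ndS (p := 10071) (l := 2) rfl N10071 D24640
theorem N14377 : nd 14377 = n24641 := ndS (p := 10072) (l := 1) rfl N10072 D24641
theorem N14378 : nd 14378 = n24642 := ndS (p := 10072) (l := 3) rfl N10072 D24642
theorem N14379 : nd 14379 = n24643 := ndS (p := 10073) (l := 2) rfl N10073 D24643
theorem N14380 : nd 14380 = n24644 := ndS (p := 10073) (l := 6) rfl N10073 D24644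
theorem N14381 : nd 14381 = n24645 := ndS (p := 10074) (l := 1) rfl N10074 D24645
theorem N14382 : nd 14382 = n24646 := ndS (p := 10075) (l := 1) rfl N10075 D24646
theorem N14383 : nd 14383 = n24647 := ndS (p := 10075) (l := 3) rfl N10075 D24647
theorem N14384 : nd 14384 = n24648 := ndS (p := 10076) (l := 0) rfl N10076 D24648
theorem N14385 : nd 14385 = n24649 := ndS (p := 10076) (l := 5) rfl N10076 D24649
theorem N14386 : nd 14386 = n24650 := ndS (p := 10076) (l := 6) rfl N10076 D24650
theorem N14387 : nd 14387 = n24651 := ndS (p := 10077) (l := 2) rfl N10077 D24651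
theorem N14388 : nd 14388 = n24652 := ndS (p := 10077) (l := 6) rfl N10077 D24652
theorem N14389 : nd 14389 = n24653 := ndS (p := 10078) (l := 1) rfl N10078 D24653
theorem N14390 : nd 14390 = n24654 := ndS (p := 10079) (l := 3) rfl N10079 D24654
theorem N14391 : nd 14391 = n24655 := ndS (p := 10079) (l := 6) rfl N10079 D24655
theorem N14392 : nd 14392 = n24656 := ndS (p := 10080) (l := 6) rfl N10080 D24656
theorem N14393 : nd 14393 = n24657 := ndS (p := 10081) (l := 5) rfl N10081 D24657
theorem N14394 : nd 14394 = n24658 := ndS (p := 10082) (l := 1) rfl N10082 D24658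
theorem N14395 : nd 14395 = n24659 := ndS (p := 10084) (l := 2) rfl N10084 D24659
theorem N14396 : nd 14396 = n24660 := ndS (p := 10087) (l := 0) rfl N10087 D24660
theorem N14397 : nd 14397 = n24661 := ndS (p := 10087) (l := 2) rfl N10087 D24661
theorem N14398 : nd 14398 = n24662 := ndS (p := 10088) (l := 2) rfl N10088 D24662
theorem N14399 : nd 14399 = n24663 := ndS (p := 10089) (l := 3) rfl N10089 D24663
theorem N14400 : nd 14400 = n24664 := ndS (p := 10089) (l := 5) rfl N10089 D24664
theorem N14401 : nd 14401 = n24665 := ndS (p := 10091) (l := 0) rfl N10091 D24665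
theorem N14402 : nd 14402 = n24666 := ndS (p := 10091) (l := 4) rfl N10091 D24666
theorem N14403 : nd 14403 = n24667 := ndS (p := 10091) (l := 5) rfl N10091 D24667
theorem N14404 : nd 14404 = n24668 := ndS (p := 10091) (l := 6) rfl N10091 D24668
theorem N14405 : nd 14405 = n24669 := ndS (p := 10092) (l := 3) rfl N10092 D24669
theorem N14406 : nd 14406 = n24670 := ndS (p := 10092) (l := 6) rfl N10092 D24670
theorem N14407 : nd 14407 = n24671 := ndS (p := 10093) (l := 1) rfl N10093 D24671
theorem N14408 : nd 14408 = n24672 := ndS (p := 10094) (l := 1) rfl N10094 D24672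
theorem N14409 : nd 14409 = n24673 := ndS (p := 10095) (l := 2) rfl N10095 D24673
theorem N14410 : nd 14410 = n24674 := ndS (p := 10095) (l := 5) rfl N10095 D24674
theorem N14411 : nd 14411 = n24675 := ndS (p := 10096) (l := 1) rfl N10096 D24675
theorem N14412 : nd 14412 = n24676 := ndS (p := 10097) (l := 1) rfl N10097 D24676
theorem N14413 : nd 14413 = n24677 := ndS (p := 10098) (l := 0) rfl N10098 D24677
theorem N14414 : nd 14414 = n24678 := ndS (p := 10098) (l := 2) rfl N10098 D24678
theorem N14415 : nd 14415 = n24679 := ndS (p := 10100) (l := 6) rfl N10100 D24679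
theorem N14416 : nd 14416 = n24680 := ndS (p := 10101) (l := 5) rfl N10101 D24680
theorem N14417 : nd 14417 = n24681 := ndS (p := 10102) (l := 2) rfl N10102 D24681
theorem N14418 : nd 14418 = n24682 := ndS (p := 10106) (l := 0) rfl N10106 D24682
theorem N14419 : nd 14419 = n24683 := ndS (p := 10106) (l := 2) rfl N10106 D24683
theorem N14420 : nd 14420 = n24684 := ndS (p := 10107) (l := 2) rfl N10107 D24684
theorem N14421 : nd 14421 = n24685 := ndS (p := 10108) (l := 3) rfl N10108 D24685
theorem N14422 : nd 14422 = n24686 := ndS (p := 10108) (l := 6) rfl N10108 D24686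
theorem N14423 : nd 14423 = n24687 := ndS (p := 10110) (l := 0) rfl N10110 D24687
theorem N14424 : nd 14424 = n24688 := ndS (p := 10110) (l := 4) rfl N10110 D24688
theorem N14425 : nd 14425 = n24689 := ndS (p := 10110) (l := 5) rfl N10110 D24689
theorem N14426 : nd 14426 = n24690 := ndS (p := 10110) (l := 6) rfl N10110 D24690
theorem N14427 : nd 14427 = n24691 := ndS (p := 10111) (l := 3) rfl N10111 D24691
theorem N14428 : nd 14428 = n24692 := ndS (p := 10111) (l := 5) rfl N10111 D24692
theorem N14429 : nd 14429 = n24693 := ndS (p := 10112) (l := 1) rfl N10112 D24693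
theorem N14430 : nd 14430 = n24694 := ndS (p := 10113) (l := 1) rfl N10113 D24694
theorem N14431 : nd 14431 = n24695 := ndS (p := 10114) (l := 2) rfl N10114 D24695
theorem N14432 : nd 14432 = n24696 := ndS (p := 10114) (l := 6) rfl N10114 D24696
theorem N14433 : nd 14433 = n24697 := ndS (p := 10115) (l := 1) rfl N10115 D24697
theorem N14434 : nd 14434 = n24698 := ndS (p := 10116) (l := 1) rfl N10116 D24698
theorem N14435 : nd 14435 = n24699 := ndS (p := 10117) (l := 0) rfl N10117 D24699
theorem N14436 : nd 14436 = n24700 := ndS (p := 10117) (l := 2) rfl N10117 D24700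
theorem N14437 : nd 14437 = n24701 := ndS (p := 10119) (l := 5) rfl N10119 D24701
theorem N14438 : nd 14438 = n24702 := ndS (p := 10120) (l := 6) rfl N10120 D24702
theorem N14439 : nd 14439 = n24703 := ndS (p := 10123) (l := 1) rfl N10123 D24703
theorem N14440 : nd 14440 = n24704 := ndS (p := 10124) (l := 5) rfl N10124 D24704
theorem N14441 : nd 14441 = n24705 := ndS (p := 10125) (l := 0) rfl N10125 D24705
theorem N14442 : nd 14442 = n24706 := ndS (p := 10125) (l := 4) rfl N10125 D24706
theorem N14443 : nd 14443 = n24707 := ndS (p := 10125) (l := 5) rfl N10125 D24707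
theorem N14444 : nd 14444 = n24708 := ndS (p := 10125) (l := 6) rfl N10125 D24708
theorem N14445 : nd 14445 = n24709 := ndS (p := 10126) (l := 3) rfl N10126 D24709
theorem N14446 : nd 14446 = n24710 := ndS (p := 10126) (l := 6) rfl N10126 D24710
theorem N14447 : nd 14447 = n24711 := ndS (p := 10127) (l := 1) rfl N10127 D24711
theorem N14448 : nd 14448 = n24712 := ndS (p := 10128) (l := 1) rfl N10128 D24712
theorem N14449 : nd 14449 = n24713 := ndS (p := 10129) (l := 0) rfl N10129 D24713
theorem N14450 : nd 14450 = n24714 := ndS (p := 10129) (l := 2) rfl N10129 D24714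
theorem N14451 : nd 14451 = n24715 := ndS (p := 10129) (l := 5) rfl N10129 D24715
theorem N14452 : nd 14452 = n24716 := ndS (p := 10130) (l := 1) rfl N10130 D24716
theorem N14453 : nd 14453 = n24717 := ndS (p := 10130) (l := 5) rfl N10130 D24717
theorem N14454 : nd 14454 = n24718 := ndS (p := 10133) (l := 2) rfl N10133 D24718
theorem N14455 : nd 14455 = n24719 := ndS (p := 10134) (l := 3) rfl N10134 D24719
theorem N14456 : nd 14456 = n24720 := ndS (p := 10134) (l := 6) rfl N10134 D24720
theorem N14457 : nd 14457 = n24721 := ndS (p := 10135) (l := 1) rfl N10135 D24721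
theorem N14458 : nd 14458 = n24722 := ndS (p := 10136) (l := 2) rfl N10136 D24722
theorem N14459 : nd 14459 = n24723 := ndS (p := 10136) (l := 6) rfl N10136 D24723
theorem N14460 : nd 14460 = n24724 := ndS (p := 10137) (l := 1) rfl N10137 D24724
theorem N14461 : nd 14461 = n24725 := ndS (p := 10137) (l := 5) rfl N10137 D24725
theorem N14462 : nd 14462 = n24726 := ndS (p := 10138) (l := 0) rfl N10138 D24726
theorem N14463 : nd 14463 = n24727 := ndS (p := 10138) (l := 2) rfl N10138 D24727
theorem N14464 : nd 14464 = n24728 := ndS (p := 10138) (l := 5) rfl N10138 D24728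
theorem N14465 : nd 14465 = n24729 := ndS (p := 10140) (l := 0) rfl N10140 D24729
theorem N14466 : nd 14466 = n24730 := ndS (p := 10140) (l := 2) rfl N10140 D24730
theorem N14467 : nd 14467 = n24731 := ndS (p := 10141) (l := 1) rfl N10141 D24731
theorem N14468 : nd 14468 = n24732 := ndS (p := 10142) (l := 1) rfl N10142 D24732
theorem N14469 : nd 14469 = n24733 := ndS (p := 10142) (l := 2) rfl N10142 D24733
theorem N14470 : nd 14470 = n24734 := ndS (p := 10143) (l := 3) rfl N10143 D24734
theorem N14471 : nd 14471 = n24735 := ndS (p := 10143) (l := 5) rfl N10143 D24735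
theorem N14472 : nd 14472 = n24736 := ndS (p := 10144) (l := 1) rfl N10144 D24736
theorem N14473 : nd 14473 = n24737 := ndS (p := 10145) (l := 0) rfl N10145 D24737
theorem N14474 : nd 14474 = n24738 := ndS (p := 10145) (l := 2) rfl N10145 D24738
theorem N14475 : nd 14475 = n24739 := ndS (p := 10145) (l := 6) rfl N10145 D24739
theorem N14476 : nd 14476 = n24740 := ndS (p := 10146) (l := 0) rfl N10146 D24740
theorem N14477 : nd 14477 = n24741 := ndS (p := 10146) (l := 5) rfl N10146 D24741
theorem N14478 : nd 14478 = n24742 := ndS (p := 10147) (l := 0) rfl N10147 D24742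
theorem N14479 : nd 14479 = n24743 := ndS (p := 10147) (l := 2) rfl N10147 D24743
theorem N14480 : nd 14480 = n24744 := ndS (p := 10147) (l := 6) rfl N10147 D24744
theorem N14481 : nd 14481 = n24745 := ndS (p := 10148) (l := 1) rfl N10148 D24745
theorem N14482 : nd 14482 = n24746 := ndS (p := 10148) (l := 2) rfl N10148 D24746
theorem N14483 : nd 14483 = n24747 := ndS (p := 10148) (l := 6) rfl N10148 D24747
theorem N14484 : nd 14484 = n24748 := ndS (p := 10149) (l := 6) rfl N10149 D24748
theorem N14485 : nd 14485 = n24749 := ndS (p := 10150) (l := 5) rfl N10150 D24749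
theorem N14486 : nd 14486 = n24750 := ndS (p := 10151) (l := 1) rfl N10151 D24750
theorem N14487 : nd 14487 = n24751 := ndS (p := 10152) (l := 1) rfl N10152 D24751
theorem N14488 : nd 14488 = n24752 := ndS (p := 10155) (l := 1) rfl N10155 D24752
theorem N14489 : nd 14489 = n24753 := ndS (p := 10157) (l := 6) rfl N10157 D24753
theorem N14490 : nd 14490 = n24754 := ndS (p := 10158) (l := 0) rfl N10158 D24754
theorem N14491 : nd 14491 = n24755 := ndS (p := 10158) (l := 4) rfl N10158 D24755
theorem N14492 : nd 14492 = n24756 := ndS (p := 10158) (l := 5) rfl N10158 D24756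
theorem N14493 : nd 14493 = n24757 := ndS (p := 10158) (l := 6) rfl N10158 D24757
theorem N14494 : nd 14494 = n24758 := ndS (p := 10159) (l := 3) rfl N10159 D24758
theorem N14495 : nd 14495 = n24759 := ndS (p := 10159) (l := 5) rfl N10159 D24759
theorem N14496 : nd 14496 = n24760 := ndS (p := 10160) (l := 1) rfl N10160 D24760
theorem N14497 : nd 14497 = n24761 := ndS (p := 10161) (l := 1) rfl N10161 D24761
theorem N14498 : nd 14498 = n24762 := ndS (p := 10162) (l := 0) rfl N10162 D24762
theorem N14499 : nd 14499 = n24763 := ndS (p := 10162) (l := 2) rfl N10162 D24763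
theorem N14500 : nd 14500 = n24764 := ndS (p := 10162) (l := 6) rfl N10162 D24764
theorem N14501 : nd 14501 = n24765 := ndS (p := 10163) (l := 1) rfl N10163 D24765
theorem N14502 : nd 14502 = n24766 := ndS (p := 10163) (l := 6) rfl N10163 D24766
theorem N14503 : nd 14503 = n24767 := ndS (p := 10166) (l := 2) rfl N10166 D24767
theorem N14504 : nd 14504 = n24768 := ndS (p := 10167) (l := 3) rfl N10167 D24768
theorem N14505 : nd 14505 = n24769 := ndS (p := 10167) (l := 5) rfl N10167 D24769
theorem N14506 : nd 14506 = n24770 := ndS (p := 10168) (l := 1) rfl N10168 D24770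
theorem N14507 : nd 14507 = n24771 := ndS (p := 10169) (l := 2) rfl N10169 D24771
theorem N14508 : nd 14508 = n24772 := ndS (p := 10169) (l := 5) rfl N10169 D24772
theorem N14509 : nd 14509 = n24773 := ndS (p := 10170) (l := 1) rfl N10170 D24773
theorem N14510 : nd 14510 = n24774 := ndS (p := 10170) (l := 6) rfl N10170 D24774
theorem N14511 : nd 14511 = n24775 := ndS (p := 10171) (l := 0) rfl N10171 D24775
theorem N14512 : nd 14512 = n24776 := ndS (p := 10171) (l := 2) rfl N10171 D24776
theorem N14513 : nd 14513 = n24777 := ndS (p := 10171) (l := 6) rfl N10171 D24777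
theorem N14514 : nd 14514 = n24778 := ndS (p := 10173) (l := 0) rfl N10173 D24778
theorem N14515 : nd 14515 = n24779 := ndS (p := 10173) (l := 2) rfl N10173 D24779
theorem N14516 : nd 14516 = n24780 := ndS (p := 10174) (l := 1) rfl N10174 D24780
theorem N14517 : nd 14517 = n24781 := ndS (p := 10175) (l := 1) rfl N10175 D24781
theorem N14518 : nd 14518 = n24782 := ndS (p := 10175) (l := 2) rfl N10175 D24782
theorem N14519 : nd 14519 = n24783 := ndS (p := 10176) (l := 3) rfl N10176 D24783
theorem N14520 : nd 14520 = n24784 := ndS (p := 10176) (l := 6) rfl N10176 D24784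
theorem N14521 : nd 14521 = n24785 := ndS (p := 10177) (l := 1) rfl N10177 D24785
theorem N14522 : nd 14522 = n24786 := ndS (p := 10178) (l := 0) rfl N10178 D24786
theorem N14523 : nd 14523 = n24787 := ndS (p := 10178) (l := 2) rfl N10178 D24787
theorem N14524 : nd 14524 = n24788 := ndS (p := 10178) (l := 5) rfl N10178 D24788
theorem N14525 : nd 14525 = n24789 := ndS (p := 10179) (l := 0) rfl N10179 D24789
theorem N14526 : nd 14526 = n24790 := ndS (p := 10179) (l := 6) rfl N10179 D24790
theorem N14527 : nd 14527 = n24791 := ndS (p := 10180) (l := 0) rfl N10180 D24791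
theorem N14528 : nd 14528 = n24792 := ndS (p := 10180) (l := 2) rfl N10180 D24792
theorem N14529 : nd 14529 = n24793 := ndS (p := 10180) (l := 5) rfl N10180 D24793
theorem N14530 : nd 14530 = n24794 := ndS (p := 10181) (l := 1) rfl N10181 D24794
theorem N14531 : nd 14531 = n24795 := ndS (p := 10181) (l := 2) rfl N10181 D24795
theorem N14532 : nd 14532 = n24796 := ndS (p := 10181) (l := 5) rfl N10181 D24796
theorem N14533 : nd 14533 = n24797 := ndS (p := 10182) (l := 5) rfl N10182 D24797
theorem N14534 : nd 14534 = n24798 := ndS (p := 10183) (l := 6) rfl N10183 D24798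
theorem N14535 : nd 14535 = n24799 := ndS (p := 10184) (l := 1) rfl N10184 D24799
theorem N14536 : nd 14536 = n24800 := ndS (p := 10185) (l := 1) rfl N10185 D24800
theorem N14537 : nd 14537 = n24801 := ndS (p := 10187) (l := 6) rfl N10187 D24801
theorem N14538 : nd 14538 = n24802 := ndS (p := 10188) (l := 1) rfl N10188 D24802
theorem N14539 : nd 14539 = n24803 := ndS (p := 10189) (l := 1) rfl N10189 D24803
theorem N14540 : nd 14540 = n24804 := ndS (p := 10189) (l := 3) rfl N10189 D24804
theorem N14541 : nd 14541 = n24805 := ndS (p := 10189) (l := 4) rfl N10189 D24805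
theorem N14542 : nd 14542 = n24806 := ndS (p := 10189) (l := 5) rfl N10189 D24806
theorem N14543 : nd 14543 = n24807 := ndS (p := 10189) (l := 6) rfl N10189 D24807
theorem N14544 : nd 14544 = n24808 := ndS (p := 10190) (l := 5) rfl N10190 D24808
theorem N14545 : nd 14545 = n24809 := ndS (p := 10190) (l := 6) rfl N10190 D24809
theorem N14546 : nd 14546 = n24810 := ndS (p := 10192) (l := 1) rfl N10192 D24810
theorem N14547 : nd 14547 = n24811 := ndS (p := 10193) (l := 6) rfl N10193 D24811
theorem N14548 : nd 14548 = n24812 := ndS (p := 10194) (l := 0) rfl N10194 D24812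
theorem N14549 : nd 14549 = n24813 := ndS (p := 10195) (l := 4) rfl N10195 D24813
theorem N14550 : nd 14550 = n24815 := ndS (p := 10195) (l := 6) rfl N10195 D24815
theorem N14551 : nd 14551 = n24816 := ndS (p := 10196) (l := 3) rfl N10196 D24816
theorem N14552 : nd 14552 = n24817 := ndS (p := 10196) (l := 6) rfl N10196 D24817
theorem N14553 : nd 14553 = n24818 := ndS (p := 10197) (l := 6) rfl N10197 D24818
theorem N14554 : nd 14554 = n24819 := ndS (p := 10198) (l := 1) rfl N10198 D24819
theorem N14555 : nd 14555 = n24820 := ndS (p := 10198) (l := 5) rfl N10198 D24820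
theorem N14556 : nd 14556 = n24821 := ndS (p := 10199) (l := 6) rfl N10199 D24821
theorem N14557 : nd 14557 = n24822 := ndS (p := 10200) (l := 5) rfl N10200 D24822
theorem N14558 : nd 14558 = n24823 := ndS (p := 10201) (l := 1) rfl N10201 D24823
theorem N14559 : nd 14559 = n24824 := ndS (p := 10202) (l := 1) rfl N10202 D24824
theorem N14560 : nd 14560 = n24825 := ndS (p := 10203) (l := 0) rfl N10203 D24825
theorem N14561 : nd 14561 = n24826 := ndS (p := 10204) (l := 1) rfl N10204 D24826
theorem N14562 : nd 14562 = n24827 := ndS (p := 10206) (l := 0) rfl N10206 D24827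
theorem N14563 : nd 14563 = n24828 := ndS (p := 10206) (l := 6) rfl N10206 D24828
theorem N14564 : nd 14564 = n24829 := ndS (p := 10207) (l := 5) rfl N10207 D24829
theorem N14565 : nd 14565 = n24830 := ndS (p := 10207) (l := 6) rfl N10207 D24830
theorem N14566 : nd 14566 = n24831 := ndS (p := 10209) (l := 1) rfl N10209 D24831
theorem N14567 : nd 14567 = n24832 := ndS (p := 10210) (l := 1) rfl N10210 D24832
theorem N14568 : nd 14568 = n24833 := ndS (p := 10210) (l := 2) rfl N10210 D24833
theorem N14569 : nd 14569 = n24834 := ndS (p := 10211) (l := 3) rfl N10211 D24834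
theorem N14570 : nd 14570 = n24835 := ndS (p := 10211) (l := 5) rfl N10211 D24835
theorem N14571 : nd 14571 = n24836 := ndS (p := 10212) (l := 6) rfl N10212 D24836
theorem N14572 : nd 14572 = n24837 := ndS (p := 10213) (l := 2) rfl N10213 D24837
theorem N14573 : nd 14573 = n24838 := ndS (p := 10213) (l := 5) rfl N10213 D24838
theorem N14574 : nd 14574 = n24839 := ndS (p := 10213) (l := 6) rfl N10213 D24839
theorem N14575 : nd 14575 = n24840 := ndS (p := 10214) (l := 1) rfl N10214 D24840
theorem N14576 : nd 14576 = n24841 := ndS (p := 10214) (l := 3) rfl N10214 D24841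
theorem N14577 : nd 14577 = n24842 := ndS (p := 10214) (l := 5) rfl N10214 D24842
theorem N14578 : nd 14578 = n24843 := ndS (p := 10216) (l := 2) rfl N10216 D24843
theorem N14579 : nd 14579 = n24844 := ndS (p := 10216) (l := 4) rfl N10216 D24844
theorem N14580 : nd 14580 = n24845 := ndS (p := 10216) (l := 5) rfl N10216 D24845
theorem N14581 : nd 14581 = n24846 := ndS (p := 10217) (l := 1) rfl N10217 D24846
theorem N14582 : nd 14582 = n24847 := ndS (p := 10217) (l := 6) rfl N10217 D24847
theorem N14583 : nd 14583 = n24848 := ndS (p := 10218) (l := 1) rfl N10218 D24848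
theorem N14584 : nd 14584 = n24849 := ndS (p := 10219) (l := 6) rfl N10219 D24849
theorem N14585 : nd 14585 = n24850 := ndS (p := 10221) (l := 0) rfl N10221 D24850
theorem N14586 : nd 14586 = n24851 := ndS (p := 10221) (l := 2) rfl N10221 D24851
theorem N14587 : nd 14587 = n24852 := ndS (p := 10221) (l := 5) rfl N10221 D24852
theorem N14588 : nd 14588 = n24853 := ndS (p := 10222) (l := 5) rfl N10222 D24853
theorem N14589 : nd 14589 = n24854 := ndS (p := 10223) (l := 1) rfl N10223 D24854
theorem N14590 : nd 14590 = n24855 := ndS (p := 10224) (l := 1) rfl N10224 D24855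
theorem N14591 : nd 14591 = n24856 := ndS (p := 10224) (l := 3) rfl N10224 D24856
theorem N14592 : nd 14592 = n24857 := ndS (p := 10224) (l := 4) rfl N10224 D24857
theorem N14593 : nd 14593 = n24858 := ndS (p := 10224) (l := 5) rfl N10224 D24858
theorem N14594 : nd 14594 = n24859 := ndS (p := 10224) (l := 6) rfl N10224 D24859
theorem N14595 : nd 14595 = n24860 := ndS (p := 10225) (l := 5) rfl N10225 D24860
theorem N14596 : nd 14596 = n24861 := ndS (p := 10225) (l := 6) rfl N10225 D24861
theorem N14597 : nd 14597 = n24862 := ndS (p := 10226) (l := 1) rfl N10226 D24862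
theorem N14598 : nd 14598 = n24863 := ndS (p := 10228) (l := 0) rfl N10228 D24863
theorem N14599 : nd 14599 = n24864 := ndS (p := 10229) (l := 5) rfl N10229 D24864
theorem N14600 : nd 14600 = n24865 := ndS (p := 10230) (l := 4) rfl N10230 D24865
theorem N14601 : nd 14601 = n24866 := ndS (p := 10230) (l := 5) rfl N10230 D24866
theorem N14602 : nd 14602 = n24868 := ndS (p := 10231) (l := 3) rfl N10231 D24868
theorem N14603 : nd 14603 = n24869 := ndS (p := 10231) (l := 5) rfl N10231 D24869
theorem N14604 : nd 14604 = n24870 := ndS (p := 10232) (l := 1) rfl N10232 D24870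
theorem N14605 : nd 14605 = n24871 := ndS (p := 10232) (l := 6) rfl N10232 D24871
theorem N14606 : nd 14606 = n24873 := ndS (p := 10233) (l := 5) rfl N10233 D24873
theorem N14607 : nd 14607 = n24874 := ndS (p := 10234) (l := 6) rfl N10234 D24874
theorem N14608 : nd 14608 = n24875 := ndS (p := 10235) (l := 5) rfl N10235 D24875
theorem N14609 : nd 14609 = n24876 := ndS (p := 10236) (l := 1) rfl N10236 D24876
theorem N14610 : nd 14610 = n24877 := ndS (p := 10237) (l := 1) rfl N10237 D24877
theorem N14611 : nd 14611 = n24878 := ndS (p := 10238) (l := 1) rfl N10238 D24878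
theorem N14612 : nd 14612 = n24879 := ndS (p := 10240) (l := 0) rfl N10240 D24879
theorem N14613 : nd 14613 = n24880 := ndS (p := 10240) (l := 5) rfl N10240 D24880
theorem N14614 : nd 14614 = n24881 := ndS (p := 10241) (l := 0) rfl N10241 D24881
theorem N14615 : nd 14615 = n24882 := ndS (p := 10242) (l := 5) rfl N10242 D24882
theorem N14616 : nd 14616 = n24883 := ndS (p := 10242) (l := 6) rfl N10242 D24883
theorem N14617 : nd 14617 = n24884 := ndS (p := 10244) (l := 1) rfl N10244 D24884
theorem N14618 : nd 14618 = n24885 := ndS (p := 10245) (l := 1) rfl N10245 D24885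
theorem N14619 : nd 14619 = n24886 := ndS (p := 10245) (l := 2) rfl N10245 D24886
theorem N14620 : nd 14620 = n24887 := ndS (p := 10246) (l := 3) rfl N10246 D24887
theorem N14621 : nd 14621 = n24888 := ndS (p := 10246) (l := 6) rfl N10246 D24888
theorem N14622 : nd 14622 = n24889 := ndS (p := 10247) (l := 5) rfl N10247 D24889
theorem N14623 : nd 14623 = n24890 := ndS (p := 10248) (l := 2) rfl N10248 D24890
theorem N14624 : nd 14624 = n24891 := ndS (p := 10248) (l := 5) rfl N10248 D24891
theorem N14625 : nd 14625 = n24892 := ndS (p := 10248) (l := 6) rfl N10248 D24892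
theorem N14626 : nd 14626 = n24893 := ndS (p := 10249) (l := 1) rfl N10249 D24893
theorem N14627 : nd 14627 = n24894 := ndS (p := 10249) (l := 6) rfl N10249 D24894
theorem N14628 : nd 14628 = n24895 := ndS (p := 10251) (l := 4) rfl N10251 D24895
theorem N14629 : nd 14629 = n24896 := ndS (p := 10251) (l := 6) rfl N10251 D24896
theorem N14630 : nd 14630 = n24897 := ndS (p := 10252) (l := 1) rfl N10252 D24897
theorem N14631 : nd 14631 = n24898 := ndS (p := 10252) (l := 5) rfl N10252 D24898
theorem N14632 : nd 14632 = n24899 := ndS (p := 10253) (l := 1) rfl N10253 D24899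
theorem N14633 : nd 14633 = n24900 := ndS (p := 10255) (l := 5) rfl N10255 D24900
theorem N14634 : nd 14634 = n24901 := ndS (p := 10256) (l := 0) rfl N10256 D24901
theorem N14635 : nd 14635 = n24902 := ndS (p := 10256) (l := 2) rfl N10256 D24902
theorem N14636 : nd 14636 = n24903 := ndS (p := 10256) (l := 6) rfl N10256 D24903
theorem N14637 : nd 14637 = n24904 := ndS (p := 10257) (l := 6) rfl N10257 D24904
theorem N14638 : nd 14638 = n24905 := ndS (p := 10259) (l := 1) rfl N10259 D24905
theorem N14639 : nd 14639 = n24906 := ndS (p := 10259) (l := 4) rfl N10259 D24906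
theorem N14640 : nd 14640 = n24907 := ndS (p := 10259) (l := 5) rfl N10259 D24907
theorem N14641 : nd 14641 = n24908 := ndS (p := 10259) (l := 6) rfl N10259 D24908
theorem N14642 : nd 14642 = n24909 := ndS (p := 10260) (l := 6) rfl N10260 D24909
theorem N14643 : nd 14643 = n24910 := ndS (p := 10261) (l := 1) rfl N10261 D24910
theorem N14644 : nd 14644 = n24911 := ndS (p := 10262) (l := 1) rfl N10262 D24911
theorem N14645 : nd 14645 = n24912 := ndS (p := 10264) (l := 0) rfl N10264 D24912
theorem N14646 : nd 14646 = n24913 := ndS (p := 10264) (l := 5) rfl N10264 D24913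
theorem N14647 : nd 14647 = n24914 := ndS (p := 10265) (l := 4) rfl N10265 D24914
theorem N14648 : nd 14648 = n24915 := ndS (p := 10265) (l := 5) rfl N10265 D24915
theorem N14649 : nd 14649 = n24916 := ndS (p := 10265) (l := 6) rfl N10265 D24916
theorem N14650 : nd 14650 = n24917 := ndS (p := 10266) (l := 3) rfl N10266 D24917
theorem N14651 : nd 14651 = n24918 := ndS (p := 10266) (l := 5) rfl N10266 D24918
theorem N14652 : nd 14652 = n24919 := ndS (p := 10266) (l := 6) rfl N10266 D24919
theorem N14653 : nd 14653 = n24920 := ndS (p := 10267) (l := 1) rfl N10267 D24920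
theorem N14654 : nd 14654 = n24921 := ndS (p := 10267) (l := 6) rfl N10267 D24921
theorem N14655 : nd 14655 = n24922 := ndS (p := 10268) (l := 1) rfl N10268 D24922
theorem N14656 : nd 14656 = n24923 := ndS (p := 10268) (l := 5) rfl N10268 D24923
theorem N14657 : nd 14657 = n24924 := ndS (p := 10269) (l := 6) rfl N10269 D24924
theorem N14658 : nd 14658 = n24925 := ndS (p := 10270) (l := 5) rfl N10270 D24925
theorem N14659 : nd 14659 = n24926 := ndS (p := 10271) (l := 1) rfl N10271 D24926
theorem N14660 : nd 14660 = n24927 := ndS (p := 10272) (l := 1) rfl N10272 D24927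
theorem N14661 : nd 14661 = n24928 := ndS (p := 10273) (l := 0) rfl N10273 D24928
theorem N14662 : nd 14662 = n24929 := ndS (p := 10273) (l := 5) rfl N10273 D24929
theorem N14663 : nd 14663 = n24930 := ndS (p := 10274) (l := 0) rfl N10274 D24930
theorem N14664 : nd 14664 = n24931 := ndS (p := 10274) (l := 2) rfl N10274 D24931
theorem N14665 : nd 14665 = n24932 := ndS (p := 10274) (l := 6) rfl N10274 D24932
theorem N14666 : nd 14666 = n24933 := ndS (p := 10275) (l := 5) rfl N10275 D24933
theorem N14667 : nd 14667 = n24934 := ndS (p := 10277) (l := 1) rfl N10277 D24934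
theorem N14668 : nd 14668 = n24935 := ndS (p := 10277) (l := 4) rfl N10277 D24935
theorem N14669 : nd 14669 = n24936 := ndS (p := 10277) (l := 5) rfl N10277 D24936
theorem N14670 : nd 14670 = n24937 := ndS (p := 10277) (l := 6) rfl N10277 D24937
theorem N14671 : nd 14671 = n24938 := ndS (p := 10278) (l := 5) rfl N10278 D24938
theorem N14672 : nd 14672 = n24939 := ndS (p := 10279) (l := 1) rfl N10279 D24939
theorem N14673 : nd 14673 = n24940 := ndS (p := 10280) (l := 1) rfl N10280 D24940
theorem N14674 : nd 14674 = n24941 := ndS (p := 10281) (l := 0) rfl N10281 D24941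
theorem N14675 : nd 14675 = n24942 := ndS (p := 10281) (l := 6) rfl N10281 D24942
theorem N14676 : nd 14676 = n24943 := ndS (p := 10283) (l := 4) rfl N10283 D24943
theorem N14677 : nd 14677 = n24944 := ndS (p := 10283) (l := 5) rfl N10283 D24944
theorem N14678 : nd 14678 = n24945 := ndS (p := 10283) (l := 6) rfl N10283 D24945
theorem N14679 : nd 14679 = n24946 := ndS (p := 10284) (l := 3) rfl N10284 D24946
theorem N14680 : nd 14680 = n24947 := ndS (p := 10284) (l := 5) rfl N10284 D24947
theorem N14681 : nd 14681 = n24948 := ndS (p := 10284) (l := 6) rfl N10284 D24948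
theorem N14682 : nd 14682 = n24949 := ndS (p := 10285) (l := 1) rfl N10285 D24949
theorem N14683 : nd 14683 = n24950 := ndS (p := 10285) (l := 6) rfl N10285 D24950
theorem N14684 : nd 14684 = n24951 := ndS (p := 10286) (l := 1) rfl N10286 D24951
theorem N14685 : nd 14685 = n24952 := ndS (p := 10286) (l := 5) rfl N10286 D24952
theorem N14686 : nd 14686 = n24953 := ndS (p := 10287) (l := 6) rfl N10287 D24953
theorem N14687 : nd 14687 = n24954 := ndS (p := 10288) (l := 5) rfl N10288 D24954
theorem N14688 : nd 14688 = n24955 := ndS (p := 10289) (l := 1) rfl N10289 D24955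
theorem N14689 : nd 14689 = n24956 := ndS (p := 10290) (l := 1) rfl N10290 D24956
theorem N14690 : nd 14690 = n24957 := ndS (p := 10291) (l := 0) rfl N10291 D24957
theorem N14691 : nd 14691 = n24958 := ndS (p := 10291) (l := 2) rfl N10291 D24958
theorem N14692 : nd 14692 = n24959 := ndS (p := 10291) (l := 5) rfl N10291 D24959
theorem N14693 : nd 14693 = n24960 := ndS (p := 10292) (l := 0) rfl N10292 D24960
theorem N14694 : nd 14694 = n24961 := ndS (p := 10292) (l := 6) rfl N10292 D24961
theorem N14695 : nd 14695 = n24962 := ndS (p := 10293) (l := 4) rfl N10293 D24962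
theorem N14696 : nd 14696 = n24963 := ndS (p := 10293) (l := 6) rfl N10293 D24963
theorem N14697 : nd 14697 = n24964 := ndS (p := 10295) (l := 4) rfl N10295 D24964
theorem N14698 : nd 14698 = n24965 := ndS (p := 10295) (l := 5) rfl N10295 D24965
theorem N14699 : nd 14699 = n24966 := ndS (p := 10297) (l := 5) rfl N10297 D24966
theorem N14700 : nd 14700 = n24967 := ndS (p := 10299) (l := 6) rfl N10299 D24967
theorem N14701 : nd 14701 = n24968 := ndS (p := 10301) (l := 6) rfl N10301 D24968
theorem N14702 : nd 14702 = n24969 := ndS (p := 10302) (l := 1) rfl N10302 D24969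
theorem N14703 : nd 14703 = n24970 := ndS (p := 10303) (l := 6) rfl N10303 D24970
theorem N14704 : nd 14704 = n24971 := ndS (p := 10304) (l := 1) rfl N10304 D24971
theorem N14705 : nd 14705 = n24972 := ndS (p := 10308) (l := 4) rfl N10308 D24972
theorem N14706 : nd 14706 = n24973 := ndS (p := 10308) (l := 6) rfl N10308 D24973
theorem N14707 : nd 14707 = n24974 := ndS (p := 10310) (l := 6) rfl N10310 D24974
theorem N14708 : nd 14708 = n24975 := ndS (p := 10311) (l := 6) rfl N10311 D24975
theorem N14709 : nd 14709 = n24976 := ndS (p := 10315) (l := 0) rfl N10315 D24976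
theorem N14710 : nd 14710 = n24977 := ndS (p := 10319) (l := 1) rfl N10319 D24977
theorem N14711 : nd 14711 = n24978 := ndS (p := 10320) (l := 6) rfl N10320 D24978
theorem N14712 : nd 14712 = n24979 := ndS (p := 10323) (l := 5) rfl N10323 D24979
theorem N14713 : nd 14713 = n24980 := ndS (p := 10325) (l := 1) rfl N10325 D24980
theorem N14714 : nd 14714 = n24981 := ndS (p := 10329) (l := 1) rfl N10329 D24981
theorem N14715 : nd 14715 = n24982 := ndS (p := 10329) (l := 6) rfl N10329 D24982
theorem N14716 : nd 14716 = n24983 := ndS (p := 10330) (l := 1) rfl N10330 D24983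
theorem N14717 : nd 14717 = n24984 := ndS (p := 10333) (l := 6) rfl N10333 D24984
theorem N14718 : nd 14718 = n24985 := ndS (p := 10336) (l := 1) rfl N10336 D24985
theorem N14719 : nd 14719 = n24986 := ndS (p := 10337) (l := 5) rfl N10337 D24986
theorem N14720 : nd 14720 = n24987 := ndS (p := 10338) (l := 5) rfl N10338 D24987
theorem N14721 : nd 14721 = n24988 := ndS (p := 10339) (l := 1) rfl N10339 D24988
theorem N14722 : nd 14722 = n24989 := ndS (p := 10340) (l := 5) rfl N10340 D24989
theorem N14723 : nd 14723 = n24990 := ndS (p := 10341) (l := 1) rfl N10341 D24990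
theorem N14724 : nd 14724 = n24991 := ndS (p := 10345) (l := 4) rfl N10345 D24991
theorem N14725 : nd 14725 = n24992 := ndS (p := 10345) (l := 5) rfl N10345 D24992
theorem N14726 : nd 14726 = n24993 := ndS (p := 10347) (l := 5) rfl N10347 D24993
theorem N14727 : nd 14727 = n24994 := ndS (p := 10348) (l := 5) rfl N10348 D24994
theorem N14728 : nd 14728 = n24995 := ndS (p := 10352) (l := 0) rfl N10352 D24995
theorem N14729 : nd 14729 = n24996 := ndS (p := 10356) (l := 1) rfl N10356 D24996
theorem N14730 : nd 14730 = n24997 := ndS (p := 10357) (l := 5) rfl N10357 D24997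
theorem N14731 : nd 14731 = n24998 := ndS (p := 10360) (l := 6) rfl N10360 D24998
theorem N14732 : nd 14732 = n24999 := ndS (p := 10362) (l := 1) rfl N10362 D24999
theorem N14733 : nd 14733 = n25000 := ndS (p := 10364) (l := 1) rfl N10364 D25000
theorem N14734 : nd 14734 = n25001 := ndS (p := 10364) (l := 5) rfl N10364 D25001
theorem N14735 : nd 14735 = n25002 := ndS (p := 10366) (l := 1) rfl N10366 D25002
theorem N14736 : nd 14736 = n25003 := ndS (p := 10368) (l := 5) rfl N10368 D25003
theorem N14737 : nd 14737 = n25004 := ndS (p := 10371) (l := 1) rfl N10371 D25004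
theorem N14738 : nd 14738 = n25005 := ndS (p := 10372) (l := 6) rfl N10372 D25005
theorem N14739 : nd 14739 = n25006 := ndS (p := 10373) (l := 2) rfl N10373 D25006
theorem N14740 : nd 14740 = n25007 := ndS (p := 10375) (l := 0) rfl N10375 D25007
theorem N14741 : nd 14741 = n25008 := ndS (p := 10375) (l := 2) rfl N10375 D25008
theorem N14742 : nd 14742 = n25009 := ndS (p := 10375) (l := 5) rfl N10375 D25009
theorem N14743 : nd 14743 = n25010 := ndS (p := 10376) (l := 2) rfl N10376 D25010
theorem N14744 : nd 14744 = n25011 := ndS (p := 10376) (l := 5) rfl N10376 D25011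
theorem N14745 : nd 14745 = n25012 := ndS (p := 10384) (l := 2) rfl N10384 D25012
theorem N14746 : nd 14746 = n25013 := ndS (p := 10385) (l := 3) rfl N10385 D25013
theorem N14747 : nd 14747 = n25014 := ndS (p := 10385) (l := 6) rfl N10385 D25014
theorem N14748 : nd 14748 = n25015 := ndS (p := 10388) (l := 1) rfl N10388 D25015
theorem N14749 : nd 14749 = n25016 := ndS (p := 10389) (l := 0) rfl N10389 D25016
theorem N14750 : nd 14750 = n25017 := ndS (p := 10389) (l := 6) rfl N10389 D25017
theorem N14751 : nd 14751 = n25018 := ndS (p := 10391) (l := 1) rfl N10391 D25018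
theorem N14752 : nd 14752 = n25019 := ndS (p := 10396) (l := 3) rfl N10396 D25019
theorem N14753 : nd 14753 = n25020 := ndS (p := 10396) (l := 6) rfl N10396 D25020
theorem N14754 : nd 14754 = n25021 := ndS (p := 10399) (l := 3) rfl N10399 D25021
theorem N14755 : nd 14755 = n25022 := ndS (p := 10399) (l := 6) rfl N10399 D25022
theorem N14756 : nd 14756 = n25023 := ndS (p := 10401) (l := 6) rfl N10401 D25023
theorem N14757 : nd 14757 = n25024 := ndS (p := 10402) (l := 1) rfl N10402 D25024
theorem N14758 : nd 14758 = n25025 := ndS (p := 10402) (l := 5) rfl N10402 D25025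
theorem N14759 : nd 14759 = n25026 := ndS (p := 10403) (l := 1) rfl N10403 D25026
theorem N14760 : nd 14760 = n25027 := ndS (p := 10407) (l := 2) rfl N10407 D25027
theorem N14761 : nd 14761 = n25028 := ndS (p := 10409) (l := 0) rfl N10409 D25028
theorem N14762 : nd 14762 = n25029 := ndS (p := 10409) (l := 2) rfl N10409 D25029
theorem N14763 : nd 14763 = n25030 := ndS (p := 10409) (l := 6) rfl N10409 D25030
theorem N14764 : nd 14764 = n25031 := ndS (p := 10410) (l := 2) rfl N10410 D25031
theorem N14765 : nd 14765 = n25032 := ndS (p := 10410) (l := 6) rfl N10410 D25032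
theorem N14766 : nd 14766 = n25033 := ndS (p := 10418) (l := 2) rfl N10418 D25033
theorem N14767 : nd 14767 = n25034 := ndS (p := 10419) (l := 3) rfl N10419 D25034
theorem N14768 : nd 14768 = n25035 := ndS (p := 10419) (l := 5) rfl N10419 D25035
theorem N14769 : nd 14769 = n25036 := ndS (p := 10422) (l := 1) rfl N10422 D25036
theorem N14770 : nd 14770 = n25037 := ndS (p := 10423) (l := 0) rfl N10423 D25037
theorem N14771 : nd 14771 = n25038 := ndS (p := 10423) (l := 5) rfl N10423 D25038
theorem N14772 : nd 14772 = n25039 := ndS (p := 10425) (l := 1) rfl N10425 D25039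
theorem N14773 : nd 14773 = n25040 := ndS (p := 10430) (l := 3) rfl N10430 D25040
theorem N14774 : nd 14774 = n25041 := ndS (p := 10430) (l := 5) rfl N10430 D25041
theorem N14775 : nd 14775 = n25042 := ndS (p := 10433) (l := 3) rfl N10433 D25042
theorem N14776 : nd 14776 = n25043 := ndS (p := 10433) (l := 5) rfl N10433 D25043
theorem N14777 : nd 14777 = n25044 := ndS (p := 10435) (l := 5) rfl N10435 D25044
theorem N14778 : nd 14778 = n25045 := ndS (p := 10436) (l := 1) rfl N10436 D25045
theorem N14779 : nd 14779 = n25046 := ndS (p := 10436) (l := 6) rfl N10436 D25046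
theorem N14780 : nd 14780 = n25047 := ndS (p := 10437) (l := 1) rfl N10437 D25047
theorem N14781 : nd 14781 = n25048 := ndS (p := 10442) (l := 6) rfl N10442 D25048
theorem N14782 : nd 14782 = n25049 := ndS (p := 10445) (l := 1) rfl N10445 D25049
theorem N14783 : nd 14783 = n25050 := ndS (p := 10448) (l := 1) rfl N10448 D25050
theorem N14784 : nd 14784 = n25051 := ndS (p := 10449) (l := 6) rfl N10449 D25051
theorem N14785 : nd 14785 = n25052 := ndS (p := 10452) (l := 1) rfl N10452 D25052
theorem N14786 : nd 14786 = n25053 := ndS (p := 10453) (l := 0) rfl N10453 D25053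
theorem N14787 : nd 14787 = n25054 := ndS (p := 10453) (l := 5) rfl N10453 D25054
theorem N14788 : nd 14788 = n25055 := ndS (p := 10454) (l := 1) rfl N10454 D25055
theorem N14789 : nd 14789 = n25056 := ndS (p := 10455) (l := 2) rfl N10455 D25056
theorem N14790 : nd 14790 = n25057 := ndS (p := 10458) (l := 0) rfl N10458 D25057
theorem N14791 : nd 14791 = n25058 := ndS (p := 10458) (l := 2) rfl N10458 D25058
theorem N14792 : nd 14792 = n25059 := ndS (p := 10462) (l := 5) rfl N10462 D25059
theorem N14793 : nd 14793 = n25060 := ndS (p := 10463) (l := 1) rfl N10463 D25060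
theorem N14794 : nd 14794 = n25061 := ndS (p := 10464) (l := 2) rfl N10464 D25061
theorem N14795 : nd 14795 = n25062 := ndS (p := 10464) (l := 6) rfl N10464 D25062
theorem N14796 : nd 14796 = n25063 := ndS (p := 10465) (l := 6) rfl N10465 D25063
theorem N14797 : nd 14797 = n25064 := ndS (p := 10466) (l := 5) rfl N10466 D25064
theorem N14798 : nd 14798 = n25065 := ndS (p := 10467) (l := 2) rfl N10467 D25065
theorem N14799 : nd 14799 = n25066 := ndS (p := 10467) (l := 5) rfl N10467 D25066
theorem N14800 : nd 14800 = n25067 := ndS (p := 10468) (l := 6) rfl N10468 D25067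
theorem N14801 : nd 14801 = n25068 := ndS (p := 10472) (l := 2) rfl N10472 D25068
theorem N14802 : nd 14802 = n25069 := ndS (p := 10472) (l := 5) rfl N10472 D25069
theorem N14803 : nd 14803 = n25070 := ndS (p := 10473) (l := 3) rfl N10473 D25070
theorem N14804 : nd 14804 = n25071 := ndS (p := 10474) (l := 6) rfl N10474 D25071
theorem N14805 : nd 14805 = n25072 := ndS (p := 10478) (l := 2) rfl N10478 D25072
theorem N14806 : nd 14806 = n25073 := ndS (p := 10478) (l := 6) rfl N10478 D25073
theorem N14807 : nd 14807 = n25074 := ndS (p := 10479) (l := 1) rfl N10479 D25074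
theorem N14808 : nd 14808 = n25075 := ndS (p := 10480) (l := 2) rfl N10480 D25075
theorem N14809 : nd 14809 = n25076 := ndS (p := 10481) (l := 1) rfl N10481 D25076
theorem N14810 : nd 14810 = n25077 := ndS (p := 10482) (l := 3) rfl N10482 D25077
theorem N14811 : nd 14811 = n25078 := ndS (p := 10483) (l := 5) rfl N10483 D25078
theorem N14812 : nd 14812 = n25079 := ndS (p := 10488) (l := 2) rfl N10488 D25079
theorem N14813 : nd 14813 = n25080 := ndS (p := 10489) (l := 3) rfl N10489 D25080
theorem N14814 : nd 14814 = n25081 := ndS (p := 10489) (l := 5) rfl N10489 D25081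
theorem N14815 : nd 14815 = n25082 := ndS (p := 10492) (l := 5) rfl N10492 D25082
theorem N14816 : nd 14816 = n25083 := ndS (p := 10494) (l := 1) rfl N10494 D25083
theorem N14817 : nd 14817 = n25084 := ndS (p := 10497) (l := 1) rfl N10497 D25084
theorem N14818 : nd 14818 = n25085 := ndS (p := 10499) (l := 5) rfl N10499 D25085
theorem N14819 : nd 14819 = n25086 := ndS (p := 10502) (l := 0) rfl N10502 D25086
theorem N14820 : nd 14820 = n25087 := ndS (p := 10502) (l := 6) rfl N10502 D25087
theorem N14821 : nd 14821 = n25088 := ndS (p := 10503) (l := 1) rfl N10503 D25088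
theorem N14822 : nd 14822 = n25089 := ndS (p := 10504) (l := 1) rfl N10504 D25089
theorem N14823 : nd 14823 = n25090 := ndS (p := 10507) (l := 0) rfl N10507 D25090
theorem N14824 : nd 14824 = n25091 := ndS (p := 10508) (l := 2) rfl N10508 D25091
theorem N14825 : nd 14825 = n25092 := ndS (p := 10513) (l := 1) rfl N10513 D25092
theorem N14826 : nd 14826 = n25093 := ndS (p := 10514) (l := 2) rfl N10514 D25093
theorem N14827 : nd 14827 = n25094 := ndS (p := 10514) (l := 5) rfl N10514 D25094
theorem N14828 : nd 14828 = n25095 := ndS (p := 10515) (l := 6) rfl N10515 D25095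
theorem N14829 : nd 14829 = n25096 := ndS (p := 10516) (l := 5) rfl N10516 D25096
theorem N14830 : nd 14830 = n25097 := ndS (p := 10517) (l := 2) rfl N10517 D25097
theorem N14831 : nd 14831 = n25098 := ndS (p := 10517) (l := 6) rfl N10517 D25098
theorem N14832 : nd 14832 = n25099 := ndS (p := 10518) (l := 5) rfl N10518 D25099
theorem N14833 : nd 14833 = n25100 := ndS (p := 10522) (l := 2) rfl N10522 D25100
theorem N14834 : nd 14834 = n25101 := ndS (p := 10522) (l := 6) rfl N10522 D25101
theorem N14835 : nd 14835 = n25102 := ndS (p := 10523) (l := 3) rfl N10523 D25102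
theorem N14836 : nd 14836 = n25103 := ndS (p := 10524) (l := 5) rfl N10524 D25103
theorem N14837 : nd 14837 = n25104 := ndS (p := 10528) (l := 2) rfl N10528 D25104
theorem N14838 : nd 14838 = n25105 := ndS (p := 10528) (l := 5) rfl N10528 D25105
theorem N14839 : nd 14839 = n25106 := ndS (p := 10529) (l := 2) rfl N10529 D25106
theorem N14840 : nd 14840 = n25107 := ndS (p := 10534) (l := 2) rfl N10534 D25107
theorem N14841 : nd 14841 = n25108 := ndS (p := 10535) (l := 3) rfl N10535 D25108
theorem N14842 : nd 14842 = n25109 := ndS (p := 10535) (l := 6) rfl N10535 D25109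
theorem N14843 : nd 14843 = n25110 := ndS (p := 10545) (l := 6) rfl N10545 D25110
theorem N14844 : nd 14844 = n25111 := ndS (p := 10548) (l := 3) rfl N10548 D25111
theorem N14845 : nd 14845 = n25112 := ndS (p := 10548) (l := 6) rfl N10548 D25112
theorem N14846 : nd 14846 = n25113 := ndS (p := 10549) (l := 6) rfl N10549 D25113
theorem N14847 : nd 14847 = n25114 := ndS (p := 10550) (l := 1) rfl N10550 D25114
theorem N14848 : nd 14848 = n25115 := ndS (p := 10551) (l := 1) rfl N10551 D25115
theorem N14849 : nd 14849 = n25116 := ndS (p := 10556) (l := 2) rfl N10556 D25116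
theorem N14850 : nd 14850 = n25117 := ndS (p := 10558) (l := 2) rfl N10558 D25117
theorem N14851 : nd 14851 = n25118 := ndS (p := 10559) (l := 5) rfl N10559 D25118
theorem N14852 : nd 14852 = n25119 := ndS (p := 10563) (l := 1) rfl N10563 D25119
theorem N14853 : nd 14853 = n25120 := ndS (p := 10563) (l := 3) rfl N10563 D25120
theorem N14854 : nd 14854 = n25121 := ndS (p := 10564) (l := 2) rfl N10564 D25121
theorem N14855 : nd 14855 = n25122 := ndS (p := 10564) (l := 4) rfl N10564 D25122
theorem N14856 : nd 14856 = n25123 := ndS (p := 10564) (l := 5) rfl N10564 D25123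
theorem N14857 : nd 14857 = n25124 := ndS (p := 10565) (l := 1) rfl N10565 D25124
theorem N14858 : nd 14858 = n25125 := ndS (p := 10566) (l := 3) rfl N10566 D25125
theorem N14859 : nd 14859 = n25126 := ndS (p := 10567) (l := 2) rfl N10567 D25126
theorem N14860 : nd 14860 = n25127 := ndS (p := 10568) (l := 3) rfl N10568 D25127
theorem N14861 : nd 14861 = n25128 := ndS (p := 10571) (l := 2) rfl N10571 D25128
theorem N14862 : nd 14862 = n25129 := ndS (p := 10575) (l := 4) rfl N10575 D25129
theorem N14863 : nd 14863 = n25130 := ndS (p := 10578) (l := 2) rfl N10578 D25130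
theorem N14864 : nd 14864 = n25131 := ndS (p := 10578) (l := 4) rfl N10578 D25131
theorem N14865 : nd 14865 = n25132 := ndS (p := 10578) (l := 5) rfl N10578 D25132
theorem N14866 : nd 14866 = n25133 := ndS (p := 10580) (l := 1) rfl N10580 D25133
theorem N14867 : nd 14867 = n25134 := ndS (p := 10580) (l := 3) rfl N10580 D25134
theorem N14868 : nd 14868 = n25135 := ndS (p := 10580) (l := 4) rfl N10580 D25135
theorem N14869 : nd 14869 = n25136 := ndS (p := 10580) (l := 5) rfl N10580 D25136
theorem N14870 : nd 14870 = n25137 := ndS (p := 10581) (l := 5) rfl N10581 D25137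
theorem N14871 : nd 14871 = n25138 := ndS (p := 10582) (l := 6) rfl N10582 D25138
theorem N14872 : nd 14872 = n25139 := ndS (p := 10586) (l := 2) rfl N10586 D25139
theorem N14873 : nd 14873 = n25140 := ndS (p := 10586) (l := 4) rfl N10586 D25140
theorem N14874 : nd 14874 = n25141 := ndS (p := 10586) (l := 6) rfl N10586 D25141
theorem N14875 : nd 14875 = n25142 := ndS (p := 10590) (l := 4) rfl N10590 D25142
theorem N14876 : nd 14876 = n25143 := ndS (p := 10590) (l := 5) rfl N10590 D25143
theorem N14877 : nd 14877 = n25144 := ndS (p := 10600) (l := 5) rfl N10600 D25144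
theorem N14878 : nd 14878 = n25145 := ndS (p := 10603) (l := 3) rfl N10603 D25145
theorem N14879 : nd 14879 = n25146 := ndS (p := 10603) (l := 5) rfl N10603 D25146
theorem N14880 : nd 14880 = n25147 := ndS (p := 10604) (l := 1) rfl N10604 D25147
theorem N14881 : nd 14881 = n25148 := ndS (p := 10609) (l := 2) rfl N10609 D25148
theorem N14882 : nd 14882 = n25149 := ndS (p := 10611) (l := 2) rfl N10611 D25149
theorem N14883 : nd 14883 = n25150 := ndS (p := 10612) (l := 6) rfl N10612 D25150
theorem N14884 : nd 14884 = n25151 := ndS (p := 10615) (l := 1) rfl N10615 D25151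
theorem N14885 : nd 14885 = n25152 := ndS (p := 10615) (l := 3) rfl N10615 D25152
theorem N14886 : nd 14886 = n25153 := ndS (p := 10616) (l := 2) rfl N10616 D25153
theorem N14887 : nd 14887 = n25154 := ndS (p := 10616) (l := 4) rfl N10616 D25154
theorem N14888 : nd 14888 = n25155 := ndS (p := 10616) (l := 6) rfl N10616 D25155
theorem N14889 : nd 14889 = n25156 := ndS (p := 10617) (l := 1) rfl N10617 D25156
theorem N14890 : nd 14890 = n25157 := ndS (p := 10618) (l := 2) rfl N10618 D25157
theorem N14891 : nd 14891 = n25158 := ndS (p := 10619) (l := 3) rfl N10619 D25158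
theorem N14892 : nd 14892 = n25159 := ndS (p := 10622) (l := 2) rfl N10622 D25159
theorem N14893 : nd 14893 = n25160 := ndS (p := 10625) (l := 4) rfl N10625 D25160
theorem N14894 : nd 14894 = n25161 := ndS (p := 10628) (l := 2) rfl N10628 D25161
theorem N14895 : nd 14895 = n25162 := ndS (p := 10628) (l := 4) rfl N10628 D25162
theorem N14896 : nd 14896 = n25163 := ndS (p := 10629) (l := 3) rfl N10629 D25163
theorem N14897 : nd 14897 = n25164 := ndS (p := 10629) (l := 4) rfl N10629 D25164
theorem N14898 : nd 14898 = n25165 := ndS (p := 10629) (l := 6) rfl N10629 D25165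
theorem N14899 : nd 14899 = n25166 := ndS (p := 10630) (l := 6) rfl N10630 D25166
theorem N14900 : nd 14900 = n25167 := ndS (p := 10631) (l := 5) rfl N10631 D25167
theorem N14901 : nd 14901 = n25168 := ndS (p := 10637) (l := 6) rfl N10637 D25168
theorem N14902 : nd 14902 = n25169 := ndS (p := 10638) (l := 1) rfl N10638 D25169
theorem N14903 : nd 14903 = n25170 := ndS (p := 10640) (l := 1) rfl N10640 D25170
theorem N14904 : nd 14904 = n25171 := ndS (p := 10643) (l := 1) rfl N10643 D25171
theorem N14905 : nd 14905 = n25172 := ndS (p := 10646) (l := 6) rfl N10646 D25172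
theorem N14906 : nd 14906 = n25173 := ndS (p := 10653) (l := 6) rfl N10653 D25173
theorem N14907 : nd 14907 = n25174 := ndS (p := 10655) (l := 1) rfl N10655 D25174
theorem N14908 : nd 14908 = n25175 := ndS (p := 10656) (l := 2) rfl N10656 D25175
theorem N14909 : nd 14909 = n25176 := ndS (p := 10657) (l := 0) rfl N10657 D25176
theorem N14910 : nd 14910 = n25177 := ndS (p := 10660) (l := 1) rfl N10660 D25177
theorem N14911 : nd 14911 = n25178 := ndS (p := 10660) (l := 3) rfl N10660 D25178
theorem N14912 : nd 14912 = n25179 := ndS (p := 10662) (l := 0) rfl N10662 D25179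
theorem N14913 : nd 14913 = n25180 := ndS (p := 10662) (l := 5) rfl N10662 D25180
theorem N14914 : nd 14914 = n25181 := ndS (p := 10666) (l := 0) rfl N10666 D25181
theorem N14915 : nd 14915 = n25182 := ndS (p := 10666) (l := 2) rfl N10666 D25182
theorem N14916 : nd 14916 = n25183 := ndS (p := 10666) (l := 5) rfl N10666 D25183
theorem N14917 : nd 14917 = n25184 := ndS (p := 10670) (l := 5) rfl N10670 D25184
theorem N14918 : nd 14918 = n25185 := ndS (p := 10673) (l := 1) rfl N10673 D25185
theorem N14919 : nd 14919 = n25186 := ndS (p := 10674) (l := 1) rfl N10674 D25186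
theorem N14920 : nd 14920 = n25187 := ndS (p := 10675) (l := 1) rfl N10675 D25187
theorem N14921 : nd 14921 = n25188 := ndS (p := 10676) (l := 1) rfl N10676 D25188
theorem N14922 : nd 14922 = n25189 := ndS (p := 10677) (l := 2) rfl N10677 D25189
theorem N14923 : nd 14923 = n25190 := ndS (p := 10684) (l := 6) rfl N10684 D25190
theorem N14924 : nd 14924 = n25191 := ndS (p := 10686) (l := 4) rfl N10686 D25191
theorem N14925 : nd 14925 = n25192 := ndS (p := 10693) (l := 0) rfl N10693 D25192
theorem N14926 : nd 14926 = n25193 := ndS (p := 10696) (l := 1) rfl N10696 D25193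
theorem N14927 : nd 14927 = n25194 := ndS (p := 10696) (l := 5) rfl N10696 D25194
theorem N14928 : nd 14928 = n25195 := ndS (p := 10697) (l := 4) rfl N10697 D25195
theorem N14929 : nd 14929 = n25196 := ndS (p := 10701) (l := 1) rfl N10701 D25196
theorem N14930 : nd 14930 = n25197 := ndS (p := 10706) (l := 2) rfl N10706 D25197
theorem N14931 : nd 14931 = n25198 := ndS (p := 10706) (l := 3) rfl N10706 D25198
theorem N14932 : nd 14932 = n25199 := ndS (p := 10706) (l := 5) rfl N10706 D25199
theorem N14933 : nd 14933 = n25200 := ndS (p := 10706) (l := 6) rfl N10706 D25200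
theorem N14934 : nd 14934 = n25201 := ndS (p := 10707) (l := 4) rfl N10707 D25201
theorem N14935 : nd 14935 = n25202 := ndS (p := 10707) (l := 6) rfl N10707 D25202
theorem N14936 : nd 14936 = n25203 := ndS (p := 10708) (l := 1) rfl N10708 D25203
theorem N14937 : nd 14937 = n25204 := ndS (p := 10709) (l := 1) rfl N10709 D25204
theorem N14938 : nd 14938 = n25205 := ndS (p := 10710) (l := 6) rfl N10710 D25205
theorem N14939 : nd 14939 = n25206 := ndS (p := 10714) (l := 1) rfl N10714 D25206
theorem N14940 : nd 14940 = n25207 := ndS (p := 10714) (l := 4) rfl N10714 D25207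
theorem N14941 : nd 14941 = n25208 := ndS (p := 10715) (l := 3) rfl N10715 D25208
theorem N14942 : nd 14942 = n25209 := ndS (p := 10715) (l := 5) rfl N10715 D25209
theorem N14943 : nd 14943 = n25210 := ndS (p := 10718) (l := 0) rfl N10718 D25210
theorem N14944 : nd 14944 = n25211 := ndS (p := 10718) (l := 2) rfl N10718 D25211
theorem N14945 : nd 14945 = n25212 := ndS (p := 10718) (l := 6) rfl N10718 D25212
theorem N14946 : nd 14946 = n25213 := ndS (p := 10719) (l := 6) rfl N10719 D25213
theorem N14947 : nd 14947 = n25214 := ndS (p := 10722) (l := 1) rfl N10722 D25214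
theorem N14948 : nd 14948 = n25215 := ndS (p := 10723) (l := 1) rfl N10723 D25215
theorem N14949 : nd 14949 = n25216 := ndS (p := 10724) (l := 5) rfl N10724 D25216
theorem N14950 : nd 14950 = n25217 := ndS (p := 10725) (l := 1) rfl N10725 D25217
theorem N14951 : nd 14951 = n25218 := ndS (p := 10727) (l := 1) rfl N10727 D25218
theorem N14952 : nd 14952 = n25219 := ndS (p := 10728) (l := 1) rfl N10728 D25219
theorem N14953 : nd 14953 = n25220 := ndS (p := 10731) (l := 5) rfl N10731 D25220
theorem N14954 : nd 14954 = n25221 := ndS (p := 10738) (l := 5) rfl N10738 D25221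
theorem N14955 : nd 14955 = n25222 := ndS (p := 10739) (l := 1) rfl N10739 D25222
theorem N14956 : nd 14956 = n25223 := ndS (p := 10740) (l := 2) rfl N10740 D25223
theorem N14957 : nd 14957 = n25224 := ndS (p := 10742) (l := 1) rfl N10742 D25224
theorem N14958 : nd 14958 = n25225 := ndS (p := 10742) (l := 3) rfl N10742 D25225
theorem N14959 : nd 14959 = n25226 := ndS (p := 10744) (l := 0) rfl N10744 D25226
theorem N14960 : nd 14960 = n25227 := ndS (p := 10744) (l := 6) rfl N10744 D25227
theorem N14961 : nd 14961 = n25228 := ndS (p := 10748) (l := 0) rfl N10748 D25228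
theorem N14962 : nd 14962 = n25229 := ndS (p := 10748) (l := 2) rfl N10748 D25229
theorem N14963 : nd 14963 = n25230 := ndS (p := 10748) (l := 6) rfl N10748 D25230
theorem N14964 : nd 14964 = n25231 := ndS (p := 10751) (l := 0) rfl N10751 D25231
theorem N14965 : nd 14965 = n25232 := ndS (p := 10754) (l := 6) rfl N10754 D25232
theorem N14966 : nd 14966 = n25233 := ndS (p := 10757) (l := 1) rfl N10757 D25233
theorem N14967 : nd 14967 = n25234 := ndS (p := 10758) (l := 1) rfl N10758 D25234
theorem N14968 : nd 14968 = n25235 := ndS (p := 10759) (l := 1) rfl N10759 D25235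
theorem N14969 : nd 14969 = n25236 := ndS (p := 10760) (l := 1) rfl N10760 D25236
theorem N14970 : nd 14970 = n25237 := ndS (p := 10761) (l := 2) rfl N10761 D25237
theorem N14971 : nd 14971 = n25238 := ndS (p := 10768) (l := 5) rfl N10768 D25238
theorem N14972 : nd 14972 = n25239 := ndS (p := 10770) (l := 4) rfl N10770 D25239
theorem N14973 : nd 14973 = n25240 := ndS (p := 10777) (l := 0) rfl N10777 D25240
theorem N14974 : nd 14974 = n25241 := ndS (p := 10780) (l := 1) rfl N10780 D25241
theorem N14975 : nd 14975 = n25242 := ndS (p := 10780) (l := 6) rfl N10780 D25242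
theorem N14976 : nd 14976 = n25243 := ndS (p := 10781) (l := 4) rfl N10781 D25243
theorem N14977 : nd 14977 = n25244 := ndS (p := 10785) (l := 1) rfl N10785 D25244
theorem N14978 : nd 14978 = n25245 := ndS (p := 10788) (l := 2) rfl N10788 D25245
theorem N14979 : nd 14979 = n25246 := ndS (p := 10788) (l := 3) rfl N10788 D25246
theorem N14980 : nd 14980 = n25247 := ndS (p := 10788) (l := 5) rfl N10788 D25247
theorem N14981 : nd 14981 = n25248 := ndS (p := 10788) (l := 6) rfl N10788 D25248
theorem N14982 : nd 14982 = n25249 := ndS (p := 10789) (l := 4) rfl N10789 D25249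
theorem N14983 : nd 14983 = n25250 := ndS (p := 10789) (l := 5) rfl N10789 D25250
theorem N14984 : nd 14984 = n25251 := ndS (p := 10790) (l := 1) rfl N10790 D25251
theorem N14985 : nd 14985 = n25252 := ndS (p := 10791) (l := 1) rfl N10791 D25252
theorem N14986 : nd 14986 = n25253 := ndS (p := 10792) (l := 5) rfl N10792 D25253
theorem N14987 : nd 14987 = n25254 := ndS (p := 10795) (l := 1) rfl N10795 D25254
theorem N14988 : nd 14988 = n25255 := ndS (p := 10795) (l := 4) rfl N10795 D25255
theorem N14989 : nd 14989 = n25256 := ndS (p := 10796) (l := 3) rfl N10796 D25256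
theorem N14990 : nd 14990 = n25257 := ndS (p := 10796) (l := 6) rfl N10796 D25257
theorem N14991 : nd 14991 = n25258 := ndS (p := 10799) (l := 0) rfl N10799 D25258
theorem N14992 : nd 14992 = n25259 := ndS (p := 10799) (l := 2) rfl N10799 D25259
theorem N14993 : nd 14993 = n25260 := ndS (p := 10799) (l := 5) rfl N10799 D25260
theorem N14994 : nd 14994 = n25261 := ndS (p := 10800) (l := 5) rfl N10800 D25261
theorem N14995 : nd 14995 = n25262 := ndS (p := 10803) (l := 1) rfl N10803 D25262
theorem N14996 : nd 14996 = n25263 := ndS (p := 10804) (l := 1) rfl N10804 D25263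
theorem N14997 : nd 14997 = n25264 := ndS (p := 10805) (l := 1) rfl N10805 D25264
theorem N14998 : nd 14998 = n25265 := ndS (p := 10806) (l := 5) rfl N10806 D25265
theorem N14999 : nd 14999 = n25266 := ndS (p := 10808) (l := 1) rfl N10808 D25266
theorem N15000 : nd 15000 = n25267 := ndS (p := 10809) (l := 0) rfl N10809 D25267
theorem N15001 : nd 15001 = n25268 := ndS (p := 10809) (l := 2) rfl N10809 D25268
theorem N15002 : nd 15002 = n25269 := ndS (p := 10811) (l := 5) rfl N10811 D25269
theorem N15003 : nd 15003 = n25270 := ndS (p := 10812) (l := 1) rfl N10812 D25270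
theorem N15004 : nd 15004 = n25271 := ndS (p := 10814) (l := 2) rfl N10814 D25271
theorem N15005 : nd 15005 = n25272 := ndS (p := 10814) (l := 5) rfl N10814 D25272
theorem N15006 : nd 15006 = n25273 := ndS (p := 10817) (l := 2) rfl N10817 D25273
theorem N15007 : nd 15007 = n25274 := ndS (p := 10819) (l := 2) rfl N10819 D25274
theorem N15008 : nd 15008 = n25275 := ndS (p := 10820) (l := 2) rfl N10820 D25275
theorem N15009 : nd 15009 = n25276 := ndS (p := 10821) (l := 3) rfl N10821 D25276
theorem N15010 : nd 15010 = n25277 := ndS (p := 10821) (l := 5) rfl N10821 D25277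
theorem N15011 : nd 15011 = n25278 := ndS (p := 10826) (l := 1) rfl N10826 D25278
theorem N15012 : nd 15012 = n25279 := ndS (p := 10827) (l := 6) rfl N10827 D25279
theorem N15013 : nd 15013 = n25280 := ndS (p := 10829) (l := 1) rfl N10829 D25280
theorem N15014 : nd 15014 = n25281 := ndS (p := 10830) (l := 2) rfl N10830 D25281
theorem N15015 : nd 15015 = n25282 := ndS (p := 10832) (l := 6) rfl N10832 D25282
theorem N15016 : nd 15016 = n25283 := ndS (p := 10834) (l := 1) rfl N10834 D25283
theorem N15017 : nd 15017 = n25284 := ndS (p := 10835) (l := 2) rfl N10835 D25284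
theorem N15018 : nd 15018 = n25285 := ndS (p := 10838) (l := 2) rfl N10838 D25285
theorem N15019 : nd 15019 = n25286 := ndS (p := 10840) (l := 2) rfl N10840 D25286
theorem N15020 : nd 15020 = n25287 := ndS (p := 10841) (l := 2) rfl N10841 D25287
theorem N15021 : nd 15021 = n25288 := ndS (p := 10842) (l := 3) rfl N10842 D25288
theorem N15022 : nd 15022 = n25289 := ndS (p := 10842) (l := 6) rfl N10842 D25289
theorem N15023 : nd 15023 = n25290 := ndS (p := 10847) (l := 3) rfl N10847 D25290
theorem N15024 : nd 15024 = n25291 := ndS (p := 10848) (l := 4) rfl N10848 D25291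
theorem N15025 : nd 15025 = n25292 := ndS (p := 10848) (l := 6) rfl N10848 D25292
theorem N15026 : nd 15026 = n25293 := ndS (p := 10849) (l := 1) rfl N10849 D25293
theorem N15027 : nd 15027 = n25294 := ndS (p := 10850) (l := 3) rfl N10850 D25294
theorem N15028 : nd 15028 = n25295 := ndS (p := 10851) (l := 4) rfl N10851 D25295
theorem N15029 : nd 15029 = n25296 := ndS (p := 10851) (l := 5) rfl N10851 D25296
theorem N15030 : nd 15030 = n25297 := ndS (p := 10852) (l := 1) rfl N10852 D25297
theorem N15031 : nd 15031 = n25298 := ndS (p := 10861) (l := 3) rfl N10861 D25298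
theorem N15032 : nd 15032 = n25299 := ndS (p := 10866) (l := 3) rfl N10866 D25299
theorem N15033 : nd 15033 = n25300 := ndS (p := 10867) (l := 2) rfl N10867 D25300
theorem N15034 : nd 15034 = n25301 := ndS (p := 10868) (l := 1) rfl N10868 D25301
theorem N15035 : nd 15035 = n25302 := ndS (p := 10868) (l := 3) rfl N10868 D25302
theorem N15036 : nd 15036 = n25303 := ndS (p := 10869) (l := 2) rfl N10869 D25303
theorem N15037 : nd 15037 = n25304 := ndS (p := 10869) (l := 4) rfl N10869 D25304
theorem N15038 : nd 15038 = n25305 := ndS (p := 10869) (l := 6) rfl N10869 D25305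
theorem N15039 : nd 15039 = n25306 := ndS (p := 10870) (l := 1) rfl N10870 D25306
theorem N15040 : nd 15040 = n25307 := ndS (p := 10871) (l := 2) rfl N10871 D25307
theorem N15041 : nd 15041 = n25308 := ndS (p := 10872) (l := 2) rfl N10872 D25308
theorem N15042 : nd 15042 = n25309 := ndS (p := 10873) (l := 3) rfl N10873 D25309
theorem N15043 : nd 15043 = n25310 := ndS (p := 10873) (l := 5) rfl N10873 D25310
theorem N15044 : nd 15044 = n25311 := ndS (p := 10874) (l := 6) rfl N10874 D25311
theorem N15045 : nd 15045 = n25312 := ndS (p := 10875) (l := 2) rfl N10875 D25312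
theorem N15046 : nd 15046 = n25313 := ndS (p := 10876) (l := 1) rfl N10876 D25313
theorem N15047 : nd 15047 = n25314 := ndS (p := 10876) (l := 3) rfl N10876 D25314
theorem N15048 : nd 15048 = n25315 := ndS (p := 10877) (l := 2) rfl N10877 D25315
theorem N15049 : nd 15049 = n25316 := ndS (p := 10877) (l := 4) rfl N10877 D25316
theorem N15050 : nd 15050 = n25317 := ndS (p := 10877) (l := 5) rfl N10877 D25317
theorem N15051 : nd 15051 = n25318 := ndS (p := 10878) (l := 1) rfl N10878 D25318
theorem N15052 : nd 15052 = n25319 := ndS (p := 10879) (l := 2) rfl N10879 D25319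
theorem N15053 : nd 15053 = n25320 := ndS (p := 10880) (l := 2) rfl N10880 D25320
theorem N15054 : nd 15054 = n25321 := ndS (p := 10881) (l := 3) rfl N10881 D25321
theorem N15055 : nd 15055 = n25322 := ndS (p := 10881) (l := 6) rfl N10881 D25322
theorem N15056 : nd 15056 = n25323 := ndS (p := 10882) (l := 5) rfl N10882 D25323
theorem N15057 : nd 15057 = n25324 := ndS (p := 10885) (l := 3) rfl N10885 D25324
theorem N15058 : nd 15058 = n25325 := ndS (p := 10886) (l := 3) rfl N10886 D25325
theorem N15059 : nd 15059 = n25326 := ndS (p := 10887) (l := 2) rfl N10887 D25326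
theorem N15060 : nd 15060 = n25327 := ndS (p := 10887) (l := 4) rfl N10887 D25327
theorem N15061 : nd 15061 = n25328 := ndS (p := 10887) (l := 5) rfl N10887 D25328
theorem N15062 : nd 15062 = n25329 := ndS (p := 10892) (l := 3) rfl N10892 D25329
theorem N15063 : nd 15063 = n25330 := ndS (p := 10893) (l := 3) rfl N10893 D25330
theorem N15064 : nd 15064 = n25331 := ndS (p := 10894) (l := 2) rfl N10894 D25331
theorem N15065 : nd 15065 = n25332 := ndS (p := 10894) (l := 4) rfl N10894 D25332
theorem N15066 : nd 15066 = n25333 := ndS (p := 10894) (l := 6) rfl N10894 D25333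
theorem N15067 : nd 15067 = n25334 := ndS (p := 10897) (l := 2) rfl N10897 D25334
theorem N15068 : nd 15068 = n25335 := ndS (p := 10901) (l := 1) rfl N10901 D25335
theorem N15069 : nd 15069 = n25336 := ndS (p := 10903) (l := 1) rfl N10903 D25336
theorem N15070 : nd 15070 = n25337 := ndS (p := 10904) (l := 3) rfl N10904 D25337
theorem N15071 : nd 15071 = n25338 := ndS (p := 10905) (l := 0) rfl N10905 D25338
theorem N15072 : nd 15072 = n25339 := ndS (p := 10905) (l := 2) rfl N10905 D25339
theorem N15073 : nd 15073 = n25340 := ndS (p := 10906) (l := 3) rfl N10906 D25340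
theorem N15074 : nd 15074 = n25341 := ndS (p := 10907) (l := 0) rfl N10907 D25341
theorem N15075 : nd 15075 = n25342 := ndS (p := 10907) (l := 2) rfl N10907 D25342
theorem N15076 : nd 15076 = n25343 := ndS (p := 10908) (l := 6) rfl N10908 D25343
theorem N15077 : nd 15077 = n25344 := ndS (p := 10911) (l := 5) rfl N10911 D25344
theorem N15078 : nd 15078 = n25345 := ndS (p := 10914) (l := 3) rfl N10914 D25345
theorem N15079 : nd 15079 = n25346 := ndS (p := 10914) (l := 6) rfl N10914 D25346
theorem N15080 : nd 15080 = n25348 := ndS (p := 10916) (l := 4) rfl N10916 D25348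
theorem N15081 : nd 15081 = n25349 := ndS (p := 10916) (l := 6) rfl N10916 D25349
theorem N15082 : nd 15082 = n25350 := ndS (p := 10917) (l := 1) rfl N10917 D25350
theorem N15083 : nd 15083 = n25351 := ndS (p := 10918) (l := 3) rfl N10918 D25351
theorem N15084 : nd 15084 = n25352 := ndS (p := 10918) (l := 5) rfl N10918 D25352
theorem N15085 : nd 15085 = n25354 := ndS (p := 10920) (l := 4) rfl N10920 D25354
theorem N15086 : nd 15086 = n25355 := ndS (p := 10920) (l := 5) rfl N10920 D25355
theorem N15087 : nd 15087 = n25356 := ndS (p := 10921) (l := 1) rfl N10921 D25356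
theorem N15088 : nd 15088 = n25357 := ndS (p := 10924) (l := 4) rfl N10924 D25357
theorem N15089 : nd 15089 = n25358 := ndS (p := 10924) (l := 6) rfl N10924 D25358
theorem N15090 : nd 15090 = n25359 := ndS (p := 10925) (l := 1) rfl N10925 D25359
theorem N15091 : nd 15091 = n25360 := ndS (p := 10927) (l := 6) rfl N10927 D25360
theorem N15092 : nd 15092 = n25361 := ndS (p := 10928) (l := 6) rfl N10928 D25361
theorem N15093 : nd 15093 = n25362 := ndS (p := 10929) (l := 1) rfl N10929 D25362
theorem N15094 : nd 15094 = n25363 := ndS (p := 10929) (l := 5) rfl N10929 D25363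
theorem N15095 : nd 15095 = n25364 := ndS (p := 10930) (l := 0) rfl N10930 D25364
theorem N15096 : nd 15096 = n25365 := ndS (p := 10930) (l := 5) rfl N10930 D25365
theorem N15097 : nd 15097 = n25366 := ndS (p := 10931) (l := 1) rfl N10931 D25366
theorem N15098 : nd 15098 = n25367 := ndS (p := 10934) (l := 4) rfl N10934 D25367
theorem N15099 : nd 15099 = n25368 := ndS (p := 10934) (l := 5) rfl N10934 D25368
theorem N15100 : nd 15100 = n25369 := ndS (p := 10935) (l := 1) rfl N10935 D25369
theorem N15101 : nd 15101 = n25370 := ndS (p := 10937) (l := 5) rfl N10937 D25370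
theorem N15102 : nd 15102 = n25371 := ndS (p := 10938) (l := 5) rfl N10938 D25371
theorem N15103 : nd 15103 = n25372 := ndS (p := 10939) (l := 1) rfl N10939 D25372
theorem N15104 : nd 15104 = n25373 := ndS (p := 10939) (l := 6) rfl N10939 D25373
theorem N15105 : nd 15105 = n25374 := ndS (p := 10940) (l := 0) rfl N10940 D25374
theorem N15106 : nd 15106 = n25375 := ndS (p := 10940) (l := 6) rfl N10940 D25375
theorem N15107 : nd 15107 = n25376 := ndS (p := 10941) (l := 1) rfl N10941 D25376
theorem N15108 : nd 15108 = n25377 := ndS (p := 10943) (l := 6) rfl N10943 D25377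
theorem N15109 : nd 15109 = n25378 := ndS (p := 10944) (l := 1) rfl N10944 D25378
theorem N15110 : nd 15110 = n25379 := ndS (p := 10945) (l := 2) rfl N10945 D25379
theorem N15111 : nd 15111 = n25380 := ndS (p := 10946) (l := 3) rfl N10946 D25380
theorem N15112 : nd 15112 = n25381 := ndS (p := 10947) (l := 6) rfl N10947 D25381
theorem N15113 : nd 15113 = n25382 := ndS (p := 10948) (l := 1) rfl N10948 D25382
theorem N15114 : nd 15114 = n25383 := ndS (p := 10948) (l := 5) rfl N10948 D25383
theorem N15115 : nd 15115 = n25384 := ndS (p := 10949) (l := 1) rfl N10949 D25384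
theorem N15116 : nd 15116 = n25385 := ndS (p := 10949) (l := 5) rfl N10949 D25385
theorem N15117 : nd 15117 = n25386 := ndS (p := 10950) (l := 2) rfl N10950 D25386
theorem N15118 : nd 15118 = n25387 := ndS (p := 10950) (l := 5) rfl N10950 D25387
theorem N15119 : nd 15119 = n25388 := ndS (p := 10951) (l := 1) rfl N10951 D25388
theorem N15120 : nd 15120 = n25389 := ndS (p := 10955) (l := 5) rfl N10955 D25389
theorem N15121 : nd 15121 = n25390 := ndS (p := 10956) (l := 1) rfl N10956 D25390
theorem N15122 : nd 15122 = n25391 := ndS (p := 10957) (l := 2) rfl N10957 D25391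
theorem N15123 : nd 15123 = n25392 := ndS (p := 10958) (l := 3) rfl N10958 D25392
theorem N15124 : nd 15124 = n25393 := ndS (p := 10959) (l := 5) rfl N10959 D25393
theorem N15125 : nd 15125 = n25394 := ndS (p := 10960) (l := 1) rfl N10960 D25394
theorem N15126 : nd 15126 = n25395 := ndS (p := 10960) (l := 6) rfl N10960 D25395
theorem N15127 : nd 15127 = n25396 := ndS (p := 10961) (l := 1) rfl N10961 D25396
theorem N15128 : nd 15128 = n25397 := ndS (p := 10961) (l := 6) rfl N10961 D25397
theorem N15129 : nd 15129 = n25398 := ndS (p := 10962) (l := 2) rfl N10962 D25398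
theorem N15130 : nd 15130 = n25399 := ndS (p := 10962) (l := 6) rfl N10962 D25399
theorem N15131 : nd 15131 = n25400 := ndS (p := 10963) (l := 1) rfl N10963 D25400
theorem N15132 : nd 15132 = n25401 := ndS (p := 10966) (l := 1) rfl N10966 D25401
theorem N15133 : nd 15133 = n25402 := ndS (p := 10967) (l := 1) rfl N10967 D25402
theorem N15134 : nd 15134 = n25403 := ndS (p := 10969) (l := 3) rfl N10969 D25403
theorem N15135 : nd 15135 = n25404 := ndS (p := 10970) (l := 0) rfl N10970 D25404
theorem N15136 : nd 15136 = n25405 := ndS (p := 10970) (l := 2) rfl N10970 D25405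
theorem N15137 : nd 15137 = n25406 := ndS (p := 10971) (l := 1) rfl N10971 D25406
theorem N15138 : nd 15138 = n25407 := ndS (p := 10971) (l := 3) rfl N10971 D25407
theorem N15139 : nd 15139 = n25408 := ndS (p := 10972) (l := 2) rfl N10972 D25408
theorem N15140 : nd 15140 = n25409 := ndS (p := 10972) (l := 4) rfl N10972 D25409
theorem N15141 : nd 15141 = n25410 := ndS (p := 10974) (l := 3) rfl N10974 D25410
theorem N15142 : nd 15142 = n25411 := ndS (p := 10975) (l := 0) rfl N10975 D25411
theorem N15143 : nd 15143 = n25412 := ndS (p := 10975) (l := 2) rfl N10975 D25412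
theorem N15144 : nd 15144 = n25413 := ndS (p := 10976) (l := 1) rfl N10976 D25413
theorem N15145 : nd 15145 = n25414 := ndS (p := 10976) (l := 3) rfl N10976 D25414
theorem N15146 : nd 15146 = n25415 := ndS (p := 10977) (l := 2) rfl N10977 D25415
theorem N15147 : nd 15147 = n25416 := ndS (p := 10977) (l := 4) rfl N10977 D25416
theorem N15148 : nd 15148 = n25417 := ndS (p := 10978) (l := 6) rfl N10978 D25417
theorem N15149 : nd 15149 = n25418 := ndS (p := 10979) (l := 1) rfl N10979 D25418
theorem N15150 : nd 15150 = n25419 := ndS (p := 10979) (l := 5) rfl N10979 D25419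
theorem N15151 : nd 15151 = n25420 := ndS (p := 10982) (l := 1) rfl N10982 D25420
theorem N15152 : nd 15152 = n25421 := ndS (p := 10984) (l := 1) rfl N10984 D25421
theorem N15153 : nd 15153 = n25422 := ndS (p := 10984) (l := 2) rfl N10984 D25422
theorem N15154 : nd 15154 = n25423 := ndS (p := 10985) (l := 3) rfl N10985 D25423
theorem N15155 : nd 15155 = n25424 := ndS (p := 10987) (l := 2) rfl N10987 D25424
theorem N15156 : nd 15156 = n25425 := ndS (p := 10987) (l := 6) rfl N10987 D25425
theorem N15157 : nd 15157 = n25426 := ndS (p := 10988) (l := 1) rfl N10988 D25426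
theorem N15158 : nd 15158 = n25427 := ndS (p := 10988) (l := 3) rfl N10988 D25427
theorem N15159 : nd 15159 = n25428 := ndS (p := 10989) (l := 2) rfl N10989 D25428
theorem N15160 : nd 15160 = n25429 := ndS (p := 10989) (l := 4) rfl N10989 D25429
theorem N15161 : nd 15161 = n25430 := ndS (p := 10989) (l := 5) rfl N10989 D25430
theorem N15162 : nd 15162 = n25431 := ndS (p := 10990) (l := 1) rfl N10990 D25431
theorem N15163 : nd 15163 = n25432 := ndS (p := 10991) (l := 1) rfl N10991 D25432
theorem N15164 : nd 15164 = n25433 := ndS (p := 10991) (l := 6) rfl N10991 D25433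
theorem N15165 : nd 15165 = n25434 := ndS (p := 10993) (l := 0) rfl N10993 D25434
theorem N15166 : nd 15166 = n25435 := ndS (p := 10993) (l := 3) rfl N10993 D25435
theorem N15167 : nd 15167 = n25436 := ndS (p := 10993) (l := 5) rfl N10993 D25436
theorem N15168 : nd 15168 = n25437 := ndS (p := 10993) (l := 6) rfl N10993 D25437
theorem N15169 : nd 15169 = n25438 := ndS (p := 10994) (l := 4) rfl N10994 D25438
theorem N15170 : nd 15170 = n25439 := ndS (p := 10994) (l := 5) rfl N10994 D25439
theorem N15171 : nd 15171 = n25440 := ndS (p := 10995) (l := 1) rfl N10995 D25440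
theorem N15172 : nd 15172 = n25441 := ndS (p := 10996) (l := 1) rfl N10996 D25441
theorem N15173 : nd 15173 = n25442 := ndS (p := 10996) (l := 4) rfl N10996 D25442
theorem N15174 : nd 15174 = n25443 := ndS (p := 10996) (l := 5) rfl N10996 D25443
theorem N15175 : nd 15175 = n25444 := ndS (p := 10997) (l := 5) rfl N10997 D25444
theorem N15176 : nd 15176 = n25445 := ndS (p := 10998) (l := 1) rfl N10998 D25445
theorem N15177 : nd 15177 = n25446 := ndS (p := 10998) (l := 6) rfl N10998 D25446
theorem N15178 : nd 15178 = n25447 := ndS (p := 10999) (l := 0) rfl N10999 D25447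
theorem N15179 : nd 15179 = n25448 := ndS (p := 10999) (l := 6) rfl N10999 D25448
theorem N15180 : nd 15180 = n25449 := ndS (p := 11000) (l := 1) rfl N11000 D25449
theorem N15181 : nd 15181 = n25450 := ndS (p := 11001) (l := 2) rfl N11001 D25450
theorem N15182 : nd 15182 = n25451 := ndS (p := 11002) (l := 1) rfl N11002 D25451
theorem N15183 : nd 15183 = n25452 := ndS (p := 11002) (l := 6) rfl N11002 D25452
theorem N15184 : nd 15184 = n25453 := ndS (p := 11003) (l := 5) rfl N11003 D25453
theorem N15185 : nd 15185 = n25454 := ndS (p := 11006) (l := 1) rfl N11006 D25454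
theorem N15186 : nd 15186 = n25455 := ndS (p := 11008) (l := 1) rfl N11008 D25455
theorem N15187 : nd 15187 = n25456 := ndS (p := 11008) (l := 2) rfl N11008 D25456
theorem N15188 : nd 15188 = n25457 := ndS (p := 11009) (l := 3) rfl N11009 D25457
theorem N15189 : nd 15189 = n25458 := ndS (p := 11011) (l := 2) rfl N11011 D25458
theorem N15190 : nd 15190 = n25459 := ndS (p := 11011) (l := 5) rfl N11011 D25459
theorem N15191 : nd 15191 = n25460 := ndS (p := 11012) (l := 1) rfl N11012 D25460
theorem N15192 : nd 15192 = n25461 := ndS (p := 11012) (l := 3) rfl N11012 D25461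
theorem N15193 : nd 15193 = n25462 := ndS (p := 11013) (l := 2) rfl N11013 D25462
theorem N15194 : nd 15194 = n25463 := ndS (p := 11013) (l := 4) rfl N11013 D25463
theorem N15195 : nd 15195 = n25464 := ndS (p := 11013) (l := 6) rfl N11013 D25464
theorem N15196 : nd 15196 = n25465 := ndS (p := 11014) (l := 1) rfl N11014 D25465
theorem N15197 : nd 15197 = n25466 := ndS (p := 11015) (l := 1) rfl N11015 D25466
theorem N15198 : nd 15198 = n25467 := ndS (p := 11015) (l := 5) rfl N11015 D25467
theorem N15199 : nd 15199 = n25468 := ndS (p := 11017) (l := 0) rfl N11017 D25468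
theorem N15200 : nd 15200 = n25469 := ndS (p := 11017) (l := 3) rfl N11017 D25469
theorem N15201 : nd 15201 = n25470 := ndS (p := 11017) (l := 5) rfl N11017 D25470
theorem N15202 : nd 15202 = n25471 := ndS (p := 11017) (l := 6) rfl N11017 D25471
theorem N15203 : nd 15203 = n25472 := ndS (p := 11018) (l := 4) rfl N11018 D25472
theorem N15204 : nd 15204 = n25473 := ndS (p := 11018) (l := 6) rfl N11018 D25473
theorem N15205 : nd 15205 = n25474 := ndS (p := 11019) (l := 1) rfl N11019 D25474
theorem N15206 : nd 15206 = n25475 := ndS (p := 11020) (l := 1) rfl N11020 D25475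
theorem N15207 : nd 15207 = n25476 := ndS (p := 11020) (l := 4) rfl N11020 D25476
theorem N15208 : nd 15208 = n25477 := ndS (p := 11020) (l := 6) rfl N11020 D25477
theorem N15209 : nd 15209 = n25478 := ndS (p := 11021) (l := 6) rfl N11021 D25478
theorem N15210 : nd 15210 = n25479 := ndS (p := 11022) (l := 1) rfl N11022 D25479
theorem N15211 : nd 15211 = n25480 := ndS (p := 11022) (l := 5) rfl N11022 D25480
theorem N15212 : nd 15212 = n25481 := ndS (p := 11023) (l := 0) rfl N11023 D25481
theorem N15213 : nd 15213 = n25482 := ndS (p := 11023) (l := 5) rfl N11023 D25482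
theorem N15214 : nd 15214 = n25483 := ndS (p := 11024) (l := 1) rfl N11024 D25483
theorem N15215 : nd 15215 = n25484 := ndS (p := 11025) (l := 2) rfl N11025 D25484
theorem N15216 : nd 15216 = n25485 := ndS (p := 11030) (l := 1) rfl N11030 D25485
theorem N15217 : nd 15217 = n25486 := ndS (p := 11032) (l := 1) rfl N11032 D25486
theorem N15218 : nd 15218 = n25487 := ndS (p := 11033) (l := 2) rfl N11033 D25487
theorem N15219 : nd 15219 = n25488 := ndS (p := 11034) (l := 2) rfl N11034 D25488
theorem N15220 : nd 15220 = n25489 := ndS (p := 11034) (l := 5) rfl N11034 D25489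
theorem N15221 : nd 15221 = n25490 := ndS (p := 11035) (l := 3) rfl N11035 D25490
theorem N15222 : nd 15222 = n25491 := ndS (p := 11035) (l := 5) rfl N11035 D25491
theorem N15223 : nd 15223 = n25492 := ndS (p := 11037) (l := 2) rfl N11037 D25492
theorem N15224 : nd 15224 = n25493 := ndS (p := 11037) (l := 4) rfl N11037 D25493
theorem N15225 : nd 15225 = n25494 := ndS (p := 11037) (l := 5) rfl N11037 D25494
theorem N15226 : nd 15226 = n25495 := ndS (p := 11038) (l := 1) rfl N11038 D25495
theorem N15227 : nd 15227 = n25496 := ndS (p := 11039) (l := 3) rfl N11039 D25496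
theorem N15228 : nd 15228 = n25497 := ndS (p := 11041) (l := 3) rfl N11041 D25497
theorem N15229 : nd 15229 = n25498 := ndS (p := 11041) (l := 5) rfl N11041 D25498
theorem N15230 : nd 15230 = n25499 := ndS (p := 11041) (l := 6) rfl N11041 D25499
theorem N15231 : nd 15231 = n25500 := ndS (p := 11042) (l := 2) rfl N11042 D25500
theorem N15232 : nd 15232 = n25501 := ndS (p := 11042) (l := 4) rfl N11042 D25501
theorem N15233 : nd 15233 = n25502 := ndS (p := 11043) (l := 1) rfl N11043 D25502
theorem N15234 : nd 15234 = n25503 := ndS (p := 11043) (l := 3) rfl N11043 D25503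
theorem N15235 : nd 15235 = n25504 := ndS (p := 11043) (l := 4) rfl N11043 D25504
theorem N15236 : nd 15236 = n25505 := ndS (p := 11043) (l := 5) rfl N11043 D25505
theorem N15237 : nd 15237 = n25506 := ndS (p := 11044) (l := 5) rfl N11044 D25506
theorem N15238 : nd 15238 = n25507 := ndS (p := 11045) (l := 1) rfl N11045 D25507
theorem N15239 : nd 15239 = n25508 := ndS (p := 11046) (l := 0) rfl N11046 D25508
theorem N15240 : nd 15240 = n25509 := ndS (p := 11047) (l := 1) rfl N11047 D25509
theorem N15241 : nd 15241 = n25510 := ndS (p := 11047) (l := 3) rfl N11047 D25510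
theorem N15242 : nd 15242 = n25511 := ndS (p := 11047) (l := 6) rfl N11047 D25511
theorem N15243 : nd 15243 = n25512 := ndS (p := 11048) (l := 2) rfl N11048 D25512
theorem N15244 : nd 15244 = n25513 := ndS (p := 11048) (l := 4) rfl N11048 D25513
theorem N15245 : nd 15245 = n25514 := ndS (p := 11048) (l := 5) rfl N11048 D25514
theorem N15246 : nd 15246 = n25515 := ndS (p := 11048) (l := 6) rfl N11048 D25515
theorem N15247 : nd 15247 = n25516 := ndS (p := 11049) (l := 1) rfl N11049 D25516
theorem N15248 : nd 15248 = n25517 := ndS (p := 11051) (l := 1) rfl N11051 D25517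
theorem N15249 : nd 15249 = n25518 := ndS (p := 11051) (l := 4) rfl N11051 D25518
theorem N15250 : nd 15250 = n25519 := ndS (p := 11051) (l := 5) rfl N11051 D25519
theorem N15251 : nd 15251 = n25520 := ndS (p := 11052) (l := 5) rfl N11052 D25520
theorem N15252 : nd 15252 = n25521 := ndS (p := 11053) (l := 1) rfl N11053 D25521
theorem N15253 : nd 15253 = n25522 := ndS (p := 11054) (l := 0) rfl N11054 D25522
theorem N15254 : nd 15254 = n25523 := ndS (p := 11054) (l := 6) rfl N11054 D25523
theorem N15255 : nd 15255 = n25529 := ndS (p := 11055) (l := 4) rfl N11055 D25529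
theorem N15256 : nd 15256 = n25530 := ndS (p := 11055) (l := 5) rfl N11055 D25530
theorem N15257 : nd 15257 = n25531 := ndS (p := 11056) (l := 3) rfl N11056 D25531
theorem N15258 : nd 15258 = n25532 := ndS (p := 11056) (l := 5) rfl N11056 D25532
theorem N15259 : nd 15259 = n25533 := ndS (p := 11057) (l := 1) rfl N11057 D25533
theorem N15260 : nd 15260 = n25534 := ndS (p := 11057) (l := 6) rfl N11057 D25534
theorem N15261 : nd 15261 = n25535 := ndS (p := 11058) (l := 1) rfl N11058 D25535
theorem N15262 : nd 15262 = n25536 := ndS (p := 11058) (l := 6) rfl N11058 D25536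
theorem N15263 : nd 15263 = n25537 := ndS (p := 11059) (l := 2) rfl N11059 D25537
theorem N15264 : nd 15264 = n25538 := ndS (p := 11059) (l := 6) rfl N11059 D25538
theorem N15265 : nd 15265 = n25539 := ndS (p := 11060) (l := 1) rfl N11060 D25539
theorem N15266 : nd 15266 = n25540 := ndS (p := 11061) (l := 1) rfl N11061 D25540
theorem N15267 : nd 15267 = n25541 := ndS (p := 11062) (l := 0) rfl N11062 D25541
theorem N15268 : nd 15268 = n25542 := ndS (p := 11062) (l := 2) rfl N11062 D25542
theorem N15269 : nd 15269 = n25543 := ndS (p := 11069) (l := 1) rfl N11069 D25543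
theorem N15270 : nd 15270 = n25544 := ndS (p := 11070) (l := 1) rfl N11070 D25544
theorem N15271 : nd 15271 = n25545 := ndS (p := 11071) (l := 2) rfl N11071 D25545
theorem N15272 : nd 15272 = n25546 := ndS (p := 11072) (l := 2) rfl N11072 D25546
theorem N15273 : nd 15273 = n25547 := ndS (p := 11072) (l := 6) rfl N11072 D25547
theorem N15274 : nd 15274 = n25548 := ndS (p := 11073) (l := 3) rfl N11073 D25548
theorem N15275 : nd 15275 = n25549 := ndS (p := 11073) (l := 6) rfl N11073 D25549
theorem N15276 : nd 15276 = n25550 := ndS (p := 11075) (l := 2) rfl N11075 D25550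
theorem N15277 : nd 15277 = n25551 := ndS (p := 11075) (l := 4) rfl N11075 D25551
theorem N15278 : nd 15278 = n25552 := ndS (p := 11075) (l := 6) rfl N11075 D25552
theorem N15279 : nd 15279 = n25553 := ndS (p := 11076) (l := 1) rfl N11076 D25553
theorem N15280 : nd 15280 = n25554 := ndS (p := 11077) (l := 3) rfl N11077 D25554
theorem N15281 : nd 15281 = n25555 := ndS (p := 11079) (l := 3) rfl N11079 D25555
theorem N15282 : nd 15282 = n25556 := ndS (p := 11079) (l := 5) rfl N11079 D25556
theorem N15283 : nd 15283 = n25557 := ndS (p := 11079) (l := 6) rfl N11079 D25557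
theorem N15284 : nd 15284 = n25558 := ndS (p := 11080) (l := 2) rfl N11080 D25558
theorem N15285 : nd 15285 = n25559 := ndS (p := 11080) (l := 4) rfl N11080 D25559
theorem N15286 : nd 15286 = n25560 := ndS (p := 11081) (l := 1) rfl N11081 D25560
theorem N15287 : nd 15287 = n25561 := ndS (p := 11081) (l := 3) rfl N11081 D25561
theorem N15288 : nd 15288 = n25562 := ndS (p := 11081) (l := 4) rfl N11081 D25562
theorem N15289 : nd 15289 = n25563 := ndS (p := 11081) (l := 6) rfl N11081 D25563
theorem N15290 : nd 15290 = n25564 := ndS (p := 11082) (l := 6) rfl N11082 D25564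
theorem N15291 : nd 15291 = n25565 := ndS (p := 11083) (l := 1) rfl N11083 D25565
theorem N15292 : nd 15292 = n25566 := ndS (p := 11084) (l := 0) rfl N11084 D25566
theorem N15293 : nd 15293 = n25567 := ndS (p := 11085) (l := 1) rfl N11085 D25567
theorem N15294 : nd 15294 = n25568 := ndS (p := 11085) (l := 3) rfl N11085 D25568
theorem N15295 : nd 15295 = n25569 := ndS (p := 11085) (l := 5) rfl N11085 D25569
theorem N15296 : nd 15296 = n25570 := ndS (p := 11086) (l := 2) rfl N11086 D25570
theorem N15297 : nd 15297 = n25571 := ndS (p := 11086) (l := 4) rfl N11086 D25571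
theorem N15298 : nd 15298 = n25572 := ndS (p := 11086) (l := 5) rfl N11086 D25572
theorem N15299 : nd 15299 = n25573 := ndS (p := 11086) (l := 6) rfl N11086 D25573
theorem N15300 : nd 15300 = n25574 := ndS (p := 11088) (l := 1) rfl N11088 D25574
theorem N15301 : nd 15301 = n25575 := ndS (p := 11089) (l := 1) rfl N11089 D25575
theorem N15302 : nd 15302 = n25576 := ndS (p := 11089) (l := 4) rfl N11089 D25576
theorem N15303 : nd 15303 = n25577 := ndS (p := 11089) (l := 6) rfl N11089 D25577
theorem N15304 : nd 15304 = n25578 := ndS (p := 11090) (l := 6) rfl N11090 D25578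
theorem N15305 : nd 15305 = n25579 := ndS (p := 11091) (l := 1) rfl N11091 D25579
theorem N15306 : nd 15306 = n25580 := ndS (p := 11092) (l := 0) rfl N11092 D25580
theorem N15307 : nd 15307 = n25581 := ndS (p := 11092) (l := 5) rfl N11092 D25581
theorem N15308 : nd 15308 = n25587 := ndS (p := 11093) (l := 4) rfl N11093 D25587
theorem N15309 : nd 15309 = n25588 := ndS (p := 11093) (l := 6) rfl N11093 D25588
theorem N15310 : nd 15310 = n25589 := ndS (p := 11094) (l := 3) rfl N11094 D25589
theorem N15311 : nd 15311 = n25590 := ndS (p := 11094) (l := 6) rfl N11094 D25590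
theorem N15312 : nd 15312 = n25591 := ndS (p := 11095) (l := 1) rfl N11095 D25591
theorem N15313 : nd 15313 = n25592 := ndS (p := 11095) (l := 5) rfl N11095 D25592
theorem N15314 : nd 15314 = n25593 := ndS (p := 11096) (l := 1) rfl N11096 D25593
theorem N15315 : nd 15315 = n25594 := ndS (p := 11096) (l := 5) rfl N11096 D25594
theorem N15316 : nd 15316 = n25595 := ndS (p := 11097) (l := 2) rfl N11097 D25595
theorem N15317 : nd 15317 = n25596 := ndS (p := 11097) (l := 5) rfl N11097 D25596
theorem N15318 : nd 15318 = n25597 := ndS (p := 11098) (l := 1) rfl N11098 D25597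
theorem N15319 : nd 15319 = n25598 := ndS (p := 11099) (l := 1) rfl N11099 D25598
theorem N15320 : nd 15320 = n25599 := ndS (p := 11100) (l := 0) rfl N11100 D25599
theorem N15321 : nd 15321 = n25600 := ndS (p := 11100) (l := 2) rfl N11100 D25600
theorem N15322 : nd 15322 = n25601 := ndS (p := 11102) (l := 2) rfl N11102 D25601
theorem N15323 : nd 15323 = n25602 := ndS (p := 11103) (l := 2) rfl N11103 D25602
theorem N15324 : nd 15324 = n25603 := ndS (p := 11104) (l := 3) rfl N11104 D25603
theorem N15325 : nd 15325 = n25604 := ndS (p := 11104) (l := 5) rfl N11104 D25604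
theorem N15326 : nd 15326 = n25605 := ndS (p := 11106) (l := 2) rfl N11106 D25605
theorem N15327 : nd 15327 = n25606 := ndS (p := 11108) (l := 1) rfl N11108 D25606
theorem N15328 : nd 15328 = n25607 := ndS (p := 11109) (l := 2) rfl N11109 D25607
theorem N15329 : nd 15329 = n25608 := ndS (p := 11110) (l := 0) rfl N11110 D25608
theorem N15330 : nd 15330 = n25609 := ndS (p := 11110) (l := 2) rfl N11110 D25609
theorem N15331 : nd 15331 = n25610 := ndS (p := 11111) (l := 2) rfl N11111 D25610
theorem N15332 : nd 15332 = n25611 := ndS (p := 11111) (l := 5) rfl N11111 D25611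
theorem N15333 : nd 15333 = n25612 := ndS (p := 11112) (l := 3) rfl N11112 D25612
theorem N15334 : nd 15334 = n25613 := ndS (p := 11112) (l := 5) rfl N11112 D25613
theorem N15335 : nd 15335 = n25614 := ndS (p := 11115) (l := 3) rfl N11115 D25614
theorem N15336 : nd 15336 = n25615 := ndS (p := 11115) (l := 5) rfl N11115 D25615
theorem N15337 : nd 15337 = n25616 := ndS (p := 11117) (l := 2) rfl N11117 D25616
theorem N15338 : nd 15338 = n25617 := ndS (p := 11117) (l := 4) rfl N11117 D25617
theorem N15339 : nd 15339 = n25618 := ndS (p := 11117) (l := 5) rfl N11117 D25618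
theorem N15340 : nd 15340 = n25619 := ndS (p := 11118) (l := 1) rfl N11118 D25619
theorem N15341 : nd 15341 = n25620 := ndS (p := 11119) (l := 6) rfl N11119 D25620
theorem N15342 : nd 15342 = n25621 := ndS (p := 11120) (l := 6) rfl N11120 D25621
theorem N15343 : nd 15343 = n25622 := ndS (p := 11121) (l := 1) rfl N11121 D25622
theorem N15344 : nd 15344 = n25623 := ndS (p := 11121) (l := 5) rfl N11121 D25623
theorem N15345 : nd 15345 = n25624 := ndS (p := 11122) (l := 1) rfl N11122 D25624
theorem N15346 : nd 15346 = n25625 := ndS (p := 11123) (l := 0) rfl N11123 D25625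
theorem N15347 : nd 15347 = n25626 := ndS (p := 11123) (l := 2) rfl N11123 D25626
theorem N15348 : nd 15348 = n25627 := ndS (p := 11123) (l := 5) rfl N11123 D25627
theorem N15349 : nd 15349 = n25628 := ndS (p := 11124) (l := 2) rfl N11124 D25628
theorem N15350 : nd 15350 = n25629 := ndS (p := 11124) (l := 5) rfl N11124 D25629
theorem N15351 : nd 15351 = n25630 := ndS (p := 11125) (l := 3) rfl N11125 D25630
theorem N15352 : nd 15352 = n25631 := ndS (p := 11125) (l := 5) rfl N11125 D25631
theorem N15353 : nd 15353 = n25632 := ndS (p := 11127) (l := 2) rfl N11127 D25632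
theorem N15354 : nd 15354 = n25633 := ndS (p := 11128) (l := 2) rfl N11128 D25633
theorem N15355 : nd 15355 = n25634 := ndS (p := 11128) (l := 4) rfl N11128 D25634
theorem N15356 : nd 15356 = n25635 := ndS (p := 11128) (l := 5) rfl N11128 D25635
theorem N15357 : nd 15357 = n25636 := ndS (p := 11129) (l := 1) rfl N11129 D25636
theorem N15358 : nd 15358 = n25637 := ndS (p := 11130) (l := 2) rfl N11130 D25637
theorem N15359 : nd 15359 = n25638 := ndS (p := 11131) (l := 2) rfl N11131 D25638
theorem N15360 : nd 15360 = n25639 := ndS (p := 11131) (l := 6) rfl N11131 D25639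
theorem N15361 : nd 15361 = n25640 := ndS (p := 11132) (l := 3) rfl N11132 D25640
theorem N15362 : nd 15362 = n25641 := ndS (p := 11132) (l := 6) rfl N11132 D25641
theorem N15363 : nd 15363 = n25642 := ndS (p := 11134) (l := 2) rfl N11134 D25642
theorem N15364 : nd 15364 = n25643 := ndS (p := 11135) (l := 1) rfl N11135 D25643
theorem N15365 : nd 15365 = n25644 := ndS (p := 11135) (l := 3) rfl N11135 D25644
theorem N15366 : nd 15366 = n25645 := ndS (p := 11135) (l := 5) rfl N11135 D25645
theorem N15367 : nd 15367 = n25646 := ndS (p := 11135) (l := 6) rfl N11135 D25646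
theorem N15368 : nd 15368 = n25647 := ndS (p := 11138) (l := 0) rfl N11138 D25647
theorem N15369 : nd 15369 = n25648 := ndS (p := 11138) (l := 3) rfl N11138 D25648
theorem N15370 : nd 15370 = n25649 := ndS (p := 11138) (l := 5) rfl N11138 D25649
theorem N15371 : nd 15371 = n25650 := ndS (p := 11138) (l := 6) rfl N11138 D25650
theorem N15372 : nd 15372 = n25651 := ndS (p := 11139) (l := 4) rfl N11139 D25651
theorem N15373 : nd 15373 = n25652 := ndS (p := 11140) (l := 1) rfl N11140 D25652
theorem N15374 : nd 15374 = n25653 := ndS (p := 11140) (l := 4) rfl N11140 D25653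
theorem N15375 : nd 15375 = n25654 := ndS (p := 11140) (l := 5) rfl N11140 D25654
theorem N15376 : nd 15376 = n25655 := ndS (p := 11141) (l := 5) rfl N11141 D25655
theorem N15377 : nd 15377 = n25656 := ndS (p := 11142) (l := 1) rfl N11142 D25656
theorem N15378 : nd 15378 = n25657 := ndS (p := 11143) (l := 0) rfl N11143 D25657
theorem N15379 : nd 15379 = n25658 := ndS (p := 11143) (l := 2) rfl N11143 D25658
theorem N15380 : nd 15380 = n25660 := ndS (p := 11144) (l := 2) rfl N11144 D25660
theorem N15381 : nd 15381 = n25661 := ndS (p := 11145) (l := 3) rfl N11145 D25661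
theorem N15382 : nd 15382 = n25662 := ndS (p := 11145) (l := 6) rfl N11145 D25662
theorem N15383 : nd 15383 = n25663 := ndS (p := 11147) (l := 1) rfl N11147 D25663
theorem N15384 : nd 15384 = n25664 := ndS (p := 11147) (l := 3) rfl N11147 D25664
theorem N15385 : nd 15385 = n25665 := ndS (p := 11147) (l := 6) rfl N11147 D25665
theorem N15386 : nd 15386 = n25666 := ndS (p := 11149) (l := 2) rfl N11149 D25666
theorem N15387 : nd 15387 = n25667 := ndS (p := 11149) (l := 4) rfl N11149 D25667
theorem N15388 : nd 15388 = n25668 := ndS (p := 11149) (l := 6) rfl N11149 D25668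
theorem N15389 : nd 15389 = n25669 := ndS (p := 11150) (l := 1) rfl N11150 D25669
theorem N15390 : nd 15390 = n25670 := ndS (p := 11150) (l := 5) rfl N11150 D25670
theorem N15391 : nd 15391 = n25671 := ndS (p := 11152) (l := 2) rfl N11152 D25671
theorem N15392 : nd 15392 = n25672 := ndS (p := 11154) (l := 1) rfl N11154 D25672
theorem N15393 : nd 15393 = n25673 := ndS (p := 11154) (l := 3) rfl N11154 D25673
theorem N15394 : nd 15394 = n25674 := ndS (p := 11154) (l := 5) rfl N11154 D25674
theorem N15395 : nd 15395 = n25675 := ndS (p := 11154) (l := 6) rfl N11154 D25675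
theorem N15396 : nd 15396 = n25676 := ndS (p := 11155) (l := 2) rfl N11155 D25676
theorem N15397 : nd 15397 = n25677 := ndS (p := 11155) (l := 4) rfl N11155 D25677
theorem N15398 : nd 15398 = n25678 := ndS (p := 11155) (l := 5) rfl N11155 D25678
theorem N15399 : nd 15399 = n25679 := ndS (p := 11155) (l := 6) rfl N11155 D25679
theorem N15400 : nd 15400 = n25680 := ndS (p := 11156) (l := 1) rfl N11156 D25680
theorem N15401 : nd 15401 = n25681 := ndS (p := 11156) (l := 6) rfl N11156 D25681
theorem N15402 : nd 15402 = n25682 := ndS (p := 11157) (l := 5) rfl N11157 D25682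
theorem N15403 : nd 15403 = n25683 := ndS (p := 11158) (l := 5) rfl N11158 D25683
theorem N15404 : nd 15404 = n25684 := ndS (p := 11159) (l := 1) rfl N11159 D25684
theorem N15405 : nd 15405 = n25685 := ndS (p := 11160) (l := 0) rfl N11160 D25685
theorem N15406 : nd 15406 = n25686 := ndS (p := 11160) (l := 2) rfl N11160 D25686
theorem N15407 : nd 15407 = n25687 := ndS (p := 11160) (l := 6) rfl N11160 D25687
theorem N15408 : nd 15408 = n25688 := ndS (p := 11161) (l := 3) rfl N11161 D25688
theorem N15409 : nd 15409 = n25689 := ndS (p := 11162) (l := 0) rfl N11162 D25689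
theorem N15410 : nd 15410 = n25690 := ndS (p := 11162) (l := 4) rfl N11162 D25690
theorem N15411 : nd 15411 = n25691 := ndS (p := 11162) (l := 5) rfl N11162 D25691
theorem N15412 : nd 15412 = n25692 := ndS (p := 11162) (l := 6) rfl N11162 D25692
theorem N15413 : nd 15413 = n25693 := ndS (p := 11163) (l := 3) rfl N11163 D25693
theorem N15414 : nd 15414 = n25694 := ndS (p := 11163) (l := 5) rfl N11163 D25694
theorem N15415 : nd 15415 = n25695 := ndS (p := 11164) (l := 1) rfl N11164 D25695
theorem N15416 : nd 15416 = n25696 := ndS (p := 11164) (l := 6) rfl N11164 D25696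
theorem N15417 : nd 15417 = n25697 := ndS (p := 11165) (l := 1) rfl N11165 D25697
theorem N15418 : nd 15418 = n25698 := ndS (p := 11165) (l := 6) rfl N11165 D25698
theorem N15419 : nd 15419 = n25699 := ndS (p := 11166) (l := 2) rfl N11166 D25699
theorem N15420 : nd 15420 = n25700 := ndS (p := 11166) (l := 6) rfl N11166 D25700
theorem N15421 : nd 15421 = n25701 := ndS (p := 11167) (l := 1) rfl N11167 D25701
theorem N15422 : nd 15422 = n25702 := ndS (p := 11168) (l := 1) rfl N11168 D25702
theorem N15423 : nd 15423 = n25703 := ndS (p := 11169) (l := 0) rfl N11169 D25703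
theorem N15424 : nd 15424 = n25704 := ndS (p := 11169) (l := 2) rfl N11169 D25704
theorem N15425 : nd 15425 = n25705 := ndS (p := 11170) (l := 2) rfl N11170 D25705
theorem N15426 : nd 15426 = n25706 := ndS (p := 11171) (l := 3) rfl N11171 D25706
theorem N15427 : nd 15427 = n25707 := ndS (p := 11171) (l := 5) rfl N11171 D25707
theorem N15428 : nd 15428 = n25708 := ndS (p := 11173) (l := 2) rfl N11173 D25708
theorem N15429 : nd 15429 = n25709 := ndS (p := 11174) (l := 3) rfl N11174 D25709
theorem N15430 : nd 15430 = n25710 := ndS (p := 11174) (l := 6) rfl N11174 D25710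
theorem N15431 : nd 15431 = n25711 := ndS (p := 11176) (l := 2) rfl N11176 D25711
theorem N15432 : nd 15432 = n25712 := ndS (p := 11178) (l := 2) rfl N11178 D25712
theorem N15433 : nd 15433 = n25713 := ndS (p := 11179) (l := 1) rfl N11179 D25713
theorem N15434 : nd 15434 = n25714 := ndS (p := 11180) (l := 0) rfl N11180 D25714
theorem N15435 : nd 15435 = n25715 := ndS (p := 11180) (l := 2) rfl N11180 D25715
theorem N15436 : nd 15436 = n25716 := ndS (p := 11181) (l := 2) rfl N11181 D25716
theorem N15437 : nd 15437 = n25717 := ndS (p := 11181) (l := 6) rfl N11181 D25717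
theorem N15438 : nd 15438 = n25718 := ndS (p := 11182) (l := 3) rfl N11182 D25718
theorem N15439 : nd 15439 = n25719 := ndS (p := 11182) (l := 6) rfl N11182 D25719
theorem N15440 : nd 15440 = n25720 := ndS (p := 11185) (l := 3) rfl N11185 D25720
theorem N15441 : nd 15441 = n25721 := ndS (p := 11186) (l := 2) rfl N11186 D25721
theorem N15442 : nd 15442 = n25722 := ndS (p := 11186) (l := 4) rfl N11186 D25722
theorem N15443 : nd 15443 = n25723 := ndS (p := 11186) (l := 6) rfl N11186 D25723
theorem N15444 : nd 15444 = n25724 := ndS (p := 11187) (l := 1) rfl N11187 D25724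
theorem N15445 : nd 15445 = n25725 := ndS (p := 11188) (l := 5) rfl N11188 D25725
theorem N15446 : nd 15446 = n25726 := ndS (p := 11189) (l := 5) rfl N11189 D25726
theorem N15447 : nd 15447 = n25727 := ndS (p := 11190) (l := 1) rfl N11190 D25727
theorem N15448 : nd 15448 = n25728 := ndS (p := 11190) (l := 6) rfl N11190 D25728
theorem N15449 : nd 15449 = n25729 := ndS (p := 11191) (l := 1) rfl N11191 D25729
theorem N15450 : nd 15450 = n25730 := ndS (p := 11192) (l := 0) rfl N11192 D25730
theorem N15451 : nd 15451 = n25731 := ndS (p := 11192) (l := 2) rfl N11192 D25731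
theorem N15452 : nd 15452 = n25732 := ndS (p := 11192) (l := 6) rfl N11192 D25732
theorem N15453 : nd 15453 = n25733 := ndS (p := 11193) (l := 2) rfl N11193 D25733
theorem N15454 : nd 15454 = n25734 := ndS (p := 11193) (l := 6) rfl N11193 D25734
theorem N15455 : nd 15455 = n25735 := ndS (p := 11194) (l := 3) rfl N11194 D25735
theorem N15456 : nd 15456 = n25736 := ndS (p := 11194) (l := 6) rfl N11194 D25736
theorem N15457 : nd 15457 = n25737 := ndS (p := 11196) (l := 2) rfl N11196 D25737
theorem N15458 : nd 15458 = n25738 := ndS (p := 11197) (l := 2) rfl N11197 D25738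
theorem N15459 : nd 15459 = n25739 := ndS (p := 11197) (l := 4) rfl N11197 D25739
theorem N15460 : nd 15460 = n25740 := ndS (p := 11197) (l := 6) rfl N11197 D25740
theorem N15461 : nd 15461 = n25741 := ndS (p := 11198) (l := 1) rfl N11198 D25741
theorem N15462 : nd 15462 = n25742 := ndS (p := 11199) (l := 2) rfl N11199 D25742
theorem N15463 : nd 15463 = n25743 := ndS (p := 11200) (l := 2) rfl N11200 D25743
theorem N15464 : nd 15464 = n25744 := ndS (p := 11200) (l := 5) rfl N11200 D25744
theorem N15465 : nd 15465 = n25745 := ndS (p := 11201) (l := 3) rfl N11201 D25745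
theorem N15466 : nd 15466 = n25746 := ndS (p := 11201) (l := 5) rfl N11201 D25746
theorem N15467 : nd 15467 = n25747 := ndS (p := 11203) (l := 2) rfl N11203 D25747
theorem N15468 : nd 15468 = n25748 := ndS (p := 11204) (l := 1) rfl N11204 D25748
theorem N15469 : nd 15469 = n25749 := ndS (p := 11204) (l := 3) rfl N11204 D25749
theorem N15470 : nd 15470 = n25750 := ndS (p := 11204) (l := 5) rfl N11204 D25750
theorem N15471 : nd 15471 = n25751 := ndS (p := 11204) (l := 6) rfl N11204 D25751
theorem N15472 : nd 15472 = n25752 := ndS (p := 11207) (l := 0) rfl N11207 D25752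
theorem N15473 : nd 15473 = n25753 := ndS (p := 11207) (l := 3) rfl N11207 D25753
theorem N15474 : nd 15474 = n25754 := ndS (p := 11207) (l := 5) rfl N11207 D25754
theorem N15475 : nd 15475 = n25755 := ndS (p := 11207) (l := 6) rfl N11207 D25755
theorem N15476 : nd 15476 = n25756 := ndS (p := 11208) (l := 4) rfl N11208 D25756
theorem N15477 : nd 15477 = n25757 := ndS (p := 11209) (l := 1) rfl N11209 D25757
theorem N15478 : nd 15478 = n25758 := ndS (p := 11209) (l := 4) rfl N11209 D25758
theorem N15479 : nd 15479 = n25759 := ndS (p := 11209) (l := 6) rfl N11209 D25759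
theorem N15480 : nd 15480 = n25760 := ndS (p := 11210) (l := 6) rfl N11210 D25760
theorem N15481 : nd 15481 = n25761 := ndS (p := 11211) (l := 1) rfl N11211 D25761
theorem N15482 : nd 15482 = n25762 := ndS (p := 11212) (l := 0) rfl N11212 D25762
theorem N15483 : nd 15483 = n25763 := ndS (p := 11212) (l := 2) rfl N11212 D25763
theorem N15484 : nd 15484 = n25764 := ndS (p := 11213) (l := 2) rfl N11213 D25764
theorem N15485 : nd 15485 = n25765 := ndS (p := 11214) (l := 3) rfl N11214 D25765
theorem N15486 : nd 15486 = n25766 := ndS (p := 11214) (l := 5) rfl N11214 D25766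
theorem N15487 : nd 15487 = n25767 := ndS (p := 11216) (l := 1) rfl N11216 D25767
theorem N15488 : nd 15488 = n25768 := ndS (p := 11216) (l := 3) rfl N11216 D25768
theorem N15489 : nd 15489 = n25769 := ndS (p := 11216) (l := 5) rfl N11216 D25769
theorem N15490 : nd 15490 = n25770 := ndS (p := 11218) (l := 2) rfl N11218 D25770
theorem N15491 : nd 15491 = n25771 := ndS (p := 11218) (l := 4) rfl N11218 D25771
theorem N15492 : nd 15492 = n25772 := ndS (p := 11218) (l := 5) rfl N11218 D25772
theorem N15493 : nd 15493 = n25773 := ndS (p := 11219) (l := 1) rfl N11219 D25773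
theorem N15494 : nd 15494 = n25774 := ndS (p := 11219) (l := 6) rfl N11219 D25774
theorem N15495 : nd 15495 = n25775 := ndS (p := 11222) (l := 2) rfl N11222 D25775
theorem N15496 : nd 15496 = n25776 := ndS (p := 11223) (l := 1) rfl N11223 D25776
theorem N15497 : nd 15497 = n25777 := ndS (p := 11223) (l := 3) rfl N11223 D25777
theorem N15498 : nd 15498 = n25778 := ndS (p := 11223) (l := 5) rfl N11223 D25778
theorem N15499 : nd 15499 = n25779 := ndS (p := 11223) (l := 6) rfl N11223 D25779
theorem N15500 : nd 15500 = n25780 := ndS (p := 11224) (l := 2) rfl N11224 D25780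
theorem N15501 : nd 15501 = n25781 := ndS (p := 11224) (l := 4) rfl N11224 D25781
theorem N15502 : nd 15502 = n25782 := ndS (p := 11224) (l := 5) rfl N11224 D25782
theorem N15503 : nd 15503 = n25783 := ndS (p := 11224) (l := 6) rfl N11224 D25783
theorem N15504 : nd 15504 = n25784 := ndS (p := 11225) (l := 6) rfl N11225 D25784
theorem N15505 : nd 15505 = n25785 := ndS (p := 11226) (l := 1) rfl N11226 D25785
theorem N15506 : nd 15506 = n25786 := ndS (p := 11226) (l := 5) rfl N11226 D25786
theorem N15507 : nd 15507 = n25787 := ndS (p := 11227) (l := 6) rfl N11227 D25787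
theorem N15508 : nd 15508 = n25788 := ndS (p := 11228) (l := 1) rfl N11228 D25788
theorem N15509 : nd 15509 = n25789 := ndS (p := 11229) (l := 0) rfl N11229 D25789
theorem N15510 : nd 15510 = n25790 := ndS (p := 11229) (l := 2) rfl N11229 D25790
theorem N15511 : nd 15511 = n25791 := ndS (p := 11229) (l := 5) rfl N11229 D25791
theorem N15512 : nd 15512 = n25792 := ndS (p := 11230) (l := 3) rfl N11230 D25792
theorem N15513 : nd 15513 = n25793 := ndS (p := 11231) (l := 0) rfl N11231 D25793
theorem N15514 : nd 15514 = n25794 := ndS (p := 11231) (l := 4) rfl N11231 D25794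
theorem N15515 : nd 15515 = n25795 := ndS (p := 11231) (l := 5) rfl N11231 D25795
theorem N15516 : nd 15516 = n25797 := ndS (p := 11232) (l := 3) rfl N11232 D25797
theorem N15517 : nd 15517 = n25798 := ndS (p := 11232) (l := 6) rfl N11232 D25798
theorem N15518 : nd 15518 = n25799 := ndS (p := 11233) (l := 1) rfl N11233 D25799
theorem N15519 : nd 15519 = n25800 := ndS (p := 11233) (l := 5) rfl N11233 D25800
theorem N15520 : nd 15520 = n25801 := ndS (p := 11234) (l := 1) rfl N11234 D25801
theorem N15521 : nd 15521 = n25802 := ndS (p := 11234) (l := 5) rfl N11234 D25802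
theorem N15522 : nd 15522 = n25803 := ndS (p := 11235) (l := 2) rfl N11235 D25803
theorem N15523 : nd 15523 = n25804 := ndS (p := 11235) (l := 5) rfl N11235 D25804
theorem N15524 : nd 15524 = n25805 := ndS (p := 11236) (l := 1) rfl N11236 D25805
theorem N15525 : nd 15525 = n25806 := ndS (p := 11237) (l := 1) rfl N11237 D25806
theorem N15526 : nd 15526 = n25807 := ndS (p := 11238) (l := 0) rfl N11238 D25807
theorem N15527 : nd 15527 = n25808 := ndS (p := 11238) (l := 2) rfl N11238 D25808
theorem N15528 : nd 15528 = n25809 := ndS (p := 11239) (l := 2) rfl N11239 D25809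
theorem N15529 : nd 15529 = n25810 := ndS (p := 11240) (l := 3) rfl N11240 D25810
theorem N15530 : nd 15530 = n25811 := ndS (p := 11240) (l := 6) rfl N11240 D25811
theorem N15531 : nd 15531 = n25812 := ndS (p := 11242) (l := 3) rfl N11242 D25812
theorem N15532 : nd 15532 = n25813 := ndS (p := 11243) (l := 1) rfl N11243 D25813
theorem N15533 : nd 15533 = n25814 := ndS (p := 11243) (l := 5) rfl N11243 D25814
theorem N15534 : nd 15534 = n25815 := ndS (p := 11244) (l := 0) rfl N11244 D25815
theorem N15535 : nd 15535 = n25816 := ndS (p := 11244) (l := 2) rfl N11244 D25816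
theorem N15536 : nd 15536 = n25817 := ndS (p := 11244) (l := 5) rfl N11244 D25817
theorem N15537 : nd 15537 = n25818 := ndS (p := 11246) (l := 1) rfl N11246 D25818
theorem N15538 : nd 15538 = n25819 := ndS (p := 11247) (l := 1) rfl N11247 D25819
theorem N15539 : nd 15539 = n25820 := ndS (p := 11248) (l := 0) rfl N11248 D25820
theorem N15540 : nd 15540 = n25821 := ndS (p := 11248) (l := 2) rfl N11248 D25821
theorem N15541 : nd 15541 = n25822 := ndS (p := 11248) (l := 5) rfl N11248 D25822
theorem N15542 : nd 15542 = n25823 := ndS (p := 11249) (l := 1) rfl N11249 D25823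
theorem N15543 : nd 15543 = n25824 := ndS (p := 11250) (l := 0) rfl N11250 D25824
theorem N15544 : nd 15544 = n25825 := ndS (p := 11250) (l := 2) rfl N11250 D25825
theorem N15545 : nd 15545 = n25826 := ndS (p := 11250) (l := 5) rfl N11250 D25826
theorem N15546 : nd 15546 = n25827 := ndS (p := 11251) (l := 1) rfl N11251 D25827
theorem N15547 : nd 15547 = n25828 := ndS (p := 11251) (l := 2) rfl N11251 D25828
theorem N15548 : nd 15548 = n25829 := ndS (p := 11251) (l := 5) rfl N11251 D25829
theorem N15549 : nd 15549 = n25830 := ndS (p := 11252) (l := 3) rfl N11252 D25830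
theorem N15550 : nd 15550 = n25831 := ndS (p := 11252) (l := 5) rfl N11252 D25831
theorem N15551 : nd 15551 = n25832 := ndS (p := 11253) (l := 6) rfl N11253 D25832
theorem N15552 : nd 15552 = n25833 := ndS (p := 11254) (l := 2) rfl N11254 D25833
theorem N15553 : nd 15553 = n25834 := ndS (p := 11254) (l := 6) rfl N11254 D25834
theorem N15554 : nd 15554 = n25835 := ndS (p := 11255) (l := 3) rfl N11255 D25835
theorem N15555 : nd 15555 = n25836 := ndS (p := 11256) (l := 3) rfl N11256 D25836
theorem N15556 : nd 15556 = n25837 := ndS (p := 11257) (l := 2) rfl N11257 D25837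
theorem N15557 : nd 15557 = n25838 := ndS (p := 11257) (l := 4) rfl N11257 D25838
theorem N15558 : nd 15558 = n25839 := ndS (p := 11257) (l := 5) rfl N11257 D25839
theorem N15559 : nd 15559 = n25840 := ndS (p := 11258) (l := 1) rfl N11258 D25840
theorem N15560 : nd 15560 = n25841 := ndS (p := 11259) (l := 3) rfl N11259 D25841
theorem N15561 : nd 15561 = n25842 := ndS (p := 11260) (l := 0) rfl N11260 D25842
theorem N15562 : nd 15562 = n25843 := ndS (p := 11260) (l := 2) rfl N11260 D25843
theorem N15563 : nd 15563 = n25844 := ndS (p := 11260) (l := 5) rfl N11260 D25844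
theorem N15564 : nd 15564 = n25845 := ndS (p := 11261) (l := 1) rfl N11261 D25845
theorem N15565 : nd 15565 = n25846 := ndS (p := 11262) (l := 1) rfl N11262 D25846
theorem N15566 : nd 15566 = n25847 := ndS (p := 11263) (l := 0) rfl N11263 D25847
theorem N15567 : nd 15567 = n25848 := ndS (p := 11263) (l := 2) rfl N11263 D25848
theorem N15568 : nd 15568 = n25849 := ndS (p := 11265) (l := 2) rfl N11265 D25849
theorem N15569 : nd 15569 = n25850 := ndS (p := 11266) (l := 1) rfl N11266 D25850
theorem N15570 : nd 15570 = n25851 := ndS (p := 11266) (l := 2) rfl N11266 D25851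
theorem N15571 : nd 15571 = n25852 := ndS (p := 11267) (l := 3) rfl N11267 D25852
theorem N15572 : nd 15572 = n25853 := ndS (p := 11271) (l := 0) rfl N11271 D25853
theorem N15573 : nd 15573 = n25854 := ndS (p := 11271) (l := 5) rfl N11271 D25854
theorem N15574 : nd 15574 = n25855 := ndS (p := 11272) (l := 1) rfl N11272 D25855
theorem N15575 : nd 15575 = n25856 := ndS (p := 11272) (l := 2) rfl N11272 D25856
theorem N15576 : nd 15576 = n25857 := ndS (p := 11272) (l := 5) rfl N11272 D25857
theorem N15577 : nd 15577 = n25858 := ndS (p := 11273) (l := 3) rfl N11273 D25858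
theorem N15578 : nd 15578 = n25859 := ndS (p := 11273) (l := 5) rfl N11273 D25859
theorem N15579 : nd 15579 = n25860 := ndS (p := 11274) (l := 6) rfl N11274 D25860
theorem N15580 : nd 15580 = n25861 := ndS (p := 11275) (l := 2) rfl N11275 D25861
theorem N15581 : nd 15581 = n25862 := ndS (p := 11276) (l := 1) rfl N11276 D25862
theorem N15582 : nd 15582 = n25863 := ndS (p := 11276) (l := 3) rfl N11276 D25863
theorem N15583 : nd 15583 = n25864 := ndS (p := 11276) (l := 5) rfl N11276 D25864
theorem N15584 : nd 15584 = n25865 := ndS (p := 11278) (l := 2) rfl N11278 D25865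
theorem N15585 : nd 15585 = n25866 := ndS (p := 11278) (l := 4) rfl N11278 D25866
theorem N15586 : nd 15586 = n25867 := ndS (p := 11278) (l := 5) rfl N11278 D25867
theorem N15587 : nd 15587 = n25868 := ndS (p := 11281) (l := 3) rfl N11281 D25868
theorem N15588 : nd 15588 = n25869 := ndS (p := 11282) (l := 3) rfl N11282 D25869
theorem N15589 : nd 15589 = n25870 := ndS (p := 11283) (l := 2) rfl N11283 D25870
theorem N15590 : nd 15590 = n25871 := ndS (p := 11283) (l := 4) rfl N11283 D25871
theorem N15591 : nd 15591 = n25872 := ndS (p := 11283) (l := 5) rfl N11283 D25872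
theorem N15592 : nd 15592 = n25873 := ndS (p := 11284) (l := 1) rfl N11284 D25873
theorem N15593 : nd 15593 = n25874 := ndS (p := 11285) (l := 1) rfl N11285 D25874
theorem N15594 : nd 15594 = n25875 := ndS (p := 11285) (l := 3) rfl N11285 D25875
theorem N15595 : nd 15595 = n25876 := ndS (p := 11285) (l := 4) rfl N11285 D25876
theorem N15596 : nd 15596 = n25877 := ndS (p := 11285) (l := 5) rfl N11285 D25877
theorem N15597 : nd 15597 = n25878 := ndS (p := 11286) (l := 5) rfl N11286 D25878
theorem N15598 : nd 15598 = n25879 := ndS (p := 11287) (l := 1) rfl N11287 D25879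
theorem N15599 : nd 15599 = n25880 := ndS (p := 11288) (l := 0) rfl N11288 D25880
theorem N15600 : nd 15600 = n25881 := ndS (p := 11288) (l := 6) rfl N11288 D25881
theorem N15601 : nd 15601 = n25882 := ndS (p := 11289) (l := 5) rfl N11289 D25882
theorem N15602 : nd 15602 = n25883 := ndS (p := 11289) (l := 6) rfl N11289 D25883
theorem N15603 : nd 15603 = n25884 := ndS (p := 11292) (l := 5) rfl N11292 D25884
theorem N15604 : nd 15604 = n25885 := ndS (p := 11292) (l := 6) rfl N11292 D25885
theorem N15605 : nd 15605 = n25886 := ndS (p := 11293) (l := 6) rfl N11293 D25886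
theorem N15606 : nd 15606 = n25887 := ndS (p := 11294) (l := 6) rfl N11294 D25887
theorem N15607 : nd 15607 = n25888 := ndS (p := 11295) (l := 1) rfl N11295 D25888
theorem N15608 : nd 15608 = n25889 := ndS (p := 11295) (l := 5) rfl N11295 D25889
theorem N15609 : nd 15609 = n25890 := ndS (p := 11300) (l := 1) rfl N11300 D25890
theorem N15610 : nd 15610 = n25891 := ndS (p := 11301) (l := 2) rfl N11301 D25891
theorem N15611 : nd 15611 = n25892 := ndS (p := 11302) (l := 2) rfl N11302 D25892
theorem N15612 : nd 15612 = n25893 := ndS (p := 11303) (l := 1) rfl N11303 D25893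
theorem N15613 : nd 15613 = n25894 := ndS (p := 11304) (l := 1) rfl N11304 D25894
theorem N15614 : nd 15614 = n25895 := ndS (p := 11305) (l := 0) rfl N11305 D25895
theorem N15615 : nd 15615 = n25896 := ndS (p := 11305) (l := 2) rfl N11305 D25896
theorem N15616 : nd 15616 = n25897 := ndS (p := 11306) (l := 0) rfl N11306 D25897
theorem N15617 : nd 15617 = n25898 := ndS (p := 11306) (l := 2) rfl N11306 D25898
theorem N15618 : nd 15618 = n25899 := ndS (p := 11306) (l := 5) rfl N11306 D25899
theorem N15619 : nd 15619 = n25900 := ndS (p := 11306) (l := 6) rfl N11306 D25900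
theorem N15620 : nd 15620 = n25901 := ndS (p := 11307) (l := 0) rfl N11307 D25901
theorem N15621 : nd 15621 = n25902 := ndS (p := 11307) (l := 2) rfl N11307 D25902
theorem N15622 : nd 15622 = n25903 := ndS (p := 11308) (l := 2) rfl N11308 D25903
theorem N15623 : nd 15623 = n25904 := ndS (p := 11308) (l := 6) rfl N11308 D25904
theorem N15624 : nd 15624 = n25905 := ndS (p := 11309) (l := 3) rfl N11309 D25905
theorem N15625 : nd 15625 = n25906 := ndS (p := 11309) (l := 6) rfl N11309 D25906
theorem N15626 : nd 15626 = n25907 := ndS (p := 11310) (l := 5) rfl N11310 D25907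
theorem N15627 : nd 15627 = n25908 := ndS (p := 11311) (l := 2) rfl N11311 D25908
theorem N15628 : nd 15628 = n25909 := ndS (p := 11312) (l := 3) rfl N11312 D25909
theorem N15629 : nd 15629 = n25910 := ndS (p := 11313) (l := 6) rfl N11313 D25910
theorem N15630 : nd 15630 = n25911 := ndS (p := 11315) (l := 2) rfl N11315 D25911
theorem N15631 : nd 15631 = n25912 := ndS (p := 11316) (l := 3) rfl N11316 D25912
theorem N15632 : nd 15632 = n25913 := ndS (p := 11317) (l := 6) rfl N11317 D25913
theorem N15633 : nd 15633 = n25914 := ndS (p := 11319) (l := 2) rfl N11319 D25914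
theorem N15634 : nd 15634 = n25915 := ndS (p := 11319) (l := 6) rfl N11319 D25915
theorem N15635 : nd 15635 = n25916 := ndS (p := 11320) (l := 1) rfl N11320 D25916
theorem N15636 : nd 15636 = n25917 := ndS (p := 11320) (l := 5) rfl N11320 D25917
theorem N15637 : nd 15637 = n25918 := ndS (p := 11321) (l := 1) rfl N11321 D25918
theorem N15638 : nd 15638 = n25919 := ndS (p := 11322) (l := 3) rfl N11322 D25919
theorem N15639 : nd 15639 = n25920 := ndS (p := 11323) (l := 0) rfl N11323 D25920
theorem N15640 : nd 15640 = n25921 := ndS (p := 11323) (l := 3) rfl N11323 D25921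
theorem N15641 : nd 15641 = n25922 := ndS (p := 11323) (l := 5) rfl N11323 D25922
theorem N15642 : nd 15642 = n25923 := ndS (p := 11323) (l := 6) rfl N11323 D25923
theorem N15643 : nd 15643 = n25924 := ndS (p := 11324) (l := 2) rfl N11324 D25924
theorem N15644 : nd 15644 = n25925 := ndS (p := 11324) (l := 4) rfl N11324 D25925
theorem N15645 : nd 15645 = n25926 := ndS (p := 11324) (l := 5) rfl N11324 D25926
theorem N15646 : nd 15646 = n25927 := ndS (p := 11324) (l := 6) rfl N11324 D25927
theorem N15647 : nd 15647 = n25928 := ndS (p := 11326) (l := 1) rfl N11326 D25928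
theorem N15648 : nd 15648 = n25929 := ndS (p := 11327) (l := 3) rfl N11327 D25929
theorem N15649 : nd 15649 = n25930 := ndS (p := 11327) (l := 6) rfl N11327 D25930
theorem N15650 : nd 15650 = n25931 := ndS (p := 11328) (l := 2) rfl N11328 D25931
theorem N15651 : nd 15651 = n25932 := ndS (p := 11328) (l := 4) rfl N11328 D25932
theorem N15652 : nd 15652 = n25933 := ndS (p := 11328) (l := 5) rfl N11328 D25933
theorem N15653 : nd 15653 = n25934 := ndS (p := 11328) (l := 6) rfl N11328 D25934
theorem N15654 : nd 15654 = n25935 := ndS (p := 11329) (l := 6) rfl N11329 D25935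
theorem N15655 : nd 15655 = n25936 := ndS (p := 11331) (l := 1) rfl N11331 D25936
theorem N15656 : nd 15656 = n25937 := ndS (p := 11331) (l := 4) rfl N11331 D25937
theorem N15657 : nd 15657 = n25938 := ndS (p := 11333) (l := 0) rfl N11333 D25938
theorem N15658 : nd 15658 = n25939 := ndS (p := 11333) (l := 3) rfl N11333 D25939
theorem N15659 : nd 15659 = n25940 := ndS (p := 11333) (l := 4) rfl N11333 D25940
theorem N15660 : nd 15660 = n25941 := ndS (p := 11333) (l := 5) rfl N11333 D25941
theorem N15661 : nd 15661 = n25942 := ndS (p := 11333) (l := 6) rfl N11333 D25942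
theorem N15662 : nd 15662 = n25943 := ndS (p := 11334) (l := 4) rfl N11334 D25943
theorem N15663 : nd 15663 = n25944 := ndS (p := 11335) (l := 3) rfl N11335 D25944
theorem N15664 : nd 15664 = n25945 := ndS (p := 11335) (l := 5) rfl N11335 D25945
theorem N15665 : nd 15665 = n25946 := ndS (p := 11336) (l := 1) rfl N11336 D25946
theorem N15666 : nd 15666 = n25947 := ndS (p := 11337) (l := 1) rfl N11337 D25947
theorem N15667 : nd 15667 = n25948 := ndS (p := 11338) (l := 0) rfl N11338 D25948
theorem N15668 : nd 15668 = n25949 := ndS (p := 11338) (l := 2) rfl N11338 D25949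
theorem N15669 : nd 15669 = n25950 := ndS (p := 11338) (l := 6) rfl N11338 D25950
theorem N15670 : nd 15670 = n25951 := ndS (p := 11339) (l := 1) rfl N11339 D25951
theorem N15671 : nd 15671 = n25952 := ndS (p := 11339) (l := 2) rfl N11339 D25952
theorem N15672 : nd 15672 = n25953 := ndS (p := 11339) (l := 6) rfl N11339 D25953
theorem N15673 : nd 15673 = n25954 := ndS (p := 11340) (l := 3) rfl N11340 D25954
theorem N15674 : nd 15674 = n25955 := ndS (p := 11340) (l := 6) rfl N11340 D25955
theorem N15675 : nd 15675 = n25956 := ndS (p := 11341) (l := 5) rfl N11341 D25956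
theorem N15676 : nd 15676 = n25957 := ndS (p := 11342) (l := 3) rfl N11342 D25957
theorem N15677 : nd 15677 = n25958 := ndS (p := 11343) (l := 6) rfl N11343 D25958
theorem N15678 : nd 15678 = n25959 := ndS (p := 11344) (l := 1) rfl N11344 D25959
theorem N15679 : nd 15679 = n25960 := ndS (p := 11345) (l := 2) rfl N11345 D25960
theorem N15680 : nd 15680 = n25961 := ndS (p := 11345) (l := 4) rfl N11345 D25961
theorem N15681 : nd 15681 = n25962 := ndS (p := 11345) (l := 6) rfl N11345 D25962
theorem N15682 : nd 15682 = n25963 := ndS (p := 11346) (l := 1) rfl N11346 D25963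
theorem N15683 : nd 15683 = n25964 := ndS (p := 11347) (l := 3) rfl N11347 D25964
theorem N15684 : nd 15684 = n25965 := ndS (p := 11347) (l := 6) rfl N11347 D25965
theorem N15685 : nd 15685 = n25966 := ndS (p := 11348) (l := 6) rfl N11348 D25966
theorem N15686 : nd 15686 = n25967 := ndS (p := 11349) (l := 1) rfl N11349 D25967
theorem N15687 : nd 15687 = n25968 := ndS (p := 11349) (l := 5) rfl N11349 D25968
theorem N15688 : nd 15688 = n25969 := ndS (p := 11350) (l := 5) rfl N11350 D25969
theorem N15689 : nd 15689 = n25970 := ndS (p := 11351) (l := 1) rfl N11351 D25970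
theorem N15690 : nd 15690 = n25971 := ndS (p := 11352) (l := 3) rfl N11352 D25971
theorem N15691 : nd 15691 = n25972 := ndS (p := 11352) (l := 5) rfl N11352 D25972
theorem N15692 : nd 15692 = n25973 := ndS (p := 11352) (l := 6) rfl N11352 D25973
theorem N15693 : nd 15693 = n25974 := ndS (p := 11353) (l := 5) rfl N11353 D25974
theorem N15694 : nd 15694 = n25975 := ndS (p := 11353) (l := 6) rfl N11353 D25975
theorem N15695 : nd 15695 = n25976 := ndS (p := 11354) (l := 1) rfl N11354 D25976
theorem N15696 : nd 15696 = n25977 := ndS (p := 11355) (l := 1) rfl N11355 D25977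
theorem N15697 : nd 15697 = n25978 := ndS (p := 11356) (l := 3) rfl N11356 D25978
theorem N15698 : nd 15698 = n25979 := ndS (p := 11356) (l := 6) rfl N11356 D25979
theorem N15699 : nd 15699 = n25980 := ndS (p := 11357) (l := 4) rfl N11357 D25980
theorem N15700 : nd 15700 = n25981 := ndS (p := 11357) (l := 5) rfl N11357 D25981
theorem N15701 : nd 15701 = n25982 := ndS (p := 11357) (l := 6) rfl N11357 D25982
theorem N15702 : nd 15702 = n25983 := ndS (p := 11358) (l := 1) rfl N11358 D25983
theorem N15703 : nd 15703 = n25984 := ndS (p := 11358) (l := 6) rfl N11358 D25984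
theorem N15704 : nd 15704 = n25985 := ndS (p := 11359) (l := 1) rfl N11359 D25985
theorem N15705 : nd 15705 = n25986 := ndS (p := 11360) (l := 5) rfl N11360 D25986
theorem N15706 : nd 15706 = n25987 := ndS (p := 11361) (l := 1) rfl N11361 D25987
theorem N15707 : nd 15707 = n25988 := ndS (p := 11362) (l := 1) rfl N11362 D25988
theorem N15708 : nd 15708 = n25989 := ndS (p := 11363) (l := 0) rfl N11363 D25989
theorem N15709 : nd 15709 = n25990 := ndS (p := 11363) (l := 2) rfl N11363 D25990
theorem N15710 : nd 15710 = n25991 := ndS (p := 11363) (l := 6) rfl N11363 D25991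
theorem N15711 : nd 15711 = n25992 := ndS (p := 11365) (l := 3) rfl N11365 D25992
theorem N15712 : nd 15712 = n25993 := ndS (p := 11366) (l := 3) rfl N11366 D25993
theorem N15713 : nd 15713 = n25994 := ndS (p := 11366) (l := 6) rfl N11366 D25994
theorem N15714 : nd 15714 = n25995 := ndS (p := 11367) (l := 4) rfl N11367 D25995
theorem N15715 : nd 15715 = n25996 := ndS (p := 11367) (l := 5) rfl N11367 D25996
theorem N15716 : nd 15716 = n25997 := ndS (p := 11367) (l := 6) rfl N11367 D25997
theorem N15717 : nd 15717 = n25998 := ndS (p := 11369) (l := 1) rfl N11369 D25998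
theorem N15718 : nd 15718 = n25999 := ndS (p := 11370) (l := 1) rfl N11370 D25999
theorem N15719 : nd 15719 = n26000 := ndS (p := 11370) (l := 4) rfl N11370 D26000
theorem N15720 : nd 15720 = n26001 := ndS (p := 11370) (l := 5) rfl N11370 D26001
theorem N15721 : nd 15721 = n26002 := ndS (p := 11370) (l := 6) rfl N11370 D26002
theorem N15722 : nd 15722 = n26003 := ndS (p := 11371) (l := 5) rfl N11371 D26003
theorem N15723 : nd 15723 = n26004 := ndS (p := 11371) (l := 6) rfl N11371 D26004
theorem N15724 : nd 15724 = n26005 := ndS (p := 11372) (l := 1) rfl N11372 D26005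
theorem N15725 : nd 15725 = n26006 := ndS (p := 11372) (l := 6) rfl N11372 D26006
theorem N15726 : nd 15726 = n26007 := ndS (p := 11373) (l := 5) rfl N11373 D26007
theorem N15727 : nd 15727 = n26008 := ndS (p := 11374) (l := 6) rfl N11374 D26008
theorem N15728 : nd 15728 = n26009 := ndS (p := 11377) (l := 0) rfl N11377 D26009
theorem N15729 : nd 15729 = n26010 := ndS (p := 11377) (l := 4) rfl N11377 D26010
theorem N15730 : nd 15730 = n26011 := ndS (p := 11377) (l := 5) rfl N11377 D26011
theorem N15731 : nd 15731 = n26012 := ndS (p := 11377) (l := 6) rfl N11377 D26012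
theorem N15732 : nd 15732 = n26013 := ndS (p := 11378) (l := 3) rfl N11378 D26013
theorem N15733 : nd 15733 = n26014 := ndS (p := 11378) (l := 5) rfl N11378 D26014
theorem N15734 : nd 15734 = n26015 := ndS (p := 11379) (l := 1) rfl N11379 D26015
theorem N15735 : nd 15735 = n26016 := ndS (p := 11381) (l := 2) rfl N11381 D26016
theorem N15736 : nd 15736 = n26017 := ndS (p := 11381) (l := 6) rfl N11381 D26017
theorem N15737 : nd 15737 = n26018 := ndS (p := 11382) (l := 3) rfl N11382 D26018
theorem N15738 : nd 15738 = n26019 := ndS (p := 11383) (l := 5) rfl N11383 D26019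
theorem N15739 : nd 15739 = n26020 := ndS (p := 11384) (l := 2) rfl N11384 D26020
theorem N15740 : nd 15740 = n26021 := ndS (p := 11384) (l := 4) rfl N11384 D26021
theorem N15741 : nd 15741 = n26022 := ndS (p := 11385) (l := 1) rfl N11385 D26022
theorem N15742 : nd 15742 = n26023 := ndS (p := 11385) (l := 3) rfl N11385 D26023
theorem N15743 : nd 15743 = n26024 := ndS (p := 11385) (l := 4) rfl N11385 D26024
theorem N15744 : nd 15744 = n26025 := ndS (p := 11385) (l := 5) rfl N11385 D26025
theorem N15745 : nd 15745 = n26026 := ndS (p := 11385) (l := 6) rfl N11385 D26026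
theorem N15746 : nd 15746 = n26027 := ndS (p := 11386) (l := 2) rfl N11386 D26027
theorem N15747 : nd 15747 = n26028 := ndS (p := 11386) (l := 4) rfl N11386 D26028
theorem N15748 : nd 15748 = n26029 := ndS (p := 11386) (l := 5) rfl N11386 D26029
theorem N15749 : nd 15749 = n26030 := ndS (p := 11386) (l := 6) rfl N11386 D26030
theorem N15750 : nd 15750 = n26031 := ndS (p := 11387) (l := 3) rfl N11387 D26031
theorem N15751 : nd 15751 = n26032 := ndS (p := 11387) (l := 5) rfl N11387 D26032
theorem N15752 : nd 15752 = n26033 := ndS (p := 11387) (l := 6) rfl N11387 D26033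
theorem N15753 : nd 15753 = n26034 := ndS (p := 11388) (l := 1) rfl N11388 D26034
theorem N15754 : nd 15754 = n26035 := ndS (p := 11388) (l := 6) rfl N11388 D26035
theorem N15755 : nd 15755 = n26036 := ndS (p := 11389) (l := 5) rfl N11389 D26036
theorem N15756 : nd 15756 = n26037 := ndS (p := 11390) (l := 3) rfl N11390 D26037
theorem N15757 : nd 15757 = n26038 := ndS (p := 11390) (l := 5) rfl N11390 D26038
theorem N15758 : nd 15758 = n26039 := ndS (p := 11391) (l := 1) rfl N11391 D26039
theorem N15759 : nd 15759 = n26040 := ndS (p := 11392) (l := 2) rfl N11392 D26040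
theorem N15760 : nd 15760 = n26041 := ndS (p := 11392) (l := 5) rfl N11392 D26041
theorem N15761 : nd 15761 = n26042 := ndS (p := 11393) (l := 1) rfl N11393 D26042
theorem N15762 : nd 15762 = n26043 := ndS (p := 11393) (l := 6) rfl N11393 D26043
theorem N15763 : nd 15763 = n26045 := ndS (p := 11394) (l := 6) rfl N11394 D26045
theorem N15764 : nd 15764 = n26046 := ndS (p := 11395) (l := 1) rfl N11395 D26046
theorem N15765 : nd 15765 = n26047 := ndS (p := 11396) (l := 1) rfl N11396 D26047
theorem N15766 : nd 15766 = n26048 := ndS (p := 11397) (l := 0) rfl N11397 D26048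
theorem N15767 : nd 15767 = n26049 := ndS (p := 11397) (l := 2) rfl N11397 D26049
theorem N15768 : nd 15768 = n26050 := ndS (p := 11397) (l := 5) rfl N11397 D26050
theorem N15769 : nd 15769 = n26051 := ndS (p := 11398) (l := 2) rfl N11398 D26051
theorem N15770 : nd 15770 = n26052 := ndS (p := 11398) (l := 5) rfl N11398 D26052
theorem N15771 : nd 15771 = n26053 := ndS (p := 11399) (l := 5) rfl N11399 D26053
theorem N15772 : nd 15772 = n26054 := ndS (p := 11400) (l := 6) rfl N11400 D26054
theorem N15773 : nd 15773 = n26055 := ndS (p := 11401) (l := 1) rfl N11401 D26055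
theorem N15774 : nd 15774 = n26056 := ndS (p := 11402) (l := 1) rfl N11402 D26056
theorem N15775 : nd 15775 = n26057 := ndS (p := 11403) (l := 3) rfl N11403 D26057
theorem N15776 : nd 15776 = n26058 := ndS (p := 11404) (l := 1) rfl N11404 D26058
theorem N15777 : nd 15777 = n26059 := ndS (p := 11404) (l := 6) rfl N11404 D26059
theorem N15778 : nd 15778 = n26060 := ndS (p := 11405) (l := 0) rfl N11405 D26060
theorem N15779 : nd 15779 = n26061 := ndS (p := 11407) (l := 1) rfl N11407 D26061
theorem N15780 : nd 15780 = n26062 := ndS (p := 11408) (l := 0) rfl N11408 D26062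
theorem N15781 : nd 15781 = n26063 := ndS (p := 11408) (l := 2) rfl N11408 D26063
theorem N15782 : nd 15782 = n26064 := ndS (p := 11408) (l := 6) rfl N11408 D26064
theorem N15783 : nd 15783 = n26065 := ndS (p := 11409) (l := 1) rfl N11409 D26065
theorem N15784 : nd 15784 = n26066 := ndS (p := 11410) (l := 1) rfl N11410 D26066
theorem N15785 : nd 15785 = n26067 := ndS (p := 11411) (l := 1) rfl N11411 D26067
theorem N15786 : nd 15786 = n26068 := ndS (p := 11411) (l := 2) rfl N11411 D26068
theorem N15787 : nd 15787 = n26069 := ndS (p := 11411) (l := 6) rfl N11411 D26069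
theorem N15788 : nd 15788 = n26070 := ndS (p := 11412) (l := 3) rfl N11412 D26070
theorem N15789 : nd 15789 = n26071 := ndS (p := 11412) (l := 6) rfl N11412 D26071
theorem N15790 : nd 15790 = n26072 := ndS (p := 11413) (l := 5) rfl N11413 D26072
theorem N15791 : nd 15791 = n26073 := ndS (p := 11414) (l := 5) rfl N11414 D26073
theorem N15792 : nd 15792 = n26074 := ndS (p := 11415) (l := 0) rfl N11415 D26074
theorem N15793 : nd 15793 = n26075 := ndS (p := 11415) (l := 2) rfl N11415 D26075
theorem N15794 : nd 15794 = n26076 := ndS (p := 11415) (l := 6) rfl N11415 D26076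
theorem N15795 : nd 15795 = n26077 := ndS (p := 11416) (l := 3) rfl N11416 D26077
theorem N15796 : nd 15796 = n26078 := ndS (p := 11417) (l := 2) rfl N11417 D26078
theorem N15797 : nd 15797 = n26079 := ndS (p := 11417) (l := 4) rfl N11417 D26079
theorem N15798 : nd 15798 = n26080 := ndS (p := 11417) (l := 6) rfl N11417 D26080
theorem N15799 : nd 15799 = n26081 := ndS (p := 11418) (l := 1) rfl N11418 D26081
theorem N15800 : nd 15800 = n26082 := ndS (p := 11419) (l := 3) rfl N11419 D26082
theorem N15801 : nd 15801 = n26083 := ndS (p := 11420) (l := 0) rfl N11420 D26083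
theorem N15802 : nd 15802 = n26084 := ndS (p := 11420) (l := 2) rfl N11420 D26084
theorem N15803 : nd 15803 = n26085 := ndS (p := 11420) (l := 6) rfl N11420 D26085
theorem N15804 : nd 15804 = n26086 := ndS (p := 11421) (l := 1) rfl N11421 D26086
theorem N15805 : nd 15805 = n26087 := ndS (p := 11422) (l := 0) rfl N11422 D26087
theorem N15806 : nd 15806 = n26088 := ndS (p := 11422) (l := 2) rfl N11422 D26088
theorem N15807 : nd 15807 = n26089 := ndS (p := 11424) (l := 1) rfl N11424 D26089
theorem N15808 : nd 15808 = n26090 := ndS (p := 11425) (l := 1) rfl N11425 D26090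
theorem N15809 : nd 15809 = n26091 := ndS (p := 11425) (l := 2) rfl N11425 D26091
theorem N15810 : nd 15810 = n26092 := ndS (p := 11426) (l := 3) rfl N11426 D26092
theorem N15811 : nd 15811 = n26093 := ndS (p := 11427) (l := 2) rfl N11427 D26093
theorem N15812 : nd 15812 = n26094 := ndS (p := 11431) (l := 0) rfl N11431 D26094
theorem N15813 : nd 15813 = n26095 := ndS (p := 11431) (l := 6) rfl N11431 D26095
theorem N15814 : nd 15814 = n26096 := ndS (p := 11432) (l := 1) rfl N11432 D26096
theorem N15815 : nd 15815 = n26097 := ndS (p := 11432) (l := 2) rfl N11432 D26097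
theorem N15816 : nd 15816 = n26098 := ndS (p := 11432) (l := 6) rfl N11432 D26098
theorem N15817 : nd 15817 = n26099 := ndS (p := 11433) (l := 3) rfl N11433 D26099
theorem N15818 : nd 15818 = n26100 := ndS (p := 11433) (l := 6) rfl N11433 D26100
theorem N15819 : nd 15819 = n26101 := ndS (p := 11434) (l := 5) rfl N11434 D26101
theorem N15820 : nd 15820 = n26102 := ndS (p := 11435) (l := 2) rfl N11435 D26102
theorem N15821 : nd 15821 = n26103 := ndS (p := 11436) (l := 1) rfl N11436 D26103
theorem N15822 : nd 15822 = n26104 := ndS (p := 11436) (l := 3) rfl N11436 D26104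
theorem N15823 : nd 15823 = n26105 := ndS (p := 11436) (l := 6) rfl N11436 D26105
theorem N15824 : nd 15824 = n26106 := ndS (p := 11438) (l := 2) rfl N11438 D26106
theorem N15825 : nd 15825 = n26107 := ndS (p := 11438) (l := 4) rfl N11438 D26107
theorem N15826 : nd 15826 = n26108 := ndS (p := 11438) (l := 6) rfl N11438 D26108
theorem N15827 : nd 15827 = n26109 := ndS (p := 11441) (l := 3) rfl N11441 D26109
theorem N15828 : nd 15828 = n26110 := ndS (p := 11442) (l := 3) rfl N11442 D26110
theorem N15829 : nd 15829 = n26111 := ndS (p := 11443) (l := 2) rfl N11443 D26111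
theorem N15830 : nd 15830 = n26112 := ndS (p := 11443) (l := 4) rfl N11443 D26112
theorem N15831 : nd 15831 = n26113 := ndS (p := 11444) (l := 1) rfl N11444 D26113
theorem N15832 : nd 15832 = n26114 := ndS (p := 11444) (l := 3) rfl N11444 D26114
theorem N15833 : nd 15833 = n26115 := ndS (p := 11444) (l := 4) rfl N11444 D26115
theorem N15834 : nd 15834 = n26116 := ndS (p := 11444) (l := 6) rfl N11444 D26116
theorem N15835 : nd 15835 = n26117 := ndS (p := 11445) (l := 6) rfl N11445 D26117
theorem N15836 : nd 15836 = n26118 := ndS (p := 11446) (l := 1) rfl N11446 D26118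
theorem N15837 : nd 15837 = n26119 := ndS (p := 11447) (l := 0) rfl N11447 D26119
theorem N15838 : nd 15838 = n26120 := ndS (p := 11447) (l := 5) rfl N11447 D26120
theorem N15839 : nd 15839 = n26121 := ndS (p := 11448) (l := 5) rfl N11448 D26121
theorem N15840 : nd 15840 = n26122 := ndS (p := 11448) (l := 6) rfl N11448 D26122
theorem N15841 : nd 15841 = n26123 := ndS (p := 11451) (l := 5) rfl N11451 D26123
theorem N15842 : nd 15842 = n26124 := ndS (p := 11451) (l := 6) rfl N11451 D26124
theorem N15843 : nd 15843 = n26125 := ndS (p := 11454) (l := 5) rfl N11454 D26125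
theorem N15844 : nd 15844 = n26126 := ndS (p := 11460) (l := 2) rfl N11460 D26126
theorem N15845 : nd 15845 = n26127 := ndS (p := 11461) (l := 2) rfl N11461 D26127
theorem N15846 : nd 15846 = n26128 := ndS (p := 11462) (l := 1) rfl N11462 D26128
theorem N15847 : nd 15847 = n26129 := ndS (p := 11463) (l := 1) rfl N11463 D26129
theorem N15848 : nd 15848 = n26130 := ndS (p := 11464) (l := 0) rfl N11464 D26130
theorem N15849 : nd 15849 = n26131 := ndS (p := 11464) (l := 2) rfl N11464 D26131
theorem N15850 : nd 15850 = n26132 := ndS (p := 11465) (l := 0) rfl N11465 D26132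
theorem N15851 : nd 15851 = n26133 := ndS (p := 11465) (l := 2) rfl N11465 D26133
theorem N15852 : nd 15852 = n26134 := ndS (p := 11465) (l := 5) rfl N11465 D26134
theorem N15853 : nd 15853 = n26135 := ndS (p := 11465) (l := 6) rfl N11465 D26135
theorem N15854 : nd 15854 = n26136 := ndS (p := 11466) (l := 0) rfl N11466 D26136
theorem N15855 : nd 15855 = n26137 := ndS (p := 11466) (l := 2) rfl N11466 D26137
theorem N15856 : nd 15856 = n26138 := ndS (p := 11467) (l := 2) rfl N11467 D26138
theorem N15857 : nd 15857 = n26139 := ndS (p := 11467) (l := 5) rfl N11467 D26139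
theorem N15858 : nd 15858 = n26140 := ndS (p := 11468) (l := 3) rfl N11468 D26140
theorem N15859 : nd 15859 = n26141 := ndS (p := 11468) (l := 5) rfl N11468 D26141
theorem N15860 : nd 15860 = n26142 := ndS (p := 11469) (l := 6) rfl N11469 D26142
theorem N15861 : nd 15861 = n26143 := ndS (p := 11470) (l := 2) rfl N11470 D26143
theorem N15862 : nd 15862 = n26144 := ndS (p := 11471) (l := 3) rfl N11471 D26144
theorem N15863 : nd 15863 = n26145 := ndS (p := 11473) (l := 5) rfl N11473 D26145
theorem N15864 : nd 15864 = n26146 := ndS (p := 11474) (l := 2) rfl N11474 D26146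
theorem N15865 : nd 15865 = n26147 := ndS (p := 11475) (l := 3) rfl N11475 D26147
theorem N15866 : nd 15866 = n26148 := ndS (p := 11476) (l := 5) rfl N11476 D26148
theorem N15867 : nd 15867 = n26149 := ndS (p := 11478) (l := 2) rfl N11478 D26149
theorem N15868 : nd 15868 = n26150 := ndS (p := 11478) (l := 5) rfl N11478 D26150
theorem N15869 : nd 15869 = n26151 := ndS (p := 11479) (l := 1) rfl N11479 D26151
theorem N15870 : nd 15870 = n26152 := ndS (p := 11479) (l := 6) rfl N11479 D26152
theorem N15871 : nd 15871 = n26153 := ndS (p := 11480) (l := 1) rfl N11480 D26153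
theorem N15872 : nd 15872 = n26154 := ndS (p := 11481) (l := 3) rfl N11481 D26154
theorem N15873 : nd 15873 = n26155 := ndS (p := 11482) (l := 0) rfl N11482 D26155
theorem N15874 : nd 15874 = n26156 := ndS (p := 11482) (l := 3) rfl N11482 D26156
theorem N15875 : nd 15875 = n26157 := ndS (p := 11482) (l := 5) rfl N11482 D26157
theorem N15876 : nd 15876 = n26158 := ndS (p := 11482) (l := 6) rfl N11482 D26158
theorem N15877 : nd 15877 = n26159 := ndS (p := 11483) (l := 2) rfl N11483 D26159
theorem N15878 : nd 15878 = n26160 := ndS (p := 11483) (l := 4) rfl N11483 D26160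
theorem N15879 : nd 15879 = n26161 := ndS (p := 11483) (l := 5) rfl N11483 D26161
theorem N15880 : nd 15880 = n26162 := ndS (p := 11483) (l := 6) rfl N11483 D26162
theorem N15881 : nd 15881 = n26163 := ndS (p := 11484) (l := 1) rfl N11484 D26163
theorem N15882 : nd 15882 = n26164 := ndS (p := 11486) (l := 3) rfl N11486 D26164
theorem N15883 : nd 15883 = n26165 := ndS (p := 11486) (l := 5) rfl N11486 D26165
theorem N15884 : nd 15884 = n26168 := ndS (p := 11487) (l := 5) rfl N11487 D26168
theorem N15885 : nd 15885 = n26169 := ndS (p := 11487) (l := 6) rfl N11487 D26169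
theorem N15886 : nd 15886 = n26170 := ndS (p := 11489) (l := 5) rfl N11489 D26170
theorem N15887 : nd 15887 = n26173 := ndS (p := 11492) (l := 0) rfl N11492 D26173
theorem N15888 : nd 15888 = n26174 := ndS (p := 11492) (l := 3) rfl N11492 D26174
theorem N15889 : nd 15889 = n26175 := ndS (p := 11492) (l := 4) rfl N11492 D26175
theorem N15890 : nd 15890 = n26176 := ndS (p := 11492) (l := 5) rfl N11492 D26176
theorem N15891 : nd 15891 = n26177 := ndS (p := 11492) (l := 6) rfl N11492 D26177
theorem N15892 : nd 15892 = n26178 := ndS (p := 11493) (l := 4) rfl N11493 D26178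
theorem N15893 : nd 15893 = n26179 := ndS (p := 11494) (l := 3) rfl N11494 D26179
theorem N15894 : nd 15894 = n26180 := ndS (p := 11494) (l := 6) rfl N11494 D26180
theorem N15895 : nd 15895 = n26181 := ndS (p := 11495) (l := 1) rfl N11495 D26181
theorem N15896 : nd 15896 = n26182 := ndS (p := 11496) (l := 1) rfl N11496 D26182
theorem N15897 : nd 15897 = n26183 := ndS (p := 11497) (l := 0) rfl N11497 D26183
theorem N15898 : nd 15898 = n26184 := ndS (p := 11497) (l := 2) rfl N11497 D26184
theorem N15899 : nd 15899 = n26185 := ndS (p := 11497) (l := 5) rfl N11497 D26185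
theorem N15900 : nd 15900 = n26186 := ndS (p := 11498) (l := 1) rfl N11498 D26186
theorem N15901 : nd 15901 = n26187 := ndS (p := 11498) (l := 2) rfl N11498 D26187
theorem N15902 : nd 15902 = n26188 := ndS (p := 11498) (l := 5) rfl N11498 D26188
theorem N15903 : nd 15903 = n26189 := ndS (p := 11499) (l := 3) rfl N11499 D26189
theorem N15904 : nd 15904 = n26190 := ndS (p := 11499) (l := 5) rfl N11499 D26190
theorem N15905 : nd 15905 = n26191 := ndS (p := 11500) (l := 6) rfl N11500 D26191
theorem N15906 : nd 15906 = n26192 := ndS (p := 11501) (l := 3) rfl N11501 D26192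
theorem N15907 : nd 15907 = n26193 := ndS (p := 11502) (l := 5) rfl N11502 D26193
theorem N15908 : nd 15908 = n26194 := ndS (p := 11503) (l := 1) rfl N11503 D26194
theorem N15909 : nd 15909 = n26195 := ndS (p := 11504) (l := 2) rfl N11504 D26195
theorem N15910 : nd 15910 = n26196 := ndS (p := 11504) (l := 4) rfl N11504 D26196
theorem N15911 : nd 15911 = n26197 := ndS (p := 11504) (l := 5) rfl N11504 D26197
theorem N15912 : nd 15912 = n26198 := ndS (p := 11505) (l := 1) rfl N11505 D26198
theorem N15913 : nd 15913 = n26199 := ndS (p := 11506) (l := 3) rfl N11506 D26199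
theorem N15914 : nd 15914 = n26200 := ndS (p := 11506) (l := 5) rfl N11506 D26200
theorem N15915 : nd 15915 = n26201 := ndS (p := 11507) (l := 5) rfl N11507 D26201
theorem N15916 : nd 15916 = n26202 := ndS (p := 11508) (l := 1) rfl N11508 D26202
theorem N15917 : nd 15917 = n26203 := ndS (p := 11508) (l := 6) rfl N11508 D26203
theorem N15918 : nd 15918 = n26204 := ndS (p := 11509) (l := 6) rfl N11509 D26204
theorem N15919 : nd 15919 = n26205 := ndS (p := 11510) (l := 1) rfl N11510 D26205
theorem N15920 : nd 15920 = n26206 := ndS (p := 11511) (l := 3) rfl N11511 D26206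
theorem N15921 : nd 15921 = n26207 := ndS (p := 11511) (l := 5) rfl N11511 D26207
theorem N15922 : nd 15922 = n26208 := ndS (p := 11511) (l := 6) rfl N11511 D26208
theorem N15923 : nd 15923 = n26209 := ndS (p := 11512) (l := 5) rfl N11512 D26209
theorem N15924 : nd 15924 = n26210 := ndS (p := 11513) (l := 1) rfl N11513 D26210
theorem N15925 : nd 15925 = n26211 := ndS (p := 11514) (l := 1) rfl N11514 D26211
theorem N15926 : nd 15926 = n26212 := ndS (p := 11515) (l := 3) rfl N11515 D26212
theorem N15927 : nd 15927 = n26213 := ndS (p := 11515) (l := 5) rfl N11515 D26213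
theorem N15928 : nd 15928 = n26214 := ndS (p := 11516) (l := 4) rfl N11516 D26214
theorem N15929 : nd 15929 = n26215 := ndS (p := 11516) (l := 5) rfl N11516 D26215
theorem N15930 : nd 15930 = n26216 := ndS (p := 11516) (l := 6) rfl N11516 D26216
theorem N15931 : nd 15931 = n26217 := ndS (p := 11517) (l := 1) rfl N11517 D26217
theorem N15932 : nd 15932 = n26218 := ndS (p := 11518) (l := 1) rfl N11518 D26218
theorem N15933 : nd 15933 = n26219 := ndS (p := 11518) (l := 5) rfl N11518 D26219
theorem N15934 : nd 15934 = n26220 := ndS (p := 11520) (l := 1) rfl N11520 D26220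
theorem N15935 : nd 15935 = n26221 := ndS (p := 11521) (l := 1) rfl N11521 D26221
theorem N15936 : nd 15936 = n26222 := ndS (p := 11523) (l := 0) rfl N11523 D26222
theorem N15937 : nd 15937 = n26223 := ndS (p := 11524) (l := 3) rfl N11524 D26223
theorem N15938 : nd 15938 = n26224 := ndS (p := 11525) (l := 3) rfl N11525 D26224
theorem N15939 : nd 15939 = n26225 := ndS (p := 11525) (l := 5) rfl N11525 D26225
theorem N15940 : nd 15940 = n26226 := ndS (p := 11526) (l := 4) rfl N11526 D26226
theorem N15941 : nd 15941 = n26227 := ndS (p := 11526) (l := 5) rfl N11526 D26227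
theorem N15942 : nd 15942 = n26228 := ndS (p := 11526) (l := 6) rfl N11526 D26228
theorem N15943 : nd 15943 = n26229 := ndS (p := 11527) (l := 1) rfl N11527 D26229
theorem N15944 : nd 15944 = n26230 := ndS (p := 11529) (l := 1) rfl N11529 D26230
theorem N15945 : nd 15945 = n26231 := ndS (p := 11529) (l := 4) rfl N11529 D26231
theorem N15946 : nd 15946 = n26232 := ndS (p := 11529) (l := 5) rfl N11529 D26232
theorem N15947 : nd 15947 = n26233 := ndS (p := 11529) (l := 6) rfl N11529 D26233
theorem N15948 : nd 15948 = n26234 := ndS (p := 11530) (l := 5) rfl N11530 D26234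
theorem N15949 : nd 15949 = n26235 := ndS (p := 11530) (l := 6) rfl N11530 D26235
theorem N15950 : nd 15950 = n26236 := ndS (p := 11531) (l := 6) rfl N11531 D26236
theorem N15951 : nd 15951 = n26237 := ndS (p := 11532) (l := 1) rfl N11532 D26237
theorem N15952 : nd 15952 = n26238 := ndS (p := 11532) (l := 5) rfl N11532 D26238
theorem N15953 : nd 15953 = n26239 := ndS (p := 11534) (l := 5) rfl N11534 D26239
theorem N15954 : nd 15954 = n26240 := ndS (p := 11536) (l := 0) rfl N11536 D26240
theorem N15955 : nd 15955 = n26241 := ndS (p := 11536) (l := 4) rfl N11536 D26241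
theorem N15956 : nd 15956 = n26242 := ndS (p := 11536) (l := 5) rfl N11536 D26242
theorem N15957 : nd 15957 = n26244 := ndS (p := 11537) (l := 3) rfl N11537 D26244
theorem N15958 : nd 15958 = n26245 := ndS (p := 11537) (l := 6) rfl N11537 D26245
theorem N15959 : nd 15959 = n26246 := ndS (p := 11538) (l := 1) rfl N11538 D26246
theorem N15960 : nd 15960 = n26247 := ndS (p := 11540) (l := 2) rfl N11540 D26247
theorem N15961 : nd 15961 = n26248 := ndS (p := 11540) (l := 5) rfl N11540 D26248
theorem N15962 : nd 15962 = n26249 := ndS (p := 11541) (l := 3) rfl N11541 D26249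
theorem N15963 : nd 15963 = n26250 := ndS (p := 11542) (l := 6) rfl N11542 D26250
theorem N15964 : nd 15964 = n26251 := ndS (p := 11543) (l := 2) rfl N11543 D26251
theorem N15965 : nd 15965 = n26252 := ndS (p := 11543) (l := 4) rfl N11543 D26252
theorem N15966 : nd 15966 = n26253 := ndS (p := 11544) (l := 1) rfl N11544 D26253
theorem N15967 : nd 15967 = n26254 := ndS (p := 11544) (l := 3) rfl N11544 D26254
theorem N15968 : nd 15968 = n26255 := ndS (p := 11544) (l := 4) rfl N11544 D26255
theorem N15969 : nd 15969 = n26256 := ndS (p := 11544) (l := 5) rfl N11544 D26256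
theorem N15970 : nd 15970 = n26257 := ndS (p := 11544) (l := 6) rfl N11544 D26257
theorem N15971 : nd 15971 = n26258 := ndS (p := 11545) (l := 2) rfl N11545 D26258
theorem N15972 : nd 15972 = n26259 := ndS (p := 11545) (l := 4) rfl N11545 D26259
theorem N15973 : nd 15973 = n26260 := ndS (p := 11545) (l := 5) rfl N11545 D26260
theorem N15974 : nd 15974 = n26261 := ndS (p := 11545) (l := 6) rfl N11545 D26261
theorem N15975 : nd 15975 = n26262 := ndS (p := 11546) (l := 3) rfl N11546 D26262
theorem N15976 : nd 15976 = n26263 := ndS (p := 11546) (l := 5) rfl N11546 D26263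
theorem N15977 : nd 15977 = n26264 := ndS (p := 11546) (l := 6) rfl N11546 D26264
theorem N15978 : nd 15978 = n26265 := ndS (p := 11547) (l := 6) rfl N11547 D26265
theorem N15979 : nd 15979 = n26266 := ndS (p := 11548) (l := 1) rfl N11548 D26266
theorem N15980 : nd 15980 = n26267 := ndS (p := 11548) (l := 5) rfl N11548 D26267
theorem N15981 : nd 15981 = n26268 := ndS (p := 11549) (l := 3) rfl N11549 D26268
theorem N15982 : nd 15982 = n26269 := ndS (p := 11549) (l := 6) rfl N11549 D26269
theorem N15983 : nd 15983 = n26270 := ndS (p := 11550) (l := 1) rfl N11550 D26270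
theorem N15984 : nd 15984 = n26271 := ndS (p := 11551) (l := 2) rfl N11551 D26271
theorem N15985 : nd 15985 = n26272 := ndS (p := 11551) (l := 6) rfl N11551 D26272
theorem N15986 : nd 15986 = n26273 := ndS (p := 11552) (l := 1) rfl N11552 D26273
theorem N15987 : nd 15987 = n26274 := ndS (p := 11552) (l := 5) rfl N11552 D26274
theorem N15988 : nd 15988 = n26276 := ndS (p := 11553) (l := 5) rfl N11553 D26276
theorem N15989 : nd 15989 = n26277 := ndS (p := 11554) (l := 1) rfl N11554 D26277
theorem N15990 : nd 15990 = n26278 := ndS (p := 11555) (l := 1) rfl N11555 D26278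
theorem N15991 : nd 15991 = n26279 := ndS (p := 11556) (l := 0) rfl N11556 D26279
theorem N15992 : nd 15992 = n26280 := ndS (p := 11556) (l := 2) rfl N11556 D26280
theorem N15993 : nd 15993 = n26281 := ndS (p := 11556) (l := 6) rfl N11556 D26281
theorem N15994 : nd 15994 = n26282 := ndS (p := 11557) (l := 2) rfl N11557 D26282
theorem N15995 : nd 15995 = n26283 := ndS (p := 11557) (l := 6) rfl N11557 D26283
theorem N15996 : nd 15996 = n26284 := ndS (p := 11558) (l := 6) rfl N11558 D26284
theorem N15997 : nd 15997 = n26285 := ndS (p := 11559) (l := 5) rfl N11559 D26285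
theorem N15998 : nd 15998 = n26286 := ndS (p := 11560) (l := 1) rfl N11560 D26286
theorem N15999 : nd 15999 = n26287 := ndS (p := 11561) (l := 1) rfl N11561 D26287
theorem N16000 : nd 16000 = n26288 := ndS (p := 11564) (l := 1) rfl N11564 D26288
theorem N16001 : nd 16001 = n26289 := ndS (p := 11565) (l := 0) rfl N11565 D26289
theorem N16002 : nd 16002 = n26290 := ndS (p := 11565) (l := 2) rfl N11565 D26290
theorem N16003 : nd 16003 = n26291 := ndS (p := 11565) (l := 5) rfl N11565 D26291
theorem N16004 : nd 16004 = n26292 := ndS (p := 11569) (l := 2) rfl N11569 D26292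
theorem N16005 : nd 16005 = n26293 := ndS (p := 11570) (l := 5) rfl N11570 D26293
theorem N16006 : nd 16006 = n26294 := ndS (p := 11572) (l := 2) rfl N11572 D26294
theorem N16007 : nd 16007 = n26295 := ndS (p := 11572) (l := 4) rfl N11572 D26295
theorem N16008 : nd 16008 = n26296 := ndS (p := 11572) (l := 5) rfl N11572 D26296
theorem N16009 : nd 16009 = n26297 := ndS (p := 11572) (l := 6) rfl N11572 D26297
theorem N16010 : nd 16010 = n26298 := ndS (p := 11574) (l := 5) rfl N11574 D26298
theorem N16011 : nd 16011 = n26299 := ndS (p := 11576) (l := 2) rfl N11576 D26299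
theorem N16012 : nd 16012 = n26300 := ndS (p := 11576) (l := 4) rfl N11576 D26300
theorem N16013 : nd 16013 = n26301 := ndS (p := 11576) (l := 5) rfl N11576 D26301
theorem N16014 : nd 16014 = n26302 := ndS (p := 11576) (l := 6) rfl N11576 D26302
theorem N16015 : nd 16015 = n26303 := ndS (p := 11579) (l := 1) rfl N11579 D26303
theorem N16016 : nd 16016 = n26304 := ndS (p := 11579) (l := 3) rfl N11579 D26304
theorem N16017 : nd 16017 = n26305 := ndS (p := 11579) (l := 4) rfl N11579 D26305
theorem N16018 : nd 16018 = n26306 := ndS (p := 11579) (l := 5) rfl N11579 D26306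
theorem N16019 : nd 16019 = n26307 := ndS (p := 11579) (l := 6) rfl N11579 D26307
theorem N16020 : nd 16020 = n26308 := ndS (p := 11580) (l := 5) rfl N11580 D26308
theorem N16021 : nd 16021 = n26309 := ndS (p := 11580) (l := 6) rfl N11580 D26309
theorem N16022 : nd 16022 = n26310 := ndS (p := 11581) (l := 6) rfl N11581 D26310
theorem N16023 : nd 16023 = n26311 := ndS (p := 11582) (l := 5) rfl N11582 D26311
theorem N16024 : nd 16024 = n26312 := ndS (p := 11585) (l := 0) rfl N11585 D26312
theorem N16025 : nd 16025 = n26313 := ndS (p := 11585) (l := 4) rfl N11585 D26313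
theorem N16026 : nd 16026 = n26314 := ndS (p := 11585) (l := 5) rfl N11585 D26314
theorem N16027 : nd 16027 = n26315 := ndS (p := 11585) (l := 6) rfl N11585 D26315
theorem N16028 : nd 16028 = n26316 := ndS (p := 11587) (l := 2) rfl N11587 D26316
theorem N16029 : nd 16029 = n26317 := ndS (p := 11587) (l := 4) rfl N11587 D26317
theorem N16030 : nd 16030 = n26318 := ndS (p := 11587) (l := 5) rfl N11587 D26318
theorem N16031 : nd 16031 = n26319 := ndS (p := 11587) (l := 6) rfl N11587 D26319
theorem N16032 : nd 16032 = n26320 := ndS (p := 11588) (l := 1) rfl N11588 D26320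
theorem N16033 : nd 16033 = n26321 := ndS (p := 11588) (l := 6) rfl N11588 D26321
theorem N16034 : nd 16034 = n26322 := ndS (p := 11589) (l := 5) rfl N11589 D26322
theorem N16035 : nd 16035 = n26323 := ndS (p := 11590) (l := 1) rfl N11590 D26323
theorem N16036 : nd 16036 = n26324 := ndS (p := 11590) (l := 3) rfl N11590 D26324
theorem N16037 : nd 16037 = n26325 := ndS (p := 11590) (l := 4) rfl N11590 D26325
theorem N16038 : nd 16038 = n26326 := ndS (p := 11590) (l := 5) rfl N11590 D26326
theorem N16039 : nd 16039 = n26327 := ndS (p := 11590) (l := 6) rfl N11590 D26327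
theorem N16040 : nd 16040 = n26328 := ndS (p := 11591) (l := 5) rfl N11591 D26328
theorem N16041 : nd 16041 = n26329 := ndS (p := 11591) (l := 6) rfl N11591 D26329
theorem N16042 : nd 16042 = n26330 := ndS (p := 11592) (l := 1) rfl N11592 D26330
theorem N16043 : nd 16043 = n26331 := ndS (p := 11593) (l := 1) rfl N11593 D26331
theorem N16044 : nd 16044 = n26332 := ndS (p := 11594) (l := 2) rfl N11594 D26332
theorem N16045 : nd 16045 = n26333 := ndS (p := 11596) (l := 2) rfl N11596 D26333
theorem N16046 : nd 16046 = n26334 := ndS (p := 11596) (l := 4) rfl N11596 D26334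
theorem N16047 : nd 16047 = n26335 := ndS (p := 11596) (l := 5) rfl N11596 D26335
theorem N16048 : nd 16048 = n26336 := ndS (p := 11596) (l := 6) rfl N11596 D26336
theorem N16049 : nd 16049 = n26337 := ndS (p := 11597) (l := 3) rfl N11597 D26337
theorem N16050 : nd 16050 = n26338 := ndS (p := 11597) (l := 5) rfl N11597 D26338
theorem N16051 : nd 16051 = n26339 := ndS (p := 11597) (l := 6) rfl N11597 D26339
theorem N16052 : nd 16052 = n26340 := ndS (p := 11598) (l := 1) rfl N11598 D26340
theorem N16053 : nd 16053 = n26341 := ndS (p := 11598) (l := 6) rfl N11598 D26341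
theorem N16054 : nd 16054 = n26342 := ndS (p := 11599) (l := 1) rfl N11599 D26342
theorem N16055 : nd 16055 = n26343 := ndS (p := 11599) (l := 5) rfl N11599 D26343
theorem N16056 : nd 16056 = n26344 := ndS (p := 11600) (l := 6) rfl N11600 D26344
theorem N16057 : nd 16057 = n26345 := ndS (p := 11601) (l := 5) rfl N11601 D26345
theorem N16058 : nd 16058 = n26346 := ndS (p := 11602) (l := 1) rfl N11602 D26346
theorem N16059 : nd 16059 = n26347 := ndS (p := 11603) (l := 1) rfl N11603 D26347
theorem N16060 : nd 16060 = n26348 := ndS (p := 11604) (l := 2) rfl N11604 D26348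
theorem N16061 : nd 16061 = n26349 := ndS (p := 11604) (l := 5) rfl N11604 D26349
theorem N16062 : nd 16062 = n26350 := ndS (p := 11605) (l := 0) rfl N11605 D26350
theorem N16063 : nd 16063 = n26351 := ndS (p := 11605) (l := 2) rfl N11605 D26351
theorem N16064 : nd 16064 = n26352 := ndS (p := 11605) (l := 6) rfl N11605 D26352
theorem N16065 : nd 16065 = n26353 := ndS (p := 11606) (l := 4) rfl N11606 D26353
theorem N16066 : nd 16066 = n26354 := ndS (p := 11606) (l := 5) rfl N11606 D26354
theorem N16067 : nd 16067 = n26355 := ndS (p := 11606) (l := 6) rfl N11606 D26355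
theorem N16068 : nd 16068 = n26356 := ndS (p := 11607) (l := 5) rfl N11607 D26356
theorem N16069 : nd 16069 = n26357 := ndS (p := 11607) (l := 6) rfl N11607 D26357
theorem N16070 : nd 16070 = n26358 := ndS (p := 11608) (l := 1) rfl N11608 D26358
theorem N16071 : nd 16071 = n26359 := ndS (p := 11609) (l := 1) rfl N11609 D26359
theorem N16072 : nd 16072 = n26360 := ndS (p := 11610) (l := 6) rfl N11610 D26360
theorem N16073 : nd 16073 = n26361 := ndS (p := 11611) (l := 5) rfl N11611 D26361
theorem N16074 : nd 16074 = n26362 := ndS (p := 11612) (l := 1) rfl N11612 D26362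
theorem N16075 : nd 16075 = n26363 := ndS (p := 11613) (l := 1) rfl N11613 D26363
theorem N16076 : nd 16076 = n26364 := ndS (p := 11616) (l := 1) rfl N11616 D26364
theorem N16077 : nd 16077 = n26365 := ndS (p := 11617) (l := 0) rfl N11617 D26365
theorem N16078 : nd 16078 = n26366 := ndS (p := 11617) (l := 2) rfl N11617 D26366
theorem N16079 : nd 16079 = n26367 := ndS (p := 11617) (l := 6) rfl N11617 D26367
theorem N16080 : nd 16080 = n26368 := ndS (p := 11621) (l := 2) rfl N11621 D26368
theorem N16081 : nd 16081 = n26369 := ndS (p := 11622) (l := 6) rfl N11622 D26369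
theorem N16082 : nd 16082 = n26370 := ndS (p := 11624) (l := 2) rfl N11624 D26370
theorem N16083 : nd 16083 = n26371 := ndS (p := 11624) (l := 4) rfl N11624 D26371
theorem N16084 : nd 16084 = n26372 := ndS (p := 11624) (l := 5) rfl N11624 D26372
theorem N16085 : nd 16085 = n26373 := ndS (p := 11624) (l := 6) rfl N11624 D26373
theorem N16086 : nd 16086 = n26374 := ndS (p := 11625) (l := 6) rfl N11625 D26374
theorem N16087 : nd 16087 = n26375 := ndS (p := 11628) (l := 2) rfl N11628 D26375
theorem N16088 : nd 16088 = n26376 := ndS (p := 11628) (l := 4) rfl N11628 D26376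
theorem N16089 : nd 16089 = n26377 := ndS (p := 11628) (l := 5) rfl N11628 D26377
theorem N16090 : nd 16090 = n26378 := ndS (p := 11628) (l := 6) rfl N11628 D26378
theorem N16091 : nd 16091 = n26379 := ndS (p := 11631) (l := 1) rfl N11631 D26379
theorem N16092 : nd 16092 = n26380 := ndS (p := 11631) (l := 3) rfl N11631 D26380
theorem N16093 : nd 16093 = n26381 := ndS (p := 11631) (l := 4) rfl N11631 D26381
theorem N16094 : nd 16094 = n26382 := ndS (p := 11631) (l := 5) rfl N11631 D26382
theorem N16095 : nd 16095 = n26383 := ndS (p := 11631) (l := 6) rfl N11631 D26383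
theorem N16096 : nd 16096 = n26384 := ndS (p := 11632) (l := 5) rfl N11632 D26384
theorem N16097 : nd 16097 = n26385 := ndS (p := 11632) (l := 6) rfl N11632 D26385
theorem N16098 : nd 16098 = n26386 := ndS (p := 11633) (l := 6) rfl N11633 D26386
theorem N16099 : nd 16099 = n26387 := ndS (p := 11634) (l := 5) rfl N11634 D26387
theorem N16100 : nd 16100 = n26388 := ndS (p := 11637) (l := 0) rfl N11637 D26388
theorem N16101 : nd 16101 = n26389 := ndS (p := 11637) (l := 4) rfl N11637 D26389
theorem N16102 : nd 16102 = n26390 := ndS (p := 11637) (l := 5) rfl N11637 D26390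
theorem N16103 : nd 16103 = n26391 := ndS (p := 11637) (l := 6) rfl N11637 D26391
theorem N16104 : nd 16104 = n26392 := ndS (p := 11639) (l := 2) rfl N11639 D26392
theorem N16105 : nd 16105 = n26393 := ndS (p := 11639) (l := 4) rfl N11639 D26393
theorem N16106 : nd 16106 = n26394 := ndS (p := 11639) (l := 5) rfl N11639 D26394
theorem N16107 : nd 16107 = n26395 := ndS (p := 11639) (l := 6) rfl N11639 D26395
theorem N16108 : nd 16108 = n26396 := ndS (p := 11640) (l := 6) rfl N11640 D26396
theorem N16109 : nd 16109 = n26397 := ndS (p := 11641) (l := 1) rfl N11641 D26397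
theorem N16110 : nd 16110 = n26398 := ndS (p := 11641) (l := 5) rfl N11641 D26398
theorem N16111 : nd 16111 = n26399 := ndS (p := 11642) (l := 1) rfl N11642 D26399
theorem N16112 : nd 16112 = n26400 := ndS (p := 11642) (l := 3) rfl N11642 D26400
theorem N16113 : nd 16113 = n26401 := ndS (p := 11642) (l := 4) rfl N11642 D26401
theorem N16114 : nd 16114 = n26402 := ndS (p := 11642) (l := 5) rfl N11642 D26402
theorem N16115 : nd 16115 = n26403 := ndS (p := 11642) (l := 6) rfl N11642 D26403
theorem N16116 : nd 16116 = n26404 := ndS (p := 11643) (l := 5) rfl N11643 D26404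
theorem N16117 : nd 16117 = n26405 := ndS (p := 11643) (l := 6) rfl N11643 D26405
theorem N16118 : nd 16118 = n26406 := ndS (p := 11644) (l := 1) rfl N11644 D26406
theorem N16119 : nd 16119 = n26407 := ndS (p := 11645) (l := 1) rfl N11645 D26407
theorem N16120 : nd 16120 = n26408 := ndS (p := 11647) (l := 2) rfl N11647 D26408
theorem N16121 : nd 16121 = n26409 := ndS (p := 11648) (l := 2) rfl N11648 D26409
theorem N16122 : nd 16122 = n26410 := ndS (p := 11648) (l := 4) rfl N11648 D26410
theorem N16123 : nd 16123 = n26411 := ndS (p := 11648) (l := 5) rfl N11648 D26411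
theorem N16124 : nd 16124 = n26412 := ndS (p := 11648) (l := 6) rfl N11648 D26412
theorem N16125 : nd 16125 = n26413 := ndS (p := 11649) (l := 3) rfl N11649 D26413
theorem N16126 : nd 16126 = n26414 := ndS (p := 11649) (l := 5) rfl N11649 D26414
theorem N16127 : nd 16127 = n26415 := ndS (p := 11649) (l := 6) rfl N11649 D26415
theorem N16128 : nd 16128 = n26416 := ndS (p := 11650) (l := 1) rfl N11650 D26416
theorem N16129 : nd 16129 = n26417 := ndS (p := 11650) (l := 6) rfl N11650 D26417
theorem N16130 : nd 16130 = n26418 := ndS (p := 11651) (l := 1) rfl N11651 D26418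
theorem N16131 : nd 16131 = n26419 := ndS (p := 11651) (l := 5) rfl N11651 D26419
theorem N16132 : nd 16132 = n26420 := ndS (p := 11652) (l := 6) rfl N11652 D26420
theorem N16133 : nd 16133 = n26421 := ndS (p := 11653) (l := 5) rfl N11653 D26421
theorem N16134 : nd 16134 = n26422 := ndS (p := 11654) (l := 1) rfl N11654 D26422
theorem N16135 : nd 16135 = n26423 := ndS (p := 11655) (l := 1) rfl N11655 D26423
theorem N16136 : nd 16136 = n26424 := ndS (p := 11656) (l := 0) rfl N11656 D26424
theorem N16137 : nd 16137 = n26425 := ndS (p := 11656) (l := 2) rfl N11656 D26425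
theorem N16138 : nd 16138 = n26426 := ndS (p := 11656) (l := 5) rfl N11656 D26426
theorem N16139 : nd 16139 = n26427 := ndS (p := 11657) (l := 2) rfl N11657 D26427
theorem N16140 : nd 16140 = n26428 := ndS (p := 11657) (l := 6) rfl N11657 D26428
theorem N16141 : nd 16141 = n26429 := ndS (p := 11658) (l := 4) rfl N11658 D26429
theorem N16142 : nd 16142 = n26430 := ndS (p := 11658) (l := 5) rfl N11658 D26430
theorem N16143 : nd 16143 = n26431 := ndS (p := 11658) (l := 6) rfl N11658 D26431
theorem N16144 : nd 16144 = n26432 := ndS (p := 11659) (l := 5) rfl N11659 D26432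
theorem N16145 : nd 16145 = n26433 := ndS (p := 11659) (l := 6) rfl N11659 D26433
theorem N16146 : nd 16146 = n26434 := ndS (p := 11660) (l := 1) rfl N11660 D26434
theorem N16147 : nd 16147 = n26435 := ndS (p := 11661) (l := 1) rfl N11661 D26435
theorem N16148 : nd 16148 = n26436 := ndS (p := 11662) (l := 6) rfl N11662 D26436
theorem N16149 : nd 16149 = n26437 := ndS (p := 11663) (l := 5) rfl N11663 D26437
theorem N16150 : nd 16150 = n26438 := ndS (p := 11664) (l := 1) rfl N11664 D26438
theorem N16151 : nd 16151 = n26439 := ndS (p := 11665) (l := 1) rfl N11665 D26439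
theorem N16152 : nd 16152 = n26440 := ndS (p := 11666) (l := 1) rfl N11666 D26440
theorem N16153 : nd 16153 = n26441 := ndS (p := 11666) (l := 3) rfl N11666 D26441
theorem N16154 : nd 16154 = n26442 := ndS (p := 11667) (l := 0) rfl N11667 D26442
theorem N16155 : nd 16155 = n26443 := ndS (p := 11667) (l := 5) rfl N11667 D26443
theorem N16156 : nd 16156 = n26444 := ndS (p := 11667) (l := 6) rfl N11667 D26444
theorem N16157 : nd 16157 = n26445 := ndS (p := 11668) (l := 1) rfl N11668 D26445
theorem N16158 : nd 16158 = n26446 := ndS (p := 11668) (l := 3) rfl N11668 D26446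
theorem N16159 : nd 16159 = n26447 := ndS (p := 11668) (l := 5) rfl N11668 D26447
theorem N16160 : nd 16160 = n26448 := ndS (p := 11668) (l := 6) rfl N11668 D26448
theorem N16161 : nd 16161 = n26449 := ndS (p := 11669) (l := 2) rfl N11669 D26449
theorem N16162 : nd 16162 = n26450 := ndS (p := 11669) (l := 4) rfl N11669 D26450
theorem N16163 : nd 16163 = n26451 := ndS (p := 11669) (l := 5) rfl N11669 D26451
theorem N16164 : nd 16164 = n26452 := ndS (p := 11669) (l := 6) rfl N11669 D26452
theorem N16165 : nd 16165 = n26453 := ndS (p := 11670) (l := 6) rfl N11670 D26453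
theorem N16166 : nd 16166 = n26454 := ndS (p := 11671) (l := 5) rfl N11671 D26454
theorem N16167 : nd 16167 = n26455 := ndS (p := 11673) (l := 1) rfl N11673 D26455
theorem N16168 : nd 16168 = n26456 := ndS (p := 11673) (l := 3) rfl N11673 D26456
theorem N16169 : nd 16169 = n26457 := ndS (p := 11674) (l := 0) rfl N11674 D26457
theorem N16170 : nd 16170 = n26458 := ndS (p := 11674) (l := 5) rfl N11674 D26458
theorem N16171 : nd 16171 = n26459 := ndS (p := 11674) (l := 6) rfl N11674 D26459
theorem N16172 : nd 16172 = n26460 := ndS (p := 11675) (l := 1) rfl N11675 D26460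
theorem N16173 : nd 16173 = n26461 := ndS (p := 11675) (l := 3) rfl N11675 D26461
theorem N16174 : nd 16174 = n26462 := ndS (p := 11675) (l := 5) rfl N11675 D26462
theorem N16175 : nd 16175 = n26463 := ndS (p := 11675) (l := 6) rfl N11675 D26463
theorem N16176 : nd 16176 = n26464 := ndS (p := 11676) (l := 2) rfl N11676 D26464
theorem N16177 : nd 16177 = n26465 := ndS (p := 11676) (l := 4) rfl N11676 D26465
theorem N16178 : nd 16178 = n26466 := ndS (p := 11676) (l := 5) rfl N11676 D26466
theorem N16179 : nd 16179 = n26467 := ndS (p := 11676) (l := 6) rfl N11676 D26467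
theorem N16180 : nd 16180 = n26468 := ndS (p := 11677) (l := 6) rfl N11677 D26468
theorem N16181 : nd 16181 = n26469 := ndS (p := 11678) (l := 5) rfl N11678 D26469
theorem N16182 : nd 16182 = n26470 := ndS (p := 11691) (l := 0) rfl N11691 D26470
theorem N16183 : nd 16183 = n26471 := ndS (p := 11691) (l := 5) rfl N11691 D26471
theorem N16184 : nd 16184 = n26472 := ndS (p := 11692) (l := 0) rfl N11692 D26472
theorem N16185 : nd 16185 = n26473 := ndS (p := 11692) (l := 6) rfl N11692 D26473
theorem N16186 : nd 16186 = n26474 := ndS (p := 11693) (l := 6) rfl N11693 D26474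
theorem N16187 : nd 16187 = n26475 := ndS (p := 11695) (l := 5) rfl N11695 D26475
theorem N16188 : nd 16188 = n26476 := ndS (p := 11699) (l := 4) rfl N11699 D26476
theorem N16189 : nd 16189 = n26477 := ndS (p := 11700) (l := 4) rfl N11700 D26477
theorem N16190 : nd 16190 = n26478 := ndS (p := 11701) (l := 5) rfl N11701 D26478
theorem N16191 : nd 16191 = n26479 := ndS (p := 11705) (l := 4) rfl N11705 D26479
theorem N16192 : nd 16192 = n26480 := ndS (p := 11706) (l := 4) rfl N11706 D26480
theorem N16193 : nd 16193 = n26481 := ndS (p := 11707) (l := 6) rfl N11707 D26481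
theorem N16194 : nd 16194 = n26482 := ndS (p := 11710) (l := 1) rfl N11710 D26482
theorem N16195 : nd 16195 = n26483 := ndS (p := 11713) (l := 5) rfl N11713 D26483
theorem N16196 : nd 16196 = n26484 := ndS (p := 11714) (l := 1) rfl N11714 D26484
theorem N16197 : nd 16197 = n26485 := ndS (p := 11715) (l := 3) rfl N11715 D26485
theorem N16198 : nd 16198 = n26486 := ndS (p := 11715) (l := 5) rfl N11715 D26486
theorem N16199 : nd 16199 = n26487 := ndS (p := 11719) (l := 1) rfl N11719 D26487
theorem N16200 : nd 16200 = n26488 := ndS (p := 11722) (l := 6) rfl N11722 D26488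
theorem N16201 : nd 16201 = n26489 := ndS (p := 11723) (l := 1) rfl N11723 D26489
theorem N16202 : nd 16202 = n26490 := ndS (p := 11724) (l := 3) rfl N11724 D26490
theorem N16203 : nd 16203 = n26491 := ndS (p := 11724) (l := 6) rfl N11724 D26491
theorem N16204 : nd 16204 = n26492 := ndS (p := 11731) (l := 1) rfl N11731 D26492
theorem N16205 : nd 16205 = n26493 := ndS (p := 11735) (l := 2) rfl N11735 D26493
theorem N16206 : nd 16206 = n26494 := ndS (p := 11735) (l := 5) rfl N11735 D26494
theorem N16207 : nd 16207 = n26495 := ndS (p := 11737) (l := 3) rfl N11737 D26495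
theorem N16208 : nd 16208 = n26496 := ndS (p := 11737) (l := 4) rfl N11737 D26496
theorem N16209 : nd 16209 = n26497 := ndS (p := 11737) (l := 5) rfl N11737 D26497
theorem N16210 : nd 16210 = n26498 := ndS (p := 11738) (l := 5) rfl N11738 D26498
theorem N16211 : nd 16211 = n26499 := ndS (p := 11739) (l := 1) rfl N11739 D26499
theorem N16212 : nd 16212 = n26500 := ndS (p := 11741) (l := 4) rfl N11741 D26500
theorem N16213 : nd 16213 = n26501 := ndS (p := 11741) (l := 5) rfl N11741 D26501
theorem N16214 : nd 16214 = n26502 := ndS (p := 11747) (l := 1) rfl N11747 D26502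
theorem N16215 : nd 16215 = n26503 := ndS (p := 11748) (l := 0) rfl N11748 D26503
theorem N16216 : nd 16216 = n26504 := ndS (p := 11748) (l := 2) rfl N11748 D26504
theorem N16217 : nd 16217 = n26505 := ndS (p := 11750) (l := 3) rfl N11750 D26505
theorem N16218 : nd 16218 = n26506 := ndS (p := 11751) (l := 4) rfl N11751 D26506
theorem N16219 : nd 16219 = n26507 := ndS (p := 11753) (l := 5) rfl N11753 D26507
theorem N16220 : nd 16220 = n26508 := ndS (p := 11754) (l := 1) rfl N11754 D26508
theorem N16221 : nd 16221 = n26509 := ndS (p := 11757) (l := 1) rfl N11757 D26509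
theorem N16222 : nd 16222 = n26510 := ndS (p := 11758) (l := 0) rfl N11758 D26510
theorem N16223 : nd 16223 = n26511 := ndS (p := 11758) (l := 2) rfl N11758 D26511
theorem N16224 : nd 16224 = n26512 := ndS (p := 11758) (l := 6) rfl N11758 D26512
theorem N16225 : nd 16225 = n26513 := ndS (p := 11759) (l := 6) rfl N11759 D26513
theorem N16226 : nd 16226 = n26514 := ndS (p := 11762) (l := 6) rfl N11762 D26514
theorem N16227 : nd 16227 = n26515 := ndS (p := 11763) (l := 1) rfl N11763 D26515
theorem N16228 : nd 16228 = n26516 := ndS (p := 11764) (l := 3) rfl N11764 D26516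
theorem N16229 : nd 16229 = n26517 := ndS (p := 11764) (l := 6) rfl N11764 D26517
theorem N16230 : nd 16230 = n26518 := ndS (p := 11765) (l := 1) rfl N11765 D26518
theorem N16231 : nd 16231 = n26519 := ndS (p := 11766) (l := 0) rfl N11766 D26519
theorem N16232 : nd 16232 = n26520 := ndS (p := 11766) (l := 2) rfl N11766 D26520
theorem N16233 : nd 16233 = n26521 := ndS (p := 11768) (l := 1) rfl N11768 D26521
theorem N16234 : nd 16234 = n26522 := ndS (p := 11768) (l := 2) rfl N11768 D26522
theorem N16235 : nd 16235 = n26523 := ndS (p := 11774) (l := 1) rfl N11774 D26523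
theorem N16236 : nd 16236 = n26524 := ndS (p := 11778) (l := 6) rfl N11778 D26524
theorem N16237 : nd 16237 = n26525 := ndS (p := 11780) (l := 3) rfl N11780 D26525
theorem N16238 : nd 16238 = n26526 := ndS (p := 11780) (l := 4) rfl N11780 D26526
theorem N16239 : nd 16239 = n26527 := ndS (p := 11780) (l := 6) rfl N11780 D26527
theorem N16240 : nd 16240 = n26528 := ndS (p := 11781) (l := 6) rfl N11781 D26528
theorem N16241 : nd 16241 = n26529 := ndS (p := 11782) (l := 1) rfl N11782 D26529
theorem N16242 : nd 16242 = n26530 := ndS (p := 11784) (l := 4) rfl N11784 D26530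
theorem N16243 : nd 16243 = n26531 := ndS (p := 11784) (l := 6) rfl N11784 D26531
theorem N16244 : nd 16244 = n26532 := ndS (p := 11790) (l := 1) rfl N11790 D26532
theorem N16245 : nd 16245 = n26533 := ndS (p := 11791) (l := 0) rfl N11791 D26533
theorem N16246 : nd 16246 = n26534 := ndS (p := 11791) (l := 2) rfl N11791 D26534
theorem N16247 : nd 16247 = n26535 := ndS (p := 11793) (l := 3) rfl N11793 D26535
theorem N16248 : nd 16248 = n26536 := ndS (p := 11794) (l := 4) rfl N11794 D26536
theorem N16249 : nd 16249 = n26537 := ndS (p := 11796) (l := 6) rfl N11796 D26537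
theorem N16250 : nd 16250 = n26538 := ndS (p := 11797) (l := 1) rfl N11797 D26538
theorem N16251 : nd 16251 = n26539 := ndS (p := 11800) (l := 1) rfl N11800 D26539
theorem N16252 : nd 16252 = n26540 := ndS (p := 11801) (l := 0) rfl N11801 D26540
theorem N16253 : nd 16253 = n26541 := ndS (p := 11801) (l := 2) rfl N11801 D26541
theorem N16254 : nd 16254 = n26542 := ndS (p := 11801) (l := 5) rfl N11801 D26542
theorem N16255 : nd 16255 = n26543 := ndS (p := 11802) (l := 5) rfl N11802 D26543
theorem N16256 : nd 16256 = n26544 := ndS (p := 11805) (l := 5) rfl N11805 D26544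
theorem N16257 : nd 16257 = n26545 := ndS (p := 11806) (l := 1) rfl N11806 D26545
theorem N16258 : nd 16258 = n26546 := ndS (p := 11807) (l := 5) rfl N11807 D26546
theorem N16259 : nd 16259 = n26547 := ndS (p := 11808) (l := 1) rfl N11808 D26547
theorem N16260 : nd 16260 = n26548 := ndS (p := 11809) (l := 0) rfl N11809 D26548
theorem N16261 : nd 16261 = n26549 := ndS (p := 11809) (l := 2) rfl N11809 D26549
theorem N16262 : nd 16262 = n26550 := ndS (p := 11811) (l := 1) rfl N11811 D26550
theorem N16263 : nd 16263 = n26551 := ndS (p := 11811) (l := 2) rfl N11811 D26551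
theorem N16264 : nd 16264 = n26552 := ndS (p := 11813) (l := 4) rfl N11813 D26552
theorem N16265 : nd 16265 = n26553 := ndS (p := 11814) (l := 2) rfl N11814 D26553
theorem N16266 : nd 16266 = n26554 := ndS (p := 11815) (l := 3) rfl N11815 D26554
theorem N16267 : nd 16267 = n26555 := ndS (p := 11817) (l := 0) rfl N11817 D26555
theorem N16268 : nd 16268 = n26556 := ndS (p := 11817) (l := 2) rfl N11817 D26556
theorem N16269 : nd 16269 = n26557 := ndS (p := 11817) (l := 5) rfl N11817 D26557
theorem N16270 : nd 16270 = n26558 := ndS (p := 11818) (l := 1) rfl N11818 D26558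
theorem N16271 : nd 16271 = n26559 := ndS (p := 11818) (l := 2) rfl N11818 D26559
theorem N16272 : nd 16272 = n26560 := ndS (p := 11818) (l := 5) rfl N11818 D26560
theorem N16273 : nd 16273 = n26561 := ndS (p := 11819) (l := 3) rfl N11819 D26561
theorem N16274 : nd 16274 = n26562 := ndS (p := 11819) (l := 5) rfl N11819 D26562
theorem N16275 : nd 16275 = n26563 := ndS (p := 11820) (l := 6) rfl N11820 D26563
theorem N16276 : nd 16276 = n26564 := ndS (p := 11821) (l := 2) rfl N11821 D26564
theorem N16277 : nd 16277 = n26565 := ndS (p := 11821) (l := 6) rfl N11821 D26565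
theorem N16278 : nd 16278 = n26566 := ndS (p := 11828) (l := 4) rfl N11828 D26566
theorem N16279 : nd 16279 = n26567 := ndS (p := 11829) (l := 1) rfl N11829 D26567
theorem N16280 : nd 16280 = n26568 := ndS (p := 11833) (l := 4) rfl N11833 D26568
theorem N16281 : nd 16281 = n26569 := ndS (p := 11834) (l := 4) rfl N11834 D26569
theorem N16282 : nd 16282 = n26570 := ndS (p := 11835) (l := 5) rfl N11835 D26570
theorem N16283 : nd 16283 = n26571 := ndS (p := 11836) (l := 1) rfl N11836 D26571
theorem N16284 : nd 16284 = n26572 := ndS (p := 11837) (l := 0) rfl N11837 D26572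
theorem N16285 : nd 16285 = n26573 := ndS (p := 11838) (l := 4) rfl N11838 D26573
theorem N16286 : nd 16286 = n26574 := ndS (p := 11843) (l := 0) rfl N11843 D26574
theorem N16287 : nd 16287 = n26575 := ndS (p := 11843) (l := 5) rfl N11843 D26575
theorem N16288 : nd 16288 = n26576 := ndS (p := 11844) (l := 2) rfl N11844 D26576
theorem N16289 : nd 16289 = n26577 := ndS (p := 11845) (l := 5) rfl N11845 D26577
theorem N16290 : nd 16290 = n26578 := ndS (p := 11852) (l := 1) rfl N11852 D26578
theorem N16291 : nd 16291 = n26579 := ndS (p := 11853) (l := 0) rfl N11853 D26579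
theorem N16292 : nd 16292 = n26580 := ndS (p := 11856) (l := 1) rfl N11856 D26580
theorem N16293 : nd 16293 = n26581 := ndS (p := 11861) (l := 1) rfl N11861 D26581
theorem N16294 : nd 16294 = n26582 := ndS (p := 11861) (l := 5) rfl N11861 D26582
theorem N16295 : nd 16295 = n26583 := ndS (p := 11862) (l := 6) rfl N11862 D26583
theorem N16296 : nd 16296 = n26584 := ndS (p := 11863) (l := 2) rfl N11863 D26584
theorem N16297 : nd 16297 = n26585 := ndS (p := 11866) (l := 1) rfl N11866 D26585
theorem N16298 : nd 16298 = n26586 := ndS (p := 11866) (l := 3) rfl N11866 D26586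
theorem N16299 : nd 16299 = n26587 := ndS (p := 11867) (l := 3) rfl N11867 D26587
theorem N16300 : nd 16300 = n26588 := ndS (p := 11869) (l := 1) rfl N11869 D26588
theorem N16301 : nd 16301 = n26589 := ndS (p := 11870) (l := 1) rfl N11870 D26589
theorem N16302 : nd 16302 = n26590 := ndS (p := 11872) (l := 4) rfl N11872 D26590
theorem N16303 : nd 16303 = n26591 := ndS (p := 11874) (l := 5) rfl N11874 D26591
theorem N16304 : nd 16304 = n26592 := ndS (p := 11877) (l := 0) rfl N11877 D26592
theorem N16305 : nd 16305 = n26593 := ndS (p := 11877) (l := 4) rfl N11877 D26593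
theorem N16306 : nd 16306 = n26594 := ndS (p := 11877) (l := 5) rfl N11877 D26594
theorem N16307 : nd 16307 = n26595 := ndS (p := 11879) (l := 3) rfl N11879 D26595
theorem N16308 : nd 16308 = n26596 := ndS (p := 11884) (l := 2) rfl N11884 D26596
theorem N16309 : nd 16309 = n26597 := ndS (p := 11884) (l := 5) rfl N11884 D26597
theorem N16310 : nd 16310 = n26598 := ndS (p := 11887) (l := 5) rfl N11887 D26598
theorem N16311 : nd 16311 = n26599 := ndS (p := 11889) (l := 2) rfl N11889 D26599
theorem N16312 : nd 16312 = n26600 := ndS (p := 11893) (l := 0) rfl N11893 D26600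
theorem N16313 : nd 16313 = n26601 := ndS (p := 11893) (l := 2) rfl N11893 D26601
theorem N16314 : nd 16314 = n26602 := ndS (p := 11893) (l := 5) rfl N11893 D26602
theorem N16315 : nd 16315 = n26603 := ndS (p := 11893) (l := 6) rfl N11893 D26603
theorem N16316 : nd 16316 = n26604 := ndS (p := 11894) (l := 0) rfl N11894 D26604
theorem N16317 : nd 16317 = n26605 := ndS (p := 11894) (l := 2) rfl N11894 D26605
theorem N16318 : nd 16318 = n26606 := ndS (p := 11895) (l := 6) rfl N11895 D26606
theorem N16319 : nd 16319 = n26607 := ndS (p := 11896) (l := 3) rfl N11896 D26607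
theorem N16320 : nd 16320 = n26608 := ndS (p := 11899) (l := 6) rfl N11899 D26608
theorem N16321 : nd 16321 = n26609 := ndS (p := 11907) (l := 3) rfl N11907 D26609
theorem N16322 : nd 16322 = n26610 := ndS (p := 11907) (l := 5) rfl N11907 D26610
theorem N16323 : nd 16323 = n26611 := ndS (p := 11908) (l := 5) rfl N11908 D26611
theorem N16324 : nd 16324 = n26612 := ndS (p := 11911) (l := 0) rfl N11911 D26612
theorem N16325 : nd 16325 = n26613 := ndS (p := 11911) (l := 4) rfl N11911 D26613
theorem N16326 : nd 16326 = n26614 := ndS (p := 11926) (l := 3) rfl N11926 D26614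
theorem N16327 : nd 16327 = n26615 := ndS (p := 11927) (l := 4) rfl N11927 D26615
theorem N16328 : nd 16328 = n26616 := ndS (p := 11928) (l := 6) rfl N11928 D26616
theorem N16329 : nd 16329 = n26617 := ndS (p := 11929) (l := 1) rfl N11929 D26617
theorem N16330 : nd 16330 = n26618 := ndS (p := 11932) (l := 2) rfl N11932 D26618
theorem N16331 : nd 16331 = n26619 := ndS (p := 11932) (l := 4) rfl N11932 D26619
theorem N16332 : nd 16332 = n26620 := ndS (p := 11934) (l := 4) rfl N11934 D26620
theorem N16333 : nd 16333 = n26621 := ndS (p := 11934) (l := 6) rfl N11934 D26621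
theorem N16334 : nd 16334 = n26622 := ndS (p := 11935) (l := 5) rfl N11935 D26622
theorem N16335 : nd 16335 = n26623 := ndS (p := 11935) (l := 6) rfl N11935 D26623
theorem N16336 : nd 16336 = n26624 := ndS (p := 11936) (l := 6) rfl N11936 D26624
theorem N16337 : nd 16337 = n26625 := ndS (p := 11939) (l := 3) rfl N11939 D26625
theorem N16338 : nd 16338 = n26626 := ndS (p := 11940) (l := 4) rfl N11940 D26626
theorem N16339 : nd 16339 = n26627 := ndS (p := 11940) (l := 6) rfl N11940 D26627
theorem N16340 : nd 16340 = n26628 := ndS (p := 11941) (l := 3) rfl N11941 D26628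
theorem N16341 : nd 16341 = n26629 := ndS (p := 11941) (l := 5) rfl N11941 D26629
theorem N16342 : nd 16342 = n26630 := ndS (p := 11941) (l := 6) rfl N11941 D26630
theorem N16343 : nd 16343 = n26631 := ndS (p := 11942) (l := 1) rfl N11942 D26631
theorem N16344 : nd 16344 = n26632 := ndS (p := 11943) (l := 5) rfl N11943 D26632
theorem N16345 : nd 16345 = n26633 := ndS (p := 11944) (l := 3) rfl N11944 D26633
theorem N16346 : nd 16346 = n26634 := ndS (p := 11945) (l := 2) rfl N11945 D26634
theorem N16347 : nd 16347 = n26635 := ndS (p := 11945) (l := 5) rfl N11945 D26635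
theorem N16348 : nd 16348 = n26636 := ndS (p := 11946) (l := 1) rfl N11946 D26636
theorem N16349 : nd 16349 = n26637 := ndS (p := 11947) (l := 6) rfl N11947 D26637
theorem N16350 : nd 16350 = n26638 := ndS (p := 11948) (l := 0) rfl N11948 D26638
theorem N16351 : nd 16351 = n26639 := ndS (p := 11948) (l := 6) rfl N11948 D26639
theorem N16352 : nd 16352 = n26640 := ndS (p := 11949) (l := 6) rfl N11949 D26640
theorem N16353 : nd 16353 = n26641 := ndS (p := 11950) (l := 5) rfl N11950 D26641
theorem N16354 : nd 16354 = n26642 := ndS (p := 11955) (l := 5) rfl N11955 D26642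
theorem N16355 : nd 16355 = n26643 := ndS (p := 11960) (l := 5) rfl N11960 D26643
theorem N16356 : nd 16356 = n26644 := ndS (p := 11963) (l := 1) rfl N11963 D26644
theorem N16357 : nd 16357 = n26645 := ndS (p := 11964) (l := 0) rfl N11964 D26645
theorem N16358 : nd 16358 = n26646 := ndS (p := 11967) (l := 5) rfl N11967 D26646
theorem N16359 : nd 16359 = n26647 := ndS (p := 11973) (l := 6) rfl N11973 D26647
theorem N16360 : nd 16360 = n26648 := ndS (p := 11974) (l := 6) rfl N11974 D26648
theorem N16361 : nd 16361 = n26649 := ndS (p := 11977) (l := 4) rfl N11977 D26649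
theorem N16362 : nd 16362 = n26650 := ndS (p := 11978) (l := 6) rfl N11978 D26650
theorem N16363 : nd 16363 = n26651 := ndS (p := 11980) (l := 6) rfl N11980 D26651
theorem N16364 : nd 16364 = n26652 := ndS (p := 11983) (l := 0) rfl N11983 D26652
theorem N16365 : nd 16365 = n26653 := ndS (p := 11983) (l := 4) rfl N11983 D26653
theorem N16366 : nd 16366 = n26654 := ndS (p := 11983) (l := 5) rfl N11983 D26654
theorem N16367 : nd 16367 = n26655 := ndS (p := 11984) (l := 3) rfl N11984 D26655
theorem N16368 : nd 16368 = n26656 := ndS (p := 11984) (l := 6) rfl N11984 D26656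
theorem N16369 : nd 16369 = n26657 := ndS (p := 11986) (l := 6) rfl N11986 D26657
theorem N16370 : nd 16370 = n26658 := ndS (p := 11987) (l := 5) rfl N11987 D26658
theorem N16371 : nd 16371 = n26659 := ndS (p := 11990) (l := 3) rfl N11990 D26659
theorem N16372 : nd 16372 = n26660 := ndS (p := 11990) (l := 6) rfl N11990 D26660
theorem N16373 : nd 16373 = n26661 := ndS (p := 11992) (l := 1) rfl N11992 D26661
theorem N16374 : nd 16374 = n26662 := ndS (p := 11992) (l := 4) rfl N11992 D26662
theorem N16375 : nd 16375 = n26663 := ndS (p := 11992) (l := 5) rfl N11992 D26663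
theorem N16376 : nd 16376 = n26664 := ndS (p := 11992) (l := 6) rfl N11992 D26664
theorem N16377 : nd 16377 = n26665 := ndS (p := 11993) (l := 3) rfl N11993 D26665
theorem N16378 : nd 16378 = n26666 := ndS (p := 11993) (l := 5) rfl N11993 D26666
theorem N16379 : nd 16379 = n26667 := ndS (p := 11993) (l := 6) rfl N11993 D26667
theorem N16380 : nd 16380 = n26668 := ndS (p := 11994) (l := 6) rfl N11994 D26668
theorem N16381 : nd 16381 = n26669 := ndS (p := 11995) (l := 5) rfl N11995 D26669
theorem N16382 : nd 16382 = n26670 := ndS (p := 11996) (l := 2) rfl N11996 D26670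
theorem N16383 : nd 16383 = n26671 := ndS (p := 11996) (l := 5) rfl N11996 D26671
theorem N16384 : nd 16384 = n26672 := ndS (p := 12001) (l := 0) rfl N12001 D26672
theorem N16385 : nd 16385 = n26673 := ndS (p := 12001) (l := 3) rfl N12001 D26673
theorem N16386 : nd 16386 = n26674 := ndS (p := 12001) (l := 4) rfl N12001 D26674
theorem N16387 : nd 16387 = n26675 := ndS (p := 12001) (l := 5) rfl N12001 D26675
theorem N16388 : nd 16388 = n26676 := ndS (p := 12001) (l := 6) rfl N12001 D26676
theorem N16389 : nd 16389 = n26677 := ndS (p := 12002) (l := 2) rfl N12002 D26677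
theorem N16390 : nd 16390 = n26678 := ndS (p := 12002) (l := 4) rfl N12002 D26678
theorem N16391 : nd 16391 = n26679 := ndS (p := 12002) (l := 5) rfl N12002 D26679
theorem N16392 : nd 16392 = n26680 := ndS (p := 12002) (l := 6) rfl N12002 D26680
theorem N16393 : nd 16393 = n26681 := ndS (p := 12003) (l := 3) rfl N12003 D26681
theorem N16394 : nd 16394 = n26682 := ndS (p := 12003) (l := 5) rfl N12003 D26682
theorem N16395 : nd 16395 = n26683 := ndS (p := 12003) (l := 6) rfl N12003 D26683
theorem N16396 : nd 16396 = n26684 := ndS (p := 12006) (l := 4) rfl N12006 D26684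
theorem N16397 : nd 16397 = n26685 := ndS (p := 12006) (l := 6) rfl N12006 D26685
theorem N16398 : nd 16398 = n26686 := ndS (p := 12007) (l := 3) rfl N12007 D26686
theorem N16399 : nd 16399 = n26687 := ndS (p := 12007) (l := 5) rfl N12007 D26687
theorem N16400 : nd 16400 = n26688 := ndS (p := 12007) (l := 6) rfl N12007 D26688
theorem N16401 : nd 16401 = n26689 := ndS (p := 12008) (l := 6) rfl N12008 D26689
theorem N16402 : nd 16402 = n26690 := ndS (p := 12009) (l := 5) rfl N12009 D26690
theorem N16403 : nd 16403 = n26692 := ndS (p := 12010) (l := 5) rfl N12010 D26692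
theorem N16404 : nd 16404 = n26693 := ndS (p := 12010) (l := 6) rfl N12010 D26693
theorem N16405 : nd 16405 = n26694 := ndS (p := 12011) (l := 6) rfl N12011 D26694
theorem N16406 : nd 16406 = n26695 := ndS (p := 12012) (l := 5) rfl N12012 D26695
theorem N16407 : nd 16407 = n26696 := ndS (p := 12014) (l := 1) rfl N12014 D26696
theorem N16408 : nd 16408 = n26697 := ndS (p := 12015) (l := 2) rfl N12015 D26697
theorem N16409 : nd 16409 = n26698 := ndS (p := 12015) (l := 5) rfl N12015 D26698
theorem N16410 : nd 16410 = n26699 := ndS (p := 12017) (l := 3) rfl N12017 D26699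
theorem N16411 : nd 16411 = n26700 := ndS (p := 12018) (l := 6) rfl N12018 D26700
theorem N16412 : nd 16412 = n26701 := ndS (p := 12019) (l := 1) rfl N12019 D26701
theorem N16413 : nd 16413 = n26702 := ndS (p := 12021) (l := 0) rfl N12021 D26702
theorem N16414 : nd 16414 = n26703 := ndS (p := 12021) (l := 2) rfl N12021 D26703
theorem N16415 : nd 16415 = n26704 := ndS (p := 12022) (l := 2) rfl N12022 D26704
theorem N16416 : nd 16416 = n26705 := ndS (p := 12024) (l := 3) rfl N12024 D26705
theorem N16417 : nd 16417 = n26706 := ndS (p := 12024) (l := 5) rfl N12024 D26706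
theorem N16418 : nd 16418 = n26707 := ndS (p := 12026) (l := 2) rfl N12026 D26707
theorem N16419 : nd 16419 = n26708 := ndS (p := 12026) (l := 5) rfl N12026 D26708
theorem N16420 : nd 16420 = n26709 := ndS (p := 12027) (l := 6) rfl N12027 D26709
theorem N16421 : nd 16421 = n26710 := ndS (p := 12030) (l := 4) rfl N12030 D26710
theorem N16422 : nd 16422 = n26711 := ndS (p := 12032) (l := 0) rfl N12032 D26711
theorem N16423 : nd 16423 = n26712 := ndS (p := 12032) (l := 2) rfl N12032 D26712
theorem N16424 : nd 16424 = n26713 := ndS (p := 12032) (l := 6) rfl N12032 D26713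
theorem N16425 : nd 16425 = n26714 := ndS (p := 12033) (l := 1) rfl N12033 D26714
theorem N16426 : nd 16426 = n26715 := ndS (p := 12033) (l := 2) rfl N12033 D26715
theorem N16427 : nd 16427 = n26716 := ndS (p := 12033) (l := 6) rfl N12033 D26716
theorem N16428 : nd 16428 = n26717 := ndS (p := 12034) (l := 3) rfl N12034 D26717
theorem N16429 : nd 16429 = n26718 := ndS (p := 12034) (l := 6) rfl N12034 D26718
theorem N16430 : nd 16430 = n26719 := ndS (p := 12035) (l := 5) rfl N12035 D26719
theorem N16431 : nd 16431 = n26720 := ndS (p := 12036) (l := 2) rfl N12036 D26720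
theorem N16432 : nd 16432 = n26721 := ndS (p := 12036) (l := 5) rfl N12036 D26721
theorem N16433 : nd 16433 = n26722 := ndS (p := 12040) (l := 4) rfl N12040 D26722
theorem N16434 : nd 16434 = n26723 := ndS (p := 12041) (l := 1) rfl N12041 D26723
theorem N16435 : nd 16435 = n26724 := ndS (p := 12047) (l := 4) rfl N12047 D26724
theorem N16436 : nd 16436 = n26725 := ndS (p := 12048) (l := 4) rfl N12048 D26725
theorem N16437 : nd 16437 = n26726 := ndS (p := 12049) (l := 6) rfl N12049 D26726
theorem N16438 : nd 16438 = n26727 := ndS (p := 12050) (l := 1) rfl N12050 D26727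
theorem N16439 : nd 16439 = n26728 := ndS (p := 12051) (l := 0) rfl N12051 D26728
theorem N16440 : nd 16440 = n26729 := ndS (p := 12056) (l := 0) rfl N12056 D26729
theorem N16441 : nd 16441 = n26730 := ndS (p := 12056) (l := 6) rfl N12056 D26730
theorem N16442 : nd 16442 = n26731 := ndS (p := 12057) (l := 2) rfl N12057 D26731
theorem N16443 : nd 16443 = n26732 := ndS (p := 12058) (l := 6) rfl N12058 D26732
theorem N16444 : nd 16444 = n26733 := ndS (p := 12065) (l := 0) rfl N12065 D26733
theorem N16445 : nd 16445 = n26734 := ndS (p := 12067) (l := 1) rfl N12067 D26734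
theorem N16446 : nd 16446 = n26735 := ndS (p := 12074) (l := 1) rfl N12074 D26735
theorem N16447 : nd 16447 = n26736 := ndS (p := 12074) (l := 6) rfl N12074 D26736
theorem N16448 : nd 16448 = n26737 := ndS (p := 12075) (l := 5) rfl N12075 D26737
theorem N16449 : nd 16449 = n26738 := ndS (p := 12076) (l := 2) rfl N12076 D26738
theorem N16450 : nd 16450 = n26739 := ndS (p := 12079) (l := 1) rfl N12079 D26739
theorem N16451 : nd 16451 = n26740 := ndS (p := 12079) (l := 3) rfl N12079 D26740
theorem N16452 : nd 16452 = n26741 := ndS (p := 12083) (l := 4) rfl N12083 D26741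
theorem N16453 : nd 16453 = n26742 := ndS (p := 12086) (l := 0) rfl N12086 D26742
theorem N16454 : nd 16454 = n26743 := ndS (p := 12086) (l := 4) rfl N12086 D26743
theorem N16455 : nd 16455 = n26744 := ndS (p := 12086) (l := 6) rfl N12086 D26744
theorem N16456 : nd 16456 = n26745 := ndS (p := 12088) (l := 3) rfl N12088 D26745
theorem N16457 : nd 16457 = n26746 := ndS (p := 12093) (l := 2) rfl N12093 D26746
theorem N16458 : nd 16458 = n26747 := ndS (p := 12093) (l := 6) rfl N12093 D26747
theorem N16459 : nd 16459 = n26748 := ndS (p := 12096) (l := 6) rfl N12096 D26748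
theorem N16460 : nd 16460 = n26749 := ndS (p := 12098) (l := 2) rfl N12098 D26749
theorem N16461 : nd 16461 = n26750 := ndS (p := 12102) (l := 0) rfl N12102 D26750
theorem N16462 : nd 16462 = n26751 := ndS (p := 12102) (l := 2) rfl N12102 D26751
theorem N16463 : nd 16463 = n26752 := ndS (p := 12102) (l := 5) rfl N12102 D26752
theorem N16464 : nd 16464 = n26753 := ndS (p := 12102) (l := 6) rfl N12102 D26753
theorem N16465 : nd 16465 = n26754 := ndS (p := 12104) (l := 5) rfl N12104 D26754
theorem N16466 : nd 16466 = n26755 := ndS (p := 12105) (l := 3) rfl N12105 D26755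
theorem N16467 : nd 16467 = n26756 := ndS (p := 12114) (l := 6) rfl N12114 D26756
theorem N16468 : nd 16468 = n26757 := ndS (p := 12117) (l := 0) rfl N12117 D26757
theorem N16469 : nd 16469 = n26758 := ndS (p := 12117) (l := 4) rfl N12117 D26758
theorem N16470 : nd 16470 = n26759 := ndS (p := 12132) (l := 4) rfl N12132 D26759
theorem N16471 : nd 16471 = n26760 := ndS (p := 12133) (l := 1) rfl N12133 D26760
theorem N16472 : nd 16472 = n26761 := ndS (p := 12137) (l := 2) rfl N12137 D26761
theorem N16473 : nd 16473 = n26762 := ndS (p := 12137) (l := 4) rfl N12137 D26762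
theorem N16474 : nd 16474 = n26763 := ndS (p := 12139) (l := 4) rfl N12139 D26763
theorem N16475 : nd 16475 = n26764 := ndS (p := 12139) (l := 5) rfl N12139 D26764
theorem N16476 : nd 16476 = n26765 := ndS (p := 12140) (l := 5) rfl N12140 D26765
theorem N16477 : nd 16477 = n26766 := ndS (p := 12140) (l := 6) rfl N12140 D26766
theorem N16478 : nd 16478 = n26767 := ndS (p := 12142) (l := 5) rfl N12142 D26767
theorem N16479 : nd 16479 = n26768 := ndS (p := 12144) (l := 4) rfl N12144 D26768
theorem N16480 : nd 16480 = n26769 := ndS (p := 12144) (l := 5) rfl N12144 D26769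
theorem N16481 : nd 16481 = n26770 := ndS (p := 12145) (l := 3) rfl N12145 D26770
theorem N16482 : nd 16482 = n26771 := ndS (p := 12145) (l := 5) rfl N12145 D26771
theorem N16483 : nd 16483 = n26772 := ndS (p := 12145) (l := 6) rfl N12145 D26772
theorem N16484 : nd 16484 = n26773 := ndS (p := 12146) (l := 6) rfl N12146 D26773
theorem N16485 : nd 16485 = n26774 := ndS (p := 12147) (l := 1) rfl N12147 D26774
theorem N16486 : nd 16486 = n26775 := ndS (p := 12148) (l := 2) rfl N12148 D26775
theorem N16487 : nd 16487 = n26776 := ndS (p := 12148) (l := 6) rfl N12148 D26776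
theorem N16488 : nd 16488 = n26777 := ndS (p := 12149) (l := 1) rfl N12149 D26777
theorem N16489 : nd 16489 = n26778 := ndS (p := 12150) (l := 5) rfl N12150 D26778
theorem N16490 : nd 16490 = n26779 := ndS (p := 12151) (l := 0) rfl N12151 D26779
theorem N16491 : nd 16491 = n26780 := ndS (p := 12151) (l := 5) rfl N12151 D26780
theorem N16492 : nd 16492 = n26781 := ndS (p := 12152) (l := 5) rfl N12152 D26781
theorem N16493 : nd 16493 = n26782 := ndS (p := 12153) (l := 6) rfl N12153 D26782
theorem N16494 : nd 16494 = n26783 := ndS (p := 12158) (l := 6) rfl N12158 D26783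
theorem N16495 : nd 16495 = n26784 := ndS (p := 12163) (l := 6) rfl N12163 D26784
theorem N16496 : nd 16496 = n26785 := ndS (p := 12166) (l := 1) rfl N12166 D26785
theorem N16497 : nd 16497 = n26786 := ndS (p := 12167) (l := 0) rfl N12167 D26786
theorem N16498 : nd 16498 = n26787 := ndS (p := 12175) (l := 4) rfl N12175 D26787
theorem N16499 : nd 16499 = n26788 := ndS (p := 12176) (l := 5) rfl N12176 D26788
theorem N16500 : nd 16500 = n26789 := ndS (p := 12178) (l := 5) rfl N12178 D26789
theorem N16501 : nd 16501 = n26790 := ndS (p := 12181) (l := 3) rfl N12181 D26790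
theorem N16502 : nd 16502 = n26791 := ndS (p := 12181) (l := 5) rfl N12181 D26791
theorem N16503 : nd 16503 = n26792 := ndS (p := 12183) (l := 6) rfl N12183 D26792
theorem N16504 : nd 16504 = n26793 := ndS (p := 12184) (l := 5) rfl N12184 D26793
theorem N16505 : nd 16505 = n26794 := ndS (p := 12191) (l := 0) rfl N12191 D26794
theorem N16506 : nd 16506 = n26795 := ndS (p := 12191) (l := 4) rfl N12191 D26795
theorem N16507 : nd 16507 = n26796 := ndS (p := 12191) (l := 5) rfl N12191 D26796
theorem N16508 : nd 16508 = n26797 := ndS (p := 12191) (l := 6) rfl N12191 D26797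
theorem N16509 : nd 16509 = n26798 := ndS (p := 12192) (l := 3) rfl N12192 D26798
theorem N16510 : nd 16510 = n26799 := ndS (p := 12192) (l := 5) rfl N12192 D26799
theorem N16511 : nd 16511 = n26800 := ndS (p := 12192) (l := 6) rfl N12192 D26800
theorem N16512 : nd 16512 = n26801 := ndS (p := 12195) (l := 5) rfl N12195 D26801
theorem N16513 : nd 16513 = n26802 := ndS (p := 12195) (l := 6) rfl N12195 D26802
theorem N16514 : nd 16514 = n26803 := ndS (p := 12196) (l := 6) rfl N12196 D26803
theorem N16515 : nd 16515 = n26804 := ndS (p := 12197) (l := 5) rfl N12197 D26804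
theorem N16516 : nd 16516 = n26805 := ndS (p := 12198) (l := 1) rfl N12198 D26805
theorem N16517 : nd 16517 = n26806 := ndS (p := 12200) (l := 3) rfl N12200 D26806
theorem N16518 : nd 16518 = n26807 := ndS (p := 12201) (l := 5) rfl N12201 D26807
theorem N16519 : nd 16519 = n26808 := ndS (p := 12202) (l := 1) rfl N12202 D26808
theorem N16520 : nd 16520 = n26809 := ndS (p := 12204) (l := 0) rfl N12204 D26809
theorem N16521 : nd 16521 = n26810 := ndS (p := 12204) (l := 2) rfl N12204 D26810
theorem N16522 : nd 16522 = n26811 := ndS (p := 12205) (l := 2) rfl N12205 D26811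
theorem N16523 : nd 16523 = n26812 := ndS (p := 12207) (l := 3) rfl N12207 D26812
theorem N16524 : nd 16524 = n26813 := ndS (p := 12207) (l := 6) rfl N12207 D26813
theorem N16525 : nd 16525 = n26814 := ndS (p := 12209) (l := 2) rfl N12209 D26814
theorem N16526 : nd 16526 = n26815 := ndS (p := 12209) (l := 6) rfl N12209 D26815
theorem N16527 : nd 16527 = n26816 := ndS (p := 12210) (l := 5) rfl N12210 D26816
theorem N16528 : nd 16528 = n26817 := ndS (p := 12216) (l := 2) rfl N12216 D26817
theorem N16529 : nd 16529 = n26818 := ndS (p := 12218) (l := 5) rfl N12218 D26818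
theorem N16530 : nd 16530 = n26819 := ndS (p := 12227) (l := 4) rfl N12227 D26819
theorem N16531 : nd 16531 = n26820 := ndS (p := 12227) (l := 6) rfl N12227 D26820
theorem N16532 : nd 16532 = n26821 := ndS (p := 12228) (l := 3) rfl N12228 D26821
theorem N16533 : nd 16533 = n26822 := ndS (p := 12228) (l := 6) rfl N12228 D26822
theorem N16534 : nd 16534 = n26823 := ndS (p := 12232) (l := 5) rfl N12232 D26823
theorem N16535 : nd 16535 = n26824 := ndS (p := 12232) (l := 6) rfl N12232 D26824
theorem N16536 : nd 16536 = n26825 := ndS (p := 12235) (l := 1) rfl N12235 D26825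
theorem N16537 : nd 16537 = n26826 := ndS (p := 12235) (l := 6) rfl N12235 D26826
theorem N16538 : nd 16538 = n26827 := ndS (p := 12236) (l := 6) rfl N12236 D26827
theorem N16539 : nd 16539 = n26828 := ndS (p := 12237) (l := 6) rfl N12237 D26828
theorem N16540 : nd 16540 = n26829 := ndS (p := 12242) (l := 0) rfl N12242 D26829
theorem N16541 : nd 16541 = n26830 := ndS (p := 12242) (l := 3) rfl N12242 D26830
theorem N16542 : nd 16542 = n26831 := ndS (p := 12242) (l := 4) rfl N12242 D26831
theorem N16543 : nd 16543 = n26832 := ndS (p := 12242) (l := 6) rfl N12242 D26832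
theorem N16544 : nd 16544 = n26833 := ndS (p := 12243) (l := 4) rfl N12243 D26833
theorem N16545 : nd 16545 = n26834 := ndS (p := 12243) (l := 6) rfl N12243 D26834
theorem N16546 : nd 16546 = n26835 := ndS (p := 12244) (l := 3) rfl N12244 D26835
theorem N16547 : nd 16547 = n26836 := ndS (p := 12244) (l := 6) rfl N12244 D26836
theorem N16548 : nd 16548 = n26837 := ndS (p := 12249) (l := 3) rfl N12249 D26837
theorem N16549 : nd 16549 = n26838 := ndS (p := 12249) (l := 6) rfl N12249 D26838
theorem N16550 : nd 16550 = n26839 := ndS (p := 12250) (l := 1) rfl N12250 D26839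
theorem N16551 : nd 16551 = n26840 := ndS (p := 12251) (l := 2) rfl N12251 D26840
theorem N16552 : nd 16552 = n26841 := ndS (p := 12251) (l := 6) rfl N12251 D26841
theorem N16553 : nd 16553 = n26842 := ndS (p := 12252) (l := 1) rfl N12252 D26842
theorem N16554 : nd 16554 = n26843 := ndS (p := 12252) (l := 5) rfl N12252 D26843
theorem N16555 : nd 16555 = n26844 := ndS (p := 12255) (l := 1) rfl N12255 D26844
theorem N16556 : nd 16556 = n26845 := ndS (p := 12256) (l := 1) rfl N12256 D26845
theorem N16557 : nd 16557 = n26846 := ndS (p := 12261) (l := 2) rfl N12261 D26846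
theorem N16558 : nd 16558 = n26847 := ndS (p := 12262) (l := 6) rfl N12262 D26847
theorem N16559 : nd 16559 = n26848 := ndS (p := 12264) (l := 2) rfl N12264 D26848
theorem N16560 : nd 16560 = n26849 := ndS (p := 12267) (l := 3) rfl N12267 D26849
theorem N16561 : nd 16561 = n26850 := ndS (p := 12267) (l := 5) rfl N12267 D26850
theorem N16562 : nd 16562 = n26851 := ndS (p := 12268) (l := 6) rfl N12268 D26851
theorem N16563 : nd 16563 = n26852 := ndS (p := 12275) (l := 2) rfl N12275 D26852
theorem N16564 : nd 16564 = n26853 := ndS (p := 12277) (l := 6) rfl N12277 D26853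
theorem N16565 : nd 16565 = n26854 := ndS (p := 12286) (l := 4) rfl N12286 D26854
theorem N16566 : nd 16566 = n26855 := ndS (p := 12286) (l := 5) rfl N12286 D26855
theorem N16567 : nd 16567 = n26856 := ndS (p := 12287) (l := 3) rfl N12287 D26856
theorem N16568 : nd 16568 = n26857 := ndS (p := 12287) (l := 5) rfl N12287 D26857
theorem N16569 : nd 16569 = n26858 := ndS (p := 12291) (l := 5) rfl N12291 D26858
theorem N16570 : nd 16570 = n26859 := ndS (p := 12291) (l := 6) rfl N12291 D26859
theorem N16571 : nd 16571 = n26860 := ndS (p := 12294) (l := 1) rfl N12294 D26860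
theorem N16572 : nd 16572 = n26861 := ndS (p := 12294) (l := 5) rfl N12294 D26861
theorem N16573 : nd 16573 = n26862 := ndS (p := 12295) (l := 5) rfl N12295 D26862
theorem N16574 : nd 16574 = n26863 := ndS (p := 12297) (l := 5) rfl N12297 D26863
theorem N16575 : nd 16575 = n26864 := ndS (p := 12301) (l := 0) rfl N12301 D26864
theorem N16576 : nd 16576 = n26865 := ndS (p := 12301) (l := 3) rfl N12301 D26865
theorem N16577 : nd 16577 = n26866 := ndS (p := 12301) (l := 4) rfl N12301 D26866
theorem N16578 : nd 16578 = n26867 := ndS (p := 12301) (l := 5) rfl N12301 D26867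
theorem N16579 : nd 16579 = n26868 := ndS (p := 12302) (l := 4) rfl N12302 D26868
theorem N16580 : nd 16580 = n26869 := ndS (p := 12302) (l := 5) rfl N12302 D26869
theorem N16581 : nd 16581 = n26870 := ndS (p := 12303) (l := 3) rfl N12303 D26870
theorem N16582 : nd 16582 = n26871 := ndS (p := 12303) (l := 5) rfl N12303 D26871
theorem N16583 : nd 16583 = n26872 := ndS (p := 12308) (l := 3) rfl N12308 D26872
theorem N16584 : nd 16584 = n26873 := ndS (p := 12308) (l := 5) rfl N12308 D26873
theorem N16585 : nd 16585 = n26874 := ndS (p := 12309) (l := 1) rfl N12309 D26874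
theorem N16586 : nd 16586 = n26875 := ndS (p := 12310) (l := 2) rfl N12310 D26875
theorem N16587 : nd 16587 = n26876 := ndS (p := 12310) (l := 5) rfl N12310 D26876
theorem N16588 : nd 16588 = n26877 := ndS (p := 12311) (l := 1) rfl N12311 D26877
theorem N16589 : nd 16589 = n26878 := ndS (p := 12311) (l := 6) rfl N12311 D26878
theorem N16590 : nd 16590 = n26879 := ndS (p := 12314) (l := 1) rfl N12314 D26879
theorem N16591 : nd 16591 = n26880 := ndS (p := 12315) (l := 1) rfl N12315 D26880
theorem N16592 : nd 16592 = n26881 := ndS (p := 12318) (l := 2) rfl N12318 D26881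
theorem N16593 : nd 16593 = n26882 := ndS (p := 12319) (l := 5) rfl N12319 D26882
theorem N16594 : nd 16594 = n26883 := ndS (p := 12323) (l := 2) rfl N12323 D26883
theorem N16595 : nd 16595 = n26884 := ndS (p := 12326) (l := 3) rfl N12326 D26884
theorem N16596 : nd 16596 = n26885 := ndS (p := 12326) (l := 6) rfl N12326 D26885
theorem N16597 : nd 16597 = n26886 := ndS (p := 12328) (l := 5) rfl N12328 D26886
theorem N16598 : nd 16598 = n26887 := ndS (p := 12331) (l := 5) rfl N12331 D26887
theorem N16599 : nd 16599 = n26888 := ndS (p := 12337) (l := 4) rfl N12337 D26888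
theorem N16600 : nd 16600 = n26889 := ndS (p := 12341) (l := 1) rfl N12341 D26889
theorem N16601 : nd 16601 = n26890 := ndS (p := 12342) (l := 4) rfl N12342 D26890
theorem N16602 : nd 16602 = n26891 := ndS (p := 12343) (l := 6) rfl N12343 D26891
theorem N16603 : nd 16603 = n26892 := ndS (p := 12353) (l := 6) rfl N12353 D26892
theorem N16604 : nd 16604 = n26893 := ndS (p := 12357) (l := 4) rfl N12357 D26893
theorem N16605 : nd 16605 = n26894 := ndS (p := 12358) (l := 3) rfl N12358 D26894
theorem N16606 : nd 16606 = n26895 := ndS (p := 12358) (l := 5) rfl N12358 D26895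
theorem N16607 : nd 16607 = n26896 := ndS (p := 12358) (l := 6) rfl N12358 D26896
theorem N16608 : nd 16608 = n26897 := ndS (p := 12359) (l := 1) rfl N12359 D26897
theorem N16609 : nd 16609 = n26898 := ndS (p := 12360) (l := 1) rfl N12360 D26898
theorem N16610 : nd 16610 = n26899 := ndS (p := 12363) (l := 1) rfl N12363 D26899
theorem N16611 : nd 16611 = n26900 := ndS (p := 12366) (l := 3) rfl N12366 D26900
theorem N16612 : nd 16612 = n26901 := ndS (p := 12366) (l := 6) rfl N12366 D26901
theorem N16613 : nd 16613 = n26902 := ndS (p := 12367) (l := 1) rfl N12367 D26902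
theorem N16614 : nd 16614 = n26903 := ndS (p := 12368) (l := 2) rfl N12368 D26903
theorem N16615 : nd 16615 = n26904 := ndS (p := 12368) (l := 5) rfl N12368 D26904
theorem N16616 : nd 16616 = n26905 := ndS (p := 12368) (l := 6) rfl N12368 D26905
theorem N16617 : nd 16617 = n26906 := ndS (p := 12370) (l := 1) rfl N12370 D26906
theorem N16618 : nd 16618 = n26907 := ndS (p := 12372) (l := 3) rfl N12372 D26907
theorem N16619 : nd 16619 = n26908 := ndS (p := 12372) (l := 5) rfl N12372 D26908
theorem N16620 : nd 16620 = n26909 := ndS (p := 12375) (l := 1) rfl N12375 D26909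
theorem N16621 : nd 16621 = n26910 := ndS (p := 12377) (l := 6) rfl N12377 D26910
theorem N16622 : nd 16622 = n26911 := ndS (p := 12383) (l := 4) rfl N12383 D26911
theorem N16623 : nd 16623 = n26912 := ndS (p := 12386) (l := 1) rfl N12386 D26912
theorem N16624 : nd 16624 = n26913 := ndS (p := 12388) (l := 4) rfl N12388 D26913
theorem N16625 : nd 16625 = n26914 := ndS (p := 12389) (l := 5) rfl N12389 D26914
theorem N16626 : nd 16626 = n26915 := ndS (p := 12399) (l := 5) rfl N12399 D26915
theorem N16627 : nd 16627 = n26916 := ndS (p := 12402) (l := 4) rfl N12402 D26916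
theorem N16628 : nd 16628 = n26917 := ndS (p := 12403) (l := 3) rfl N12403 D26917
theorem N16629 : nd 16629 = n26918 := ndS (p := 12404) (l := 1) rfl N12404 D26918
theorem N16630 : nd 16630 = n26919 := ndS (p := 12407) (l := 3) rfl N12407 D26919
theorem N16631 : nd 16631 = n26920 := ndS (p := 12408) (l := 2) rfl N12408 D26920
theorem N16632 : nd 16632 = n26921 := ndS (p := 12408) (l := 5) rfl N12408 D26921
theorem N16633 : nd 16633 = n26922 := ndS (p := 12408) (l := 6) rfl N12408 D26922
theorem N16634 : nd 16634 = n26923 := ndS (p := 12409) (l := 1) rfl N12409 D26923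
theorem N16635 : nd 16635 = n26924 := ndS (p := 12412) (l := 3) rfl N12412 D26924
theorem N16636 : nd 16636 = n26925 := ndS (p := 12414) (l := 5) rfl N12414 D26925
theorem N16637 : nd 16637 = n26926 := ndS (p := 12415) (l := 1) rfl N12415 D26926
theorem N16638 : nd 16638 = n26927 := ndS (p := 12416) (l := 4) rfl N12416 D26927
theorem N16639 : nd 16639 = n26928 := ndS (p := 12417) (l := 2) rfl N12417 D26928
theorem N16640 : nd 16640 = n26929 := ndS (p := 12423) (l := 0) rfl N12423 D26929
theorem N16641 : nd 16641 = n26930 := ndS (p := 12424) (l := 5) rfl N12424 D26930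
theorem N16642 : nd 16642 = n26931 := ndS (p := 12429) (l := 1) rfl N12429 D26931
theorem N16643 : nd 16643 = n26932 := ndS (p := 12430) (l := 4) rfl N12430 D26932
theorem N16644 : nd 16644 = n26933 := ndS (p := 12432) (l := 5) rfl N12432 D26933
theorem N16645 : nd 16645 = n26934 := ndS (p := 12437) (l := 1) rfl N12437 D26934
theorem N16646 : nd 16646 = n26935 := ndS (p := 12440) (l := 0) rfl N12440 D26935
theorem N16647 : nd 16647 = n26936 := ndS (p := 12440) (l := 3) rfl N12440 D26936
theorem N16648 : nd 16648 = n26937 := ndS (p := 12440) (l := 5) rfl N12440 D26937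
theorem N16649 : nd 16649 = n26938 := ndS (p := 12441) (l := 4) rfl N12441 D26938
theorem N16650 : nd 16650 = n26939 := ndS (p := 12442) (l := 4) rfl N12442 D26939
theorem N16651 : nd 16651 = n26940 := ndS (p := 12447) (l := 1) rfl N12447 D26940
theorem N16652 : nd 16652 = n26941 := ndS (p := 12448) (l := 4) rfl N12448 D26941
theorem N16653 : nd 16653 = n26942 := ndS (p := 12448) (l := 5) rfl N12448 D26942
theorem N16654 : nd 16654 = n26943 := ndS (p := 12450) (l := 5) rfl N12450 D26943
theorem N16655 : nd 16655 = n26944 := ndS (p := 12451) (l := 1) rfl N12451 D26944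
theorem N16656 : nd 16656 = n26945 := ndS (p := 12451) (l := 4) rfl N12451 D26945
theorem N16657 : nd 16657 = n26946 := ndS (p := 12453) (l := 3) rfl N12453 D26946
theorem N16658 : nd 16658 = n26947 := ndS (p := 12454) (l := 1) rfl N12454 D26947
theorem N16659 : nd 16659 = n26948 := ndS (p := 12454) (l := 5) rfl N12454 D26948
theorem N16660 : nd 16660 = n26949 := ndS (p := 12462) (l := 5) rfl N12462 D26949
theorem N16661 : nd 16661 = n26950 := ndS (p := 12463) (l := 1) rfl N12463 D26950
theorem N16662 : nd 16662 = n26951 := ndS (p := 12469) (l := 6) rfl N12469 D26951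
theorem N16663 : nd 16663 = n26952 := ndS (p := 12474) (l := 1) rfl N12474 D26952
theorem N16664 : nd 16664 = n26953 := ndS (p := 12476) (l := 0) rfl N12476 D26953
theorem N16665 : nd 16665 = n26954 := ndS (p := 12476) (l := 3) rfl N12476 D26954
theorem N16666 : nd 16666 = n26955 := ndS (p := 12476) (l := 6) rfl N12476 D26955
theorem N16667 : nd 16667 = n26956 := ndS (p := 12477) (l := 4) rfl N12477 D26956
theorem N16668 : nd 16668 = n26957 := ndS (p := 12478) (l := 4) rfl N12478 D26957
theorem N16669 : nd 16669 = n26958 := ndS (p := 12483) (l := 1) rfl N12483 D26958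
theorem N16670 : nd 16670 = n26959 := ndS (p := 12484) (l := 4) rfl N12484 D26959
theorem N16671 : nd 16671 = n26960 := ndS (p := 12484) (l := 6) rfl N12484 D26960
theorem N16672 : nd 16672 = n26961 := ndS (p := 12485) (l := 6) rfl N12485 D26961
theorem N16673 : nd 16673 = n26962 := ndS (p := 12487) (l := 1) rfl N12487 D26962
theorem N16674 : nd 16674 = n26963 := ndS (p := 12487) (l := 4) rfl N12487 D26963
theorem N16675 : nd 16675 = n26964 := ndS (p := 12489) (l := 3) rfl N12489 D26964
theorem N16676 : nd 16676 = n26965 := ndS (p := 12490) (l := 1) rfl N12490 D26965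
theorem N16677 : nd 16677 = n26966 := ndS (p := 12490) (l := 6) rfl N12490 D26966
theorem N16678 : nd 16678 = n26967 := ndS (p := 12496) (l := 6) rfl N12496 D26967
theorem N16679 : nd 16679 = n26968 := ndS (p := 12497) (l := 1) rfl N12497 D26968
theorem N16680 : nd 16680 = n26969 := ndS (p := 12505) (l := 1) rfl N12505 D26969
theorem N16681 : nd 16681 = n26970 := ndS (p := 12506) (l := 1) rfl N12506 D26970
theorem N16682 : nd 16682 = n26971 := ndS (p := 12509) (l := 1) rfl N12509 D26971
theorem N16683 : nd 16683 = n26972 := ndS (p := 12509) (l := 2) rfl N12509 D26972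
theorem N16684 : nd 16684 = n26973 := ndS (p := 12509) (l := 6) rfl N12509 D26973
theorem N16685 : nd 16685 = n26974 := ndS (p := 12510) (l := 3) rfl N12510 D26974
theorem N16686 : nd 16686 = n26975 := ndS (p := 12510) (l := 6) rfl N12510 D26975
theorem N16687 : nd 16687 = n26976 := ndS (p := 12511) (l := 5) rfl N12511 D26976
theorem N16688 : nd 16688 = n26977 := ndS (p := 12512) (l := 1) rfl N12512 D26977
theorem N16689 : nd 16689 = n26978 := ndS (p := 12512) (l := 2) rfl N12512 D26978
theorem N16690 : nd 16690 = n26979 := ndS (p := 12512) (l := 5) rfl N12512 D26979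
theorem N16691 : nd 16691 = n26980 := ndS (p := 12513) (l := 3) rfl N12513 D26980
theorem N16692 : nd 16692 = n26981 := ndS (p := 12513) (l := 5) rfl N12513 D26981
theorem N16693 : nd 16693 = n26982 := ndS (p := 12514) (l := 6) rfl N12514 D26982
theorem N16694 : nd 16694 = n26983 := ndS (p := 12515) (l := 6) rfl N12515 D26983
theorem N16695 : nd 16695 = n26984 := ndS (p := 12518) (l := 5) rfl N12518 D26984
theorem N16696 : nd 16696 = n26985 := ndS (p := 12523) (l := 0) rfl N12523 D26985
theorem N16697 : nd 16697 = n26986 := ndS (p := 12523) (l := 2) rfl N12523 D26986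
theorem N16698 : nd 16698 = n26987 := ndS (p := 12523) (l := 5) rfl N12523 D26987
theorem N16699 : nd 16699 = n26988 := ndS (p := 12524) (l := 1) rfl N12524 D26988
theorem N16700 : nd 16700 = n26989 := ndS (p := 12524) (l := 2) rfl N12524 D26989
theorem N16701 : nd 16701 = n26990 := ndS (p := 12524) (l := 5) rfl N12524 D26990
theorem N16702 : nd 16702 = n26991 := ndS (p := 12525) (l := 3) rfl N12525 D26991
theorem N16703 : nd 16703 = n26992 := ndS (p := 12525) (l := 5) rfl N12525 D26992
theorem N16704 : nd 16704 = n26993 := ndS (p := 12526) (l := 6) rfl N12526 D26993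
theorem N16705 : nd 16705 = n26994 := ndS (p := 12527) (l := 0) rfl N12527 D26994
theorem N16706 : nd 16706 = n26995 := ndS (p := 12527) (l := 2) rfl N12527 D26995
theorem N16707 : nd 16707 = n26996 := ndS (p := 12527) (l := 6) rfl N12527 D26996
theorem N16708 : nd 16708 = n26997 := ndS (p := 12528) (l := 1) rfl N12528 D26997
theorem N16709 : nd 16709 = n26998 := ndS (p := 12528) (l := 2) rfl N12528 D26998
theorem N16710 : nd 16710 = n26999 := ndS (p := 12528) (l := 6) rfl N12528 D26999
theorem N16711 : nd 16711 = n27000 := ndS (p := 12529) (l := 3) rfl N12529 D27000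
theorem N16712 : nd 16712 = n27001 := ndS (p := 12529) (l := 6) rfl N12529 D27001
theorem N16713 : nd 16713 = n27002 := ndS (p := 12530) (l := 5) rfl N12530 D27002
theorem N16714 : nd 16714 = n27003 := ndS (p := 12531) (l := 1) rfl N12531 D27003
theorem N16715 : nd 16715 = n27004 := ndS (p := 12531) (l := 2) rfl N12531 D27004
theorem N16716 : nd 16716 = n27005 := ndS (p := 12534) (l := 2) rfl N12534 D27005
theorem N16717 : nd 16717 = n27006 := ndS (p := 12535) (l := 1) rfl N12535 D27006
theorem N16718 : nd 16718 = n27007 := ndS (p := 12535) (l := 3) rfl N12535 D27007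
theorem N16719 : nd 16719 = n27008 := ndS (p := 12537) (l := 5) rfl N12537 D27008
theorem N16720 : nd 16720 = n27009 := ndS (p := 12540) (l := 1) rfl N12540 D27009
theorem N16721 : nd 16721 = n27010 := ndS (p := 12540) (l := 2) rfl N12540 D27010
theorem N16722 : nd 16722 = n27011 := ndS (p := 12543) (l := 2) rfl N12543 D27011
theorem N16723 : nd 16723 = n27012 := ndS (p := 12544) (l := 1) rfl N12544 D27012
theorem N16724 : nd 16724 = n27013 := ndS (p := 12544) (l := 3) rfl N12544 D27013
theorem N16725 : nd 16725 = n27014 := ndS (p := 12546) (l := 6) rfl N12546 D27014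
theorem N16726 : nd 16726 = n27015 := ndS (p := 12549) (l := 2) rfl N12549 D27015
theorem N16727 : nd 16727 = n27016 := ndS (p := 12551) (l := 0) rfl N12551 D27016
theorem N16728 : nd 16728 = n27017 := ndS (p := 12551) (l := 2) rfl N12551 D27017
theorem N16729 : nd 16729 = n27018 := ndS (p := 12551) (l := 6) rfl N12551 D27018
theorem N16730 : nd 16730 = n27019 := ndS (p := 12552) (l := 2) rfl N12552 D27019
theorem N16731 : nd 16731 = n27020 := ndS (p := 12554) (l := 0) rfl N12554 D27020
theorem N16732 : nd 16732 = n27021 := ndS (p := 12554) (l := 2) rfl N12554 D27021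
theorem N16733 : nd 16733 = n27022 := ndS (p := 12554) (l := 5) rfl N12554 D27022
theorem N16734 : nd 16734 = n27023 := ndS (p := 12555) (l := 2) rfl N12555 D27023
theorem N16735 : nd 16735 = n27024 := ndS (p := 12556) (l := 3) rfl N12556 D27024
theorem N16736 : nd 16736 = n27025 := ndS (p := 12560) (l := 5) rfl N12560 D27025
theorem N16737 : nd 16737 = n27026 := ndS (p := 12561) (l := 2) rfl N12561 D27026
theorem N16738 : nd 16738 = n27027 := ndS (p := 12562) (l := 3) rfl N12562 D27027
theorem N16739 : nd 16739 = n27028 := ndS (p := 12566) (l := 6) rfl N12566 D27028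
theorem N16740 : nd 16740 = n27029 := ndS (p := 12573) (l := 0) rfl N12573 D27029
theorem N16741 : nd 16741 = n27030 := ndS (p := 12573) (l := 5) rfl N12573 D27030
theorem N16742 : nd 16742 = n27031 := ndS (p := 12579) (l := 0) rfl N12579 D27031
theorem N16743 : nd 16743 = n27032 := ndS (p := 12579) (l := 6) rfl N12579 D27032
theorem N16744 : nd 16744 = n27033 := ndS (p := 12585) (l := 1) rfl N12585 D27033
theorem N16745 : nd 16745 = n27034 := ndS (p := 12591) (l := 1) rfl N12591 D27034
theorem N16746 : nd 16746 = n27035 := ndS (p := 12606) (l := 1) rfl N12606 D27035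
theorem N16747 : nd 16747 = n27036 := ndS (p := 12609) (l := 0) rfl N12609 D27036
theorem N16748 : nd 16748 = n27037 := ndS (p := 12609) (l := 2) rfl N12609 D27037
theorem N16749 : nd 16749 = n27038 := ndS (p := 12611) (l := 1) rfl N12611 D27038
theorem N16750 : nd 16750 = n27039 := ndS (p := 12615) (l := 0) rfl N12615 D27039
theorem N16751 : nd 16751 = n27040 := ndS (p := 12615) (l := 2) rfl N12615 D27040
theorem N16752 : nd 16752 = n27041 := ndS (p := 12623) (l := 1) rfl N12623 D27041
theorem N16753 : nd 16753 = n27042 := ndS (p := 12624) (l := 0) rfl N12624 D27042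
theorem N16754 : nd 16754 = n27043 := ndS (p := 12624) (l := 2) rfl N12624 D27043
theorem N16755 : nd 16755 = n27044 := ndS (p := 12624) (l := 5) rfl N12624 D27044
theorem N16756 : nd 16756 = n27045 := ndS (p := 12625) (l := 2) rfl N12625 D27045
theorem N16757 : nd 16757 = n27046 := ndS (p := 12626) (l := 5) rfl N12626 D27046
theorem N16758 : nd 16758 = n27047 := ndS (p := 12628) (l := 5) rfl N12628 D27047
theorem N16759 : nd 16759 = n27048 := ndS (p := 12630) (l := 6) rfl N12630 D27048
theorem N16760 : nd 16760 = n27049 := ndS (p := 12634) (l := 1) rfl N12634 D27049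
theorem N16761 : nd 16761 = n27050 := ndS (p := 12635) (l := 0) rfl N12635 D27050
theorem N16762 : nd 16762 = n27051 := ndS (p := 12635) (l := 2) rfl N12635 D27051
theorem N16763 : nd 16763 = n27052 := ndS (p := 12635) (l := 6) rfl N12635 D27052
theorem N16764 : nd 16764 = n27053 := ndS (p := 12636) (l := 2) rfl N12636 D27053
theorem N16765 : nd 16765 = n27054 := ndS (p := 12637) (l := 6) rfl N12637 D27054
theorem N16766 : nd 16766 = n27055 := ndS (p := 12639) (l := 6) rfl N12639 D27055
theorem N16767 : nd 16767 = n27056 := ndS (p := 12641) (l := 5) rfl N12641 D27056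
theorem N16768 : nd 16768 = n27057 := ndS (p := 12643) (l := 1) rfl N12643 D27057
theorem N16769 : nd 16769 = n27058 := ndS (p := 12644) (l := 2) rfl N12644 D27058
theorem N16770 : nd 16770 = n27059 := ndS (p := 12645) (l := 5) rfl N12645 D27059
theorem N16771 : nd 16771 = n27060 := ndS (p := 12647) (l := 1) rfl N12647 D27060
theorem N16772 : nd 16772 = n27061 := ndS (p := 12648) (l := 6) rfl N12648 D27061
theorem N16773 : nd 16773 = n27062 := ndS (p := 12652) (l := 1) rfl N12652 D27062
theorem N16774 : nd 16774 = n27063 := ndS (p := 12653) (l := 2) rfl N12653 D27063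
theorem N16775 : nd 16775 = n27064 := ndS (p := 12654) (l := 6) rfl N12654 D27064
theorem N16776 : nd 16776 = n27065 := ndS (p := 12656) (l := 1) rfl N12656 D27065
theorem N16777 : nd 16777 = n27066 := ndS (p := 12657) (l := 5) rfl N12657 D27066
theorem N16778 : nd 16778 = n27067 := ndS (p := 12662) (l := 6) rfl N12662 D27067
theorem N16779 : nd 16779 = n27068 := ndS (p := 12663) (l := 5) rfl N12663 D27068
theorem N16780 : nd 16780 = n27069 := ndS (p := 12664) (l := 6) rfl N12664 D27069
theorem N16781 : nd 16781 = n27070 := ndS (p := 12665) (l := 1) rfl N12665 D27070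
theorem N16782 : nd 16782 = n27071 := ndS (p := 12667) (l := 3) rfl N12667 D27071
theorem N16783 : nd 16783 = n27072 := ndS (p := 12669) (l := 1) rfl N12669 D27072
theorem N16784 : nd 16784 = n27073 := ndS (p := 12670) (l := 0) rfl N12670 D27073
theorem N16785 : nd 16785 = n27074 := ndS (p := 12670) (l := 2) rfl N12670 D27074
theorem N16786 : nd 16786 = n27075 := ndS (p := 12670) (l := 5) rfl N12670 D27075
theorem N16787 : nd 16787 = n27076 := ndS (p := 12672) (l := 1) rfl N12672 D27076
theorem N16788 : nd 16788 = n27077 := ndS (p := 12674) (l := 3) rfl N12674 D27077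
theorem N16789 : nd 16789 = n27078 := ndS (p := 12675) (l := 2) rfl N12675 D27078
theorem N16790 : nd 16790 = n27079 := ndS (p := 12675) (l := 4) rfl N12675 D27079
theorem N16791 : nd 16791 = n27080 := ndS (p := 12675) (l := 5) rfl N12675 D27080
theorem N16792 : nd 16792 = n27081 := ndS (p := 12676) (l := 1) rfl N12676 D27081
theorem N16793 : nd 16793 = n27082 := ndS (p := 12679) (l := 2) rfl N12679 D27082
theorem N16794 : nd 16794 = n27083 := ndS (p := 12680) (l := 3) rfl N12680 D27083
theorem N16795 : nd 16795 = n27084 := ndS (p := 12680) (l := 5) rfl N12680 D27084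
theorem N16796 : nd 16796 = n27085 := ndS (p := 12680) (l := 6) rfl N12680 D27085
theorem N16797 : nd 16797 = n27086 := ndS (p := 12683) (l := 5) rfl N12683 D27086
theorem N16798 : nd 16798 = n27087 := ndS (p := 12685) (l := 4) rfl N12685 D27087
theorem N16799 : nd 16799 = n27088 := ndS (p := 12685) (l := 5) rfl N12685 D27088
theorem N16800 : nd 16800 = n27089 := ndS (p := 12686) (l := 5) rfl N12686 D27089
theorem N16801 : nd 16801 = n27090 := ndS (p := 12687) (l := 6) rfl N12687 D27090
theorem N16802 : nd 16802 = n27091 := ndS (p := 12688) (l := 1) rfl N12688 D27091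
theorem N16803 : nd 16803 = n27092 := ndS (p := 12689) (l := 2) rfl N12689 D27092
theorem N16804 : nd 16804 = n27093 := ndS (p := 12691) (l := 5) rfl N12691 D27093
theorem N16805 : nd 16805 = n27094 := ndS (p := 12692) (l := 6) rfl N12692 D27094
theorem N16806 : nd 16806 = n27095 := ndS (p := 12693) (l := 5) rfl N12693 D27095
theorem N16807 : nd 16807 = n27096 := ndS (p := 12694) (l := 1) rfl N12694 D27096
theorem N16808 : nd 16808 = n27097 := ndS (p := 12696) (l := 3) rfl N12696 D27097
theorem N16809 : nd 16809 = n27098 := ndS (p := 12698) (l := 1) rfl N12698 D27098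
theorem N16810 : nd 16810 = n27099 := ndS (p := 12699) (l := 0) rfl N12699 D27099
theorem N16811 : nd 16811 = n27100 := ndS (p := 12699) (l := 2) rfl N12699 D27100
theorem N16812 : nd 16812 = n27101 := ndS (p := 12699) (l := 6) rfl N12699 D27101
theorem N16813 : nd 16813 = n27102 := ndS (p := 12701) (l := 1) rfl N12701 D27102
theorem N16814 : nd 16814 = n27103 := ndS (p := 12703) (l := 3) rfl N12703 D27103
theorem N16815 : nd 16815 = n27104 := ndS (p := 12704) (l := 2) rfl N12704 D27104
theorem N16816 : nd 16816 = n27105 := ndS (p := 12704) (l := 4) rfl N12704 D27105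
theorem N16817 : nd 16817 = n27106 := ndS (p := 12704) (l := 6) rfl N12704 D27106
theorem N16818 : nd 16818 = n27107 := ndS (p := 12705) (l := 1) rfl N12705 D27107
theorem N16819 : nd 16819 = n27108 := ndS (p := 12708) (l := 2) rfl N12708 D27108
theorem N16820 : nd 16820 = n27109 := ndS (p := 12709) (l := 3) rfl N12709 D27109
theorem N16821 : nd 16821 = n27110 := ndS (p := 12709) (l := 5) rfl N12709 D27110
theorem N16822 : nd 16822 = n27111 := ndS (p := 12709) (l := 6) rfl N12709 D27111
theorem N16823 : nd 16823 = n27112 := ndS (p := 12712) (l := 6) rfl N12712 D27112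
theorem N16824 : nd 16824 = n27113 := ndS (p := 12714) (l := 4) rfl N12714 D27113
theorem N16825 : nd 16825 = n27114 := ndS (p := 12714) (l := 6) rfl N12714 D27114
theorem N16826 : nd 16826 = n27115 := ndS (p := 12715) (l := 6) rfl N12715 D27115
theorem N16827 : nd 16827 = n27116 := ndS (p := 12716) (l := 5) rfl N12716 D27116
theorem N16828 : nd 16828 = n27117 := ndS (p := 12717) (l := 1) rfl N12717 D27117
theorem N16829 : nd 16829 = n27118 := ndS (p := 12718) (l := 2) rfl N12718 D27118
theorem N16830 : nd 16830 = n27119 := ndS (p := 12719) (l := 2) rfl N12719 D27119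
theorem N16831 : nd 16831 = n27120 := ndS (p := 12720) (l := 2) rfl N12720 D27120
theorem N16832 : nd 16832 = n27121 := ndS (p := 12720) (l := 5) rfl N12720 D27121
theorem N16833 : nd 16833 = n27122 := ndS (p := 12721) (l := 3) rfl N12721 D27122
theorem N16834 : nd 16834 = n27123 := ndS (p := 12721) (l := 5) rfl N12721 D27123
theorem N16835 : nd 16835 = n27124 := ndS (p := 12722) (l := 6) rfl N12722 D27124
theorem N16836 : nd 16836 = n27125 := ndS (p := 12724) (l := 1) rfl N12724 D27125
theorem N16837 : nd 16837 = n27126 := ndS (p := 12726) (l := 2) rfl N12726 D27126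
theorem N16838 : nd 16838 = n27127 := ndS (p := 12727) (l := 2) rfl N12727 D27127
theorem N16839 : nd 16839 = n27128 := ndS (p := 12727) (l := 6) rfl N12727 D27128
theorem N16840 : nd 16840 = n27129 := ndS (p := 12728) (l := 3) rfl N12728 D27129
theorem N16841 : nd 16841 = n27130 := ndS (p := 12728) (l := 6) rfl N12728 D27130
theorem N16842 : nd 16842 = n27131 := ndS (p := 12729) (l := 5) rfl N12729 D27131
theorem N16843 : nd 16843 = n27132 := ndS (p := 12731) (l := 1) rfl N12731 D27132
theorem N16844 : nd 16844 = n27133 := ndS (p := 12733) (l := 2) rfl N12733 D27133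
theorem N16845 : nd 16845 = n27134 := ndS (p := 12741) (l := 1) rfl N12741 D27134
theorem N16846 : nd 16846 = n27135 := ndS (p := 12742) (l := 2) rfl N12742 D27135
theorem N16847 : nd 16847 = n27136 := ndS (p := 12750) (l := 1) rfl N12750 D27136
theorem N16848 : nd 16848 = n27137 := ndS (p := 12753) (l := 6) rfl N12753 D27137
theorem N16849 : nd 16849 = n27138 := ndS (p := 12754) (l := 1) rfl N12754 D27138
theorem N16850 : nd 16850 = n27139 := ndS (p := 12757) (l := 5) rfl N12757 D27139
theorem N16851 : nd 16851 = n27140 := ndS (p := 12758) (l := 1) rfl N12758 D27140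
theorem N16852 : nd 16852 = n27141 := ndS (p := 12760) (l := 1) rfl N12760 D27141
theorem N16853 : nd 16853 = n27142 := ndS (p := 12762) (l := 4) rfl N12762 D27142
theorem N16854 : nd 16854 = n27143 := ndS (p := 12763) (l := 0) rfl N12763 D27143
theorem N16855 : nd 16855 = n27144 := ndS (p := 12766) (l := 6) rfl N12766 D27144
theorem N16856 : nd 16856 = n27145 := ndS (p := 12769) (l := 2) rfl N12769 D27145
theorem N16857 : nd 16857 = n27146 := ndS (p := 12771) (l := 1) rfl N12771 D27146
theorem N16858 : nd 16858 = n27147 := ndS (p := 12771) (l := 6) rfl N12771 D27147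
theorem N16859 : nd 16859 = n27148 := ndS (p := 12778) (l := 3) rfl N12778 D27148
theorem N16860 : nd 16860 = n27149 := ndS (p := 12778) (l := 5) rfl N12778 D27149
theorem N16861 : nd 16861 = n27150 := ndS (p := 12785) (l := 1) rfl N12785 D27150
theorem N16862 : nd 16862 = n27151 := ndS (p := 12787) (l := 4) rfl N12787 D27151
theorem N16863 : nd 16863 = n27152 := ndS (p := 12788) (l := 0) rfl N12788 D27152
theorem N16864 : nd 16864 = n27153 := ndS (p := 12791) (l := 5) rfl N12791 D27153
theorem N16865 : nd 16865 = n27154 := ndS (p := 12794) (l := 2) rfl N12794 D27154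
theorem N16866 : nd 16866 = n27155 := ndS (p := 12796) (l := 1) rfl N12796 D27155
theorem N16867 : nd 16867 = n27156 := ndS (p := 12796) (l := 5) rfl N12796 D27156
theorem N16868 : nd 16868 = n27157 := ndS (p := 12803) (l := 3) rfl N12803 D27157
theorem N16869 : nd 16869 = n27158 := ndS (p := 12803) (l := 6) rfl N12803 D27158
theorem N16870 : nd 16870 = n27159 := ndS (p := 12812) (l := 6) rfl N12812 D27159
theorem N16871 : nd 16871 = n27160 := ndS (p := 12816) (l := 5) rfl N12816 D27160
theorem N16872 : nd 16872 = n27161 := ndS (p := 12823) (l := 2) rfl N12823 D27161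
theorem N16873 : nd 16873 = n27162 := ndS (p := 12824) (l := 3) rfl N12824 D27162
theorem N16874 : nd 16874 = n27163 := ndS (p := 12824) (l := 6) rfl N12824 D27163
theorem N16875 : nd 16875 = n27164 := ndS (p := 12825) (l := 1) rfl N12825 D27164
theorem N16876 : nd 16876 = n27165 := ndS (p := 12826) (l := 0) rfl N12826 D27165
theorem N16877 : nd 16877 = n27166 := ndS (p := 12826) (l := 2) rfl N12826 D27166
theorem N16878 : nd 16878 = n27167 := ndS (p := 12826) (l := 5) rfl N12826 D27167
theorem N16879 : nd 16879 = n27168 := ndS (p := 12827) (l := 2) rfl N12827 D27168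
theorem N16880 : nd 16880 = n27169 := ndS (p := 12828) (l := 3) rfl N12828 D27169
theorem N16881 : nd 16881 = n27170 := ndS (p := 12828) (l := 5) rfl N12828 D27170
theorem N16882 : nd 16882 = n27171 := ndS (p := 12829) (l := 1) rfl N12829 D27171
theorem N16883 : nd 16883 = n27172 := ndS (p := 12830) (l := 0) rfl N12830 D27172
theorem N16884 : nd 16884 = n27173 := ndS (p := 12830) (l := 2) rfl N12830 D27173
theorem N16885 : nd 16885 = n27174 := ndS (p := 12830) (l := 6) rfl N12830 D27174
theorem N16886 : nd 16886 = n27175 := ndS (p := 12841) (l := 0) rfl N12841 D27175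
theorem N16887 : nd 16887 = n27176 := ndS (p := 12841) (l := 5) rfl N12841 D27176
theorem N16888 : nd 16888 = n27177 := ndS (p := 12841) (l := 6) rfl N12841 D27177
theorem N16889 : nd 16889 = n27178 := ndS (p := 12842) (l := 3) rfl N12842 D27178
theorem N16890 : nd 16890 = n27179 := ndS (p := 12842) (l := 6) rfl N12842 D27179
theorem N16891 : nd 16891 = n27180 := ndS (p := 12843) (l := 1) rfl N12843 D27180
theorem N16892 : nd 16892 = n27181 := ndS (p := 12844) (l := 2) rfl N12844 D27181
theorem N16893 : nd 16893 = n27182 := ndS (p := 12844) (l := 4) rfl N12844 D27182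
theorem N16894 : nd 16894 = n27183 := ndS (p := 12844) (l := 6) rfl N12844 D27183
theorem N16895 : nd 16895 = n27184 := ndS (p := 12845) (l := 1) rfl N12845 D27184
theorem N16896 : nd 16896 = n27185 := ndS (p := 12845) (l := 5) rfl N12845 D27185
theorem N16897 : nd 16897 = n27186 := ndS (p := 12847) (l := 0) rfl N12847 D27186
theorem N16898 : nd 16898 = n27188 := ndS (p := 12847) (l := 5) rfl N12847 D27188
theorem N16899 : nd 16899 = n27189 := ndS (p := 12847) (l := 6) rfl N12847 D27189
theorem N16900 : nd 16900 = n27190 := ndS (p := 12848) (l := 3) rfl N12848 D27190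
theorem N16901 : nd 16901 = n27191 := ndS (p := 12848) (l := 5) rfl N12848 D27191
theorem N16902 : nd 16902 = n27192 := ndS (p := 12849) (l := 1) rfl N12849 D27192
theorem N16903 : nd 16903 = n27193 := ndS (p := 12850) (l := 2) rfl N12850 D27193
theorem N16904 : nd 16904 = n27194 := ndS (p := 12850) (l := 4) rfl N12850 D27194
theorem N16905 : nd 16905 = n27195 := ndS (p := 12850) (l := 5) rfl N12850 D27195
theorem N16906 : nd 16906 = n27196 := ndS (p := 12851) (l := 1) rfl N12851 D27196
theorem N16907 : nd 16907 = n27197 := ndS (p := 12851) (l := 6) rfl N12851 D27197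
theorem N16908 : nd 16908 = n27198 := ndS (p := 12854) (l := 3) rfl N12854 D27198
theorem N16909 : nd 16909 = n27199 := ndS (p := 12854) (l := 6) rfl N12854 D27199
theorem N16910 : nd 16910 = n27200 := ndS (p := 12860) (l := 3) rfl N12860 D27200
theorem N16911 : nd 16911 = n27201 := ndS (p := 12860) (l := 5) rfl N12860 D27201
theorem N16912 : nd 16912 = n27202 := ndS (p := 12867) (l := 2) rfl N12867 D27202
theorem N16913 : nd 16913 = n27203 := ndS (p := 12868) (l := 6) rfl N12868 D27203
theorem N16914 : nd 16914 = n27204 := ndS (p := 12869) (l := 5) rfl N12869 D27204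
theorem N16915 : nd 16915 = n27205 := ndS (p := 12870) (l := 1) rfl N12870 D27205
theorem N16916 : nd 16916 = n27206 := ndS (p := 12871) (l := 5) rfl N12871 D27206
theorem N16917 : nd 16917 = n27207 := ndS (p := 12873) (l := 2) rfl N12873 D27207
theorem N16918 : nd 16918 = n27208 := ndS (p := 12873) (l := 6) rfl N12873 D27208
theorem N16919 : nd 16919 = n27209 := ndS (p := 12874) (l := 1) rfl N12874 D27209
theorem N16920 : nd 16920 = n27210 := ndS (p := 12874) (l := 5) rfl N12874 D27210
theorem N16921 : nd 16921 = n27211 := ndS (p := 12877) (l := 1) rfl N12877 D27211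
theorem N16922 : nd 16922 = n27212 := ndS (p := 12877) (l := 6) rfl N12877 D27212
theorem N16923 : nd 16923 = n27213 := ndS (p := 12878) (l := 1) rfl N12878 D27213
theorem N16924 : nd 16924 = n27214 := ndS (p := 12879) (l := 2) rfl N12879 D27214
theorem N16925 : nd 16925 = n27215 := ndS (p := 12880) (l := 5) rfl N12880 D27215
theorem N16926 : nd 16926 = n27216 := ndS (p := 12881) (l := 6) rfl N12881 D27216
theorem N16927 : nd 16927 = n27217 := ndS (p := 12882) (l := 1) rfl N12882 D27217
theorem N16928 : nd 16928 = n27218 := ndS (p := 12883) (l := 6) rfl N12883 D27218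
theorem N16929 : nd 16929 = n27219 := ndS (p := 12885) (l := 2) rfl N12885 D27219
theorem N16930 : nd 16930 = n27220 := ndS (p := 12885) (l := 5) rfl N12885 D27220
theorem N16931 : nd 16931 = n27221 := ndS (p := 12886) (l := 1) rfl N12886 D27221
theorem N16932 : nd 16932 = n27222 := ndS (p := 12886) (l := 6) rfl N12886 D27222
theorem N16933 : nd 16933 = n27223 := ndS (p := 12889) (l := 1) rfl N12889 D27223
theorem N16934 : nd 16934 = n27224 := ndS (p := 12889) (l := 5) rfl N12889 D27224
theorem N16935 : nd 16935 = n27225 := ndS (p := 12890) (l := 1) rfl N12890 D27225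
theorem N16936 : nd 16936 = n27226 := ndS (p := 12893) (l := 1) rfl N12893 D27226
theorem N16937 : nd 16937 = n27227 := ndS (p := 12894) (l := 0) rfl N12894 D27227
theorem N16938 : nd 16938 = n27228 := ndS (p := 12894) (l := 2) rfl N12894 D27228
theorem N16939 : nd 16939 = n27229 := ndS (p := 12894) (l := 5) rfl N12894 D27229
theorem N16940 : nd 16940 = n27230 := ndS (p := 12895) (l := 2) rfl N12895 D27230
theorem N16941 : nd 16941 = n27231 := ndS (p := 12895) (l := 5) rfl N12895 D27231
theorem N16942 : nd 16942 = n27232 := ndS (p := 12896) (l := 5) rfl N12896 D27232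
theorem N16943 : nd 16943 = n27233 := ndS (p := 12897) (l := 6) rfl N12897 D27233
theorem N16944 : nd 16944 = n27234 := ndS (p := 12898) (l := 2) rfl N12898 D27234
theorem N16945 : nd 16945 = n27235 := ndS (p := 12899) (l := 2) rfl N12899 D27235
theorem N16946 : nd 16946 = n27236 := ndS (p := 12900) (l := 1) rfl N12900 D27236
theorem N16947 : nd 16947 = n27237 := ndS (p := 12900) (l := 3) rfl N12900 D27237
theorem N16948 : nd 16948 = n27238 := ndS (p := 12900) (l := 6) rfl N12900 D27238
theorem N16949 : nd 16949 = n27239 := ndS (p := 12902) (l := 5) rfl N12902 D27239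
theorem N16950 : nd 16950 = n27240 := ndS (p := 12903) (l := 1) rfl N12903 D27240
theorem N16951 : nd 16951 = n27241 := ndS (p := 12908) (l := 1) rfl N12908 D27241
theorem N16952 : nd 16952 = n27242 := ndS (p := 12909) (l := 0) rfl N12909 D27242
theorem N16953 : nd 16953 = n27243 := ndS (p := 12909) (l := 2) rfl N12909 D27243
theorem N16954 : nd 16954 = n27244 := ndS (p := 12909) (l := 6) rfl N12909 D27244
theorem N16955 : nd 16955 = n27245 := ndS (p := 12910) (l := 2) rfl N12910 D27245
theorem N16956 : nd 16956 = n27246 := ndS (p := 12910) (l := 6) rfl N12910 D27246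
theorem N16957 : nd 16957 = n27247 := ndS (p := 12911) (l := 6) rfl N12911 D27247
theorem N16958 : nd 16958 = n27248 := ndS (p := 12912) (l := 5) rfl N12912 D27248
theorem N16959 : nd 16959 = n27249 := ndS (p := 12913) (l := 2) rfl N12913 D27249
theorem N16960 : nd 16960 = n27250 := ndS (p := 12914) (l := 2) rfl N12914 D27250
theorem N16961 : nd 16961 = n27251 := ndS (p := 12915) (l := 1) rfl N12915 D27251
theorem N16962 : nd 16962 = n27252 := ndS (p := 12915) (l := 3) rfl N12915 D27252
theorem N16963 : nd 16963 = n27253 := ndS (p := 12915) (l := 5) rfl N12915 D27253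
theorem N16964 : nd 16964 = n27254 := ndS (p := 12917) (l := 6) rfl N12917 D27254
theorem N16965 : nd 16965 = n27255 := ndS (p := 12918) (l := 1) rfl N12918 D27255
theorem N16966 : nd 16966 = n27256 := ndS (p := 12921) (l := 1) rfl N12921 D27256
theorem N16967 : nd 16967 = n27257 := ndS (p := 12922) (l := 0) rfl N12922 D27257
theorem N16968 : nd 16968 = n27258 := ndS (p := 12922) (l := 2) rfl N12922 D27258
theorem N16969 : nd 16969 = n27259 := ndS (p := 12922) (l := 5) rfl N12922 D27259
theorem N16970 : nd 16970 = n27260 := ndS (p := 12923) (l := 2) rfl N12923 D27260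
theorem N16971 : nd 16971 = n27261 := ndS (p := 12924) (l := 3) rfl N12924 D27261
theorem N16972 : nd 16972 = n27262 := ndS (p := 12924) (l := 5) rfl N12924 D27262
theorem N16973 : nd 16973 = n27263 := ndS (p := 12927) (l := 0) rfl N12927 D27263
theorem N16974 : nd 16974 = n27264 := ndS (p := 12927) (l := 2) rfl N12927 D27264
theorem N16975 : nd 16975 = n27265 := ndS (p := 12927) (l := 5) rfl N12927 D27265
theorem N16976 : nd 16976 = n27266 := ndS (p := 12927) (l := 6) rfl N12927 D27266
theorem N16977 : nd 16977 = n27267 := ndS (p := 12928) (l := 0) rfl N12928 D27267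
theorem N16978 : nd 16978 = n27268 := ndS (p := 12928) (l := 2) rfl N12928 D27268
theorem N16979 : nd 16979 = n27269 := ndS (p := 12928) (l := 6) rfl N12928 D27269
theorem N16980 : nd 16980 = n27270 := ndS (p := 12929) (l := 2) rfl N12929 D27270
theorem N16981 : nd 16981 = n27271 := ndS (p := 12929) (l := 6) rfl N12929 D27271
theorem N16982 : nd 16982 = n27272 := ndS (p := 12930) (l := 3) rfl N12930 D27272
theorem N16983 : nd 16983 = n27273 := ndS (p := 12930) (l := 6) rfl N12930 D27273
theorem N16984 : nd 16984 = n27274 := ndS (p := 12931) (l := 5) rfl N12931 D27274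
theorem N16985 : nd 16985 = n27275 := ndS (p := 12932) (l := 5) rfl N12932 D27275
theorem N16986 : nd 16986 = n27276 := ndS (p := 12932) (l := 6) rfl N12932 D27276
theorem N16987 : nd 16987 = n27277 := ndS (p := 12934) (l := 5) rfl N12934 D27277
theorem N16988 : nd 16988 = n27278 := ndS (p := 12935) (l := 2) rfl N12935 D27278
theorem N16989 : nd 16989 = n27279 := ndS (p := 12936) (l := 0) rfl N12936 D27279
theorem N16990 : nd 16990 = n27280 := ndS (p := 12936) (l := 5) rfl N12936 D27280
theorem N16991 : nd 16991 = n27281 := ndS (p := 12937) (l := 1) rfl N12937 D27281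
theorem N16992 : nd 16992 = n27282 := ndS (p := 12938) (l := 0) rfl N12938 D27282
theorem N16993 : nd 16993 = n27283 := ndS (p := 12938) (l := 2) rfl N12938 D27283
theorem N16994 : nd 16994 = n27284 := ndS (p := 12938) (l := 6) rfl N12938 D27284
theorem N16995 : nd 16995 = n27285 := ndS (p := 12939) (l := 2) rfl N12939 D27285
theorem N16996 : nd 16996 = n27286 := ndS (p := 12940) (l := 3) rfl N12940 D27286
theorem N16997 : nd 16997 = n27287 := ndS (p := 12940) (l := 6) rfl N12940 D27287
theorem N16998 : nd 16998 = n27288 := ndS (p := 12943) (l := 0) rfl N12943 D27288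
theorem N16999 : nd 16999 = n27289 := ndS (p := 12943) (l := 2) rfl N12943 D27289
theorem N17000 : nd 17000 = n27290 := ndS (p := 12943) (l := 5) rfl N12943 D27290
theorem N17001 : nd 17001 = n27291 := ndS (p := 12943) (l := 6) rfl N12943 D27291
theorem N17002 : nd 17002 = n27292 := ndS (p := 12944) (l := 0) rfl N12944 D27292
theorem N17003 : nd 17003 = n27293 := ndS (p := 12944) (l := 2) rfl N12944 D27293
theorem N17004 : nd 17004 = n27294 := ndS (p := 12944) (l := 5) rfl N12944 D27294
theorem N17005 : nd 17005 = n27295 := ndS (p := 12945) (l := 2) rfl N12945 D27295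
theorem N17006 : nd 17006 = n27296 := ndS (p := 12945) (l := 5) rfl N12945 D27296
theorem N17007 : nd 17007 = n27297 := ndS (p := 12946) (l := 3) rfl N12946 D27297
theorem N17008 : nd 17008 = n27298 := ndS (p := 12946) (l := 5) rfl N12946 D27298
theorem N17009 : nd 17009 = n27299 := ndS (p := 12947) (l := 6) rfl N12947 D27299
theorem N17010 : nd 17010 = n27300 := ndS (p := 12948) (l := 5) rfl N12948 D27300
theorem N17011 : nd 17011 = n27301 := ndS (p := 12948) (l := 6) rfl N12948 D27301
theorem N17012 : nd 17012 = n27302 := ndS (p := 12949) (l := 6) rfl N12949 D27302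
theorem N17013 : nd 17013 = n27303 := ndS (p := 12951) (l := 2) rfl N12951 D27303
theorem N17014 : nd 17014 = n27304 := ndS (p := 12952) (l := 0) rfl N12952 D27304
theorem N17015 : nd 17015 = n27305 := ndS (p := 12952) (l := 6) rfl N12952 D27305
theorem N17016 : nd 17016 = n27306 := ndS (p := 12953) (l := 4) rfl N12953 D27306
theorem N17017 : nd 17017 = n27307 := ndS (p := 12953) (l := 5) rfl N12953 D27307
theorem N17018 : nd 17018 = n27308 := ndS (p := 12953) (l := 6) rfl N12953 D27308
theorem N17019 : nd 17019 = n27309 := ndS (p := 12957) (l := 5) rfl N12957 D27309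
theorem N17020 : nd 17020 = n27310 := ndS (p := 12957) (l := 6) rfl N12957 D27310
theorem N17021 : nd 17021 = n27311 := ndS (p := 12960) (l := 4) rfl N12960 D27311
theorem N17022 : nd 17022 = n27312 := ndS (p := 12961) (l := 6) rfl N12961 D27312
theorem N17023 : nd 17023 = n27313 := ndS (p := 12962) (l := 6) rfl N12962 D27313
theorem N17024 : nd 17024 = n27314 := ndS (p := 12963) (l := 1) rfl N12963 D27314
theorem N17025 : nd 17025 = n27315 := ndS (p := 12963) (l := 5) rfl N12963 D27315
theorem N17026 : nd 17026 = n27316 := ndS (p := 12965) (l := 2) rfl N12965 D27316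
theorem N17027 : nd 17027 = n27317 := ndS (p := 12965) (l := 5) rfl N12965 D27317
theorem N17028 : nd 17028 = n27318 := ndS (p := 12966) (l := 1) rfl N12966 D27318
theorem N17029 : nd 17029 = n27319 := ndS (p := 12968) (l := 3) rfl N12968 D27319
theorem N17030 : nd 17030 = n27320 := ndS (p := 12970) (l := 2) rfl N12970 D27320
theorem N17031 : nd 17031 = n27321 := ndS (p := 12971) (l := 6) rfl N12971 D27321
theorem N17032 : nd 17032 = n27322 := ndS (p := 12972) (l := 6) rfl N12972 D27322
theorem N17033 : nd 17033 = n27323 := ndS (p := 12973) (l := 1) rfl N12973 D27323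
theorem N17034 : nd 17034 = n27324 := ndS (p := 12973) (l := 5) rfl N12973 D27324
theorem N17035 : nd 17035 = n27325 := ndS (p := 12974) (l := 1) rfl N12974 D27325
theorem N17036 : nd 17036 = n27326 := ndS (p := 12975) (l := 0) rfl N12975 D27326
theorem N17037 : nd 17037 = n27327 := ndS (p := 12975) (l := 2) rfl N12975 D27327
theorem N17038 : nd 17038 = n27328 := ndS (p := 12975) (l := 5) rfl N12975 D27328
theorem N17039 : nd 17039 = n27329 := ndS (p := 12976) (l := 1) rfl N12976 D27329
theorem N17040 : nd 17040 = n27330 := ndS (p := 12977) (l := 1) rfl N12977 D27330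
theorem N17041 : nd 17041 = n27331 := ndS (p := 12978) (l := 0) rfl N12978 D27331
theorem N17042 : nd 17042 = n27332 := ndS (p := 12978) (l := 2) rfl N12978 D27332
theorem N17043 : nd 17043 = n27333 := ndS (p := 12978) (l := 5) rfl N12978 D27333
theorem N17044 : nd 17044 = n27334 := ndS (p := 12979) (l := 1) rfl N12979 D27334
theorem N17045 : nd 17045 = n27335 := ndS (p := 12979) (l := 5) rfl N12979 D27335
theorem N17046 : nd 17046 = n27336 := ndS (p := 12980) (l := 3) rfl N12980 D27336
theorem N17047 : nd 17047 = n27337 := ndS (p := 12980) (l := 5) rfl N12980 D27337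
theorem N17048 : nd 17048 = n27338 := ndS (p := 12981) (l := 6) rfl N12981 D27338
theorem N17049 : nd 17049 = n27339 := ndS (p := 12983) (l := 3) rfl N12983 D27339
theorem N17050 : nd 17050 = n27340 := ndS (p := 12983) (l := 5) rfl N12983 D27340
theorem N17051 : nd 17051 = n27341 := ndS (p := 12985) (l := 2) rfl N12985 D27341
theorem N17052 : nd 17052 = n27342 := ndS (p := 12985) (l := 4) rfl N12985 D27342
theorem N17053 : nd 17053 = n27343 := ndS (p := 12985) (l := 5) rfl N12985 D27343
theorem N17054 : nd 17054 = n27344 := ndS (p := 12986) (l := 1) rfl N12986 D27344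
theorem N17055 : nd 17055 = n27345 := ndS (p := 12987) (l := 0) rfl N12987 D27345
theorem N17056 : nd 17056 = n27346 := ndS (p := 12987) (l := 2) rfl N12987 D27346
theorem N17057 : nd 17057 = n27347 := ndS (p := 12987) (l := 5) rfl N12987 D27347
theorem N17058 : nd 17058 = n27348 := ndS (p := 12988) (l := 1) rfl N12988 D27348
theorem N17059 : nd 17059 = n27349 := ndS (p := 12989) (l := 1) rfl N12989 D27349
theorem N17060 : nd 17060 = n27350 := ndS (p := 12989) (l := 2) rfl N12989 D27350
theorem N17061 : nd 17061 = n27351 := ndS (p := 12990) (l := 3) rfl N12990 D27351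
theorem N17062 : nd 17062 = n27352 := ndS (p := 12990) (l := 5) rfl N12990 D27352
theorem N17063 : nd 17063 = n27353 := ndS (p := 12991) (l := 1) rfl N12991 D27353
theorem N17064 : nd 17064 = n27354 := ndS (p := 12992) (l := 0) rfl N12992 D27354
theorem N17065 : nd 17065 = n27355 := ndS (p := 12992) (l := 2) rfl N12992 D27355
theorem N17066 : nd 17066 = n27356 := ndS (p := 12992) (l := 6) rfl N12992 D27356
theorem N17067 : nd 17067 = n27357 := ndS (p := 12993) (l := 0) rfl N12993 D27357
theorem N17068 : nd 17068 = n27358 := ndS (p := 12993) (l := 5) rfl N12993 D27358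
theorem N17069 : nd 17069 = n27359 := ndS (p := 12994) (l := 3) rfl N12994 D27359
theorem N17070 : nd 17070 = n27360 := ndS (p := 12995) (l := 2) rfl N12995 D27360
theorem N17071 : nd 17071 = n27361 := ndS (p := 12995) (l := 4) rfl N12995 D27361
theorem N17072 : nd 17072 = n27362 := ndS (p := 12995) (l := 5) rfl N12995 D27362
theorem N17073 : nd 17073 = n27363 := ndS (p := 12996) (l := 1) rfl N12996 D27363
theorem N17074 : nd 17074 = n27364 := ndS (p := 12997) (l := 0) rfl N12997 D27364
theorem N17075 : nd 17075 = n27365 := ndS (p := 12997) (l := 2) rfl N12997 D27365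
theorem N17076 : nd 17076 = n27366 := ndS (p := 12997) (l := 6) rfl N12997 D27366
theorem N17077 : nd 17077 = n27367 := ndS (p := 12998) (l := 1) rfl N12998 D27367
theorem N17078 : nd 17078 = n27368 := ndS (p := 12998) (l := 2) rfl N12998 D27368
theorem N17079 : nd 17079 = n27369 := ndS (p := 12998) (l := 6) rfl N12998 D27369
theorem N17080 : nd 17080 = n27370 := ndS (p := 12999) (l := 3) rfl N12999 D27370
theorem N17081 : nd 17081 = n27371 := ndS (p := 12999) (l := 6) rfl N12999 D27371
theorem N17082 : nd 17082 = n27372 := ndS (p := 13000) (l := 5) rfl N13000 D27372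
theorem N17083 : nd 17083 = n27373 := ndS (p := 13001) (l := 2) rfl N13001 D27373
theorem N17084 : nd 17084 = n27374 := ndS (p := 13002) (l := 1) rfl N13002 D27374
theorem N17085 : nd 17085 = n27375 := ndS (p := 13002) (l := 3) rfl N13002 D27375
theorem N17086 : nd 17086 = n27376 := ndS (p := 13002) (l := 5) rfl N13002 D27376
theorem N17087 : nd 17087 = n27377 := ndS (p := 13002) (l := 6) rfl N13002 D27377
theorem N17088 : nd 17088 = n27378 := ndS (p := 13005) (l := 0) rfl N13005 D27378
theorem N17089 : nd 17089 = n27379 := ndS (p := 13005) (l := 3) rfl N13005 D27379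
theorem N17090 : nd 17090 = n27380 := ndS (p := 13005) (l := 6) rfl N13005 D27380
theorem N17091 : nd 17091 = n27381 := ndS (p := 13008) (l := 1) rfl N13008 D27381
theorem N17092 : nd 17092 = n27382 := ndS (p := 13009) (l := 0) rfl N13009 D27382
theorem N17093 : nd 17093 = n27383 := ndS (p := 13009) (l := 2) rfl N13009 D27383
theorem N17094 : nd 17094 = n27384 := ndS (p := 13010) (l := 2) rfl N13010 D27384
theorem N17095 : nd 17095 = n27385 := ndS (p := 13011) (l := 3) rfl N13011 D27385
theorem N17096 : nd 17096 = n27386 := ndS (p := 13013) (l := 1) rfl N13013 D27386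
theorem N17097 : nd 17097 = n27387 := ndS (p := 13013) (l := 3) rfl N13013 D27387
theorem N17098 : nd 17098 = n27388 := ndS (p := 13015) (l := 2) rfl N13015 D27388
theorem N17099 : nd 17099 = n27389 := ndS (p := 13015) (l := 6) rfl N13015 D27389
theorem N17100 : nd 17100 = n27390 := ndS (p := 13016) (l := 1) rfl N13016 D27390
theorem N17101 : nd 17101 = n27391 := ndS (p := 13020) (l := 1) rfl N13020 D27391
theorem N17102 : nd 17102 = n27392 := ndS (p := 13022) (l := 1) rfl N13022 D27392
theorem N17103 : nd 17103 = n27393 := ndS (p := 13022) (l := 3) rfl N13022 D27393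
theorem N17104 : nd 17104 = n27394 := ndS (p := 13023) (l := 2) rfl N13023 D27394
theorem N17105 : nd 17105 = n27395 := ndS (p := 13023) (l := 4) rfl N13023 D27395
theorem N17106 : nd 17106 = n27396 := ndS (p := 13023) (l := 6) rfl N13023 D27396
theorem N17107 : nd 17107 = n27397 := ndS (p := 13029) (l := 4) rfl N13029 D27397
theorem N17108 : nd 17108 = n27398 := ndS (p := 13029) (l := 5) rfl N13029 D27398
theorem N17109 : nd 17109 = n27399 := ndS (p := 13029) (l := 6) rfl N13029 D27399
theorem N17110 : nd 17110 = n27400 := ndS (p := 13033) (l := 5) rfl N13033 D27400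
theorem N17111 : nd 17111 = n27401 := ndS (p := 13033) (l := 6) rfl N13033 D27401
theorem N17112 : nd 17112 = n27402 := ndS (p := 13036) (l := 4) rfl N13036 D27402
theorem N17113 : nd 17113 = n27403 := ndS (p := 13037) (l := 5) rfl N13037 D27403
theorem N17114 : nd 17114 = n27404 := ndS (p := 13038) (l := 1) rfl N13038 D27404
theorem N17115 : nd 17115 = n27405 := ndS (p := 13038) (l := 6) rfl N13038 D27405
theorem N17116 : nd 17116 = n27406 := ndS (p := 13039) (l := 5) rfl N13039 D27406
theorem N17117 : nd 17117 = n27407 := ndS (p := 13040) (l := 2) rfl N13040 D27407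
theorem N17118 : nd 17118 = n27408 := ndS (p := 13040) (l := 6) rfl N13040 D27408
theorem N17119 : nd 17119 = n27409 := ndS (p := 13041) (l := 1) rfl N13041 D27409
theorem N17120 : nd 17120 = n27410 := ndS (p := 13044) (l := 3) rfl N13044 D27410
theorem N17121 : nd 17121 = n27411 := ndS (p := 13046) (l := 5) rfl N13046 D27411
theorem N17122 : nd 17122 = n27412 := ndS (p := 13047) (l := 1) rfl N13047 D27412
theorem N17123 : nd 17123 = n27413 := ndS (p := 13047) (l := 6) rfl N13047 D27413
theorem N17124 : nd 17124 = n27414 := ndS (p := 13048) (l := 5) rfl N13048 D27414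
theorem N17125 : nd 17125 = n27415 := ndS (p := 13049) (l := 0) rfl N13049 D27415
theorem N17126 : nd 17126 = n27416 := ndS (p := 13049) (l := 2) rfl N13049 D27416
theorem N17127 : nd 17127 = n27417 := ndS (p := 13049) (l := 6) rfl N13049 D27417
theorem N17128 : nd 17128 = n27418 := ndS (p := 13050) (l := 1) rfl N13050 D27418
theorem N17129 : nd 17129 = n27419 := ndS (p := 13051) (l := 1) rfl N13051 D27419
theorem N17130 : nd 17130 = n27420 := ndS (p := 13052) (l := 1) rfl N13052 D27420
theorem N17131 : nd 17131 = n27421 := ndS (p := 13053) (l := 0) rfl N13053 D27421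
theorem N17132 : nd 17132 = n27422 := ndS (p := 13053) (l := 2) rfl N13053 D27422
theorem N17133 : nd 17133 = n27423 := ndS (p := 13053) (l := 6) rfl N13053 D27423
theorem N17134 : nd 17134 = n27424 := ndS (p := 13054) (l := 1) rfl N13054 D27424
theorem N17135 : nd 17135 = n27425 := ndS (p := 13054) (l := 6) rfl N13054 D27425
theorem N17136 : nd 17136 = n27426 := ndS (p := 13055) (l := 3) rfl N13055 D27426
theorem N17137 : nd 17137 = n27427 := ndS (p := 13055) (l := 6) rfl N13055 D27427
theorem N17138 : nd 17138 = n27428 := ndS (p := 13056) (l := 5) rfl N13056 D27428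
theorem N17139 : nd 17139 = n27429 := ndS (p := 13058) (l := 3) rfl N13058 D27429
theorem N17140 : nd 17140 = n27430 := ndS (p := 13059) (l := 2) rfl N13059 D27430
theorem N17141 : nd 17141 = n27431 := ndS (p := 13059) (l := 4) rfl N13059 D27431
theorem N17142 : nd 17142 = n27432 := ndS (p := 13059) (l := 6) rfl N13059 D27432
theorem N17143 : nd 17143 = n27433 := ndS (p := 13060) (l := 1) rfl N13060 D27433
theorem N17144 : nd 17144 = n27434 := ndS (p := 13061) (l := 0) rfl N13061 D27434
theorem N17145 : nd 17145 = n27435 := ndS (p := 13061) (l := 2) rfl N13061 D27435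
theorem N17146 : nd 17146 = n27436 := ndS (p := 13061) (l := 6) rfl N13061 D27436
theorem N17147 : nd 17147 = n27437 := ndS (p := 13062) (l := 1) rfl N13062 D27437
theorem N17148 : nd 17148 = n27438 := ndS (p := 13063) (l := 1) rfl N13063 D27438
theorem N17149 : nd 17149 = n27439 := ndS (p := 13063) (l := 2) rfl N13063 D27439
theorem N17150 : nd 17150 = n27440 := ndS (p := 13064) (l := 3) rfl N13064 D27440
theorem N17151 : nd 17151 = n27441 := ndS (p := 13064) (l := 6) rfl N13064 D27441
theorem N17152 : nd 17152 = n27442 := ndS (p := 13065) (l := 1) rfl N13065 D27442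
theorem N17153 : nd 17153 = n27445 := ndS (p := 13066) (l := 5) rfl N13066 D27445
theorem N17154 : nd 17154 = n27446 := ndS (p := 13067) (l := 0) rfl N13067 D27446
theorem N17155 : nd 17155 = n27447 := ndS (p := 13067) (l := 6) rfl N13067 D27447
theorem N17156 : nd 17156 = n27448 := ndS (p := 13068) (l := 3) rfl N13068 D27448
theorem N17157 : nd 17157 = n27449 := ndS (p := 13069) (l := 2) rfl N13069 D27449
theorem N17158 : nd 17158 = n27450 := ndS (p := 13069) (l := 6) rfl N13069 D27450
theorem N17159 : nd 17159 = n27451 := ndS (p := 13070) (l := 1) rfl N13070 D27451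
theorem N17160 : nd 17160 = n27452 := ndS (p := 13071) (l := 0) rfl N13071 D27452
theorem N17161 : nd 17161 = n27453 := ndS (p := 13071) (l := 2) rfl N13071 D27453
theorem N17162 : nd 17162 = n27454 := ndS (p := 13071) (l := 5) rfl N13071 D27454
theorem N17163 : nd 17163 = n27455 := ndS (p := 13072) (l := 1) rfl N13072 D27455
theorem N17164 : nd 17164 = n27456 := ndS (p := 13072) (l := 2) rfl N13072 D27456
theorem N17165 : nd 17165 = n27457 := ndS (p := 13072) (l := 5) rfl N13072 D27457
theorem N17166 : nd 17166 = n27458 := ndS (p := 13073) (l := 3) rfl N13073 D27458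
theorem N17167 : nd 17167 = n27459 := ndS (p := 13074) (l := 6) rfl N13074 D27459
theorem N17168 : nd 17168 = n27460 := ndS (p := 13075) (l := 2) rfl N13075 D27460
theorem N17169 : nd 17169 = n27461 := ndS (p := 13076) (l := 1) rfl N13076 D27461
theorem N17170 : nd 17170 = n27462 := ndS (p := 13076) (l := 3) rfl N13076 D27462
theorem N17171 : nd 17171 = n27463 := ndS (p := 13076) (l := 5) rfl N13076 D27463
theorem N17172 : nd 17172 = n27464 := ndS (p := 13076) (l := 6) rfl N13076 D27464
theorem N17173 : nd 17173 = n27465 := ndS (p := 13079) (l := 0) rfl N13079 D27465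
theorem N17174 : nd 17174 = n27466 := ndS (p := 13079) (l := 5) rfl N13079 D27466
theorem N17175 : nd 17175 = n27467 := ndS (p := 13080) (l := 0) rfl N13080 D27467
theorem N17176 : nd 17176 = n27468 := ndS (p := 13080) (l := 2) rfl N13080 D27468
theorem N17177 : nd 17177 = n27469 := ndS (p := 13082) (l := 3) rfl N13082 D27469
theorem N17178 : nd 17178 = n27470 := ndS (p := 13084) (l := 3) rfl N13084 D27470
theorem N17179 : nd 17179 = n27471 := ndS (p := 13086) (l := 2) rfl N13086 D27471
theorem N17180 : nd 17180 = n27472 := ndS (p := 13086) (l := 5) rfl N13086 D27472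
theorem N17181 : nd 17181 = n27473 := ndS (p := 13091) (l := 1) rfl N13091 D27473
theorem N17182 : nd 17182 = n27474 := ndS (p := 13093) (l := 1) rfl N13093 D27474
theorem N17183 : nd 17183 = n27475 := ndS (p := 13093) (l := 3) rfl N13093 D27475
theorem N17184 : nd 17184 = n27476 := ndS (p := 13094) (l := 2) rfl N13094 D27476
theorem N17185 : nd 17185 = n27477 := ndS (p := 13094) (l := 5) rfl N13094 D27477
theorem N17186 : nd 17186 = n27478 := ndS (p := 13100) (l := 1) rfl N13100 D27478
theorem N17187 : nd 17187 = n27479 := ndS (p := 13103) (l := 1) rfl N13103 D27479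
theorem N17188 : nd 17188 = n27480 := ndS (p := 13105) (l := 1) rfl N13105 D27480
theorem N17189 : nd 17189 = n27481 := ndS (p := 13107) (l := 1) rfl N13107 D27481
theorem N17190 : nd 17190 = n27482 := ndS (p := 13108) (l := 1) rfl N13108 D27482
theorem N17191 : nd 17191 = n27483 := ndS (p := 13109) (l := 0) rfl N13109 D27483
theorem N17192 : nd 17192 = n27484 := ndS (p := 13109) (l := 5) rfl N13109 D27484
theorem N17193 : nd 17193 = n27485 := ndS (p := 13111) (l := 2) rfl N13111 D27485
theorem N17194 : nd 17194 = n27486 := ndS (p := 13112) (l := 3) rfl N13112 D27486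
theorem N17195 : nd 17195 = n27487 := ndS (p := 13112) (l := 5) rfl N13112 D27487
theorem N17196 : nd 17196 = n27488 := ndS (p := 13113) (l := 1) rfl N13113 D27488
theorem N17197 : nd 17197 = n27489 := ndS (p := 13113) (l := 6) rfl N13113 D27489
theorem N17198 : nd 17198 = n27490 := ndS (p := 13114) (l := 2) rfl N13114 D27490
theorem N17199 : nd 17199 = n27491 := ndS (p := 13115) (l := 2) rfl N13115 D27491
theorem N17200 : nd 17200 = n27492 := ndS (p := 13116) (l := 5) rfl N13116 D27492
theorem N17201 : nd 17201 = n27493 := ndS (p := 13117) (l := 1) rfl N13117 D27493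
theorem N17202 : nd 17202 = n27494 := ndS (p := 13118) (l := 5) rfl N13118 D27494
theorem N17203 : nd 17203 = n27495 := ndS (p := 13119) (l := 1) rfl N13119 D27495
theorem N17204 : nd 17204 = n27496 := ndS (p := 13119) (l := 6) rfl N13119 D27496
theorem N17205 : nd 17205 = n27497 := ndS (p := 13120) (l := 0) rfl N13120 D27497
theorem N17206 : nd 17206 = n27498 := ndS (p := 13120) (l := 2) rfl N13120 D27498
theorem N17207 : nd 17207 = n27499 := ndS (p := 13120) (l := 6) rfl N13120 D27499
theorem N17208 : nd 17208 = n27500 := ndS (p := 13121) (l := 1) rfl N13121 D27500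
theorem N17209 : nd 17209 = n27501 := ndS (p := 13122) (l := 2) rfl N13122 D27501
theorem N17210 : nd 17210 = n27502 := ndS (p := 13122) (l := 6) rfl N13122 D27502
theorem N17211 : nd 17211 = n27503 := ndS (p := 13123) (l := 3) rfl N13123 D27503
theorem N17212 : nd 17212 = n27504 := ndS (p := 13123) (l := 6) rfl N13123 D27504
theorem N17213 : nd 17213 = n27505 := ndS (p := 13124) (l := 5) rfl N13124 D27505
theorem N17214 : nd 17214 = n27506 := ndS (p := 13125) (l := 4) rfl N13125 D27506
theorem N17215 : nd 17215 = n27507 := ndS (p := 13125) (l := 5) rfl N13125 D27507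
theorem N17216 : nd 17216 = n27508 := ndS (p := 13126) (l := 1) rfl N13126 D27508
theorem N17217 : nd 17217 = n27509 := ndS (p := 13127) (l := 0) rfl N13127 D27509
theorem N17218 : nd 17218 = n27510 := ndS (p := 13127) (l := 2) rfl N13127 D27510
theorem N17219 : nd 17219 = n27511 := ndS (p := 13127) (l := 6) rfl N13127 D27511
theorem N17220 : nd 17220 = n27512 := ndS (p := 13128) (l := 4) rfl N13128 D27512
theorem N17221 : nd 17221 = n27513 := ndS (p := 13128) (l := 5) rfl N13128 D27513
theorem N17222 : nd 17222 = n27514 := ndS (p := 13129) (l := 5) rfl N13129 D27514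
theorem N17223 : nd 17223 = n27515 := ndS (p := 13130) (l := 1) rfl N13130 D27515
theorem N17224 : nd 17224 = n27516 := ndS (p := 13130) (l := 6) rfl N13130 D27516
theorem N17225 : nd 17225 = n27517 := ndS (p := 13131) (l := 0) rfl N13131 D27517
theorem N17226 : nd 17226 = n27518 := ndS (p := 13131) (l := 6) rfl N13131 D27518
theorem N17227 : nd 17227 = n27519 := ndS (p := 13132) (l := 1) rfl N13132 D27519
theorem N17228 : nd 17228 = n27520 := ndS (p := 13135) (l := 5) rfl N13135 D27520
theorem N17229 : nd 17229 = n27521 := ndS (p := 13136) (l := 1) rfl N13136 D27521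
theorem N17230 : nd 17230 = n27522 := ndS (p := 13137) (l := 1) rfl N13137 D27522
theorem N17231 : nd 17231 = n27523 := ndS (p := 13138) (l := 6) rfl N13138 D27523
theorem N17232 : nd 17232 = n27524 := ndS (p := 13139) (l := 4) rfl N13139 D27524
theorem N17233 : nd 17233 = n27525 := ndS (p := 13139) (l := 6) rfl N13139 D27525
theorem N17234 : nd 17234 = n27526 := ndS (p := 13140) (l := 5) rfl N13140 D27526
theorem N17235 : nd 17235 = n27527 := ndS (p := 13142) (l := 4) rfl N13142 D27527
theorem N17236 : nd 17236 = n27528 := ndS (p := 13142) (l := 5) rfl N13142 D27528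
theorem N17237 : nd 17237 = n27529 := ndS (p := 13142) (l := 6) rfl N13142 D27529
theorem N17238 : nd 17238 = n27530 := ndS (p := 13144) (l := 3) rfl N13144 D27530
theorem N17239 : nd 17239 = n27531 := ndS (p := 13144) (l := 5) rfl N13144 D27531
theorem N17240 : nd 17240 = n27532 := ndS (p := 13144) (l := 6) rfl N13144 D27532
theorem N17241 : nd 17241 = n27533 := ndS (p := 13145) (l := 2) rfl N13145 D27533
theorem N17242 : nd 17242 = n27534 := ndS (p := 13145) (l := 4) rfl N13145 D27534
theorem N17243 : nd 17243 = n27535 := ndS (p := 13145) (l := 5) rfl N13145 D27535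
theorem N17244 : nd 17244 = n27536 := ndS (p := 13145) (l := 6) rfl N13145 D27536
theorem N17245 : nd 17245 = n27537 := ndS (p := 13146) (l := 1) rfl N13146 D27537
theorem N17246 : nd 17246 = n27538 := ndS (p := 13147) (l := 1) rfl N13147 D27538
theorem N17247 : nd 17247 = n27539 := ndS (p := 13148) (l := 3) rfl N13148 D27539
theorem N17248 : nd 17248 = n27540 := ndS (p := 13148) (l := 4) rfl N13148 D27540
theorem N17249 : nd 17249 = n27541 := ndS (p := 13148) (l := 5) rfl N13148 D27541
theorem N17250 : nd 17250 = n27542 := ndS (p := 13148) (l := 6) rfl N13148 D27542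
theorem N17251 : nd 17251 = n27543 := ndS (p := 13150) (l := 6) rfl N13150 D27543
theorem N17252 : nd 17252 = n27544 := ndS (p := 13151) (l := 5) rfl N13151 D27544
theorem N17253 : nd 17253 = n27545 := ndS (p := 13152) (l := 1) rfl N13152 D27545
theorem N17254 : nd 17254 = n27546 := ndS (p := 13154) (l := 1) rfl N13154 D27546
theorem N17255 : nd 17255 = n27547 := ndS (p := 13154) (l := 4) rfl N13154 D27547
theorem N17256 : nd 17256 = n27548 := ndS (p := 13154) (l := 5) rfl N13154 D27548
theorem N17257 : nd 17257 = n27549 := ndS (p := 13154) (l := 6) rfl N13154 D27549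
theorem N17258 : nd 17258 = n27550 := ndS (p := 13155) (l := 5) rfl N13155 D27550
theorem N17259 : nd 17259 = n27551 := ndS (p := 13155) (l := 6) rfl N13155 D27551
theorem N17260 : nd 17260 = n27552 := ndS (p := 13156) (l := 6) rfl N13156 D27552
theorem N17261 : nd 17261 = n27553 := ndS (p := 13157) (l := 5) rfl N13157 D27553
theorem N17262 : nd 17262 = n27554 := ndS (p := 13158) (l := 1) rfl N13158 D27554
theorem N17263 : nd 17263 = n27555 := ndS (p := 13161) (l := 1) rfl N13161 D27555
theorem N17264 : nd 17264 = n27556 := ndS (p := 13164) (l := 1) rfl N13164 D27556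
theorem N17265 : nd 17265 = n27557 := ndS (p := 13166) (l := 1) rfl N13166 D27557
theorem N17266 : nd 17266 = n27558 := ndS (p := 13167) (l := 1) rfl N13167 D27558
theorem N17267 : nd 17267 = n27559 := ndS (p := 13169) (l := 0) rfl N13169 D27559
theorem N17268 : nd 17268 = n27560 := ndS (p := 13169) (l := 6) rfl N13169 D27560
theorem N17269 : nd 17269 = n27561 := ndS (p := 13170) (l := 2) rfl N13170 D27561
theorem N17270 : nd 17270 = n27562 := ndS (p := 13171) (l := 3) rfl N13171 D27562
theorem N17271 : nd 17271 = n27563 := ndS (p := 13171) (l := 6) rfl N13171 D27563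
theorem N17272 : nd 17272 = n27564 := ndS (p := 13172) (l := 1) rfl N13172 D27564
theorem N17273 : nd 17273 = n27565 := ndS (p := 13172) (l := 5) rfl N13172 D27565
theorem N17274 : nd 17274 = n27566 := ndS (p := 13173) (l := 2) rfl N13173 D27566
theorem N17275 : nd 17275 = n27567 := ndS (p := 13174) (l := 2) rfl N13174 D27567
theorem N17276 : nd 17276 = n27568 := ndS (p := 13175) (l := 6) rfl N13175 D27568
theorem N17277 : nd 17277 = n27569 := ndS (p := 13176) (l := 1) rfl N13176 D27569
theorem N17278 : nd 17278 = n27570 := ndS (p := 13177) (l := 6) rfl N13177 D27570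
theorem N17279 : nd 17279 = n27571 := ndS (p := 13178) (l := 1) rfl N13178 D27571
theorem N17280 : nd 17280 = n27572 := ndS (p := 13178) (l := 5) rfl N13178 D27572
theorem N17281 : nd 17281 = n27573 := ndS (p := 13179) (l := 0) rfl N13179 D27573
theorem N17282 : nd 17282 = n27574 := ndS (p := 13179) (l := 2) rfl N13179 D27574
theorem N17283 : nd 17283 = n27575 := ndS (p := 13179) (l := 5) rfl N13179 D27575
theorem N17284 : nd 17284 = n27576 := ndS (p := 13180) (l := 1) rfl N13180 D27576
theorem N17285 : nd 17285 = n27577 := ndS (p := 13181) (l := 2) rfl N13181 D27577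
theorem N17286 : nd 17286 = n27578 := ndS (p := 13181) (l := 5) rfl N13181 D27578
theorem N17287 : nd 17287 = n27579 := ndS (p := 13182) (l := 3) rfl N13182 D27579
theorem N17288 : nd 17288 = n27580 := ndS (p := 13182) (l := 5) rfl N13182 D27580
theorem N17289 : nd 17289 = n27581 := ndS (p := 13183) (l := 6) rfl N13183 D27581
theorem N17290 : nd 17290 = n27582 := ndS (p := 13184) (l := 4) rfl N13184 D27582
theorem N17291 : nd 17291 = n27583 := ndS (p := 13184) (l := 6) rfl N13184 D27583
theorem N17292 : nd 17292 = n27584 := ndS (p := 13185) (l := 1) rfl N13185 D27584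
theorem N17293 : nd 17293 = n27585 := ndS (p := 13186) (l := 0) rfl N13186 D27585
theorem N17294 : nd 17294 = n27586 := ndS (p := 13186) (l := 2) rfl N13186 D27586
theorem N17295 : nd 17295 = n27587 := ndS (p := 13186) (l := 5) rfl N13186 D27587
theorem N17296 : nd 17296 = n27588 := ndS (p := 13187) (l := 4) rfl N13187 D27588
theorem N17297 : nd 17297 = n27589 := ndS (p := 13187) (l := 6) rfl N13187 D27589
theorem N17298 : nd 17298 = n27590 := ndS (p := 13188) (l := 6) rfl N13188 D27590
theorem N17299 : nd 17299 = n27591 := ndS (p := 13189) (l := 1) rfl N13189 D27591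
theorem N17300 : nd 17300 = n27592 := ndS (p := 13189) (l := 5) rfl N13189 D27592
theorem N17301 : nd 17301 = n27593 := ndS (p := 13190) (l := 0) rfl N13190 D27593
theorem N17302 : nd 17302 = n27594 := ndS (p := 13190) (l := 5) rfl N13190 D27594
theorem N17303 : nd 17303 = n27595 := ndS (p := 13191) (l := 1) rfl N13191 D27595
theorem N17304 : nd 17304 = n27596 := ndS (p := 13194) (l := 6) rfl N13194 D27596
theorem N17305 : nd 17305 = n27597 := ndS (p := 13195) (l := 1) rfl N13195 D27597
theorem N17306 : nd 17306 = n27598 := ndS (p := 13196) (l := 1) rfl N13196 D27598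
theorem N17307 : nd 17307 = n27599 := ndS (p := 13197) (l := 5) rfl N13197 D27599
theorem N17308 : nd 17308 = n27600 := ndS (p := 13198) (l := 4) rfl N13198 D27600
theorem N17309 : nd 17309 = n27601 := ndS (p := 13198) (l := 5) rfl N13198 D27601
theorem N17310 : nd 17310 = n27602 := ndS (p := 13199) (l := 6) rfl N13199 D27602
theorem N17311 : nd 17311 = n27603 := ndS (p := 13201) (l := 4) rfl N13201 D27603
theorem N17312 : nd 17312 = n27604 := ndS (p := 13201) (l := 5) rfl N13201 D27604
theorem N17313 : nd 17313 = n27605 := ndS (p := 13201) (l := 6) rfl N13201 D27605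
theorem N17314 : nd 17314 = n27606 := ndS (p := 13203) (l := 3) rfl N13203 D27606
theorem N17315 : nd 17315 = n27607 := ndS (p := 13203) (l := 5) rfl N13203 D27607
theorem N17316 : nd 17316 = n27608 := ndS (p := 13203) (l := 6) rfl N13203 D27608
theorem N17317 : nd 17317 = n27609 := ndS (p := 13204) (l := 2) rfl N13204 D27609
theorem N17318 : nd 17318 = n27610 := ndS (p := 13204) (l := 4) rfl N13204 D27610
theorem N17319 : nd 17319 = n27611 := ndS (p := 13204) (l := 5) rfl N13204 D27611
theorem N17320 : nd 17320 = n27612 := ndS (p := 13204) (l := 6) rfl N13204 D27612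
theorem N17321 : nd 17321 = n27613 := ndS (p := 13205) (l := 1) rfl N13205 D27613
theorem N17322 : nd 17322 = n27614 := ndS (p := 13206) (l := 1) rfl N13206 D27614
theorem N17323 : nd 17323 = n27615 := ndS (p := 13207) (l := 3) rfl N13207 D27615
theorem N17324 : nd 17324 = n27616 := ndS (p := 13207) (l := 4) rfl N13207 D27616
theorem N17325 : nd 17325 = n27617 := ndS (p := 13207) (l := 5) rfl N13207 D27617
theorem N17326 : nd 17326 = n27618 := ndS (p := 13207) (l := 6) rfl N13207 D27618
theorem N17327 : nd 17327 = n27619 := ndS (p := 13209) (l := 6) rfl N13209 D27619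
theorem N17328 : nd 17328 = n27620 := ndS (p := 13210) (l := 5) rfl N13210 D27620
theorem N17329 : nd 17329 = n27621 := ndS (p := 13212) (l := 1) rfl N13212 D27621
theorem N17330 : nd 17330 = n27622 := ndS (p := 13213) (l := 1) rfl N13213 D27622
theorem N17331 : nd 17331 = n27623 := ndS (p := 13213) (l := 4) rfl N13213 D27623
theorem N17332 : nd 17332 = n27624 := ndS (p := 13213) (l := 5) rfl N13213 D27624
theorem N17333 : nd 17333 = n27625 := ndS (p := 13213) (l := 6) rfl N13213 D27625
theorem N17334 : nd 17334 = n27626 := ndS (p := 13214) (l := 5) rfl N13214 D27626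
theorem N17335 : nd 17335 = n27627 := ndS (p := 13214) (l := 6) rfl N13214 D27627
theorem N17336 : nd 17336 = n27628 := ndS (p := 13215) (l := 6) rfl N13215 D27628
theorem N17337 : nd 17337 = n27629 := ndS (p := 13216) (l := 5) rfl N13216 D27629
theorem N17338 : nd 17338 = n27630 := ndS (p := 13217) (l := 1) rfl N13217 D27630
theorem N17339 : nd 17339 = n27631 := ndS (p := 13218) (l := 2) rfl N13218 D27631
theorem N17340 : nd 17340 = n27632 := ndS (p := 13219) (l := 1) rfl N13219 D27632
theorem N17341 : nd 17341 = n27633 := ndS (p := 13220) (l := 2) rfl N13220 D27633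
theorem N17342 : nd 17342 = n27634 := ndS (p := 13222) (l := 5) rfl N13222 D27634
theorem N17343 : nd 17343 = n27635 := ndS (p := 13222) (l := 6) rfl N13222 D27635
theorem N17344 : nd 17344 = n27636 := ndS (p := 13223) (l := 1) rfl N13223 D27636
theorem N17345 : nd 17345 = n27637 := ndS (p := 13223) (l := 5) rfl N13223 D27637
theorem N17346 : nd 17346 = n27638 := ndS (p := 13223) (l := 6) rfl N13223 D27638
theorem N17347 : nd 17347 = n27639 := ndS (p := 13224) (l := 4) rfl N13224 D27639
theorem N17348 : nd 17348 = n27640 := ndS (p := 13224) (l := 5) rfl N13224 D27640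
theorem N17349 : nd 17349 = n27641 := ndS (p := 13224) (l := 6) rfl N13224 D27641
theorem N17350 : nd 17350 = n27642 := ndS (p := 13225) (l := 6) rfl N13225 D27642
theorem N17351 : nd 17351 = n27644 := ndS (p := 13228) (l := 1) rfl N13228 D27644
theorem N17352 : nd 17352 = n27645 := ndS (p := 13228) (l := 5) rfl N13228 D27645
theorem N17353 : nd 17353 = n27646 := ndS (p := 13228) (l := 6) rfl N13228 D27646
theorem N17354 : nd 17354 = n27647 := ndS (p := 13229) (l := 6) rfl N13229 D27647
theorem N17355 : nd 17355 = n27648 := ndS (p := 13230) (l := 5) rfl N13230 D27648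
theorem N17356 : nd 17356 = n27654 := ndS (p := 13231) (l := 2) rfl N13231 D27654
theorem N17357 : nd 17357 = n27655 := ndS (p := 13231) (l := 4) rfl N13231 D27655
theorem N17358 : nd 17358 = n27656 := ndS (p := 13231) (l := 5) rfl N13231 D27656
theorem N17359 : nd 17359 = n27658 := ndS (p := 13232) (l := 1) rfl N13232 D27658
theorem N17360 : nd 17360 = n27660 := ndS (p := 13233) (l := 3) rfl N13233 D27660
theorem N17361 : nd 17361 = n27661 := ndS (p := 13233) (l := 4) rfl N13233 D27661
theorem N17362 : nd 17362 = n27662 := ndS (p := 13233) (l := 5) rfl N13233 D27662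
theorem N17363 : nd 17363 = n27663 := ndS (p := 13233) (l := 6) rfl N13233 D27663
theorem N17364 : nd 17364 = n27664 := ndS (p := 13234) (l := 5) rfl N13234 D27664
theorem N17365 : nd 17365 = n27665 := ndS (p := 13234) (l := 6) rfl N13234 D27665
theorem N17366 : nd 17366 = n27670 := ndS (p := 13237) (l := 1) rfl N13237 D27670
theorem N17367 : nd 17367 = n27671 := ndS (p := 13238) (l := 2) rfl N13238 D27671
theorem N17368 : nd 17368 = n27672 := ndS (p := 13239) (l := 1) rfl N13239 D27672
theorem N17369 : nd 17369 = n27673 := ndS (p := 13240) (l := 2) rfl N13240 D27673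
theorem N17370 : nd 17370 = n27674 := ndS (p := 13242) (l := 5) rfl N13242 D27674
theorem N17371 : nd 17371 = n27675 := ndS (p := 13242) (l := 6) rfl N13242 D27675
theorem N17372 : nd 17372 = n27676 := ndS (p := 13243) (l := 1) rfl N13243 D27676
theorem N17373 : nd 17373 = n27677 := ndS (p := 13243) (l := 5) rfl N13243 D27677
theorem N17374 : nd 17374 = n27678 := ndS (p := 13243) (l := 6) rfl N13243 D27678
theorem N17375 : nd 17375 = n27679 := ndS (p := 13244) (l := 4) rfl N13244 D27679
theorem N17376 : nd 17376 = n27680 := ndS (p := 13244) (l := 5) rfl N13244 D27680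
theorem N17377 : nd 17377 = n27681 := ndS (p := 13244) (l := 6) rfl N13244 D27681
theorem N17378 : nd 17378 = n27683 := ndS (p := 13246) (l := 5) rfl N13246 D27683
theorem N17379 : nd 17379 = n27684 := ndS (p := 13248) (l := 1) rfl N13248 D27684
theorem N17380 : nd 17380 = n27685 := ndS (p := 13248) (l := 5) rfl N13248 D27685
theorem N17381 : nd 17381 = n27686 := ndS (p := 13248) (l := 6) rfl N13248 D27686
theorem N17382 : nd 17382 = n27687 := ndS (p := 13249) (l := 6) rfl N13249 D27687
theorem N17383 : nd 17383 = n27688 := ndS (p := 13250) (l := 5) rfl N13250 D27688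
theorem N17384 : nd 17384 = n27694 := ndS (p := 13251) (l := 2) rfl N13251 D27694
theorem N17385 : nd 17385 = n27695 := ndS (p := 13251) (l := 4) rfl N13251 D27695
theorem N17386 : nd 17386 = n27700 := ndS (p := 13252) (l := 3) rfl N13252 D27700
theorem N17387 : nd 17387 = n27701 := ndS (p := 13252) (l := 4) rfl N13252 D27701
theorem N17388 : nd 17388 = n27702 := ndS (p := 13252) (l := 5) rfl N13252 D27702
theorem N17389 : nd 17389 = n27704 := ndS (p := 13253) (l := 5) rfl N13253 D27704
theorem N17390 : nd 17390 = n27710 := ndS (p := 13257) (l := 2) rfl N13257 D27710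
theorem N17391 : nd 17391 = n27711 := ndS (p := 13259) (l := 1) rfl N13259 D27711
theorem N17392 : nd 17392 = n27712 := ndS (p := 13264) (l := 1) rfl N13264 D27712
theorem N17393 : nd 17393 = n27713 := ndS (p := 13265) (l := 6) rfl N13265 D27713
theorem N17394 : nd 17394 = n27714 := ndS (p := 13270) (l := 2) rfl N13270 D27714
theorem N17395 : nd 17395 = n27715 := ndS (p := 13272) (l := 1) rfl N13272 D27715
theorem N17396 : nd 17396 = n27716 := ndS (p := 13277) (l := 1) rfl N13277 D27716
theorem N17397 : nd 17397 = n27717 := ndS (p := 13278) (l := 5) rfl N13278 D27717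
theorem N17398 : nd 17398 = n27718 := ndS (p := 13290) (l := 1) rfl N13290 D27718
theorem N17399 : nd 17399 = n27719 := ndS (p := 13290) (l := 5) rfl N13290 D27719
theorem N17400 : nd 17400 = n27720 := ndS (p := 13293) (l := 0) rfl N13293 D27720
theorem N17401 : nd 17401 = n27721 := ndS (p := 13298) (l := 0) rfl N13298 D27721
theorem N17402 : nd 17402 = n27722 := ndS (p := 13298) (l := 2) rfl N13298 D27722
theorem N17403 : nd 17403 = n27723 := ndS (p := 13298) (l := 5) rfl N13298 D27723
theorem N17404 : nd 17404 = n27724 := ndS (p := 13311) (l := 0) rfl N13311 D27724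
theorem N17405 : nd 17405 = n27725 := ndS (p := 13319) (l := 2) rfl N13319 D27725
theorem N17406 : nd 17406 = n27726 := ndS (p := 13320) (l := 6) rfl N13320 D27726
theorem N17407 : nd 17407 = n27727 := ndS (p := 13322) (l := 2) rfl N13322 D27727
theorem N17408 : nd 17408 = n27728 := ndS (p := 13323) (l := 6) rfl N13323 D27728
theorem N17409 : nd 17409 = n27729 := ndS (p := 13325) (l := 5) rfl N13325 D27729
theorem N17410 : nd 17410 = n27730 := ndS (p := 13329) (l := 5) rfl N13329 D27730
theorem N17411 : nd 17411 = n27731 := ndS (p := 13330) (l := 1) rfl N13330 D27731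
theorem N17412 : nd 17412 = n27732 := ndS (p := 13337) (l := 0) rfl N13337 D27732
theorem N17413 : nd 17413 = n27733 := ndS (p := 13337) (l := 6) rfl N13337 D27733
theorem N17414 : nd 17414 = n27734 := ndS (p := 13339) (l := 0) rfl N13339 D27734
theorem N17415 : nd 17415 = n27735 := ndS (p := 13340) (l := 5) rfl N13340 D27735
theorem N17416 : nd 17416 = n27736 := ndS (p := 13350) (l := 1) rfl N13350 D27736
theorem N17417 : nd 17417 = n27737 := ndS (p := 13350) (l := 6) rfl N13350 D27737
theorem N17418 : nd 17418 = n27738 := ndS (p := 13357) (l := 0) rfl N13357 D27738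
theorem N17419 : nd 17419 = n27739 := ndS (p := 13358) (l := 0) rfl N13358 D27739
theorem N17420 : nd 17420 = n27740 := ndS (p := 13358) (l := 2) rfl N13358 D27740
theorem N17421 : nd 17421 = n27741 := ndS (p := 13358) (l := 6) rfl N13358 D27741
theorem N17422 : nd 17422 = n27742 := ndS (p := 13370) (l := 0) rfl N13370 D27742
theorem N17423 : nd 17423 = n27743 := ndS (p := 13374) (l := 2) rfl N13374 D27743
theorem N17424 : nd 17424 = n27744 := ndS (p := 13375) (l := 5) rfl N13375 D27744
theorem N17425 : nd 17425 = n27745 := ndS (p := 13377) (l := 2) rfl N13377 D27745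
theorem N17426 : nd 17426 = n27746 := ndS (p := 13382) (l := 6) rfl N13382 D27746
theorem N17427 : nd 17427 = n27747 := ndS (p := 13384) (l := 1) rfl N13384 D27747
theorem N17428 : nd 17428 = n27748 := ndS (p := 13385) (l := 0) rfl N13385 D27748
theorem N17429 : nd 17429 = n27749 := ndS (p := 13386) (l := 6) rfl N13386 D27749
theorem N17430 : nd 17430 = n27750 := ndS (p := 13390) (l := 1) rfl N13390 D27750
theorem N17431 : nd 17431 = n27751 := ndS (p := 13391) (l := 2) rfl N13391 D27751
theorem N17432 : nd 17432 = n27752 := ndS (p := 13391) (l := 5) rfl N13391 D27752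
theorem N17433 : nd 17433 = n27753 := ndS (p := 13392) (l := 0) rfl N13392 D27753
theorem N17434 : nd 17434 = n27754 := ndS (p := 13392) (l := 2) rfl N13392 D27754
theorem N17435 : nd 17435 = n27755 := ndS (p := 13392) (l := 6) rfl N13392 D27755
theorem N17436 : nd 17436 = n27756 := ndS (p := 13401) (l := 2) rfl N13401 D27756
theorem N17437 : nd 17437 = n27757 := ndS (p := 13402) (l := 6) rfl N13402 D27757
theorem N17438 : nd 17438 = n27758 := ndS (p := 13404) (l := 3) rfl N13404 D27758
theorem N17439 : nd 17439 = n27759 := ndS (p := 13406) (l := 4) rfl N13406 D27759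
theorem N17440 : nd 17440 = n27760 := ndS (p := 13408) (l := 0) rfl N13408 D27760
theorem N17441 : nd 17441 = n27761 := ndS (p := 13412) (l := 4) rfl N13412 D27761
theorem N17442 : nd 17442 = n27762 := ndS (p := 13416) (l := 5) rfl N13416 D27762
theorem N17443 : nd 17443 = n27763 := ndS (p := 13420) (l := 4) rfl N13420 D27763
theorem N17444 : nd 17444 = n27764 := ndS (p := 13425) (l := 6) rfl N13425 D27764
theorem N17445 : nd 17445 = n27765 := ndS (p := 13427) (l := 5) rfl N13427 D27765
theorem N17446 : nd 17446 = n27766 := ndS (p := 13432) (l := 2) rfl N13432 D27766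
theorem N17447 : nd 17447 = n27767 := ndS (p := 13432) (l := 5) rfl N13432 D27767
theorem N17448 : nd 17448 = n27768 := ndS (p := 13433) (l := 0) rfl N13433 D27768
theorem N17449 : nd 17449 = n27769 := ndS (p := 13433) (l := 2) rfl N13433 D27769
theorem N17450 : nd 17450 = n27770 := ndS (p := 13433) (l := 5) rfl N13433 D27770
theorem N17451 : nd 17451 = n27771 := ndS (p := 13435) (l := 0) rfl N13435 D27771
theorem N17452 : nd 17452 = n27772 := ndS (p := 13435) (l := 6) rfl N13435 D27772
theorem N17453 : nd 17453 = n27773 := ndS (p := 13436) (l := 6) rfl N13436 D27773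
theorem N17454 : nd 17454 = n27774 := ndS (p := 13437) (l := 1) rfl N13437 D27774
theorem N17455 : nd 17455 = n27775 := ndS (p := 13441) (l := 1) rfl N13441 D27775
theorem N17456 : nd 17456 = n27776 := ndS (p := 13443) (l := 0) rfl N13443 D27776
theorem N17457 : nd 17457 = n27777 := ndS (p := 13443) (l := 2) rfl N13443 D27777
theorem N17458 : nd 17458 = n27778 := ndS (p := 13443) (l := 5) rfl N13443 D27778
theorem N17459 : nd 17459 = n27779 := ndS (p := 13444) (l := 2) rfl N13444 D27779
theorem N17460 : nd 17460 = n27780 := ndS (p := 13444) (l := 6) rfl N13444 D27780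
theorem N17461 : nd 17461 = n27781 := ndS (p := 13453) (l := 2) rfl N13453 D27781
theorem N17462 : nd 17462 = n27782 := ndS (p := 13454) (l := 5) rfl N13454 D27782
theorem N17463 : nd 17463 = n27783 := ndS (p := 13456) (l := 3) rfl N13456 D27783
theorem N17464 : nd 17464 = n27784 := ndS (p := 13458) (l := 4) rfl N13458 D27784
theorem N17465 : nd 17465 = n27785 := ndS (p := 13460) (l := 0) rfl N13460 D27785
theorem N17466 : nd 17466 = n27786 := ndS (p := 13464) (l := 4) rfl N13464 D27786
theorem N17467 : nd 17467 = n27787 := ndS (p := 13468) (l := 6) rfl N13468 D27787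
theorem N17468 : nd 17468 = n27788 := ndS (p := 13472) (l := 4) rfl N13472 D27788
theorem N17469 : nd 17469 = n27789 := ndS (p := 13477) (l := 5) rfl N13477 D27789
theorem N17470 : nd 17470 = n27790 := ndS (p := 13479) (l := 6) rfl N13479 D27790
theorem N17471 : nd 17471 = n27791 := ndS (p := 13483) (l := 2) rfl N13483 D27791
theorem N17472 : nd 17472 = n27792 := ndS (p := 13483) (l := 6) rfl N13483 D27792
theorem N17473 : nd 17473 = n27793 := ndS (p := 13486) (l := 0) rfl N13486 D27793
theorem N17474 : nd 17474 = n27794 := ndS (p := 13486) (l := 2) rfl N13486 D27794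
theorem N17475 : nd 17475 = n27795 := ndS (p := 13486) (l := 6) rfl N13486 D27795
theorem N17476 : nd 17476 = n27796 := ndS (p := 13487) (l := 0) rfl N13487 D27796
theorem N17477 : nd 17477 = n27797 := ndS (p := 13487) (l := 5) rfl N13487 D27797
theorem N17478 : nd 17478 = n27798 := ndS (p := 13488) (l := 5) rfl N13488 D27798
theorem N17479 : nd 17479 = n27799 := ndS (p := 13489) (l := 1) rfl N13489 D27799
theorem N17480 : nd 17480 = n27800 := ndS (p := 13503) (l := 2) rfl N13503 D27800
theorem N17481 : nd 17481 = n27801 := ndS (p := 13503) (l := 4) rfl N13503 D27801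
theorem N17482 : nd 17482 = n27802 := ndS (p := 13505) (l := 4) rfl N13505 D27802
theorem N17483 : nd 17483 = n27803 := ndS (p := 13506) (l := 6) rfl N13506 D27803
theorem N17484 : nd 17484 = n27804 := ndS (p := 13509) (l := 3) rfl N13509 D27804
theorem N17485 : nd 17485 = n27805 := ndS (p := 13511) (l := 4) rfl N13511 D27805
theorem N17486 : nd 17486 = n27806 := ndS (p := 13515) (l := 1) rfl N13515 D27806
theorem N17487 : nd 17487 = n27807 := ndS (p := 13519) (l := 1) rfl N13519 D27807
theorem N17488 : nd 17488 = n27808 := ndS (p := 13520) (l := 0) rfl N13520 D27808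
theorem N17489 : nd 17489 = n27809 := ndS (p := 13527) (l := 2) rfl N13527 D27809
theorem N17490 : nd 17490 = n27810 := ndS (p := 13527) (l := 4) rfl N13527 D27810
theorem N17491 : nd 17491 = n27811 := ndS (p := 13529) (l := 4) rfl N13529 D27811
theorem N17492 : nd 17492 = n27812 := ndS (p := 13530) (l := 5) rfl N13530 D27812
theorem N17493 : nd 17493 = n27813 := ndS (p := 13533) (l := 3) rfl N13533 D27813
theorem N17494 : nd 17494 = n27814 := ndS (p := 13535) (l := 4) rfl N13535 D27814
theorem N17495 : nd 17495 = n27815 := ndS (p := 13540) (l := 1) rfl N13540 D27815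
theorem N17496 : nd 17496 = n27816 := ndS (p := 13543) (l := 1) rfl N13543 D27816
theorem N17497 : nd 17497 = n27817 := ndS (p := 13544) (l := 0) rfl N13544 D27817
theorem N17498 : nd 17498 = n27818 := ndS (p := 13556) (l := 1) rfl N13556 D27818
theorem N17499 : nd 17499 = n27819 := ndS (p := 13569) (l := 1) rfl N13569 D27819
theorem N17500 : nd 17500 = n27820 := ndS (p := 13569) (l := 3) rfl N13569 D27820
theorem N17501 : nd 17501 = n27821 := ndS (p := 13574) (l := 6) rfl N13574 D27821
theorem N17502 : nd 17502 = n27822 := ndS (p := 13575) (l := 1) rfl N13575 D27822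
theorem N17503 : nd 17503 = n27823 := ndS (p := 13583) (l := 1) rfl N13583 D27823
theorem N17504 : nd 17504 = n27824 := ndS (p := 13591) (l := 1) rfl N13591 D27824
theorem N17505 : nd 17505 = n27825 := ndS (p := 13591) (l := 3) rfl N13591 D27825
theorem N17506 : nd 17506 = n27826 := ndS (p := 13595) (l := 5) rfl N13595 D27826
theorem N17507 : nd 17507 = n27827 := ndS (p := 13596) (l := 1) rfl N13596 D27827
theorem N17508 : nd 17508 = n27828 := ndS (p := 13597) (l := 2) rfl N13597 D27828
theorem N17509 : nd 17509 = n27829 := ndS (p := 13597) (l := 5) rfl N13597 D27829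
theorem N17510 : nd 17510 = n27830 := ndS (p := 13598) (l := 3) rfl N13598 D27830
theorem N17511 : nd 17511 = n27831 := ndS (p := 13598) (l := 5) rfl N13598 D27831
theorem N17512 : nd 17512 = n27832 := ndS (p := 13600) (l := 2) rfl N13600 D27832
theorem N17513 : nd 17513 = n27833 := ndS (p := 13600) (l := 6) rfl N13600 D27833
theorem N17514 : nd 17514 = n27834 := ndS (p := 13601) (l := 3) rfl N13601 D27834
theorem N17515 : nd 17515 = n27835 := ndS (p := 13601) (l := 6) rfl N13601 D27835
theorem N17516 : nd 17516 = n27836 := ndS (p := 13607) (l := 5) rfl N13607 D27836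
theorem N17517 : nd 17517 = n27837 := ndS (p := 13609) (l := 5) rfl N13609 D27837
theorem N17518 : nd 17518 = n27838 := ndS (p := 13611) (l := 6) rfl N13611 D27838
theorem N17519 : nd 17519 = n27839 := ndS (p := 13613) (l := 6) rfl N13613 D27839
theorem N17520 : nd 17520 = n27840 := ndS (p := 13615) (l := 3) rfl N13615 D27840
theorem N17521 : nd 17521 = n27841 := ndS (p := 13616) (l := 3) rfl N13616 D27841
theorem N17522 : nd 17522 = n27842 := ndS (p := 13617) (l := 2) rfl N13617 D27842
theorem N17523 : nd 17523 = n27843 := ndS (p := 13617) (l := 6) rfl N13617 D27843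
theorem N17524 : nd 17524 = n27844 := ndS (p := 13619) (l := 2) rfl N13619 D27844
theorem N17525 : nd 17525 = n27845 := ndS (p := 13619) (l := 5) rfl N13619 D27845
theorem N17526 : nd 17526 = n27846 := ndS (p := 13621) (l := 5) rfl N13621 D27846
theorem N17527 : nd 17527 = n27847 := ndS (p := 13622) (l := 2) rfl N13622 D27847
theorem N17528 : nd 17528 = n27848 := ndS (p := 13623) (l := 3) rfl N13623 D27848
theorem N17529 : nd 17529 = n27849 := ndS (p := 13623) (l := 5) rfl N13623 D27849
theorem N17530 : nd 17530 = n27850 := ndS (p := 13625) (l := 6) rfl N13625 D27850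
theorem N17531 : nd 17531 = n27851 := ndS (p := 13626) (l := 2) rfl N13626 D27851
theorem N17532 : nd 17532 = n27852 := ndS (p := 13627) (l := 3) rfl N13627 D27852
theorem N17533 : nd 17533 = n27853 := ndS (p := 13627) (l := 6) rfl N13627 D27853
theorem N17534 : nd 17534 = n27854 := ndS (p := 13630) (l := 5) rfl N13630 D27854
theorem N17535 : nd 17535 = n27855 := ndS (p := 13633) (l := 5) rfl N13633 D27855
theorem N17536 : nd 17536 = n27856 := ndS (p := 13635) (l := 5) rfl N13635 D27856
theorem N17537 : nd 17537 = n27857 := ndS (p := 13636) (l := 6) rfl N13636 D27857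
theorem N17538 : nd 17538 = n27858 := ndS (p := 13639) (l := 6) rfl N13639 D27858
theorem N17539 : nd 17539 = n27859 := ndS (p := 13642) (l := 6) rfl N13642 D27859
theorem N17540 : nd 17540 = n27860 := ndS (p := 13644) (l := 6) rfl N13644 D27860
theorem N17541 : nd 17541 = n27861 := ndS (p := 13645) (l := 5) rfl N13645 D27861
theorem N17542 : nd 17542 = n27862 := ndS (p := 13647) (l := 1) rfl N13647 D27862
theorem N17543 : nd 17543 = n27863 := ndS (p := 13649) (l := 1) rfl N13649 D27863
theorem N17544 : nd 17544 = n27864 := ndS (p := 13652) (l := 2) rfl N13652 D27864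
theorem N17545 : nd 17545 = n27865 := ndS (p := 13653) (l := 3) rfl N13653 D27865
theorem N17546 : nd 17546 = n27866 := ndS (p := 13653) (l := 5) rfl N13653 D27866
theorem N17547 : nd 17547 = n27867 := ndS (p := 13655) (l := 6) rfl N13655 D27867
theorem N17548 : nd 17548 = n27868 := ndS (p := 13656) (l := 5) rfl N13656 D27868
theorem N17549 : nd 17549 = n27869 := ndS (p := 13657) (l := 2) rfl N13657 D27869
theorem N17550 : nd 17550 = n27870 := ndS (p := 13659) (l := 3) rfl N13659 D27870
theorem N17551 : nd 17551 = n27871 := ndS (p := 13659) (l := 6) rfl N13659 D27871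
theorem N17552 : nd 17552 = n27872 := ndS (p := 13661) (l := 5) rfl N13661 D27872
theorem N17553 : nd 17553 = n27873 := ndS (p := 13662) (l := 6) rfl N13662 D27873
theorem N17554 : nd 17554 = n27874 := ndS (p := 13667) (l := 2) rfl N13667 D27874
theorem N17555 : nd 17555 = n27875 := ndS (p := 13668) (l := 2) rfl N13668 D27875
theorem N17556 : nd 17556 = n27876 := ndS (p := 13669) (l := 3) rfl N13669 D27876
theorem N17557 : nd 17557 = n27877 := ndS (p := 13670) (l := 3) rfl N13670 D27877
theorem N17558 : nd 17558 = n27878 := ndS (p := 13695) (l := 1) rfl N13695 D27878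
theorem N17559 : nd 17559 = n27879 := ndS (p := 13698) (l := 1) rfl N13698 D27879
theorem N17560 : nd 17560 = n27880 := ndS (p := 13719) (l := 1) rfl N13719 D27880
theorem N17561 : nd 17561 = n27881 := ndS (p := 13720) (l := 1) rfl N13720 D27881
theorem N17562 : nd 17562 = n27882 := ndS (p := 13721) (l := 2) rfl N13721 D27882
theorem N17563 : nd 17563 = n27883 := ndS (p := 13721) (l := 6) rfl N13721 D27883
theorem N17564 : nd 17564 = n27884 := ndS (p := 13723) (l := 1) rfl N13723 D27884
theorem N17565 : nd 17565 = n27885 := ndS (p := 13723) (l := 4) rfl N13723 D27885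
theorem N17566 : nd 17566 = n27886 := ndS (p := 13725) (l := 4) rfl N13725 D27886
theorem N17567 : nd 17567 = n27887 := ndS (p := 13725) (l := 6) rfl N13725 D27887
theorem N17568 : nd 17568 = n27888 := ndS (p := 13726) (l := 3) rfl N13726 D27888
theorem N17569 : nd 17569 = n27889 := ndS (p := 13726) (l := 6) rfl N13726 D27889
theorem N17570 : nd 17570 = n27890 := ndS (p := 13727) (l := 1) rfl N13727 D27890
theorem N17571 : nd 17571 = n27891 := ndS (p := 13728) (l := 1) rfl N13728 D27891
theorem N17572 : nd 17572 = n27892 := ndS (p := 13729) (l := 0) rfl N13729 D27892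
theorem N17573 : nd 17573 = n27893 := ndS (p := 13729) (l := 2) rfl N13729 D27893
theorem N17574 : nd 17574 = n27894 := ndS (p := 13729) (l := 5) rfl N13729 D27894
theorem N17575 : nd 17575 = n27895 := ndS (p := 13730) (l := 2) rfl N13730 D27895
theorem N17576 : nd 17576 = n27896 := ndS (p := 13734) (l := 3) rfl N13734 D27896
theorem N17577 : nd 17577 = n27897 := ndS (p := 13735) (l := 5) rfl N13735 D27897
theorem N17578 : nd 17578 = n27898 := ndS (p := 13736) (l := 1) rfl N13736 D27898
theorem N17579 : nd 17579 = n27899 := ndS (p := 13737) (l := 2) rfl N13737 D27899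
theorem N17580 : nd 17580 = n27900 := ndS (p := 13738) (l := 1) rfl N13738 D27900
theorem N17581 : nd 17581 = n27901 := ndS (p := 13738) (l := 3) rfl N13738 D27901
theorem N17582 : nd 17582 = n27902 := ndS (p := 13738) (l := 6) rfl N13738 D27902
theorem N17583 : nd 17583 = n27903 := ndS (p := 13740) (l := 0) rfl N13740 D27903
theorem N17584 : nd 17584 = n27904 := ndS (p := 13740) (l := 3) rfl N13740 D27904
theorem N17585 : nd 17585 = n27905 := ndS (p := 13740) (l := 5) rfl N13740 D27905
theorem N17586 : nd 17586 = n27906 := ndS (p := 13741) (l := 5) rfl N13741 D27906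
theorem N17587 : nd 17587 = n27907 := ndS (p := 13742) (l := 1) rfl N13742 D27907
theorem N17588 : nd 17588 = n27908 := ndS (p := 13743) (l := 6) rfl N13743 D27908
theorem N17589 : nd 17589 = n27909 := ndS (p := 13744) (l := 1) rfl N13744 D27909
theorem N17590 : nd 17590 = n27910 := ndS (p := 13746) (l := 2) rfl N13746 D27910
theorem N17591 : nd 17591 = n27911 := ndS (p := 13746) (l := 5) rfl N13746 D27911
theorem N17592 : nd 17592 = n27912 := ndS (p := 13748) (l := 1) rfl N13748 D27912
theorem N17593 : nd 17593 = n27913 := ndS (p := 13748) (l := 4) rfl N13748 D27913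
theorem N17594 : nd 17594 = n27914 := ndS (p := 13750) (l := 4) rfl N13750 D27914
theorem N17595 : nd 17595 = n27915 := ndS (p := 13750) (l := 5) rfl N13750 D27915
theorem N17596 : nd 17596 = n27916 := ndS (p := 13751) (l := 3) rfl N13751 D27916
theorem N17597 : nd 17597 = n27917 := ndS (p := 13751) (l := 5) rfl N13751 D27917
theorem N17598 : nd 17598 = n27918 := ndS (p := 13752) (l := 1) rfl N13752 D27918
theorem N17599 : nd 17599 = n27919 := ndS (p := 13753) (l := 1) rfl N13753 D27919
theorem N17600 : nd 17600 = n27920 := ndS (p := 13754) (l := 0) rfl N13754 D27920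
theorem N17601 : nd 17601 = n27921 := ndS (p := 13754) (l := 2) rfl N13754 D27921
theorem N17602 : nd 17602 = n27922 := ndS (p := 13754) (l := 6) rfl N13754 D27922
theorem N17603 : nd 17603 = n27923 := ndS (p := 13755) (l := 2) rfl N13755 D27923
theorem N17604 : nd 17604 = n27924 := ndS (p := 13759) (l := 3) rfl N13759 D27924
theorem N17605 : nd 17605 = n27925 := ndS (p := 13760) (l := 6) rfl N13760 D27925
theorem N17606 : nd 17606 = n27926 := ndS (p := 13761) (l := 1) rfl N13761 D27926
theorem N17607 : nd 17607 = n27927 := ndS (p := 13762) (l := 2) rfl N13762 D27927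
theorem N17608 : nd 17608 = n27928 := ndS (p := 13763) (l := 1) rfl N13763 D27928
theorem N17609 : nd 17609 = n27929 := ndS (p := 13763) (l := 3) rfl N13763 D27929
theorem N17610 : nd 17610 = n27930 := ndS (p := 13763) (l := 5) rfl N13763 D27930
theorem N17611 : nd 17611 = n27931 := ndS (p := 13765) (l := 0) rfl N13765 D27931
theorem N17612 : nd 17612 = n27932 := ndS (p := 13765) (l := 3) rfl N13765 D27932
theorem N17613 : nd 17613 = n27933 := ndS (p := 13765) (l := 6) rfl N13765 D27933
theorem N17614 : nd 17614 = n27934 := ndS (p := 13766) (l := 6) rfl N13766 D27934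
theorem N17615 : nd 17615 = n27935 := ndS (p := 13767) (l := 1) rfl N13767 D27935
theorem N17616 : nd 17616 = n27936 := ndS (p := 13768) (l := 5) rfl N13768 D27936
theorem N17617 : nd 17617 = n27937 := ndS (p := 13769) (l := 1) rfl N13769 D27937
theorem N17618 : nd 17618 = n27938 := ndS (p := 13772) (l := 3) rfl N13772 D27938
theorem N17619 : nd 17619 = n27939 := ndS (p := 13774) (l := 2) rfl N13774 D27939
theorem N17620 : nd 17620 = n27940 := ndS (p := 13775) (l := 3) rfl N13775 D27940
theorem N17621 : nd 17621 = n27941 := ndS (p := 13778) (l := 1) rfl N13778 D27941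
theorem N17622 : nd 17622 = n27942 := ndS (p := 13780) (l := 3) rfl N13780 D27942
theorem N17623 : nd 17623 = n27943 := ndS (p := 13782) (l := 2) rfl N13782 D27943
theorem N17624 : nd 17624 = n27944 := ndS (p := 13783) (l := 3) rfl N13783 D27944
theorem N17625 : nd 17625 = n27945 := ndS (p := 13786) (l := 1) rfl N13786 D27945
theorem N17626 : nd 17626 = n27946 := ndS (p := 13787) (l := 0) rfl N13787 D27946
theorem N17627 : nd 17627 = n27947 := ndS (p := 13787) (l := 5) rfl N13787 D27947
theorem N17628 : nd 17628 = n27948 := ndS (p := 13790) (l := 3) rfl N13790 D27948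
theorem N17629 : nd 17629 = n27949 := ndS (p := 13790) (l := 6) rfl N13790 D27949
theorem N17630 : nd 17630 = n27950 := ndS (p := 13791) (l := 1) rfl N13791 D27950
theorem N17631 : nd 17631 = n27951 := ndS (p := 13793) (l := 0) rfl N13793 D27951
theorem N17632 : nd 17632 = n27952 := ndS (p := 13793) (l := 2) rfl N13793 D27952
theorem N17633 : nd 17633 = n27953 := ndS (p := 13793) (l := 5) rfl N13793 D27953
theorem N17634 : nd 17634 = n27954 := ndS (p := 13794) (l := 2) rfl N13794 D27954
theorem N17635 : nd 17635 = n27955 := ndS (p := 13794) (l := 5) rfl N13794 D27955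
theorem N17636 : nd 17636 = n27956 := ndS (p := 13795) (l := 3) rfl N13795 D27956
theorem N17637 : nd 17637 = n27957 := ndS (p := 13796) (l := 6) rfl N13796 D27957
theorem N17638 : nd 17638 = n27958 := ndS (p := 13798) (l := 4) rfl N13798 D27958
theorem N17639 : nd 17639 = n27959 := ndS (p := 13798) (l := 5) rfl N13798 D27959
theorem N17640 : nd 17640 = n27960 := ndS (p := 13800) (l := 2) rfl N13800 D27960
theorem N17641 : nd 17641 = n27961 := ndS (p := 13800) (l := 6) rfl N13800 D27961
theorem N17642 : nd 17642 = n27962 := ndS (p := 13801) (l := 1) rfl N13801 D27962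
theorem N17643 : nd 17643 = n27963 := ndS (p := 13801) (l := 5) rfl N13801 D27963
theorem N17644 : nd 17644 = n27964 := ndS (p := 13802) (l := 0) rfl N13802 D27964
theorem N17645 : nd 17645 = n27965 := ndS (p := 13802) (l := 5) rfl N13802 D27965
theorem N17646 : nd 17646 = n27966 := ndS (p := 13803) (l := 1) rfl N13803 D27966
theorem N17647 : nd 17647 = n27967 := ndS (p := 13804) (l := 1) rfl N13804 D27967
theorem N17648 : nd 17648 = n27968 := ndS (p := 13805) (l := 0) rfl N13805 D27968
theorem N17649 : nd 17649 = n27969 := ndS (p := 13805) (l := 2) rfl N13805 D27969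
theorem N17650 : nd 17650 = n27970 := ndS (p := 13805) (l := 6) rfl N13805 D27970
theorem N17651 : nd 17651 = n27971 := ndS (p := 13806) (l := 2) rfl N13806 D27971
theorem N17652 : nd 17652 = n27972 := ndS (p := 13806) (l := 6) rfl N13806 D27972
theorem N17653 : nd 17653 = n27973 := ndS (p := 13807) (l := 3) rfl N13807 D27973
theorem N17654 : nd 17654 = n27974 := ndS (p := 13807) (l := 6) rfl N13807 D27974
theorem N17655 : nd 17655 = n27975 := ndS (p := 13808) (l := 5) rfl N13808 D27975
theorem N17656 : nd 17656 = n27976 := ndS (p := 13809) (l := 1) rfl N13809 D27976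
theorem N17657 : nd 17657 = n27977 := ndS (p := 13809) (l := 3) rfl N13809 D27977
theorem N17658 : nd 17658 = n27978 := ndS (p := 13809) (l := 6) rfl N13809 D27978
theorem N17659 : nd 17659 = n27979 := ndS (p := 13811) (l := 0) rfl N13811 D27979
theorem N17660 : nd 17660 = n27980 := ndS (p := 13811) (l := 3) rfl N13811 D27980
theorem N17661 : nd 17661 = n27981 := ndS (p := 13811) (l := 5) rfl N13811 D27981
theorem N17662 : nd 17662 = n27982 := ndS (p := 13811) (l := 6) rfl N13811 D27982
theorem N17663 : nd 17663 = n27983 := ndS (p := 13812) (l := 2) rfl N13812 D27983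
theorem N17664 : nd 17664 = n27984 := ndS (p := 13812) (l := 4) rfl N13812 D27984
theorem N17665 : nd 17665 = n27985 := ndS (p := 13813) (l := 1) rfl N13813 D27985
theorem N17666 : nd 17666 = n27986 := ndS (p := 13813) (l := 4) rfl N13813 D27986
theorem N17667 : nd 17667 = n27987 := ndS (p := 13814) (l := 5) rfl N13814 D27987
theorem N17668 : nd 17668 = n27988 := ndS (p := 13815) (l := 1) rfl N13815 D27988
theorem N17669 : nd 17669 = n27989 := ndS (p := 13817) (l := 1) rfl N13817 D27989
theorem N17670 : nd 17670 = n27990 := ndS (p := 13817) (l := 3) rfl N13817 D27990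
theorem N17671 : nd 17671 = n27991 := ndS (p := 13818) (l := 2) rfl N13818 D27991
theorem N17672 : nd 17672 = n27992 := ndS (p := 13818) (l := 6) rfl N13818 D27992
theorem N17673 : nd 17673 = n27993 := ndS (p := 13820) (l := 5) rfl N13820 D27993
theorem N17674 : nd 17674 = n27994 := ndS (p := 13821) (l := 4) rfl N13821 D27994
theorem N17675 : nd 17675 = n27995 := ndS (p := 13821) (l := 5) rfl N13821 D27995
theorem N17676 : nd 17676 = n27996 := ndS (p := 13821) (l := 6) rfl N13821 D27996
theorem N17677 : nd 17677 = n27997 := ndS (p := 13824) (l := 6) rfl N13824 D27997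
theorem N17678 : nd 17678 = n27998 := ndS (p := 13825) (l := 5) rfl N13825 D27998
theorem N17679 : nd 17679 = n27999 := ndS (p := 13826) (l := 4) rfl N13826 D27999
theorem N17680 : nd 17680 = n28000 := ndS (p := 13826) (l := 5) rfl N13826 D28000
theorem N17681 : nd 17681 = n28001 := ndS (p := 13827) (l := 5) rfl N13827 D28001
theorem N17682 : nd 17682 = n28002 := ndS (p := 13828) (l := 1) rfl N13828 D28002
theorem N17683 : nd 17683 = n28003 := ndS (p := 13830) (l := 0) rfl N13830 D28003
theorem N17684 : nd 17684 = n28004 := ndS (p := 13830) (l := 4) rfl N13830 D28004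
theorem N17685 : nd 17685 = n28005 := ndS (p := 13830) (l := 5) rfl N13830 D28005
theorem N17686 : nd 17686 = n28006 := ndS (p := 13830) (l := 6) rfl N13830 D28006
theorem N17687 : nd 17687 = n28007 := ndS (p := 13831) (l := 3) rfl N13831 D28007
theorem N17688 : nd 17688 = n28008 := ndS (p := 13831) (l := 5) rfl N13831 D28008
theorem N17689 : nd 17689 = n28009 := ndS (p := 13832) (l := 1) rfl N13832 D28009
theorem N17690 : nd 17690 = n28010 := ndS (p := 13832) (l := 6) rfl N13832 D28010
theorem N17691 : nd 17691 = n28011 := ndS (p := 13833) (l := 6) rfl N13833 D28011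
theorem N17692 : nd 17692 = n28012 := ndS (p := 13834) (l := 1) rfl N13834 D28012
theorem N17693 : nd 17693 = n28013 := ndS (p := 13835) (l := 0) rfl N13835 D28013
theorem N17694 : nd 17694 = n28014 := ndS (p := 13835) (l := 2) rfl N13835 D28014
theorem N17695 : nd 17695 = n28015 := ndS (p := 13835) (l := 5) rfl N13835 D28015
theorem N17696 : nd 17696 = n28016 := ndS (p := 13836) (l := 3) rfl N13836 D28016
theorem N17697 : nd 17697 = n28017 := ndS (p := 13836) (l := 5) rfl N13836 D28017
theorem N17698 : nd 17698 = n28018 := ndS (p := 13838) (l := 0) rfl N13838 D28018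
theorem N17699 : nd 17699 = n28019 := ndS (p := 13838) (l := 6) rfl N13838 D28019
theorem N17700 : nd 17700 = n28020 := ndS (p := 13840) (l := 3) rfl N13840 D28020
theorem N17701 : nd 17701 = n28021 := ndS (p := 13840) (l := 5) rfl N13840 D28021
theorem N17702 : nd 17702 = n28022 := ndS (p := 13841) (l := 1) rfl N13841 D28022
theorem N17703 : nd 17703 = n28023 := ndS (p := 13843) (l := 0) rfl N13843 D28023
theorem N17704 : nd 17704 = n28024 := ndS (p := 13843) (l := 2) rfl N13843 D28024
theorem N17705 : nd 17705 = n28025 := ndS (p := 13843) (l := 6) rfl N13843 D28025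
theorem N17706 : nd 17706 = n28026 := ndS (p := 13844) (l := 2) rfl N13844 D28026
theorem N17707 : nd 17707 = n28027 := ndS (p := 13844) (l := 6) rfl N13844 D28027
theorem N17708 : nd 17708 = n28028 := ndS (p := 13845) (l := 3) rfl N13845 D28028
theorem N17709 : nd 17709 = n28029 := ndS (p := 13846) (l := 5) rfl N13846 D28029
theorem N17710 : nd 17710 = n28030 := ndS (p := 13847) (l := 4) rfl N13847 D28030
theorem N17711 : nd 17711 = n28031 := ndS (p := 13847) (l := 6) rfl N13847 D28031
theorem N17712 : nd 17712 = n28032 := ndS (p := 13849) (l := 2) rfl N13849 D28032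
theorem N17713 : nd 17713 = n28033 := ndS (p := 13849) (l := 5) rfl N13849 D28033
theorem N17714 : nd 17714 = n28034 := ndS (p := 13850) (l := 1) rfl N13850 D28034
theorem N17715 : nd 17715 = n28035 := ndS (p := 13850) (l := 6) rfl N13850 D28035
theorem N17716 : nd 17716 = n28036 := ndS (p := 13851) (l := 0) rfl N13851 D28036
theorem N17717 : nd 17717 = n28037 := ndS (p := 13851) (l := 6) rfl N13851 D28037
theorem N17718 : nd 17718 = n28038 := ndS (p := 13852) (l := 1) rfl N13852 D28038
theorem N17719 : nd 17719 = n28039 := ndS (p := 13853) (l := 1) rfl N13853 D28039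
theorem N17720 : nd 17720 = n28042 := ndS (p := 13854) (l := 5) rfl N13854 D28042
theorem N17721 : nd 17721 = n28043 := ndS (p := 13855) (l := 2) rfl N13855 D28043
theorem N17722 : nd 17722 = n28044 := ndS (p := 13855) (l := 5) rfl N13855 D28044
theorem N17723 : nd 17723 = n28045 := ndS (p := 13856) (l := 3) rfl N13856 D28045
theorem N17724 : nd 17724 = n28046 := ndS (p := 13857) (l := 6) rfl N13857 D28046
theorem N17725 : nd 17725 = n28047 := ndS (p := 13858) (l := 1) rfl N13858 D28047
theorem N17726 : nd 17726 = n28048 := ndS (p := 13858) (l := 3) rfl N13858 D28048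
theorem N17727 : nd 17727 = n28049 := ndS (p := 13858) (l := 5) rfl N13858 D28049
theorem N17728 : nd 17728 = n28050 := ndS (p := 13860) (l := 0) rfl N13860 D28050
theorem N17729 : nd 17729 = n28051 := ndS (p := 13860) (l := 3) rfl N13860 D28051
theorem N17730 : nd 17730 = n28052 := ndS (p := 13860) (l := 5) rfl N13860 D28052
theorem N17731 : nd 17731 = n28053 := ndS (p := 13860) (l := 6) rfl N13860 D28053
theorem N17732 : nd 17732 = n28054 := ndS (p := 13861) (l := 2) rfl N13861 D28054
theorem N17733 : nd 17733 = n28055 := ndS (p := 13861) (l := 4) rfl N13861 D28055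
theorem N17734 : nd 17734 = n28056 := ndS (p := 13862) (l := 1) rfl N13862 D28056
theorem N17735 : nd 17735 = n28057 := ndS (p := 13862) (l := 4) rfl N13862 D28057
theorem N17736 : nd 17736 = n28058 := ndS (p := 13863) (l := 6) rfl N13863 D28058
theorem N17737 : nd 17737 = n28059 := ndS (p := 13864) (l := 1) rfl N13864 D28059
theorem N17738 : nd 17738 = n28060 := ndS (p := 13866) (l := 3) rfl N13866 D28060
theorem N17739 : nd 17739 = n28061 := ndS (p := 13867) (l := 2) rfl N13867 D28061
theorem N17740 : nd 17740 = n28062 := ndS (p := 13867) (l := 5) rfl N13867 D28062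
theorem N17741 : nd 17741 = n28063 := ndS (p := 13869) (l := 6) rfl N13869 D28063
theorem N17742 : nd 17742 = n28064 := ndS (p := 13870) (l := 4) rfl N13870 D28064
theorem N17743 : nd 17743 = n28065 := ndS (p := 13870) (l := 5) rfl N13870 D28065
theorem N17744 : nd 17744 = n28066 := ndS (p := 13870) (l := 6) rfl N13870 D28066
theorem N17745 : nd 17745 = n28067 := ndS (p := 13873) (l := 6) rfl N13873 D28067
theorem N17746 : nd 17746 = n28068 := ndS (p := 13874) (l := 5) rfl N13874 D28068
theorem N17747 : nd 17747 = n28069 := ndS (p := 13875) (l := 4) rfl N13875 D28069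
theorem N17748 : nd 17748 = n28070 := ndS (p := 13875) (l := 6) rfl N13875 D28070
theorem N17749 : nd 17749 = n28071 := ndS (p := 13876) (l := 6) rfl N13876 D28071
theorem N17750 : nd 17750 = n28072 := ndS (p := 13877) (l := 1) rfl N13877 D28072
theorem N17751 : nd 17751 = n28073 := ndS (p := 13879) (l := 0) rfl N13879 D28073
theorem N17752 : nd 17752 = n28074 := ndS (p := 13879) (l := 4) rfl N13879 D28074
theorem N17753 : nd 17753 = n28075 := ndS (p := 13879) (l := 5) rfl N13879 D28075
theorem N17754 : nd 17754 = n28076 := ndS (p := 13879) (l := 6) rfl N13879 D28076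
theorem N17755 : nd 17755 = n28077 := ndS (p := 13880) (l := 3) rfl N13880 D28077
theorem N17756 : nd 17756 = n28078 := ndS (p := 13880) (l := 6) rfl N13880 D28078
theorem N17757 : nd 17757 = n28079 := ndS (p := 13881) (l := 1) rfl N13881 D28079
theorem N17758 : nd 17758 = n28080 := ndS (p := 13881) (l := 5) rfl N13881 D28080
theorem N17759 : nd 17759 = n28081 := ndS (p := 13882) (l := 5) rfl N13882 D28081
theorem N17760 : nd 17760 = n28082 := ndS (p := 13883) (l := 1) rfl N13883 D28082
theorem N17761 : nd 17761 = n28083 := ndS (p := 13884) (l := 0) rfl N13884 D28083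
theorem N17762 : nd 17762 = n28084 := ndS (p := 13884) (l := 2) rfl N13884 D28084
theorem N17763 : nd 17763 = n28085 := ndS (p := 13884) (l := 6) rfl N13884 D28085
theorem N17764 : nd 17764 = n28086 := ndS (p := 13885) (l := 3) rfl N13885 D28086
theorem N17765 : nd 17765 = n28087 := ndS (p := 13885) (l := 6) rfl N13885 D28087
theorem N17766 : nd 17766 = n28088 := ndS (p := 13887) (l := 5) rfl N13887 D28088
theorem N17767 : nd 17767 = n28089 := ndS (p := 13888) (l := 2) rfl N13888 D28089
theorem N17768 : nd 17768 = n28090 := ndS (p := 13888) (l := 4) rfl N13888 D28090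
theorem N17769 : nd 17769 = n28091 := ndS (p := 13888) (l := 5) rfl N13888 D28091
theorem N17770 : nd 17770 = n28092 := ndS (p := 13888) (l := 6) rfl N13888 D28092
theorem N17771 : nd 17771 = n28093 := ndS (p := 13889) (l := 1) rfl N13889 D28093
theorem N17772 : nd 17772 = n28094 := ndS (p := 13891) (l := 3) rfl N13891 D28094
theorem N17773 : nd 17773 = n28095 := ndS (p := 13891) (l := 4) rfl N13891 D28095
theorem N17774 : nd 17774 = n28096 := ndS (p := 13891) (l := 5) rfl N13891 D28096
theorem N17775 : nd 17775 = n28097 := ndS (p := 13891) (l := 6) rfl N13891 D28097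
theorem N17776 : nd 17776 = n28098 := ndS (p := 13892) (l := 6) rfl N13892 D28098
theorem N17777 : nd 17777 = n28099 := ndS (p := 13894) (l := 5) rfl N13894 D28099
theorem N17778 : nd 17778 = n28100 := ndS (p := 13895) (l := 1) rfl N13895 D28100
theorem N17779 : nd 17779 = n28101 := ndS (p := 13896) (l := 4) rfl N13896 D28101
theorem N17780 : nd 17780 = n28102 := ndS (p := 13896) (l := 5) rfl N13896 D28102
theorem N17781 : nd 17781 = n28103 := ndS (p := 13896) (l := 6) rfl N13896 D28103
theorem N17782 : nd 17782 = n28104 := ndS (p := 13897) (l := 5) rfl N13897 D28104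
theorem N17783 : nd 17783 = n28105 := ndS (p := 13897) (l := 6) rfl N13897 D28105
theorem N17784 : nd 17784 = n28106 := ndS (p := 13898) (l := 6) rfl N13898 D28106
theorem N17785 : nd 17785 = n28107 := ndS (p := 13899) (l := 5) rfl N13899 D28107
theorem N17786 : nd 17786 = n28108 := ndS (p := 13900) (l := 6) rfl N13900 D28108
theorem N17787 : nd 17787 = n28109 := ndS (p := 13901) (l := 2) rfl N13901 D28109
theorem N17788 : nd 17788 = n28110 := ndS (p := 13901) (l := 6) rfl N13901 D28110
theorem N17789 : nd 17789 = n28111 := ndS (p := 13903) (l := 1) rfl N13903 D28111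
theorem N17790 : nd 17790 = n28112 := ndS (p := 13904) (l := 3) rfl N13904 D28112
theorem N17791 : nd 17791 = n28113 := ndS (p := 13904) (l := 4) rfl N13904 D28113
theorem N17792 : nd 17792 = n28114 := ndS (p := 13904) (l := 5) rfl N13904 D28114
theorem N17793 : nd 17793 = n28115 := ndS (p := 13904) (l := 6) rfl N13904 D28115
theorem N17794 : nd 17794 = n28116 := ndS (p := 13908) (l := 1) rfl N13908 D28116
theorem N17795 : nd 17795 = n28117 := ndS (p := 13909) (l := 4) rfl N13909 D28117
theorem N17796 : nd 17796 = n28118 := ndS (p := 13909) (l := 5) rfl N13909 D28118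
theorem N17797 : nd 17797 = n28119 := ndS (p := 13909) (l := 6) rfl N13909 D28119
theorem N17798 : nd 17798 = n28120 := ndS (p := 13910) (l := 5) rfl N13910 D28120
theorem N17799 : nd 17799 = n28121 := ndS (p := 13910) (l := 6) rfl N13910 D28121
theorem N17800 : nd 17800 = n28122 := ndS (p := 13911) (l := 6) rfl N13911 D28122
theorem N17801 : nd 17801 = n28123 := ndS (p := 13912) (l := 5) rfl N13912 D28123
theorem N17802 : nd 17802 = n28124 := ndS (p := 13913) (l := 1) rfl N13913 D28124
theorem N17803 : nd 17803 = n28125 := ndS (p := 13913) (l := 5) rfl N13913 D28125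
theorem N17804 : nd 17804 = n28126 := ndS (p := 13913) (l := 6) rfl N13913 D28126
theorem N17805 : nd 17805 = n28127 := ndS (p := 13914) (l := 6) rfl N13914 D28127
theorem N17806 : nd 17806 = n28128 := ndS (p := 13915) (l := 5) rfl N13915 D28128
theorem N17807 : nd 17807 = n28129 := ndS (p := 13916) (l := 2) rfl N13916 D28129
theorem N17808 : nd 17808 = n28130 := ndS (p := 13916) (l := 4) rfl N13916 D28130
theorem N17809 : nd 17809 = n28131 := ndS (p := 13916) (l := 5) rfl N13916 D28131
theorem N17810 : nd 17810 = n28133 := ndS (p := 13917) (l := 1) rfl N13917 D28133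
theorem N17811 : nd 17811 = n28135 := ndS (p := 13918) (l := 3) rfl N13918 D28135
theorem N17812 : nd 17812 = n28136 := ndS (p := 13918) (l := 4) rfl N13918 D28136
theorem N17813 : nd 17813 = n28137 := ndS (p := 13918) (l := 5) rfl N13918 D28137
theorem N17814 : nd 17814 = n28138 := ndS (p := 13918) (l := 6) rfl N13918 D28138
theorem N17815 : nd 17815 = n28139 := ndS (p := 13919) (l := 5) rfl N13919 D28139
theorem N17816 : nd 17816 = n28140 := ndS (p := 13919) (l := 6) rfl N13919 D28140
theorem N17817 : nd 17817 = n28145 := ndS (p := 13922) (l := 1) rfl N13922 D28145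
theorem N17818 : nd 17818 = n28146 := ndS (p := 13922) (l := 5) rfl N13922 D28146
theorem N17819 : nd 17819 = n28147 := ndS (p := 13922) (l := 6) rfl N13922 D28147
theorem N17820 : nd 17820 = n28148 := ndS (p := 13923) (l := 6) rfl N13923 D28148
theorem N17821 : nd 17821 = n28149 := ndS (p := 13924) (l := 5) rfl N13924 D28149
theorem N17822 : nd 17822 = n28150 := ndS (p := 13925) (l := 2) rfl N13925 D28150
theorem N17823 : nd 17823 = n28151 := ndS (p := 13925) (l := 4) rfl N13925 D28151
theorem N17824 : nd 17824 = n28156 := ndS (p := 13926) (l := 3) rfl N13926 D28156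
theorem N17825 : nd 17825 = n28157 := ndS (p := 13926) (l := 4) rfl N13926 D28157
theorem N17826 : nd 17826 = n28158 := ndS (p := 13926) (l := 5) rfl N13926 D28158
theorem N17827 : nd 17827 = n28160 := ndS (p := 13927) (l := 5) rfl N13927 D28160
theorem N17828 : nd 17828 = n28166 := ndS (p := 13930) (l := 1) rfl N13930 D28166
theorem N17829 : nd 17829 = n28167 := ndS (p := 13933) (l := 1) rfl N13933 D28167
theorem N17830 : nd 17830 = n28168 := ndS (p := 13935) (l := 5) rfl N13935 D28168
theorem N17831 : nd 17831 = n28169 := ndS (p := 13943) (l := 5) rfl N13943 D28169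
theorem N17832 : nd 17832 = n28170 := ndS (p := 13946) (l := 1) rfl N13946 D28170
theorem N17833 : nd 17833 = n28171 := ndS (p := 13947) (l := 4) rfl N13947 D28171
theorem N17834 : nd 17834 = n28172 := ndS (p := 13948) (l := 1) rfl N13948 D28172
theorem N17835 : nd 17835 = n28173 := ndS (p := 13948) (l := 6) rfl N13948 D28173
theorem N17836 : nd 17836 = n28174 := ndS (p := 13952) (l := 0) rfl N13952 D28174
theorem N17837 : nd 17837 = n28175 := ndS (p := 13952) (l := 6) rfl N13952 D28175
theorem N17838 : nd 17838 = n28176 := ndS (p := 13957) (l := 1) rfl N13957 D28176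
theorem N17839 : nd 17839 = n28177 := ndS (p := 13958) (l := 0) rfl N13958 D28177
theorem N17840 : nd 17840 = n28178 := ndS (p := 13959) (l := 6) rfl N13959 D28178
theorem N17841 : nd 17841 = n28179 := ndS (p := 13965) (l := 6) rfl N13965 D28179
theorem N17842 : nd 17842 = n28180 := ndS (p := 13967) (l := 1) rfl N13967 D28180
theorem N17843 : nd 17843 = n28181 := ndS (p := 13968) (l := 4) rfl N13968 D28181
theorem N17844 : nd 17844 = n28182 := ndS (p := 13969) (l := 1) rfl N13969 D28182
theorem N17845 : nd 17845 = n28183 := ndS (p := 13969) (l := 5) rfl N13969 D28183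
theorem N17846 : nd 17846 = n28184 := ndS (p := 13973) (l := 0) rfl N13973 D28184
theorem N17847 : nd 17847 = n28185 := ndS (p := 13973) (l := 5) rfl N13973 D28185
theorem N17848 : nd 17848 = n28186 := ndS (p := 13977) (l := 1) rfl N13977 D28186
theorem N17849 : nd 17849 = n28187 := ndS (p := 13978) (l := 0) rfl N13978 D28187
theorem N17850 : nd 17850 = n28188 := ndS (p := 13980) (l := 0) rfl N13980 D28188
theorem N17851 : nd 17851 = n28189 := ndS (p := 13980) (l := 6) rfl N13980 D28189
theorem N17852 : nd 17852 = n28190 := ndS (p := 13984) (l := 0) rfl N13984 D28190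
theorem N17853 : nd 17853 = n28191 := ndS (p := 13984) (l := 5) rfl N13984 D28191
theorem N17854 : nd 17854 = n28192 := ndS (p := 13990) (l := 4) rfl N13990 D28192
theorem N17855 : nd 17855 = n28193 := ndS (p := 13993) (l := 6) rfl N13993 D28193
theorem N17856 : nd 17856 = n28194 := ndS (p := 13994) (l := 4) rfl N13994 D28194
theorem N17857 : nd 17857 = n28195 := ndS (p := 13995) (l := 3) rfl N13995 D28195
theorem N17858 : nd 17858 = n28196 := ndS (p := 13996) (l := 2) rfl N13996 D28196
theorem N17859 : nd 17859 = n28197 := ndS (p := 13996) (l := 4) rfl N13996 D28197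
theorem N17860 : nd 17860 = n28198 := ndS (p := 13996) (l := 6) rfl N13996 D28198
theorem N17861 : nd 17861 = n28199 := ndS (p := 13998) (l := 5) rfl N13998 D28199
theorem N17862 : nd 17862 = n28200 := ndS (p := 13999) (l := 5) rfl N13999 D28200
theorem N17863 : nd 17863 = n28201 := ndS (p := 14002) (l := 3) rfl N14002 D28201
theorem N17864 : nd 17864 = n28202 := ndS (p := 14002) (l := 5) rfl N14002 D28202
theorem N17865 : nd 17865 = n28203 := ndS (p := 14004) (l := 1) rfl N14004 D28203
theorem N17866 : nd 17866 = n28204 := ndS (p := 14009) (l := 4) rfl N14009 D28204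
theorem N17867 : nd 17867 = n28205 := ndS (p := 14012) (l := 5) rfl N14012 D28205
theorem N17868 : nd 17868 = n28206 := ndS (p := 14013) (l := 4) rfl N14013 D28206
theorem N17869 : nd 17869 = n28207 := ndS (p := 14014) (l := 3) rfl N14014 D28207
theorem N17870 : nd 17870 = n28208 := ndS (p := 14015) (l := 2) rfl N14015 D28208
theorem N17871 : nd 17871 = n28209 := ndS (p := 14015) (l := 4) rfl N14015 D28209
theorem N17872 : nd 17872 = n28210 := ndS (p := 14015) (l := 5) rfl N14015 D28210
theorem N17873 : nd 17873 = n28211 := ndS (p := 14016) (l := 6) rfl N14016 D28211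
theorem N17874 : nd 17874 = n28212 := ndS (p := 14018) (l := 6) rfl N14018 D28212
theorem N17875 : nd 17875 = n28213 := ndS (p := 14021) (l := 3) rfl N14021 D28213
theorem N17876 : nd 17876 = n28214 := ndS (p := 14021) (l := 6) rfl N14021 D28214
theorem N17877 : nd 17877 = n28215 := ndS (p := 14023) (l := 1) rfl N14023 D28215
theorem N17878 : nd 17878 = n28216 := ndS (p := 14027) (l := 2) rfl N14027 D28216
theorem N17879 : nd 17879 = n28217 := ndS (p := 14032) (l := 5) rfl N14032 D28217
theorem N17880 : nd 17880 = n28218 := ndS (p := 14034) (l := 3) rfl N14034 D28218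
theorem N17881 : nd 17881 = n28219 := ndS (p := 14034) (l := 6) rfl N14034 D28219
theorem N17882 : nd 17882 = n28220 := ndS (p := 14035) (l := 1) rfl N14035 D28220
theorem N17883 : nd 17883 = n28221 := ndS (p := 14038) (l := 6) rfl N14038 D28221
theorem N17884 : nd 17884 = n28222 := ndS (p := 14043) (l := 1) rfl N14043 D28222
theorem N17885 : nd 17885 = n28223 := ndS (p := 14049) (l := 4) rfl N14049 D28223
theorem N17886 : nd 17886 = n28224 := ndS (p := 14051) (l := 4) rfl N14051 D28224
theorem N17887 : nd 17887 = n28225 := ndS (p := 14052) (l := 3) rfl N14052 D28225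
theorem N17888 : nd 17888 = n28226 := ndS (p := 14052) (l := 5) rfl N14052 D28226
theorem N17889 : nd 17889 = n28227 := ndS (p := 14055) (l := 0) rfl N14055 D28227
theorem N17890 : nd 17890 = n28228 := ndS (p := 14056) (l := 4) rfl N14056 D28228
theorem N17891 : nd 17891 = n28229 := ndS (p := 14058) (l := 6) rfl N14058 D28229
theorem N17892 : nd 17892 = n28230 := ndS (p := 14060) (l := 3) rfl N14060 D28230
theorem N17893 : nd 17893 = n28231 := ndS (p := 14064) (l := 4) rfl N14064 D28231
theorem N17894 : nd 17894 = n28232 := ndS (p := 14069) (l := 3) rfl N14069 D28232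
theorem N17895 : nd 17895 = n28233 := ndS (p := 14071) (l := 4) rfl N14071 D28233
theorem N17896 : nd 17896 = n28234 := ndS (p := 14072) (l := 4) rfl N14072 D28234
theorem N17897 : nd 17897 = n28235 := ndS (p := 14073) (l := 3) rfl N14073 D28235
theorem N17898 : nd 17898 = n28236 := ndS (p := 14073) (l := 6) rfl N14073 D28236
theorem N17899 : nd 17899 = n28237 := ndS (p := 14075) (l := 3) rfl N14075 D28237
theorem N17900 : nd 17900 = n28238 := ndS (p := 14076) (l := 2) rfl N14076 D28238
theorem N17901 : nd 17901 = n28239 := ndS (p := 14079) (l := 5) rfl N14079 D28239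
theorem N17902 : nd 17902 = n28240 := ndS (p := 14084) (l := 2) rfl N14084 D28240
theorem N17903 : nd 17903 = n28241 := ndS (p := 14089) (l := 6) rfl N14089 D28241
theorem N17904 : nd 17904 = n28242 := ndS (p := 14091) (l := 3) rfl N14091 D28242
theorem N17905 : nd 17905 = n28243 := ndS (p := 14091) (l := 5) rfl N14091 D28243
theorem N17906 : nd 17906 = n28244 := ndS (p := 14092) (l := 1) rfl N14092 D28244
theorem N17907 : nd 17907 = n28245 := ndS (p := 14100) (l := 1) rfl N14100 D28245
theorem N17908 : nd 17908 = n28246 := ndS (p := 14103) (l := 4) rfl N14103 D28246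
theorem N17909 : nd 17909 = n28247 := ndS (p := 14105) (l := 4) rfl N14105 D28247
theorem N17910 : nd 17910 = n28248 := ndS (p := 14106) (l := 3) rfl N14106 D28248
theorem N17911 : nd 17911 = n28249 := ndS (p := 14106) (l := 6) rfl N14106 D28249
theorem N17912 : nd 17912 = n28250 := ndS (p := 14109) (l := 4) rfl N14109 D28250
theorem N17913 : nd 17913 = n28251 := ndS (p := 14111) (l := 5) rfl N14111 D28251
theorem N17914 : nd 17914 = n28252 := ndS (p := 14113) (l := 3) rfl N14113 D28252
theorem N17915 : nd 17915 = n28253 := ndS (p := 14117) (l := 4) rfl N14117 D28253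
theorem N17916 : nd 17916 = n28254 := ndS (p := 14120) (l := 3) rfl N14120 D28254
theorem N17917 : nd 17917 = n28255 := ndS (p := 14122) (l := 4) rfl N14122 D28255
theorem N17918 : nd 17918 = n28256 := ndS (p := 14123) (l := 4) rfl N14123 D28256
theorem N17919 : nd 17919 = n28257 := ndS (p := 14124) (l := 3) rfl N14124 D28257
theorem N17920 : nd 17920 = n28258 := ndS (p := 14124) (l := 5) rfl N14124 D28258
theorem N17921 : nd 17921 = n28259 := ndS (p := 14126) (l := 3) rfl N14126 D28259
theorem N17922 : nd 17922 = n28260 := ndS (p := 14127) (l := 2) rfl N14127 D28260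
theorem N17923 : nd 17923 = n28261 := ndS (p := 14130) (l := 6) rfl N14130 D28261
theorem N17924 : nd 17924 = n28262 := ndS (p := 14133) (l := 5) rfl N14133 D28262
theorem N17925 : nd 17925 = n28263 := ndS (p := 14136) (l := 6) rfl N14136 D28263
theorem N17926 : nd 17926 = n28264 := ndS (p := 14137) (l := 2) rfl N14137 D28264
theorem N17927 : nd 17927 = n28265 := ndS (p := 14137) (l := 4) rfl N14137 D28265
theorem N17928 : nd 17928 = n28266 := ndS (p := 14138) (l := 5) rfl N14138 D28266
theorem N17929 : nd 17929 = n28267 := ndS (p := 14146) (l := 2) rfl N14146 D28267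
theorem N17930 : nd 17930 = n28268 := ndS (p := 14146) (l := 4) rfl N14146 D28268
theorem N17931 : nd 17931 = n28269 := ndS (p := 14147) (l := 6) rfl N14147 D28269
theorem N17932 : nd 17932 = n28270 := ndS (p := 14155) (l := 6) rfl N14155 D28270
theorem N17933 : nd 17933 = n28271 := ndS (p := 14156) (l := 1) rfl N14156 D28271
theorem N17934 : nd 17934 = n28272 := ndS (p := 14159) (l := 5) rfl N14159 D28272
theorem N17935 : nd 17935 = n28273 := ndS (p := 14161) (l := 4) rfl N14161 D28273
theorem N17936 : nd 17936 = n28274 := ndS (p := 14164) (l := 4) rfl N14164 D28274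
theorem N17937 : nd 17937 = n28275 := ndS (p := 14165) (l := 5) rfl N14165 D28275
theorem N17938 : nd 17938 = n28276 := ndS (p := 14167) (l := 4) rfl N14167 D28276
theorem N17939 : nd 17939 = n28277 := ndS (p := 14168) (l := 6) rfl N14168 D28277
theorem N17940 : nd 17940 = n28278 := ndS (p := 14170) (l := 6) rfl N14170 D28278
theorem N17941 : nd 17941 = n28279 := ndS (p := 14173) (l := 5) rfl N14173 D28279
theorem N17942 : nd 17942 = n28280 := ndS (p := 14176) (l := 5) rfl N14176 D28280
theorem N17943 : nd 17943 = n28281 := ndS (p := 14177) (l := 1) rfl N14177 D28281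
theorem N17944 : nd 17944 = n28282 := ndS (p := 14180) (l := 6) rfl N14180 D28282
theorem N17945 : nd 17945 = n28283 := ndS (p := 14182) (l := 4) rfl N14182 D28283
theorem N17946 : nd 17946 = n28284 := ndS (p := 14185) (l := 4) rfl N14185 D28284
theorem N17947 : nd 17947 = n28285 := ndS (p := 14186) (l := 6) rfl N14186 D28285
theorem N17948 : nd 17948 = n28286 := ndS (p := 14188) (l := 4) rfl N14188 D28286
theorem N17949 : nd 17949 = n28287 := ndS (p := 14189) (l := 5) rfl N14189 D28287
theorem N17950 : nd 17950 = n28288 := ndS (p := 14192) (l := 5) rfl N14192 D28288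
theorem N17951 : nd 17951 = n28289 := ndS (p := 14194) (l := 6) rfl N14194 D28289
theorem N17952 : nd 17952 = n28290 := ndS (p := 14195) (l := 4) rfl N14195 D28290
theorem N17953 : nd 17953 = n28291 := ndS (p := 14195) (l := 6) rfl N14195 D28291
theorem N17954 : nd 17954 = n28292 := ndS (p := 14197) (l := 4) rfl N14197 D28292
theorem N17955 : nd 17955 = n28293 := ndS (p := 14197) (l := 5) rfl N14197 D28293
theorem N17956 : nd 17956 = n28294 := ndS (p := 14199) (l := 4) rfl N14199 D28294
theorem N17957 : nd 17957 = n28295 := ndS (p := 14199) (l := 6) rfl N14199 D28295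
theorem N17958 : nd 17958 = n28296 := ndS (p := 14200) (l := 1) rfl N14200 D28296
theorem N17959 : nd 17959 = n28297 := ndS (p := 14201) (l := 2) rfl N14201 D28297
theorem N17960 : nd 17960 = n28298 := ndS (p := 14202) (l := 3) rfl N14202 D28298
theorem N17961 : nd 17961 = n28299 := ndS (p := 14203) (l := 4) rfl N14203 D28299
theorem N17962 : nd 17962 = n28300 := ndS (p := 14203) (l := 5) rfl N14203 D28300
theorem N17963 : nd 17963 = n28301 := ndS (p := 14204) (l := 1) rfl N14204 D28301
theorem N17964 : nd 17964 = n28302 := ndS (p := 14205) (l := 2) rfl N14205 D28302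
theorem N17965 : nd 17965 = n28303 := ndS (p := 14206) (l := 3) rfl N14206 D28303
theorem N17966 : nd 17966 = n28304 := ndS (p := 14209) (l := 3) rfl N14209 D28304
theorem N17967 : nd 17967 = n28305 := ndS (p := 14210) (l := 0) rfl N14210 D28305
theorem N17968 : nd 17968 = n28306 := ndS (p := 14210) (l := 2) rfl N14210 D28306
theorem N17969 : nd 17969 = n28307 := ndS (p := 14211) (l := 3) rfl N14211 D28307
theorem N17970 : nd 17970 = n28308 := ndS (p := 14212) (l := 0) rfl N14212 D28308
theorem N17971 : nd 17971 = n28309 := ndS (p := 14212) (l := 2) rfl N14212 D28309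
theorem N17972 : nd 17972 = n28310 := ndS (p := 14213) (l := 3) rfl N14213 D28310
theorem N17973 : nd 17973 = n28311 := ndS (p := 14213) (l := 6) rfl N14213 D28311
theorem N17974 : nd 17974 = n28312 := ndS (p := 14215) (l := 2) rfl N14215 D28312
theorem N17975 : nd 17975 = n28313 := ndS (p := 14215) (l := 4) rfl N14215 D28313
theorem N17976 : nd 17976 = n28314 := ndS (p := 14215) (l := 6) rfl N14215 D28314
theorem N17977 : nd 17977 = n28315 := ndS (p := 14216) (l := 1) rfl N14216 D28315
theorem N17978 : nd 17978 = n28316 := ndS (p := 14217) (l := 3) rfl N14217 D28316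
theorem N17979 : nd 17979 = n28317 := ndS (p := 14217) (l := 5) rfl N14217 D28317
theorem N17980 : nd 17980 = n28318 := ndS (p := 14219) (l := 2) rfl N14219 D28318
theorem N17981 : nd 17981 = n28319 := ndS (p := 14219) (l := 4) rfl N14219 D28319
theorem N17982 : nd 17982 = n28320 := ndS (p := 14219) (l := 5) rfl N14219 D28320
theorem N17983 : nd 17983 = n28321 := ndS (p := 14220) (l := 1) rfl N14220 D28321
theorem N17984 : nd 17984 = n28322 := ndS (p := 14221) (l := 4) rfl N14221 D28322
theorem N17985 : nd 17985 = n28323 := ndS (p := 14221) (l := 6) rfl N14221 D28323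
theorem N17986 : nd 17986 = n28324 := ndS (p := 14223) (l := 6) rfl N14223 D28324
theorem N17987 : nd 17987 = n28325 := ndS (p := 14224) (l := 1) rfl N14224 D28325
theorem N17988 : nd 17988 = n28326 := ndS (p := 14224) (l := 5) rfl N14224 D28326
theorem N17989 : nd 17989 = n28327 := ndS (p := 14225) (l := 0) rfl N14225 D28327
theorem N17990 : nd 17990 = n28328 := ndS (p := 14225) (l := 5) rfl N14225 D28328
theorem N17991 : nd 17991 = n28329 := ndS (p := 14226) (l := 1) rfl N14226 D28329
theorem N17992 : nd 17992 = n28330 := ndS (p := 14227) (l := 4) rfl N14227 D28330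
theorem N17993 : nd 17993 = n28331 := ndS (p := 14227) (l := 5) rfl N14227 D28331
theorem N17994 : nd 17994 = n28332 := ndS (p := 14229) (l := 5) rfl N14229 D28332
theorem N17995 : nd 17995 = n28333 := ndS (p := 14230) (l := 1) rfl N14230 D28333
theorem N17996 : nd 17996 = n28334 := ndS (p := 14230) (l := 6) rfl N14230 D28334
theorem N17997 : nd 17997 = n28335 := ndS (p := 14231) (l := 0) rfl N14231 D28335
theorem N17998 : nd 17998 = n28336 := ndS (p := 14231) (l := 6) rfl N14231 D28336
theorem N17999 : nd 17999 = n28337 := ndS (p := 14232) (l := 1) rfl N14232 D28337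
theorem N18000 : nd 18000 = n28338 := ndS (p := 14233) (l := 3) rfl N14233 D28338
theorem N18001 : nd 18001 = n28339 := ndS (p := 14233) (l := 5) rfl N14233 D28339
theorem N18002 : nd 18002 = n28340 := ndS (p := 14233) (l := 6) rfl N14233 D28340
theorem N18003 : nd 18003 = n28341 := ndS (p := 14234) (l := 4) rfl N14234 D28341
theorem N18004 : nd 18004 = n28342 := ndS (p := 14235) (l := 3) rfl N14235 D28342
theorem N18005 : nd 18005 = n28343 := ndS (p := 14235) (l := 5) rfl N14235 D28343
theorem N18006 : nd 18006 = n28344 := ndS (p := 14235) (l := 6) rfl N14235 D28344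
theorem N18007 : nd 18007 = n28345 := ndS (p := 14236) (l := 4) rfl N14236 D28345
theorem N18008 : nd 18008 = n28346 := ndS (p := 14238) (l := 0) rfl N14238 D28346
theorem N18009 : nd 18009 = n28347 := ndS (p := 14238) (l := 2) rfl N14238 D28347
theorem N18010 : nd 18010 = n28348 := ndS (p := 14239) (l := 1) rfl N14239 D28348
theorem N18011 : nd 18011 = n28349 := ndS (p := 14239) (l := 3) rfl N14239 D28349
theorem N18012 : nd 18012 = n28350 := ndS (p := 14240) (l := 2) rfl N14240 D28350
theorem N18013 : nd 18013 = n28351 := ndS (p := 14240) (l := 4) rfl N14240 D28351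
theorem N18014 : nd 18014 = n28352 := ndS (p := 14242) (l := 0) rfl N14242 D28352
theorem N18015 : nd 18015 = n28353 := ndS (p := 14242) (l := 2) rfl N14242 D28353
theorem N18016 : nd 18016 = n28354 := ndS (p := 14243) (l := 1) rfl N14243 D28354
theorem N18017 : nd 18017 = n28355 := ndS (p := 14243) (l := 3) rfl N14243 D28355
theorem N18018 : nd 18018 = n28356 := ndS (p := 14244) (l := 2) rfl N14244 D28356
theorem N18019 : nd 18019 = n28357 := ndS (p := 14244) (l := 4) rfl N14244 D28357
theorem N18020 : nd 18020 = n28358 := ndS (p := 14245) (l := 2) rfl N14245 D28358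
theorem N18021 : nd 18021 = n28359 := ndS (p := 14245) (l := 5) rfl N14245 D28359
theorem N18022 : nd 18022 = n28360 := ndS (p := 14245) (l := 6) rfl N14245 D28360
theorem N18023 : nd 18023 = n28361 := ndS (p := 14246) (l := 6) rfl N14246 D28361
theorem N18024 : nd 18024 = n28362 := ndS (p := 14247) (l := 1) rfl N14247 D28362
theorem N18025 : nd 18025 = n28363 := ndS (p := 14247) (l := 5) rfl N14247 D28363
theorem N18026 : nd 18026 = n28364 := ndS (p := 14252) (l := 2) rfl N14252 D28364
theorem N18027 : nd 18027 = n28365 := ndS (p := 14253) (l := 1) rfl N14253 D28365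
theorem N18028 : nd 18028 = n28366 := ndS (p := 14253) (l := 3) rfl N14253 D28366
theorem N18029 : nd 18029 = n28367 := ndS (p := 14254) (l := 2) rfl N14254 D28367
theorem N18030 : nd 18030 = n28368 := ndS (p := 14254) (l := 4) rfl N14254 D28368
theorem N18031 : nd 18031 = n28369 := ndS (p := 14254) (l := 5) rfl N14254 D28369
theorem N18032 : nd 18032 = n28370 := ndS (p := 14255) (l := 1) rfl N14255 D28370
theorem N18033 : nd 18033 = n28371 := ndS (p := 14256) (l := 1) rfl N14256 D28371
theorem N18034 : nd 18034 = n28372 := ndS (p := 14256) (l := 3) rfl N14256 D28372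
theorem N18035 : nd 18035 = n28373 := ndS (p := 14257) (l := 0) rfl N14257 D28373
theorem N18036 : nd 18036 = n28374 := ndS (p := 14257) (l := 3) rfl N14257 D28374
theorem N18037 : nd 18037 = n28375 := ndS (p := 14257) (l := 5) rfl N14257 D28375
theorem N18038 : nd 18038 = n28376 := ndS (p := 14257) (l := 6) rfl N14257 D28376
theorem N18039 : nd 18039 = n28377 := ndS (p := 14258) (l := 4) rfl N14258 D28377
theorem N18040 : nd 18040 = n28378 := ndS (p := 14258) (l := 5) rfl N14258 D28378
theorem N18041 : nd 18041 = n28379 := ndS (p := 14259) (l := 1) rfl N14259 D28379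
theorem N18042 : nd 18042 = n28380 := ndS (p := 14260) (l := 5) rfl N14260 D28380
theorem N18043 : nd 18043 = n28381 := ndS (p := 14261) (l := 5) rfl N14261 D28381
theorem N18044 : nd 18044 = n28382 := ndS (p := 14262) (l := 1) rfl N14262 D28382
theorem N18045 : nd 18045 = n28383 := ndS (p := 14262) (l := 6) rfl N14262 D28383
theorem N18046 : nd 18046 = n28384 := ndS (p := 14263) (l := 0) rfl N14263 D28384
theorem N18047 : nd 18047 = n28385 := ndS (p := 14263) (l := 6) rfl N14263 D28385
theorem N18048 : nd 18048 = n28386 := ndS (p := 14264) (l := 1) rfl N14264 D28386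
theorem N18049 : nd 18049 = n28387 := ndS (p := 14265) (l := 2) rfl N14265 D28387
theorem N18050 : nd 18050 = n28388 := ndS (p := 14265) (l := 5) rfl N14265 D28388
theorem N18051 : nd 18051 = n28389 := ndS (p := 14265) (l := 6) rfl N14265 D28389
theorem N18052 : nd 18052 = n28390 := ndS (p := 14266) (l := 1) rfl N14266 D28390
theorem N18053 : nd 18053 = n28391 := ndS (p := 14266) (l := 6) rfl N14266 D28391
theorem N18054 : nd 18054 = n28392 := ndS (p := 14267) (l := 5) rfl N14267 D28392
theorem N18055 : nd 18055 = n28393 := ndS (p := 14272) (l := 2) rfl N14272 D28393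
theorem N18056 : nd 18056 = n28394 := ndS (p := 14273) (l := 1) rfl N14273 D28394
theorem N18057 : nd 18057 = n28395 := ndS (p := 14273) (l := 3) rfl N14273 D28395
theorem N18058 : nd 18058 = n28396 := ndS (p := 14274) (l := 2) rfl N14274 D28396
theorem N18059 : nd 18059 = n28397 := ndS (p := 14274) (l := 4) rfl N14274 D28397
theorem N18060 : nd 18060 = n28398 := ndS (p := 14274) (l := 6) rfl N14274 D28398
theorem N18061 : nd 18061 = n28399 := ndS (p := 14275) (l := 1) rfl N14275 D28399
theorem N18062 : nd 18062 = n28400 := ndS (p := 14276) (l := 1) rfl N14276 D28400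
theorem N18063 : nd 18063 = n28401 := ndS (p := 14276) (l := 3) rfl N14276 D28401
theorem N18064 : nd 18064 = n28402 := ndS (p := 14277) (l := 0) rfl N14277 D28402
theorem N18065 : nd 18065 = n28403 := ndS (p := 14277) (l := 3) rfl N14277 D28403
theorem N18066 : nd 18066 = n28404 := ndS (p := 14277) (l := 5) rfl N14277 D28404
theorem N18067 : nd 18067 = n28405 := ndS (p := 14277) (l := 6) rfl N14277 D28405
theorem N18068 : nd 18068 = n28406 := ndS (p := 14278) (l := 4) rfl N14278 D28406
theorem N18069 : nd 18069 = n28407 := ndS (p := 14278) (l := 6) rfl N14278 D28407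
theorem N18070 : nd 18070 = n28408 := ndS (p := 14279) (l := 1) rfl N14279 D28408
theorem N18071 : nd 18071 = n28409 := ndS (p := 14280) (l := 6) rfl N14280 D28409
theorem N18072 : nd 18072 = n28410 := ndS (p := 14281) (l := 6) rfl N14281 D28410
theorem N18073 : nd 18073 = n28411 := ndS (p := 14282) (l := 1) rfl N14282 D28411
theorem N18074 : nd 18074 = n28412 := ndS (p := 14282) (l := 5) rfl N14282 D28412
theorem N18075 : nd 18075 = n28413 := ndS (p := 14283) (l := 0) rfl N14283 D28413
theorem N18076 : nd 18076 = n28414 := ndS (p := 14283) (l := 5) rfl N14283 D28414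
theorem N18077 : nd 18077 = n28415 := ndS (p := 14284) (l := 1) rfl N14284 D28415
theorem N18078 : nd 18078 = n28416 := ndS (p := 14285) (l := 2) rfl N14285 D28416
theorem N18079 : nd 18079 = n28417 := ndS (p := 14286) (l := 6) rfl N14286 D28417
theorem N18080 : nd 18080 = n28418 := ndS (p := 14287) (l := 1) rfl N14287 D28418
theorem N18081 : nd 18081 = n28419 := ndS (p := 14288) (l := 1) rfl N14288 D28419
theorem N18082 : nd 18082 = n28420 := ndS (p := 14288) (l := 3) rfl N14288 D28420
theorem N18083 : nd 18083 = n28421 := ndS (p := 14288) (l := 6) rfl N14288 D28421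
theorem N18084 : nd 18084 = n28422 := ndS (p := 14289) (l := 6) rfl N14289 D28422
theorem N18085 : nd 18085 = n28423 := ndS (p := 14290) (l := 6) rfl N14290 D28423
theorem N18086 : nd 18086 = n28424 := ndS (p := 14291) (l := 1) rfl N14291 D28424
theorem N18087 : nd 18087 = n28425 := ndS (p := 14291) (l := 5) rfl N14291 D28425
theorem N18088 : nd 18088 = n28426 := ndS (p := 14295) (l := 6) rfl N14295 D28426
theorem N18089 : nd 18089 = n28427 := ndS (p := 14297) (l := 1) rfl N14297 D28427
theorem N18090 : nd 18090 = n28428 := ndS (p := 14297) (l := 6) rfl N14297 D28428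
theorem N18091 : nd 18091 = n28429 := ndS (p := 14298) (l := 6) rfl N14298 D28429
theorem N18092 : nd 18092 = n28430 := ndS (p := 14299) (l := 6) rfl N14299 D28430
theorem N18093 : nd 18093 = n28431 := ndS (p := 14302) (l := 4) rfl N14302 D28431
theorem N18094 : nd 18094 = n28432 := ndS (p := 14304) (l := 6) rfl N14304 D28432
theorem N18095 : nd 18095 = n28433 := ndS (p := 14305) (l := 6) rfl N14305 D28433
theorem N18096 : nd 18096 = n28434 := ndS (p := 14306) (l := 6) rfl N14306 D28434
theorem N18097 : nd 18097 = n28435 := ndS (p := 14307) (l := 1) rfl N14307 D28435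
theorem N18098 : nd 18098 = n28436 := ndS (p := 14307) (l := 5) rfl N14307 D28436
theorem N18099 : nd 18099 = n28437 := ndS (p := 14308) (l := 1) rfl N14308 D28437
theorem N18100 : nd 18100 = n28438 := ndS (p := 14309) (l := 6) rfl N14309 D28438
theorem N18101 : nd 18101 = n28439 := ndS (p := 14310) (l := 1) rfl N14310 D28439
theorem N18102 : nd 18102 = n28440 := ndS (p := 14311) (l := 0) rfl N14311 D28440
theorem N18103 : nd 18103 = n28441 := ndS (p := 14311) (l := 2) rfl N14311 D28441
theorem N18104 : nd 18104 = n28442 := ndS (p := 14311) (l := 5) rfl N14311 D28442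
theorem N18105 : nd 18105 = n28443 := ndS (p := 14312) (l := 0) rfl N14312 D28443
theorem N18106 : nd 18106 = n28444 := ndS (p := 14312) (l := 2) rfl N14312 D28444
theorem N18107 : nd 18107 = n28445 := ndS (p := 14313) (l := 1) rfl N14313 D28445
theorem N18108 : nd 18108 = n28446 := ndS (p := 14313) (l := 2) rfl N14313 D28446
theorem N18109 : nd 18109 = n28447 := ndS (p := 14313) (l := 5) rfl N14313 D28447
theorem N18110 : nd 18110 = n28448 := ndS (p := 14314) (l := 5) rfl N14314 D28448
theorem N18111 : nd 18111 = n28449 := ndS (p := 14315) (l := 6) rfl N14315 D28449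
theorem N18112 : nd 18112 = n28450 := ndS (p := 14318) (l := 1) rfl N14318 D28450
theorem N18113 : nd 18113 = n28451 := ndS (p := 14319) (l := 6) rfl N14319 D28451
theorem N18114 : nd 18114 = n28452 := ndS (p := 14321) (l := 3) rfl N14321 D28452
theorem N18115 : nd 18115 = n28453 := ndS (p := 14322) (l := 5) rfl N14322 D28453
theorem N18116 : nd 18116 = n28454 := ndS (p := 14323) (l := 2) rfl N14323 D28454
theorem N18117 : nd 18117 = n28455 := ndS (p := 14324) (l := 3) rfl N14324 D28455
theorem N18118 : nd 18118 = n28456 := ndS (p := 14324) (l := 5) rfl N14324 D28456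
theorem N18119 : nd 18119 = n28457 := ndS (p := 14325) (l := 1) rfl N14325 D28457
theorem N18120 : nd 18120 = n28458 := ndS (p := 14327) (l := 3) rfl N14327 D28458
theorem N18121 : nd 18121 = n28459 := ndS (p := 14328) (l := 2) rfl N14328 D28459
theorem N18122 : nd 18122 = n28460 := ndS (p := 14328) (l := 4) rfl N14328 D28460
theorem N18123 : nd 18123 = n28461 := ndS (p := 14329) (l := 1) rfl N14329 D28461
theorem N18124 : nd 18124 = n28462 := ndS (p := 14329) (l := 6) rfl N14329 D28462
theorem N18125 : nd 18125 = n28463 := ndS (p := 14330) (l := 1) rfl N14330 D28463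
theorem N18126 : nd 18126 = n28464 := ndS (p := 14332) (l := 5) rfl N14332 D28464
theorem N18127 : nd 18127 = n28465 := ndS (p := 14334) (l := 6) rfl N14334 D28465
theorem N18128 : nd 18128 = n28466 := ndS (p := 14335) (l := 5) rfl N14335 D28466
theorem N18129 : nd 18129 = n28467 := ndS (p := 14336) (l := 6) rfl N14336 D28467
theorem N18130 : nd 18130 = n28468 := ndS (p := 14338) (l := 1) rfl N14338 D28468
theorem N18131 : nd 18131 = n28469 := ndS (p := 14339) (l := 5) rfl N14339 D28469
theorem N18132 : nd 18132 = n28470 := ndS (p := 14340) (l := 2) rfl N14340 D28470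
theorem N18133 : nd 18133 = n28471 := ndS (p := 14341) (l := 5) rfl N14341 D28471
theorem N18134 : nd 18134 = n28472 := ndS (p := 14342) (l := 1) rfl N14342 D28472
theorem N18135 : nd 18135 = n28473 := ndS (p := 14343) (l := 1) rfl N14343 D28473
theorem N18136 : nd 18136 = n28474 := ndS (p := 14343) (l := 3) rfl N14343 D28474
theorem N18137 : nd 18137 = n28475 := ndS (p := 14343) (l := 5) rfl N14343 D28475
theorem N18138 : nd 18138 = n28476 := ndS (p := 14344) (l := 5) rfl N14344 D28476
theorem N18139 : nd 18139 = n28477 := ndS (p := 14345) (l := 1) rfl N14345 D28477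
theorem N18140 : nd 18140 = n28478 := ndS (p := 14345) (l := 6) rfl N14345 D28478
theorem N18141 : nd 18141 = n28479 := ndS (p := 14346) (l := 5) rfl N14346 D28479
theorem N18142 : nd 18142 = n28480 := ndS (p := 14350) (l := 5) rfl N14350 D28480
theorem N18143 : nd 18143 = n28481 := ndS (p := 14352) (l := 1) rfl N14352 D28481
theorem N18144 : nd 18144 = n28482 := ndS (p := 14352) (l := 5) rfl N14352 D28482
theorem N18145 : nd 18145 = n28483 := ndS (p := 14353) (l := 5) rfl N14353 D28483
theorem N18146 : nd 18146 = n28484 := ndS (p := 14355) (l := 5) rfl N14355 D28484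
theorem N18147 : nd 18147 = n28485 := ndS (p := 14357) (l := 4) rfl N14357 D28485
theorem N18148 : nd 18148 = n28486 := ndS (p := 14359) (l := 5) rfl N14359 D28486
theorem N18149 : nd 18149 = n28487 := ndS (p := 14360) (l := 5) rfl N14360 D28487
theorem N18150 : nd 18150 = n28488 := ndS (p := 14361) (l := 5) rfl N14361 D28488
theorem N18151 : nd 18151 = n28489 := ndS (p := 14362) (l := 1) rfl N14362 D28489
theorem N18152 : nd 18152 = n28490 := ndS (p := 14362) (l := 6) rfl N14362 D28490
theorem N18153 : nd 18153 = n28491 := ndS (p := 14363) (l := 1) rfl N14363 D28491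
theorem N18154 : nd 18154 = n28492 := ndS (p := 14364) (l := 5) rfl N14364 D28492
theorem N18155 : nd 18155 = n28493 := ndS (p := 14365) (l := 1) rfl N14365 D28493
theorem N18156 : nd 18156 = n28494 := ndS (p := 14366) (l := 0) rfl N14366 D28494
theorem N18157 : nd 18157 = n28495 := ndS (p := 14366) (l := 2) rfl N14366 D28495
theorem N18158 : nd 18158 = n28496 := ndS (p := 14366) (l := 6) rfl N14366 D28496
theorem N18159 : nd 18159 = n28497 := ndS (p := 14367) (l := 0) rfl N14367 D28497
theorem N18160 : nd 18160 = n28498 := ndS (p := 14367) (l := 2) rfl N14367 D28498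
theorem N18161 : nd 18161 = n28499 := ndS (p := 14368) (l := 1) rfl N14368 D28499
theorem N18162 : nd 18162 = n28500 := ndS (p := 14368) (l := 2) rfl N14368 D28500
theorem N18163 : nd 18163 = n28501 := ndS (p := 14368) (l := 6) rfl N14368 D28501
theorem N18164 : nd 18164 = n28502 := ndS (p := 14369) (l := 6) rfl N14369 D28502
theorem N18165 : nd 18165 = n28503 := ndS (p := 14370) (l := 5) rfl N14370 D28503
theorem N18166 : nd 18166 = n28504 := ndS (p := 14373) (l := 1) rfl N14373 D28504
theorem N18167 : nd 18167 = n28505 := ndS (p := 14374) (l := 5) rfl N14374 D28505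
theorem N18168 : nd 18168 = n28506 := ndS (p := 14376) (l := 3) rfl N14376 D28506
theorem N18169 : nd 18169 = n28507 := ndS (p := 14377) (l := 6) rfl N14377 D28507
theorem N18170 : nd 18170 = n28508 := ndS (p := 14378) (l := 2) rfl N14378 D28508
theorem N18171 : nd 18171 = n28509 := ndS (p := 14379) (l := 3) rfl N14379 D28509
theorem N18172 : nd 18172 = n28510 := ndS (p := 14379) (l := 6) rfl N14379 D28510
theorem N18173 : nd 18173 = n28511 := ndS (p := 14380) (l := 1) rfl N14380 D28511
theorem N18174 : nd 18174 = n28512 := ndS (p := 14383) (l := 2) rfl N14383 D28512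
theorem N18175 : nd 18175 = n28513 := ndS (p := 14384) (l := 1) rfl N14384 D28513
theorem N18176 : nd 18176 = n28514 := ndS (p := 14384) (l := 5) rfl N14384 D28514
theorem N18177 : nd 18177 = n28515 := ndS (p := 14386) (l := 1) rfl N14386 D28515
theorem N18178 : nd 18178 = n28516 := ndS (p := 14387) (l := 6) rfl N14387 D28516
theorem N18179 : nd 18179 = n28517 := ndS (p := 14389) (l := 5) rfl N14389 D28517
theorem N18180 : nd 18180 = n28518 := ndS (p := 14390) (l := 6) rfl N14390 D28518
theorem N18181 : nd 18181 = n28519 := ndS (p := 14391) (l := 5) rfl N14391 D28519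
theorem N18182 : nd 18182 = n28520 := ndS (p := 14393) (l := 1) rfl N14393 D28520
theorem N18183 : nd 18183 = n28521 := ndS (p := 14394) (l := 6) rfl N14394 D28521
theorem N18184 : nd 18184 = n28522 := ndS (p := 14396) (l := 2) rfl N14396 D28522
theorem N18185 : nd 18185 = n28523 := ndS (p := 14397) (l := 3) rfl N14397 D28523
theorem N18186 : nd 18186 = n28524 := ndS (p := 14399) (l := 4) rfl N14399 D28524
theorem N18187 : nd 18187 = n28525 := ndS (p := 14400) (l := 1) rfl N14400 D28525
theorem N18188 : nd 18188 = n28526 := ndS (p := 14401) (l := 6) rfl N14401 D28526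
theorem N18189 : nd 18189 = n28527 := ndS (p := 14402) (l := 3) rfl N14402 D28527
theorem N18190 : nd 18190 = n28528 := ndS (p := 14402) (l := 6) rfl N14402 D28528
theorem N18191 : nd 18191 = n28529 := ndS (p := 14403) (l := 6) rfl N14403 D28529
theorem N18192 : nd 18192 = n28530 := ndS (p := 14404) (l := 1) rfl N14404 D28530
theorem N18193 : nd 18193 = n28531 := ndS (p := 14405) (l := 6) rfl N14405 D28531
theorem N18194 : nd 18194 = n28532 := ndS (p := 14406) (l := 1) rfl N14406 D28532
theorem N18195 : nd 18195 = n28533 := ndS (p := 14407) (l := 0) rfl N14407 D28533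
theorem N18196 : nd 18196 = n28534 := ndS (p := 14407) (l := 2) rfl N14407 D28534
theorem N18197 : nd 18197 = n28535 := ndS (p := 14407) (l := 5) rfl N14407 D28535
theorem N18198 : nd 18198 = n28536 := ndS (p := 14408) (l := 2) rfl N14408 D28536
theorem N18199 : nd 18199 = n28537 := ndS (p := 14408) (l := 5) rfl N14408 D28537
theorem N18200 : nd 18200 = n28538 := ndS (p := 14409) (l := 3) rfl N14409 D28538
theorem N18201 : nd 18201 = n28539 := ndS (p := 14409) (l := 5) rfl N14409 D28539
theorem N18202 : nd 18202 = n28540 := ndS (p := 14410) (l := 1) rfl N14410 D28540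
theorem N18203 : nd 18203 = n28541 := ndS (p := 14411) (l := 0) rfl N14411 D28541
theorem N18204 : nd 18204 = n28542 := ndS (p := 14411) (l := 2) rfl N14411 D28542
theorem N18205 : nd 18205 = n28543 := ndS (p := 14412) (l := 2) rfl N14412 D28543
theorem N18206 : nd 18206 = n28544 := ndS (p := 14413) (l := 2) rfl N14413 D28544
theorem N18207 : nd 18207 = n28545 := ndS (p := 14415) (l := 1) rfl N14415 D28545
theorem N18208 : nd 18208 = n28546 := ndS (p := 14415) (l := 5) rfl N14415 D28546
theorem N18209 : nd 18209 = n28547 := ndS (p := 14418) (l := 2) rfl N14418 D28547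
theorem N18210 : nd 18210 = n28548 := ndS (p := 14419) (l := 3) rfl N14419 D28548
theorem N18211 : nd 18211 = n28549 := ndS (p := 14421) (l := 4) rfl N14421 D28549
theorem N18212 : nd 18212 = n28550 := ndS (p := 14422) (l := 1) rfl N14422 D28550
theorem N18213 : nd 18213 = n28551 := ndS (p := 14423) (l := 5) rfl N14423 D28551
theorem N18214 : nd 18214 = n28552 := ndS (p := 14424) (l := 3) rfl N14424 D28552
theorem N18215 : nd 18215 = n28553 := ndS (p := 14424) (l := 5) rfl N14424 D28553
theorem N18216 : nd 18216 = n28554 := ndS (p := 14425) (l := 1) rfl N14425 D28554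
theorem N18217 : nd 18217 = n28555 := ndS (p := 14426) (l := 5) rfl N14426 D28555
theorem N18218 : nd 18218 = n28556 := ndS (p := 14427) (l := 5) rfl N14427 D28556
theorem N18219 : nd 18219 = n28557 := ndS (p := 14428) (l := 1) rfl N14428 D28557
theorem N18220 : nd 18220 = n28558 := ndS (p := 14429) (l := 0) rfl N14429 D28558
theorem N18221 : nd 18221 = n28559 := ndS (p := 14429) (l := 2) rfl N14429 D28559
theorem N18222 : nd 18222 = n28560 := ndS (p := 14429) (l := 6) rfl N14429 D28560
theorem N18223 : nd 18223 = n28561 := ndS (p := 14430) (l := 2) rfl N14430 D28561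
theorem N18224 : nd 18224 = n28562 := ndS (p := 14430) (l := 6) rfl N14430 D28562
theorem N18225 : nd 18225 = n28563 := ndS (p := 14431) (l := 3) rfl N14431 D28563
theorem N18226 : nd 18226 = n28564 := ndS (p := 14431) (l := 6) rfl N14431 D28564
theorem N18227 : nd 18227 = n28565 := ndS (p := 14432) (l := 1) rfl N14432 D28565
theorem N18228 : nd 18228 = n28566 := ndS (p := 14433) (l := 0) rfl N14433 D28566
theorem N18229 : nd 18229 = n28567 := ndS (p := 14433) (l := 2) rfl N14433 D28567
theorem N18230 : nd 18230 = n28568 := ndS (p := 14434) (l := 2) rfl N14434 D28568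
theorem N18231 : nd 18231 = n28569 := ndS (p := 14435) (l := 2) rfl N14435 D28569
theorem N18232 : nd 18232 = n28570 := ndS (p := 14437) (l := 1) rfl N14437 D28570
theorem N18233 : nd 18233 = n28571 := ndS (p := 14437) (l := 6) rfl N14437 D28571
theorem N18234 : nd 18234 = n28572 := ndS (p := 14439) (l := 5) rfl N14439 D28572
theorem N18235 : nd 18235 = n28573 := ndS (p := 14441) (l := 6) rfl N14441 D28573
theorem N18236 : nd 18236 = n28574 := ndS (p := 14442) (l := 3) rfl N14442 D28574
theorem N18237 : nd 18237 = n28575 := ndS (p := 14442) (l := 6) rfl N14442 D28575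
theorem N18238 : nd 18238 = n28576 := ndS (p := 14443) (l := 6) rfl N14443 D28576
theorem N18239 : nd 18239 = n28577 := ndS (p := 14444) (l := 1) rfl N14444 D28577
theorem N18240 : nd 18240 = n28578 := ndS (p := 14444) (l := 5) rfl N14444 D28578
theorem N18241 : nd 18241 = n28579 := ndS (p := 14445) (l := 6) rfl N14445 D28579
theorem N18242 : nd 18242 = n28580 := ndS (p := 14446) (l := 1) rfl N14446 D28580
theorem N18243 : nd 18243 = n28581 := ndS (p := 14447) (l := 0) rfl N14447 D28581
theorem N18244 : nd 18244 = n28582 := ndS (p := 14447) (l := 2) rfl N14447 D28582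
theorem N18245 : nd 18245 = n28583 := ndS (p := 14447) (l := 5) rfl N14447 D28583
theorem N18246 : nd 18246 = n28584 := ndS (p := 14448) (l := 0) rfl N14448 D28584
theorem N18247 : nd 18247 = n28585 := ndS (p := 14448) (l := 5) rfl N14448 D28585
theorem N18248 : nd 18248 = n28586 := ndS (p := 14449) (l := 1) rfl N14449 D28586
theorem N18249 : nd 18249 = n28587 := ndS (p := 14449) (l := 2) rfl N14449 D28587
theorem N18250 : nd 18250 = n28588 := ndS (p := 14449) (l := 5) rfl N14449 D28588
theorem N18251 : nd 18251 = n28589 := ndS (p := 14450) (l := 5) rfl N14450 D28589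
theorem N18252 : nd 18252 = n28590 := ndS (p := 14454) (l := 3) rfl N14454 D28590
theorem N18253 : nd 18253 = n28591 := ndS (p := 14455) (l := 6) rfl N14455 D28591
theorem N18254 : nd 18254 = n28592 := ndS (p := 14456) (l := 1) rfl N14456 D28592
theorem N18255 : nd 18255 = n28593 := ndS (p := 14457) (l := 0) rfl N14457 D28593
theorem N18256 : nd 18256 = n28594 := ndS (p := 14457) (l := 2) rfl N14457 D28594
theorem N18257 : nd 18257 = n28595 := ndS (p := 14458) (l := 6) rfl N14458 D28595
theorem N18258 : nd 18258 = n28596 := ndS (p := 14459) (l := 1) rfl N14459 D28596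
theorem N18259 : nd 18259 = n28597 := ndS (p := 14459) (l := 5) rfl N14459 D28597
theorem N18260 : nd 18260 = n28598 := ndS (p := 14460) (l := 0) rfl N14460 D28598
theorem N18261 : nd 18261 = n28599 := ndS (p := 14460) (l := 2) rfl N14460 D28599
theorem N18262 : nd 18262 = n28600 := ndS (p := 14460) (l := 5) rfl N14460 D28600
theorem N18263 : nd 18263 = n28601 := ndS (p := 14462) (l := 1) rfl N14462 D28601
theorem N18264 : nd 18264 = n28602 := ndS (p := 14462) (l := 2) rfl N14462 D28602
theorem N18265 : nd 18265 = n28603 := ndS (p := 14462) (l := 5) rfl N14462 D28603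
theorem N18266 : nd 18266 = n28604 := ndS (p := 14463) (l := 3) rfl N14463 D28604
theorem N18267 : nd 18267 = n28605 := ndS (p := 14463) (l := 5) rfl N14463 D28605
theorem N18268 : nd 18268 = n28606 := ndS (p := 14464) (l := 6) rfl N14464 D28606
theorem N18269 : nd 18269 = n28607 := ndS (p := 14465) (l := 1) rfl N14465 D28607
theorem N18270 : nd 18270 = n28608 := ndS (p := 14465) (l := 2) rfl N14465 D28608
theorem N18271 : nd 18271 = n28609 := ndS (p := 14466) (l := 3) rfl N14466 D28609
theorem N18272 : nd 18272 = n28610 := ndS (p := 14467) (l := 6) rfl N14467 D28610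
theorem N18273 : nd 18273 = n28611 := ndS (p := 14468) (l := 0) rfl N14468 D28611
theorem N18274 : nd 18274 = n28612 := ndS (p := 14468) (l := 2) rfl N14468 D28612
theorem N18275 : nd 18275 = n28613 := ndS (p := 14468) (l := 5) rfl N14468 D28613
theorem N18276 : nd 18276 = n28614 := ndS (p := 14469) (l := 1) rfl N14469 D28614
theorem N18277 : nd 18277 = n28615 := ndS (p := 14469) (l := 3) rfl N14469 D28615
theorem N18278 : nd 18278 = n28616 := ndS (p := 14470) (l := 2) rfl N14470 D28616
theorem N18279 : nd 18279 = n28617 := ndS (p := 14470) (l := 4) rfl N14470 D28617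
theorem N18280 : nd 18280 = n28618 := ndS (p := 14470) (l := 5) rfl N14470 D28618
theorem N18281 : nd 18281 = n28619 := ndS (p := 14471) (l := 1) rfl N14471 D28619
theorem N18282 : nd 18282 = n28620 := ndS (p := 14472) (l := 0) rfl N14472 D28620
theorem N18283 : nd 18283 = n28621 := ndS (p := 14472) (l := 2) rfl N14472 D28621
theorem N18284 : nd 18284 = n28622 := ndS (p := 14472) (l := 6) rfl N14472 D28622
theorem N18285 : nd 18285 = n28623 := ndS (p := 14473) (l := 1) rfl N14473 D28623
theorem N18286 : nd 18286 = n28624 := ndS (p := 14473) (l := 6) rfl N14473 D28624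
theorem N18287 : nd 18287 = n28625 := ndS (p := 14474) (l := 6) rfl N14474 D28625
theorem N18288 : nd 18288 = n28626 := ndS (p := 14475) (l := 5) rfl N14475 D28626
theorem N18289 : nd 18289 = n28627 := ndS (p := 14479) (l := 6) rfl N14479 D28627
theorem N18290 : nd 18290 = n28628 := ndS (p := 14482) (l := 6) rfl N14482 D28628
theorem N18291 : nd 18291 = n28629 := ndS (p := 14484) (l := 5) rfl N14484 D28629
theorem N18292 : nd 18292 = n28630 := ndS (p := 14485) (l := 1) rfl N14485 D28630
theorem N18293 : nd 18293 = n28631 := ndS (p := 14488) (l := 6) rfl N14488 D28631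
theorem N18294 : nd 18294 = n28632 := ndS (p := 14490) (l := 5) rfl N14490 D28632
theorem N18295 : nd 18295 = n28633 := ndS (p := 14491) (l := 3) rfl N14491 D28633
theorem N18296 : nd 18296 = n28634 := ndS (p := 14491) (l := 5) rfl N14491 D28634
theorem N18297 : nd 18297 = n28635 := ndS (p := 14492) (l := 1) rfl N14492 D28635
theorem N18298 : nd 18298 = n28636 := ndS (p := 14492) (l := 6) rfl N14492 D28636
theorem N18299 : nd 18299 = n28637 := ndS (p := 14493) (l := 5) rfl N14493 D28637
theorem N18300 : nd 18300 = n28638 := ndS (p := 14494) (l := 5) rfl N14494 D28638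
theorem N18301 : nd 18301 = n28639 := ndS (p := 14495) (l := 1) rfl N14495 D28639
theorem N18302 : nd 18302 = n28640 := ndS (p := 14496) (l := 0) rfl N14496 D28640
theorem N18303 : nd 18303 = n28641 := ndS (p := 14496) (l := 2) rfl N14496 D28641
theorem N18304 : nd 18304 = n28642 := ndS (p := 14496) (l := 6) rfl N14496 D28642
theorem N18305 : nd 18305 = n28643 := ndS (p := 14497) (l := 0) rfl N14497 D28643
theorem N18306 : nd 18306 = n28644 := ndS (p := 14498) (l := 1) rfl N14498 D28644
theorem N18307 : nd 18307 = n28645 := ndS (p := 14498) (l := 2) rfl N14498 D28645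
theorem N18308 : nd 18308 = n28646 := ndS (p := 14498) (l := 6) rfl N14498 D28646
theorem N18309 : nd 18309 = n28647 := ndS (p := 14503) (l := 3) rfl N14503 D28647
theorem N18310 : nd 18310 = n28648 := ndS (p := 14504) (l := 5) rfl N14504 D28648
theorem N18311 : nd 18311 = n28649 := ndS (p := 14505) (l := 1) rfl N14505 D28649
theorem N18312 : nd 18312 = n28650 := ndS (p := 14506) (l := 0) rfl N14506 D28650
theorem N18313 : nd 18313 = n28651 := ndS (p := 14506) (l := 2) rfl N14506 D28651
theorem N18314 : nd 18314 = n28652 := ndS (p := 14507) (l := 5) rfl N14507 D28652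
theorem N18315 : nd 18315 = n28653 := ndS (p := 14508) (l := 1) rfl N14508 D28653
theorem N18316 : nd 18316 = n28654 := ndS (p := 14508) (l := 6) rfl N14508 D28654
theorem N18317 : nd 18317 = n28655 := ndS (p := 14509) (l := 0) rfl N14509 D28655
theorem N18318 : nd 18318 = n28656 := ndS (p := 14509) (l := 2) rfl N14509 D28656
theorem N18319 : nd 18319 = n28657 := ndS (p := 14509) (l := 6) rfl N14509 D28657
theorem N18320 : nd 18320 = n28658 := ndS (p := 14511) (l := 1) rfl N14511 D28658
theorem N18321 : nd 18321 = n28659 := ndS (p := 14511) (l := 2) rfl N14511 D28659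
theorem N18322 : nd 18322 = n28660 := ndS (p := 14511) (l := 6) rfl N14511 D28660
theorem N18323 : nd 18323 = n28661 := ndS (p := 14512) (l := 3) rfl N14512 D28661
theorem N18324 : nd 18324 = n28662 := ndS (p := 14512) (l := 6) rfl N14512 D28662
theorem N18325 : nd 18325 = n28663 := ndS (p := 14513) (l := 5) rfl N14513 D28663
theorem N18326 : nd 18326 = n28664 := ndS (p := 14514) (l := 1) rfl N14514 D28664
theorem N18327 : nd 18327 = n28665 := ndS (p := 14514) (l := 2) rfl N14514 D28665
theorem N18328 : nd 18328 = n28666 := ndS (p := 14515) (l := 3) rfl N14515 D28666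
theorem N18329 : nd 18329 = n28667 := ndS (p := 14516) (l := 5) rfl N14516 D28667
theorem N18330 : nd 18330 = n28668 := ndS (p := 14517) (l := 0) rfl N14517 D28668
theorem N18331 : nd 18331 = n28669 := ndS (p := 14517) (l := 2) rfl N14517 D28669
theorem N18332 : nd 18332 = n28670 := ndS (p := 14517) (l := 6) rfl N14517 D28670
theorem N18333 : nd 18333 = n28671 := ndS (p := 14518) (l := 1) rfl N14518 D28671
theorem N18334 : nd 18334 = n28672 := ndS (p := 14518) (l := 3) rfl N14518 D28672
theorem N18335 : nd 18335 = n28673 := ndS (p := 14519) (l := 2) rfl N14519 D28673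
theorem N18336 : nd 18336 = n28674 := ndS (p := 14519) (l := 4) rfl N14519 D28674
theorem N18337 : nd 18337 = n28675 := ndS (p := 14519) (l := 6) rfl N14519 D28675
theorem N18338 : nd 18338 = n28676 := ndS (p := 14520) (l := 1) rfl N14520 D28676
theorem N18339 : nd 18339 = n28677 := ndS (p := 14521) (l := 0) rfl N14521 D28677
theorem N18340 : nd 18340 = n28678 := ndS (p := 14521) (l := 2) rfl N14521 D28678
theorem N18341 : nd 18341 = n28679 := ndS (p := 14521) (l := 5) rfl N14521 D28679
theorem N18342 : nd 18342 = n28680 := ndS (p := 14522) (l := 1) rfl N14522 D28680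
theorem N18343 : nd 18343 = n28681 := ndS (p := 14522) (l := 5) rfl N14522 D28681
theorem N18344 : nd 18344 = n28682 := ndS (p := 14523) (l := 5) rfl N14523 D28682
theorem N18345 : nd 18345 = n28683 := ndS (p := 14524) (l := 6) rfl N14524 D28683
theorem N18346 : nd 18346 = n28684 := ndS (p := 14528) (l := 5) rfl N14528 D28684
theorem N18347 : nd 18347 = n28685 := ndS (p := 14531) (l := 5) rfl N14531 D28685
theorem N18348 : nd 18348 = n28686 := ndS (p := 14533) (l := 6) rfl N14533 D28686
theorem N18349 : nd 18349 = n28687 := ndS (p := 14534) (l := 1) rfl N14534 D28687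
theorem N18350 : nd 18350 = n28688 := ndS (p := 14537) (l := 1) rfl N14537 D28688
theorem N18351 : nd 18351 = n28689 := ndS (p := 14539) (l := 6) rfl N14539 D28689
theorem N18352 : nd 18352 = n28690 := ndS (p := 14540) (l := 4) rfl N14540 D28690
theorem N18353 : nd 18353 = n28691 := ndS (p := 14540) (l := 6) rfl N14540 D28691
theorem N18354 : nd 18354 = n28692 := ndS (p := 14541) (l := 3) rfl N14541 D28692
theorem N18355 : nd 18355 = n28693 := ndS (p := 14541) (l := 6) rfl N14541 D28693
theorem N18356 : nd 18356 = n28694 := ndS (p := 14543) (l := 1) rfl N14543 D28694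
theorem N18357 : nd 18357 = n28695 := ndS (p := 14545) (l := 1) rfl N14545 D28695
theorem N18358 : nd 18358 = n28696 := ndS (p := 14546) (l := 0) rfl N14546 D28696
theorem N18359 : nd 18359 = n28697 := ndS (p := 14546) (l := 2) rfl N14546 D28697
theorem N18360 : nd 18360 = n28698 := ndS (p := 14548) (l := 1) rfl N14548 D28698
theorem N18361 : nd 18361 = n28699 := ndS (p := 14549) (l := 6) rfl N14549 D28699
theorem N18362 : nd 18362 = n28700 := ndS (p := 14550) (l := 1) rfl N14550 D28700
theorem N18363 : nd 18363 = n28701 := ndS (p := 14550) (l := 5) rfl N14550 D28701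
theorem N18364 : nd 18364 = n28702 := ndS (p := 14551) (l := 6) rfl N14551 D28702
theorem N18365 : nd 18365 = n28703 := ndS (p := 14552) (l := 1) rfl N14552 D28703
theorem N18366 : nd 18366 = n28704 := ndS (p := 14552) (l := 5) rfl N14552 D28704
theorem N18367 : nd 18367 = n28705 := ndS (p := 14553) (l := 1) rfl N14553 D28705
theorem N18368 : nd 18368 = n28706 := ndS (p := 14554) (l := 0) rfl N14554 D28706
theorem N18369 : nd 18369 = n28707 := ndS (p := 14554) (l := 5) rfl N14554 D28707
theorem N18370 : nd 18370 = n28708 := ndS (p := 14555) (l := 1) rfl N14555 D28708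
theorem N18371 : nd 18371 = n28709 := ndS (p := 14556) (l := 1) rfl N14556 D28709
theorem N18372 : nd 18372 = n28710 := ndS (p := 14557) (l := 1) rfl N14557 D28710
theorem N18373 : nd 18373 = n28711 := ndS (p := 14558) (l := 0) rfl N14558 D28711
theorem N18374 : nd 18374 = n28712 := ndS (p := 14558) (l := 2) rfl N14558 D28712
theorem N18375 : nd 18375 = n28713 := ndS (p := 14559) (l := 0) rfl N14559 D28713
theorem N18376 : nd 18376 = n28714 := ndS (p := 14559) (l := 2) rfl N14559 D28714
theorem N18377 : nd 18377 = n28715 := ndS (p := 14559) (l := 6) rfl N14559 D28715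
theorem N18378 : nd 18378 = n28716 := ndS (p := 14563) (l := 5) rfl N14563 D28716
theorem N18379 : nd 18379 = n28717 := ndS (p := 14564) (l := 6) rfl N14564 D28717
theorem N18380 : nd 18380 = n28718 := ndS (p := 14565) (l := 5) rfl N14565 D28718
theorem N18381 : nd 18381 = n28719 := ndS (p := 14566) (l := 2) rfl N14566 D28719
theorem N18382 : nd 18382 = n28720 := ndS (p := 14566) (l := 5) rfl N14566 D28720
theorem N18383 : nd 18383 = n28721 := ndS (p := 14567) (l := 2) rfl N14567 D28721
theorem N18384 : nd 18384 = n28722 := ndS (p := 14567) (l := 6) rfl N14567 D28722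
theorem N18385 : nd 18385 = n28723 := ndS (p := 14568) (l := 1) rfl N14568 D28723
theorem N18386 : nd 18386 = n28724 := ndS (p := 14568) (l := 3) rfl N14568 D28724
theorem N18387 : nd 18387 = n28725 := ndS (p := 14569) (l := 2) rfl N14569 D28725
theorem N18388 : nd 18388 = n28726 := ndS (p := 14569) (l := 4) rfl N14569 D28726
theorem N18389 : nd 18389 = n28727 := ndS (p := 14569) (l := 5) rfl N14569 D28727
theorem N18390 : nd 18390 = n28728 := ndS (p := 14570) (l := 1) rfl N14570 D28728
theorem N18391 : nd 18391 = n28729 := ndS (p := 14570) (l := 6) rfl N14570 D28729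
theorem N18392 : nd 18392 = n28730 := ndS (p := 14571) (l := 1) rfl N14571 D28730
theorem N18393 : nd 18393 = n28731 := ndS (p := 14572) (l := 1) rfl N14572 D28731
theorem N18394 : nd 18394 = n28732 := ndS (p := 14572) (l := 5) rfl N14572 D28732
theorem N18395 : nd 18395 = n28733 := ndS (p := 14572) (l := 6) rfl N14572 D28733
theorem N18396 : nd 18396 = n28734 := ndS (p := 14573) (l := 6) rfl N14573 D28734
theorem N18397 : nd 18397 = n28735 := ndS (p := 14575) (l := 0) rfl N14575 D28735
theorem N18398 : nd 18398 = n28736 := ndS (p := 14575) (l := 3) rfl N14575 D28736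
theorem N18399 : nd 18399 = n28737 := ndS (p := 14575) (l := 5) rfl N14575 D28737
theorem N18400 : nd 18400 = n28738 := ndS (p := 14575) (l := 6) rfl N14575 D28738
theorem N18401 : nd 18401 = n28739 := ndS (p := 14576) (l := 4) rfl N14576 D28739
theorem N18402 : nd 18402 = n28740 := ndS (p := 14578) (l := 1) rfl N14578 D28740
theorem N18403 : nd 18403 = n28741 := ndS (p := 14578) (l := 4) rfl N14578 D28741
theorem N18404 : nd 18404 = n28742 := ndS (p := 14579) (l := 5) rfl N14579 D28742
theorem N18405 : nd 18405 = n28744 := ndS (p := 14580) (l := 6) rfl N14580 D28744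
theorem N18406 : nd 18406 = n28746 := ndS (p := 14582) (l := 1) rfl N14582 D28746
theorem N18407 : nd 18407 = n28747 := ndS (p := 14583) (l := 0) rfl N14583 D28747
theorem N18408 : nd 18408 = n28748 := ndS (p := 14583) (l := 2) rfl N14583 D28748
theorem N18409 : nd 18409 = n28749 := ndS (p := 14583) (l := 5) rfl N14583 D28749
theorem N18410 : nd 18410 = n28750 := ndS (p := 14585) (l := 2) rfl N14585 D28750
theorem N18411 : nd 18411 = n28751 := ndS (p := 14586) (l := 5) rfl N14586 D28751
theorem N18412 : nd 18412 = n28752 := ndS (p := 14588) (l := 1) rfl N14588 D28752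
theorem N18413 : nd 18413 = n28753 := ndS (p := 14590) (l := 5) rfl N14590 D28753
theorem N18414 : nd 18414 = n28754 := ndS (p := 14591) (l := 4) rfl N14591 D28754
theorem N18415 : nd 18415 = n28755 := ndS (p := 14591) (l := 5) rfl N14591 D28755
theorem N18416 : nd 18416 = n28756 := ndS (p := 14592) (l := 3) rfl N14592 D28756
theorem N18417 : nd 18417 = n28757 := ndS (p := 14592) (l := 5) rfl N14592 D28757
theorem N18418 : nd 18418 = n28758 := ndS (p := 14593) (l := 1) rfl N14593 D28758
theorem N18419 : nd 18419 = n28759 := ndS (p := 14595) (l := 1) rfl N14595 D28759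
theorem N18420 : nd 18420 = n28760 := ndS (p := 14597) (l := 0) rfl N14597 D28760
theorem N18421 : nd 18421 = n28761 := ndS (p := 14597) (l := 2) rfl N14597 D28761
theorem N18422 : nd 18422 = n28762 := ndS (p := 14598) (l := 1) rfl N14598 D28762
theorem N18423 : nd 18423 = n28763 := ndS (p := 14600) (l := 5) rfl N14600 D28763
theorem N18424 : nd 18424 = n28764 := ndS (p := 14601) (l := 1) rfl N14601 D28764
theorem N18425 : nd 18425 = n28765 := ndS (p := 14601) (l := 6) rfl N14601 D28765
theorem N18426 : nd 18426 = n28766 := ndS (p := 14602) (l := 5) rfl N14602 D28766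
theorem N18427 : nd 18427 = n28767 := ndS (p := 14603) (l := 1) rfl N14603 D28767
theorem N18428 : nd 18428 = n28768 := ndS (p := 14603) (l := 6) rfl N14603 D28768
theorem N18429 : nd 18429 = n28769 := ndS (p := 14604) (l := 0) rfl N14604 D28769
theorem N18430 : nd 18430 = n28770 := ndS (p := 14604) (l := 6) rfl N14604 D28770
theorem N18431 : nd 18431 = n28771 := ndS (p := 14605) (l := 1) rfl N14605 D28771
theorem N18432 : nd 18432 = n28772 := ndS (p := 14606) (l := 1) rfl N14606 D28772
theorem N18433 : nd 18433 = n28773 := ndS (p := 14607) (l := 1) rfl N14607 D28773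
theorem N18434 : nd 18434 = n28774 := ndS (p := 14608) (l := 1) rfl N14608 D28774
theorem N18435 : nd 18435 = n28775 := ndS (p := 14609) (l := 0) rfl N14609 D28775
theorem N18436 : nd 18436 = n28776 := ndS (p := 14609) (l := 2) rfl N14609 D28776
theorem N18437 : nd 18437 = n28777 := ndS (p := 14609) (l := 5) rfl N14609 D28777
theorem N18438 : nd 18438 = n28778 := ndS (p := 14610) (l := 0) rfl N14610 D28778
theorem N18439 : nd 18439 = n28779 := ndS (p := 14610) (l := 2) rfl N14610 D28779
theorem N18440 : nd 18440 = n28780 := ndS (p := 14613) (l := 6) rfl N14613 D28780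
theorem N18441 : nd 18441 = n28781 := ndS (p := 14615) (l := 6) rfl N14615 D28781
theorem N18442 : nd 18442 = n28782 := ndS (p := 14616) (l := 5) rfl N14616 D28782
theorem N18443 : nd 18443 = n28783 := ndS (p := 14617) (l := 2) rfl N14617 D28783
theorem N18444 : nd 18444 = n28784 := ndS (p := 14617) (l := 6) rfl N14617 D28784
theorem N18445 : nd 18445 = n28785 := ndS (p := 14618) (l := 2) rfl N14618 D28785
theorem N18446 : nd 18446 = n28786 := ndS (p := 14618) (l := 5) rfl N14618 D28786
theorem N18447 : nd 18447 = n28787 := ndS (p := 14619) (l := 1) rfl N14619 D28787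
theorem N18448 : nd 18448 = n28788 := ndS (p := 14619) (l := 3) rfl N14619 D28788
theorem N18449 : nd 18449 = n28789 := ndS (p := 14620) (l := 2) rfl N14620 D28789
theorem N18450 : nd 18450 = n28790 := ndS (p := 14620) (l := 4) rfl N14620 D28790
theorem N18451 : nd 18451 = n28791 := ndS (p := 14620) (l := 6) rfl N14620 D28791
theorem N18452 : nd 18452 = n28792 := ndS (p := 14621) (l := 1) rfl N14621 D28792
theorem N18453 : nd 18453 = n28793 := ndS (p := 14621) (l := 5) rfl N14621 D28793
theorem N18454 : nd 18454 = n28794 := ndS (p := 14622) (l := 1) rfl N14622 D28794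
theorem N18455 : nd 18455 = n28795 := ndS (p := 14623) (l := 1) rfl N14623 D28795
theorem N18456 : nd 18456 = n28796 := ndS (p := 14623) (l := 5) rfl N14623 D28796
theorem N18457 : nd 18457 = n28797 := ndS (p := 14623) (l := 6) rfl N14623 D28797
theorem N18458 : nd 18458 = n28798 := ndS (p := 14625) (l := 5) rfl N14625 D28798
theorem N18459 : nd 18459 = n28799 := ndS (p := 14626) (l := 0) rfl N14626 D28799
theorem N18460 : nd 18460 = n28800 := ndS (p := 14626) (l := 5) rfl N14626 D28800
theorem N18461 : nd 18461 = n28801 := ndS (p := 14626) (l := 6) rfl N14626 D28801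
theorem N18462 : nd 18462 = n28802 := ndS (p := 14628) (l := 6) rfl N14628 D28802
theorem N18463 : nd 18463 = n28803 := ndS (p := 14629) (l := 5) rfl N14629 D28803
theorem N18464 : nd 18464 = n28804 := ndS (p := 14631) (l := 1) rfl N14631 D28804
theorem N18465 : nd 18465 = n28805 := ndS (p := 14632) (l := 0) rfl N14632 D28805
theorem N18466 : nd 18466 = n28806 := ndS (p := 14632) (l := 2) rfl N14632 D28806
theorem N18467 : nd 18467 = n28807 := ndS (p := 14632) (l := 6) rfl N14632 D28807
theorem N18468 : nd 18468 = n28808 := ndS (p := 14634) (l := 2) rfl N14634 D28808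
theorem N18469 : nd 18469 = n28809 := ndS (p := 14635) (l := 6) rfl N14635 D28809
theorem N18470 : nd 18470 = n28810 := ndS (p := 14638) (l := 6) rfl N14638 D28810
theorem N18471 : nd 18471 = n28811 := ndS (p := 14639) (l := 6) rfl N14639 D28811
theorem N18472 : nd 18472 = n28812 := ndS (p := 14641) (l := 1) rfl N14641 D28812
theorem N18473 : nd 18473 = n28813 := ndS (p := 14643) (l := 2) rfl N14643 D28813
theorem N18474 : nd 18474 = n28814 := ndS (p := 14644) (l := 0) rfl N14644 D28814
theorem N18475 : nd 18475 = n28815 := ndS (p := 14644) (l := 2) rfl N14644 D28815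
theorem N18476 : nd 18476 = n28816 := ndS (p := 14644) (l := 5) rfl N14644 D28816
theorem N18477 : nd 18477 = n28817 := ndS (p := 14645) (l := 5) rfl N14645 D28817
theorem N18478 : nd 18478 = n28818 := ndS (p := 14647) (l := 6) rfl N14647 D28818
theorem N18479 : nd 18479 = n28819 := ndS (p := 14648) (l := 6) rfl N14648 D28819
theorem N18480 : nd 18480 = n28820 := ndS (p := 14649) (l := 1) rfl N14649 D28820
theorem N18481 : nd 18481 = n28821 := ndS (p := 14649) (l := 5) rfl N14649 D28821
theorem N18482 : nd 18482 = n28822 := ndS (p := 14650) (l := 2) rfl N14650 D28822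
theorem N18483 : nd 18483 = n28823 := ndS (p := 14650) (l := 6) rfl N14650 D28823
theorem N18484 : nd 18484 = n28824 := ndS (p := 14651) (l := 6) rfl N14651 D28824
theorem N18485 : nd 18485 = n28825 := ndS (p := 14652) (l := 1) rfl N14652 D28825
theorem N18486 : nd 18486 = n28826 := ndS (p := 14652) (l := 5) rfl N14652 D28826
theorem N18487 : nd 18487 = n28827 := ndS (p := 14654) (l := 1) rfl N14654 D28827
theorem N18488 : nd 18488 = n28828 := ndS (p := 14655) (l := 0) rfl N14655 D28828
theorem N18489 : nd 18489 = n28829 := ndS (p := 14655) (l := 5) rfl N14655 D28829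
theorem N18490 : nd 18490 = n28830 := ndS (p := 14656) (l := 1) rfl N14656 D28830
theorem N18491 : nd 18491 = n28831 := ndS (p := 14658) (l := 1) rfl N14658 D28831
theorem N18492 : nd 18492 = n28832 := ndS (p := 14659) (l := 0) rfl N14659 D28832
theorem N18493 : nd 18493 = n28833 := ndS (p := 14659) (l := 5) rfl N14659 D28833
theorem N18494 : nd 18494 = n28834 := ndS (p := 14660) (l := 0) rfl N14660 D28834
theorem N18495 : nd 18495 = n28835 := ndS (p := 14660) (l := 2) rfl N14660 D28835
theorem N18496 : nd 18496 = n28836 := ndS (p := 14660) (l := 6) rfl N14660 D28836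
theorem N18497 : nd 18497 = n28837 := ndS (p := 14664) (l := 3) rfl N14664 D28837
theorem N18498 : nd 18498 = n28838 := ndS (p := 14667) (l := 5) rfl N14667 D28838
theorem N18499 : nd 18499 = n28839 := ndS (p := 14668) (l := 5) rfl N14668 D28839
theorem N18500 : nd 18500 = n28840 := ndS (p := 14669) (l := 1) rfl N14669 D28840
theorem N18501 : nd 18501 = n28841 := ndS (p := 14672) (l := 0) rfl N14672 D28841
theorem N18502 : nd 18502 = n28842 := ndS (p := 14672) (l := 2) rfl N14672 D28842
theorem N18503 : nd 18503 = n28843 := ndS (p := 14672) (l := 6) rfl N14672 D28843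
theorem N18504 : nd 18504 = n28844 := ndS (p := 14673) (l := 2) rfl N14673 D28844
theorem N18505 : nd 18505 = n28845 := ndS (p := 14674) (l := 6) rfl N14674 D28845
theorem N18506 : nd 18506 = n28846 := ndS (p := 14676) (l := 5) rfl N14676 D28846
theorem N18507 : nd 18507 = n28847 := ndS (p := 14677) (l := 1) rfl N14677 D28847
theorem N18508 : nd 18508 = n28848 := ndS (p := 14677) (l := 6) rfl N14677 D28848
theorem N18509 : nd 18509 = n28849 := ndS (p := 14678) (l := 5) rfl N14678 D28849
theorem N18510 : nd 18510 = n28850 := ndS (p := 14679) (l := 2) rfl N14679 D28850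
theorem N18511 : nd 18511 = n28851 := ndS (p := 14679) (l := 5) rfl N14679 D28851
theorem N18512 : nd 18512 = n28852 := ndS (p := 14680) (l := 1) rfl N14680 D28852
theorem N18513 : nd 18513 = n28853 := ndS (p := 14680) (l := 6) rfl N14680 D28853
theorem N18514 : nd 18514 = n28854 := ndS (p := 14681) (l := 5) rfl N14681 D28854
theorem N18515 : nd 18515 = n28855 := ndS (p := 14682) (l := 0) rfl N14682 D28855
theorem N18516 : nd 18516 = n28856 := ndS (p := 14682) (l := 6) rfl N14682 D28856
theorem N18517 : nd 18517 = n28857 := ndS (p := 14683) (l := 1) rfl N14683 D28857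
theorem N18518 : nd 18518 = n28858 := ndS (p := 14685) (l := 1) rfl N14685 D28858
theorem N18519 : nd 18519 = n28859 := ndS (p := 14686) (l := 1) rfl N14686 D28859
theorem N18520 : nd 18520 = n28860 := ndS (p := 14688) (l := 0) rfl N14688 D28860
theorem N18521 : nd 18521 = n28861 := ndS (p := 14688) (l := 2) rfl N14688 D28861
theorem N18522 : nd 18522 = n28862 := ndS (p := 14688) (l := 5) rfl N14688 D28862
theorem N18523 : nd 18523 = n28863 := ndS (p := 14689) (l := 0) rfl N14689 D28863
theorem N18524 : nd 18524 = n28864 := ndS (p := 14689) (l := 6) rfl N14689 D28864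
theorem N18525 : nd 18525 = n28865 := ndS (p := 14691) (l := 3) rfl N14691 D28865
theorem N18526 : nd 18526 = n28866 := ndS (p := 14695) (l := 6) rfl N14695 D28866
theorem N18527 : nd 18527 = n28867 := ndS (p := 14697) (l := 5) rfl N14697 D28867
theorem N18528 : nd 18528 = n28868 := ndS (p := 14703) (l := 1) rfl N14703 D28868
theorem N18529 : nd 18529 = n28869 := ndS (p := 14714) (l := 6) rfl N14714 D28869
theorem N18530 : nd 18530 = n28870 := ndS (p := 14722) (l := 1) rfl N14722 D28870
theorem N18531 : nd 18531 = n28871 := ndS (p := 14733) (l := 5) rfl N14733 D28871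
theorem N18532 : nd 18532 = n28872 := ndS (p := 14740) (l := 2) rfl N14740 D28872
theorem N18533 : nd 18533 = n28873 := ndS (p := 14740) (l := 5) rfl N14740 D28873
theorem N18534 : nd 18534 = n28874 := ndS (p := 14743) (l := 1) rfl N14743 D28874
theorem N18535 : nd 18535 = n28875 := ndS (p := 14746) (l := 6) rfl N14746 D28875
theorem N18536 : nd 18536 = n28876 := ndS (p := 14761) (l := 2) rfl N14761 D28876
theorem N18537 : nd 18537 = n28877 := ndS (p := 14761) (l := 6) rfl N14761 D28877
theorem N18538 : nd 18538 = n28878 := ndS (p := 14764) (l := 1) rfl N14764 D28878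
theorem N18539 : nd 18539 = n28879 := ndS (p := 14767) (l := 5) rfl N14767 D28879
theorem N18540 : nd 18540 = n28880 := ndS (p := 14788) (l := 0) rfl N14788 D28880
theorem N18541 : nd 18541 = n28881 := ndS (p := 14788) (l := 2) rfl N14788 D28881
theorem N18542 : nd 18542 = n28882 := ndS (p := 14793) (l := 2) rfl N14793 D28882
theorem N18543 : nd 18543 = n28883 := ndS (p := 14793) (l := 6) rfl N14793 D28883
theorem N18544 : nd 18544 = n28884 := ndS (p := 14805) (l := 3) rfl N14805 D28884
theorem N18545 : nd 18545 = n28885 := ndS (p := 14806) (l := 5) rfl N14806 D28885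
theorem N18546 : nd 18546 = n28886 := ndS (p := 14808) (l := 1) rfl N14808 D28886
theorem N18547 : nd 18547 = n28887 := ndS (p := 14808) (l := 3) rfl N14808 D28887
theorem N18548 : nd 18548 = n28888 := ndS (p := 14812) (l := 3) rfl N14812 D28888
theorem N18549 : nd 18549 = n28889 := ndS (p := 14821) (l := 0) rfl N14821 D28889
theorem N18550 : nd 18550 = n28890 := ndS (p := 14825) (l := 2) rfl N14825 D28890
theorem N18551 : nd 18551 = n28891 := ndS (p := 14825) (l := 5) rfl N14825 D28891
theorem N18552 : nd 18552 = n28892 := ndS (p := 14837) (l := 3) rfl N14837 D28892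
theorem N18553 : nd 18553 = n28893 := ndS (p := 14839) (l := 1) rfl N14839 D28893
theorem N18554 : nd 18554 = n28894 := ndS (p := 14839) (l := 3) rfl N14839 D28894
theorem N18555 : nd 18555 = n28895 := ndS (p := 14840) (l := 3) rfl N14840 D28895
theorem N18556 : nd 18556 = n28896 := ndS (p := 14847) (l := 2) rfl N14847 D28896
theorem N18557 : nd 18557 = n28897 := ndS (p := 14850) (l := 1) rfl N14850 D28897
theorem N18558 : nd 18558 = n28898 := ndS (p := 14852) (l := 3) rfl N14852 D28898
theorem N18559 : nd 18559 = n28899 := ndS (p := 14853) (l := 4) rfl N14853 D28899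
theorem N18560 : nd 18560 = n28900 := ndS (p := 14854) (l := 4) rfl N14854 D28900
theorem N18561 : nd 18561 = n28901 := ndS (p := 14859) (l := 3) rfl N14859 D28901
theorem N18562 : nd 18562 = n28902 := ndS (p := 14860) (l := 2) rfl N14860 D28902
theorem N18563 : nd 18563 = n28903 := ndS (p := 14863) (l := 4) rfl N14863 D28903
theorem N18564 : nd 18564 = n28904 := ndS (p := 14866) (l := 4) rfl N14866 D28904
theorem N18565 : nd 18565 = n28905 := ndS (p := 14867) (l := 4) rfl N14867 D28905
theorem N18566 : nd 18566 = n28906 := ndS (p := 14868) (l := 3) rfl N14868 D28906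
theorem N18567 : nd 18567 = n28907 := ndS (p := 14868) (l := 5) rfl N14868 D28907
theorem N18568 : nd 18568 = n28908 := ndS (p := 14870) (l := 6) rfl N14870 D28908
theorem N18569 : nd 18569 = n28909 := ndS (p := 14872) (l := 4) rfl N14872 D28909
theorem N18570 : nd 18570 = n28910 := ndS (p := 14880) (l := 2) rfl N14880 D28910
theorem N18571 : nd 18571 = n28911 := ndS (p := 14882) (l := 1) rfl N14882 D28911
theorem N18572 : nd 18572 = n28912 := ndS (p := 14884) (l := 3) rfl N14884 D28912
theorem N18573 : nd 18573 = n28913 := ndS (p := 14885) (l := 4) rfl N14885 D28913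
theorem N18574 : nd 18574 = n28914 := ndS (p := 14886) (l := 4) rfl N14886 D28914
theorem N18575 : nd 18575 = n28915 := ndS (p := 14890) (l := 3) rfl N14890 D28915
theorem N18576 : nd 18576 = n28916 := ndS (p := 14891) (l := 2) rfl N14891 D28916
theorem N18577 : nd 18577 = n28917 := ndS (p := 14894) (l := 4) rfl N14894 D28917
theorem N18578 : nd 18578 = n28918 := ndS (p := 14896) (l := 4) rfl N14896 D28918
theorem N18579 : nd 18579 = n28919 := ndS (p := 14897) (l := 3) rfl N14897 D28919
theorem N18580 : nd 18580 = n28920 := ndS (p := 14897) (l := 6) rfl N14897 D28920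
theorem N18581 : nd 18581 = n28921 := ndS (p := 14899) (l := 5) rfl N14899 D28921
theorem N18582 : nd 18582 = n28922 := ndS (p := 14902) (l := 5) rfl N14902 D28922
theorem N18583 : nd 18583 = n28923 := ndS (p := 14911) (l := 4) rfl N14911 D28923
theorem N18584 : nd 18584 = n28924 := ndS (p := 14912) (l := 5) rfl N14912 D28924
theorem N18585 : nd 18585 = n28925 := ndS (p := 14917) (l := 1) rfl N14917 D28925
theorem N18586 : nd 18586 = n28926 := ndS (p := 14918) (l := 5) rfl N14918 D28926
theorem N18587 : nd 18587 = n28927 := ndS (p := 14927) (l := 1) rfl N14927 D28927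
theorem N18588 : nd 18588 = n28928 := ndS (p := 14931) (l := 4) rfl N14931 D28928
theorem N18589 : nd 18589 = n28929 := ndS (p := 14931) (l := 6) rfl N14931 D28929
theorem N18590 : nd 18590 = n28930 := ndS (p := 14933) (l := 1) rfl N14933 D28930
theorem N18591 : nd 18591 = n28931 := ndS (p := 14939) (l := 6) rfl N14939 D28931
theorem N18592 : nd 18592 = n28932 := ndS (p := 14946) (l := 1) rfl N14946 D28932
theorem N18593 : nd 18593 = n28933 := ndS (p := 14950) (l := 6) rfl N14950 D28933
theorem N18594 : nd 18594 = n28934 := ndS (p := 14958) (l := 4) rfl N14958 D28934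
theorem N18595 : nd 18595 = n28935 := ndS (p := 14959) (l := 6) rfl N14959 D28935
theorem N18596 : nd 18596 = n28936 := ndS (p := 14965) (l := 1) rfl N14965 D28936
theorem N18597 : nd 18597 = n28937 := ndS (p := 14979) (l := 4) rfl N14979 D28937
theorem N18598 : nd 18598 = n28938 := ndS (p := 14979) (l := 5) rfl N14979 D28938
theorem N18599 : nd 18599 = n28939 := ndS (p := 14980) (l := 1) rfl N14980 D28939
theorem N18600 : nd 18600 = n28940 := ndS (p := 14987) (l := 5) rfl N14987 D28940
theorem N18601 : nd 18601 = n28941 := ndS (p := 14994) (l := 1) rfl N14994 D28941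
theorem N18602 : nd 18602 = n28942 := ndS (p := 14997) (l := 2) rfl N14997 D28942
theorem N18603 : nd 18603 = n28943 := ndS (p := 15000) (l := 2) rfl N15000 D28943
theorem N18604 : nd 18604 = n28944 := ndS (p := 15001) (l := 3) rfl N15001 D28944
theorem N18605 : nd 18605 = n28945 := ndS (p := 15004) (l := 5) rfl N15004 D28945
theorem N18606 : nd 18606 = n28946 := ndS (p := 15006) (l := 3) rfl N15006 D28946
theorem N18607 : nd 18607 = n28947 := ndS (p := 15009) (l := 4) rfl N15009 D28947
theorem N18608 : nd 18608 = n28948 := ndS (p := 15011) (l := 2) rfl N15011 D28948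
theorem N18609 : nd 18609 = n28949 := ndS (p := 15014) (l := 3) rfl N15014 D28949
theorem N18610 : nd 18610 = n28950 := ndS (p := 15018) (l := 3) rfl N15018 D28950
theorem N18611 : nd 18611 = n28951 := ndS (p := 15021) (l := 4) rfl N15021 D28951
theorem N18612 : nd 18612 = n28952 := ndS (p := 15024) (l := 6) rfl N15024 D28952
theorem N18613 : nd 18613 = n28953 := ndS (p := 15025) (l := 1) rfl N15025 D28953
theorem N18614 : nd 18614 = n28954 := ndS (p := 15028) (l := 5) rfl N15028 D28954
theorem N18615 : nd 18615 = n28955 := ndS (p := 15029) (l := 1) rfl N15029 D28955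
theorem N18616 : nd 18616 = n28956 := ndS (p := 15033) (l := 3) rfl N15033 D28956
theorem N18617 : nd 18617 = n28957 := ndS (p := 15034) (l := 3) rfl N15034 D28957
theorem N18618 : nd 18618 = n28958 := ndS (p := 15034) (l := 6) rfl N15034 D28958
theorem N18619 : nd 18619 = n28959 := ndS (p := 15036) (l := 1) rfl N15036 D28959
theorem N18620 : nd 18620 = n28960 := ndS (p := 15036) (l := 6) rfl N15036 D28960
theorem N18621 : nd 18621 = n28961 := ndS (p := 15037) (l := 6) rfl N15037 D28961
theorem N18622 : nd 18622 = n28962 := ndS (p := 15038) (l := 1) rfl N15038 D28962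
theorem N18623 : nd 18623 = n28963 := ndS (p := 15039) (l := 0) rfl N15039 D28963
theorem N18624 : nd 18624 = n28964 := ndS (p := 15039) (l := 2) rfl N15039 D28964
theorem N18625 : nd 18625 = n28965 := ndS (p := 15039) (l := 5) rfl N15039 D28965
theorem N18626 : nd 18626 = n28966 := ndS (p := 15040) (l := 3) rfl N15040 D28966
theorem N18627 : nd 18627 = n28967 := ndS (p := 15041) (l := 1) rfl N15041 D28967
theorem N18628 : nd 18628 = n28968 := ndS (p := 15041) (l := 3) rfl N15041 D28968
theorem N18629 : nd 18629 = n28969 := ndS (p := 15042) (l := 5) rfl N15042 D28969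
theorem N18630 : nd 18630 = n28970 := ndS (p := 15043) (l := 6) rfl N15043 D28970
theorem N18631 : nd 18631 = n28971 := ndS (p := 15045) (l := 3) rfl N15045 D28971
theorem N18632 : nd 18632 = n28972 := ndS (p := 15046) (l := 3) rfl N15046 D28972
theorem N18633 : nd 18633 = n28973 := ndS (p := 15046) (l := 5) rfl N15046 D28973
theorem N18634 : nd 18634 = n28974 := ndS (p := 15048) (l := 1) rfl N15048 D28974
theorem N18635 : nd 18635 = n28975 := ndS (p := 15048) (l := 5) rfl N15048 D28975
theorem N18636 : nd 18636 = n28976 := ndS (p := 15049) (l := 5) rfl N15049 D28976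
theorem N18637 : nd 18637 = n28977 := ndS (p := 15050) (l := 1) rfl N15050 D28977
theorem N18638 : nd 18638 = n28978 := ndS (p := 15051) (l := 0) rfl N15051 D28978
theorem N18639 : nd 18639 = n28979 := ndS (p := 15051) (l := 2) rfl N15051 D28979
theorem N18640 : nd 18640 = n28980 := ndS (p := 15051) (l := 6) rfl N15051 D28980
theorem N18641 : nd 18641 = n28981 := ndS (p := 15052) (l := 3) rfl N15052 D28981
theorem N18642 : nd 18642 = n28982 := ndS (p := 15053) (l := 1) rfl N15053 D28982
theorem N18643 : nd 18643 = n28983 := ndS (p := 15053) (l := 3) rfl N15053 D28983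
theorem N18644 : nd 18644 = n28984 := ndS (p := 15054) (l := 6) rfl N15054 D28984
theorem N18645 : nd 18645 = n28985 := ndS (p := 15055) (l := 5) rfl N15055 D28985
theorem N18646 : nd 18646 = n28986 := ndS (p := 15058) (l := 2) rfl N15058 D28986
theorem N18647 : nd 18647 = n28987 := ndS (p := 15058) (l := 4) rfl N15058 D28987
theorem N18648 : nd 18648 = n28988 := ndS (p := 15059) (l := 1) rfl N15059 D28988
theorem N18649 : nd 18649 = n28989 := ndS (p := 15059) (l := 4) rfl N15059 D28989
theorem N18650 : nd 18650 = n28990 := ndS (p := 15059) (l := 5) rfl N15059 D28990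
theorem N18651 : nd 18651 = n28991 := ndS (p := 15060) (l := 5) rfl N15060 D28991
theorem N18652 : nd 18652 = n28992 := ndS (p := 15063) (l := 2) rfl N15063 D28992
theorem N18653 : nd 18653 = n28993 := ndS (p := 15063) (l := 4) rfl N15063 D28993
theorem N18654 : nd 18654 = n28994 := ndS (p := 15064) (l := 1) rfl N15064 D28994
theorem N18655 : nd 18655 = n28995 := ndS (p := 15064) (l := 4) rfl N15064 D28995
theorem N18656 : nd 18656 = n28996 := ndS (p := 15064) (l := 6) rfl N15064 D28996
theorem N18657 : nd 18657 = n28997 := ndS (p := 15065) (l := 6) rfl N15065 D28997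
theorem N18658 : nd 18658 = n28998 := ndS (p := 15068) (l := 0) rfl N15068 D28998
theorem N18659 : nd 18659 = n28999 := ndS (p := 15068) (l := 2) rfl N15068 D28999
theorem N18660 : nd 18660 = n29000 := ndS (p := 15069) (l := 0) rfl N15069 D29000
theorem N18661 : nd 18661 = n29001 := ndS (p := 15069) (l := 2) rfl N15069 D29001
theorem N18662 : nd 18662 = n29002 := ndS (p := 15071) (l := 2) rfl N15071 D29002
theorem N18663 : nd 18663 = n29003 := ndS (p := 15072) (l := 3) rfl N15072 D29003
theorem N18664 : nd 18664 = n29004 := ndS (p := 15074) (l := 2) rfl N15074 D29004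
theorem N18665 : nd 18665 = n29005 := ndS (p := 15075) (l := 3) rfl N15075 D29005
theorem N18666 : nd 18666 = n29006 := ndS (p := 15078) (l := 4) rfl N15078 D29006
theorem N18667 : nd 18667 = n29007 := ndS (p := 15079) (l := 1) rfl N15079 D29007
theorem N18668 : nd 18668 = n29008 := ndS (p := 15080) (l := 6) rfl N15080 D29008
theorem N18669 : nd 18669 = n29009 := ndS (p := 15081) (l := 1) rfl N15081 D29009
theorem N18670 : nd 18670 = n29010 := ndS (p := 15082) (l := 0) rfl N15082 D29010
theorem N18671 : nd 18671 = n29011 := ndS (p := 15083) (l := 4) rfl N15083 D29011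
theorem N18672 : nd 18672 = n29012 := ndS (p := 15084) (l := 1) rfl N15084 D29012
theorem N18673 : nd 18673 = n29013 := ndS (p := 15085) (l := 5) rfl N15085 D29013
theorem N18674 : nd 18674 = n29014 := ndS (p := 15086) (l := 1) rfl N15086 D29014
theorem N18675 : nd 18675 = n29015 := ndS (p := 15087) (l := 0) rfl N15087 D29015
theorem N18676 : nd 18676 = n29016 := ndS (p := 15088) (l := 6) rfl N15088 D29016
theorem N18677 : nd 18677 = n29017 := ndS (p := 15089) (l := 1) rfl N15089 D29017
theorem N18678 : nd 18678 = n29018 := ndS (p := 15090) (l := 0) rfl N15090 D29018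
theorem N18679 : nd 18679 = n29019 := ndS (p := 15090) (l := 5) rfl N15090 D29019
theorem N18680 : nd 18680 = n29020 := ndS (p := 15091) (l := 1) rfl N15091 D29020
theorem N18681 : nd 18681 = n29021 := ndS (p := 15092) (l := 1) rfl N15092 D29021
theorem N18682 : nd 18682 = n29022 := ndS (p := 15093) (l := 0) rfl N15093 D29022
theorem N18683 : nd 18683 = n29023 := ndS (p := 15093) (l := 2) rfl N15093 D29023
theorem N18684 : nd 18684 = n29024 := ndS (p := 15093) (l := 5) rfl N15093 D29024
theorem N18685 : nd 18685 = n29025 := ndS (p := 15095) (l := 1) rfl N15095 D29025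
theorem N18686 : nd 18686 = n29026 := ndS (p := 15097) (l := 6) rfl N15097 D29026
theorem N18687 : nd 18687 = n29027 := ndS (p := 15098) (l := 5) rfl N15098 D29027
theorem N18688 : nd 18688 = n29028 := ndS (p := 15099) (l := 1) rfl N15099 D29028
theorem N18689 : nd 18689 = n29029 := ndS (p := 15100) (l := 0) rfl N15100 D29029
theorem N18690 : nd 18690 = n29030 := ndS (p := 15100) (l := 6) rfl N15100 D29030
theorem N18691 : nd 18691 = n29031 := ndS (p := 15101) (l := 1) rfl N15101 D29031
theorem N18692 : nd 18692 = n29032 := ndS (p := 15102) (l := 1) rfl N15102 D29032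
theorem N18693 : nd 18693 = n29033 := ndS (p := 15103) (l := 0) rfl N15103 D29033
theorem N18694 : nd 18694 = n29034 := ndS (p := 15103) (l := 2) rfl N15103 D29034
theorem N18695 : nd 18695 = n29035 := ndS (p := 15103) (l := 6) rfl N15103 D29035
theorem N18696 : nd 18696 = n29036 := ndS (p := 15105) (l := 1) rfl N15105 D29036
theorem N18697 : nd 18697 = n29037 := ndS (p := 15107) (l := 5) rfl N15107 D29037
theorem N18698 : nd 18698 = n29038 := ndS (p := 15108) (l := 1) rfl N15108 D29038
theorem N18699 : nd 18699 = n29039 := ndS (p := 15109) (l := 2) rfl N15109 D29039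
theorem N18700 : nd 18700 = n29040 := ndS (p := 15110) (l := 3) rfl N15110 D29040
theorem N18701 : nd 18701 = n29041 := ndS (p := 15112) (l := 1) rfl N15112 D29041
theorem N18702 : nd 18702 = n29042 := ndS (p := 15113) (l := 0) rfl N15113 D29042
theorem N18703 : nd 18703 = n29043 := ndS (p := 15113) (l := 2) rfl N15113 D29043
theorem N18704 : nd 18704 = n29044 := ndS (p := 15117) (l := 3) rfl N15117 D29044
theorem N18705 : nd 18705 = n29045 := ndS (p := 15120) (l := 1) rfl N15120 D29045
theorem N18706 : nd 18706 = n29046 := ndS (p := 15121) (l := 2) rfl N15121 D29046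
theorem N18707 : nd 18707 = n29047 := ndS (p := 15122) (l := 3) rfl N15122 D29047
theorem N18708 : nd 18708 = n29048 := ndS (p := 15124) (l := 1) rfl N15124 D29048
theorem N18709 : nd 18709 = n29049 := ndS (p := 15125) (l := 0) rfl N15125 D29049
theorem N18710 : nd 18710 = n29050 := ndS (p := 15125) (l := 2) rfl N15125 D29050
theorem N18711 : nd 18711 = n29051 := ndS (p := 15129) (l := 3) rfl N15129 D29051
theorem N18712 : nd 18712 = n29052 := ndS (p := 15132) (l := 0) rfl N15132 D29052
theorem N18713 : nd 18713 = n29053 := ndS (p := 15132) (l := 2) rfl N15132 D29053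
theorem N18714 : nd 18714 = n29054 := ndS (p := 15133) (l := 0) rfl N15133 D29054
theorem N18715 : nd 18715 = n29055 := ndS (p := 15133) (l := 2) rfl N15133 D29055
theorem N18716 : nd 18716 = n29056 := ndS (p := 15134) (l := 4) rfl N15134 D29056
theorem N18717 : nd 18717 = n29057 := ndS (p := 15135) (l := 2) rfl N15135 D29057
theorem N18718 : nd 18718 = n29058 := ndS (p := 15136) (l := 1) rfl N15136 D29058
theorem N18719 : nd 18719 = n29059 := ndS (p := 15136) (l := 3) rfl N15136 D29059
theorem N18720 : nd 18720 = n29060 := ndS (p := 15137) (l := 0) rfl N15137 D29060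
theorem N18721 : nd 18721 = n29061 := ndS (p := 15137) (l := 3) rfl N15137 D29061
theorem N18722 : nd 18722 = n29062 := ndS (p := 15137) (l := 5) rfl N15137 D29062
theorem N18723 : nd 18723 = n29063 := ndS (p := 15137) (l := 6) rfl N15137 D29063
theorem N18724 : nd 18724 = n29064 := ndS (p := 15138) (l := 4) rfl N15138 D29064
theorem N18725 : nd 18725 = n29065 := ndS (p := 15139) (l := 1) rfl N15139 D29065
theorem N18726 : nd 18726 = n29066 := ndS (p := 15139) (l := 4) rfl N15139 D29066
theorem N18727 : nd 18727 = n29067 := ndS (p := 15141) (l := 4) rfl N15141 D29067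
theorem N18728 : nd 18728 = n29068 := ndS (p := 15142) (l := 2) rfl N15142 D29068
theorem N18729 : nd 18729 = n29069 := ndS (p := 15143) (l := 1) rfl N15143 D29069
theorem N18730 : nd 18730 = n29070 := ndS (p := 15143) (l := 3) rfl N15143 D29070
theorem N18731 : nd 18731 = n29071 := ndS (p := 15144) (l := 0) rfl N15144 D29071
theorem N18732 : nd 18732 = n29072 := ndS (p := 15144) (l := 3) rfl N15144 D29072
theorem N18733 : nd 18733 = n29073 := ndS (p := 15144) (l := 5) rfl N15144 D29073
theorem N18734 : nd 18734 = n29074 := ndS (p := 15144) (l := 6) rfl N15144 D29074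
theorem N18735 : nd 18735 = n29075 := ndS (p := 15145) (l := 4) rfl N15145 D29075
theorem N18736 : nd 18736 = n29076 := ndS (p := 15146) (l := 1) rfl N15146 D29076
theorem N18737 : nd 18737 = n29077 := ndS (p := 15146) (l := 4) rfl N15146 D29077
theorem N18738 : nd 18738 = n29078 := ndS (p := 15148) (l := 1) rfl N15148 D29078
theorem N18739 : nd 18739 = n29079 := ndS (p := 15149) (l := 0) rfl N15149 D29079
theorem N18740 : nd 18740 = n29080 := ndS (p := 15149) (l := 5) rfl N15149 D29080
theorem N18741 : nd 18741 = n29081 := ndS (p := 15150) (l := 1) rfl N15150 D29081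
theorem N18742 : nd 18742 = n29082 := ndS (p := 15152) (l := 2) rfl N15152 D29082
theorem N18743 : nd 18743 = n29083 := ndS (p := 15153) (l := 1) rfl N15153 D29083
theorem N18744 : nd 18744 = n29084 := ndS (p := 15155) (l := 6) rfl N15155 D29084
theorem N18745 : nd 18745 = n29085 := ndS (p := 15157) (l := 0) rfl N15157 D29085
theorem N18746 : nd 18746 = n29086 := ndS (p := 15157) (l := 3) rfl N15157 D29086
theorem N18747 : nd 18747 = n29087 := ndS (p := 15157) (l := 5) rfl N15157 D29087
theorem N18748 : nd 18748 = n29088 := ndS (p := 15157) (l := 6) rfl N15157 D29088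
theorem N18749 : nd 18749 = n29089 := ndS (p := 15158) (l := 4) rfl N15158 D29089
theorem N18750 : nd 18750 = n29090 := ndS (p := 15159) (l := 1) rfl N15159 D29090
theorem N18751 : nd 18751 = n29091 := ndS (p := 15159) (l := 4) rfl N15159 D29091
theorem N18752 : nd 18752 = n29092 := ndS (p := 15159) (l := 5) rfl N15159 D29092
theorem N18753 : nd 18753 = n29093 := ndS (p := 15160) (l := 5) rfl N15160 D29093
theorem N18754 : nd 18754 = n29094 := ndS (p := 15161) (l := 1) rfl N15161 D29094
theorem N18755 : nd 18755 = n29095 := ndS (p := 15162) (l := 0) rfl N15162 D29095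
theorem N18756 : nd 18756 = n29096 := ndS (p := 15162) (l := 6) rfl N15162 D29096
theorem N18757 : nd 18757 = n29097 := ndS (p := 15163) (l := 0) rfl N15163 D29097
theorem N18758 : nd 18758 = n29098 := ndS (p := 15163) (l := 5) rfl N15163 D29098
theorem N18759 : nd 18759 = n29099 := ndS (p := 15163) (l := 6) rfl N15163 D29099
theorem N18760 : nd 18760 = n29100 := ndS (p := 15164) (l := 1) rfl N15164 D29100
theorem N18761 : nd 18761 = n29101 := ndS (p := 15165) (l := 6) rfl N15165 D29101
theorem N18762 : nd 18762 = n29102 := ndS (p := 15166) (l := 4) rfl N15166 D29102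
theorem N18763 : nd 18763 = n29103 := ndS (p := 15166) (l := 5) rfl N15166 D29103
theorem N18764 : nd 18764 = n29104 := ndS (p := 15166) (l := 6) rfl N15166 D29104
theorem N18765 : nd 18765 = n29105 := ndS (p := 15167) (l := 1) rfl N15167 D29105
theorem N18766 : nd 18766 = n29106 := ndS (p := 15167) (l := 6) rfl N15167 D29106
theorem N18767 : nd 18767 = n29107 := ndS (p := 15168) (l := 5) rfl N15168 D29107
theorem N18768 : nd 18768 = n29108 := ndS (p := 15169) (l := 5) rfl N15169 D29108
theorem N18769 : nd 18769 = n29109 := ndS (p := 15170) (l := 1) rfl N15170 D29109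
theorem N18770 : nd 18770 = n29110 := ndS (p := 15171) (l := 0) rfl N15171 D29110
theorem N18771 : nd 18771 = n29111 := ndS (p := 15171) (l := 6) rfl N15171 D29111
theorem N18772 : nd 18772 = n29112 := ndS (p := 15172) (l := 4) rfl N15172 D29112
theorem N18773 : nd 18773 = n29113 := ndS (p := 15172) (l := 5) rfl N15172 D29113
theorem N18774 : nd 18774 = n29114 := ndS (p := 15172) (l := 6) rfl N15172 D29114
theorem N18775 : nd 18775 = n29115 := ndS (p := 15173) (l := 5) rfl N15173 D29115
theorem N18776 : nd 18776 = n29116 := ndS (p := 15174) (l := 1) rfl N15174 D29116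
theorem N18777 : nd 18777 = n29117 := ndS (p := 15174) (l := 6) rfl N15174 D29117
theorem N18778 : nd 18778 = n29118 := ndS (p := 15175) (l := 1) rfl N15175 D29118
theorem N18779 : nd 18779 = n29119 := ndS (p := 15175) (l := 6) rfl N15175 D29119
theorem N18780 : nd 18780 = n29120 := ndS (p := 15176) (l := 0) rfl N15176 D29120
theorem N18781 : nd 18781 = n29121 := ndS (p := 15176) (l := 2) rfl N15176 D29121
theorem N18782 : nd 18782 = n29122 := ndS (p := 15176) (l := 6) rfl N15176 D29122
theorem N18783 : nd 18783 = n29123 := ndS (p := 15177) (l := 1) rfl N15177 D29123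
theorem N18784 : nd 18784 = n29124 := ndS (p := 15178) (l := 1) rfl N15178 D29124
theorem N18785 : nd 18785 = n29125 := ndS (p := 15179) (l := 1) rfl N15179 D29125
theorem N18786 : nd 18786 = n29126 := ndS (p := 15180) (l := 0) rfl N15180 D29126
theorem N18787 : nd 18787 = n29127 := ndS (p := 15180) (l := 2) rfl N15180 D29127
theorem N18788 : nd 18788 = n29128 := ndS (p := 15180) (l := 5) rfl N15180 D29128
theorem N18789 : nd 18789 = n29129 := ndS (p := 15182) (l := 0) rfl N15182 D29129
theorem N18790 : nd 18790 = n29130 := ndS (p := 15182) (l := 6) rfl N15182 D29130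
theorem N18791 : nd 18791 = n29131 := ndS (p := 15183) (l := 1) rfl N15183 D29131
theorem N18792 : nd 18792 = n29132 := ndS (p := 15184) (l := 1) rfl N15184 D29132
theorem N18793 : nd 18793 = n29133 := ndS (p := 15186) (l := 2) rfl N15186 D29133
theorem N18794 : nd 18794 = n29134 := ndS (p := 15187) (l := 1) rfl N15187 D29134
theorem N18795 : nd 18795 = n29135 := ndS (p := 15189) (l := 5) rfl N15189 D29135
theorem N18796 : nd 18796 = n29136 := ndS (p := 15191) (l := 0) rfl N15191 D29136
theorem N18797 : nd 18797 = n29137 := ndS (p := 15191) (l := 3) rfl N15191 D29137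
theorem N18798 : nd 18798 = n29138 := ndS (p := 15191) (l := 5) rfl N15191 D29138
theorem N18799 : nd 18799 = n29139 := ndS (p := 15191) (l := 6) rfl N15191 D29139
theorem N18800 : nd 18800 = n29140 := ndS (p := 15192) (l := 4) rfl N15192 D29140
theorem N18801 : nd 18801 = n29141 := ndS (p := 15193) (l := 1) rfl N15193 D29141
theorem N18802 : nd 18802 = n29142 := ndS (p := 15193) (l := 4) rfl N15193 D29142
theorem N18803 : nd 18803 = n29143 := ndS (p := 15193) (l := 6) rfl N15193 D29143
theorem N18804 : nd 18804 = n29144 := ndS (p := 15194) (l := 6) rfl N15194 D29144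
theorem N18805 : nd 18805 = n29145 := ndS (p := 15195) (l := 1) rfl N15195 D29145
theorem N18806 : nd 18806 = n29146 := ndS (p := 15196) (l := 0) rfl N15196 D29146
theorem N18807 : nd 18807 = n29147 := ndS (p := 15196) (l := 5) rfl N15196 D29147
theorem N18808 : nd 18808 = n29148 := ndS (p := 15197) (l := 0) rfl N15197 D29148
theorem N18809 : nd 18809 = n29149 := ndS (p := 15197) (l := 5) rfl N15197 D29149
theorem N18810 : nd 18810 = n29150 := ndS (p := 15197) (l := 6) rfl N15197 D29150
theorem N18811 : nd 18811 = n29151 := ndS (p := 15198) (l := 1) rfl N15198 D29151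
theorem N18812 : nd 18812 = n29152 := ndS (p := 15199) (l := 5) rfl N15199 D29152
theorem N18813 : nd 18813 = n29153 := ndS (p := 15200) (l := 4) rfl N15200 D29153
theorem N18814 : nd 18814 = n29154 := ndS (p := 15200) (l := 5) rfl N15200 D29154
theorem N18815 : nd 18815 = n29155 := ndS (p := 15200) (l := 6) rfl N15200 D29155
theorem N18816 : nd 18816 = n29156 := ndS (p := 15201) (l := 6) rfl N15201 D29156
theorem N18817 : nd 18817 = n29157 := ndS (p := 15202) (l := 1) rfl N15202 D29157
theorem N18818 : nd 18818 = n29158 := ndS (p := 15202) (l := 5) rfl N15202 D29158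
theorem N18819 : nd 18819 = n29159 := ndS (p := 15203) (l := 6) rfl N15203 D29159
theorem N18820 : nd 18820 = n29160 := ndS (p := 15204) (l := 1) rfl N15204 D29160
theorem N18821 : nd 18821 = n29161 := ndS (p := 15205) (l := 0) rfl N15205 D29161
theorem N18822 : nd 18822 = n29162 := ndS (p := 15205) (l := 5) rfl N15205 D29162
theorem N18823 : nd 18823 = n29163 := ndS (p := 15206) (l := 4) rfl N15206 D29163
theorem N18824 : nd 18824 = n29164 := ndS (p := 15206) (l := 5) rfl N15206 D29164
theorem N18825 : nd 18825 = n29165 := ndS (p := 15206) (l := 6) rfl N15206 D29165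
theorem N18826 : nd 18826 = n29166 := ndS (p := 15207) (l := 6) rfl N15207 D29166
theorem N18827 : nd 18827 = n29167 := ndS (p := 15208) (l := 1) rfl N15208 D29167
theorem N18828 : nd 18828 = n29168 := ndS (p := 15208) (l := 5) rfl N15208 D29168
theorem N18829 : nd 18829 = n29169 := ndS (p := 15209) (l := 1) rfl N15209 D29169
theorem N18830 : nd 18830 = n29170 := ndS (p := 15209) (l := 5) rfl N15209 D29170
theorem N18831 : nd 18831 = n29171 := ndS (p := 15210) (l := 0) rfl N15210 D29171
theorem N18832 : nd 18832 = n29172 := ndS (p := 15210) (l := 2) rfl N15210 D29172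
theorem N18833 : nd 18833 = n29173 := ndS (p := 15210) (l := 5) rfl N15210 D29173
theorem N18834 : nd 18834 = n29174 := ndS (p := 15211) (l := 1) rfl N15211 D29174
theorem N18835 : nd 18835 = n29175 := ndS (p := 15212) (l := 1) rfl N15212 D29175
theorem N18836 : nd 18836 = n29176 := ndS (p := 15213) (l := 1) rfl N15213 D29176
theorem N18837 : nd 18837 = n29177 := ndS (p := 15214) (l := 0) rfl N15214 D29177
theorem N18838 : nd 18838 = n29178 := ndS (p := 15214) (l := 2) rfl N15214 D29178
theorem N18839 : nd 18839 = n29179 := ndS (p := 15214) (l := 6) rfl N15214 D29179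
theorem N18840 : nd 18840 = n29180 := ndS (p := 15217) (l := 2) rfl N15217 D29180
theorem N18841 : nd 18841 = n29181 := ndS (p := 15218) (l := 3) rfl N15218 D29181
theorem N18842 : nd 18842 = n29182 := ndS (p := 15221) (l := 2) rfl N15221 D29182
theorem N18843 : nd 18843 = n29183 := ndS (p := 15221) (l := 4) rfl N15221 D29183
theorem N18844 : nd 18844 = n29184 := ndS (p := 15221) (l := 5) rfl N15221 D29184
theorem N18845 : nd 18845 = n29185 := ndS (p := 15222) (l := 1) rfl N15222 D29185
theorem N18846 : nd 18846 = n29186 := ndS (p := 15223) (l := 3) rfl N15223 D29186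
theorem N18847 : nd 18847 = n29187 := ndS (p := 15223) (l := 4) rfl N15223 D29187
theorem N18848 : nd 18848 = n29188 := ndS (p := 15223) (l := 5) rfl N15223 D29188
theorem N18849 : nd 18849 = n29189 := ndS (p := 15224) (l := 5) rfl N15224 D29189
theorem N18850 : nd 18850 = n29190 := ndS (p := 15225) (l := 1) rfl N15225 D29190
theorem N18851 : nd 18851 = n29191 := ndS (p := 15228) (l := 2) rfl N15228 D29191
theorem N18852 : nd 18852 = n29192 := ndS (p := 15228) (l := 4) rfl N15228 D29192
theorem N18853 : nd 18853 = n29193 := ndS (p := 15228) (l := 5) rfl N15228 D29193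
theorem N18854 : nd 18854 = n29194 := ndS (p := 15228) (l := 6) rfl N15228 D29194
theorem N18855 : nd 18855 = n29195 := ndS (p := 15231) (l := 1) rfl N15231 D29195
theorem N18856 : nd 18856 = n29196 := ndS (p := 15231) (l := 4) rfl N15231 D29196
theorem N18857 : nd 18857 = n29197 := ndS (p := 15233) (l := 3) rfl N15233 D29197
theorem N18858 : nd 18858 = n29198 := ndS (p := 15234) (l := 4) rfl N15234 D29198
theorem N18859 : nd 18859 = n29199 := ndS (p := 15235) (l := 3) rfl N15235 D29199
theorem N18860 : nd 18860 = n29200 := ndS (p := 15235) (l := 5) rfl N15235 D29200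
theorem N18861 : nd 18861 = n29201 := ndS (p := 15236) (l := 1) rfl N15236 D29201
theorem N18862 : nd 18862 = n29202 := ndS (p := 15237) (l := 1) rfl N15237 D29202
theorem N18863 : nd 18863 = n29203 := ndS (p := 15238) (l := 0) rfl N15238 D29203
theorem N18864 : nd 18864 = n29204 := ndS (p := 15238) (l := 2) rfl N15238 D29204
theorem N18865 : nd 18865 = n29205 := ndS (p := 15241) (l := 6) rfl N15241 D29205
theorem N18866 : nd 18866 = n29206 := ndS (p := 15243) (l := 1) rfl N15243 D29206
theorem N18867 : nd 18867 = n29207 := ndS (p := 15243) (l := 5) rfl N15243 D29207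
theorem N18868 : nd 18868 = n29208 := ndS (p := 15243) (l := 6) rfl N15243 D29208
theorem N18869 : nd 18869 = n29209 := ndS (p := 15244) (l := 5) rfl N15244 D29209
theorem N18870 : nd 18870 = n29210 := ndS (p := 15245) (l := 1) rfl N15245 D29210
theorem N18871 : nd 18871 = n29211 := ndS (p := 15248) (l := 5) rfl N15248 D29211
theorem N18872 : nd 18872 = n29212 := ndS (p := 15248) (l := 6) rfl N15248 D29212
theorem N18873 : nd 18873 = n29213 := ndS (p := 15249) (l := 5) rfl N15249 D29213
theorem N18874 : nd 18874 = n29214 := ndS (p := 15250) (l := 1) rfl N15250 D29214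
theorem N18875 : nd 18875 = n29215 := ndS (p := 15251) (l := 1) rfl N15251 D29215
theorem N18876 : nd 18876 = n29216 := ndS (p := 15252) (l := 0) rfl N15252 D29216
theorem N18877 : nd 18877 = n29217 := ndS (p := 15252) (l := 2) rfl N15252 D29217
theorem N18878 : nd 18878 = n29218 := ndS (p := 15252) (l := 6) rfl N15252 D29218
theorem N18879 : nd 18879 = n29219 := ndS (p := 15253) (l := 6) rfl N15253 D29219
theorem N18880 : nd 18880 = n29220 := ndS (p := 15255) (l := 5) rfl N15255 D29220
theorem N18881 : nd 18881 = n29221 := ndS (p := 15256) (l := 1) rfl N15256 D29221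
theorem N18882 : nd 18882 = n29222 := ndS (p := 15257) (l := 5) rfl N15257 D29222
theorem N18883 : nd 18883 = n29223 := ndS (p := 15258) (l := 1) rfl N15258 D29223
theorem N18884 : nd 18884 = n29224 := ndS (p := 15258) (l := 6) rfl N15258 D29224
theorem N18885 : nd 18885 = n29225 := ndS (p := 15259) (l := 0) rfl N15259 D29225
theorem N18886 : nd 18886 = n29226 := ndS (p := 15259) (l := 2) rfl N15259 D29226
theorem N18887 : nd 18887 = n29227 := ndS (p := 15259) (l := 6) rfl N15259 D29227
theorem N18888 : nd 18888 = n29228 := ndS (p := 15260) (l := 1) rfl N15260 D29228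
theorem N18889 : nd 18889 = n29229 := ndS (p := 15261) (l := 2) rfl N15261 D29229
theorem N18890 : nd 18890 = n29230 := ndS (p := 15261) (l := 6) rfl N15261 D29230
theorem N18891 : nd 18891 = n29231 := ndS (p := 15262) (l := 1) rfl N15262 D29231
theorem N18892 : nd 18892 = n29232 := ndS (p := 15263) (l := 3) rfl N15263 D29232
theorem N18893 : nd 18893 = n29233 := ndS (p := 15265) (l := 0) rfl N15265 D29233
theorem N18894 : nd 18894 = n29234 := ndS (p := 15267) (l := 1) rfl N15267 D29234
theorem N18895 : nd 18895 = n29235 := ndS (p := 15267) (l := 2) rfl N15267 D29235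
theorem N18896 : nd 18896 = n29236 := ndS (p := 15270) (l := 2) rfl N15270 D29236
theorem N18897 : nd 18897 = n29237 := ndS (p := 15271) (l := 3) rfl N15271 D29237
theorem N18898 : nd 18898 = n29238 := ndS (p := 15274) (l := 4) rfl N15274 D29238
theorem N18899 : nd 18899 = n29239 := ndS (p := 15274) (l := 6) rfl N15274 D29239
theorem N18900 : nd 18900 = n29240 := ndS (p := 15275) (l := 1) rfl N15275 D29240
theorem N18901 : nd 18901 = n29241 := ndS (p := 15276) (l := 3) rfl N15276 D29241
theorem N18902 : nd 18902 = n29242 := ndS (p := 15276) (l := 4) rfl N15276 D29242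
theorem N18903 : nd 18903 = n29243 := ndS (p := 15276) (l := 6) rfl N15276 D29243
theorem N18904 : nd 18904 = n29244 := ndS (p := 15277) (l := 6) rfl N15277 D29244
theorem N18905 : nd 18905 = n29245 := ndS (p := 15278) (l := 1) rfl N15278 D29245
theorem N18906 : nd 18906 = n29246 := ndS (p := 15281) (l := 2) rfl N15281 D29246
theorem N18907 : nd 18907 = n29247 := ndS (p := 15281) (l := 4) rfl N15281 D29247
theorem N18908 : nd 18908 = n29248 := ndS (p := 15281) (l := 5) rfl N15281 D29248
theorem N18909 : nd 18909 = n29249 := ndS (p := 15281) (l := 6) rfl N15281 D29249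
theorem N18910 : nd 18910 = n29250 := ndS (p := 15284) (l := 1) rfl N15284 D29250
theorem N18911 : nd 18911 = n29251 := ndS (p := 15284) (l := 4) rfl N15284 D29251
theorem N18912 : nd 18912 = n29252 := ndS (p := 15286) (l := 3) rfl N15286 D29252
theorem N18913 : nd 18913 = n29253 := ndS (p := 15287) (l := 4) rfl N15287 D29253
theorem N18914 : nd 18914 = n29254 := ndS (p := 15288) (l := 3) rfl N15288 D29254
theorem N18915 : nd 18915 = n29255 := ndS (p := 15288) (l := 6) rfl N15288 D29255
theorem N18916 : nd 18916 = n29256 := ndS (p := 15289) (l := 1) rfl N15289 D29256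
theorem N18917 : nd 18917 = n29257 := ndS (p := 15290) (l := 1) rfl N15290 D29257
theorem N18918 : nd 18918 = n29258 := ndS (p := 15291) (l := 0) rfl N15291 D29258
theorem N18919 : nd 18919 = n29259 := ndS (p := 15291) (l := 2) rfl N15291 D29259
theorem N18920 : nd 18920 = n29260 := ndS (p := 15294) (l := 5) rfl N15294 D29260
theorem N18921 : nd 18921 = n29261 := ndS (p := 15296) (l := 1) rfl N15296 D29261
theorem N18922 : nd 18922 = n29262 := ndS (p := 15296) (l := 5) rfl N15296 D29262
theorem N18923 : nd 18923 = n29263 := ndS (p := 15296) (l := 6) rfl N15296 D29263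
theorem N18924 : nd 18924 = n29264 := ndS (p := 15297) (l := 6) rfl N15297 D29264
theorem N18925 : nd 18925 = n29265 := ndS (p := 15299) (l := 1) rfl N15299 D29265
theorem N18926 : nd 18926 = n29266 := ndS (p := 15301) (l := 5) rfl N15301 D29266
theorem N18927 : nd 18927 = n29267 := ndS (p := 15301) (l := 6) rfl N15301 D29267
theorem N18928 : nd 18928 = n29268 := ndS (p := 15302) (l := 6) rfl N15302 D29268
theorem N18929 : nd 18929 = n29269 := ndS (p := 15303) (l := 1) rfl N15303 D29269
theorem N18930 : nd 18930 = n29270 := ndS (p := 15304) (l := 1) rfl N15304 D29270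
theorem N18931 : nd 18931 = n29271 := ndS (p := 15305) (l := 0) rfl N15305 D29271
theorem N18932 : nd 18932 = n29272 := ndS (p := 15305) (l := 2) rfl N15305 D29272
theorem N18933 : nd 18933 = n29273 := ndS (p := 15305) (l := 5) rfl N15305 D29273
theorem N18934 : nd 18934 = n29274 := ndS (p := 15306) (l := 5) rfl N15306 D29274
theorem N18935 : nd 18935 = n29275 := ndS (p := 15308) (l := 6) rfl N15308 D29275
theorem N18936 : nd 18936 = n29276 := ndS (p := 15309) (l := 1) rfl N15309 D29276
theorem N18937 : nd 18937 = n29277 := ndS (p := 15310) (l := 6) rfl N15310 D29277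
theorem N18938 : nd 18938 = n29278 := ndS (p := 15311) (l := 1) rfl N15311 D29278
theorem N18939 : nd 18939 = n29279 := ndS (p := 15311) (l := 5) rfl N15311 D29279
theorem N18940 : nd 18940 = n29280 := ndS (p := 15312) (l := 0) rfl N15312 D29280
theorem N18941 : nd 18941 = n29281 := ndS (p := 15312) (l := 2) rfl N15312 D29281
theorem N18942 : nd 18942 = n29282 := ndS (p := 15312) (l := 5) rfl N15312 D29282
theorem N18943 : nd 18943 = n29283 := ndS (p := 15313) (l := 1) rfl N15313 D29283
theorem N18944 : nd 18944 = n29284 := ndS (p := 15314) (l := 2) rfl N15314 D29284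
theorem N18945 : nd 18945 = n29285 := ndS (p := 15314) (l := 5) rfl N15314 D29285
theorem N18946 : nd 18946 = n29286 := ndS (p := 15315) (l := 1) rfl N15315 D29286
theorem N18947 : nd 18947 = n29287 := ndS (p := 15318) (l := 0) rfl N15318 D29287
theorem N18948 : nd 18948 = n29288 := ndS (p := 15320) (l := 1) rfl N15320 D29288
theorem N18949 : nd 18949 = n29289 := ndS (p := 15320) (l := 2) rfl N15320 D29289
theorem N18950 : nd 18950 = n29290 := ndS (p := 15322) (l := 3) rfl N15322 D29290
theorem N18951 : nd 18951 = n29291 := ndS (p := 15323) (l := 1) rfl N15323 D29291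
theorem N18952 : nd 18952 = n29292 := ndS (p := 15323) (l := 3) rfl N15323 D29292
theorem N18953 : nd 18953 = n29293 := ndS (p := 15324) (l := 2) rfl N15324 D29293
theorem N18954 : nd 18954 = n29294 := ndS (p := 15324) (l := 4) rfl N15324 D29294
theorem N18955 : nd 18955 = n29295 := ndS (p := 15324) (l := 5) rfl N15324 D29295
theorem N18956 : nd 18956 = n29296 := ndS (p := 15325) (l := 1) rfl N15325 D29296
theorem N18957 : nd 18957 = n29297 := ndS (p := 15326) (l := 3) rfl N15326 D29297
theorem N18958 : nd 18958 = n29298 := ndS (p := 15327) (l := 0) rfl N15327 D29298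
theorem N18959 : nd 18959 = n29299 := ndS (p := 15327) (l := 2) rfl N15327 D29299
theorem N18960 : nd 18960 = n29300 := ndS (p := 15328) (l := 3) rfl N15328 D29300
theorem N18961 : nd 18961 = n29301 := ndS (p := 15329) (l := 2) rfl N15329 D29301
theorem N18962 : nd 18962 = n29302 := ndS (p := 15330) (l := 3) rfl N15330 D29302
theorem N18963 : nd 18963 = n29303 := ndS (p := 15331) (l := 1) rfl N15331 D29303
theorem N18964 : nd 18964 = n29304 := ndS (p := 15331) (l := 3) rfl N15331 D29304
theorem N18965 : nd 18965 = n29305 := ndS (p := 15331) (l := 5) rfl N15331 D29305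
theorem N18966 : nd 18966 = n29306 := ndS (p := 15333) (l := 2) rfl N15333 D29306
theorem N18967 : nd 18967 = n29307 := ndS (p := 15333) (l := 4) rfl N15333 D29307
theorem N18968 : nd 18968 = n29308 := ndS (p := 15333) (l := 5) rfl N15333 D29308
theorem N18969 : nd 18969 = n29309 := ndS (p := 15334) (l := 1) rfl N15334 D29309
theorem N18970 : nd 18970 = n29310 := ndS (p := 15335) (l := 4) rfl N15335 D29310
theorem N18971 : nd 18971 = n29311 := ndS (p := 15335) (l := 5) rfl N15335 D29311
theorem N18972 : nd 18972 = n29312 := ndS (p := 15337) (l := 1) rfl N15337 D29312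
theorem N18973 : nd 18973 = n29313 := ndS (p := 15337) (l := 4) rfl N15337 D29313
theorem N18974 : nd 18974 = n29314 := ndS (p := 15337) (l := 5) rfl N15337 D29314
theorem N18975 : nd 18975 = n29315 := ndS (p := 15338) (l := 5) rfl N15338 D29315
theorem N18976 : nd 18976 = n29316 := ndS (p := 15339) (l := 1) rfl N15339 D29316
theorem N18977 : nd 18977 = n29317 := ndS (p := 15340) (l := 0) rfl N15340 D29317
theorem N18978 : nd 18978 = n29318 := ndS (p := 15340) (l := 6) rfl N15340 D29318
theorem N18979 : nd 18979 = n29319 := ndS (p := 15343) (l := 2) rfl N15343 D29319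
theorem N18980 : nd 18980 = n29320 := ndS (p := 15345) (l := 2) rfl N15345 D29320
theorem N18981 : nd 18981 = n29321 := ndS (p := 15346) (l := 2) rfl N15346 D29321
theorem N18982 : nd 18982 = n29322 := ndS (p := 15347) (l := 3) rfl N15347 D29322
theorem N18983 : nd 18983 = n29323 := ndS (p := 15347) (l := 5) rfl N15347 D29323
theorem N18984 : nd 18984 = n29324 := ndS (p := 15349) (l := 3) rfl N15349 D29324
theorem N18985 : nd 18985 = n29325 := ndS (p := 15349) (l := 5) rfl N15349 D29325
theorem N18986 : nd 18986 = n29326 := ndS (p := 15351) (l := 4) rfl N15351 D29326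
theorem N18987 : nd 18987 = n29327 := ndS (p := 15353) (l := 3) rfl N15353 D29327
theorem N18988 : nd 18988 = n29328 := ndS (p := 15354) (l := 1) rfl N15354 D29328
theorem N18989 : nd 18989 = n29329 := ndS (p := 15354) (l := 3) rfl N15354 D29329
theorem N18990 : nd 18990 = n29330 := ndS (p := 15354) (l := 4) rfl N15354 D29330
theorem N18991 : nd 18991 = n29331 := ndS (p := 15354) (l := 5) rfl N15354 D29331
theorem N18992 : nd 18992 = n29332 := ndS (p := 15355) (l := 5) rfl N15355 D29332
theorem N18993 : nd 18993 = n29333 := ndS (p := 15356) (l := 1) rfl N15356 D29333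
theorem N18994 : nd 18994 = n29334 := ndS (p := 15357) (l := 2) rfl N15357 D29334
theorem N18995 : nd 18995 = n29335 := ndS (p := 15358) (l := 3) rfl N15358 D29335
theorem N18996 : nd 18996 = n29336 := ndS (p := 15359) (l := 6) rfl N15359 D29336
theorem N18997 : nd 18997 = n29337 := ndS (p := 15361) (l := 2) rfl N15361 D29337
theorem N18998 : nd 18998 = n29338 := ndS (p := 15361) (l := 4) rfl N15361 D29338
theorem N18999 : nd 18999 = n29339 := ndS (p := 15361) (l := 6) rfl N15361 D29339
theorem N19000 : nd 19000 = n29340 := ndS (p := 15363) (l := 3) rfl N15363 D29340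
theorem N19001 : nd 19001 = n29341 := ndS (p := 15364) (l := 0) rfl N15364 D29341
theorem N19002 : nd 19002 = n29342 := ndS (p := 15364) (l := 3) rfl N15364 D29342
theorem N19003 : nd 19003 = n29343 := ndS (p := 15364) (l := 5) rfl N15364 D29343
theorem N19004 : nd 19004 = n29344 := ndS (p := 15364) (l := 6) rfl N15364 D29344
theorem N19005 : nd 19005 = n29345 := ndS (p := 15365) (l := 2) rfl N15365 D29345
theorem N19006 : nd 19006 = n29346 := ndS (p := 15365) (l := 4) rfl N15365 D29346
theorem N19007 : nd 19007 = n29347 := ndS (p := 15365) (l := 5) rfl N15365 D29347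
theorem N19008 : nd 19008 = n29348 := ndS (p := 15365) (l := 6) rfl N15365 D29348
theorem N19009 : nd 19009 = n29349 := ndS (p := 15366) (l := 1) rfl N15366 D29349
theorem N19010 : nd 19010 = n29350 := ndS (p := 15368) (l := 3) rfl N15368 D29350
theorem N19011 : nd 19011 = n29351 := ndS (p := 15368) (l := 5) rfl N15368 D29351
theorem N19012 : nd 19012 = n29352 := ndS (p := 15369) (l := 2) rfl N15369 D29352
theorem N19013 : nd 19013 = n29353 := ndS (p := 15369) (l := 4) rfl N15369 D29353
theorem N19014 : nd 19014 = n29354 := ndS (p := 15369) (l := 5) rfl N15369 D29354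
theorem N19015 : nd 19015 = n29355 := ndS (p := 15369) (l := 6) rfl N15369 D29355
theorem N19016 : nd 19016 = n29356 := ndS (p := 15373) (l := 4) rfl N15373 D29356
theorem N19017 : nd 19017 = n29357 := ndS (p := 15373) (l := 6) rfl N15373 D29357
theorem N19018 : nd 19018 = n29358 := ndS (p := 15374) (l := 3) rfl N15374 D29358
theorem N19019 : nd 19019 = n29359 := ndS (p := 15374) (l := 5) rfl N15374 D29359
theorem N19020 : nd 19020 = n29360 := ndS (p := 15375) (l := 1) rfl N15375 D29360
theorem N19021 : nd 19021 = n29361 := ndS (p := 15376) (l := 1) rfl N15376 D29361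
theorem N19022 : nd 19022 = n29362 := ndS (p := 15377) (l := 0) rfl N15377 D29362
theorem N19023 : nd 19023 = n29363 := ndS (p := 15377) (l := 2) rfl N15377 D29363
theorem N19024 : nd 19024 = n29364 := ndS (p := 15378) (l := 1) rfl N15378 D29364
theorem N19025 : nd 19025 = n29365 := ndS (p := 15378) (l := 2) rfl N15378 D29365
theorem N19026 : nd 19026 = n29366 := ndS (p := 15379) (l := 3) rfl N15379 D29366
theorem N19027 : nd 19027 = n29367 := ndS (p := 15380) (l := 1) rfl N15380 D29367
theorem N19028 : nd 19028 = n29368 := ndS (p := 15380) (l := 3) rfl N15380 D29368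
theorem N19029 : nd 19029 = n29369 := ndS (p := 15381) (l := 6) rfl N15381 D29369
theorem N19030 : nd 19030 = n29370 := ndS (p := 15382) (l := 1) rfl N15382 D29370
theorem N19031 : nd 19031 = n29371 := ndS (p := 15383) (l := 3) rfl N15383 D29371
theorem N19032 : nd 19032 = n29372 := ndS (p := 15383) (l := 5) rfl N15383 D29372
theorem N19033 : nd 19033 = n29373 := ndS (p := 15384) (l := 6) rfl N15384 D29373
theorem N19034 : nd 19034 = n29374 := ndS (p := 15385) (l := 1) rfl N15385 D29374
theorem N19035 : nd 19035 = n29375 := ndS (p := 15386) (l := 6) rfl N15386 D29375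
theorem N19036 : nd 19036 = n29376 := ndS (p := 15387) (l := 6) rfl N15387 D29376
theorem N19037 : nd 19037 = n29377 := ndS (p := 15389) (l := 0) rfl N15389 D29377
theorem N19038 : nd 19038 = n29378 := ndS (p := 15391) (l := 3) rfl N15391 D29378
theorem N19039 : nd 19039 = n29379 := ndS (p := 15392) (l := 3) rfl N15392 D29379
theorem N19040 : nd 19040 = n29380 := ndS (p := 15393) (l := 2) rfl N15393 D29380
theorem N19041 : nd 19041 = n29381 := ndS (p := 15393) (l := 4) rfl N15393 D29381
theorem N19042 : nd 19042 = n29382 := ndS (p := 15393) (l := 5) rfl N15393 D29382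
theorem N19043 : nd 19043 = n29383 := ndS (p := 15393) (l := 6) rfl N15393 D29383
theorem N19044 : nd 19044 = n29384 := ndS (p := 15396) (l := 3) rfl N15396 D29384
theorem N19045 : nd 19045 = n29385 := ndS (p := 15396) (l := 4) rfl N15396 D29385
theorem N19046 : nd 19046 = n29386 := ndS (p := 15396) (l := 5) rfl N15396 D29386
theorem N19047 : nd 19047 = n29387 := ndS (p := 15396) (l := 6) rfl N15396 D29387
theorem N19048 : nd 19048 = n29388 := ndS (p := 15397) (l := 5) rfl N15397 D29388
theorem N19049 : nd 19049 = n29389 := ndS (p := 15397) (l := 6) rfl N15397 D29389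
theorem N19050 : nd 19050 = n29390 := ndS (p := 15398) (l := 1) rfl N15398 D29390
theorem N19051 : nd 19051 = n29391 := ndS (p := 15398) (l := 6) rfl N15398 D29391
theorem N19052 : nd 19052 = n29392 := ndS (p := 15399) (l := 5) rfl N15399 D29392
theorem N19053 : nd 19053 = n29393 := ndS (p := 15400) (l := 2) rfl N15400 D29393
theorem N19054 : nd 19054 = n29394 := ndS (p := 15401) (l := 1) rfl N15401 D29394
theorem N19055 : nd 19055 = n29395 := ndS (p := 15402) (l := 1) rfl N15402 D29395
theorem N19056 : nd 19056 = n29396 := ndS (p := 15403) (l := 1) rfl N15403 D29396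
theorem N19057 : nd 19057 = n29397 := ndS (p := 15404) (l := 0) rfl N15404 D29397
theorem N19058 : nd 19058 = n29398 := ndS (p := 15404) (l := 2) rfl N15404 D29398
theorem N19059 : nd 19059 = n29399 := ndS (p := 15404) (l := 6) rfl N15404 D29399
theorem N19060 : nd 19060 = n29400 := ndS (p := 15405) (l := 2) rfl N15405 D29400
theorem N19061 : nd 19061 = n29401 := ndS (p := 15405) (l := 6) rfl N15405 D29401
theorem N19062 : nd 19062 = n29402 := ndS (p := 15406) (l := 3) rfl N15406 D29402
theorem N19063 : nd 19063 = n29403 := ndS (p := 15406) (l := 6) rfl N15406 D29403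
theorem N19064 : nd 19064 = n29404 := ndS (p := 15408) (l := 2) rfl N15408 D29404
theorem N19065 : nd 19065 = n29405 := ndS (p := 15408) (l := 4) rfl N15408 D29405
theorem N19066 : nd 19066 = n29406 := ndS (p := 15409) (l := 1) rfl N15409 D29406
theorem N19067 : nd 19067 = n29407 := ndS (p := 15409) (l := 4) rfl N15409 D29407
theorem N19068 : nd 19068 = n29408 := ndS (p := 15409) (l := 5) rfl N15409 D29408
theorem N19069 : nd 19069 = n29410 := ndS (p := 15410) (l := 3) rfl N15410 D29410
theorem N19070 : nd 19070 = n29411 := ndS (p := 15410) (l := 5) rfl N15410 D29411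
theorem N19071 : nd 19071 = n29412 := ndS (p := 15410) (l := 6) rfl N15410 D29412
theorem N19072 : nd 19072 = n29413 := ndS (p := 15411) (l := 1) rfl N15411 D29413
theorem N19073 : nd 19073 = n29416 := ndS (p := 15413) (l := 2) rfl N15413 D29416
theorem N19074 : nd 19074 = n29417 := ndS (p := 15413) (l := 5) rfl N15413 D29417
theorem N19075 : nd 19075 = n29418 := ndS (p := 15414) (l := 1) rfl N15414 D29418
theorem N19076 : nd 19076 = n29419 := ndS (p := 15414) (l := 6) rfl N15414 D29419
theorem N19077 : nd 19077 = n29420 := ndS (p := 15415) (l := 0) rfl N15415 D29420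
theorem N19078 : nd 19078 = n29421 := ndS (p := 15415) (l := 2) rfl N15415 D29421
theorem N19079 : nd 19079 = n29422 := ndS (p := 15415) (l := 6) rfl N15415 D29422
theorem N19080 : nd 19080 = n29423 := ndS (p := 15416) (l := 1) rfl N15416 D29423
theorem N19081 : nd 19081 = n29424 := ndS (p := 15417) (l := 2) rfl N15417 D29424
theorem N19082 : nd 19082 = n29425 := ndS (p := 15417) (l := 6) rfl N15417 D29425
theorem N19083 : nd 19083 = n29426 := ndS (p := 15418) (l := 1) rfl N15418 D29426
theorem N19084 : nd 19084 = n29427 := ndS (p := 15421) (l := 0) rfl N15421 D29427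
theorem N19085 : nd 19085 = n29428 := ndS (p := 15422) (l := 2) rfl N15422 D29428
theorem N19086 : nd 19086 = n29429 := ndS (p := 15423) (l := 1) rfl N15423 D29429
theorem N19087 : nd 19087 = n29430 := ndS (p := 15423) (l := 2) rfl N15423 D29430
theorem N19088 : nd 19088 = n29431 := ndS (p := 15424) (l := 3) rfl N15424 D29431
theorem N19089 : nd 19089 = n29432 := ndS (p := 15426) (l := 4) rfl N15426 D29432
theorem N19090 : nd 19090 = n29433 := ndS (p := 15427) (l := 1) rfl N15427 D29433
theorem N19091 : nd 19091 = n29434 := ndS (p := 15428) (l := 1) rfl N15428 D29434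
theorem N19092 : nd 19092 = n29435 := ndS (p := 15428) (l := 3) rfl N15428 D29435
theorem N19093 : nd 19093 = n29436 := ndS (p := 15429) (l := 2) rfl N15429 D29436
theorem N19094 : nd 19094 = n29437 := ndS (p := 15429) (l := 4) rfl N15429 D29437
theorem N19095 : nd 19095 = n29438 := ndS (p := 15429) (l := 6) rfl N15429 D29438
theorem N19096 : nd 19096 = n29439 := ndS (p := 15430) (l := 1) rfl N15430 D29439
theorem N19097 : nd 19097 = n29440 := ndS (p := 15431) (l := 3) rfl N15431 D29440
theorem N19098 : nd 19098 = n29441 := ndS (p := 15432) (l := 3) rfl N15432 D29441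
theorem N19099 : nd 19099 = n29442 := ndS (p := 15433) (l := 0) rfl N15433 D29442
theorem N19100 : nd 19100 = n29443 := ndS (p := 15433) (l := 2) rfl N15433 D29443
theorem N19101 : nd 19101 = n29444 := ndS (p := 15434) (l := 2) rfl N15434 D29444
theorem N19102 : nd 19102 = n29445 := ndS (p := 15435) (l := 3) rfl N15435 D29445
theorem N19103 : nd 19103 = n29446 := ndS (p := 15436) (l := 1) rfl N15436 D29446
theorem N19104 : nd 19104 = n29447 := ndS (p := 15436) (l := 3) rfl N15436 D29447
theorem N19105 : nd 19105 = n29448 := ndS (p := 15436) (l := 6) rfl N15436 D29448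
theorem N19106 : nd 19106 = n29449 := ndS (p := 15438) (l := 2) rfl N15438 D29449
theorem N19107 : nd 19107 = n29450 := ndS (p := 15438) (l := 4) rfl N15438 D29450
theorem N19108 : nd 19108 = n29451 := ndS (p := 15438) (l := 6) rfl N15438 D29451
theorem N19109 : nd 19109 = n29452 := ndS (p := 15439) (l := 1) rfl N15439 D29452
theorem N19110 : nd 19110 = n29453 := ndS (p := 15440) (l := 4) rfl N15440 D29453
theorem N19111 : nd 19111 = n29454 := ndS (p := 15441) (l := 1) rfl N15441 D29454
theorem N19112 : nd 19112 = n29455 := ndS (p := 15441) (l := 4) rfl N15441 D29455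
theorem N19113 : nd 19113 = n29456 := ndS (p := 15441) (l := 6) rfl N15441 D29456
theorem N19114 : nd 19114 = n29457 := ndS (p := 15442) (l := 6) rfl N15442 D29457
theorem N19115 : nd 19115 = n29458 := ndS (p := 15443) (l := 1) rfl N15443 D29458
theorem N19116 : nd 19116 = n29459 := ndS (p := 15444) (l := 0) rfl N15444 D29459
theorem N19117 : nd 19117 = n29460 := ndS (p := 15444) (l := 5) rfl N15444 D29460
theorem N19118 : nd 19118 = n29461 := ndS (p := 15447) (l := 2) rfl N15447 D29461
theorem N19119 : nd 19119 = n29462 := ndS (p := 15449) (l := 2) rfl N15449 D29462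
theorem N19120 : nd 19120 = n29463 := ndS (p := 15450) (l := 2) rfl N15450 D29463
theorem N19121 : nd 19121 = n29464 := ndS (p := 15451) (l := 3) rfl N15451 D29464
theorem N19122 : nd 19122 = n29465 := ndS (p := 15451) (l := 6) rfl N15451 D29465
theorem N19123 : nd 19123 = n29466 := ndS (p := 15453) (l := 3) rfl N15453 D29466
theorem N19124 : nd 19124 = n29467 := ndS (p := 15453) (l := 6) rfl N15453 D29467
theorem N19125 : nd 19125 = n29468 := ndS (p := 15455) (l := 4) rfl N15455 D29468
theorem N19126 : nd 19126 = n29469 := ndS (p := 15457) (l := 3) rfl N15457 D29469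
theorem N19127 : nd 19127 = n29470 := ndS (p := 15458) (l := 1) rfl N15458 D29470
theorem N19128 : nd 19128 = n29471 := ndS (p := 15458) (l := 3) rfl N15458 D29471
theorem N19129 : nd 19129 = n29472 := ndS (p := 15458) (l := 4) rfl N15458 D29472
theorem N19130 : nd 19130 = n29473 := ndS (p := 15458) (l := 6) rfl N15458 D29473
theorem N19131 : nd 19131 = n29474 := ndS (p := 15459) (l := 6) rfl N15459 D29474
theorem N19132 : nd 19132 = n29475 := ndS (p := 15460) (l := 1) rfl N15460 D29475
theorem N19133 : nd 19133 = n29476 := ndS (p := 15461) (l := 2) rfl N15461 D29476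
theorem N19134 : nd 19134 = n29477 := ndS (p := 15462) (l := 3) rfl N15462 D29477
theorem N19135 : nd 19135 = n29478 := ndS (p := 15463) (l := 5) rfl N15463 D29478
theorem N19136 : nd 19136 = n29479 := ndS (p := 15465) (l := 2) rfl N15465 D29479
theorem N19137 : nd 19137 = n29480 := ndS (p := 15465) (l := 4) rfl N15465 D29480
theorem N19138 : nd 19138 = n29481 := ndS (p := 15465) (l := 5) rfl N15465 D29481
theorem N19139 : nd 19139 = n29482 := ndS (p := 15467) (l := 3) rfl N15467 D29482
theorem N19140 : nd 19140 = n29483 := ndS (p := 15468) (l := 0) rfl N15468 D29483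
theorem N19141 : nd 19141 = n29484 := ndS (p := 15468) (l := 3) rfl N15468 D29484
theorem N19142 : nd 19142 = n29485 := ndS (p := 15468) (l := 5) rfl N15468 D29485
theorem N19143 : nd 19143 = n29486 := ndS (p := 15468) (l := 6) rfl N15468 D29486
theorem N19144 : nd 19144 = n29487 := ndS (p := 15469) (l := 2) rfl N15469 D29487
theorem N19145 : nd 19145 = n29488 := ndS (p := 15469) (l := 4) rfl N15469 D29488
theorem N19146 : nd 19146 = n29489 := ndS (p := 15469) (l := 5) rfl N15469 D29489
theorem N19147 : nd 19147 = n29490 := ndS (p := 15469) (l := 6) rfl N15469 D29490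
theorem N19148 : nd 19148 = n29491 := ndS (p := 15471) (l := 1) rfl N15471 D29491
theorem N19149 : nd 19149 = n29492 := ndS (p := 15472) (l := 3) rfl N15472 D29492
theorem N19150 : nd 19150 = n29493 := ndS (p := 15472) (l := 6) rfl N15472 D29493
theorem N19151 : nd 19151 = n29494 := ndS (p := 15473) (l := 2) rfl N15473 D29494
theorem N19152 : nd 19152 = n29495 := ndS (p := 15473) (l := 4) rfl N15473 D29495
theorem N19153 : nd 19153 = n29496 := ndS (p := 15473) (l := 5) rfl N15473 D29496
theorem N19154 : nd 19154 = n29497 := ndS (p := 15473) (l := 6) rfl N15473 D29497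
theorem N19155 : nd 19155 = n29498 := ndS (p := 15477) (l := 5) rfl N15477 D29498
theorem N19156 : nd 19156 = n29499 := ndS (p := 15478) (l := 6) rfl N15478 D29499
theorem N19157 : nd 19157 = n29500 := ndS (p := 15479) (l := 1) rfl N15479 D29500
theorem N19158 : nd 19158 = n29501 := ndS (p := 15480) (l := 1) rfl N15480 D29501
theorem N19159 : nd 19159 = n29502 := ndS (p := 15481) (l := 0) rfl N15481 D29502
theorem N19160 : nd 19160 = n29503 := ndS (p := 15481) (l := 2) rfl N15481 D29503
theorem N19161 : nd 19161 = n29504 := ndS (p := 15482) (l := 1) rfl N15482 D29504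
theorem N19162 : nd 19162 = n29505 := ndS (p := 15482) (l := 2) rfl N15482 D29505
theorem N19163 : nd 19163 = n29506 := ndS (p := 15483) (l := 3) rfl N15483 D29506
theorem N19164 : nd 19164 = n29507 := ndS (p := 15484) (l := 1) rfl N15484 D29507
theorem N19165 : nd 19165 = n29508 := ndS (p := 15484) (l := 3) rfl N15484 D29508
theorem N19166 : nd 19166 = n29509 := ndS (p := 15485) (l := 5) rfl N15485 D29509
theorem N19167 : nd 19167 = n29510 := ndS (p := 15486) (l := 1) rfl N15486 D29510
theorem N19168 : nd 19168 = n29511 := ndS (p := 15487) (l := 3) rfl N15487 D29511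
theorem N19169 : nd 19169 = n29512 := ndS (p := 15487) (l := 6) rfl N15487 D29512
theorem N19170 : nd 19170 = n29513 := ndS (p := 15488) (l := 5) rfl N15488 D29513
theorem N19171 : nd 19171 = n29514 := ndS (p := 15489) (l := 1) rfl N15489 D29514
theorem N19172 : nd 19172 = n29515 := ndS (p := 15490) (l := 5) rfl N15490 D29515
theorem N19173 : nd 19173 = n29516 := ndS (p := 15491) (l := 5) rfl N15491 D29516
theorem N19174 : nd 19174 = n29517 := ndS (p := 15493) (l := 0) rfl N15493 D29517
theorem N19175 : nd 19175 = n29518 := ndS (p := 15495) (l := 3) rfl N15495 D29518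
theorem N19176 : nd 19176 = n29519 := ndS (p := 15496) (l := 3) rfl N15496 D29519
theorem N19177 : nd 19177 = n29520 := ndS (p := 15497) (l := 2) rfl N15497 D29520
theorem N19178 : nd 19178 = n29521 := ndS (p := 15497) (l := 4) rfl N15497 D29521
theorem N19179 : nd 19179 = n29522 := ndS (p := 15497) (l := 5) rfl N15497 D29522
theorem N19180 : nd 19180 = n29523 := ndS (p := 15497) (l := 6) rfl N15497 D29523
theorem N19181 : nd 19181 = n29524 := ndS (p := 15500) (l := 3) rfl N15500 D29524
theorem N19182 : nd 19182 = n29525 := ndS (p := 15500) (l := 4) rfl N15500 D29525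
theorem N19183 : nd 19183 = n29526 := ndS (p := 15500) (l := 5) rfl N15500 D29526
theorem N19184 : nd 19184 = n29527 := ndS (p := 15500) (l := 6) rfl N15500 D29527
theorem N19185 : nd 19185 = n29528 := ndS (p := 15501) (l := 5) rfl N15501 D29528
theorem N19186 : nd 19186 = n29529 := ndS (p := 15501) (l := 6) rfl N15501 D29529
theorem N19187 : nd 19187 = n29530 := ndS (p := 15502) (l := 6) rfl N15502 D29530
theorem N19188 : nd 19188 = n29531 := ndS (p := 15503) (l := 1) rfl N15503 D29531
theorem N19189 : nd 19189 = n29532 := ndS (p := 15503) (l := 5) rfl N15503 D29532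
theorem N19190 : nd 19190 = n29533 := ndS (p := 15504) (l := 1) rfl N15504 D29533
theorem N19191 : nd 19191 = n29534 := ndS (p := 15505) (l := 2) rfl N15505 D29534
theorem N19192 : nd 19192 = n29535 := ndS (p := 15506) (l := 1) rfl N15506 D29535
theorem N19193 : nd 19193 = n29536 := ndS (p := 15507) (l := 1) rfl N15507 D29536
theorem N19194 : nd 19194 = n29537 := ndS (p := 15508) (l := 0) rfl N15508 D29537
theorem N19195 : nd 19195 = n29538 := ndS (p := 15508) (l := 2) rfl N15508 D29538
theorem N19196 : nd 19196 = n29539 := ndS (p := 15508) (l := 5) rfl N15508 D29539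
theorem N19197 : nd 19197 = n29540 := ndS (p := 15509) (l := 2) rfl N15509 D29540
theorem N19198 : nd 19198 = n29541 := ndS (p := 15509) (l := 5) rfl N15509 D29541
theorem N19199 : nd 19199 = n29542 := ndS (p := 15510) (l := 3) rfl N15510 D29542
theorem N19200 : nd 19200 = n29543 := ndS (p := 15510) (l := 5) rfl N15510 D29543
theorem N19201 : nd 19201 = n29544 := ndS (p := 15512) (l := 2) rfl N15512 D29544
theorem N19202 : nd 19202 = n29545 := ndS (p := 15512) (l := 4) rfl N15512 D29545
theorem N19203 : nd 19203 = n29546 := ndS (p := 15513) (l := 1) rfl N15513 D29546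
theorem N19204 : nd 19204 = n29547 := ndS (p := 15513) (l := 4) rfl N15513 D29547
theorem N19205 : nd 19205 = n29550 := ndS (p := 15514) (l := 3) rfl N15514 D29550
theorem N19206 : nd 19206 = n29551 := ndS (p := 15514) (l := 5) rfl N15514 D29551
theorem N19207 : nd 19207 = n29556 := ndS (p := 15516) (l := 2) rfl N15516 D29556
theorem N19208 : nd 19208 = n29557 := ndS (p := 15516) (l := 6) rfl N15516 D29557
theorem N19209 : nd 19209 = n29558 := ndS (p := 15517) (l := 1) rfl N15517 D29558
theorem N19210 : nd 19210 = n29559 := ndS (p := 15517) (l := 5) rfl N15517 D29559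
theorem N19211 : nd 19211 = n29560 := ndS (p := 15518) (l := 0) rfl N15518 D29560
theorem N19212 : nd 19212 = n29561 := ndS (p := 15518) (l := 2) rfl N15518 D29561
theorem N19213 : nd 19213 = n29562 := ndS (p := 15518) (l := 5) rfl N15518 D29562
theorem N19214 : nd 19214 = n29563 := ndS (p := 15519) (l := 1) rfl N15519 D29563
theorem N19215 : nd 19215 = n29564 := ndS (p := 15520) (l := 2) rfl N15520 D29564
theorem N19216 : nd 19216 = n29565 := ndS (p := 15520) (l := 5) rfl N15520 D29565
theorem N19217 : nd 19217 = n29566 := ndS (p := 15521) (l := 1) rfl N15521 D29566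
theorem N19218 : nd 19218 = n29567 := ndS (p := 15524) (l := 0) rfl N15524 D29567
theorem N19219 : nd 19219 = n29568 := ndS (p := 15525) (l := 2) rfl N15525 D29568
theorem N19220 : nd 19220 = n29569 := ndS (p := 15526) (l := 1) rfl N15526 D29569
theorem N19221 : nd 19221 = n29570 := ndS (p := 15526) (l := 2) rfl N15526 D29570
theorem N19222 : nd 19222 = n29571 := ndS (p := 15527) (l := 3) rfl N15527 D29571
theorem N19223 : nd 19223 = n29572 := ndS (p := 15529) (l := 4) rfl N15529 D29572
theorem N19224 : nd 19224 = n29573 := ndS (p := 15530) (l := 1) rfl N15530 D29573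
theorem N19225 : nd 19225 = n29574 := ndS (p := 15532) (l := 0) rfl N15532 D29574
theorem N19226 : nd 19226 = n29575 := ndS (p := 15532) (l := 2) rfl N15532 D29575
theorem N19227 : nd 19227 = n29576 := ndS (p := 15532) (l := 5) rfl N15532 D29576
theorem N19228 : nd 19228 = n29577 := ndS (p := 15534) (l := 2) rfl N15534 D29577
theorem N19229 : nd 19229 = n29578 := ndS (p := 15535) (l := 3) rfl N15535 D29578
theorem N19230 : nd 19230 = n29579 := ndS (p := 15537) (l := 0) rfl N15537 D29579
theorem N19231 : nd 19231 = n29580 := ndS (p := 15537) (l := 5) rfl N15537 D29580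
theorem N19232 : nd 19232 = n29581 := ndS (p := 15538) (l := 0) rfl N15538 D29581
theorem N19233 : nd 19233 = n29582 := ndS (p := 15538) (l := 2) rfl N15538 D29582
theorem N19234 : nd 19234 = n29583 := ndS (p := 15538) (l := 5) rfl N15538 D29583
theorem N19235 : nd 19235 = n29584 := ndS (p := 15539) (l := 5) rfl N15539 D29584
theorem N19236 : nd 19236 = n29585 := ndS (p := 15540) (l := 5) rfl N15540 D29585
theorem N19237 : nd 19237 = n29586 := ndS (p := 15541) (l := 6) rfl N15541 D29586
theorem N19238 : nd 19238 = n29587 := ndS (p := 15542) (l := 2) rfl N15542 D29587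
theorem N19239 : nd 19239 = n29588 := ndS (p := 15542) (l := 6) rfl N15542 D29588
theorem N19240 : nd 19240 = n29589 := ndS (p := 15544) (l := 3) rfl N15544 D29589
theorem N19241 : nd 19241 = n29590 := ndS (p := 15547) (l := 3) rfl N15547 D29590
theorem N19242 : nd 19242 = n29591 := ndS (p := 15549) (l := 4) rfl N15549 D29591
theorem N19243 : nd 19243 = n29592 := ndS (p := 15550) (l := 1) rfl N15550 D29592
theorem N19244 : nd 19244 = n29593 := ndS (p := 15552) (l := 3) rfl N15552 D29593
theorem N19245 : nd 19245 = n29594 := ndS (p := 15554) (l := 2) rfl N15554 D29594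
theorem N19246 : nd 19246 = n29595 := ndS (p := 15555) (l := 2) rfl N15555 D29595
theorem N19247 : nd 19247 = n29596 := ndS (p := 15555) (l := 4) rfl N15555 D29596
theorem N19248 : nd 19248 = n29597 := ndS (p := 15556) (l := 1) rfl N15556 D29597
theorem N19249 : nd 19249 = n29598 := ndS (p := 15556) (l := 3) rfl N15556 D29598
theorem N19250 : nd 19250 = n29599 := ndS (p := 15556) (l := 4) rfl N15556 D29599
theorem N19251 : nd 19251 = n29600 := ndS (p := 15556) (l := 5) rfl N15556 D29600
theorem N19252 : nd 19252 = n29601 := ndS (p := 15557) (l := 5) rfl N15557 D29601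
theorem N19253 : nd 19253 = n29602 := ndS (p := 15558) (l := 1) rfl N15558 D29602
theorem N19254 : nd 19254 = n29603 := ndS (p := 15559) (l := 0) rfl N15559 D29603
theorem N19255 : nd 19255 = n29604 := ndS (p := 15560) (l := 2) rfl N15560 D29604
theorem N19256 : nd 19256 = n29605 := ndS (p := 15560) (l := 4) rfl N15560 D29605
theorem N19257 : nd 19257 = n29606 := ndS (p := 15561) (l := 2) rfl N15561 D29606
theorem N19258 : nd 19258 = n29607 := ndS (p := 15562) (l := 3) rfl N15562 D29607
theorem N19259 : nd 19259 = n29608 := ndS (p := 15562) (l := 5) rfl N15562 D29608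
theorem N19260 : nd 19260 = n29609 := ndS (p := 15564) (l := 0) rfl N15564 D29609
theorem N19261 : nd 19261 = n29610 := ndS (p := 15566) (l := 1) rfl N15566 D29610
theorem N19262 : nd 19262 = n29611 := ndS (p := 15566) (l := 2) rfl N15566 D29611
theorem N19263 : nd 19263 = n29612 := ndS (p := 15567) (l := 3) rfl N15567 D29612
theorem N19264 : nd 19264 = n29613 := ndS (p := 15568) (l := 3) rfl N15568 D29613
theorem N19265 : nd 19265 = n29614 := ndS (p := 15570) (l := 3) rfl N15570 D29614
theorem N19266 : nd 19266 = n29615 := ndS (p := 15571) (l := 2) rfl N15571 D29615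
theorem N19267 : nd 19267 = n29616 := ndS (p := 15571) (l := 4) rfl N15571 D29616
theorem N19268 : nd 19268 = n29617 := ndS (p := 15575) (l := 3) rfl N15575 D29617
theorem N19269 : nd 19269 = n29618 := ndS (p := 15577) (l := 2) rfl N15577 D29618
theorem N19270 : nd 19270 = n29619 := ndS (p := 15577) (l := 5) rfl N15577 D29619
theorem N19271 : nd 19271 = n29620 := ndS (p := 15580) (l := 1) rfl N15580 D29620
theorem N19272 : nd 19272 = n29621 := ndS (p := 15580) (l := 3) rfl N15580 D29621
theorem N19273 : nd 19273 = n29622 := ndS (p := 15581) (l := 3) rfl N15581 D29622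
theorem N19274 : nd 19274 = n29623 := ndS (p := 15582) (l := 2) rfl N15582 D29623
theorem N19275 : nd 19275 = n29624 := ndS (p := 15582) (l := 4) rfl N15582 D29624
theorem N19276 : nd 19276 = n29625 := ndS (p := 15582) (l := 5) rfl N15582 D29625
theorem N19277 : nd 19277 = n29626 := ndS (p := 15583) (l := 1) rfl N15583 D29626
theorem N19278 : nd 19278 = n29627 := ndS (p := 15584) (l := 1) rfl N15584 D29627
theorem N19279 : nd 19279 = n29628 := ndS (p := 15584) (l := 3) rfl N15584 D29628
theorem N19280 : nd 19280 = n29629 := ndS (p := 15584) (l := 4) rfl N15584 D29629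
theorem N19281 : nd 19281 = n29630 := ndS (p := 15584) (l := 5) rfl N15584 D29630
theorem N19282 : nd 19282 = n29631 := ndS (p := 15587) (l := 4) rfl N15587 D29631
theorem N19283 : nd 19283 = n29632 := ndS (p := 15589) (l := 1) rfl N15589 D29632
theorem N19284 : nd 19284 = n29633 := ndS (p := 15589) (l := 4) rfl N15589 D29633
theorem N19285 : nd 19285 = n29634 := ndS (p := 15589) (l := 5) rfl N15589 D29634
theorem N19286 : nd 19286 = n29635 := ndS (p := 15590) (l := 5) rfl N15590 D29635
theorem N19287 : nd 19287 = n29636 := ndS (p := 15591) (l := 1) rfl N15591 D29636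
theorem N19288 : nd 19288 = n29637 := ndS (p := 15593) (l := 0) rfl N15593 D29637
theorem N19289 : nd 19289 = n29638 := ndS (p := 15593) (l := 3) rfl N15593 D29638
theorem N19290 : nd 19290 = n29639 := ndS (p := 15593) (l := 4) rfl N15593 D29639
theorem N19291 : nd 19291 = n29640 := ndS (p := 15593) (l := 5) rfl N15593 D29640
theorem N19292 : nd 19292 = n29641 := ndS (p := 15593) (l := 6) rfl N15593 D29641
theorem N19293 : nd 19293 = n29642 := ndS (p := 15594) (l := 4) rfl N15594 D29642
theorem N19294 : nd 19294 = n29643 := ndS (p := 15594) (l := 5) rfl N15594 D29643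
theorem N19295 : nd 19295 = n29644 := ndS (p := 15595) (l := 3) rfl N15595 D29644
theorem N19296 : nd 19296 = n29645 := ndS (p := 15595) (l := 5) rfl N15595 D29645
theorem N19297 : nd 19297 = n29646 := ndS (p := 15596) (l := 1) rfl N15596 D29646
theorem N19298 : nd 19298 = n29647 := ndS (p := 15598) (l := 0) rfl N15598 D29647
theorem N19299 : nd 19299 = n29648 := ndS (p := 15598) (l := 2) rfl N15598 D29648
theorem N19300 : nd 19300 = n29649 := ndS (p := 15598) (l := 6) rfl N15598 D29649
theorem N19301 : nd 19301 = n29650 := ndS (p := 15604) (l := 1) rfl N15604 D29650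
theorem N19302 : nd 19302 = n29651 := ndS (p := 15612) (l := 0) rfl N15612 D29651
theorem N19303 : nd 19303 = n29652 := ndS (p := 15612) (l := 5) rfl N15612 D29652
theorem N19304 : nd 19304 = n29653 := ndS (p := 15613) (l := 0) rfl N15613 D29653
theorem N19305 : nd 19305 = n29654 := ndS (p := 15616) (l := 2) rfl N15616 D29654
theorem N19306 : nd 19306 = n29655 := ndS (p := 15617) (l := 5) rfl N15617 D29655
theorem N19307 : nd 19307 = n29656 := ndS (p := 15617) (l := 6) rfl N15617 D29656
theorem N19308 : nd 19308 = n29657 := ndS (p := 15618) (l := 6) rfl N15618 D29657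
theorem N19309 : nd 19309 = n29658 := ndS (p := 15620) (l := 2) rfl N15620 D29658
theorem N19310 : nd 19310 = n29659 := ndS (p := 15621) (l := 3) rfl N15621 D29659
theorem N19311 : nd 19311 = n29660 := ndS (p := 15622) (l := 3) rfl N15622 D29660
theorem N19312 : nd 19312 = n29661 := ndS (p := 15624) (l := 2) rfl N15624 D29661
theorem N19313 : nd 19313 = n29662 := ndS (p := 15624) (l := 6) rfl N15624 D29662
theorem N19314 : nd 19314 = n29663 := ndS (p := 15625) (l := 5) rfl N15625 D29663
theorem N19315 : nd 19315 = n29664 := ndS (p := 15626) (l := 1) rfl N15626 D29664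
theorem N19316 : nd 19316 = n29665 := ndS (p := 15627) (l := 3) rfl N15627 D29665
theorem N19317 : nd 19317 = n29666 := ndS (p := 15628) (l := 2) rfl N15628 D29666
theorem N19318 : nd 19318 = n29667 := ndS (p := 15631) (l := 2) rfl N15631 D29667
theorem N19319 : nd 19319 = n29668 := ndS (p := 15633) (l := 3) rfl N15633 D29668
theorem N19320 : nd 19320 = n29669 := ndS (p := 15638) (l := 2) rfl N15638 D29669
theorem N19321 : nd 19321 = n29670 := ndS (p := 15638) (l := 4) rfl N15638 D29670
theorem N19322 : nd 19322 = n29671 := ndS (p := 15639) (l := 3) rfl N15639 D29671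
theorem N19323 : nd 19323 = n29672 := ndS (p := 15640) (l := 2) rfl N15640 D29672
theorem N19324 : nd 19324 = n29673 := ndS (p := 15640) (l := 4) rfl N15640 D29673
theorem N19325 : nd 19325 = n29674 := ndS (p := 15640) (l := 5) rfl N15640 D29674
theorem N19326 : nd 19326 = n29675 := ndS (p := 15640) (l := 6) rfl N15640 D29675
theorem N19327 : nd 19327 = n29676 := ndS (p := 15641) (l := 6) rfl N15641 D29676
theorem N19328 : nd 19328 = n29677 := ndS (p := 15642) (l := 1) rfl N15642 D29677
theorem N19329 : nd 19329 = n29678 := ndS (p := 15643) (l := 1) rfl N15643 D29678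
theorem N19330 : nd 19330 = n29679 := ndS (p := 15643) (l := 3) rfl N15643 D29679
theorem N19331 : nd 19331 = n29680 := ndS (p := 15643) (l := 5) rfl N15643 D29680
theorem N19332 : nd 19332 = n29681 := ndS (p := 15646) (l := 1) rfl N15646 D29681
theorem N19333 : nd 19333 = n29682 := ndS (p := 15648) (l := 2) rfl N15648 D29682
theorem N19334 : nd 19334 = n29683 := ndS (p := 15648) (l := 4) rfl N15648 D29683
theorem N19335 : nd 19335 = n29684 := ndS (p := 15648) (l := 6) rfl N15648 D29684
theorem N19336 : nd 19336 = n29685 := ndS (p := 15650) (l := 5) rfl N15650 D29685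
theorem N19337 : nd 19337 = n29686 := ndS (p := 15650) (l := 6) rfl N15650 D29686
theorem N19338 : nd 19338 = n29687 := ndS (p := 15651) (l := 5) rfl N15651 D29687
theorem N19339 : nd 19339 = n29688 := ndS (p := 15651) (l := 6) rfl N15651 D29688
theorem N19340 : nd 19340 = n29689 := ndS (p := 15652) (l := 6) rfl N15652 D29689
theorem N19341 : nd 19341 = n29691 := ndS (p := 15657) (l := 3) rfl N15657 D29691
theorem N19342 : nd 19342 = n29692 := ndS (p := 15657) (l := 4) rfl N15657 D29692
theorem N19343 : nd 19343 = n29693 := ndS (p := 15657) (l := 5) rfl N15657 D29693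
theorem N19344 : nd 19344 = n29694 := ndS (p := 15657) (l := 6) rfl N15657 D29694
theorem N19345 : nd 19345 = n29695 := ndS (p := 15658) (l := 2) rfl N15658 D29695
theorem N19346 : nd 19346 = n29696 := ndS (p := 15658) (l := 4) rfl N15658 D29696
theorem N19347 : nd 19347 = n29697 := ndS (p := 15658) (l := 6) rfl N15658 D29697
theorem N19348 : nd 19348 = n29698 := ndS (p := 15659) (l := 3) rfl N15659 D29698
theorem N19349 : nd 19349 = n29699 := ndS (p := 15659) (l := 5) rfl N15659 D29699
theorem N19350 : nd 19350 = n29700 := ndS (p := 15659) (l := 6) rfl N15659 D29700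
theorem N19351 : nd 19351 = n29701 := ndS (p := 15660) (l := 1) rfl N15660 D29701
theorem N19352 : nd 19352 = n29702 := ndS (p := 15660) (l := 6) rfl N15660 D29702
theorem N19353 : nd 19353 = n29703 := ndS (p := 15661) (l := 5) rfl N15661 D29703
theorem N19354 : nd 19354 = n29704 := ndS (p := 15662) (l := 3) rfl N15662 D29704
theorem N19355 : nd 19355 = n29705 := ndS (p := 15663) (l := 2) rfl N15663 D29705
theorem N19356 : nd 19356 = n29706 := ndS (p := 15663) (l := 5) rfl N15663 D29706
theorem N19357 : nd 19357 = n29707 := ndS (p := 15664) (l := 1) rfl N15664 D29707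
theorem N19358 : nd 19358 = n29708 := ndS (p := 15665) (l := 0) rfl N15665 D29708
theorem N19359 : nd 19359 = n29709 := ndS (p := 15665) (l := 2) rfl N15665 D29709
theorem N19360 : nd 19360 = n29710 := ndS (p := 15665) (l := 6) rfl N15665 D29710
theorem N19361 : nd 19361 = n29711 := ndS (p := 15666) (l := 0) rfl N15666 D29711
theorem N19362 : nd 19362 = n29712 := ndS (p := 15666) (l := 2) rfl N15666 D29712
theorem N19363 : nd 19363 = n29713 := ndS (p := 15666) (l := 6) rfl N15666 D29713
theorem N19364 : nd 19364 = n29714 := ndS (p := 15667) (l := 1) rfl N15667 D29714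
theorem N19365 : nd 19365 = n29715 := ndS (p := 15667) (l := 2) rfl N15667 D29715
theorem N19366 : nd 19366 = n29716 := ndS (p := 15667) (l := 6) rfl N15667 D29716
theorem N19367 : nd 19367 = n29717 := ndS (p := 15668) (l := 3) rfl N15668 D29717
theorem N19368 : nd 19368 = n29718 := ndS (p := 15668) (l := 6) rfl N15668 D29718
theorem N19369 : nd 19369 = n29719 := ndS (p := 15669) (l := 5) rfl N15669 D29719
theorem N19370 : nd 19370 = n29720 := ndS (p := 15674) (l := 5) rfl N15674 D29720
theorem N19371 : nd 19371 = n29721 := ndS (p := 15679) (l := 6) rfl N15679 D29721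
theorem N19372 : nd 19372 = n29722 := ndS (p := 15681) (l := 1) rfl N15681 D29722
theorem N19373 : nd 19373 = n29723 := ndS (p := 15682) (l := 5) rfl N15682 D29723
theorem N19374 : nd 19374 = n29724 := ndS (p := 15683) (l := 6) rfl N15683 D29724
theorem N19375 : nd 19375 = n29725 := ndS (p := 15684) (l := 1) rfl N15684 D29725
theorem N19376 : nd 19376 = n29726 := ndS (p := 15687) (l := 1) rfl N15687 D29726
theorem N19377 : nd 19377 = n29727 := ndS (p := 15688) (l := 1) rfl N15688 D29727
theorem N19378 : nd 19378 = n29728 := ndS (p := 15689) (l := 0) rfl N15689 D29728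
theorem N19379 : nd 19379 = n29729 := ndS (p := 15690) (l := 2) rfl N15690 D29729
theorem N19380 : nd 19380 = n29730 := ndS (p := 15690) (l := 6) rfl N15690 D29730
theorem N19381 : nd 19381 = n29731 := ndS (p := 15691) (l := 1) rfl N15691 D29731
theorem N19382 : nd 19382 = n29732 := ndS (p := 15693) (l := 1) rfl N15693 D29732
theorem N19383 : nd 19383 = n29733 := ndS (p := 15694) (l := 1) rfl N15694 D29733
theorem N19384 : nd 19384 = n29734 := ndS (p := 15696) (l := 5) rfl N15696 D29734
theorem N19385 : nd 19385 = n29735 := ndS (p := 15697) (l := 6) rfl N15697 D29735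
theorem N19386 : nd 19386 = n29736 := ndS (p := 15700) (l := 1) rfl N15700 D29736
theorem N19387 : nd 19387 = n29737 := ndS (p := 15700) (l := 6) rfl N15700 D29737
theorem N19388 : nd 19388 = n29738 := ndS (p := 15701) (l := 1) rfl N15701 D29738
theorem N19389 : nd 19389 = n29739 := ndS (p := 15705) (l := 1) rfl N15705 D29739
theorem N19390 : nd 19390 = n29740 := ndS (p := 15706) (l := 6) rfl N15706 D29740
theorem N19391 : nd 19391 = n29741 := ndS (p := 15708) (l := 6) rfl N15708 D29741
theorem N19392 : nd 19392 = n29742 := ndS (p := 15709) (l := 3) rfl N15709 D29742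
theorem N19393 : nd 19393 = n29743 := ndS (p := 15711) (l := 2) rfl N15711 D29743
theorem N19394 : nd 19394 = n29744 := ndS (p := 15711) (l := 4) rfl N15711 D29744
theorem N19395 : nd 19395 = n29745 := ndS (p := 15712) (l := 4) rfl N15712 D29745
theorem N19396 : nd 19396 = n29746 := ndS (p := 15712) (l := 6) rfl N15712 D29746
theorem N19397 : nd 19397 = n29747 := ndS (p := 15714) (l := 5) rfl N15714 D29747
theorem N19398 : nd 19398 = n29748 := ndS (p := 15714) (l := 6) rfl N15714 D29748
theorem N19399 : nd 19399 = n29749 := ndS (p := 15716) (l := 1) rfl N15716 D29749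
theorem N19400 : nd 19400 = n29750 := ndS (p := 15718) (l := 0) rfl N15718 D29750
theorem N19401 : nd 19401 = n29751 := ndS (p := 15718) (l := 4) rfl N15718 D29751
theorem N19402 : nd 19402 = n29752 := ndS (p := 15718) (l := 5) rfl N15718 D29752
theorem N19403 : nd 19403 = n29753 := ndS (p := 15718) (l := 6) rfl N15718 D29753
theorem N19404 : nd 19404 = n29754 := ndS (p := 15719) (l := 3) rfl N15719 D29754
theorem N19405 : nd 19405 = n29755 := ndS (p := 15719) (l := 5) rfl N15719 D29755
theorem N19406 : nd 19406 = n29756 := ndS (p := 15719) (l := 6) rfl N15719 D29756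
theorem N19407 : nd 19407 = n29757 := ndS (p := 15720) (l := 1) rfl N15720 D29757
theorem N19408 : nd 19408 = n29758 := ndS (p := 15721) (l := 1) rfl N15721 D29758
theorem N19409 : nd 19409 = n29759 := ndS (p := 15721) (l := 5) rfl N15721 D29759
theorem N19410 : nd 19410 = n29760 := ndS (p := 15722) (l := 6) rfl N15722 D29760
theorem N19411 : nd 19411 = n29761 := ndS (p := 15723) (l := 5) rfl N15723 D29761
theorem N19412 : nd 19412 = n29762 := ndS (p := 15724) (l := 2) rfl N15724 D29762
theorem N19413 : nd 19413 = n29763 := ndS (p := 15724) (l := 6) rfl N15724 D29763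
theorem N19414 : nd 19414 = n29764 := ndS (p := 15728) (l := 1) rfl N15728 D29764
theorem N19415 : nd 19415 = n29765 := ndS (p := 15728) (l := 4) rfl N15728 D29765
theorem N19416 : nd 19416 = n29766 := ndS (p := 15728) (l := 5) rfl N15728 D29766
theorem N19417 : nd 19417 = n29768 := ndS (p := 15729) (l := 3) rfl N15729 D29768
theorem N19418 : nd 19418 = n29769 := ndS (p := 15729) (l := 5) rfl N15729 D29769
theorem N19419 : nd 19419 = n29770 := ndS (p := 15730) (l := 1) rfl N15730 D29770
theorem N19420 : nd 19420 = n29773 := ndS (p := 15732) (l := 5) rfl N15732 D29773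
theorem N19421 : nd 19421 = n29774 := ndS (p := 15734) (l := 6) rfl N15734 D29774
theorem N19422 : nd 19422 = n29775 := ndS (p := 15735) (l := 6) rfl N15735 D29775
theorem N19423 : nd 19423 = n29776 := ndS (p := 15736) (l := 5) rfl N15736 D29776
theorem N19424 : nd 19424 = n29777 := ndS (p := 15739) (l := 1) rfl N15739 D29777
theorem N19425 : nd 19425 = n29778 := ndS (p := 15739) (l := 4) rfl N15739 D29778
theorem N19426 : nd 19426 = n29779 := ndS (p := 15741) (l := 0) rfl N15741 D29779
theorem N19427 : nd 19427 = n29780 := ndS (p := 15741) (l := 3) rfl N15741 D29780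
theorem N19428 : nd 19428 = n29781 := ndS (p := 15741) (l := 4) rfl N15741 D29781
theorem N19429 : nd 19429 = n29782 := ndS (p := 15741) (l := 5) rfl N15741 D29782
theorem N19430 : nd 19430 = n29783 := ndS (p := 15742) (l := 4) rfl N15742 D29783
theorem N19431 : nd 19431 = n29784 := ndS (p := 15742) (l := 5) rfl N15742 D29784
theorem N19432 : nd 19432 = n29785 := ndS (p := 15742) (l := 6) rfl N15742 D29785
theorem N19433 : nd 19433 = n29786 := ndS (p := 15743) (l := 6) rfl N15743 D29786
theorem N19434 : nd 19434 = n29787 := ndS (p := 15744) (l := 1) rfl N15744 D29787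
theorem N19435 : nd 19435 = n29788 := ndS (p := 15746) (l := 4) rfl N15746 D29788
theorem N19436 : nd 19436 = n29789 := ndS (p := 15746) (l := 5) rfl N15746 D29789
theorem N19437 : nd 19437 = n29790 := ndS (p := 15746) (l := 6) rfl N15746 D29790
theorem N19438 : nd 19438 = n29791 := ndS (p := 15747) (l := 3) rfl N15747 D29791
theorem N19439 : nd 19439 = n29792 := ndS (p := 15747) (l := 5) rfl N15747 D29792
theorem N19440 : nd 19440 = n29793 := ndS (p := 15747) (l := 6) rfl N15747 D29793
theorem N19441 : nd 19441 = n29794 := ndS (p := 15748) (l := 6) rfl N15748 D29794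
theorem N19442 : nd 19442 = n29795 := ndS (p := 15749) (l := 5) rfl N15749 D29795
theorem N19443 : nd 19443 = n29796 := ndS (p := 15750) (l := 6) rfl N15750 D29796
theorem N19444 : nd 19444 = n29797 := ndS (p := 15751) (l := 1) rfl N15751 D29797
theorem N19445 : nd 19445 = n29798 := ndS (p := 15751) (l := 6) rfl N15751 D29798
theorem N19446 : nd 19446 = n29799 := ndS (p := 15752) (l := 5) rfl N15752 D29799
theorem N19447 : nd 19447 = n29800 := ndS (p := 15755) (l := 1) rfl N15755 D29800
theorem N19448 : nd 19448 = n29801 := ndS (p := 15756) (l := 2) rfl N15756 D29801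
theorem N19449 : nd 19449 = n29802 := ndS (p := 15756) (l := 5) rfl N15756 D29802
theorem N19450 : nd 19450 = n29803 := ndS (p := 15757) (l := 1) rfl N15757 D29803
theorem N19451 : nd 19451 = n29804 := ndS (p := 15759) (l := 1) rfl N15759 D29804
theorem N19452 : nd 19452 = n29805 := ndS (p := 15759) (l := 5) rfl N15759 D29805
theorem N19453 : nd 19453 = n29806 := ndS (p := 15760) (l := 1) rfl N15760 D29806
theorem N19454 : nd 19454 = n29807 := ndS (p := 15764) (l := 2) rfl N15764 D29807
theorem N19455 : nd 19455 = n29808 := ndS (p := 15765) (l := 0) rfl N15765 D29808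
theorem N19456 : nd 19456 = n29809 := ndS (p := 15765) (l := 2) rfl N15765 D29809
theorem N19457 : nd 19457 = n29810 := ndS (p := 15765) (l := 5) rfl N15765 D29810
theorem N19458 : nd 19458 = n29811 := ndS (p := 15766) (l := 2) rfl N15766 D29811
theorem N19459 : nd 19459 = n29812 := ndS (p := 15766) (l := 5) rfl N15766 D29812
theorem N19460 : nd 19460 = n29813 := ndS (p := 15767) (l := 3) rfl N15767 D29813
theorem N19461 : nd 19461 = n29814 := ndS (p := 15767) (l := 5) rfl N15767 D29814
theorem N19462 : nd 19462 = n29815 := ndS (p := 15768) (l := 6) rfl N15768 D29815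
theorem N19463 : nd 19463 = n29816 := ndS (p := 15769) (l := 5) rfl N15769 D29816
theorem N19464 : nd 19464 = n29817 := ndS (p := 15771) (l := 6) rfl N15771 D29817
theorem N19465 : nd 19465 = n29818 := ndS (p := 15776) (l := 0) rfl N15776 D29818
theorem N19466 : nd 19466 = n29819 := ndS (p := 15776) (l := 2) rfl N15776 D29819
theorem N19467 : nd 19467 = n29820 := ndS (p := 15779) (l := 0) rfl N15779 D29820
theorem N19468 : nd 19468 = n29821 := ndS (p := 15779) (l := 6) rfl N15779 D29821
theorem N19469 : nd 19469 = n29822 := ndS (p := 15780) (l := 6) rfl N15780 D29822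
theorem N19470 : nd 19470 = n29823 := ndS (p := 15781) (l := 6) rfl N15781 D29823
theorem N19471 : nd 19471 = n29824 := ndS (p := 15782) (l := 5) rfl N15782 D29824
theorem N19472 : nd 19472 = n29825 := ndS (p := 15783) (l := 2) rfl N15783 D29825
theorem N19473 : nd 19473 = n29826 := ndS (p := 15783) (l := 5) rfl N15783 D29826
theorem N19474 : nd 19474 = n29827 := ndS (p := 15784) (l := 0) rfl N15784 D29827
theorem N19475 : nd 19475 = n29828 := ndS (p := 15784) (l := 2) rfl N15784 D29828
theorem N19476 : nd 19476 = n29829 := ndS (p := 15784) (l := 6) rfl N15784 D29829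
theorem N19477 : nd 19477 = n29830 := ndS (p := 15786) (l := 3) rfl N15786 D29830
theorem N19478 : nd 19478 = n29831 := ndS (p := 15788) (l := 4) rfl N15788 D29831
theorem N19479 : nd 19479 = n29832 := ndS (p := 15789) (l := 1) rfl N15789 D29832
theorem N19480 : nd 19480 = n29833 := ndS (p := 15793) (l := 3) rfl N15793 D29833
theorem N19481 : nd 19481 = n29834 := ndS (p := 15795) (l := 2) rfl N15795 D29834
theorem N19482 : nd 19482 = n29835 := ndS (p := 15795) (l := 4) rfl N15795 D29835
theorem N19483 : nd 19483 = n29836 := ndS (p := 15796) (l := 3) rfl N15796 D29836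
theorem N19484 : nd 19484 = n29837 := ndS (p := 15796) (l := 4) rfl N15796 D29837
theorem N19485 : nd 19485 = n29838 := ndS (p := 15796) (l := 6) rfl N15796 D29838
theorem N19486 : nd 19486 = n29839 := ndS (p := 15797) (l := 6) rfl N15797 D29839
theorem N19487 : nd 19487 = n29840 := ndS (p := 15798) (l := 1) rfl N15798 D29840
theorem N19488 : nd 19488 = n29841 := ndS (p := 15799) (l := 0) rfl N15799 D29841
theorem N19489 : nd 19489 = n29842 := ndS (p := 15800) (l := 2) rfl N15800 D29842
theorem N19490 : nd 19490 = n29843 := ndS (p := 15801) (l := 2) rfl N15801 D29843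
theorem N19491 : nd 19491 = n29844 := ndS (p := 15802) (l := 3) rfl N15802 D29844
theorem N19492 : nd 19492 = n29845 := ndS (p := 15802) (l := 6) rfl N15802 D29845
theorem N19493 : nd 19493 = n29846 := ndS (p := 15804) (l := 0) rfl N15804 D29846
theorem N19494 : nd 19494 = n29847 := ndS (p := 15805) (l := 1) rfl N15805 D29847
theorem N19495 : nd 19495 = n29848 := ndS (p := 15805) (l := 2) rfl N15805 D29848
theorem N19496 : nd 19496 = n29849 := ndS (p := 15806) (l := 3) rfl N15806 D29849
theorem N19497 : nd 19497 = n29850 := ndS (p := 15809) (l := 3) rfl N15809 D29850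
theorem N19498 : nd 19498 = n29851 := ndS (p := 15810) (l := 2) rfl N15810 D29851
theorem N19499 : nd 19499 = n29852 := ndS (p := 15810) (l := 4) rfl N15810 D29852
theorem N19500 : nd 19500 = n29853 := ndS (p := 15811) (l := 3) rfl N15811 D29853
theorem N19501 : nd 19501 = n29854 := ndS (p := 15815) (l := 3) rfl N15815 D29854
theorem N19502 : nd 19502 = n29855 := ndS (p := 15817) (l := 2) rfl N15817 D29855
theorem N19503 : nd 19503 = n29856 := ndS (p := 15817) (l := 6) rfl N15817 D29856
theorem N19504 : nd 19504 = n29857 := ndS (p := 15820) (l := 1) rfl N15820 D29857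
theorem N19505 : nd 19505 = n29858 := ndS (p := 15820) (l := 3) rfl N15820 D29858
theorem N19506 : nd 19506 = n29859 := ndS (p := 15821) (l := 3) rfl N15821 D29859
theorem N19507 : nd 19507 = n29860 := ndS (p := 15822) (l := 2) rfl N15822 D29860
theorem N19508 : nd 19508 = n29861 := ndS (p := 15822) (l := 4) rfl N15822 D29861
theorem N19509 : nd 19509 = n29862 := ndS (p := 15822) (l := 6) rfl N15822 D29862
theorem N19510 : nd 19510 = n29863 := ndS (p := 15824) (l := 1) rfl N15824 D29863
theorem N19511 : nd 19511 = n29864 := ndS (p := 15824) (l := 3) rfl N15824 D29864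
theorem N19512 : nd 19512 = n29865 := ndS (p := 15824) (l := 4) rfl N15824 D29865
theorem N19513 : nd 19513 = n29866 := ndS (p := 15824) (l := 6) rfl N15824 D29866
theorem N19514 : nd 19514 = n29867 := ndS (p := 15827) (l := 4) rfl N15827 D29867
theorem N19515 : nd 19515 = n29868 := ndS (p := 15829) (l := 1) rfl N15829 D29868
theorem N19516 : nd 19516 = n29869 := ndS (p := 15829) (l := 4) rfl N15829 D29869
theorem N19517 : nd 19517 = n29870 := ndS (p := 15831) (l := 0) rfl N15831 D29870
theorem N19518 : nd 19518 = n29871 := ndS (p := 15831) (l := 3) rfl N15831 D29871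
theorem N19519 : nd 19519 = n29872 := ndS (p := 15831) (l := 4) rfl N15831 D29872
theorem N19520 : nd 19520 = n29873 := ndS (p := 15831) (l := 6) rfl N15831 D29873
theorem N19521 : nd 19521 = n29874 := ndS (p := 15832) (l := 4) rfl N15832 D29874
theorem N19522 : nd 19522 = n29875 := ndS (p := 15832) (l := 6) rfl N15832 D29875
theorem N19523 : nd 19523 = n29876 := ndS (p := 15833) (l := 3) rfl N15833 D29876
theorem N19524 : nd 19524 = n29877 := ndS (p := 15833) (l := 6) rfl N15833 D29877
theorem N19525 : nd 19525 = n29878 := ndS (p := 15834) (l := 1) rfl N15834 D29878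
theorem N19526 : nd 19526 = n29879 := ndS (p := 15836) (l := 0) rfl N15836 D29879
theorem N19527 : nd 19527 = n29880 := ndS (p := 15836) (l := 2) rfl N15836 D29880
theorem N19528 : nd 19528 = n29881 := ndS (p := 15836) (l := 5) rfl N15836 D29881
theorem N19529 : nd 19529 = n29882 := ndS (p := 15841) (l := 1) rfl N15841 D29882
theorem N19530 : nd 19530 = n29883 := ndS (p := 15846) (l := 0) rfl N15846 D29883
theorem N19531 : nd 19531 = n29884 := ndS (p := 15846) (l := 6) rfl N15846 D29884
theorem N19532 : nd 19532 = n29885 := ndS (p := 15847) (l := 0) rfl N15847 D29885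
theorem N19533 : nd 19533 = n29886 := ndS (p := 15850) (l := 2) rfl N15850 D29886
theorem N19534 : nd 19534 = n29887 := ndS (p := 15851) (l := 5) rfl N15851 D29887
theorem N19535 : nd 19535 = n29888 := ndS (p := 15851) (l := 6) rfl N15851 D29888
theorem N19536 : nd 19536 = n29889 := ndS (p := 15853) (l := 5) rfl N15853 D29889
theorem N19537 : nd 19537 = n29890 := ndS (p := 15854) (l := 2) rfl N15854 D29890
theorem N19538 : nd 19538 = n29891 := ndS (p := 15855) (l := 3) rfl N15855 D29891
theorem N19539 : nd 19539 = n29892 := ndS (p := 15856) (l := 3) rfl N15856 D29892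
theorem N19540 : nd 19540 = n29893 := ndS (p := 15858) (l := 2) rfl N15858 D29893
theorem N19541 : nd 19541 = n29894 := ndS (p := 15859) (l := 6) rfl N15859 D29894
theorem N19542 : nd 19542 = n29895 := ndS (p := 15860) (l := 1) rfl N15860 D29895
theorem N19543 : nd 19543 = n29896 := ndS (p := 15861) (l := 3) rfl N15861 D29896
theorem N19544 : nd 19544 = n29897 := ndS (p := 15862) (l := 2) rfl N15862 D29897
theorem N19545 : nd 19545 = n29898 := ndS (p := 15865) (l := 2) rfl N15865 D29898
theorem N19546 : nd 19546 = n29899 := ndS (p := 15867) (l := 3) rfl N15867 D29899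
theorem N19547 : nd 19547 = n29900 := ndS (p := 15872) (l := 2) rfl N15872 D29900
theorem N19548 : nd 19548 = n29901 := ndS (p := 15873) (l := 3) rfl N15873 D29901
theorem N19549 : nd 19549 = n29902 := ndS (p := 15874) (l := 2) rfl N15874 D29902
theorem N19550 : nd 19550 = n29903 := ndS (p := 15874) (l := 4) rfl N15874 D29903
theorem N19551 : nd 19551 = n29904 := ndS (p := 15874) (l := 5) rfl N15874 D29904
theorem N19552 : nd 19552 = n29905 := ndS (p := 15874) (l := 6) rfl N15874 D29905
theorem N19553 : nd 19553 = n29906 := ndS (p := 15875) (l := 1) rfl N15875 D29906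
theorem N19554 : nd 19554 = n29907 := ndS (p := 15876) (l := 5) rfl N15876 D29907
theorem N19555 : nd 19555 = n29908 := ndS (p := 15877) (l := 1) rfl N15877 D29908
theorem N19556 : nd 19556 = n29909 := ndS (p := 15877) (l := 3) rfl N15877 D29909
theorem N19557 : nd 19557 = n29910 := ndS (p := 15877) (l := 6) rfl N15877 D29910
theorem N19558 : nd 19558 = n29911 := ndS (p := 15879) (l := 1) rfl N15879 D29911
theorem N19559 : nd 19559 = n29912 := ndS (p := 15882) (l := 5) rfl N15882 D29912
theorem N19560 : nd 19560 = n29913 := ndS (p := 15885) (l := 5) rfl N15885 D29913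
theorem N19561 : nd 19561 = n29914 := ndS (p := 15887) (l := 3) rfl N15887 D29914
theorem N19562 : nd 19562 = n29915 := ndS (p := 15887) (l := 4) rfl N15887 D29915
theorem N19563 : nd 19563 = n29916 := ndS (p := 15887) (l := 5) rfl N15887 D29916
theorem N19564 : nd 19564 = n29917 := ndS (p := 15888) (l := 2) rfl N15888 D29917
theorem N19565 : nd 19565 = n29918 := ndS (p := 15888) (l := 4) rfl N15888 D29918
theorem N19566 : nd 19566 = n29919 := ndS (p := 15888) (l := 5) rfl N15888 D29919
theorem N19567 : nd 19567 = n29920 := ndS (p := 15889) (l := 3) rfl N15889 D29920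
theorem N19568 : nd 19568 = n29921 := ndS (p := 15889) (l := 5) rfl N15889 D29921
theorem N19569 : nd 19569 = n29922 := ndS (p := 15890) (l := 6) rfl N15890 D29922
theorem N19570 : nd 19570 = n29923 := ndS (p := 15892) (l := 3) rfl N15892 D29923
theorem N19571 : nd 19571 = n29924 := ndS (p := 15893) (l := 2) rfl N15893 D29924
theorem N19572 : nd 19572 = n29925 := ndS (p := 15893) (l := 6) rfl N15893 D29925
theorem N19573 : nd 19573 = n29926 := ndS (p := 15895) (l := 0) rfl N15895 D29926
theorem N19574 : nd 19574 = n29927 := ndS (p := 15895) (l := 2) rfl N15895 D29927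
theorem N19575 : nd 19575 = n29928 := ndS (p := 15895) (l := 5) rfl N15895 D29928
theorem N19576 : nd 19576 = n29929 := ndS (p := 15896) (l := 0) rfl N15896 D29929
theorem N19577 : nd 19577 = n29930 := ndS (p := 15896) (l := 2) rfl N15896 D29930
theorem N19578 : nd 19578 = n29931 := ndS (p := 15896) (l := 5) rfl N15896 D29931
theorem N19579 : nd 19579 = n29932 := ndS (p := 15897) (l := 1) rfl N15897 D29932
theorem N19580 : nd 19580 = n29933 := ndS (p := 15897) (l := 2) rfl N15897 D29933
theorem N19581 : nd 19581 = n29934 := ndS (p := 15897) (l := 5) rfl N15897 D29934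
theorem N19582 : nd 19582 = n29935 := ndS (p := 15898) (l := 3) rfl N15898 D29935
theorem N19583 : nd 19583 = n29936 := ndS (p := 15898) (l := 5) rfl N15898 D29936
theorem N19584 : nd 19584 = n29937 := ndS (p := 15899) (l := 6) rfl N15899 D29937
theorem N19585 : nd 19585 = n29938 := ndS (p := 15904) (l := 6) rfl N15904 D29938
theorem N19586 : nd 19586 = n29939 := ndS (p := 15909) (l := 5) rfl N15909 D29939
theorem N19587 : nd 19587 = n29940 := ndS (p := 15911) (l := 1) rfl N15911 D29940
theorem N19588 : nd 19588 = n29941 := ndS (p := 15912) (l := 6) rfl N15912 D29941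
theorem N19589 : nd 19589 = n29942 := ndS (p := 15913) (l := 5) rfl N15913 D29942
theorem N19590 : nd 19590 = n29943 := ndS (p := 15914) (l := 1) rfl N15914 D29943
theorem N19591 : nd 19591 = n29944 := ndS (p := 15917) (l := 1) rfl N15917 D29944
theorem N19592 : nd 19592 = n29945 := ndS (p := 15918) (l := 1) rfl N15918 D29945
theorem N19593 : nd 19593 = n29946 := ndS (p := 15919) (l := 0) rfl N15919 D29946
theorem N19594 : nd 19594 = n29947 := ndS (p := 15920) (l := 2) rfl N15920 D29947
theorem N19595 : nd 19595 = n29948 := ndS (p := 15920) (l := 5) rfl N15920 D29948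
theorem N19596 : nd 19596 = n29949 := ndS (p := 15922) (l := 1) rfl N15922 D29949
theorem N19597 : nd 19597 = n29950 := ndS (p := 15923) (l := 1) rfl N15923 D29950
theorem N19598 : nd 19598 = n29951 := ndS (p := 15926) (l := 5) rfl N15926 D29951
theorem N19599 : nd 19599 = n29952 := ndS (p := 15929) (l := 1) rfl N15929 D29952
theorem N19600 : nd 19600 = n29953 := ndS (p := 15930) (l := 1) rfl N15930 D29953
theorem N19601 : nd 19601 = n29954 := ndS (p := 15937) (l := 4) rfl N15937 D29954
theorem N19602 : nd 19602 = n29955 := ndS (p := 15938) (l := 5) rfl N15938 D29955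
theorem N19603 : nd 19603 = n29956 := ndS (p := 15940) (l := 5) rfl N15940 D29956
theorem N19604 : nd 19604 = n29957 := ndS (p := 15940) (l := 6) rfl N15940 D29957
theorem N19605 : nd 19605 = n29958 := ndS (p := 15941) (l := 1) rfl N15941 D29958
theorem N19606 : nd 19606 = n29959 := ndS (p := 15944) (l := 0) rfl N15944 D29959
theorem N19607 : nd 19607 = n29960 := ndS (p := 15944) (l := 4) rfl N15944 D29960
theorem N19608 : nd 19608 = n29961 := ndS (p := 15944) (l := 5) rfl N15944 D29961
theorem N19609 : nd 19609 = n29962 := ndS (p := 15945) (l := 3) rfl N15945 D29962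
theorem N19610 : nd 19610 = n29963 := ndS (p := 15945) (l := 5) rfl N15945 D29963
theorem N19611 : nd 19611 = n29964 := ndS (p := 15945) (l := 6) rfl N15945 D29964
theorem N19612 : nd 19612 = n29965 := ndS (p := 15946) (l := 1) rfl N15946 D29965
theorem N19613 : nd 19613 = n29966 := ndS (p := 15946) (l := 6) rfl N15946 D29966
theorem N19614 : nd 19614 = n29967 := ndS (p := 15947) (l := 1) rfl N15947 D29967
theorem N19615 : nd 19615 = n29968 := ndS (p := 15948) (l := 6) rfl N15948 D29968
theorem N19616 : nd 19616 = n29969 := ndS (p := 15949) (l := 5) rfl N15949 D29969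
theorem N19617 : nd 19617 = n29970 := ndS (p := 15951) (l := 2) rfl N15951 D29970
theorem N19618 : nd 19618 = n29971 := ndS (p := 15951) (l := 5) rfl N15951 D29971
theorem N19619 : nd 19619 = n29972 := ndS (p := 15954) (l := 1) rfl N15954 D29972
theorem N19620 : nd 19620 = n29973 := ndS (p := 15954) (l := 4) rfl N15954 D29973
theorem N19621 : nd 19621 = n29974 := ndS (p := 15955) (l := 3) rfl N15955 D29974
theorem N19622 : nd 19622 = n29975 := ndS (p := 15957) (l := 6) rfl N15957 D29975
theorem N19623 : nd 19623 = n29976 := ndS (p := 15959) (l := 5) rfl N15959 D29976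
theorem N19624 : nd 19624 = n29977 := ndS (p := 15960) (l := 5) rfl N15960 D29977
theorem N19625 : nd 19625 = n29978 := ndS (p := 15961) (l := 6) rfl N15961 D29978
theorem N19626 : nd 19626 = n29979 := ndS (p := 15964) (l := 4) rfl N15964 D29979
theorem N19627 : nd 19627 = n29980 := ndS (p := 15966) (l := 0) rfl N15966 D29980
theorem N19628 : nd 19628 = n29981 := ndS (p := 15966) (l := 3) rfl N15966 D29981
theorem N19629 : nd 19629 = n29982 := ndS (p := 15966) (l := 4) rfl N15966 D29982
theorem N19630 : nd 19630 = n29983 := ndS (p := 15966) (l := 6) rfl N15966 D29983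
theorem N19631 : nd 19631 = n29984 := ndS (p := 15967) (l := 4) rfl N15967 D29984
theorem N19632 : nd 19632 = n29985 := ndS (p := 15967) (l := 5) rfl N15967 D29985
theorem N19633 : nd 19633 = n29986 := ndS (p := 15967) (l := 6) rfl N15967 D29986
theorem N19634 : nd 19634 = n29987 := ndS (p := 15968) (l := 5) rfl N15968 D29987
theorem N19635 : nd 19635 = n29988 := ndS (p := 15970) (l := 1) rfl N15970 D29988
theorem N19636 : nd 19636 = n29989 := ndS (p := 15971) (l := 4) rfl N15971 D29989
theorem N19637 : nd 19637 = n29990 := ndS (p := 15971) (l := 5) rfl N15971 D29990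
theorem N19638 : nd 19638 = n29991 := ndS (p := 15971) (l := 6) rfl N15971 D29991
theorem N19639 : nd 19639 = n29992 := ndS (p := 15972) (l := 3) rfl N15972 D29992
theorem N19640 : nd 19640 = n29993 := ndS (p := 15972) (l := 5) rfl N15972 D29993
theorem N19641 : nd 19641 = n29994 := ndS (p := 15972) (l := 6) rfl N15972 D29994
theorem N19642 : nd 19642 = n29995 := ndS (p := 15973) (l := 6) rfl N15973 D29995
theorem N19643 : nd 19643 = n29996 := ndS (p := 15974) (l := 5) rfl N15974 D29996
theorem N19644 : nd 19644 = n29997 := ndS (p := 15975) (l := 5) rfl N15975 D29997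
theorem N19645 : nd 19645 = n29998 := ndS (p := 15976) (l := 6) rfl N15976 D29998
theorem N19646 : nd 19646 = n29999 := ndS (p := 15977) (l := 1) rfl N15977 D29999
theorem N19647 : nd 19647 = n30000 := ndS (p := 15977) (l := 5) rfl N15977 D30000
theorem N19648 : nd 19648 = n30001 := ndS (p := 15981) (l := 2) rfl N15981 D30001
theorem N19649 : nd 19649 = n30002 := ndS (p := 15981) (l := 6) rfl N15981 D30002
theorem N19650 : nd 19650 = n30003 := ndS (p := 15982) (l := 1) rfl N15982 D30003
theorem N19651 : nd 19651 = n30004 := ndS (p := 15984) (l := 1) rfl N15984 D30004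
theorem N19652 : nd 19652 = n30005 := ndS (p := 15984) (l := 6) rfl N15984 D30005
theorem N19653 : nd 19653 = n30006 := ndS (p := 15985) (l := 1) rfl N15985 D30006
theorem N19654 : nd 19654 = n30007 := ndS (p := 15989) (l := 2) rfl N15989 D30007
theorem N19655 : nd 19655 = n30008 := ndS (p := 15990) (l := 0) rfl N15990 D30008
theorem N19656 : nd 19656 = n30009 := ndS (p := 15990) (l := 2) rfl N15990 D30009
theorem N19657 : nd 19657 = n30010 := ndS (p := 15990) (l := 6) rfl N15990 D30010
theorem N19658 : nd 19658 = n30011 := ndS (p := 15991) (l := 2) rfl N15991 D30011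
theorem N19659 : nd 19659 = n30012 := ndS (p := 15991) (l := 6) rfl N15991 D30012
theorem N19660 : nd 19660 = n30013 := ndS (p := 15992) (l := 3) rfl N15992 D30013
theorem N19661 : nd 19661 = n30014 := ndS (p := 15992) (l := 6) rfl N15992 D30014
theorem N19662 : nd 19662 = n30015 := ndS (p := 15993) (l := 5) rfl N15993 D30015
theorem N19663 : nd 19663 = n30016 := ndS (p := 15994) (l := 6) rfl N15994 D30016
theorem N19664 : nd 19664 = n30017 := ndS (p := 15996) (l := 5) rfl N15996 D30017
theorem N19665 : nd 19665 = n30018 := ndS (p := 16000) (l := 5) rfl N16000 D30018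
theorem N19666 : nd 19666 = n30019 := ndS (p := 16002) (l := 5) rfl N16002 D30019
theorem N19667 : nd 19667 = n30020 := ndS (p := 16006) (l := 4) rfl N16006 D30020
theorem N19668 : nd 19668 = n30021 := ndS (p := 16006) (l := 6) rfl N16006 D30021
theorem N19669 : nd 19669 = n30022 := ndS (p := 16010) (l := 1) rfl N16010 D30022
theorem N19670 : nd 19670 = n30023 := ndS (p := 16011) (l := 1) rfl N16011 D30023
theorem N19671 : nd 19671 = n30024 := ndS (p := 16011) (l := 4) rfl N16011 D30024
theorem N19672 : nd 19672 = n30025 := ndS (p := 16011) (l := 5) rfl N16011 D30025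
theorem N19673 : nd 19673 = n30026 := ndS (p := 16011) (l := 6) rfl N16011 D30026
theorem N19674 : nd 19674 = n30027 := ndS (p := 16015) (l := 0) rfl N16015 D30027
theorem N19675 : nd 19675 = n30028 := ndS (p := 16015) (l := 3) rfl N16015 D30028
theorem N19676 : nd 19676 = n30029 := ndS (p := 16015) (l := 4) rfl N16015 D30029
theorem N19677 : nd 19677 = n30030 := ndS (p := 16015) (l := 5) rfl N16015 D30030
theorem N19678 : nd 19678 = n30031 := ndS (p := 16016) (l := 6) rfl N16016 D30031
theorem N19679 : nd 19679 = n30032 := ndS (p := 16017) (l := 3) rfl N16017 D30032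
theorem N19680 : nd 19680 = n30033 := ndS (p := 16017) (l := 5) rfl N16017 D30033
theorem N19681 : nd 19681 = n30034 := ndS (p := 16017) (l := 6) rfl N16017 D30034
theorem N19682 : nd 19682 = n30035 := ndS (p := 16018) (l := 6) rfl N16018 D30035
theorem N19683 : nd 19683 = n30036 := ndS (p := 16019) (l := 5) rfl N16019 D30036
theorem N19684 : nd 19684 = n30037 := ndS (p := 16024) (l := 4) rfl N16024 D30037
theorem N19685 : nd 19685 = n30038 := ndS (p := 16024) (l := 5) rfl N16024 D30038
theorem N19686 : nd 19686 = n30039 := ndS (p := 16024) (l := 6) rfl N16024 D30039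
theorem N19687 : nd 19687 = n30040 := ndS (p := 16025) (l := 5) rfl N16025 D30040
theorem N19688 : nd 19688 = n30041 := ndS (p := 16025) (l := 6) rfl N16025 D30041
theorem N19689 : nd 19689 = n30042 := ndS (p := 16026) (l := 6) rfl N16026 D30042
theorem N19690 : nd 19690 = n30043 := ndS (p := 16027) (l := 5) rfl N16027 D30043
theorem N19691 : nd 19691 = n30044 := ndS (p := 16028) (l := 1) rfl N16028 D30044
theorem N19692 : nd 19692 = n30045 := ndS (p := 16028) (l := 4) rfl N16028 D30045
theorem N19693 : nd 19693 = n30046 := ndS (p := 16028) (l := 5) rfl N16028 D30046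
theorem N19694 : nd 19694 = n30047 := ndS (p := 16028) (l := 6) rfl N16028 D30047
theorem N19695 : nd 19695 = n30048 := ndS (p := 16029) (l := 6) rfl N16029 D30048
theorem N19696 : nd 19696 = n30049 := ndS (p := 16030) (l := 1) rfl N16030 D30049
theorem N19697 : nd 19697 = n30050 := ndS (p := 16030) (l := 6) rfl N16030 D30050
theorem N19698 : nd 19698 = n30051 := ndS (p := 16031) (l := 5) rfl N16031 D30051
theorem N19699 : nd 19699 = n30052 := ndS (p := 16035) (l := 0) rfl N16035 D30052
theorem N19700 : nd 19700 = n30053 := ndS (p := 16035) (l := 3) rfl N16035 D30053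
theorem N19701 : nd 19701 = n30054 := ndS (p := 16035) (l := 4) rfl N16035 D30054
theorem N19702 : nd 19702 = n30055 := ndS (p := 16035) (l := 5) rfl N16035 D30055
theorem N19703 : nd 19703 = n30056 := ndS (p := 16035) (l := 6) rfl N16035 D30056
theorem N19704 : nd 19704 = n30057 := ndS (p := 16036) (l := 4) rfl N16036 D30057
theorem N19705 : nd 19705 = n30058 := ndS (p := 16036) (l := 5) rfl N16036 D30058
theorem N19706 : nd 19706 = n30059 := ndS (p := 16036) (l := 6) rfl N16036 D30059
theorem N19707 : nd 19707 = n30060 := ndS (p := 16037) (l := 3) rfl N16037 D30060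
theorem N19708 : nd 19708 = n30061 := ndS (p := 16037) (l := 5) rfl N16037 D30061
theorem N19709 : nd 19709 = n30062 := ndS (p := 16037) (l := 6) rfl N16037 D30062
theorem N19710 : nd 19710 = n30063 := ndS (p := 16038) (l := 1) rfl N16038 D30063
theorem N19711 : nd 19711 = n30064 := ndS (p := 16039) (l := 1) rfl N16039 D30064
theorem N19712 : nd 19712 = n30065 := ndS (p := 16041) (l := 1) rfl N16041 D30065
theorem N19713 : nd 19713 = n30066 := ndS (p := 16042) (l := 2) rfl N16042 D30066
theorem N19714 : nd 19714 = n30067 := ndS (p := 16043) (l := 2) rfl N16043 D30067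
theorem N19715 : nd 19715 = n30068 := ndS (p := 16044) (l := 3) rfl N16044 D30068
theorem N19716 : nd 19716 = n30069 := ndS (p := 16045) (l := 1) rfl N16045 D30069
theorem N19717 : nd 19717 = n30070 := ndS (p := 16045) (l := 4) rfl N16045 D30070
theorem N19718 : nd 19718 = n30071 := ndS (p := 16045) (l := 5) rfl N16045 D30071
theorem N19719 : nd 19719 = n30072 := ndS (p := 16045) (l := 6) rfl N16045 D30072
theorem N19720 : nd 19720 = n30073 := ndS (p := 16046) (l := 3) rfl N16046 D30073
theorem N19721 : nd 19721 = n30074 := ndS (p := 16046) (l := 5) rfl N16046 D30074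
theorem N19722 : nd 19722 = n30075 := ndS (p := 16046) (l := 6) rfl N16046 D30075
theorem N19723 : nd 19723 = n30076 := ndS (p := 16047) (l := 6) rfl N16047 D30076
theorem N19724 : nd 19724 = n30077 := ndS (p := 16048) (l := 1) rfl N16048 D30077
theorem N19725 : nd 19725 = n30078 := ndS (p := 16048) (l := 5) rfl N16048 D30078
theorem N19726 : nd 19726 = n30079 := ndS (p := 16049) (l := 6) rfl N16049 D30079
theorem N19727 : nd 19727 = n30080 := ndS (p := 16050) (l := 6) rfl N16050 D30080
theorem N19728 : nd 19728 = n30081 := ndS (p := 16051) (l := 1) rfl N16051 D30081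
theorem N19729 : nd 19729 = n30082 := ndS (p := 16051) (l := 5) rfl N16051 D30082
theorem N19730 : nd 19730 = n30083 := ndS (p := 16053) (l := 1) rfl N16053 D30083
theorem N19731 : nd 19731 = n30084 := ndS (p := 16054) (l := 5) rfl N16054 D30084
theorem N19732 : nd 19732 = n30085 := ndS (p := 16055) (l := 1) rfl N16055 D30085
theorem N19733 : nd 19733 = n30086 := ndS (p := 16056) (l := 1) rfl N16056 D30086
theorem N19734 : nd 19734 = n30087 := ndS (p := 16057) (l := 1) rfl N16057 D30087
theorem N19735 : nd 19735 = n30088 := ndS (p := 16058) (l := 5) rfl N16058 D30088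
theorem N19736 : nd 19736 = n30089 := ndS (p := 16059) (l := 0) rfl N16059 D30089
theorem N19737 : nd 19737 = n30090 := ndS (p := 16059) (l := 2) rfl N16059 D30090
theorem N19738 : nd 19738 = n30091 := ndS (p := 16059) (l := 6) rfl N16059 D30091
theorem N19739 : nd 19739 = n30092 := ndS (p := 16062) (l := 2) rfl N16062 D30092
theorem N19740 : nd 19740 = n30093 := ndS (p := 16063) (l := 3) rfl N16063 D30093
theorem N19741 : nd 19741 = n30094 := ndS (p := 16063) (l := 6) rfl N16063 D30094
theorem N19742 : nd 19742 = n30095 := ndS (p := 16065) (l := 5) rfl N16065 D30095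
theorem N19743 : nd 19743 = n30096 := ndS (p := 16065) (l := 6) rfl N16065 D30096
theorem N19744 : nd 19744 = n30097 := ndS (p := 16066) (l := 6) rfl N16066 D30097
theorem N19745 : nd 19745 = n30098 := ndS (p := 16067) (l := 1) rfl N16067 D30098
theorem N19746 : nd 19746 = n30099 := ndS (p := 16067) (l := 5) rfl N16067 D30099
theorem N19747 : nd 19747 = n30100 := ndS (p := 16069) (l := 1) rfl N16069 D30100
theorem N19748 : nd 19748 = n30101 := ndS (p := 16070) (l := 2) rfl N16070 D30101
theorem N19749 : nd 19749 = n30102 := ndS (p := 16070) (l := 6) rfl N16070 D30102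
theorem N19750 : nd 19750 = n30103 := ndS (p := 16071) (l := 0) rfl N16071 D30103
theorem N19751 : nd 19751 = n30104 := ndS (p := 16071) (l := 5) rfl N16071 D30104
theorem N19752 : nd 19752 = n30105 := ndS (p := 16072) (l := 1) rfl N16072 D30105
theorem N19753 : nd 19753 = n30106 := ndS (p := 16073) (l := 1) rfl N16073 D30106
theorem N19754 : nd 19754 = n30107 := ndS (p := 16074) (l := 0) rfl N16074 D30107
theorem N19755 : nd 19755 = n30108 := ndS (p := 16074) (l := 5) rfl N16074 D30108
theorem N19756 : nd 19756 = n30109 := ndS (p := 16075) (l := 0) rfl N16075 D30109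
theorem N19757 : nd 19757 = n30110 := ndS (p := 16075) (l := 2) rfl N16075 D30110
theorem N19758 : nd 19758 = n30111 := ndS (p := 16075) (l := 6) rfl N16075 D30111
theorem N19759 : nd 19759 = n30112 := ndS (p := 16076) (l := 6) rfl N16076 D30112
theorem N19760 : nd 19760 = n30113 := ndS (p := 16078) (l := 6) rfl N16078 D30113
theorem N19761 : nd 19761 = n30114 := ndS (p := 16082) (l := 4) rfl N16082 D30114
theorem N19762 : nd 19762 = n30115 := ndS (p := 16082) (l := 5) rfl N16082 D30115
theorem N19763 : nd 19763 = n30116 := ndS (p := 16086) (l := 1) rfl N16086 D30116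
theorem N19764 : nd 19764 = n30117 := ndS (p := 16087) (l := 1) rfl N16087 D30117
theorem N19765 : nd 19765 = n30118 := ndS (p := 16087) (l := 4) rfl N16087 D30118
theorem N19766 : nd 19766 = n30119 := ndS (p := 16087) (l := 5) rfl N16087 D30119
theorem N19767 : nd 19767 = n30120 := ndS (p := 16087) (l := 6) rfl N16087 D30120
theorem N19768 : nd 19768 = n30121 := ndS (p := 16091) (l := 0) rfl N16091 D30121
theorem N19769 : nd 19769 = n30122 := ndS (p := 16091) (l := 3) rfl N16091 D30122
theorem N19770 : nd 19770 = n30123 := ndS (p := 16091) (l := 4) rfl N16091 D30123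
theorem N19771 : nd 19771 = n30124 := ndS (p := 16091) (l := 6) rfl N16091 D30124
theorem N19772 : nd 19772 = n30125 := ndS (p := 16092) (l := 5) rfl N16092 D30125
theorem N19773 : nd 19773 = n30126 := ndS (p := 16093) (l := 3) rfl N16093 D30126
theorem N19774 : nd 19774 = n30127 := ndS (p := 16093) (l := 5) rfl N16093 D30127
theorem N19775 : nd 19775 = n30128 := ndS (p := 16093) (l := 6) rfl N16093 D30128
theorem N19776 : nd 19776 = n30129 := ndS (p := 16094) (l := 6) rfl N16094 D30129
theorem N19777 : nd 19777 = n30130 := ndS (p := 16095) (l := 5) rfl N16095 D30130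
theorem N19778 : nd 19778 = n30131 := ndS (p := 16100) (l := 4) rfl N16100 D30131
theorem N19779 : nd 19779 = n30132 := ndS (p := 16100) (l := 5) rfl N16100 D30132
theorem N19780 : nd 19780 = n30133 := ndS (p := 16100) (l := 6) rfl N16100 D30133
theorem N19781 : nd 19781 = n30134 := ndS (p := 16101) (l := 5) rfl N16101 D30134
theorem N19782 : nd 19782 = n30135 := ndS (p := 16101) (l := 6) rfl N16101 D30135
theorem N19783 : nd 19783 = n30136 := ndS (p := 16102) (l := 6) rfl N16102 D30136
theorem N19784 : nd 19784 = n30137 := ndS (p := 16103) (l := 5) rfl N16103 D30137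
theorem N19785 : nd 19785 = n30138 := ndS (p := 16104) (l := 1) rfl N16104 D30138
theorem N19786 : nd 19786 = n30139 := ndS (p := 16104) (l := 4) rfl N16104 D30139
theorem N19787 : nd 19787 = n30140 := ndS (p := 16104) (l := 5) rfl N16104 D30140
theorem N19788 : nd 19788 = n30141 := ndS (p := 16104) (l := 6) rfl N16104 D30141
theorem N19789 : nd 19789 = n30142 := ndS (p := 16105) (l := 5) rfl N16105 D30142
theorem N19790 : nd 19790 = n30143 := ndS (p := 16106) (l := 6) rfl N16106 D30143
theorem N19791 : nd 19791 = n30144 := ndS (p := 16107) (l := 1) rfl N16107 D30144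
theorem N19792 : nd 19792 = n30145 := ndS (p := 16107) (l := 5) rfl N16107 D30145
theorem N19793 : nd 19793 = n30146 := ndS (p := 16111) (l := 0) rfl N16111 D30146
theorem N19794 : nd 19794 = n30147 := ndS (p := 16111) (l := 3) rfl N16111 D30147
theorem N19795 : nd 19795 = n30148 := ndS (p := 16111) (l := 4) rfl N16111 D30148
theorem N19796 : nd 19796 = n30149 := ndS (p := 16111) (l := 5) rfl N16111 D30149
theorem N19797 : nd 19797 = n30150 := ndS (p := 16111) (l := 6) rfl N16111 D30150
theorem N19798 : nd 19798 = n30151 := ndS (p := 16112) (l := 4) rfl N16112 D30151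
theorem N19799 : nd 19799 = n30152 := ndS (p := 16112) (l := 5) rfl N16112 D30152
theorem N19800 : nd 19800 = n30153 := ndS (p := 16112) (l := 6) rfl N16112 D30153
theorem N19801 : nd 19801 = n30154 := ndS (p := 16113) (l := 3) rfl N16113 D30154
theorem N19802 : nd 19802 = n30155 := ndS (p := 16113) (l := 5) rfl N16113 D30155
theorem N19803 : nd 19803 = n30156 := ndS (p := 16113) (l := 6) rfl N16113 D30156
theorem N19804 : nd 19804 = n30157 := ndS (p := 16114) (l := 1) rfl N16114 D30157
theorem N19805 : nd 19805 = n30158 := ndS (p := 16115) (l := 1) rfl N16115 D30158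
theorem N19806 : nd 19806 = n30159 := ndS (p := 16116) (l := 1) rfl N16116 D30159
theorem N19807 : nd 19807 = n30160 := ndS (p := 16118) (l := 2) rfl N16118 D30160
theorem N19808 : nd 19808 = n30161 := ndS (p := 16119) (l := 2) rfl N16119 D30161
theorem N19809 : nd 19809 = n30162 := ndS (p := 16120) (l := 3) rfl N16120 D30162
theorem N19810 : nd 19810 = n30163 := ndS (p := 16121) (l := 1) rfl N16121 D30163
theorem N19811 : nd 19811 = n30164 := ndS (p := 16121) (l := 4) rfl N16121 D30164
theorem N19812 : nd 19812 = n30165 := ndS (p := 16121) (l := 5) rfl N16121 D30165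
theorem N19813 : nd 19813 = n30166 := ndS (p := 16121) (l := 6) rfl N16121 D30166
theorem N19814 : nd 19814 = n30167 := ndS (p := 16122) (l := 3) rfl N16122 D30167
theorem N19815 : nd 19815 = n30168 := ndS (p := 16122) (l := 5) rfl N16122 D30168
theorem N19816 : nd 19816 = n30169 := ndS (p := 16122) (l := 6) rfl N16122 D30169
theorem N19817 : nd 19817 = n30170 := ndS (p := 16123) (l := 1) rfl N16123 D30170
theorem N19818 : nd 19818 = n30171 := ndS (p := 16123) (l := 6) rfl N16123 D30171
theorem N19819 : nd 19819 = n30172 := ndS (p := 16124) (l := 5) rfl N16124 D30172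
theorem N19820 : nd 19820 = n30173 := ndS (p := 16125) (l := 5) rfl N16125 D30173
theorem N19821 : nd 19821 = n30174 := ndS (p := 16126) (l := 1) rfl N16126 D30174
theorem N19822 : nd 19822 = n30175 := ndS (p := 16126) (l := 6) rfl N16126 D30175
theorem N19823 : nd 19823 = n30176 := ndS (p := 16127) (l := 5) rfl N16127 D30176
theorem N19824 : nd 19824 = n30177 := ndS (p := 16128) (l := 6) rfl N16128 D30177
theorem N19825 : nd 19825 = n30178 := ndS (p := 16129) (l := 1) rfl N16129 D30178
theorem N19826 : nd 19826 = n30179 := ndS (p := 16131) (l := 1) rfl N16131 D30179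
theorem N19827 : nd 19827 = n30180 := ndS (p := 16132) (l := 1) rfl N16132 D30180
theorem N19828 : nd 19828 = n30181 := ndS (p := 16133) (l := 1) rfl N16133 D30181
theorem N19829 : nd 19829 = n30182 := ndS (p := 16134) (l := 0) rfl N16134 D30182
theorem N19830 : nd 19830 = n30183 := ndS (p := 16134) (l := 2) rfl N16134 D30183
theorem N19831 : nd 19831 = n30184 := ndS (p := 16134) (l := 5) rfl N16134 D30184
theorem N19832 : nd 19832 = n30185 := ndS (p := 16135) (l := 6) rfl N16135 D30185
theorem N19833 : nd 19833 = n30186 := ndS (p := 16136) (l := 2) rfl N16136 D30186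
theorem N19834 : nd 19834 = n30187 := ndS (p := 16137) (l := 3) rfl N16137 D30187
theorem N19835 : nd 19835 = n30188 := ndS (p := 16137) (l := 5) rfl N16137 D30188
theorem N19836 : nd 19836 = n30189 := ndS (p := 16141) (l := 5) rfl N16141 D30189
theorem N19837 : nd 19837 = n30190 := ndS (p := 16141) (l := 6) rfl N16141 D30190
theorem N19838 : nd 19838 = n30191 := ndS (p := 16142) (l := 1) rfl N16142 D30191
theorem N19839 : nd 19839 = n30192 := ndS (p := 16142) (l := 6) rfl N16142 D30192
theorem N19840 : nd 19840 = n30193 := ndS (p := 16143) (l := 5) rfl N16143 D30193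
theorem N19841 : nd 19841 = n30194 := ndS (p := 16144) (l := 1) rfl N16144 D30194
theorem N19842 : nd 19842 = n30195 := ndS (p := 16146) (l := 0) rfl N16146 D30195
theorem N19843 : nd 19843 = n30196 := ndS (p := 16146) (l := 6) rfl N16146 D30196
theorem N19844 : nd 19844 = n30197 := ndS (p := 16147) (l := 2) rfl N16147 D30197
theorem N19845 : nd 19845 = n30198 := ndS (p := 16147) (l := 5) rfl N16147 D30198
theorem N19846 : nd 19846 = n30199 := ndS (p := 16148) (l := 1) rfl N16148 D30199
theorem N19847 : nd 19847 = n30200 := ndS (p := 16149) (l := 1) rfl N16149 D30200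
theorem N19848 : nd 19848 = n30201 := ndS (p := 16150) (l := 0) rfl N16150 D30201
theorem N19849 : nd 19849 = n30202 := ndS (p := 16150) (l := 2) rfl N16150 D30202
theorem N19850 : nd 19850 = n30203 := ndS (p := 16150) (l := 5) rfl N16150 D30203
theorem N19851 : nd 19851 = n30204 := ndS (p := 16151) (l := 0) rfl N16151 D30204
theorem N19852 : nd 19852 = n30205 := ndS (p := 16151) (l := 6) rfl N16151 D30205
theorem N19853 : nd 19853 = n30206 := ndS (p := 16152) (l := 5) rfl N16152 D30206
theorem N19854 : nd 19854 = n30207 := ndS (p := 16154) (l := 1) rfl N16154 D30207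
theorem N19855 : nd 19855 = n30208 := ndS (p := 16154) (l := 5) rfl N16154 D30208
theorem N19856 : nd 19856 = n30209 := ndS (p := 16154) (l := 6) rfl N16154 D30209
theorem N19857 : nd 19857 = n30210 := ndS (p := 16155) (l := 6) rfl N16155 D30210
theorem N19858 : nd 19858 = n30211 := ndS (p := 16157) (l := 5) rfl N16157 D30211
theorem N19859 : nd 19859 = n30212 := ndS (p := 16157) (l := 6) rfl N16157 D30212
theorem N19860 : nd 19860 = n30213 := ndS (p := 16158) (l := 5) rfl N16158 D30213
theorem N19861 : nd 19861 = n30214 := ndS (p := 16158) (l := 6) rfl N16158 D30214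
theorem N19862 : nd 19862 = n30215 := ndS (p := 16159) (l := 1) rfl N16159 D30215
theorem N19863 : nd 19863 = n30216 := ndS (p := 16160) (l := 1) rfl N16160 D30216
theorem N19864 : nd 19864 = n30217 := ndS (p := 16161) (l := 4) rfl N16161 D30217
theorem N19865 : nd 19865 = n30218 := ndS (p := 16161) (l := 5) rfl N16161 D30218
theorem N19866 : nd 19866 = n30219 := ndS (p := 16161) (l := 6) rfl N16161 D30219
theorem N19867 : nd 19867 = n30220 := ndS (p := 16162) (l := 5) rfl N16162 D30220
theorem N19868 : nd 19868 = n30221 := ndS (p := 16162) (l := 6) rfl N16162 D30221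
theorem N19869 : nd 19869 = n30222 := ndS (p := 16163) (l := 6) rfl N16163 D30222
theorem N19870 : nd 19870 = n30223 := ndS (p := 16164) (l := 5) rfl N16164 D30223
theorem N19871 : nd 19871 = n30224 := ndS (p := 16165) (l := 1) rfl N16165 D30224
theorem N19872 : nd 19872 = n30225 := ndS (p := 16167) (l := 6) rfl N16167 D30225
theorem N19873 : nd 19873 = n30226 := ndS (p := 16169) (l := 1) rfl N16169 D30226
theorem N19874 : nd 19874 = n30227 := ndS (p := 16169) (l := 5) rfl N16169 D30227
theorem N19875 : nd 19875 = n30228 := ndS (p := 16169) (l := 6) rfl N16169 D30228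
theorem N19876 : nd 19876 = n30229 := ndS (p := 16171) (l := 5) rfl N16171 D30229
theorem N19877 : nd 19877 = n30230 := ndS (p := 16172) (l := 5) rfl N16172 D30230
theorem N19878 : nd 19878 = n30231 := ndS (p := 16173) (l := 5) rfl N16173 D30231
theorem N19879 : nd 19879 = n30232 := ndS (p := 16173) (l := 6) rfl N16173 D30232
theorem N19880 : nd 19880 = n30233 := ndS (p := 16174) (l := 1) rfl N16174 D30233
theorem N19881 : nd 19881 = n30234 := ndS (p := 16175) (l := 1) rfl N16175 D30234
theorem N19882 : nd 19882 = n30235 := ndS (p := 16176) (l := 4) rfl N16176 D30235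
theorem N19883 : nd 19883 = n30236 := ndS (p := 16176) (l := 5) rfl N16176 D30236
theorem N19884 : nd 19884 = n30237 := ndS (p := 16176) (l := 6) rfl N16176 D30237
theorem N19885 : nd 19885 = n30238 := ndS (p := 16177) (l := 5) rfl N16177 D30238
theorem N19886 : nd 19886 = n30239 := ndS (p := 16177) (l := 6) rfl N16177 D30239
theorem N19887 : nd 19887 = n30240 := ndS (p := 16178) (l := 6) rfl N16178 D30240
theorem N19888 : nd 19888 = n30241 := ndS (p := 16179) (l := 5) rfl N16179 D30241
theorem N19889 : nd 19889 = n30242 := ndS (p := 16181) (l := 1) rfl N16181 D30242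
theorem N19890 : nd 19890 = n30243 := ndS (p := 16182) (l := 5) rfl N16182 D30243
theorem N19891 : nd 19891 = n30244 := ndS (p := 16184) (l := 6) rfl N16184 D30244
theorem N19892 : nd 19892 = n30245 := ndS (p := 16197) (l := 5) rfl N16197 D30245
theorem N19893 : nd 19893 = n30246 := ndS (p := 16202) (l := 6) rfl N16202 D30246
theorem N19894 : nd 19894 = n30247 := ndS (p := 16205) (l := 5) rfl N16205 D30247
theorem N19895 : nd 19895 = n30248 := ndS (p := 16210) (l := 1) rfl N16210 D30248
theorem N19896 : nd 19896 = n30249 := ndS (p := 16212) (l := 5) rfl N16212 D30249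
theorem N19897 : nd 19897 = n30250 := ndS (p := 16214) (l := 0) rfl N16214 D30250
theorem N19898 : nd 19898 = n30251 := ndS (p := 16214) (l := 2) rfl N16214 D30251
theorem N19899 : nd 19899 = n30252 := ndS (p := 16219) (l := 1) rfl N16219 D30252
theorem N19900 : nd 19900 = n30253 := ndS (p := 16221) (l := 0) rfl N16221 D30253
theorem N19901 : nd 19901 = n30254 := ndS (p := 16221) (l := 2) rfl N16221 D30254
theorem N19902 : nd 19902 = n30255 := ndS (p := 16221) (l := 6) rfl N16221 D30255
theorem N19903 : nd 19903 = n30256 := ndS (p := 16222) (l := 6) rfl N16222 D30256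
theorem N19904 : nd 19904 = n30257 := ndS (p := 16226) (l := 1) rfl N16226 D30257
theorem N19905 : nd 19905 = n30258 := ndS (p := 16227) (l := 0) rfl N16227 D30258
theorem N19906 : nd 19906 = n30259 := ndS (p := 16227) (l := 2) rfl N16227 D30259
theorem N19907 : nd 19907 = n30260 := ndS (p := 16228) (l := 6) rfl N16228 D30260
theorem N19908 : nd 19908 = n30261 := ndS (p := 16240) (l := 1) rfl N16240 D30261
theorem N19909 : nd 19909 = n30262 := ndS (p := 16242) (l := 6) rfl N16242 D30262
theorem N19910 : nd 19910 = n30263 := ndS (p := 16244) (l := 0) rfl N16244 D30263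
theorem N19911 : nd 19911 = n30264 := ndS (p := 16244) (l := 2) rfl N16244 D30264
theorem N19912 : nd 19912 = n30265 := ndS (p := 16249) (l := 1) rfl N16249 D30265
theorem N19913 : nd 19913 = n30266 := ndS (p := 16251) (l := 0) rfl N16251 D30266
theorem N19914 : nd 19914 = n30267 := ndS (p := 16251) (l := 2) rfl N16251 D30267
theorem N19915 : nd 19915 = n30268 := ndS (p := 16251) (l := 5) rfl N16251 D30268
theorem N19916 : nd 19916 = n30269 := ndS (p := 16252) (l := 5) rfl N16252 D30269
theorem N19917 : nd 19917 = n30270 := ndS (p := 16256) (l := 1) rfl N16256 D30270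
theorem N19918 : nd 19918 = n30271 := ndS (p := 16257) (l := 0) rfl N16257 D30271
theorem N19919 : nd 19919 = n30272 := ndS (p := 16257) (l := 2) rfl N16257 D30272
theorem N19920 : nd 19920 = n30273 := ndS (p := 16267) (l := 1) rfl N16267 D30273
theorem N19921 : nd 19921 = n30274 := ndS (p := 16267) (l := 5) rfl N16267 D30274
theorem N19922 : nd 19922 = n30275 := ndS (p := 16268) (l := 5) rfl N16268 D30275
theorem N19923 : nd 19923 = n30276 := ndS (p := 16269) (l := 6) rfl N16269 D30276
theorem N19924 : nd 19924 = n30277 := ndS (p := 16271) (l := 5) rfl N16271 D30277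
theorem N19925 : nd 19925 = n30278 := ndS (p := 16274) (l := 1) rfl N16274 D30278
theorem N19926 : nd 19926 = n30279 := ndS (p := 16282) (l := 1) rfl N16282 D30279
theorem N19927 : nd 19927 = n30280 := ndS (p := 16291) (l := 1) rfl N16291 D30280
theorem N19928 : nd 19928 = n30281 := ndS (p := 16298) (l := 4) rfl N16298 D30281
theorem N19929 : nd 19929 = n30282 := ndS (p := 16304) (l := 4) rfl N16304 D30282
theorem N19930 : nd 19930 = n30283 := ndS (p := 16305) (l := 3) rfl N16305 D30283
theorem N19931 : nd 19931 = n30284 := ndS (p := 16305) (l := 5) rfl N16305 D30284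
theorem N19932 : nd 19932 = n30285 := ndS (p := 16313) (l := 6) rfl N16313 D30285
theorem N19933 : nd 19933 = n30286 := ndS (p := 16324) (l := 4) rfl N16324 D30286
theorem N19934 : nd 19934 = n30287 := ndS (p := 16330) (l := 4) rfl N16330 D30287
theorem N19935 : nd 19935 = n30288 := ndS (p := 16332) (l := 3) rfl N16332 D30288
theorem N19936 : nd 19936 = n30289 := ndS (p := 16332) (l := 6) rfl N16332 D30289
theorem N19937 : nd 19937 = n30290 := ndS (p := 16338) (l := 3) rfl N16338 D30290
theorem N19938 : nd 19938 = n30291 := ndS (p := 16338) (l := 6) rfl N16338 D30291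
theorem N19939 : nd 19939 = n30292 := ndS (p := 16340) (l := 2) rfl N16340 D30292
theorem N19940 : nd 19940 = n30293 := ndS (p := 16340) (l := 5) rfl N16340 D30293
theorem N19941 : nd 19941 = n30294 := ndS (p := 16340) (l := 6) rfl N16340 D30294
theorem N19942 : nd 19942 = n30295 := ndS (p := 16341) (l := 1) rfl N16341 D30295
theorem N19943 : nd 19943 = n30296 := ndS (p := 16342) (l := 5) rfl N16342 D30296
theorem N19944 : nd 19944 = n30297 := ndS (p := 16346) (l := 5) rfl N16346 D30297
theorem N19945 : nd 19945 = n30298 := ndS (p := 16347) (l := 1) rfl N16347 D30298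
theorem N19946 : nd 19946 = n30299 := ndS (p := 16348) (l := 6) rfl N16348 D30299
theorem N19947 : nd 19947 = n30300 := ndS (p := 16350) (l := 6) rfl N16350 D30300
theorem N19948 : nd 19948 = n30301 := ndS (p := 16351) (l := 5) rfl N16351 D30301
theorem N19949 : nd 19949 = n30302 := ndS (p := 16364) (l := 4) rfl N16364 D30302
theorem N19950 : nd 19950 = n30303 := ndS (p := 16365) (l := 3) rfl N16365 D30303
theorem N19951 : nd 19951 = n30304 := ndS (p := 16365) (l := 5) rfl N16365 D30304
theorem N19952 : nd 19952 = n30305 := ndS (p := 16367) (l := 2) rfl N16367 D30305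
theorem N19953 : nd 19953 = n30306 := ndS (p := 16373) (l := 4) rfl N16373 D30306
theorem N19954 : nd 19954 = n30307 := ndS (p := 16374) (l := 3) rfl N16374 D30307
theorem N19955 : nd 19955 = n30308 := ndS (p := 16374) (l := 5) rfl N16374 D30308
theorem N19956 : nd 19956 = n30309 := ndS (p := 16374) (l := 6) rfl N16374 D30309
theorem N19957 : nd 19957 = n30310 := ndS (p := 16377) (l := 5) rfl N16377 D30310
theorem N19958 : nd 19958 = n30311 := ndS (p := 16377) (l := 6) rfl N16377 D30311
theorem N19959 : nd 19959 = n30312 := ndS (p := 16378) (l := 6) rfl N16378 D30312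
theorem N19960 : nd 19960 = n30313 := ndS (p := 16379) (l := 5) rfl N16379 D30313
theorem N19961 : nd 19961 = n30314 := ndS (p := 16385) (l := 4) rfl N16385 D30314
theorem N19962 : nd 19962 = n30315 := ndS (p := 16386) (l := 3) rfl N16386 D30315
theorem N19963 : nd 19963 = n30316 := ndS (p := 16389) (l := 4) rfl N16389 D30316
theorem N19964 : nd 19964 = n30317 := ndS (p := 16390) (l := 3) rfl N16390 D30317
theorem N19965 : nd 19965 = n30318 := ndS (p := 16390) (l := 5) rfl N16390 D30318
theorem N19966 : nd 19966 = n30319 := ndS (p := 16390) (l := 6) rfl N16390 D30319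
theorem N19967 : nd 19967 = n30320 := ndS (p := 16393) (l := 5) rfl N16393 D30320
theorem N19968 : nd 19968 = n30321 := ndS (p := 16393) (l := 6) rfl N16393 D30321
theorem N19969 : nd 19969 = n30322 := ndS (p := 16396) (l := 3) rfl N16396 D30322
theorem N19970 : nd 19970 = n30323 := ndS (p := 16396) (l := 6) rfl N16396 D30323
theorem N19971 : nd 19971 = n30324 := ndS (p := 16398) (l := 5) rfl N16398 D30324
theorem N19972 : nd 19972 = n30325 := ndS (p := 16398) (l := 6) rfl N16398 D30325
theorem N19973 : nd 19973 = n30326 := ndS (p := 16399) (l := 6) rfl N16399 D30326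
theorem N19974 : nd 19974 = n30327 := ndS (p := 16400) (l := 5) rfl N16400 D30327
theorem N19975 : nd 19975 = n30328 := ndS (p := 16403) (l := 6) rfl N16403 D30328
theorem N19976 : nd 19976 = n30329 := ndS (p := 16404) (l := 5) rfl N16404 D30329
theorem N19977 : nd 19977 = n30330 := ndS (p := 16406) (l := 1) rfl N16406 D30330
theorem N19978 : nd 19978 = n30331 := ndS (p := 16411) (l := 1) rfl N16411 D30331
theorem N19979 : nd 19979 = n30332 := ndS (p := 16413) (l := 2) rfl N16413 D30332
theorem N19980 : nd 19980 = n30333 := ndS (p := 16419) (l := 6) rfl N16419 D30333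
theorem N19981 : nd 19981 = n30334 := ndS (p := 16422) (l := 1) rfl N16422 D30334
theorem N19982 : nd 19982 = n30335 := ndS (p := 16422) (l := 6) rfl N16422 D30335
theorem N19983 : nd 19983 = n30336 := ndS (p := 16423) (l := 6) rfl N16423 D30336
theorem N19984 : nd 19984 = n30337 := ndS (p := 16424) (l := 5) rfl N16424 D30337
theorem N19985 : nd 19985 = n30338 := ndS (p := 16426) (l := 6) rfl N16426 D30338
theorem N19986 : nd 19986 = n30339 := ndS (p := 16429) (l := 1) rfl N16429 D30339
theorem N19987 : nd 19987 = n30340 := ndS (p := 16437) (l := 1) rfl N16437 D30340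
theorem N19988 : nd 19988 = n30341 := ndS (p := 16451) (l := 4) rfl N16451 D30341
theorem N19989 : nd 19989 = n30342 := ndS (p := 16453) (l := 4) rfl N16453 D30342
theorem N19990 : nd 19990 = n30343 := ndS (p := 16454) (l := 3) rfl N16454 D30343
theorem N19991 : nd 19991 = n30344 := ndS (p := 16454) (l := 6) rfl N16454 D30344
theorem N19992 : nd 19992 = n30345 := ndS (p := 16468) (l := 4) rfl N16468 D30345
theorem N19993 : nd 19993 = n30346 := ndS (p := 16472) (l := 4) rfl N16472 D30346
theorem N19994 : nd 19994 = n30347 := ndS (p := 16474) (l := 3) rfl N16474 D30347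
theorem N19995 : nd 19995 = n30348 := ndS (p := 16474) (l := 5) rfl N16474 D30348
theorem N19996 : nd 19996 = n30349 := ndS (p := 16479) (l := 3) rfl N16479 D30349
theorem N19997 : nd 19997 = n30350 := ndS (p := 16479) (l := 5) rfl N16479 D30350
theorem N19998 : nd 19998 = n30351 := ndS (p := 16481) (l := 2) rfl N16481 D30351
theorem N19999 : nd 19999 = n30352 := ndS (p := 16481) (l := 5) rfl N16481 D30352
theorem N20000 : nd 20000 = n30353 := ndS (p := 16481) (l := 6) rfl N16481 D30353

end Cfsg.Agent.Helper17.SuzbTC
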