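import Cfsg.Agent.Helper17.SuzbTC.Fin2

set_option autoImplicit false
set_option linter.all false
set_option maxRecDepth 100000

noncomputable section

namespace Cfsg.Agent.Helper17.SuzbTC

theorem N20001 : nd 20001 = n30354 := ndS (p := 16482) (l := 6) rfl N16482 D30354
theorem N20002 : nd 20002 = n30355 := ndS (p := 16483) (l := 1) rfl N16483 D30355
theorem N20003 : nd 20003 = n30356 := ndS (p := 16486) (l := 6) rfl N16486 D30356
theorem N20004 : nd 20004 = n30357 := ndS (p := 16487) (l := 1) rfl N16487 D30357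
theorem N20005 : nd 20005 = n30358 := ndS (p := 16488) (l := 5) rfl N16488 D30358
theorem N20006 : nd 20006 = n30359 := ndS (p := 16490) (l := 5) rfl N16490 D30359
theorem N20007 : nd 20007 = n30360 := ndS (p := 16491) (l := 6) rfl N16491 D30360
theorem N20008 : nd 20008 = n30361 := ndS (p := 16501) (l := 2) rfl N16501 D30361
theorem N20009 : nd 20009 = n30362 := ndS (p := 16506) (l := 3) rfl N16506 D30362
theorem N20010 : nd 20010 = n30363 := ndS (p := 16509) (l := 5) rfl N16509 D30363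
theorem N20011 : nd 20011 = n30364 := ndS (p := 16509) (l := 6) rfl N16509 D30364
theorem N20012 : nd 20012 = n30365 := ndS (p := 16512) (l := 6) rfl N16512 D30365
theorem N20013 : nd 20013 = n30366 := ndS (p := 16513) (l := 5) rfl N16513 D30366
theorem N20014 : nd 20014 = n30367 := ndS (p := 16514) (l := 1) rfl N16514 D30367
theorem N20015 : nd 20015 = n30368 := ndS (p := 16518) (l := 1) rfl N16518 D30368
theorem N20016 : nd 20016 = n30369 := ndS (p := 16520) (l := 2) rfl N16520 D30369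
theorem N20017 : nd 20017 = n30370 := ndS (p := 16526) (l := 5) rfl N16526 D30370
theorem N20018 : nd 20018 = n30371 := ndS (p := 16530) (l := 3) rfl N16530 D30371
theorem N20019 : nd 20019 = n30372 := ndS (p := 16530) (l := 6) rfl N16530 D30372
theorem N20020 : nd 20020 = n30373 := ndS (p := 16532) (l := 2) rfl N16532 D30373
theorem N20021 : nd 20021 = n30374 := ndS (p := 16532) (l := 6) rfl N16532 D30374
theorem N20022 : nd 20022 = n30375 := ndS (p := 16541) (l := 2) rfl N16541 D30375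
theorem N20023 : nd 20023 = n30376 := ndS (p := 16541) (l := 4) rfl N16541 D30376
theorem N20024 : nd 20024 = n30377 := ndS (p := 16542) (l := 3) rfl N16542 D30377
theorem N20025 : nd 20025 = n30378 := ndS (p := 16544) (l := 3) rfl N16544 D30378
theorem N20026 : nd 20026 = n30379 := ndS (p := 16544) (l := 6) rfl N16544 D30379
theorem N20027 : nd 20027 = n30380 := ndS (p := 16546) (l := 2) rfl N16546 D30380
theorem N20028 : nd 20028 = n30381 := ndS (p := 16546) (l := 6) rfl N16546 D30381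
theorem N20029 : nd 20029 = n30382 := ndS (p := 16548) (l := 2) rfl N16548 D30382
theorem N20030 : nd 20030 = n30383 := ndS (p := 16548) (l := 6) rfl N16548 D30383
theorem N20031 : nd 20031 = n30384 := ndS (p := 16549) (l := 1) rfl N16549 D30384
theorem N20032 : nd 20032 = n30385 := ndS (p := 16551) (l := 1) rfl N16551 D30385
theorem N20033 : nd 20033 = n30386 := ndS (p := 16551) (l := 3) rfl N16551 D30386
theorem N20034 : nd 20034 = n30387 := ndS (p := 16551) (l := 6) rfl N16551 D30387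
theorem N20035 : nd 20035 = n30388 := ndS (p := 16552) (l := 1) rfl N16552 D30388
theorem N20036 : nd 20036 = n30389 := ndS (p := 16552) (l := 5) rfl N16552 D30389
theorem N20037 : nd 20037 = n30390 := ndS (p := 16561) (l := 1) rfl N16561 D30390
theorem N20038 : nd 20038 = n30391 := ndS (p := 16565) (l := 3) rfl N16565 D30391
theorem N20039 : nd 20039 = n30392 := ndS (p := 16565) (l := 5) rfl N16565 D30392
theorem N20040 : nd 20040 = n30393 := ndS (p := 16567) (l := 2) rfl N16567 D30393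
theorem N20041 : nd 20041 = n30394 := ndS (p := 16567) (l := 5) rfl N16567 D30394
theorem N20042 : nd 20042 = n30395 := ndS (p := 16576) (l := 2) rfl N16576 D30395
theorem N20043 : nd 20043 = n30396 := ndS (p := 16576) (l := 4) rfl N16576 D30396
theorem N20044 : nd 20044 = n30397 := ndS (p := 16577) (l := 3) rfl N16577 D30397
theorem N20045 : nd 20045 = n30398 := ndS (p := 16579) (l := 3) rfl N16579 D30398
theorem N20046 : nd 20046 = n30399 := ndS (p := 16579) (l := 5) rfl N16579 D30399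
theorem N20047 : nd 20047 = n30400 := ndS (p := 16581) (l := 2) rfl N16581 D30400
theorem N20048 : nd 20048 = n30401 := ndS (p := 16581) (l := 5) rfl N16581 D30401
theorem N20049 : nd 20049 = n30402 := ndS (p := 16583) (l := 2) rfl N16583 D30402
theorem N20050 : nd 20050 = n30403 := ndS (p := 16583) (l := 5) rfl N16583 D30403
theorem N20051 : nd 20051 = n30404 := ndS (p := 16584) (l := 1) rfl N16584 D30404
theorem N20052 : nd 20052 = n30405 := ndS (p := 16586) (l := 1) rfl N16586 D30405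
theorem N20053 : nd 20053 = n30406 := ndS (p := 16586) (l := 3) rfl N16586 D30406
theorem N20054 : nd 20054 = n30407 := ndS (p := 16586) (l := 5) rfl N16586 D30407
theorem N20055 : nd 20055 = n30408 := ndS (p := 16587) (l := 1) rfl N16587 D30408
theorem N20056 : nd 20056 = n30409 := ndS (p := 16587) (l := 6) rfl N16587 D30409
theorem N20057 : nd 20057 = n30410 := ndS (p := 16596) (l := 1) rfl N16596 D30410
theorem N20058 : nd 20058 = n30411 := ndS (p := 16601) (l := 3) rfl N16601 D30411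
theorem N20059 : nd 20059 = n30412 := ndS (p := 16604) (l := 3) rfl N16604 D30412
theorem N20060 : nd 20060 = n30413 := ndS (p := 16605) (l := 2) rfl N16605 D30413
theorem N20061 : nd 20061 = n30414 := ndS (p := 16605) (l := 5) rfl N16605 D30414
theorem N20062 : nd 20062 = n30415 := ndS (p := 16605) (l := 6) rfl N16605 D30415
theorem N20063 : nd 20063 = n30416 := ndS (p := 16606) (l := 1) rfl N16606 D30416
theorem N20064 : nd 20064 = n30417 := ndS (p := 16607) (l := 1) rfl N16607 D30417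
theorem N20065 : nd 20065 = n30418 := ndS (p := 16611) (l := 2) rfl N16611 D30418
theorem N20066 : nd 20066 = n30419 := ndS (p := 16611) (l := 6) rfl N16611 D30419
theorem N20067 : nd 20067 = n30420 := ndS (p := 16612) (l := 1) rfl N16612 D30420
theorem N20068 : nd 20068 = n30421 := ndS (p := 16614) (l := 1) rfl N16614 D30421
theorem N20069 : nd 20069 = n30422 := ndS (p := 16614) (l := 5) rfl N16614 D30422
theorem N20070 : nd 20070 = n30423 := ndS (p := 16614) (l := 6) rfl N16614 D30423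
theorem N20071 : nd 20071 = n30424 := ndS (p := 16616) (l := 1) rfl N16616 D30424
theorem N20072 : nd 20072 = n30425 := ndS (p := 16618) (l := 2) rfl N16618 D30425
theorem N20073 : nd 20073 = n30426 := ndS (p := 16618) (l := 5) rfl N16618 D30426
theorem N20074 : nd 20074 = n30427 := ndS (p := 16619) (l := 1) rfl N16619 D30427
theorem N20075 : nd 20075 = n30428 := ndS (p := 16624) (l := 3) rfl N16624 D30428
theorem N20076 : nd 20076 = n30429 := ndS (p := 16627) (l := 3) rfl N16627 D30429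
theorem N20077 : nd 20077 = n30430 := ndS (p := 16628) (l := 2) rfl N16628 D30430
theorem N20078 : nd 20078 = n30431 := ndS (p := 16630) (l := 2) rfl N16630 D30431
theorem N20079 : nd 20079 = n30432 := ndS (p := 16631) (l := 1) rfl N16631 D30432
theorem N20080 : nd 20080 = n30433 := ndS (p := 16631) (l := 5) rfl N16631 D30433
theorem N20081 : nd 20081 = n30434 := ndS (p := 16631) (l := 6) rfl N16631 D30434
theorem N20082 : nd 20082 = n30435 := ndS (p := 16632) (l := 1) rfl N16632 D30435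
theorem N20083 : nd 20083 = n30436 := ndS (p := 16635) (l := 2) rfl N16635 D30436
theorem N20084 : nd 20084 = n30437 := ndS (p := 16647) (l := 4) rfl N16647 D30437
theorem N20085 : nd 20085 = n30438 := ndS (p := 16647) (l := 5) rfl N16647 D30438
theorem N20086 : nd 20086 = n30439 := ndS (p := 16650) (l := 3) rfl N16650 D30439
theorem N20087 : nd 20087 = n30440 := ndS (p := 16651) (l := 5) rfl N16651 D30440
theorem N20088 : nd 20088 = n30441 := ndS (p := 16652) (l := 5) rfl N16652 D30441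
theorem N20089 : nd 20089 = n30442 := ndS (p := 16655) (l := 4) rfl N16655 D30442
theorem N20090 : nd 20090 = n30443 := ndS (p := 16656) (l := 3) rfl N16656 D30443
theorem N20091 : nd 20091 = n30444 := ndS (p := 16657) (l := 2) rfl N16657 D30444
theorem N20092 : nd 20092 = n30445 := ndS (p := 16665) (l := 4) rfl N16665 D30445
theorem N20093 : nd 20093 = n30446 := ndS (p := 16665) (l := 6) rfl N16665 D30446
theorem N20094 : nd 20094 = n30447 := ndS (p := 16668) (l := 3) rfl N16668 D30447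
theorem N20095 : nd 20095 = n30448 := ndS (p := 16669) (l := 6) rfl N16669 D30448
theorem N20096 : nd 20096 = n30449 := ndS (p := 16670) (l := 6) rfl N16670 D30449
theorem N20097 : nd 20097 = n30450 := ndS (p := 16673) (l := 4) rfl N16673 D30450
theorem N20098 : nd 20098 = n30451 := ndS (p := 16674) (l := 3) rfl N16674 D30451
theorem N20099 : nd 20099 = n30452 := ndS (p := 16675) (l := 2) rfl N16675 D30452
theorem N20100 : nd 20100 = n30453 := ndS (p := 16680) (l := 2) rfl N16680 D30453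
theorem N20101 : nd 20101 = n30454 := ndS (p := 16681) (l := 2) rfl N16681 D30454
theorem N20102 : nd 20102 = n30455 := ndS (p := 16682) (l := 6) rfl N16682 D30455
theorem N20103 : nd 20103 = n30456 := ndS (p := 16683) (l := 3) rfl N16683 D30456
theorem N20104 : nd 20104 = n30457 := ndS (p := 16683) (l := 6) rfl N16683 D30457
theorem N20105 : nd 20105 = n30458 := ndS (p := 16685) (l := 2) rfl N16685 D30458
theorem N20106 : nd 20106 = n30459 := ndS (p := 16685) (l := 4) rfl N16685 D30459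
theorem N20107 : nd 20107 = n30460 := ndS (p := 16685) (l := 6) rfl N16685 D30460
theorem N20108 : nd 20108 = n30461 := ndS (p := 16686) (l := 1) rfl N16686 D30461
theorem N20109 : nd 20109 = n30462 := ndS (p := 16686) (l := 5) rfl N16686 D30462
theorem N20110 : nd 20110 = n30463 := ndS (p := 16688) (l := 5) rfl N16688 D30463
theorem N20111 : nd 20111 = n30464 := ndS (p := 16689) (l := 3) rfl N16689 D30464
theorem N20112 : nd 20112 = n30465 := ndS (p := 16689) (l := 5) rfl N16689 D30465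
theorem N20113 : nd 20113 = n30466 := ndS (p := 16691) (l := 2) rfl N16691 D30466
theorem N20114 : nd 20114 = n30467 := ndS (p := 16691) (l := 4) rfl N16691 D30467
theorem N20115 : nd 20115 = n30468 := ndS (p := 16691) (l := 5) rfl N16691 D30468
theorem N20116 : nd 20116 = n30469 := ndS (p := 16692) (l := 1) rfl N16692 D30469
theorem N20117 : nd 20117 = n30470 := ndS (p := 16692) (l := 6) rfl N16692 D30470
theorem N20118 : nd 20118 = n30471 := ndS (p := 16696) (l := 1) rfl N16696 D30471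
theorem N20119 : nd 20119 = n30472 := ndS (p := 16697) (l := 3) rfl N16697 D30472
theorem N20120 : nd 20120 = n30473 := ndS (p := 16697) (l := 5) rfl N16697 D30473
theorem N20121 : nd 20121 = n30474 := ndS (p := 16699) (l := 2) rfl N16699 D30474
theorem N20122 : nd 20122 = n30475 := ndS (p := 16700) (l := 1) rfl N16700 D30475
theorem N20123 : nd 20123 = n30476 := ndS (p := 16700) (l := 5) rfl N16700 D30476
theorem N20124 : nd 20124 = n30477 := ndS (p := 16703) (l := 6) rfl N16703 D30477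
theorem N20125 : nd 20125 = n30478 := ndS (p := 16705) (l := 1) rfl N16705 D30478
theorem N20126 : nd 20126 = n30479 := ndS (p := 16706) (l := 3) rfl N16706 D30479
theorem N20127 : nd 20127 = n30480 := ndS (p := 16706) (l := 6) rfl N16706 D30480
theorem N20128 : nd 20128 = n30481 := ndS (p := 16708) (l := 2) rfl N16708 D30481
theorem N20129 : nd 20129 = n30482 := ndS (p := 16709) (l := 1) rfl N16709 D30482
theorem N20130 : nd 20130 = n30483 := ndS (p := 16709) (l := 6) rfl N16709 D30483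
theorem N20131 : nd 20131 = n30484 := ndS (p := 16712) (l := 5) rfl N16712 D30484
theorem N20132 : nd 20132 = n30485 := ndS (p := 16716) (l := 3) rfl N16716 D30485
theorem N20133 : nd 20133 = n30486 := ndS (p := 16717) (l := 0) rfl N16717 D30486
theorem N20134 : nd 20134 = n30487 := ndS (p := 16717) (l := 5) rfl N16717 D30487
theorem N20135 : nd 20135 = n30488 := ndS (p := 16722) (l := 3) rfl N16722 D30488
theorem N20136 : nd 20136 = n30489 := ndS (p := 16723) (l := 0) rfl N16723 D30489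
theorem N20137 : nd 20137 = n30490 := ndS (p := 16723) (l := 6) rfl N16723 D30490
theorem N20138 : nd 20138 = n30491 := ndS (p := 16726) (l := 3) rfl N16726 D30491
theorem N20139 : nd 20139 = n30492 := ndS (p := 16727) (l := 2) rfl N16727 D30492
theorem N20140 : nd 20140 = n30493 := ndS (p := 16728) (l := 6) rfl N16728 D30493
theorem N20141 : nd 20141 = n30494 := ndS (p := 16729) (l := 5) rfl N16729 D30494
theorem N20142 : nd 20142 = n30495 := ndS (p := 16730) (l := 3) rfl N16730 D30495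
theorem N20143 : nd 20143 = n30496 := ndS (p := 16731) (l := 2) rfl N16731 D30496
theorem N20144 : nd 20144 = n30497 := ndS (p := 16732) (l := 5) rfl N16732 D30497
theorem N20145 : nd 20145 = n30498 := ndS (p := 16733) (l := 6) rfl N16733 D30498
theorem N20146 : nd 20146 = n30499 := ndS (p := 16734) (l := 1) rfl N16734 D30499
theorem N20147 : nd 20147 = n30500 := ndS (p := 16734) (l := 3) rfl N16734 D30500
theorem N20148 : nd 20148 = n30501 := ndS (p := 16735) (l := 2) rfl N16735 D30501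
theorem N20149 : nd 20149 = n30502 := ndS (p := 16737) (l := 1) rfl N16737 D30502
theorem N20150 : nd 20150 = n30503 := ndS (p := 16737) (l := 3) rfl N16737 D30503
theorem N20151 : nd 20151 = n30504 := ndS (p := 16738) (l := 2) rfl N16738 D30504
theorem N20152 : nd 20152 = n30505 := ndS (p := 16752) (l := 0) rfl N16752 D30505
theorem N20153 : nd 20153 = n30506 := ndS (p := 16752) (l := 2) rfl N16752 D30506
theorem N20154 : nd 20154 = n30507 := ndS (p := 16752) (l := 5) rfl N16752 D30507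
theorem N20155 : nd 20155 = n30508 := ndS (p := 16753) (l := 2) rfl N16753 D30508
theorem N20156 : nd 20156 = n30509 := ndS (p := 16759) (l := 1) rfl N16759 D30509
theorem N20157 : nd 20157 = n30510 := ndS (p := 16760) (l := 0) rfl N16760 D30510
theorem N20158 : nd 20158 = n30511 := ndS (p := 16760) (l := 2) rfl N16760 D30511
theorem N20159 : nd 20159 = n30512 := ndS (p := 16760) (l := 6) rfl N16760 D30512
theorem N20160 : nd 20160 = n30513 := ndS (p := 16761) (l := 2) rfl N16761 D30513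
theorem N20161 : nd 20161 = n30514 := ndS (p := 16767) (l := 1) rfl N16767 D30514
theorem N20162 : nd 20162 = n30515 := ndS (p := 16769) (l := 3) rfl N16769 D30515
theorem N20163 : nd 20163 = n30516 := ndS (p := 16774) (l := 3) rfl N16774 D30516
theorem N20164 : nd 20164 = n30517 := ndS (p := 16778) (l := 5) rfl N16778 D30517
theorem N20165 : nd 20165 = n30518 := ndS (p := 16780) (l := 1) rfl N16780 D30518
theorem N20166 : nd 20166 = n30519 := ndS (p := 16781) (l := 2) rfl N16781 D30519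
theorem N20167 : nd 20167 = n30520 := ndS (p := 16782) (l := 2) rfl N16782 D30520
theorem N20168 : nd 20168 = n30521 := ndS (p := 16782) (l := 4) rfl N16782 D30521
theorem N20169 : nd 20169 = n30522 := ndS (p := 16783) (l := 2) rfl N16783 D30522
theorem N20170 : nd 20170 = n30523 := ndS (p := 16784) (l := 1) rfl N16784 D30523
theorem N20171 : nd 20171 = n30524 := ndS (p := 16789) (l := 1) rfl N16789 D30524
theorem N20172 : nd 20172 = n30525 := ndS (p := 16789) (l := 4) rfl N16789 D30525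
theorem N20173 : nd 20173 = n30526 := ndS (p := 16789) (l := 5) rfl N16789 D30526
theorem N20174 : nd 20174 = n30527 := ndS (p := 16791) (l := 1) rfl N16791 D30527
theorem N20175 : nd 20175 = n30528 := ndS (p := 16794) (l := 5) rfl N16794 D30528
theorem N20176 : nd 20176 = n30529 := ndS (p := 16794) (l := 6) rfl N16794 D30529
theorem N20177 : nd 20177 = n30530 := ndS (p := 16798) (l := 5) rfl N16798 D30530
theorem N20178 : nd 20178 = n30531 := ndS (p := 16799) (l := 1) rfl N16799 D30531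
theorem N20179 : nd 20179 = n30532 := ndS (p := 16799) (l := 6) rfl N16799 D30532
theorem N20180 : nd 20180 = n30533 := ndS (p := 16801) (l := 1) rfl N16801 D30533
theorem N20181 : nd 20181 = n30534 := ndS (p := 16804) (l := 6) rfl N16804 D30534
theorem N20182 : nd 20182 = n30535 := ndS (p := 16806) (l := 1) rfl N16806 D30535
theorem N20183 : nd 20183 = n30536 := ndS (p := 16807) (l := 2) rfl N16807 D30536
theorem N20184 : nd 20184 = n30537 := ndS (p := 16808) (l := 2) rfl N16808 D30537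
theorem N20185 : nd 20185 = n30538 := ndS (p := 16808) (l := 4) rfl N16808 D30538
theorem N20186 : nd 20186 = n30539 := ndS (p := 16809) (l := 2) rfl N16809 D30539
theorem N20187 : nd 20187 = n30540 := ndS (p := 16810) (l := 1) rfl N16810 D30540
theorem N20188 : nd 20188 = n30541 := ndS (p := 16815) (l := 1) rfl N16815 D30541
theorem N20189 : nd 20189 = n30542 := ndS (p := 16815) (l := 4) rfl N16815 D30542
theorem N20190 : nd 20190 = n30543 := ndS (p := 16815) (l := 6) rfl N16815 D30543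
theorem N20191 : nd 20191 = n30544 := ndS (p := 16817) (l := 1) rfl N16817 D30544
theorem N20192 : nd 20192 = n30545 := ndS (p := 16820) (l := 5) rfl N16820 D30545
theorem N20193 : nd 20193 = n30546 := ndS (p := 16820) (l := 6) rfl N16820 D30546
theorem N20194 : nd 20194 = n30547 := ndS (p := 16824) (l := 6) rfl N16824 D30547
theorem N20195 : nd 20195 = n30548 := ndS (p := 16825) (l := 1) rfl N16825 D30548
theorem N20196 : nd 20196 = n30549 := ndS (p := 16825) (l := 5) rfl N16825 D30549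
theorem N20197 : nd 20197 = n30550 := ndS (p := 16827) (l := 1) rfl N16827 D30550
theorem N20198 : nd 20198 = n30551 := ndS (p := 16830) (l := 3) rfl N16830 D30551
theorem N20199 : nd 20199 = n30552 := ndS (p := 16831) (l := 5) rfl N16831 D30552
theorem N20200 : nd 20200 = n30553 := ndS (p := 16834) (l := 6) rfl N16834 D30553
theorem N20201 : nd 20201 = n30554 := ndS (p := 16836) (l := 6) rfl N16836 D30554
theorem N20202 : nd 20202 = n30555 := ndS (p := 16837) (l := 3) rfl N16837 D30555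
theorem N20203 : nd 20203 = n30556 := ndS (p := 16838) (l := 6) rfl N16838 D30556
theorem N20204 : nd 20204 = n30557 := ndS (p := 16841) (l := 5) rfl N16841 D30557
theorem N20205 : nd 20205 = n30558 := ndS (p := 16843) (l := 5) rfl N16843 D30558
theorem N20206 : nd 20206 = n30559 := ndS (p := 16844) (l := 1) rfl N16844 D30559
theorem N20207 : nd 20207 = n30560 := ndS (p := 16845) (l := 5) rfl N16845 D30560
theorem N20208 : nd 20208 = n30561 := ndS (p := 16846) (l := 1) rfl N16846 D30561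
theorem N20209 : nd 20209 = n30562 := ndS (p := 16847) (l := 6) rfl N16847 D30562
theorem N20210 : nd 20210 = n30563 := ndS (p := 16848) (l := 1) rfl N16848 D30563
theorem N20211 : nd 20211 = n30564 := ndS (p := 16850) (l := 1) rfl N16850 D30564
theorem N20212 : nd 20212 = n30565 := ndS (p := 16859) (l := 5) rfl N16859 D30565
theorem N20213 : nd 20213 = n30566 := ndS (p := 16868) (l := 6) rfl N16868 D30566
theorem N20214 : nd 20214 = n30567 := ndS (p := 16873) (l := 6) rfl N16873 D30567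
theorem N20215 : nd 20215 = n30568 := ndS (p := 16875) (l := 2) rfl N16875 D30568
theorem N20216 : nd 20216 = n30569 := ndS (p := 16877) (l := 5) rfl N16877 D30569
theorem N20217 : nd 20217 = n30570 := ndS (p := 16880) (l := 5) rfl N16880 D30570
theorem N20218 : nd 20218 = n30571 := ndS (p := 16882) (l := 2) rfl N16882 D30571
theorem N20219 : nd 20219 = n30572 := ndS (p := 16884) (l := 6) rfl N16884 D30572
theorem N20220 : nd 20220 = n30573 := ndS (p := 16889) (l := 6) rfl N16889 D30573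
theorem N20221 : nd 20221 = n30574 := ndS (p := 16890) (l := 1) rfl N16890 D30574
theorem N20222 : nd 20222 = n30575 := ndS (p := 16893) (l := 6) rfl N16893 D30575
theorem N20223 : nd 20223 = n30576 := ndS (p := 16894) (l := 1) rfl N16894 D30576
theorem N20224 : nd 20224 = n30577 := ndS (p := 16895) (l := 0) rfl N16895 D30577
theorem N20225 : nd 20225 = n30578 := ndS (p := 16895) (l := 5) rfl N16895 D30578
theorem N20226 : nd 20226 = n30579 := ndS (p := 16896) (l := 1) rfl N16896 D30579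
theorem N20227 : nd 20227 = n30580 := ndS (p := 16900) (l := 5) rfl N16900 D30580
theorem N20228 : nd 20228 = n30581 := ndS (p := 16901) (l := 1) rfl N16901 D30581
theorem N20229 : nd 20229 = n30582 := ndS (p := 16904) (l := 5) rfl N16904 D30582
theorem N20230 : nd 20230 = n30583 := ndS (p := 16905) (l := 1) rfl N16905 D30583
theorem N20231 : nd 20231 = n30584 := ndS (p := 16906) (l := 0) rfl N16906 D30584
theorem N20232 : nd 20232 = n30585 := ndS (p := 16906) (l := 6) rfl N16906 D30585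
theorem N20233 : nd 20233 = n30586 := ndS (p := 16907) (l := 1) rfl N16907 D30586
theorem N20234 : nd 20234 = n30587 := ndS (p := 16908) (l := 6) rfl N16908 D30587
theorem N20235 : nd 20235 = n30588 := ndS (p := 16910) (l := 5) rfl N16910 D30588
theorem N20236 : nd 20236 = n30589 := ndS (p := 16913) (l := 1) rfl N16913 D30589
theorem N20237 : nd 20237 = n30590 := ndS (p := 16915) (l := 2) rfl N16915 D30590
theorem N20238 : nd 20238 = n30591 := ndS (p := 16916) (l := 1) rfl N16916 D30591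
theorem N20239 : nd 20239 = n30592 := ndS (p := 16917) (l := 1) rfl N16917 D30592
theorem N20240 : nd 20240 = n30593 := ndS (p := 16917) (l := 3) rfl N16917 D30593
theorem N20241 : nd 20241 = n30594 := ndS (p := 16917) (l := 6) rfl N16917 D30594
theorem N20242 : nd 20242 = n30595 := ndS (p := 16919) (l := 0) rfl N16919 D30595
theorem N20243 : nd 20243 = n30596 := ndS (p := 16919) (l := 6) rfl N16919 D30596
theorem N20244 : nd 20244 = n30597 := ndS (p := 16920) (l := 1) rfl N16920 D30597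
theorem N20245 : nd 20245 = n30598 := ndS (p := 16921) (l := 0) rfl N16921 D30598
theorem N20246 : nd 20246 = n30599 := ndS (p := 16922) (l := 1) rfl N16922 D30599
theorem N20247 : nd 20247 = n30600 := ndS (p := 16923) (l := 2) rfl N16923 D30600
theorem N20248 : nd 20248 = n30601 := ndS (p := 16925) (l := 1) rfl N16925 D30601
theorem N20249 : nd 20249 = n30602 := ndS (p := 16927) (l := 2) rfl N16927 D30602
theorem N20250 : nd 20250 = n30603 := ndS (p := 16928) (l := 1) rfl N16928 D30603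
theorem N20251 : nd 20251 = n30604 := ndS (p := 16929) (l := 1) rfl N16929 D30604
theorem N20252 : nd 20252 = n30605 := ndS (p := 16929) (l := 3) rfl N16929 D30605
theorem N20253 : nd 20253 = n30606 := ndS (p := 16929) (l := 5) rfl N16929 D30606
theorem N20254 : nd 20254 = n30607 := ndS (p := 16931) (l := 0) rfl N16931 D30607
theorem N20255 : nd 20255 = n30608 := ndS (p := 16931) (l := 5) rfl N16931 D30608
theorem N20256 : nd 20256 = n30609 := ndS (p := 16932) (l := 1) rfl N16932 D30609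
theorem N20257 : nd 20257 = n30610 := ndS (p := 16933) (l := 0) rfl N16933 D30610
theorem N20258 : nd 20258 = n30611 := ndS (p := 16934) (l := 1) rfl N16934 D30611
theorem N20259 : nd 20259 = n30612 := ndS (p := 16935) (l := 2) rfl N16935 D30612
theorem N20260 : nd 20260 = n30613 := ndS (p := 16936) (l := 2) rfl N16936 D30613
theorem N20261 : nd 20261 = n30614 := ndS (p := 16936) (l := 5) rfl N16936 D30614
theorem N20262 : nd 20262 = n30615 := ndS (p := 16937) (l := 5) rfl N16937 D30615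
theorem N20263 : nd 20263 = n30616 := ndS (p := 16938) (l := 5) rfl N16938 D30616
theorem N20264 : nd 20264 = n30617 := ndS (p := 16939) (l := 6) rfl N16939 D30617
theorem N20265 : nd 20265 = n30618 := ndS (p := 16944) (l := 3) rfl N16944 D30618
theorem N20266 : nd 20266 = n30619 := ndS (p := 16945) (l := 1) rfl N16945 D30619
theorem N20267 : nd 20267 = n30620 := ndS (p := 16945) (l := 3) rfl N16945 D30620
theorem N20268 : nd 20268 = n30621 := ndS (p := 16946) (l := 3) rfl N16946 D30621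
theorem N20269 : nd 20269 = n30622 := ndS (p := 16947) (l := 2) rfl N16947 D30622
theorem N20270 : nd 20270 = n30623 := ndS (p := 16947) (l := 6) rfl N16947 D30623
theorem N20271 : nd 20271 = n30624 := ndS (p := 16951) (l := 2) rfl N16951 D30624
theorem N20272 : nd 20272 = n30625 := ndS (p := 16951) (l := 6) rfl N16951 D30625
theorem N20273 : nd 20273 = n30626 := ndS (p := 16952) (l := 6) rfl N16952 D30626
theorem N20274 : nd 20274 = n30627 := ndS (p := 16953) (l := 6) rfl N16953 D30627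
theorem N20275 : nd 20275 = n30628 := ndS (p := 16954) (l := 5) rfl N16954 D30628
theorem N20276 : nd 20276 = n30629 := ndS (p := 16959) (l := 3) rfl N16959 D30629
theorem N20277 : nd 20277 = n30630 := ndS (p := 16960) (l := 1) rfl N16960 D30630
theorem N20278 : nd 20278 = n30631 := ndS (p := 16960) (l := 3) rfl N16960 D30631
theorem N20279 : nd 20279 = n30632 := ndS (p := 16961) (l := 3) rfl N16961 D30632
theorem N20280 : nd 20280 = n30633 := ndS (p := 16962) (l := 2) rfl N16962 D30633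
theorem N20281 : nd 20281 = n30634 := ndS (p := 16962) (l := 5) rfl N16962 D30634
theorem N20282 : nd 20282 = n30635 := ndS (p := 16967) (l := 2) rfl N16967 D30635
theorem N20283 : nd 20283 = n30636 := ndS (p := 16968) (l := 3) rfl N16968 D30636
theorem N20284 : nd 20284 = n30637 := ndS (p := 16968) (l := 5) rfl N16968 D30637
theorem N20285 : nd 20285 = n30638 := ndS (p := 16970) (l := 3) rfl N16970 D30638
theorem N20286 : nd 20286 = n30639 := ndS (p := 16971) (l := 2) rfl N16971 D30639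
theorem N20287 : nd 20287 = n30640 := ndS (p := 16971) (l := 4) rfl N16971 D30640
theorem N20288 : nd 20288 = n30641 := ndS (p := 16971) (l := 5) rfl N16971 D30641
theorem N20289 : nd 20289 = n30642 := ndS (p := 16972) (l := 1) rfl N16972 D30642
theorem N20290 : nd 20290 = n30643 := ndS (p := 16973) (l := 2) rfl N16973 D30643
theorem N20291 : nd 20291 = n30644 := ndS (p := 16974) (l := 3) rfl N16974 D30644
theorem N20292 : nd 20292 = n30645 := ndS (p := 16974) (l := 5) rfl N16974 D30645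
theorem N20293 : nd 20293 = n30646 := ndS (p := 16974) (l := 6) rfl N16974 D30646
theorem N20294 : nd 20294 = n30647 := ndS (p := 16977) (l := 2) rfl N16977 D30647
theorem N20295 : nd 20295 = n30648 := ndS (p := 16980) (l := 1) rfl N16980 D30648
theorem N20296 : nd 20296 = n30649 := ndS (p := 16980) (l := 3) rfl N16980 D30649
theorem N20297 : nd 20297 = n30650 := ndS (p := 16980) (l := 6) rfl N16980 D30650
theorem N20298 : nd 20298 = n30651 := ndS (p := 16982) (l := 4) rfl N16982 D30651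
theorem N20299 : nd 20299 = n30652 := ndS (p := 16982) (l := 6) rfl N16982 D30652
theorem N20300 : nd 20300 = n30653 := ndS (p := 16983) (l := 1) rfl N16983 D30653
theorem N20301 : nd 20301 = n30654 := ndS (p := 16983) (l := 5) rfl N16983 D30654
theorem N20302 : nd 20302 = n30655 := ndS (p := 16992) (l := 2) rfl N16992 D30655
theorem N20303 : nd 20303 = n30656 := ndS (p := 16993) (l := 3) rfl N16993 D30656
theorem N20304 : nd 20304 = n30657 := ndS (p := 16993) (l := 6) rfl N16993 D30657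
theorem N20305 : nd 20305 = n30658 := ndS (p := 16995) (l := 3) rfl N16995 D30658
theorem N20306 : nd 20306 = n30659 := ndS (p := 16996) (l := 2) rfl N16996 D30659
theorem N20307 : nd 20307 = n30660 := ndS (p := 16996) (l := 4) rfl N16996 D30660
theorem N20308 : nd 20308 = n30661 := ndS (p := 16996) (l := 6) rfl N16996 D30661
theorem N20309 : nd 20309 = n30662 := ndS (p := 16997) (l := 1) rfl N16997 D30662
theorem N20310 : nd 20310 = n30663 := ndS (p := 16998) (l := 2) rfl N16998 D30663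
theorem N20311 : nd 20311 = n30664 := ndS (p := 16999) (l := 3) rfl N16999 D30664
theorem N20312 : nd 20312 = n30665 := ndS (p := 16999) (l := 5) rfl N16999 D30665
theorem N20313 : nd 20313 = n30666 := ndS (p := 16999) (l := 6) rfl N16999 D30666
theorem N20314 : nd 20314 = n30667 := ndS (p := 17002) (l := 2) rfl N17002 D30667
theorem N20315 : nd 20315 = n30668 := ndS (p := 17005) (l := 1) rfl N17005 D30668
theorem N20316 : nd 20316 = n30669 := ndS (p := 17005) (l := 3) rfl N17005 D30669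
theorem N20317 : nd 20317 = n30670 := ndS (p := 17005) (l := 5) rfl N17005 D30670
theorem N20318 : nd 20318 = n30671 := ndS (p := 17007) (l := 4) rfl N17007 D30671
theorem N20319 : nd 20319 = n30672 := ndS (p := 17007) (l := 5) rfl N17007 D30672
theorem N20320 : nd 20320 = n30673 := ndS (p := 17008) (l := 1) rfl N17008 D30673
theorem N20321 : nd 20321 = n30674 := ndS (p := 17008) (l := 6) rfl N17008 D30674
theorem N20322 : nd 20322 = n30675 := ndS (p := 17024) (l := 5) rfl N17024 D30675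
theorem N20323 : nd 20323 = n30676 := ndS (p := 17025) (l := 1) rfl N17025 D30676
theorem N20324 : nd 20324 = n30677 := ndS (p := 17026) (l := 3) rfl N17026 D30677
theorem N20325 : nd 20325 = n30678 := ndS (p := 17029) (l := 2) rfl N17029 D30678
theorem N20326 : nd 20326 = n30679 := ndS (p := 17030) (l := 3) rfl N17030 D30679
theorem N20327 : nd 20327 = n30680 := ndS (p := 17031) (l := 1) rfl N17031 D30680
theorem N20328 : nd 20328 = n30681 := ndS (p := 17031) (l := 5) rfl N17031 D30681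
theorem N20329 : nd 20329 = n30682 := ndS (p := 17032) (l := 1) rfl N17032 D30682
theorem N20330 : nd 20330 = n30683 := ndS (p := 17033) (l := 0) rfl N17033 D30683
theorem N20331 : nd 20331 = n30684 := ndS (p := 17033) (l := 2) rfl N17033 D30684
theorem N20332 : nd 20332 = n30685 := ndS (p := 17033) (l := 5) rfl N17033 D30685
theorem N20333 : nd 20333 = n30686 := ndS (p := 17034) (l := 1) rfl N17034 D30686
theorem N20334 : nd 20334 = n30687 := ndS (p := 17037) (l := 3) rfl N17037 D30687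
theorem N20335 : nd 20335 = n30688 := ndS (p := 17041) (l := 1) rfl N17041 D30688
theorem N20336 : nd 20336 = n30689 := ndS (p := 17041) (l := 2) rfl N17041 D30689
theorem N20337 : nd 20337 = n30690 := ndS (p := 17046) (l := 2) rfl N17046 D30690
theorem N20338 : nd 20338 = n30691 := ndS (p := 17046) (l := 5) rfl N17046 D30691
theorem N20339 : nd 20339 = n30692 := ndS (p := 17049) (l := 2) rfl N17049 D30692
theorem N20340 : nd 20340 = n30693 := ndS (p := 17049) (l := 5) rfl N17049 D30693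
theorem N20341 : nd 20341 = n30694 := ndS (p := 17051) (l := 3) rfl N17051 D30694
theorem N20342 : nd 20342 = n30695 := ndS (p := 17051) (l := 4) rfl N17051 D30695
theorem N20343 : nd 20343 = n30696 := ndS (p := 17051) (l := 5) rfl N17051 D30696
theorem N20344 : nd 20344 = n30697 := ndS (p := 17053) (l := 1) rfl N17053 D30697
theorem N20345 : nd 20345 = n30698 := ndS (p := 17055) (l := 2) rfl N17055 D30698
theorem N20346 : nd 20346 = n30699 := ndS (p := 17056) (l := 5) rfl N17056 D30699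
theorem N20347 : nd 20347 = n30700 := ndS (p := 17057) (l := 1) rfl N17057 D30700
theorem N20348 : nd 20348 = n30701 := ndS (p := 17058) (l := 0) rfl N17058 D30701
theorem N20349 : nd 20349 = n30702 := ndS (p := 17058) (l := 2) rfl N17058 D30702
theorem N20350 : nd 20350 = n30703 := ndS (p := 17059) (l := 0) rfl N17059 D30703
theorem N20351 : nd 20351 = n30704 := ndS (p := 17060) (l := 1) rfl N17060 D30704
theorem N20352 : nd 20352 = n30705 := ndS (p := 17062) (l := 1) rfl N17062 D30705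
theorem N20353 : nd 20353 = n30706 := ndS (p := 17063) (l := 0) rfl N17063 D30706
theorem N20354 : nd 20354 = n30707 := ndS (p := 17063) (l := 2) rfl N17063 D30707
theorem N20355 : nd 20355 = n30708 := ndS (p := 17063) (l := 6) rfl N17063 D30708
theorem N20356 : nd 20356 = n30709 := ndS (p := 17064) (l := 6) rfl N17064 D30709
theorem N20357 : nd 20357 = n30710 := ndS (p := 17065) (l := 6) rfl N17065 D30710
theorem N20358 : nd 20358 = n30711 := ndS (p := 17066) (l := 5) rfl N17066 D30711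
theorem N20359 : nd 20359 = n30712 := ndS (p := 17069) (l := 4) rfl N17069 D30712
theorem N20360 : nd 20360 = n30713 := ndS (p := 17070) (l := 4) rfl N17070 D30713
theorem N20361 : nd 20361 = n30714 := ndS (p := 17071) (l := 5) rfl N17071 D30714
theorem N20362 : nd 20362 = n30715 := ndS (p := 17072) (l := 1) rfl N17072 D30715
theorem N20363 : nd 20363 = n30716 := ndS (p := 17074) (l := 2) rfl N17074 D30716
theorem N20364 : nd 20364 = n30717 := ndS (p := 17075) (l := 3) rfl N17075 D30717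
theorem N20365 : nd 20365 = n30718 := ndS (p := 17075) (l := 6) rfl N17075 D30718
theorem N20366 : nd 20366 = n30719 := ndS (p := 17077) (l := 2) rfl N17077 D30719
theorem N20367 : nd 20367 = n30720 := ndS (p := 17078) (l := 3) rfl N17078 D30720
theorem N20368 : nd 20368 = n30721 := ndS (p := 17078) (l := 6) rfl N17078 D30721
theorem N20369 : nd 20369 = n30722 := ndS (p := 17080) (l := 6) rfl N17080 D30722
theorem N20370 : nd 20370 = n30723 := ndS (p := 17081) (l := 5) rfl N17081 D30723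
theorem N20371 : nd 20371 = n30724 := ndS (p := 17083) (l := 3) rfl N17083 D30724
theorem N20372 : nd 20372 = n30725 := ndS (p := 17084) (l := 3) rfl N17084 D30725
theorem N20373 : nd 20373 = n30726 := ndS (p := 17085) (l := 2) rfl N17085 D30726
theorem N20374 : nd 20374 = n30727 := ndS (p := 17085) (l := 4) rfl N17085 D30727
theorem N20375 : nd 20375 = n30728 := ndS (p := 17085) (l := 5) rfl N17085 D30728
theorem N20376 : nd 20376 = n30729 := ndS (p := 17085) (l := 6) rfl N17085 D30729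
theorem N20377 : nd 20377 = n30730 := ndS (p := 17086) (l := 1) rfl N17086 D30730
theorem N20378 : nd 20378 = n30731 := ndS (p := 17088) (l := 3) rfl N17088 D30731
theorem N20379 : nd 20379 = n30732 := ndS (p := 17089) (l := 2) rfl N17089 D30732
theorem N20380 : nd 20380 = n30733 := ndS (p := 17089) (l := 6) rfl N17089 D30733
theorem N20381 : nd 20381 = n30734 := ndS (p := 17091) (l := 0) rfl N17091 D30734
theorem N20382 : nd 20382 = n30735 := ndS (p := 17091) (l := 2) rfl N17091 D30735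
theorem N20383 : nd 20383 = n30736 := ndS (p := 17093) (l := 3) rfl N17093 D30736
theorem N20384 : nd 20384 = n30737 := ndS (p := 17096) (l := 0) rfl N17096 D30737
theorem N20385 : nd 20385 = n30738 := ndS (p := 17096) (l := 3) rfl N17096 D30738
theorem N20386 : nd 20386 = n30739 := ndS (p := 17096) (l := 6) rfl N17096 D30739
theorem N20387 : nd 20387 = n30740 := ndS (p := 17102) (l := 3) rfl N17102 D30740
theorem N20388 : nd 20388 = n30741 := ndS (p := 17103) (l := 4) rfl N17103 D30741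
theorem N20389 : nd 20389 = n30742 := ndS (p := 17104) (l := 4) rfl N17104 D30742
theorem N20390 : nd 20390 = n30743 := ndS (p := 17104) (l := 6) rfl N17104 D30743
theorem N20391 : nd 20391 = n30744 := ndS (p := 17105) (l := 6) rfl N17105 D30744
theorem N20392 : nd 20392 = n30745 := ndS (p := 17114) (l := 6) rfl N17114 D30745
theorem N20393 : nd 20393 = n30746 := ndS (p := 17115) (l := 1) rfl N17115 D30746
theorem N20394 : nd 20394 = n30747 := ndS (p := 17117) (l := 3) rfl N17117 D30747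
theorem N20395 : nd 20395 = n30748 := ndS (p := 17120) (l := 2) rfl N17120 D30748
theorem N20396 : nd 20396 = n30749 := ndS (p := 17121) (l := 1) rfl N17121 D30749
theorem N20397 : nd 20397 = n30750 := ndS (p := 17121) (l := 6) rfl N17121 D30750
theorem N20398 : nd 20398 = n30751 := ndS (p := 17123) (l := 1) rfl N17123 D30751
theorem N20399 : nd 20399 = n30752 := ndS (p := 17126) (l := 3) rfl N17126 D30752
theorem N20400 : nd 20400 = n30753 := ndS (p := 17131) (l := 1) rfl N17131 D30753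
theorem N20401 : nd 20401 = n30754 := ndS (p := 17136) (l := 6) rfl N17136 D30754
theorem N20402 : nd 20402 = n30755 := ndS (p := 17139) (l := 2) rfl N17139 D30755
theorem N20403 : nd 20403 = n30756 := ndS (p := 17140) (l := 3) rfl N17140 D30756
theorem N20404 : nd 20404 = n30757 := ndS (p := 17140) (l := 4) rfl N17140 D30757
theorem N20405 : nd 20405 = n30758 := ndS (p := 17140) (l := 6) rfl N17140 D30758
theorem N20406 : nd 20406 = n30759 := ndS (p := 17142) (l := 1) rfl N17142 D30759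
theorem N20407 : nd 20407 = n30760 := ndS (p := 17145) (l := 6) rfl N17145 D30760
theorem N20408 : nd 20408 = n30761 := ndS (p := 17146) (l := 1) rfl N17146 D30761
theorem N20409 : nd 20409 = n30762 := ndS (p := 17148) (l := 0) rfl N17148 D30762
theorem N20410 : nd 20410 = n30763 := ndS (p := 17151) (l := 1) rfl N17151 D30763
theorem N20411 : nd 20411 = n30764 := ndS (p := 17152) (l := 5) rfl N17152 D30764
theorem N20412 : nd 20412 = n30765 := ndS (p := 17153) (l := 6) rfl N17153 D30765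
theorem N20413 : nd 20413 = n30766 := ndS (p := 17160) (l := 2) rfl N17160 D30766
theorem N20414 : nd 20414 = n30767 := ndS (p := 17161) (l := 3) rfl N17161 D30767
theorem N20415 : nd 20415 = n30768 := ndS (p := 17161) (l := 5) rfl N17161 D30768
theorem N20416 : nd 20416 = n30769 := ndS (p := 17163) (l := 2) rfl N17163 D30769
theorem N20417 : nd 20417 = n30770 := ndS (p := 17164) (l := 3) rfl N17164 D30770
theorem N20418 : nd 20418 = n30771 := ndS (p := 17168) (l := 3) rfl N17168 D30771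
theorem N20419 : nd 20419 = n30772 := ndS (p := 17169) (l := 3) rfl N17169 D30772
theorem N20420 : nd 20420 = n30773 := ndS (p := 17170) (l := 2) rfl N17170 D30773
theorem N20421 : nd 20421 = n30774 := ndS (p := 17170) (l := 4) rfl N17170 D30774
theorem N20422 : nd 20422 = n30775 := ndS (p := 17170) (l := 5) rfl N17170 D30775
theorem N20423 : nd 20423 = n30776 := ndS (p := 17170) (l := 6) rfl N17170 D30776
theorem N20424 : nd 20424 = n30777 := ndS (p := 17172) (l := 1) rfl N17172 D30777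
theorem N20425 : nd 20425 = n30778 := ndS (p := 17176) (l := 3) rfl N17176 D30778
theorem N20426 : nd 20426 = n30779 := ndS (p := 17182) (l := 3) rfl N17182 D30779
theorem N20427 : nd 20427 = n30780 := ndS (p := 17184) (l := 5) rfl N17184 D30780
theorem N20428 : nd 20428 = n30781 := ndS (p := 17187) (l := 2) rfl N17187 D30781
theorem N20429 : nd 20429 = n30782 := ndS (p := 17188) (l := 0) rfl N17188 D30782
theorem N20430 : nd 20430 = n30783 := ndS (p := 17188) (l := 5) rfl N17188 D30783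
theorem N20431 : nd 20431 = n30784 := ndS (p := 17189) (l := 0) rfl N17189 D30784
theorem N20432 : nd 20432 = n30785 := ndS (p := 17189) (l := 2) rfl N17189 D30785
theorem N20433 : nd 20433 = n30786 := ndS (p := 17189) (l := 5) rfl N17189 D30786
theorem N20434 : nd 20434 = n30787 := ndS (p := 17190) (l := 2) rfl N17190 D30787
theorem N20435 : nd 20435 = n30788 := ndS (p := 17195) (l := 1) rfl N17195 D30788
theorem N20436 : nd 20436 = n30789 := ndS (p := 17196) (l := 2) rfl N17196 D30789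
theorem N20437 : nd 20437 = n30790 := ndS (p := 17196) (l := 6) rfl N17196 D30790
theorem N20438 : nd 20438 = n30791 := ndS (p := 17201) (l := 0) rfl N17201 D30791
theorem N20439 : nd 20439 = n30792 := ndS (p := 17201) (l := 2) rfl N17201 D30792
theorem N20440 : nd 20440 = n30793 := ndS (p := 17201) (l := 6) rfl N17201 D30793
theorem N20441 : nd 20441 = n30794 := ndS (p := 17203) (l := 2) rfl N17203 D30794
theorem N20442 : nd 20442 = n30795 := ndS (p := 17205) (l := 2) rfl N17205 D30795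
theorem N20443 : nd 20443 = n30796 := ndS (p := 17206) (l := 3) rfl N17206 D30796
theorem N20444 : nd 20444 = n30797 := ndS (p := 17206) (l := 6) rfl N17206 D30797
theorem N20445 : nd 20445 = n30798 := ndS (p := 17208) (l := 5) rfl N17208 D30798
theorem N20446 : nd 20446 = n30799 := ndS (p := 17209) (l := 6) rfl N17209 D30799
theorem N20447 : nd 20447 = n30800 := ndS (p := 17210) (l := 1) rfl N17210 D30800
theorem N20448 : nd 20448 = n30801 := ndS (p := 17211) (l := 6) rfl N17211 D30801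
theorem N20449 : nd 20449 = n30802 := ndS (p := 17212) (l := 5) rfl N17212 D30802
theorem N20450 : nd 20450 = n30803 := ndS (p := 17214) (l := 5) rfl N17214 D30803
theorem N20451 : nd 20451 = n30804 := ndS (p := 17215) (l := 1) rfl N17215 D30804
theorem N20452 : nd 20452 = n30805 := ndS (p := 17218) (l := 3) rfl N17218 D30805
theorem N20453 : nd 20453 = n30806 := ndS (p := 17220) (l := 5) rfl N17220 D30806
theorem N20454 : nd 20454 = n30807 := ndS (p := 17223) (l := 6) rfl N17223 D30807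
theorem N20455 : nd 20455 = n30808 := ndS (p := 17226) (l := 1) rfl N17226 D30808
theorem N20456 : nd 20456 = n30809 := ndS (p := 17233) (l := 5) rfl N17233 D30809
theorem N20457 : nd 20457 = n30810 := ndS (p := 17235) (l := 5) rfl N17235 D30810
theorem N20458 : nd 20458 = n30811 := ndS (p := 17235) (l := 6) rfl N17235 D30811
theorem N20459 : nd 20459 = n30812 := ndS (p := 17236) (l := 6) rfl N17236 D30812
theorem N20460 : nd 20460 = n30813 := ndS (p := 17237) (l := 5) rfl N17237 D30813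
theorem N20461 : nd 20461 = n30814 := ndS (p := 17238) (l := 2) rfl N17238 D30814
theorem N20462 : nd 20462 = n30815 := ndS (p := 17238) (l := 5) rfl N17238 D30815
theorem N20463 : nd 20463 = n30816 := ndS (p := 17238) (l := 6) rfl N17238 D30816
theorem N20464 : nd 20464 = n30817 := ndS (p := 17241) (l := 4) rfl N17241 D30817
theorem N20465 : nd 20465 = n30818 := ndS (p := 17241) (l := 5) rfl N17241 D30818
theorem N20466 : nd 20466 = n30819 := ndS (p := 17241) (l := 6) rfl N17241 D30819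
theorem N20467 : nd 20467 = n30820 := ndS (p := 17243) (l := 1) rfl N17243 D30820
theorem N20468 : nd 20468 = n30821 := ndS (p := 17244) (l := 1) rfl N17244 D30821
theorem N20469 : nd 20469 = n30822 := ndS (p := 17247) (l := 4) rfl N17247 D30822
theorem N20470 : nd 20470 = n30823 := ndS (p := 17247) (l := 5) rfl N17247 D30823
theorem N20471 : nd 20471 = n30824 := ndS (p := 17247) (l := 6) rfl N17247 D30824
theorem N20472 : nd 20472 = n30825 := ndS (p := 17248) (l := 3) rfl N17248 D30825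
theorem N20473 : nd 20473 = n30826 := ndS (p := 17249) (l := 1) rfl N17249 D30826
theorem N20474 : nd 20474 = n30827 := ndS (p := 17249) (l := 6) rfl N17249 D30827
theorem N20475 : nd 20475 = n30828 := ndS (p := 17250) (l := 1) rfl N17250 D30828
theorem N20476 : nd 20476 = n30829 := ndS (p := 17250) (l := 5) rfl N17250 D30829
theorem N20477 : nd 20477 = n30830 := ndS (p := 17253) (l := 0) rfl N17253 D30830
theorem N20478 : nd 20478 = n30831 := ndS (p := 17253) (l := 2) rfl N17253 D30831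
theorem N20479 : nd 20479 = n30832 := ndS (p := 17253) (l := 5) rfl N17253 D30832
theorem N20480 : nd 20480 = n30833 := ndS (p := 17254) (l := 4) rfl N17254 D30833
theorem N20481 : nd 20481 = n30834 := ndS (p := 17254) (l := 5) rfl N17254 D30834
theorem N20482 : nd 20482 = n30835 := ndS (p := 17254) (l := 6) rfl N17254 D30835
theorem N20483 : nd 20483 = n30836 := ndS (p := 17255) (l := 5) rfl N17255 D30836
theorem N20484 : nd 20484 = n30837 := ndS (p := 17256) (l := 1) rfl N17256 D30837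
theorem N20485 : nd 20485 = n30838 := ndS (p := 17257) (l := 1) rfl N17257 D30838
theorem N20486 : nd 20486 = n30839 := ndS (p := 17263) (l := 2) rfl N17263 D30839
theorem N20487 : nd 20487 = n30840 := ndS (p := 17264) (l := 0) rfl N17264 D30840
theorem N20488 : nd 20488 = n30841 := ndS (p := 17264) (l := 6) rfl N17264 D30841
theorem N20489 : nd 20489 = n30842 := ndS (p := 17265) (l := 2) rfl N17265 D30842
theorem N20490 : nd 20490 = n30843 := ndS (p := 17266) (l := 0) rfl N17266 D30843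
theorem N20491 : nd 20491 = n30844 := ndS (p := 17266) (l := 2) rfl N17266 D30844
theorem N20492 : nd 20492 = n30845 := ndS (p := 17266) (l := 6) rfl N17266 D30845
theorem N20493 : nd 20493 = n30846 := ndS (p := 17271) (l := 1) rfl N17271 D30846
theorem N20494 : nd 20494 = n30847 := ndS (p := 17272) (l := 2) rfl N17272 D30847
theorem N20495 : nd 20495 = n30848 := ndS (p := 17272) (l := 5) rfl N17272 D30848
theorem N20496 : nd 20496 = n30849 := ndS (p := 17277) (l := 0) rfl N17277 D30849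
theorem N20497 : nd 20497 = n30850 := ndS (p := 17277) (l := 2) rfl N17277 D30850
theorem N20498 : nd 20498 = n30851 := ndS (p := 17277) (l := 5) rfl N17277 D30851
theorem N20499 : nd 20499 = n30852 := ndS (p := 17279) (l := 2) rfl N17279 D30852
theorem N20500 : nd 20500 = n30853 := ndS (p := 17281) (l := 2) rfl N17281 D30853
theorem N20501 : nd 20501 = n30854 := ndS (p := 17282) (l := 3) rfl N17282 D30854
theorem N20502 : nd 20502 = n30855 := ndS (p := 17282) (l := 5) rfl N17282 D30855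
theorem N20503 : nd 20503 = n30856 := ndS (p := 17284) (l := 6) rfl N17284 D30856
theorem N20504 : nd 20504 = n30857 := ndS (p := 17285) (l := 5) rfl N17285 D30857
theorem N20505 : nd 20505 = n30858 := ndS (p := 17286) (l := 1) rfl N17286 D30858
theorem N20506 : nd 20506 = n30859 := ndS (p := 17287) (l := 5) rfl N17287 D30859
theorem N20507 : nd 20507 = n30860 := ndS (p := 17288) (l := 6) rfl N17288 D30860
theorem N20508 : nd 20508 = n30861 := ndS (p := 17290) (l := 6) rfl N17290 D30861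
theorem N20509 : nd 20509 = n30862 := ndS (p := 17291) (l := 1) rfl N17291 D30862
theorem N20510 : nd 20510 = n30863 := ndS (p := 17294) (l := 3) rfl N17294 D30863
theorem N20511 : nd 20511 = n30864 := ndS (p := 17296) (l := 6) rfl N17296 D30864
theorem N20512 : nd 20512 = n30865 := ndS (p := 17299) (l := 5) rfl N17299 D30865
theorem N20513 : nd 20513 = n30866 := ndS (p := 17302) (l := 1) rfl N17302 D30866
theorem N20514 : nd 20514 = n30867 := ndS (p := 17309) (l := 6) rfl N17309 D30867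
theorem N20515 : nd 20515 = n30868 := ndS (p := 17311) (l := 5) rfl N17311 D30868
theorem N20516 : nd 20516 = n30869 := ndS (p := 17311) (l := 6) rfl N17311 D30869
theorem N20517 : nd 20517 = n30870 := ndS (p := 17312) (l := 6) rfl N17312 D30870
theorem N20518 : nd 20518 = n30871 := ndS (p := 17313) (l := 5) rfl N17313 D30871
theorem N20519 : nd 20519 = n30872 := ndS (p := 17314) (l := 2) rfl N17314 D30872
theorem N20520 : nd 20520 = n30873 := ndS (p := 17314) (l := 5) rfl N17314 D30873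
theorem N20521 : nd 20521 = n30874 := ndS (p := 17314) (l := 6) rfl N17314 D30874
theorem N20522 : nd 20522 = n30875 := ndS (p := 17317) (l := 4) rfl N17317 D30875
theorem N20523 : nd 20523 = n30876 := ndS (p := 17317) (l := 5) rfl N17317 D30876
theorem N20524 : nd 20524 = n30877 := ndS (p := 17317) (l := 6) rfl N17317 D30877
theorem N20525 : nd 20525 = n30878 := ndS (p := 17319) (l := 1) rfl N17319 D30878
theorem N20526 : nd 20526 = n30879 := ndS (p := 17320) (l := 1) rfl N17320 D30879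
theorem N20527 : nd 20527 = n30880 := ndS (p := 17323) (l := 4) rfl N17323 D30880
theorem N20528 : nd 20528 = n30881 := ndS (p := 17323) (l := 5) rfl N17323 D30881
theorem N20529 : nd 20529 = n30882 := ndS (p := 17323) (l := 6) rfl N17323 D30882
theorem N20530 : nd 20530 = n30883 := ndS (p := 17324) (l := 3) rfl N17324 D30883
theorem N20531 : nd 20531 = n30884 := ndS (p := 17325) (l := 1) rfl N17325 D30884
theorem N20532 : nd 20532 = n30885 := ndS (p := 17325) (l := 6) rfl N17325 D30885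
theorem N20533 : nd 20533 = n30886 := ndS (p := 17326) (l := 1) rfl N17326 D30886
theorem N20534 : nd 20534 = n30887 := ndS (p := 17326) (l := 5) rfl N17326 D30887
theorem N20535 : nd 20535 = n30888 := ndS (p := 17329) (l := 0) rfl N17329 D30888
theorem N20536 : nd 20536 = n30889 := ndS (p := 17329) (l := 2) rfl N17329 D30889
theorem N20537 : nd 20537 = n30890 := ndS (p := 17329) (l := 6) rfl N17329 D30890
theorem N20538 : nd 20538 = n30891 := ndS (p := 17330) (l := 4) rfl N17330 D30891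
theorem N20539 : nd 20539 = n30892 := ndS (p := 17330) (l := 5) rfl N17330 D30892
theorem N20540 : nd 20540 = n30893 := ndS (p := 17330) (l := 6) rfl N17330 D30893
theorem N20541 : nd 20541 = n30894 := ndS (p := 17331) (l := 6) rfl N17331 D30894
theorem N20542 : nd 20542 = n30895 := ndS (p := 17332) (l := 1) rfl N17332 D30895
theorem N20543 : nd 20543 = n30896 := ndS (p := 17333) (l := 1) rfl N17333 D30896
theorem N20544 : nd 20544 = n30897 := ndS (p := 17339) (l := 3) rfl N17339 D30897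
theorem N20545 : nd 20545 = n30898 := ndS (p := 17342) (l := 6) rfl N17342 D30898
theorem N20546 : nd 20546 = n30899 := ndS (p := 17344) (l := 0) rfl N17344 D30899
theorem N20547 : nd 20547 = n30900 := ndS (p := 17344) (l := 5) rfl N17344 D30900
theorem N20548 : nd 20548 = n30901 := ndS (p := 17344) (l := 6) rfl N17344 D30901
theorem N20549 : nd 20549 = n30902 := ndS (p := 17345) (l := 1) rfl N17345 D30902
theorem N20550 : nd 20550 = n30903 := ndS (p := 17346) (l := 1) rfl N17346 D30903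
theorem N20551 : nd 20551 = n30904 := ndS (p := 17347) (l := 5) rfl N17347 D30904
theorem N20552 : nd 20552 = n30905 := ndS (p := 17347) (l := 6) rfl N17347 D30905
theorem N20553 : nd 20553 = n30906 := ndS (p := 17350) (l := 1) rfl N17350 D30906
theorem N20554 : nd 20554 = n30907 := ndS (p := 17351) (l := 5) rfl N17351 D30907
theorem N20555 : nd 20555 = n30908 := ndS (p := 17351) (l := 6) rfl N17351 D30908
theorem N20556 : nd 20556 = n30909 := ndS (p := 17352) (l := 1) rfl N17352 D30909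
theorem N20557 : nd 20557 = n30910 := ndS (p := 17353) (l := 1) rfl N17353 D30910
theorem N20558 : nd 20558 = n30911 := ndS (p := 17356) (l := 4) rfl N17356 D30911
theorem N20559 : nd 20559 = n30912 := ndS (p := 17356) (l := 5) rfl N17356 D30912
theorem N20560 : nd 20560 = n30913 := ndS (p := 17357) (l := 5) rfl N17357 D30913
theorem N20561 : nd 20561 = n30914 := ndS (p := 17358) (l := 1) rfl N17358 D30914
theorem N20562 : nd 20562 = n30915 := ndS (p := 17359) (l := 0) rfl N17359 D30915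
theorem N20563 : nd 20563 = n30916 := ndS (p := 17359) (l := 2) rfl N17359 D30916
theorem N20564 : nd 20564 = n30917 := ndS (p := 17360) (l := 5) rfl N17360 D30917
theorem N20565 : nd 20565 = n30918 := ndS (p := 17361) (l := 3) rfl N17361 D30918
theorem N20566 : nd 20566 = n30919 := ndS (p := 17361) (l := 5) rfl N17361 D30919
theorem N20567 : nd 20567 = n30920 := ndS (p := 17361) (l := 6) rfl N17361 D30920
theorem N20568 : nd 20568 = n30921 := ndS (p := 17362) (l := 1) rfl N17362 D30921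
theorem N20569 : nd 20569 = n30922 := ndS (p := 17363) (l := 1) rfl N17363 D30922
theorem N20570 : nd 20570 = n30923 := ndS (p := 17367) (l := 3) rfl N17367 D30923
theorem N20571 : nd 20571 = n30924 := ndS (p := 17371) (l := 5) rfl N17371 D30924
theorem N20572 : nd 20572 = n30925 := ndS (p := 17372) (l := 0) rfl N17372 D30925
theorem N20573 : nd 20573 = n30926 := ndS (p := 17372) (l := 5) rfl N17372 D30926
theorem N20574 : nd 20574 = n30927 := ndS (p := 17373) (l := 1) rfl N17373 D30927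
theorem N20575 : nd 20575 = n30928 := ndS (p := 17374) (l := 1) rfl N17374 D30928
theorem N20576 : nd 20576 = n30929 := ndS (p := 17375) (l := 5) rfl N17375 D30929
theorem N20577 : nd 20577 = n30930 := ndS (p := 17375) (l := 6) rfl N17375 D30930
theorem N20578 : nd 20578 = n30931 := ndS (p := 17378) (l := 1) rfl N17378 D30931
theorem N20579 : nd 20579 = n30932 := ndS (p := 17379) (l := 5) rfl N17379 D30932
theorem N20580 : nd 20580 = n30933 := ndS (p := 17379) (l := 6) rfl N17379 D30933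
theorem N20581 : nd 20581 = n30934 := ndS (p := 17380) (l := 1) rfl N17380 D30934
theorem N20582 : nd 20582 = n30935 := ndS (p := 17381) (l := 1) rfl N17381 D30935
theorem N20583 : nd 20583 = n30936 := ndS (p := 17384) (l := 4) rfl N17384 D30936
theorem N20584 : nd 20584 = n30937 := ndS (p := 17387) (l := 3) rfl N17387 D30937
theorem N20585 : nd 20585 = n30938 := ndS (p := 17387) (l := 5) rfl N17387 D30938
theorem N20586 : nd 20586 = n30939 := ndS (p := 17388) (l := 1) rfl N17388 D30939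
theorem N20587 : nd 20587 = n30940 := ndS (p := 17438) (l := 2) rfl N17438 D30940
theorem N20588 : nd 20588 = n30941 := ndS (p := 17449) (l := 5) rfl N17449 D30941
theorem N20589 : nd 20589 = n30942 := ndS (p := 17453) (l := 1) rfl N17453 D30942
theorem N20590 : nd 20590 = n30943 := ndS (p := 17454) (l := 5) rfl N17454 D30943
theorem N20591 : nd 20591 = n30944 := ndS (p := 17463) (l := 2) rfl N17463 D30944
theorem N20592 : nd 20592 = n30945 := ndS (p := 17474) (l := 6) rfl N17474 D30945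
theorem N20593 : nd 20593 = n30946 := ndS (p := 17478) (l := 1) rfl N17478 D30946
theorem N20594 : nd 20594 = n30947 := ndS (p := 17479) (l := 6) rfl N17479 D30947
theorem N20595 : nd 20595 = n30948 := ndS (p := 17480) (l := 4) rfl N17480 D30948
theorem N20596 : nd 20596 = n30949 := ndS (p := 17484) (l := 4) rfl N17484 D30949
theorem N20597 : nd 20597 = n30950 := ndS (p := 17489) (l := 4) rfl N17489 D30950
theorem N20598 : nd 20598 = n30951 := ndS (p := 17493) (l := 4) rfl N17493 D30951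
theorem N20599 : nd 20599 = n30952 := ndS (p := 17508) (l := 5) rfl N17508 D30952
theorem N20600 : nd 20600 = n30953 := ndS (p := 17510) (l := 5) rfl N17510 D30953
theorem N20601 : nd 20601 = n30954 := ndS (p := 17512) (l := 6) rfl N17512 D30954
theorem N20602 : nd 20602 = n30955 := ndS (p := 17514) (l := 6) rfl N17514 D30955
theorem N20603 : nd 20603 = n30956 := ndS (p := 17522) (l := 6) rfl N17522 D30956
theorem N20604 : nd 20604 = n30957 := ndS (p := 17524) (l := 5) rfl N17524 D30957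
theorem N20605 : nd 20605 = n30958 := ndS (p := 17527) (l := 1) rfl N17527 D30958
theorem N20606 : nd 20606 = n30959 := ndS (p := 17531) (l := 1) rfl N17531 D30959
theorem N20607 : nd 20607 = n30960 := ndS (p := 17534) (l := 1) rfl N17534 D30960
theorem N20608 : nd 20608 = n30961 := ndS (p := 17535) (l := 1) rfl N17535 D30961
theorem N20609 : nd 20609 = n30962 := ndS (p := 17536) (l := 6) rfl N17536 D30962
theorem N20610 : nd 20610 = n30963 := ndS (p := 17538) (l := 1) rfl N17538 D30963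
theorem N20611 : nd 20611 = n30964 := ndS (p := 17539) (l := 1) rfl N17539 D30964
theorem N20612 : nd 20612 = n30965 := ndS (p := 17540) (l := 5) rfl N17540 D30965
theorem N20613 : nd 20613 = n30966 := ndS (p := 17544) (l := 3) rfl N17544 D30966
theorem N20614 : nd 20614 = n30967 := ndS (p := 17545) (l := 2) rfl N17545 D30967
theorem N20615 : nd 20615 = n30968 := ndS (p := 17545) (l := 5) rfl N17545 D30968
theorem N20616 : nd 20616 = n30969 := ndS (p := 17549) (l := 3) rfl N17549 D30969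
theorem N20617 : nd 20617 = n30970 := ndS (p := 17550) (l := 2) rfl N17550 D30970
theorem N20618 : nd 20618 = n30971 := ndS (p := 17550) (l := 6) rfl N17550 D30971
theorem N20619 : nd 20619 = n30972 := ndS (p := 17560) (l := 6) rfl N17560 D30972
theorem N20620 : nd 20620 = n30973 := ndS (p := 17561) (l := 5) rfl N17561 D30973
theorem N20621 : nd 20621 = n30974 := ndS (p := 17562) (l := 1) rfl N17562 D30974
theorem N20622 : nd 20622 = n30975 := ndS (p := 17562) (l := 6) rfl N17562 D30975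
theorem N20623 : nd 20623 = n30976 := ndS (p := 17564) (l := 4) rfl N17564 D30976
theorem N20624 : nd 20624 = n30977 := ndS (p := 17566) (l := 6) rfl N17566 D30977
theorem N20625 : nd 20625 = n30978 := ndS (p := 17567) (l := 1) rfl N17567 D30978
theorem N20626 : nd 20626 = n30979 := ndS (p := 17568) (l := 6) rfl N17568 D30979
theorem N20627 : nd 20627 = n30980 := ndS (p := 17569) (l := 1) rfl N17569 D30980
theorem N20628 : nd 20628 = n30981 := ndS (p := 17570) (l := 0) rfl N17570 D30981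
theorem N20629 : nd 20629 = n30982 := ndS (p := 17570) (l := 2) rfl N17570 D30982
theorem N20630 : nd 20630 = n30983 := ndS (p := 17570) (l := 5) rfl N17570 D30983
theorem N20631 : nd 20631 = n30984 := ndS (p := 17571) (l := 2) rfl N17571 D30984
theorem N20632 : nd 20632 = n30985 := ndS (p := 17571) (l := 5) rfl N17571 D30985
theorem N20633 : nd 20633 = n30986 := ndS (p := 17572) (l := 2) rfl N17572 D30986
theorem N20634 : nd 20634 = n30987 := ndS (p := 17573) (l := 5) rfl N17573 D30987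
theorem N20635 : nd 20635 = n30988 := ndS (p := 17579) (l := 3) rfl N17579 D30988
theorem N20636 : nd 20636 = n30989 := ndS (p := 17580) (l := 3) rfl N17580 D30989
theorem N20637 : nd 20637 = n30990 := ndS (p := 17580) (l := 5) rfl N17580 D30990
theorem N20638 : nd 20638 = n30991 := ndS (p := 17581) (l := 2) rfl N17581 D30991
theorem N20639 : nd 20639 = n30992 := ndS (p := 17581) (l := 4) rfl N17581 D30992
theorem N20640 : nd 20640 = n30993 := ndS (p := 17581) (l := 6) rfl N17581 D30993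
theorem N20641 : nd 20641 = n30994 := ndS (p := 17583) (l := 1) rfl N17583 D30994
theorem N20642 : nd 20642 = n30995 := ndS (p := 17585) (l := 1) rfl N17585 D30995
theorem N20643 : nd 20643 = n30996 := ndS (p := 17585) (l := 6) rfl N17585 D30996
theorem N20644 : nd 20644 = n30997 := ndS (p := 17587) (l := 0) rfl N17587 D30997
theorem N20645 : nd 20645 = n30998 := ndS (p := 17587) (l := 6) rfl N17587 D30998
theorem N20646 : nd 20646 = n30999 := ndS (p := 17588) (l := 1) rfl N17588 D30999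
theorem N20647 : nd 20647 = n31000 := ndS (p := 17589) (l := 0) rfl N17589 D31000
theorem N20648 : nd 20648 = n31001 := ndS (p := 17590) (l := 1) rfl N17590 D31001
theorem N20649 : nd 20649 = n31002 := ndS (p := 17590) (l := 5) rfl N17590 D31002
theorem N20650 : nd 20650 = n31003 := ndS (p := 17592) (l := 4) rfl N17592 D31003
theorem N20651 : nd 20651 = n31004 := ndS (p := 17594) (l := 5) rfl N17594 D31004
theorem N20652 : nd 20652 = n31005 := ndS (p := 17595) (l := 1) rfl N17595 D31005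
theorem N20653 : nd 20653 = n31006 := ndS (p := 17596) (l := 5) rfl N17596 D31006
theorem N20654 : nd 20654 = n31007 := ndS (p := 17597) (l := 1) rfl N17597 D31007
theorem N20655 : nd 20655 = n31008 := ndS (p := 17598) (l := 0) rfl N17598 D31008
theorem N20656 : nd 20656 = n31009 := ndS (p := 17598) (l := 2) rfl N17598 D31009
theorem N20657 : nd 20657 = n31010 := ndS (p := 17598) (l := 6) rfl N17598 D31010
theorem N20658 : nd 20658 = n31011 := ndS (p := 17599) (l := 2) rfl N17599 D31011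
theorem N20659 : nd 20659 = n31012 := ndS (p := 17599) (l := 6) rfl N17599 D31012
theorem N20660 : nd 20660 = n31013 := ndS (p := 17600) (l := 2) rfl N17600 D31013
theorem N20661 : nd 20661 = n31014 := ndS (p := 17601) (l := 6) rfl N17601 D31014
theorem N20662 : nd 20662 = n31015 := ndS (p := 17608) (l := 3) rfl N17608 D31015
theorem N20663 : nd 20663 = n31016 := ndS (p := 17608) (l := 6) rfl N17608 D31016
theorem N20664 : nd 20664 = n31017 := ndS (p := 17609) (l := 2) rfl N17609 D31017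
theorem N20665 : nd 20665 = n31018 := ndS (p := 17609) (l := 5) rfl N17609 D31018
theorem N20666 : nd 20666 = n31019 := ndS (p := 17611) (l := 1) rfl N17611 D31019
theorem N20667 : nd 20667 = n31020 := ndS (p := 17613) (l := 1) rfl N17613 D31020
theorem N20668 : nd 20668 = n31021 := ndS (p := 17613) (l := 5) rfl N17613 D31021
theorem N20669 : nd 20669 = n31022 := ndS (p := 17615) (l := 0) rfl N17615 D31022
theorem N20670 : nd 20670 = n31023 := ndS (p := 17615) (l := 5) rfl N17615 D31023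
theorem N20671 : nd 20671 = n31024 := ndS (p := 17616) (l := 1) rfl N17616 D31024
theorem N20672 : nd 20672 = n31025 := ndS (p := 17617) (l := 0) rfl N17617 D31025
theorem N20673 : nd 20673 = n31026 := ndS (p := 17620) (l := 4) rfl N17620 D31026
theorem N20674 : nd 20674 = n31027 := ndS (p := 17624) (l := 4) rfl N17624 D31027
theorem N20675 : nd 20675 = n31028 := ndS (p := 17628) (l := 6) rfl N17628 D31028
theorem N20676 : nd 20676 = n31029 := ndS (p := 17629) (l := 1) rfl N17629 D31029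
theorem N20677 : nd 20677 = n31030 := ndS (p := 17630) (l := 5) rfl N17630 D31030
theorem N20678 : nd 20678 = n31031 := ndS (p := 17631) (l := 5) rfl N17631 D31031
theorem N20679 : nd 20679 = n31032 := ndS (p := 17640) (l := 6) rfl N17640 D31032
theorem N20680 : nd 20680 = n31033 := ndS (p := 17641) (l := 1) rfl N17641 D31033
theorem N20681 : nd 20681 = n31034 := ndS (p := 17641) (l := 5) rfl N17641 D31034
theorem N20682 : nd 20682 = n31035 := ndS (p := 17642) (l := 0) rfl N17642 D31035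
theorem N20683 : nd 20683 = n31036 := ndS (p := 17642) (l := 5) rfl N17642 D31036
theorem N20684 : nd 20684 = n31037 := ndS (p := 17643) (l := 1) rfl N17643 D31037
theorem N20685 : nd 20685 = n31038 := ndS (p := 17646) (l := 0) rfl N17646 D31038
theorem N20686 : nd 20686 = n31039 := ndS (p := 17646) (l := 6) rfl N17646 D31039
theorem N20687 : nd 20687 = n31040 := ndS (p := 17650) (l := 5) rfl N17650 D31040
theorem N20688 : nd 20688 = n31041 := ndS (p := 17651) (l := 3) rfl N17651 D31041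
theorem N20689 : nd 20689 = n31042 := ndS (p := 17651) (l := 6) rfl N17651 D31042
theorem N20690 : nd 20690 = n31043 := ndS (p := 17653) (l := 6) rfl N17653 D31043
theorem N20691 : nd 20691 = n31044 := ndS (p := 17657) (l := 6) rfl N17657 D31044
theorem N20692 : nd 20692 = n31045 := ndS (p := 17663) (l := 4) rfl N17663 D31045
theorem N20693 : nd 20693 = n31046 := ndS (p := 17665) (l := 4) rfl N17665 D31046
theorem N20694 : nd 20694 = n31047 := ndS (p := 17665) (l := 5) rfl N17665 D31047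
theorem N20695 : nd 20695 = n31048 := ndS (p := 17668) (l := 2) rfl N17668 D31048
theorem N20696 : nd 20696 = n31049 := ndS (p := 17669) (l := 0) rfl N17669 D31049
theorem N20697 : nd 20697 = n31050 := ndS (p := 17669) (l := 3) rfl N17669 D31050
theorem N20698 : nd 20698 = n31051 := ndS (p := 17674) (l := 6) rfl N17674 D31051
theorem N20699 : nd 20699 = n31052 := ndS (p := 17679) (l := 3) rfl N17679 D31052
theorem N20700 : nd 20700 = n31053 := ndS (p := 17679) (l := 5) rfl N17679 D31053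
theorem N20701 : nd 20701 = n31054 := ndS (p := 17683) (l := 5) rfl N17683 D31054
theorem N20702 : nd 20702 = n31055 := ndS (p := 17684) (l := 5) rfl N17684 D31055
theorem N20703 : nd 20703 = n31056 := ndS (p := 17685) (l := 1) rfl N17685 D31056
theorem N20704 : nd 20704 = n31057 := ndS (p := 17685) (l := 6) rfl N17685 D31057
theorem N20705 : nd 20705 = n31058 := ndS (p := 17687) (l := 5) rfl N17687 D31058
theorem N20706 : nd 20706 = n31059 := ndS (p := 17688) (l := 1) rfl N17688 D31059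
theorem N20707 : nd 20707 = n31060 := ndS (p := 17688) (l := 6) rfl N17688 D31060
theorem N20708 : nd 20708 = n31061 := ndS (p := 17689) (l := 6) rfl N17689 D31061
theorem N20709 : nd 20709 = n31062 := ndS (p := 17692) (l := 0) rfl N17692 D31062
theorem N20710 : nd 20710 = n31063 := ndS (p := 17692) (l := 2) rfl N17692 D31063
theorem N20711 : nd 20711 = n31064 := ndS (p := 17694) (l := 5) rfl N17694 D31064
theorem N20712 : nd 20712 = n31065 := ndS (p := 17700) (l := 5) rfl N17700 D31065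
theorem N20713 : nd 20713 = n31066 := ndS (p := 17701) (l := 1) rfl N17701 D31066
theorem N20714 : nd 20714 = n31067 := ndS (p := 17702) (l := 6) rfl N17702 D31067
theorem N20715 : nd 20715 = n31068 := ndS (p := 17703) (l := 6) rfl N17703 D31068
theorem N20716 : nd 20716 = n31069 := ndS (p := 17712) (l := 5) rfl N17712 D31069
theorem N20717 : nd 20717 = n31070 := ndS (p := 17713) (l := 1) rfl N17713 D31070
theorem N20718 : nd 20718 = n31071 := ndS (p := 17713) (l := 6) rfl N17713 D31071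
theorem N20719 : nd 20719 = n31072 := ndS (p := 17714) (l := 0) rfl N17714 D31072
theorem N20720 : nd 20720 = n31073 := ndS (p := 17714) (l := 6) rfl N17714 D31073
theorem N20721 : nd 20721 = n31074 := ndS (p := 17715) (l := 1) rfl N17715 D31074
theorem N20722 : nd 20722 = n31075 := ndS (p := 17718) (l := 0) rfl N17718 D31075
theorem N20723 : nd 20723 = n31076 := ndS (p := 17718) (l := 5) rfl N17718 D31076
theorem N20724 : nd 20724 = n31077 := ndS (p := 17720) (l := 6) rfl N17720 D31077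
theorem N20725 : nd 20725 = n31078 := ndS (p := 17721) (l := 3) rfl N17721 D31078
theorem N20726 : nd 20726 = n31079 := ndS (p := 17726) (l := 5) rfl N17726 D31079
theorem N20727 : nd 20727 = n31080 := ndS (p := 17732) (l := 4) rfl N17732 D31080
theorem N20728 : nd 20728 = n31081 := ndS (p := 17734) (l := 4) rfl N17734 D31081
theorem N20729 : nd 20729 = n31082 := ndS (p := 17734) (l := 6) rfl N17734 D31082
theorem N20730 : nd 20730 = n31083 := ndS (p := 17737) (l := 2) rfl N17737 D31083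
theorem N20731 : nd 20731 = n31084 := ndS (p := 17742) (l := 5) rfl N17742 D31084
theorem N20732 : nd 20732 = n31085 := ndS (p := 17747) (l := 3) rfl N17747 D31085
theorem N20733 : nd 20733 = n31086 := ndS (p := 17747) (l := 6) rfl N17747 D31086
theorem N20734 : nd 20734 = n31087 := ndS (p := 17751) (l := 6) rfl N17751 D31087
theorem N20735 : nd 20735 = n31088 := ndS (p := 17752) (l := 6) rfl N17752 D31088
theorem N20736 : nd 20736 = n31089 := ndS (p := 17754) (l := 1) rfl N17754 D31089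
theorem N20737 : nd 20737 = n31090 := ndS (p := 17754) (l := 5) rfl N17754 D31090
theorem N20738 : nd 20738 = n31091 := ndS (p := 17755) (l := 6) rfl N17755 D31091
theorem N20739 : nd 20739 = n31092 := ndS (p := 17756) (l := 1) rfl N17756 D31092
theorem N20740 : nd 20740 = n31093 := ndS (p := 17756) (l := 5) rfl N17756 D31093
theorem N20741 : nd 20741 = n31094 := ndS (p := 17757) (l := 5) rfl N17757 D31094
theorem N20742 : nd 20742 = n31095 := ndS (p := 17760) (l := 0) rfl N17760 D31095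
theorem N20743 : nd 20743 = n31096 := ndS (p := 17760) (l := 2) rfl N17760 D31096
theorem N20744 : nd 20744 = n31097 := ndS (p := 17762) (l := 6) rfl N17762 D31097
theorem N20745 : nd 20745 = n31098 := ndS (p := 17767) (l := 5) rfl N17767 D31098
theorem N20746 : nd 20746 = n31099 := ndS (p := 17767) (l := 6) rfl N17767 D31099
theorem N20747 : nd 20747 = n31100 := ndS (p := 17769) (l := 1) rfl N17769 D31100
theorem N20748 : nd 20748 = n31101 := ndS (p := 17772) (l := 4) rfl N17772 D31101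
theorem N20749 : nd 20749 = n31102 := ndS (p := 17772) (l := 5) rfl N17772 D31102
theorem N20750 : nd 20750 = n31103 := ndS (p := 17772) (l := 6) rfl N17772 D31103
theorem N20751 : nd 20751 = n31104 := ndS (p := 17773) (l := 3) rfl N17773 D31104
theorem N20752 : nd 20752 = n31105 := ndS (p := 17773) (l := 6) rfl N17773 D31105
theorem N20753 : nd 20753 = n31106 := ndS (p := 17774) (l := 1) rfl N17774 D31106
theorem N20754 : nd 20754 = n31107 := ndS (p := 17778) (l := 6) rfl N17778 D31107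
theorem N20755 : nd 20755 = n31108 := ndS (p := 17779) (l := 5) rfl N17779 D31108
theorem N20756 : nd 20756 = n31109 := ndS (p := 17779) (l := 6) rfl N17779 D31109
theorem N20757 : nd 20757 = n31110 := ndS (p := 17784) (l := 1) rfl N17784 D31110
theorem N20758 : nd 20758 = n31111 := ndS (p := 17787) (l := 6) rfl N17787 D31111
theorem N20759 : nd 20759 = n31112 := ndS (p := 17788) (l := 1) rfl N17788 D31112
theorem N20760 : nd 20760 = n31113 := ndS (p := 17790) (l := 4) rfl N17790 D31113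
theorem N20761 : nd 20761 = n31114 := ndS (p := 17790) (l := 5) rfl N17790 D31114
theorem N20762 : nd 20762 = n31115 := ndS (p := 17790) (l := 6) rfl N17790 D31115
theorem N20763 : nd 20763 = n31116 := ndS (p := 17791) (l := 3) rfl N17791 D31116
theorem N20764 : nd 20764 = n31117 := ndS (p := 17793) (l := 1) rfl N17793 D31117
theorem N20765 : nd 20765 = n31118 := ndS (p := 17794) (l := 5) rfl N17794 D31118
theorem N20766 : nd 20766 = n31119 := ndS (p := 17795) (l := 5) rfl N17795 D31119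
theorem N20767 : nd 20767 = n31120 := ndS (p := 17795) (l := 6) rfl N17795 D31120
theorem N20768 : nd 20768 = n31121 := ndS (p := 17801) (l := 1) rfl N17801 D31121
theorem N20769 : nd 20769 = n31122 := ndS (p := 17802) (l := 5) rfl N17802 D31122
theorem N20770 : nd 20770 = n31123 := ndS (p := 17802) (l := 6) rfl N17802 D31123
theorem N20771 : nd 20771 = n31124 := ndS (p := 17803) (l := 1) rfl N17803 D31124
theorem N20772 : nd 20772 = n31125 := ndS (p := 17804) (l := 1) rfl N17804 D31125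
theorem N20773 : nd 20773 = n31126 := ndS (p := 17807) (l := 3) rfl N17807 D31126
theorem N20774 : nd 20774 = n31127 := ndS (p := 17807) (l := 5) rfl N17807 D31127
theorem N20775 : nd 20775 = n31128 := ndS (p := 17808) (l := 5) rfl N17808 D31128
theorem N20776 : nd 20776 = n31129 := ndS (p := 17809) (l := 1) rfl N17809 D31129
theorem N20777 : nd 20777 = n31130 := ndS (p := 17810) (l := 0) rfl N17810 D31130
theorem N20778 : nd 20778 = n31131 := ndS (p := 17810) (l := 2) rfl N17810 D31131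
theorem N20779 : nd 20779 = n31132 := ndS (p := 17811) (l := 4) rfl N17811 D31132
theorem N20780 : nd 20780 = n31133 := ndS (p := 17811) (l := 5) rfl N17811 D31133
theorem N20781 : nd 20781 = n31134 := ndS (p := 17811) (l := 6) rfl N17811 D31134
theorem N20782 : nd 20782 = n31135 := ndS (p := 17812) (l := 5) rfl N17812 D31135
theorem N20783 : nd 20783 = n31136 := ndS (p := 17813) (l := 1) rfl N17813 D31136
theorem N20784 : nd 20784 = n31137 := ndS (p := 17817) (l := 5) rfl N17817 D31137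
theorem N20785 : nd 20785 = n31138 := ndS (p := 17817) (l := 6) rfl N17817 D31138
theorem N20786 : nd 20786 = n31139 := ndS (p := 17818) (l := 1) rfl N17818 D31139
theorem N20787 : nd 20787 = n31140 := ndS (p := 17819) (l := 1) rfl N17819 D31140
theorem N20788 : nd 20788 = n31141 := ndS (p := 17822) (l := 3) rfl N17822 D31141
theorem N20789 : nd 20789 = n31142 := ndS (p := 17824) (l := 4) rfl N17824 D31142
theorem N20790 : nd 20790 = n31143 := ndS (p := 17824) (l := 5) rfl N17824 D31143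
theorem N20791 : nd 20791 = n31144 := ndS (p := 17857) (l := 4) rfl N17857 D31144
theorem N20792 : nd 20792 = n31145 := ndS (p := 17859) (l := 6) rfl N17859 D31145
theorem N20793 : nd 20793 = n31146 := ndS (p := 17863) (l := 2) rfl N17863 D31146
theorem N20794 : nd 20794 = n31147 := ndS (p := 17863) (l := 5) rfl N17863 D31147
theorem N20795 : nd 20795 = n31148 := ndS (p := 17869) (l := 4) rfl N17869 D31148
theorem N20796 : nd 20796 = n31149 := ndS (p := 17871) (l := 5) rfl N17871 D31149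
theorem N20797 : nd 20797 = n31150 := ndS (p := 17875) (l := 2) rfl N17875 D31150
theorem N20798 : nd 20798 = n31151 := ndS (p := 17875) (l := 6) rfl N17875 D31151
theorem N20799 : nd 20799 = n31152 := ndS (p := 17880) (l := 6) rfl N17880 D31152
theorem N20800 : nd 20800 = n31153 := ndS (p := 17882) (l := 2) rfl N17882 D31153
theorem N20801 : nd 20801 = n31154 := ndS (p := 17885) (l := 3) rfl N17885 D31154
theorem N20802 : nd 20802 = n31155 := ndS (p := 17886) (l := 3) rfl N17886 D31155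
theorem N20803 : nd 20803 = n31156 := ndS (p := 17887) (l := 5) rfl N17887 D31156
theorem N20804 : nd 20804 = n31157 := ndS (p := 17895) (l := 3) rfl N17895 D31157
theorem N20805 : nd 20805 = n31158 := ndS (p := 17896) (l := 3) rfl N17896 D31158
theorem N20806 : nd 20806 = n31159 := ndS (p := 17897) (l := 2) rfl N17897 D31159
theorem N20807 : nd 20807 = n31160 := ndS (p := 17897) (l := 6) rfl N17897 D31160
theorem N20808 : nd 20808 = n31161 := ndS (p := 17899) (l := 2) rfl N17899 D31161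
theorem N20809 : nd 20809 = n31162 := ndS (p := 17904) (l := 5) rfl N17904 D31162
theorem N20810 : nd 20810 = n31163 := ndS (p := 17906) (l := 2) rfl N17906 D31163
theorem N20811 : nd 20811 = n31164 := ndS (p := 17908) (l := 3) rfl N17908 D31164
theorem N20812 : nd 20812 = n31165 := ndS (p := 17909) (l := 3) rfl N17909 D31165
theorem N20813 : nd 20813 = n31166 := ndS (p := 17910) (l := 6) rfl N17910 D31166
theorem N20814 : nd 20814 = n31167 := ndS (p := 17917) (l := 3) rfl N17917 D31167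
theorem N20815 : nd 20815 = n31168 := ndS (p := 17918) (l := 3) rfl N17918 D31168
theorem N20816 : nd 20816 = n31169 := ndS (p := 17919) (l := 2) rfl N17919 D31169
theorem N20817 : nd 20817 = n31170 := ndS (p := 17919) (l := 5) rfl N17919 D31170
theorem N20818 : nd 20818 = n31171 := ndS (p := 17921) (l := 2) rfl N17921 D31171
theorem N20819 : nd 20819 = n31172 := ndS (p := 17926) (l := 4) rfl N17926 D31172
theorem N20820 : nd 20820 = n31173 := ndS (p := 17929) (l := 4) rfl N17929 D31173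
theorem N20821 : nd 20821 = n31174 := ndS (p := 17932) (l := 1) rfl N17932 D31174
theorem N20822 : nd 20822 = n31175 := ndS (p := 17942) (l := 1) rfl N17942 D31175
theorem N20823 : nd 20823 = n31176 := ndS (p := 17952) (l := 6) rfl N17952 D31176
theorem N20824 : nd 20824 = n31177 := ndS (p := 17954) (l := 5) rfl N17954 D31177
theorem N20825 : nd 20825 = n31178 := ndS (p := 17956) (l := 6) rfl N17956 D31178
theorem N20826 : nd 20826 = n31179 := ndS (p := 17961) (l := 5) rfl N17961 D31179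
theorem N20827 : nd 20827 = n31180 := ndS (p := 17966) (l := 2) rfl N17966 D31180
theorem N20828 : nd 20828 = n31181 := ndS (p := 17966) (l := 4) rfl N17966 D31181
theorem N20829 : nd 20829 = n31182 := ndS (p := 17969) (l := 2) rfl N17969 D31182
theorem N20830 : nd 20830 = n31183 := ndS (p := 17969) (l := 4) rfl N17969 D31183
theorem N20831 : nd 20831 = n31184 := ndS (p := 17972) (l := 6) rfl N17972 D31184
theorem N20832 : nd 20832 = n31185 := ndS (p := 17973) (l := 1) rfl N17973 D31185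
theorem N20833 : nd 20833 = n31186 := ndS (p := 17977) (l := 0) rfl N17977 D31186
theorem N20834 : nd 20834 = n31187 := ndS (p := 17978) (l := 5) rfl N17978 D31187
theorem N20835 : nd 20835 = n31188 := ndS (p := 17979) (l := 1) rfl N17979 D31188
theorem N20836 : nd 20836 = n31189 := ndS (p := 17983) (l := 0) rfl N17983 D31189
theorem N20837 : nd 20837 = n31190 := ndS (p := 17984) (l := 6) rfl N17984 D31190
theorem N20838 : nd 20838 = n31191 := ndS (p := 17986) (l := 5) rfl N17986 D31191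
theorem N20839 : nd 20839 = n31192 := ndS (p := 17987) (l := 0) rfl N17987 D31192
theorem N20840 : nd 20840 = n31193 := ndS (p := 17989) (l := 1) rfl N17989 D31193
theorem N20841 : nd 20841 = n31194 := ndS (p := 17992) (l := 5) rfl N17992 D31194
theorem N20842 : nd 20842 = n31195 := ndS (p := 17994) (l := 6) rfl N17994 D31195
theorem N20843 : nd 20843 = n31196 := ndS (p := 17995) (l := 0) rfl N17995 D31196
theorem N20844 : nd 20844 = n31197 := ndS (p := 17997) (l := 1) rfl N17997 D31197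
theorem N20845 : nd 20845 = n31198 := ndS (p := 18000) (l := 6) rfl N18000 D31198
theorem N20846 : nd 20846 = n31199 := ndS (p := 18004) (l := 5) rfl N18004 D31199
theorem N20847 : nd 20847 = n31200 := ndS (p := 18008) (l := 2) rfl N18008 D31200
theorem N20848 : nd 20848 = n31201 := ndS (p := 18009) (l := 1) rfl N18009 D31201
theorem N20849 : nd 20849 = n31202 := ndS (p := 18009) (l := 3) rfl N18009 D31202
theorem N20850 : nd 20850 = n31203 := ndS (p := 18010) (l := 3) rfl N18010 D31203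
theorem N20851 : nd 20851 = n31204 := ndS (p := 18010) (l := 5) rfl N18010 D31204
theorem N20852 : nd 20852 = n31205 := ndS (p := 18011) (l := 2) rfl N18011 D31205
theorem N20853 : nd 20853 = n31206 := ndS (p := 18011) (l := 4) rfl N18011 D31206
theorem N20854 : nd 20854 = n31207 := ndS (p := 18014) (l := 2) rfl N18014 D31207
theorem N20855 : nd 20855 = n31208 := ndS (p := 18015) (l := 1) rfl N18015 D31208
theorem N20856 : nd 20856 = n31209 := ndS (p := 18015) (l := 3) rfl N18015 D31209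
theorem N20857 : nd 20857 = n31210 := ndS (p := 18016) (l := 3) rfl N18016 D31210
theorem N20858 : nd 20858 = n31211 := ndS (p := 18016) (l := 6) rfl N18016 D31211
theorem N20859 : nd 20859 = n31212 := ndS (p := 18017) (l := 2) rfl N18017 D31212
theorem N20860 : nd 20860 = n31213 := ndS (p := 18017) (l := 4) rfl N18017 D31213
theorem N20861 : nd 20861 = n31214 := ndS (p := 18020) (l := 5) rfl N18020 D31214
theorem N20862 : nd 20862 = n31215 := ndS (p := 18020) (l := 6) rfl N18020 D31215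
theorem N20863 : nd 20863 = n31216 := ndS (p := 18021) (l := 6) rfl N18021 D31216
theorem N20864 : nd 20864 = n31217 := ndS (p := 18022) (l := 1) rfl N18022 D31217
theorem N20865 : nd 20865 = n31218 := ndS (p := 18023) (l := 1) rfl N18023 D31218
theorem N20866 : nd 20866 = n31219 := ndS (p := 18024) (l := 0) rfl N18024 D31219
theorem N20867 : nd 20867 = n31220 := ndS (p := 18024) (l := 5) rfl N18024 D31220
theorem N20868 : nd 20868 = n31221 := ndS (p := 18027) (l := 0) rfl N18027 D31221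
theorem N20869 : nd 20869 = n31222 := ndS (p := 18028) (l := 4) rfl N18028 D31222
theorem N20870 : nd 20870 = n31223 := ndS (p := 18029) (l := 5) rfl N18029 D31223
theorem N20871 : nd 20871 = n31224 := ndS (p := 18030) (l := 5) rfl N18030 D31224
theorem N20872 : nd 20872 = n31225 := ndS (p := 18032) (l := 0) rfl N18032 D31225
theorem N20873 : nd 20873 = n31226 := ndS (p := 18032) (l := 6) rfl N18032 D31226
theorem N20874 : nd 20874 = n31227 := ndS (p := 18033) (l := 6) rfl N18033 D31227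
theorem N20875 : nd 20875 = n31228 := ndS (p := 18035) (l := 3) rfl N18035 D31228
theorem N20876 : nd 20876 = n31229 := ndS (p := 18035) (l := 6) rfl N18035 D31229
theorem N20877 : nd 20877 = n31230 := ndS (p := 18037) (l := 1) rfl N18037 D31230
theorem N20878 : nd 20878 = n31231 := ndS (p := 18040) (l := 1) rfl N18040 D31231
theorem N20879 : nd 20879 = n31232 := ndS (p := 18041) (l := 6) rfl N18041 D31232
theorem N20880 : nd 20880 = n31233 := ndS (p := 18042) (l := 1) rfl N18042 D31233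
theorem N20881 : nd 20881 = n31234 := ndS (p := 18042) (l := 6) rfl N18042 D31234
theorem N20882 : nd 20882 = n31235 := ndS (p := 18043) (l := 6) rfl N18043 D31235
theorem N20883 : nd 20883 = n31236 := ndS (p := 18046) (l := 1) rfl N18046 D31236
theorem N20884 : nd 20884 = n31237 := ndS (p := 18048) (l := 5) rfl N18048 D31237
theorem N20885 : nd 20885 = n31238 := ndS (p := 18049) (l := 5) rfl N18049 D31238
theorem N20886 : nd 20886 = n31239 := ndS (p := 18049) (l := 6) rfl N18049 D31239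
theorem N20887 : nd 20887 = n31240 := ndS (p := 18050) (l := 1) rfl N18050 D31240
theorem N20888 : nd 20888 = n31241 := ndS (p := 18051) (l := 5) rfl N18051 D31241
theorem N20889 : nd 20889 = n31242 := ndS (p := 18052) (l := 0) rfl N18052 D31242
theorem N20890 : nd 20890 = n31243 := ndS (p := 18052) (l := 6) rfl N18052 D31243
theorem N20891 : nd 20891 = n31244 := ndS (p := 18054) (l := 1) rfl N18054 D31244
theorem N20892 : nd 20892 = n31245 := ndS (p := 18056) (l := 0) rfl N18056 D31245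
theorem N20893 : nd 20893 = n31246 := ndS (p := 18057) (l := 4) rfl N18057 D31246
theorem N20894 : nd 20894 = n31247 := ndS (p := 18058) (l := 6) rfl N18058 D31247
theorem N20895 : nd 20895 = n31248 := ndS (p := 18059) (l := 6) rfl N18059 D31248
theorem N20896 : nd 20896 = n31249 := ndS (p := 18061) (l := 0) rfl N18061 D31249
theorem N20897 : nd 20897 = n31250 := ndS (p := 18061) (l := 5) rfl N18061 D31250
theorem N20898 : nd 20898 = n31251 := ndS (p := 18062) (l := 5) rfl N18062 D31251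
theorem N20899 : nd 20899 = n31252 := ndS (p := 18064) (l := 3) rfl N18064 D31252
theorem N20900 : nd 20900 = n31253 := ndS (p := 18064) (l := 5) rfl N18064 D31253
theorem N20901 : nd 20901 = n31254 := ndS (p := 18067) (l := 1) rfl N18067 D31254
theorem N20902 : nd 20902 = n31255 := ndS (p := 18069) (l := 1) rfl N18069 D31255
theorem N20903 : nd 20903 = n31256 := ndS (p := 18070) (l := 5) rfl N18070 D31256
theorem N20904 : nd 20904 = n31257 := ndS (p := 18071) (l := 1) rfl N18071 D31257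
theorem N20905 : nd 20905 = n31258 := ndS (p := 18071) (l := 5) rfl N18071 D31258
theorem N20906 : nd 20906 = n31259 := ndS (p := 18072) (l := 5) rfl N18072 D31259
theorem N20907 : nd 20907 = n31260 := ndS (p := 18075) (l := 1) rfl N18075 D31260
theorem N20908 : nd 20908 = n31261 := ndS (p := 18077) (l := 6) rfl N18077 D31261
theorem N20909 : nd 20909 = n31262 := ndS (p := 18082) (l := 6) rfl N18082 D31262
theorem N20910 : nd 20910 = n31263 := ndS (p := 18083) (l := 1) rfl N18083 D31263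
theorem N20911 : nd 20911 = n31264 := ndS (p := 18083) (l := 5) rfl N18083 D31264
theorem N20912 : nd 20912 = n31265 := ndS (p := 18084) (l := 1) rfl N18084 D31265
theorem N20913 : nd 20913 = n31266 := ndS (p := 18090) (l := 1) rfl N18090 D31266
theorem N20914 : nd 20914 = n31267 := ndS (p := 18094) (l := 1) rfl N18094 D31267
theorem N20915 : nd 20915 = n31268 := ndS (p := 18096) (l := 1) rfl N18096 D31268
theorem N20916 : nd 20916 = n31269 := ndS (p := 18096) (l := 5) rfl N18096 D31269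
theorem N20917 : nd 20917 = n31270 := ndS (p := 18097) (l := 2) rfl N18097 D31270
theorem N20918 : nd 20918 = n31271 := ndS (p := 18097) (l := 5) rfl N18097 D31271
theorem N20919 : nd 20919 = n31272 := ndS (p := 18099) (l := 2) rfl N18099 D31272
theorem N20920 : nd 20920 = n31273 := ndS (p := 18099) (l := 5) rfl N18099 D31273
theorem N20921 : nd 20921 = n31274 := ndS (p := 18100) (l := 1) rfl N18100 D31274
theorem N20922 : nd 20922 = n31275 := ndS (p := 18101) (l := 0) rfl N18101 D31275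
theorem N20923 : nd 20923 = n31276 := ndS (p := 18101) (l := 2) rfl N18101 D31276
theorem N20924 : nd 20924 = n31277 := ndS (p := 18101) (l := 5) rfl N18101 D31277
theorem N20925 : nd 20925 = n31278 := ndS (p := 18102) (l := 1) rfl N18102 D31278
theorem N20926 : nd 20926 = n31279 := ndS (p := 18102) (l := 2) rfl N18102 D31279
theorem N20927 : nd 20927 = n31280 := ndS (p := 18102) (l := 5) rfl N18102 D31280
theorem N20928 : nd 20928 = n31281 := ndS (p := 18103) (l := 5) rfl N18103 D31281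
theorem N20929 : nd 20929 = n31282 := ndS (p := 18104) (l := 6) rfl N18104 D31282
theorem N20930 : nd 20930 = n31283 := ndS (p := 18105) (l := 2) rfl N18105 D31283
theorem N20931 : nd 20931 = n31284 := ndS (p := 18108) (l := 5) rfl N18108 D31284
theorem N20932 : nd 20932 = n31285 := ndS (p := 18109) (l := 1) rfl N18109 D31285
theorem N20933 : nd 20933 = n31286 := ndS (p := 18110) (l := 6) rfl N18110 D31286
theorem N20934 : nd 20934 = n31287 := ndS (p := 18120) (l := 2) rfl N18120 D31287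
theorem N20935 : nd 20935 = n31288 := ndS (p := 18121) (l := 1) rfl N18121 D31288
theorem N20936 : nd 20936 = n31289 := ndS (p := 18121) (l := 4) rfl N18121 D31289
theorem N20937 : nd 20937 = n31290 := ndS (p := 18123) (l := 6) rfl N18123 D31290
theorem N20938 : nd 20938 = n31291 := ndS (p := 18136) (l := 5) rfl N18136 D31291
theorem N20939 : nd 20939 = n31292 := ndS (p := 18137) (l := 1) rfl N18137 D31292
theorem N20940 : nd 20940 = n31293 := ndS (p := 18137) (l := 6) rfl N18137 D31293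
theorem N20941 : nd 20941 = n31294 := ndS (p := 18138) (l := 1) rfl N18138 D31294
theorem N20942 : nd 20942 = n31295 := ndS (p := 18144) (l := 1) rfl N18144 D31295
theorem N20943 : nd 20943 = n31296 := ndS (p := 18148) (l := 1) rfl N18148 D31296
theorem N20944 : nd 20944 = n31297 := ndS (p := 18150) (l := 1) rfl N18150 D31297
theorem N20945 : nd 20945 = n31298 := ndS (p := 18150) (l := 6) rfl N18150 D31298
theorem N20946 : nd 20946 = n31299 := ndS (p := 18151) (l := 2) rfl N18151 D31299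
theorem N20947 : nd 20947 = n31300 := ndS (p := 18151) (l := 6) rfl N18151 D31300
theorem N20948 : nd 20948 = n31301 := ndS (p := 18153) (l := 2) rfl N18153 D31301
theorem N20949 : nd 20949 = n31302 := ndS (p := 18153) (l := 6) rfl N18153 D31302
theorem N20950 : nd 20950 = n31303 := ndS (p := 18154) (l := 1) rfl N18154 D31303
theorem N20951 : nd 20951 = n31304 := ndS (p := 18155) (l := 0) rfl N18155 D31304
theorem N20952 : nd 20952 = n31305 := ndS (p := 18155) (l := 2) rfl N18155 D31305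
theorem N20953 : nd 20953 = n31306 := ndS (p := 18155) (l := 6) rfl N18155 D31306
theorem N20954 : nd 20954 = n31307 := ndS (p := 18156) (l := 1) rfl N18156 D31307
theorem N20955 : nd 20955 = n31308 := ndS (p := 18156) (l := 2) rfl N18156 D31308
theorem N20956 : nd 20956 = n31309 := ndS (p := 18156) (l := 6) rfl N18156 D31309
theorem N20957 : nd 20957 = n31310 := ndS (p := 18157) (l := 6) rfl N18157 D31310
theorem N20958 : nd 20958 = n31311 := ndS (p := 18158) (l := 5) rfl N18158 D31311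
theorem N20959 : nd 20959 = n31312 := ndS (p := 18159) (l := 2) rfl N18159 D31312
theorem N20960 : nd 20960 = n31313 := ndS (p := 18162) (l := 6) rfl N18162 D31313
theorem N20961 : nd 20961 = n31314 := ndS (p := 18163) (l := 1) rfl N18163 D31314
theorem N20962 : nd 20962 = n31315 := ndS (p := 18164) (l := 5) rfl N18164 D31315
theorem N20963 : nd 20963 = n31316 := ndS (p := 18174) (l := 1) rfl N18174 D31316
theorem N20964 : nd 20964 = n31317 := ndS (p := 18175) (l := 5) rfl N18175 D31317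
theorem N20965 : nd 20965 = n31318 := ndS (p := 18184) (l := 1) rfl N18184 D31318
theorem N20966 : nd 20966 = n31319 := ndS (p := 18184) (l := 3) rfl N18184 D31319
theorem N20967 : nd 20967 = n31320 := ndS (p := 18185) (l := 2) rfl N18185 D31320
theorem N20968 : nd 20968 = n31321 := ndS (p := 18185) (l := 4) rfl N18185 D31321
theorem N20969 : nd 20969 = n31322 := ndS (p := 18187) (l := 6) rfl N18187 D31322
theorem N20970 : nd 20970 = n31323 := ndS (p := 18188) (l := 1) rfl N18188 D31323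
theorem N20971 : nd 20971 = n31324 := ndS (p := 18190) (l := 1) rfl N18190 D31324
theorem N20972 : nd 20972 = n31325 := ndS (p := 18192) (l := 0) rfl N18192 D31325
theorem N20973 : nd 20973 = n31326 := ndS (p := 18192) (l := 2) rfl N18192 D31326
theorem N20974 : nd 20974 = n31327 := ndS (p := 18192) (l := 5) rfl N18192 D31327
theorem N20975 : nd 20975 = n31328 := ndS (p := 18193) (l := 1) rfl N18193 D31328
theorem N20976 : nd 20976 = n31329 := ndS (p := 18194) (l := 0) rfl N18194 D31329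
theorem N20977 : nd 20977 = n31330 := ndS (p := 18194) (l := 2) rfl N18194 D31330
theorem N20978 : nd 20978 = n31331 := ndS (p := 18194) (l := 5) rfl N18194 D31331
theorem N20979 : nd 20979 = n31332 := ndS (p := 18195) (l := 1) rfl N18195 D31332
theorem N20980 : nd 20980 = n31333 := ndS (p := 18195) (l := 2) rfl N18195 D31333
theorem N20981 : nd 20981 = n31334 := ndS (p := 18195) (l := 5) rfl N18195 D31334
theorem N20982 : nd 20982 = n31335 := ndS (p := 18196) (l := 5) rfl N18196 D31335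
theorem N20983 : nd 20983 = n31336 := ndS (p := 18197) (l := 6) rfl N18197 D31336
theorem N20984 : nd 20984 = n31337 := ndS (p := 18202) (l := 2) rfl N18202 D31337
theorem N20985 : nd 20985 = n31338 := ndS (p := 18203) (l := 2) rfl N18203 D31338
theorem N20986 : nd 20986 = n31339 := ndS (p := 18204) (l := 3) rfl N18204 D31339
theorem N20987 : nd 20987 = n31340 := ndS (p := 18206) (l := 1) rfl N18206 D31340
theorem N20988 : nd 20988 = n31341 := ndS (p := 18207) (l := 0) rfl N18207 D31341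
theorem N20989 : nd 20989 = n31342 := ndS (p := 18207) (l := 5) rfl N18207 D31342
theorem N20990 : nd 20990 = n31343 := ndS (p := 18208) (l := 1) rfl N18208 D31343
theorem N20991 : nd 20991 = n31344 := ndS (p := 18209) (l := 1) rfl N18209 D31344
theorem N20992 : nd 20992 = n31345 := ndS (p := 18209) (l := 3) rfl N18209 D31345
theorem N20993 : nd 20993 = n31346 := ndS (p := 18210) (l := 2) rfl N18210 D31346
theorem N20994 : nd 20994 = n31347 := ndS (p := 18210) (l := 4) rfl N18210 D31347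
theorem N20995 : nd 20995 = n31348 := ndS (p := 18212) (l := 5) rfl N18212 D31348
theorem N20996 : nd 20996 = n31349 := ndS (p := 18213) (l := 1) rfl N18213 D31349
theorem N20997 : nd 20997 = n31350 := ndS (p := 18215) (l := 1) rfl N18215 D31350
theorem N20998 : nd 20998 = n31351 := ndS (p := 18216) (l := 0) rfl N18216 D31351
theorem N20999 : nd 20999 = n31352 := ndS (p := 18216) (l := 2) rfl N18216 D31352
theorem N21000 : nd 21000 = n31353 := ndS (p := 18216) (l := 6) rfl N18216 D31353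
theorem N21001 : nd 21001 = n31354 := ndS (p := 18218) (l := 1) rfl N18218 D31354
theorem N21002 : nd 21002 = n31355 := ndS (p := 18219) (l := 0) rfl N18219 D31355
theorem N21003 : nd 21003 = n31356 := ndS (p := 18219) (l := 2) rfl N18219 D31356
theorem N21004 : nd 21004 = n31357 := ndS (p := 18219) (l := 6) rfl N18219 D31357
theorem N21005 : nd 21005 = n31358 := ndS (p := 18220) (l := 1) rfl N18220 D31358
theorem N21006 : nd 21006 = n31359 := ndS (p := 18220) (l := 2) rfl N18220 D31359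
theorem N21007 : nd 21007 = n31360 := ndS (p := 18220) (l := 6) rfl N18220 D31360
theorem N21008 : nd 21008 = n31361 := ndS (p := 18221) (l := 6) rfl N18221 D31361
theorem N21009 : nd 21009 = n31362 := ndS (p := 18222) (l := 5) rfl N18222 D31362
theorem N21010 : nd 21010 = n31363 := ndS (p := 18227) (l := 2) rfl N18227 D31363
theorem N21011 : nd 21011 = n31364 := ndS (p := 18228) (l := 2) rfl N18228 D31364
theorem N21012 : nd 21012 = n31365 := ndS (p := 18229) (l := 3) rfl N18229 D31365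
theorem N21013 : nd 21013 = n31366 := ndS (p := 18231) (l := 1) rfl N18231 D31366
theorem N21014 : nd 21014 = n31367 := ndS (p := 18232) (l := 0) rfl N18232 D31367
theorem N21015 : nd 21015 = n31368 := ndS (p := 18232) (l := 6) rfl N18232 D31368
theorem N21016 : nd 21016 = n31369 := ndS (p := 18233) (l := 1) rfl N18233 D31369
theorem N21017 : nd 21017 = n31370 := ndS (p := 18235) (l := 1) rfl N18235 D31370
theorem N21018 : nd 21018 = n31371 := ndS (p := 18236) (l := 6) rfl N18236 D31371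
theorem N21019 : nd 21019 = n31372 := ndS (p := 18239) (l := 5) rfl N18239 D31372
theorem N21020 : nd 21020 = n31373 := ndS (p := 18241) (l := 1) rfl N18241 D31373
theorem N21021 : nd 21021 = n31374 := ndS (p := 18242) (l := 5) rfl N18242 D31374
theorem N21022 : nd 21022 = n31375 := ndS (p := 18243) (l := 1) rfl N18243 D31375
theorem N21023 : nd 21023 = n31376 := ndS (p := 18243) (l := 5) rfl N18243 D31376
theorem N21024 : nd 21024 = n31377 := ndS (p := 18244) (l := 5) rfl N18244 D31377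
theorem N21025 : nd 21025 = n31378 := ndS (p := 18245) (l := 6) rfl N18245 D31378
theorem N21026 : nd 21026 = n31379 := ndS (p := 18246) (l := 5) rfl N18246 D31379
theorem N21027 : nd 21027 = n31380 := ndS (p := 18248) (l := 2) rfl N18248 D31380
theorem N21028 : nd 21028 = n31381 := ndS (p := 18249) (l := 5) rfl N18249 D31381
theorem N21029 : nd 21029 = n31382 := ndS (p := 18253) (l := 1) rfl N18253 D31382
theorem N21030 : nd 21030 = n31383 := ndS (p := 18254) (l := 0) rfl N18254 D31383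
theorem N21031 : nd 21031 = n31384 := ndS (p := 18255) (l := 2) rfl N18255 D31384
theorem N21032 : nd 21032 = n31385 := ndS (p := 18258) (l := 0) rfl N18258 D31385
theorem N21033 : nd 21033 = n31386 := ndS (p := 18258) (l := 2) rfl N18258 D31386
theorem N21034 : nd 21034 = n31387 := ndS (p := 18258) (l := 5) rfl N18258 D31387
theorem N21035 : nd 21035 = n31388 := ndS (p := 18260) (l := 1) rfl N18260 D31388
theorem N21036 : nd 21036 = n31389 := ndS (p := 18260) (l := 2) rfl N18260 D31389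
theorem N21037 : nd 21037 = n31390 := ndS (p := 18260) (l := 5) rfl N18260 D31390
theorem N21038 : nd 21038 = n31391 := ndS (p := 18261) (l := 3) rfl N18261 D31391
theorem N21039 : nd 21039 = n31392 := ndS (p := 18261) (l := 5) rfl N18261 D31392
theorem N21040 : nd 21040 = n31393 := ndS (p := 18262) (l := 6) rfl N18262 D31393
theorem N21041 : nd 21041 = n31394 := ndS (p := 18264) (l := 5) rfl N18264 D31394
theorem N21042 : nd 21042 = n31395 := ndS (p := 18265) (l := 1) rfl N18265 D31395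
theorem N21043 : nd 21043 = n31396 := ndS (p := 18268) (l := 1) rfl N18268 D31396
theorem N21044 : nd 21044 = n31397 := ndS (p := 18269) (l := 2) rfl N18269 D31397
theorem N21045 : nd 21045 = n31398 := ndS (p := 18270) (l := 1) rfl N18270 D31398
theorem N21046 : nd 21046 = n31399 := ndS (p := 18270) (l := 3) rfl N18270 D31399
theorem N21047 : nd 21047 = n31400 := ndS (p := 18271) (l := 2) rfl N18271 D31400
theorem N21048 : nd 21048 = n31401 := ndS (p := 18271) (l := 4) rfl N18271 D31401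
theorem N21049 : nd 21049 = n31402 := ndS (p := 18273) (l := 2) rfl N18273 D31402
theorem N21050 : nd 21050 = n31403 := ndS (p := 18274) (l := 1) rfl N18274 D31403
theorem N21051 : nd 21051 = n31404 := ndS (p := 18274) (l := 3) rfl N18274 D31404
theorem N21052 : nd 21052 = n31405 := ndS (p := 18274) (l := 5) rfl N18274 D31405
theorem N21053 : nd 21053 = n31406 := ndS (p := 18276) (l := 6) rfl N18276 D31406
theorem N21054 : nd 21054 = n31407 := ndS (p := 18278) (l := 4) rfl N18278 D31407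
theorem N21055 : nd 21055 = n31408 := ndS (p := 18288) (l := 1) rfl N18288 D31408
theorem N21056 : nd 21056 = n31409 := ndS (p := 18294) (l := 1) rfl N18294 D31409
theorem N21057 : nd 21057 = n31410 := ndS (p := 18295) (l := 5) rfl N18295 D31410
theorem N21058 : nd 21058 = n31411 := ndS (p := 18297) (l := 6) rfl N18297 D31411
theorem N21059 : nd 21059 = n31412 := ndS (p := 18300) (l := 1) rfl N18300 D31412
theorem N21060 : nd 21060 = n31413 := ndS (p := 18301) (l := 6) rfl N18301 D31413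
theorem N21061 : nd 21061 = n31414 := ndS (p := 18302) (l := 1) rfl N18302 D31414
theorem N21062 : nd 21062 = n31415 := ndS (p := 18302) (l := 6) rfl N18302 D31415
theorem N21063 : nd 21063 = n31416 := ndS (p := 18303) (l := 6) rfl N18303 D31416
theorem N21064 : nd 21064 = n31417 := ndS (p := 18304) (l := 5) rfl N18304 D31417
theorem N21065 : nd 21065 = n31418 := ndS (p := 18306) (l := 2) rfl N18306 D31418
theorem N21066 : nd 21066 = n31419 := ndS (p := 18310) (l := 1) rfl N18310 D31419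
theorem N21067 : nd 21067 = n31420 := ndS (p := 18311) (l := 0) rfl N18311 D31420
theorem N21068 : nd 21068 = n31421 := ndS (p := 18312) (l := 2) rfl N18312 D31421
theorem N21069 : nd 21069 = n31422 := ndS (p := 18315) (l := 0) rfl N18315 D31422
theorem N21070 : nd 21070 = n31423 := ndS (p := 18315) (l := 2) rfl N18315 D31423
theorem N21071 : nd 21071 = n31424 := ndS (p := 18315) (l := 6) rfl N18315 D31424
theorem N21072 : nd 21072 = n31425 := ndS (p := 18317) (l := 1) rfl N18317 D31425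
theorem N21073 : nd 21073 = n31426 := ndS (p := 18317) (l := 2) rfl N18317 D31426
theorem N21074 : nd 21074 = n31427 := ndS (p := 18317) (l := 6) rfl N18317 D31427
theorem N21075 : nd 21075 = n31428 := ndS (p := 18318) (l := 3) rfl N18318 D31428
theorem N21076 : nd 21076 = n31429 := ndS (p := 18318) (l := 6) rfl N18318 D31429
theorem N21077 : nd 21077 = n31430 := ndS (p := 18319) (l := 5) rfl N18319 D31430
theorem N21078 : nd 21078 = n31431 := ndS (p := 18321) (l := 6) rfl N18321 D31431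
theorem N21079 : nd 21079 = n31432 := ndS (p := 18322) (l := 1) rfl N18322 D31432
theorem N21080 : nd 21080 = n31433 := ndS (p := 18325) (l := 1) rfl N18325 D31433
theorem N21081 : nd 21081 = n31434 := ndS (p := 18326) (l := 2) rfl N18326 D31434
theorem N21082 : nd 21082 = n31435 := ndS (p := 18327) (l := 1) rfl N18327 D31435
theorem N21083 : nd 21083 = n31436 := ndS (p := 18328) (l := 4) rfl N18328 D31436
theorem N21084 : nd 21084 = n31437 := ndS (p := 18330) (l := 2) rfl N18330 D31437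
theorem N21085 : nd 21085 = n31438 := ndS (p := 18331) (l := 1) rfl N18331 D31438
theorem N21086 : nd 21086 = n31439 := ndS (p := 18331) (l := 3) rfl N18331 D31439
theorem N21087 : nd 21087 = n31440 := ndS (p := 18331) (l := 6) rfl N18331 D31440
theorem N21088 : nd 21088 = n31441 := ndS (p := 18333) (l := 5) rfl N18333 D31441
theorem N21089 : nd 21089 = n31442 := ndS (p := 18335) (l := 4) rfl N18335 D31442
theorem N21090 : nd 21090 = n31443 := ndS (p := 18345) (l := 1) rfl N18345 D31443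
theorem N21091 : nd 21091 = n31444 := ndS (p := 18350) (l := 2) rfl N18350 D31444
theorem N21092 : nd 21092 = n31445 := ndS (p := 18351) (l := 1) rfl N18351 D31445
theorem N21093 : nd 21093 = n31446 := ndS (p := 18353) (l := 1) rfl N18353 D31446
theorem N21094 : nd 21094 = n31447 := ndS (p := 18355) (l := 1) rfl N18355 D31447
theorem N21095 : nd 21095 = n31448 := ndS (p := 18356) (l := 0) rfl N18356 D31448
theorem N21096 : nd 21096 = n31449 := ndS (p := 18356) (l := 2) rfl N18356 D31449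
theorem N21097 : nd 21097 = n31450 := ndS (p := 18356) (l := 5) rfl N18356 D31450
theorem N21098 : nd 21098 = n31451 := ndS (p := 18357) (l := 2) rfl N18357 D31451
theorem N21099 : nd 21099 = n31452 := ndS (p := 18358) (l := 1) rfl N18358 D31452
theorem N21100 : nd 21100 = n31453 := ndS (p := 18358) (l := 2) rfl N18358 D31453
theorem N21101 : nd 21101 = n31454 := ndS (p := 18359) (l := 3) rfl N18359 D31454
theorem N21102 : nd 21102 = n31455 := ndS (p := 18361) (l := 1) rfl N18361 D31455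
theorem N21103 : nd 21103 = n31456 := ndS (p := 18362) (l := 0) rfl N18362 D31456
theorem N21104 : nd 21104 = n31457 := ndS (p := 18362) (l := 2) rfl N18362 D31457
theorem N21105 : nd 21105 = n31459 := ndS (p := 18363) (l := 1) rfl N18363 D31459
theorem N21106 : nd 21106 = n31460 := ndS (p := 18364) (l := 1) rfl N18364 D31460
theorem N21107 : nd 21107 = n31461 := ndS (p := 18365) (l := 0) rfl N18365 D31461
theorem N21108 : nd 21108 = n31462 := ndS (p := 18365) (l := 5) rfl N18365 D31462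
theorem N21109 : nd 21109 = n31463 := ndS (p := 18366) (l := 1) rfl N18366 D31463
theorem N21110 : nd 21110 = n31464 := ndS (p := 18367) (l := 0) rfl N18367 D31464
theorem N21111 : nd 21111 = n31465 := ndS (p := 18367) (l := 2) rfl N18367 D31465
theorem N21112 : nd 21112 = n31466 := ndS (p := 18367) (l := 5) rfl N18367 D31466
theorem N21113 : nd 21113 = n31467 := ndS (p := 18368) (l := 5) rfl N18368 D31467
theorem N21114 : nd 21114 = n31468 := ndS (p := 18369) (l := 1) rfl N18369 D31468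
theorem N21115 : nd 21115 = n31469 := ndS (p := 18369) (l := 6) rfl N18369 D31469
theorem N21116 : nd 21116 = n31470 := ndS (p := 18370) (l := 0) rfl N18370 D31470
theorem N21117 : nd 21117 = n31471 := ndS (p := 18370) (l := 2) rfl N18370 D31471
theorem N21118 : nd 21118 = n31472 := ndS (p := 18370) (l := 6) rfl N18370 D31472
theorem N21119 : nd 21119 = n31473 := ndS (p := 18372) (l := 0) rfl N18372 D31473
theorem N21120 : nd 21120 = n31474 := ndS (p := 18372) (l := 2) rfl N18372 D31474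
theorem N21121 : nd 21121 = n31475 := ndS (p := 18376) (l := 6) rfl N18376 D31475
theorem N21122 : nd 21122 = n31476 := ndS (p := 18377) (l := 5) rfl N18377 D31476
theorem N21123 : nd 21123 = n31477 := ndS (p := 18383) (l := 1) rfl N18383 D31477
theorem N21124 : nd 21124 = n31478 := ndS (p := 18383) (l := 6) rfl N18383 D31478
theorem N21125 : nd 21125 = n31479 := ndS (p := 18387) (l := 1) rfl N18387 D31479
theorem N21126 : nd 21126 = n31480 := ndS (p := 18387) (l := 4) rfl N18387 D31480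
theorem N21127 : nd 21127 = n31481 := ndS (p := 18388) (l := 5) rfl N18388 D31481
theorem N21128 : nd 21128 = n31482 := ndS (p := 18391) (l := 1) rfl N18391 D31482
theorem N21129 : nd 21129 = n31483 := ndS (p := 18392) (l := 2) rfl N18392 D31483
theorem N21130 : nd 21130 = n31484 := ndS (p := 18393) (l := 0) rfl N18393 D31484
theorem N21131 : nd 21131 = n31485 := ndS (p := 18393) (l := 6) rfl N18393 D31485
theorem N21132 : nd 21132 = n31486 := ndS (p := 18395) (l := 1) rfl N18395 D31486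
theorem N21133 : nd 21133 = n31487 := ndS (p := 18397) (l := 3) rfl N18397 D31487
theorem N21134 : nd 21134 = n31488 := ndS (p := 18397) (l := 5) rfl N18397 D31488
theorem N21135 : nd 21135 = n31489 := ndS (p := 18398) (l := 6) rfl N18398 D31489
theorem N21136 : nd 21136 = n31490 := ndS (p := 18399) (l := 6) rfl N18399 D31490
theorem N21137 : nd 21137 = n31491 := ndS (p := 18400) (l := 5) rfl N18400 D31491
theorem N21138 : nd 21138 = n31492 := ndS (p := 18402) (l := 0) rfl N18402 D31492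
theorem N21139 : nd 21139 = n31493 := ndS (p := 18402) (l := 5) rfl N18402 D31493
theorem N21140 : nd 21140 = n31494 := ndS (p := 18404) (l := 6) rfl N18404 D31494
theorem N21141 : nd 21141 = n31495 := ndS (p := 18406) (l := 2) rfl N18406 D31495
theorem N21142 : nd 21142 = n31496 := ndS (p := 18406) (l := 5) rfl N18406 D31496
theorem N21143 : nd 21143 = n31497 := ndS (p := 18407) (l := 2) rfl N18407 D31497
theorem N21144 : nd 21144 = n31498 := ndS (p := 18408) (l := 3) rfl N18408 D31498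
theorem N21145 : nd 21145 = n31499 := ndS (p := 18408) (l := 5) rfl N18408 D31499
theorem N21146 : nd 21146 = n31500 := ndS (p := 18412) (l := 2) rfl N18412 D31500
theorem N21147 : nd 21147 = n31501 := ndS (p := 18413) (l := 1) rfl N18413 D31501
theorem N21148 : nd 21148 = n31502 := ndS (p := 18415) (l := 1) rfl N18415 D31502
theorem N21149 : nd 21149 = n31503 := ndS (p := 18417) (l := 1) rfl N18417 D31503
theorem N21150 : nd 21150 = n31504 := ndS (p := 18418) (l := 6) rfl N18418 D31504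
theorem N21151 : nd 21151 = n31505 := ndS (p := 18419) (l := 2) rfl N18419 D31505
theorem N21152 : nd 21152 = n31506 := ndS (p := 18420) (l := 1) rfl N18420 D31506
theorem N21153 : nd 21153 = n31507 := ndS (p := 18420) (l := 2) rfl N18420 D31507
theorem N21154 : nd 21154 = n31508 := ndS (p := 18421) (l := 3) rfl N18421 D31508
theorem N21155 : nd 21155 = n31509 := ndS (p := 18423) (l := 1) rfl N18423 D31509
theorem N21156 : nd 21156 = n31510 := ndS (p := 18424) (l := 0) rfl N18424 D31510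
theorem N21157 : nd 21157 = n31511 := ndS (p := 18424) (l := 2) rfl N18424 D31511
theorem N21158 : nd 21158 = n31513 := ndS (p := 18425) (l := 1) rfl N18425 D31513
theorem N21159 : nd 21159 = n31514 := ndS (p := 18426) (l := 1) rfl N18426 D31514
theorem N21160 : nd 21160 = n31515 := ndS (p := 18427) (l := 0) rfl N18427 D31515
theorem N21161 : nd 21161 = n31516 := ndS (p := 18427) (l := 6) rfl N18427 D31516
theorem N21162 : nd 21162 = n31517 := ndS (p := 18428) (l := 1) rfl N18428 D31517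
theorem N21163 : nd 21163 = n31518 := ndS (p := 18429) (l := 6) rfl N18429 D31518
theorem N21164 : nd 21164 = n31519 := ndS (p := 18430) (l := 1) rfl N18430 D31519
theorem N21165 : nd 21165 = n31520 := ndS (p := 18430) (l := 5) rfl N18430 D31520
theorem N21166 : nd 21166 = n31521 := ndS (p := 18431) (l := 0) rfl N18431 D31521
theorem N21167 : nd 21167 = n31522 := ndS (p := 18431) (l := 2) rfl N18431 D31522
theorem N21168 : nd 21168 = n31523 := ndS (p := 18431) (l := 5) rfl N18431 D31523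
theorem N21169 : nd 21169 = n31524 := ndS (p := 18432) (l := 0) rfl N18432 D31524
theorem N21170 : nd 21170 = n31525 := ndS (p := 18432) (l := 2) rfl N18432 D31525
theorem N21171 : nd 21171 = n31526 := ndS (p := 18432) (l := 6) rfl N18432 D31526
theorem N21172 : nd 21172 = n31527 := ndS (p := 18433) (l := 0) rfl N18433 D31527
theorem N21173 : nd 21173 = n31528 := ndS (p := 18433) (l := 2) rfl N18433 D31528
theorem N21174 : nd 21174 = n31529 := ndS (p := 18436) (l := 5) rfl N18436 D31529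
theorem N21175 : nd 21175 = n31530 := ndS (p := 18437) (l := 6) rfl N18437 D31530
theorem N21176 : nd 21176 = n31531 := ndS (p := 18445) (l := 1) rfl N18445 D31531
theorem N21177 : nd 21177 = n31532 := ndS (p := 18445) (l := 5) rfl N18445 D31532
theorem N21178 : nd 21178 = n31533 := ndS (p := 18449) (l := 1) rfl N18449 D31533
theorem N21179 : nd 21179 = n31534 := ndS (p := 18449) (l := 4) rfl N18449 D31534
theorem N21180 : nd 21180 = n31535 := ndS (p := 18450) (l := 6) rfl N18450 D31535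
theorem N21181 : nd 21181 = n31536 := ndS (p := 18453) (l := 1) rfl N18453 D31536
theorem N21182 : nd 21182 = n31537 := ndS (p := 18454) (l := 2) rfl N18454 D31537
theorem N21183 : nd 21183 = n31538 := ndS (p := 18455) (l := 0) rfl N18455 D31538
theorem N21184 : nd 21184 = n31539 := ndS (p := 18455) (l := 5) rfl N18455 D31539
theorem N21185 : nd 21185 = n31540 := ndS (p := 18456) (l := 1) rfl N18456 D31540
theorem N21186 : nd 21186 = n31541 := ndS (p := 18459) (l := 6) rfl N18459 D31541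
theorem N21187 : nd 21187 = n31542 := ndS (p := 18460) (l := 6) rfl N18460 D31542
theorem N21188 : nd 21188 = n31543 := ndS (p := 18461) (l := 5) rfl N18461 D31543
theorem N21189 : nd 21189 = n31544 := ndS (p := 18462) (l := 5) rfl N18462 D31544
theorem N21190 : nd 21190 = n31545 := ndS (p := 18464) (l := 2) rfl N18464 D31545
theorem N21191 : nd 21191 = n31546 := ndS (p := 18464) (l := 6) rfl N18464 D31546
theorem N21192 : nd 21192 = n31547 := ndS (p := 18465) (l := 2) rfl N18465 D31547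
theorem N21193 : nd 21193 = n31548 := ndS (p := 18466) (l := 3) rfl N18466 D31548
theorem N21194 : nd 21194 = n31549 := ndS (p := 18466) (l := 6) rfl N18466 D31549
theorem N21195 : nd 21195 = n31550 := ndS (p := 18470) (l := 1) rfl N18470 D31550
theorem N21196 : nd 21196 = n31551 := ndS (p := 18471) (l := 1) rfl N18471 D31551
theorem N21197 : nd 21197 = n31552 := ndS (p := 18472) (l := 2) rfl N18472 D31552
theorem N21198 : nd 21198 = n31553 := ndS (p := 18472) (l := 5) rfl N18472 D31553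
theorem N21199 : nd 21199 = n31554 := ndS (p := 18474) (l := 5) rfl N18474 D31554
theorem N21200 : nd 21200 = n31555 := ndS (p := 18478) (l := 1) rfl N18478 D31555
theorem N21201 : nd 21201 = n31556 := ndS (p := 18480) (l := 2) rfl N18480 D31556
theorem N21202 : nd 21202 = n31557 := ndS (p := 18480) (l := 5) rfl N18480 D31557
theorem N21203 : nd 21203 = n31558 := ndS (p := 18481) (l := 1) rfl N18481 D31558
theorem N21204 : nd 21204 = n31559 := ndS (p := 18483) (l := 1) rfl N18483 D31559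
theorem N21205 : nd 21205 = n31560 := ndS (p := 18485) (l := 0) rfl N18485 D31560
theorem N21206 : nd 21206 = n31561 := ndS (p := 18485) (l := 5) rfl N18485 D31561
theorem N21207 : nd 21207 = n31562 := ndS (p := 18486) (l := 1) rfl N18486 D31562
theorem N21208 : nd 21208 = n31563 := ndS (p := 18487) (l := 0) rfl N18487 D31563
theorem N21209 : nd 21209 = n31564 := ndS (p := 18489) (l := 1) rfl N18489 D31564
theorem N21210 : nd 21210 = n31565 := ndS (p := 18490) (l := 0) rfl N18490 D31565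
theorem N21211 : nd 21211 = n31566 := ndS (p := 18490) (l := 2) rfl N18490 D31566
theorem N21212 : nd 21212 = n31567 := ndS (p := 18490) (l := 6) rfl N18490 D31567
theorem N21213 : nd 21213 = n31568 := ndS (p := 18495) (l := 3) rfl N18495 D31568
theorem N21214 : nd 21214 = n31569 := ndS (p := 18495) (l := 6) rfl N18495 D31569
theorem N21215 : nd 21215 = n31570 := ndS (p := 18498) (l := 1) rfl N18498 D31570
theorem N21216 : nd 21216 = n31571 := ndS (p := 18499) (l := 1) rfl N18499 D31571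
theorem N21217 : nd 21217 = n31572 := ndS (p := 18500) (l := 2) rfl N18500 D31572
theorem N21218 : nd 21218 = n31573 := ndS (p := 18500) (l := 6) rfl N18500 D31573
theorem N21219 : nd 21219 = n31574 := ndS (p := 18501) (l := 6) rfl N18501 D31574
theorem N21220 : nd 21220 = n31575 := ndS (p := 18506) (l := 1) rfl N18506 D31575
theorem N21221 : nd 21221 = n31576 := ndS (p := 18507) (l := 2) rfl N18507 D31576
theorem N21222 : nd 21222 = n31577 := ndS (p := 18507) (l := 6) rfl N18507 D31577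
theorem N21223 : nd 21223 = n31578 := ndS (p := 18508) (l := 1) rfl N18508 D31578
theorem N21224 : nd 21224 = n31579 := ndS (p := 18511) (l := 1) rfl N18511 D31579
theorem N21225 : nd 21225 = n31580 := ndS (p := 18512) (l := 0) rfl N18512 D31580
theorem N21226 : nd 21226 = n31581 := ndS (p := 18512) (l := 6) rfl N18512 D31581
theorem N21227 : nd 21227 = n31582 := ndS (p := 18513) (l := 1) rfl N18513 D31582
theorem N21228 : nd 21228 = n31583 := ndS (p := 18516) (l := 1) rfl N18516 D31583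
theorem N21229 : nd 21229 = n31584 := ndS (p := 18517) (l := 0) rfl N18517 D31584
theorem N21230 : nd 21230 = n31585 := ndS (p := 18517) (l := 2) rfl N18517 D31585
theorem N21231 : nd 21231 = n31586 := ndS (p := 18517) (l := 5) rfl N18517 D31586
theorem N21232 : nd 21232 = n31587 := ndS (p := 18518) (l := 0) rfl N18518 D31587
theorem N21233 : nd 21233 = n31588 := ndS (p := 18521) (l := 3) rfl N18521 D31588
theorem N21234 : nd 21234 = n31589 := ndS (p := 18521) (l := 5) rfl N18521 D31589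
theorem N21235 : nd 21235 = n31590 := ndS (p := 18532) (l := 1) rfl N18532 D31590
theorem N21236 : nd 21236 = n31591 := ndS (p := 18536) (l := 1) rfl N18536 D31591
theorem N21237 : nd 21237 = n31592 := ndS (p := 18544) (l := 2) rfl N18544 D31592
theorem N21238 : nd 21238 = n31593 := ndS (p := 18552) (l := 2) rfl N18552 D31593
theorem N21239 : nd 21239 = n31594 := ndS (p := 18556) (l := 3) rfl N18556 D31594
theorem N21240 : nd 21240 = n31595 := ndS (p := 18558) (l := 4) rfl N18558 D31595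
theorem N21241 : nd 21241 = n31596 := ndS (p := 18560) (l := 3) rfl N18560 D31596
theorem N21242 : nd 21242 = n31597 := ndS (p := 18561) (l := 2) rfl N18561 D31597
theorem N21243 : nd 21243 = n31598 := ndS (p := 18562) (l := 3) rfl N18562 D31598
theorem N21244 : nd 21244 = n31599 := ndS (p := 18563) (l := 3) rfl N18563 D31599
theorem N21245 : nd 21245 = n31600 := ndS (p := 18564) (l := 3) rfl N18564 D31600
theorem N21246 : nd 21246 = n31601 := ndS (p := 18565) (l := 3) rfl N18565 D31601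
theorem N21247 : nd 21247 = n31602 := ndS (p := 18566) (l := 2) rfl N18566 D31602
theorem N21248 : nd 21248 = n31603 := ndS (p := 18566) (l := 5) rfl N18566 D31603
theorem N21249 : nd 21249 = n31604 := ndS (p := 18569) (l := 3) rfl N18569 D31604
theorem N21250 : nd 21250 = n31605 := ndS (p := 18570) (l := 3) rfl N18570 D31605
theorem N21251 : nd 21251 = n31606 := ndS (p := 18572) (l := 4) rfl N18572 D31606
theorem N21252 : nd 21252 = n31607 := ndS (p := 18574) (l := 3) rfl N18574 D31607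
theorem N21253 : nd 21253 = n31608 := ndS (p := 18575) (l := 2) rfl N18575 D31608
theorem N21254 : nd 21254 = n31609 := ndS (p := 18576) (l := 3) rfl N18576 D31609
theorem N21255 : nd 21255 = n31610 := ndS (p := 18577) (l := 3) rfl N18577 D31610
theorem N21256 : nd 21256 = n31611 := ndS (p := 18578) (l := 3) rfl N18578 D31611
theorem N21257 : nd 21257 = n31612 := ndS (p := 18579) (l := 2) rfl N18579 D31612
theorem N21258 : nd 21258 = n31613 := ndS (p := 18579) (l := 6) rfl N18579 D31613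
theorem N21259 : nd 21259 = n31614 := ndS (p := 18588) (l := 6) rfl N18588 D31614
theorem N21260 : nd 21260 = n31615 := ndS (p := 18597) (l := 5) rfl N18597 D31615
theorem N21261 : nd 21261 = n31616 := ndS (p := 18604) (l := 4) rfl N18604 D31616
theorem N21262 : nd 21262 = n31617 := ndS (p := 18606) (l := 4) rfl N18606 D31617
theorem N21263 : nd 21263 = n31618 := ndS (p := 18609) (l := 4) rfl N18609 D31618
theorem N21264 : nd 21264 = n31619 := ndS (p := 18610) (l := 4) rfl N18610 D31619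
theorem N21265 : nd 21265 = n31620 := ndS (p := 18621) (l := 1) rfl N18621 D31620
theorem N21266 : nd 21266 = n31621 := ndS (p := 18622) (l := 0) rfl N18622 D31621
theorem N21267 : nd 21267 = n31622 := ndS (p := 18622) (l := 2) rfl N18622 D31622
theorem N21268 : nd 21268 = n31623 := ndS (p := 18622) (l := 5) rfl N18622 D31623
theorem N21269 : nd 21269 = n31624 := ndS (p := 18624) (l := 3) rfl N18624 D31624
theorem N21270 : nd 21270 = n31625 := ndS (p := 18625) (l := 6) rfl N18625 D31625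
theorem N21271 : nd 21271 = n31626 := ndS (p := 18627) (l := 0) rfl N18627 D31626
theorem N21272 : nd 21272 = n31627 := ndS (p := 18627) (l := 5) rfl N18627 D31627
theorem N21273 : nd 21273 = n31628 := ndS (p := 18630) (l := 1) rfl N18630 D31628
theorem N21274 : nd 21274 = n31629 := ndS (p := 18636) (l := 1) rfl N18636 D31629
theorem N21275 : nd 21275 = n31630 := ndS (p := 18637) (l := 0) rfl N18637 D31630
theorem N21276 : nd 21276 = n31631 := ndS (p := 18637) (l := 2) rfl N18637 D31631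
theorem N21277 : nd 21277 = n31632 := ndS (p := 18637) (l := 6) rfl N18637 D31632
theorem N21278 : nd 21278 = n31633 := ndS (p := 18639) (l := 3) rfl N18639 D31633
theorem N21279 : nd 21279 = n31634 := ndS (p := 18640) (l := 5) rfl N18640 D31634
theorem N21280 : nd 21280 = n31635 := ndS (p := 18642) (l := 0) rfl N18642 D31635
theorem N21281 : nd 21281 = n31636 := ndS (p := 18642) (l := 6) rfl N18642 D31636
theorem N21282 : nd 21282 = n31637 := ndS (p := 18645) (l := 1) rfl N18645 D31637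
theorem N21283 : nd 21283 = n31638 := ndS (p := 18648) (l := 4) rfl N18648 D31638
theorem N21284 : nd 21284 = n31639 := ndS (p := 18648) (l := 5) rfl N18648 D31639
theorem N21285 : nd 21285 = n31640 := ndS (p := 18649) (l := 3) rfl N18649 D31640
theorem N21286 : nd 21286 = n31641 := ndS (p := 18649) (l := 5) rfl N18649 D31641
theorem N21287 : nd 21287 = n31642 := ndS (p := 18650) (l := 1) rfl N18650 D31642
theorem N21288 : nd 21288 = n31643 := ndS (p := 18654) (l := 4) rfl N18654 D31643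
theorem N21289 : nd 21289 = n31644 := ndS (p := 18654) (l := 6) rfl N18654 D31644
theorem N21290 : nd 21290 = n31645 := ndS (p := 18655) (l := 3) rfl N18655 D31645
theorem N21291 : nd 21291 = n31646 := ndS (p := 18655) (l := 6) rfl N18655 D31646
theorem N21292 : nd 21292 = n31647 := ndS (p := 18656) (l := 1) rfl N18656 D31647
theorem N21293 : nd 21293 = n31648 := ndS (p := 18658) (l := 2) rfl N18658 D31648
theorem N21294 : nd 21294 = n31649 := ndS (p := 18659) (l := 3) rfl N18659 D31649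
theorem N21295 : nd 21295 = n31650 := ndS (p := 18660) (l := 2) rfl N18660 D31650
theorem N21296 : nd 21296 = n31651 := ndS (p := 18661) (l := 3) rfl N18661 D31651
theorem N21297 : nd 21297 = n31652 := ndS (p := 18663) (l := 2) rfl N18663 D31652
theorem N21298 : nd 21298 = n31653 := ndS (p := 18665) (l := 2) rfl N18665 D31653
theorem N21299 : nd 21299 = n31654 := ndS (p := 18667) (l := 5) rfl N18667 D31654
theorem N21300 : nd 21300 = n31655 := ndS (p := 18672) (l := 6) rfl N18672 D31655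
theorem N21301 : nd 21301 = n31656 := ndS (p := 18676) (l := 1) rfl N18676 D31656
theorem N21302 : nd 21302 = n31657 := ndS (p := 18677) (l := 5) rfl N18677 D31657
theorem N21303 : nd 21303 = n31658 := ndS (p := 18678) (l := 5) rfl N18678 D31658
theorem N21304 : nd 21304 = n31659 := ndS (p := 18680) (l := 5) rfl N18680 D31659
theorem N21305 : nd 21305 = n31660 := ndS (p := 18681) (l := 0) rfl N18681 D31660
theorem N21306 : nd 21306 = n31661 := ndS (p := 18681) (l := 5) rfl N18681 D31661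
theorem N21307 : nd 21307 = n31662 := ndS (p := 18682) (l := 1) rfl N18682 D31662
theorem N21308 : nd 21308 = n31663 := ndS (p := 18683) (l := 5) rfl N18683 D31663
theorem N21309 : nd 21309 = n31664 := ndS (p := 18685) (l := 0) rfl N18685 D31664
theorem N21310 : nd 21310 = n31665 := ndS (p := 18685) (l := 2) rfl N18685 D31665
theorem N21311 : nd 21311 = n31666 := ndS (p := 18685) (l := 5) rfl N18685 D31666
theorem N21312 : nd 21312 = n31667 := ndS (p := 18687) (l := 1) rfl N18687 D31667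
theorem N21313 : nd 21313 = n31668 := ndS (p := 18688) (l := 6) rfl N18688 D31668
theorem N21314 : nd 21314 = n31669 := ndS (p := 18689) (l := 6) rfl N18689 D31669
theorem N21315 : nd 21315 = n31670 := ndS (p := 18691) (l := 6) rfl N18691 D31670
theorem N21316 : nd 21316 = n31671 := ndS (p := 18692) (l := 0) rfl N18692 D31671
theorem N21317 : nd 21317 = n31672 := ndS (p := 18692) (l := 6) rfl N18692 D31672
theorem N21318 : nd 21318 = n31673 := ndS (p := 18693) (l := 1) rfl N18693 D31673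
theorem N21319 : nd 21319 = n31674 := ndS (p := 18694) (l := 6) rfl N18694 D31674
theorem N21320 : nd 21320 = n31675 := ndS (p := 18696) (l := 0) rfl N18696 D31675
theorem N21321 : nd 21321 = n31676 := ndS (p := 18696) (l := 2) rfl N18696 D31676
theorem N21322 : nd 21322 = n31677 := ndS (p := 18696) (l := 6) rfl N18696 D31677
theorem N21323 : nd 21323 = n31678 := ndS (p := 18699) (l := 3) rfl N18699 D31678
theorem N21324 : nd 21324 = n31679 := ndS (p := 18700) (l := 2) rfl N18700 D31679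
theorem N21325 : nd 21325 = n31680 := ndS (p := 18701) (l := 0) rfl N18701 D31680
theorem N21326 : nd 21326 = n31681 := ndS (p := 18703) (l := 3) rfl N18703 D31681
theorem N21327 : nd 21327 = n31682 := ndS (p := 18704) (l := 4) rfl N18704 D31682
theorem N21328 : nd 21328 = n31683 := ndS (p := 18706) (l := 3) rfl N18706 D31683
theorem N21329 : nd 21329 = n31684 := ndS (p := 18707) (l := 2) rfl N18707 D31684
theorem N21330 : nd 21330 = n31685 := ndS (p := 18708) (l := 0) rfl N18708 D31685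
theorem N21331 : nd 21331 = n31686 := ndS (p := 18710) (l := 3) rfl N18710 D31686
theorem N21332 : nd 21332 = n31687 := ndS (p := 18711) (l := 4) rfl N18711 D31687
theorem N21333 : nd 21333 = n31688 := ndS (p := 18712) (l := 2) rfl N18712 D31688
theorem N21334 : nd 21334 = n31689 := ndS (p := 18713) (l := 3) rfl N18713 D31689
theorem N21335 : nd 21335 = n31690 := ndS (p := 18714) (l := 2) rfl N18714 D31690
theorem N21336 : nd 21336 = n31691 := ndS (p := 18715) (l := 3) rfl N18715 D31691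
theorem N21337 : nd 21337 = n31692 := ndS (p := 18718) (l := 0) rfl N18718 D31692
theorem N21338 : nd 21338 = n31693 := ndS (p := 18718) (l := 6) rfl N18718 D31693
theorem N21339 : nd 21339 = n31694 := ndS (p := 18721) (l := 4) rfl N18721 D31694
theorem N21340 : nd 21340 = n31695 := ndS (p := 18721) (l := 6) rfl N18721 D31695
theorem N21341 : nd 21341 = n31696 := ndS (p := 18723) (l := 5) rfl N18723 D31696
theorem N21342 : nd 21342 = n31697 := ndS (p := 18725) (l := 4) rfl N18725 D31697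
theorem N21343 : nd 21343 = n31698 := ndS (p := 18725) (l := 5) rfl N18725 D31698
theorem N21344 : nd 21344 = n31699 := ndS (p := 18726) (l := 3) rfl N18726 D31699
theorem N21345 : nd 21345 = n31700 := ndS (p := 18729) (l := 0) rfl N18729 D31700
theorem N21346 : nd 21346 = n31701 := ndS (p := 18729) (l := 5) rfl N18729 D31701
theorem N21347 : nd 21347 = n31702 := ndS (p := 18732) (l := 4) rfl N18732 D31702
theorem N21348 : nd 21348 = n31703 := ndS (p := 18732) (l := 5) rfl N18732 D31703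
theorem N21349 : nd 21349 = n31704 := ndS (p := 18733) (l := 6) rfl N18733 D31704
theorem N21350 : nd 21350 = n31705 := ndS (p := 18736) (l := 4) rfl N18736 D31705
theorem N21351 : nd 21351 = n31706 := ndS (p := 18736) (l := 6) rfl N18736 D31706
theorem N21352 : nd 21352 = n31707 := ndS (p := 18737) (l := 3) rfl N18737 D31707
theorem N21353 : nd 21353 = n31708 := ndS (p := 18738) (l := 0) rfl N18738 D31708
theorem N21354 : nd 21354 = n31709 := ndS (p := 18738) (l := 5) rfl N18738 D31709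
theorem N21355 : nd 21355 = n31710 := ndS (p := 18742) (l := 1) rfl N18742 D31710
theorem N21356 : nd 21356 = n31711 := ndS (p := 18742) (l := 3) rfl N18742 D31711
theorem N21357 : nd 21357 = n31712 := ndS (p := 18743) (l := 5) rfl N18743 D31712
theorem N21358 : nd 21358 = n31713 := ndS (p := 18744) (l := 1) rfl N18744 D31713
theorem N21359 : nd 21359 = n31714 := ndS (p := 18750) (l := 5) rfl N18750 D31714
theorem N21360 : nd 21360 = n31715 := ndS (p := 18750) (l := 6) rfl N18750 D31715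
theorem N21361 : nd 21361 = n31716 := ndS (p := 18751) (l := 5) rfl N18751 D31716
theorem N21362 : nd 21362 = n31717 := ndS (p := 18752) (l := 1) rfl N18752 D31717
theorem N21363 : nd 21363 = n31718 := ndS (p := 18754) (l := 0) rfl N18754 D31718
theorem N21364 : nd 21364 = n31719 := ndS (p := 18754) (l := 2) rfl N18754 D31719
theorem N21365 : nd 21365 = n31720 := ndS (p := 18755) (l := 1) rfl N18755 D31720
theorem N21366 : nd 21366 = n31721 := ndS (p := 18757) (l := 6) rfl N18757 D31721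
theorem N21367 : nd 21367 = n31722 := ndS (p := 18759) (l := 1) rfl N18759 D31722
theorem N21368 : nd 21368 = n31723 := ndS (p := 18762) (l := 6) rfl N18762 D31723
theorem N21369 : nd 21369 = n31724 := ndS (p := 18763) (l := 6) rfl N18763 D31724
theorem N21370 : nd 21370 = n31725 := ndS (p := 18764) (l := 5) rfl N18764 D31725
theorem N21371 : nd 21371 = n31726 := ndS (p := 18765) (l := 0) rfl N18765 D31726
theorem N21372 : nd 21372 = n31727 := ndS (p := 18768) (l := 1) rfl N18768 D31727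
theorem N21373 : nd 21373 = n31728 := ndS (p := 18769) (l := 2) rfl N18769 D31728
theorem N21374 : nd 21374 = n31729 := ndS (p := 18771) (l := 5) rfl N18771 D31729
theorem N21375 : nd 21375 = n31730 := ndS (p := 18772) (l := 5) rfl N18772 D31730
theorem N21376 : nd 21376 = n31731 := ndS (p := 18772) (l := 6) rfl N18772 D31731
theorem N21377 : nd 21377 = n31732 := ndS (p := 18773) (l := 1) rfl N18773 D31732
theorem N21378 : nd 21378 = n31733 := ndS (p := 18774) (l := 5) rfl N18774 D31733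
theorem N21379 : nd 21379 = n31734 := ndS (p := 18775) (l := 1) rfl N18775 D31734
theorem N21380 : nd 21380 = n31735 := ndS (p := 18775) (l := 6) rfl N18775 D31735
theorem N21381 : nd 21381 = n31736 := ndS (p := 18777) (l := 1) rfl N18777 D31736
theorem N21382 : nd 21382 = n31737 := ndS (p := 18778) (l := 0) rfl N18778 D31737
theorem N21383 : nd 21383 = n31738 := ndS (p := 18778) (l := 2) rfl N18778 D31738
theorem N21384 : nd 21384 = n31739 := ndS (p := 18778) (l := 6) rfl N18778 D31739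
theorem N21385 : nd 21385 = n31740 := ndS (p := 18779) (l := 1) rfl N18779 D31740
theorem N21386 : nd 21386 = n31741 := ndS (p := 18780) (l := 1) rfl N18780 D31741
theorem N21387 : nd 21387 = n31742 := ndS (p := 18781) (l := 6) rfl N18781 D31742
theorem N21388 : nd 21388 = n31743 := ndS (p := 18782) (l := 1) rfl N18782 D31743
theorem N21389 : nd 21389 = n31744 := ndS (p := 18783) (l := 0) rfl N18783 D31744
theorem N21390 : nd 21390 = n31745 := ndS (p := 18783) (l := 2) rfl N18783 D31745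
theorem N21391 : nd 21391 = n31746 := ndS (p := 18783) (l := 5) rfl N18783 D31746
theorem N21392 : nd 21392 = n31747 := ndS (p := 18784) (l := 2) rfl N18784 D31747
theorem N21393 : nd 21393 = n31748 := ndS (p := 18784) (l := 5) rfl N18784 D31748
theorem N21394 : nd 21394 = n31749 := ndS (p := 18784) (l := 6) rfl N18784 D31749
theorem N21395 : nd 21395 = n31750 := ndS (p := 18785) (l := 5) rfl N18785 D31750
theorem N21396 : nd 21396 = n31751 := ndS (p := 18786) (l := 2) rfl N18786 D31751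
theorem N21397 : nd 21397 = n31752 := ndS (p := 18786) (l := 5) rfl N18786 D31752
theorem N21398 : nd 21398 = n31753 := ndS (p := 18787) (l := 5) rfl N18787 D31753
theorem N21399 : nd 21399 = n31754 := ndS (p := 18792) (l := 0) rfl N18792 D31754
theorem N21400 : nd 21400 = n31755 := ndS (p := 18792) (l := 6) rfl N18792 D31755
theorem N21401 : nd 21401 = n31756 := ndS (p := 18793) (l := 3) rfl N18793 D31756
theorem N21402 : nd 21402 = n31757 := ndS (p := 18794) (l := 6) rfl N18794 D31757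
theorem N21403 : nd 21403 = n31758 := ndS (p := 18795) (l := 1) rfl N18795 D31758
theorem N21404 : nd 21404 = n31759 := ndS (p := 18801) (l := 5) rfl N18801 D31759
theorem N21405 : nd 21405 = n31760 := ndS (p := 18801) (l := 6) rfl N18801 D31760
theorem N21406 : nd 21406 = n31761 := ndS (p := 18802) (l := 6) rfl N18802 D31761
theorem N21407 : nd 21407 = n31762 := ndS (p := 18803) (l := 1) rfl N18803 D31762
theorem N21408 : nd 21408 = n31763 := ndS (p := 18805) (l := 0) rfl N18805 D31763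
theorem N21409 : nd 21409 = n31764 := ndS (p := 18805) (l := 2) rfl N18805 D31764
theorem N21410 : nd 21410 = n31765 := ndS (p := 18806) (l := 1) rfl N18806 D31765
theorem N21411 : nd 21411 = n31766 := ndS (p := 18808) (l := 5) rfl N18808 D31766
theorem N21412 : nd 21412 = n31767 := ndS (p := 18809) (l := 1) rfl N18809 D31767
theorem N21413 : nd 21413 = n31768 := ndS (p := 18813) (l := 5) rfl N18813 D31768
theorem N21414 : nd 21414 = n31769 := ndS (p := 18814) (l := 6) rfl N18814 D31769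
theorem N21415 : nd 21415 = n31770 := ndS (p := 18815) (l := 5) rfl N18815 D31770
theorem N21416 : nd 21416 = n31771 := ndS (p := 18819) (l := 1) rfl N18819 D31771
theorem N21417 : nd 21417 = n31772 := ndS (p := 18820) (l := 2) rfl N18820 D31772
theorem N21418 : nd 21418 = n31773 := ndS (p := 18822) (l := 6) rfl N18822 D31773
theorem N21419 : nd 21419 = n31774 := ndS (p := 18823) (l := 5) rfl N18823 D31774
theorem N21420 : nd 21420 = n31775 := ndS (p := 18823) (l := 6) rfl N18823 D31775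
theorem N21421 : nd 21421 = n31776 := ndS (p := 18824) (l := 6) rfl N18824 D31776
theorem N21422 : nd 21422 = n31777 := ndS (p := 18825) (l := 1) rfl N18825 D31777
theorem N21423 : nd 21423 = n31778 := ndS (p := 18826) (l := 1) rfl N18826 D31778
theorem N21424 : nd 21424 = n31779 := ndS (p := 18826) (l := 5) rfl N18826 D31779
theorem N21425 : nd 21425 = n31780 := ndS (p := 18828) (l := 1) rfl N18828 D31780
theorem N21426 : nd 21426 = n31781 := ndS (p := 18829) (l := 0) rfl N18829 D31781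
theorem N21427 : nd 21427 = n31782 := ndS (p := 18829) (l := 2) rfl N18829 D31782
theorem N21428 : nd 21428 = n31783 := ndS (p := 18829) (l := 5) rfl N18829 D31783
theorem N21429 : nd 21429 = n31784 := ndS (p := 18830) (l := 1) rfl N18830 D31784
theorem N21430 : nd 21430 = n31785 := ndS (p := 18831) (l := 1) rfl N18831 D31785
theorem N21431 : nd 21431 = n31786 := ndS (p := 18832) (l := 5) rfl N18832 D31786
theorem N21432 : nd 21432 = n31787 := ndS (p := 18833) (l := 1) rfl N18833 D31787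
theorem N21433 : nd 21433 = n31788 := ndS (p := 18834) (l := 0) rfl N18834 D31788
theorem N21434 : nd 21434 = n31789 := ndS (p := 18834) (l := 2) rfl N18834 D31789
theorem N21435 : nd 21435 = n31790 := ndS (p := 18834) (l := 6) rfl N18834 D31790
theorem N21436 : nd 21436 = n31791 := ndS (p := 18835) (l := 2) rfl N18835 D31791
theorem N21437 : nd 21437 = n31792 := ndS (p := 18835) (l := 5) rfl N18835 D31792
theorem N21438 : nd 21438 = n31793 := ndS (p := 18835) (l := 6) rfl N18835 D31793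
theorem N21439 : nd 21439 = n31794 := ndS (p := 18836) (l := 6) rfl N18836 D31794
theorem N21440 : nd 21440 = n31795 := ndS (p := 18837) (l := 2) rfl N18837 D31795
theorem N21441 : nd 21441 = n31796 := ndS (p := 18837) (l := 6) rfl N18837 D31796
theorem N21442 : nd 21442 = n31797 := ndS (p := 18838) (l := 6) rfl N18838 D31797
theorem N21443 : nd 21443 = n31798 := ndS (p := 18841) (l := 2) rfl N18841 D31798
theorem N21444 : nd 21444 = n31799 := ndS (p := 18842) (l := 1) rfl N18842 D31799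
theorem N21445 : nd 21445 = n31800 := ndS (p := 18842) (l := 4) rfl N18842 D31800
theorem N21446 : nd 21446 = n31801 := ndS (p := 18843) (l := 5) rfl N18843 D31801
theorem N21447 : nd 21447 = n31802 := ndS (p := 18847) (l := 5) rfl N18847 D31802
theorem N21448 : nd 21448 = n31803 := ndS (p := 18849) (l := 1) rfl N18849 D31803
theorem N21449 : nd 21449 = n31804 := ndS (p := 18850) (l := 2) rfl N18850 D31804
theorem N21450 : nd 21450 = n31805 := ndS (p := 18851) (l := 1) rfl N18851 D31805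
theorem N21451 : nd 21451 = n31806 := ndS (p := 18851) (l := 3) rfl N18851 D31806
theorem N21452 : nd 21452 = n31807 := ndS (p := 18851) (l := 4) rfl N18851 D31807
theorem N21453 : nd 21453 = n31808 := ndS (p := 18852) (l := 5) rfl N18852 D31808
theorem N21454 : nd 21454 = n31809 := ndS (p := 18855) (l := 0) rfl N18855 D31809
theorem N21455 : nd 21455 = n31810 := ndS (p := 18855) (l := 4) rfl N18855 D31810
theorem N21456 : nd 21456 = n31811 := ndS (p := 18855) (l := 6) rfl N18855 D31811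
theorem N21457 : nd 21457 = n31812 := ndS (p := 18857) (l := 4) rfl N18857 D31812
theorem N21458 : nd 21458 = n31813 := ndS (p := 18860) (l := 1) rfl N18860 D31813
theorem N21459 : nd 21459 = n31814 := ndS (p := 18862) (l := 0) rfl N18862 D31814
theorem N21460 : nd 21460 = n31815 := ndS (p := 18862) (l := 2) rfl N18862 D31815
theorem N21461 : nd 21461 = n31816 := ndS (p := 18863) (l := 2) rfl N18863 D31816
theorem N21462 : nd 21462 = n31817 := ndS (p := 18864) (l := 3) rfl N18864 D31817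
theorem N21463 : nd 21463 = n31818 := ndS (p := 18866) (l := 5) rfl N18866 D31818
theorem N21464 : nd 21464 = n31819 := ndS (p := 18869) (l := 1) rfl N18869 D31819
theorem N21465 : nd 21465 = n31820 := ndS (p := 18872) (l := 5) rfl N18872 D31820
theorem N21466 : nd 21466 = n31821 := ndS (p := 18873) (l := 1) rfl N18873 D31821
theorem N21467 : nd 21467 = n31822 := ndS (p := 18875) (l := 0) rfl N18875 D31822
theorem N21468 : nd 21468 = n31823 := ndS (p := 18875) (l := 2) rfl N18875 D31823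
theorem N21469 : nd 21469 = n31824 := ndS (p := 18875) (l := 6) rfl N18875 D31824
theorem N21470 : nd 21470 = n31825 := ndS (p := 18876) (l := 6) rfl N18876 D31825
theorem N21471 : nd 21471 = n31826 := ndS (p := 18880) (l := 1) rfl N18880 D31826
theorem N21472 : nd 21472 = n31827 := ndS (p := 18881) (l := 0) rfl N18881 D31827
theorem N21473 : nd 21473 = n31828 := ndS (p := 18881) (l := 2) rfl N18881 D31828
theorem N21474 : nd 21474 = n31829 := ndS (p := 18881) (l := 6) rfl N18881 D31829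
theorem N21475 : nd 21475 = n31830 := ndS (p := 18882) (l := 1) rfl N18882 D31830
theorem N21476 : nd 21476 = n31831 := ndS (p := 18883) (l := 0) rfl N18883 D31831
theorem N21477 : nd 21477 = n31832 := ndS (p := 18883) (l := 2) rfl N18883 D31832
theorem N21478 : nd 21478 = n31833 := ndS (p := 18883) (l := 6) rfl N18883 D31833
theorem N21479 : nd 21479 = n31834 := ndS (p := 18884) (l := 1) rfl N18884 D31834
theorem N21480 : nd 21480 = n31835 := ndS (p := 18885) (l := 1) rfl N18885 D31835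
theorem N21481 : nd 21481 = n31836 := ndS (p := 18886) (l := 3) rfl N18886 D31836
theorem N21482 : nd 21482 = n31837 := ndS (p := 18888) (l := 0) rfl N18888 D31837
theorem N21483 : nd 21483 = n31838 := ndS (p := 18889) (l := 3) rfl N18889 D31838
theorem N21484 : nd 21484 = n31839 := ndS (p := 18891) (l := 0) rfl N18891 D31839
theorem N21485 : nd 21485 = n31840 := ndS (p := 18892) (l := 4) rfl N18892 D31840
theorem N21486 : nd 21486 = n31841 := ndS (p := 18893) (l := 1) rfl N18893 D31841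
theorem N21487 : nd 21487 = n31842 := ndS (p := 18897) (l := 2) rfl N18897 D31842
theorem N21488 : nd 21488 = n31843 := ndS (p := 18898) (l := 6) rfl N18898 D31843
theorem N21489 : nd 21489 = n31844 := ndS (p := 18902) (l := 6) rfl N18902 D31844
theorem N21490 : nd 21490 = n31845 := ndS (p := 18904) (l := 1) rfl N18904 D31845
theorem N21491 : nd 21491 = n31846 := ndS (p := 18905) (l := 2) rfl N18905 D31846
theorem N21492 : nd 21492 = n31847 := ndS (p := 18906) (l := 1) rfl N18906 D31847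
theorem N21493 : nd 21493 = n31848 := ndS (p := 18906) (l := 3) rfl N18906 D31848
theorem N21494 : nd 21494 = n31849 := ndS (p := 18906) (l := 4) rfl N18906 D31849
theorem N21495 : nd 21495 = n31850 := ndS (p := 18907) (l := 6) rfl N18907 D31850
theorem N21496 : nd 21496 = n31851 := ndS (p := 18910) (l := 0) rfl N18910 D31851
theorem N21497 : nd 21497 = n31852 := ndS (p := 18910) (l := 4) rfl N18910 D31852
theorem N21498 : nd 21498 = n31853 := ndS (p := 18910) (l := 5) rfl N18910 D31853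
theorem N21499 : nd 21499 = n31854 := ndS (p := 18912) (l := 4) rfl N18912 D31854
theorem N21500 : nd 21500 = n31855 := ndS (p := 18915) (l := 1) rfl N18915 D31855
theorem N21501 : nd 21501 = n31856 := ndS (p := 18917) (l := 0) rfl N18917 D31856
theorem N21502 : nd 21502 = n31857 := ndS (p := 18917) (l := 2) rfl N18917 D31857
theorem N21503 : nd 21503 = n31858 := ndS (p := 18918) (l := 2) rfl N18918 D31858
theorem N21504 : nd 21504 = n31859 := ndS (p := 18919) (l := 3) rfl N18919 D31859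
theorem N21505 : nd 21505 = n31860 := ndS (p := 18921) (l := 6) rfl N18921 D31860
theorem N21506 : nd 21506 = n31861 := ndS (p := 18924) (l := 1) rfl N18924 D31861
theorem N21507 : nd 21507 = n31862 := ndS (p := 18926) (l := 6) rfl N18926 D31862
theorem N21508 : nd 21508 = n31863 := ndS (p := 18928) (l := 1) rfl N18928 D31863
theorem N21509 : nd 21509 = n31864 := ndS (p := 18930) (l := 0) rfl N18930 D31864
theorem N21510 : nd 21510 = n31865 := ndS (p := 18930) (l := 2) rfl N18930 D31865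
theorem N21511 : nd 21511 = n31866 := ndS (p := 18930) (l := 5) rfl N18930 D31866
theorem N21512 : nd 21512 = n31867 := ndS (p := 18931) (l := 5) rfl N18931 D31867
theorem N21513 : nd 21513 = n31868 := ndS (p := 18935) (l := 1) rfl N18935 D31868
theorem N21514 : nd 21514 = n31869 := ndS (p := 18936) (l := 0) rfl N18936 D31869
theorem N21515 : nd 21515 = n31870 := ndS (p := 18936) (l := 2) rfl N18936 D31870
theorem N21516 : nd 21516 = n31871 := ndS (p := 18936) (l := 5) rfl N18936 D31871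
theorem N21517 : nd 21517 = n31872 := ndS (p := 18937) (l := 1) rfl N18937 D31872
theorem N21518 : nd 21518 = n31873 := ndS (p := 18938) (l := 0) rfl N18938 D31873
theorem N21519 : nd 21519 = n31874 := ndS (p := 18938) (l := 2) rfl N18938 D31874
theorem N21520 : nd 21520 = n31875 := ndS (p := 18938) (l := 5) rfl N18938 D31875
theorem N21521 : nd 21521 = n31876 := ndS (p := 18939) (l := 1) rfl N18939 D31876
theorem N21522 : nd 21522 = n31877 := ndS (p := 18940) (l := 1) rfl N18940 D31877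
theorem N21523 : nd 21523 = n31878 := ndS (p := 18943) (l := 0) rfl N18943 D31878
theorem N21524 : nd 21524 = n31879 := ndS (p := 18944) (l := 3) rfl N18944 D31879
theorem N21525 : nd 21525 = n31880 := ndS (p := 18946) (l := 0) rfl N18946 D31880
theorem N21526 : nd 21526 = n31881 := ndS (p := 18947) (l := 1) rfl N18947 D31881
theorem N21527 : nd 21527 = n31882 := ndS (p := 18951) (l := 3) rfl N18951 D31882
theorem N21528 : nd 21528 = n31883 := ndS (p := 18951) (l := 5) rfl N18951 D31883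
theorem N21529 : nd 21529 = n31884 := ndS (p := 18953) (l := 1) rfl N18953 D31884
theorem N21530 : nd 21530 = n31885 := ndS (p := 18958) (l := 2) rfl N18958 D31885
theorem N21531 : nd 21531 = n31886 := ndS (p := 18961) (l := 1) rfl N18961 D31886
theorem N21532 : nd 21532 = n31887 := ndS (p := 18961) (l := 3) rfl N18961 D31887
theorem N21533 : nd 21533 = n31888 := ndS (p := 18962) (l := 2) rfl N18962 D31888
theorem N21534 : nd 21534 = n31889 := ndS (p := 18962) (l := 4) rfl N18962 D31889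
theorem N21535 : nd 21535 = n31890 := ndS (p := 18963) (l := 0) rfl N18963 D31890
theorem N21536 : nd 21536 = n31891 := ndS (p := 18963) (l := 3) rfl N18963 D31891
theorem N21537 : nd 21537 = n31892 := ndS (p := 18963) (l := 5) rfl N18963 D31892
theorem N21538 : nd 21538 = n31893 := ndS (p := 18964) (l := 2) rfl N18964 D31893
theorem N21539 : nd 21539 = n31894 := ndS (p := 18964) (l := 4) rfl N18964 D31894
theorem N21540 : nd 21540 = n31895 := ndS (p := 18964) (l := 5) rfl N18964 D31895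
theorem N21541 : nd 21541 = n31896 := ndS (p := 18965) (l := 1) rfl N18965 D31896
theorem N21542 : nd 21542 = n31897 := ndS (p := 18966) (l := 1) rfl N18966 D31897
theorem N21543 : nd 21543 = n31898 := ndS (p := 18966) (l := 3) rfl N18966 D31898
theorem N21544 : nd 21544 = n31899 := ndS (p := 18966) (l := 5) rfl N18966 D31899
theorem N21545 : nd 21545 = n31900 := ndS (p := 18967) (l := 5) rfl N18967 D31900
theorem N21546 : nd 21546 = n31901 := ndS (p := 18968) (l := 1) rfl N18968 D31901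
theorem N21547 : nd 21547 = n31902 := ndS (p := 18972) (l := 0) rfl N18972 D31902
theorem N21548 : nd 21548 = n31903 := ndS (p := 18972) (l := 4) rfl N18972 D31903
theorem N21549 : nd 21549 = n31904 := ndS (p := 18972) (l := 6) rfl N18972 D31904
theorem N21550 : nd 21550 = n31905 := ndS (p := 18975) (l := 1) rfl N18975 D31905
theorem N21551 : nd 21551 = n31906 := ndS (p := 18976) (l := 0) rfl N18976 D31906
theorem N21552 : nd 21552 = n31907 := ndS (p := 18976) (l := 2) rfl N18976 D31907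
theorem N21553 : nd 21553 = n31908 := ndS (p := 18979) (l := 3) rfl N18979 D31908
theorem N21554 : nd 21554 = n31909 := ndS (p := 18980) (l := 3) rfl N18980 D31909
theorem N21555 : nd 21555 = n31910 := ndS (p := 18987) (l := 2) rfl N18987 D31910
theorem N21556 : nd 21556 = n31911 := ndS (p := 18988) (l := 4) rfl N18988 D31911
theorem N21557 : nd 21557 = n31912 := ndS (p := 18988) (l := 6) rfl N18988 D31912
theorem N21558 : nd 21558 = n31913 := ndS (p := 18990) (l := 3) rfl N18990 D31913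
theorem N21559 : nd 21559 = n31914 := ndS (p := 18990) (l := 5) rfl N18990 D31914
theorem N21560 : nd 21560 = n31915 := ndS (p := 18992) (l := 1) rfl N18992 D31915
theorem N21561 : nd 21561 = n31916 := ndS (p := 18993) (l := 2) rfl N18993 D31916
theorem N21562 : nd 21562 = n31917 := ndS (p := 18994) (l := 3) rfl N18994 D31917
theorem N21563 : nd 21563 = n31918 := ndS (p := 18997) (l := 6) rfl N18997 D31918
theorem N21564 : nd 21564 = n31919 := ndS (p := 18998) (l := 6) rfl N18998 D31919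
theorem N21565 : nd 21565 = n31920 := ndS (p := 19001) (l := 1) rfl N19001 D31920
theorem N21566 : nd 21566 = n31921 := ndS (p := 19001) (l := 3) rfl N19001 D31921
theorem N21567 : nd 21567 = n31922 := ndS (p := 19001) (l := 5) rfl N19001 D31922
theorem N21568 : nd 21568 = n31923 := ndS (p := 19002) (l := 2) rfl N19002 D31923
theorem N21569 : nd 21569 = n31924 := ndS (p := 19002) (l := 4) rfl N19002 D31924
theorem N21570 : nd 21570 = n31925 := ndS (p := 19002) (l := 5) rfl N19002 D31925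
theorem N21571 : nd 21571 = n31926 := ndS (p := 19002) (l := 6) rfl N19002 D31926
theorem N21572 : nd 21572 = n31927 := ndS (p := 19003) (l := 1) rfl N19003 D31927
theorem N21573 : nd 21573 = n31928 := ndS (p := 19005) (l := 1) rfl N19005 D31928
theorem N21574 : nd 21574 = n31929 := ndS (p := 19010) (l := 2) rfl N19010 D31929
theorem N21575 : nd 21575 = n31930 := ndS (p := 19010) (l := 4) rfl N19010 D31930
theorem N21576 : nd 21576 = n31931 := ndS (p := 19010) (l := 5) rfl N19010 D31931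
theorem N21577 : nd 21577 = n31932 := ndS (p := 19011) (l := 1) rfl N19011 D31932
theorem N21578 : nd 21578 = n31933 := ndS (p := 19012) (l := 4) rfl N19012 D31933
theorem N21579 : nd 21579 = n31934 := ndS (p := 19013) (l := 5) rfl N19013 D31934
theorem N21580 : nd 21580 = n31935 := ndS (p := 19013) (l := 6) rfl N19013 D31935
theorem N21581 : nd 21581 = n31936 := ndS (p := 19016) (l := 6) rfl N19016 D31936
theorem N21582 : nd 21582 = n31937 := ndS (p := 19018) (l := 2) rfl N19018 D31937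
theorem N21583 : nd 21583 = n31938 := ndS (p := 19018) (l := 5) rfl N19018 D31938
theorem N21584 : nd 21584 = n31939 := ndS (p := 19019) (l := 1) rfl N19019 D31939
theorem N21585 : nd 21585 = n31940 := ndS (p := 19021) (l := 0) rfl N19021 D31940
theorem N21586 : nd 21586 = n31941 := ndS (p := 19021) (l := 2) rfl N19021 D31941
theorem N21587 : nd 21587 = n31942 := ndS (p := 19022) (l := 1) rfl N19022 D31942
theorem N21588 : nd 21588 = n31943 := ndS (p := 19022) (l := 2) rfl N19022 D31943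
theorem N21589 : nd 21589 = n31944 := ndS (p := 19024) (l := 0) rfl N19024 D31944
theorem N21590 : nd 21590 = n31945 := ndS (p := 19024) (l := 2) rfl N19024 D31945
theorem N21591 : nd 21591 = n31946 := ndS (p := 19024) (l := 6) rfl N19024 D31946
theorem N21592 : nd 21592 = n31947 := ndS (p := 19025) (l := 1) rfl N19025 D31947
theorem N21593 : nd 21593 = n31948 := ndS (p := 19025) (l := 3) rfl N19025 D31948
theorem N21594 : nd 21594 = n31949 := ndS (p := 19029) (l := 1) rfl N19029 D31949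
theorem N21595 : nd 21595 = n31950 := ndS (p := 19030) (l := 0) rfl N19030 D31950
theorem N21596 : nd 21596 = n31951 := ndS (p := 19030) (l := 5) rfl N19030 D31951
theorem N21597 : nd 21597 = n31952 := ndS (p := 19037) (l := 1) rfl N19037 D31952
theorem N21598 : nd 21598 = n31953 := ndS (p := 19039) (l := 2) rfl N19039 D31953
theorem N21599 : nd 21599 = n31954 := ndS (p := 19039) (l := 4) rfl N19039 D31954
theorem N21600 : nd 21600 = n31955 := ndS (p := 19040) (l := 1) rfl N19040 D31955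
theorem N21601 : nd 21601 = n31956 := ndS (p := 19040) (l := 4) rfl N19040 D31956
theorem N21602 : nd 21602 = n31957 := ndS (p := 19041) (l := 5) rfl N19041 D31957
theorem N21603 : nd 21603 = n31958 := ndS (p := 19041) (l := 6) rfl N19041 D31958
theorem N21604 : nd 21604 = n31959 := ndS (p := 19045) (l := 3) rfl N19045 D31959
theorem N21605 : nd 21605 = n31960 := ndS (p := 19045) (l := 5) rfl N19045 D31960
theorem N21606 : nd 21606 = n31961 := ndS (p := 19045) (l := 6) rfl N19045 D31961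
theorem N21607 : nd 21607 = n31962 := ndS (p := 19046) (l := 1) rfl N19046 D31962
theorem N21608 : nd 21608 = n31963 := ndS (p := 19047) (l := 5) rfl N19047 D31963
theorem N21609 : nd 21609 = n31964 := ndS (p := 19048) (l := 1) rfl N19048 D31964
theorem N21610 : nd 21610 = n31965 := ndS (p := 19048) (l := 6) rfl N19048 D31965
theorem N21611 : nd 21611 = n31966 := ndS (p := 19049) (l := 5) rfl N19049 D31966
theorem N21612 : nd 21612 = n31967 := ndS (p := 19051) (l := 1) rfl N19051 D31967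
theorem N21613 : nd 21613 = n31968 := ndS (p := 19052) (l := 1) rfl N19052 D31968
theorem N21614 : nd 21614 = n31969 := ndS (p := 19053) (l := 3) rfl N19053 D31969
theorem N21615 : nd 21615 = n31970 := ndS (p := 19054) (l := 0) rfl N19054 D31970
theorem N21616 : nd 21616 = n31971 := ndS (p := 19054) (l := 2) rfl N19054 D31971
theorem N21617 : nd 21617 = n31972 := ndS (p := 19055) (l := 0) rfl N19055 D31972
theorem N21618 : nd 21618 = n31973 := ndS (p := 19056) (l := 0) rfl N19056 D31973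
theorem N21619 : nd 21619 = n31974 := ndS (p := 19056) (l := 2) rfl N19056 D31974
theorem N21620 : nd 21620 = n31975 := ndS (p := 19056) (l := 6) rfl N19056 D31975
theorem N21621 : nd 21621 = n31976 := ndS (p := 19057) (l := 6) rfl N19057 D31976
theorem N21622 : nd 21622 = n31977 := ndS (p := 19060) (l := 1) rfl N19060 D31977
theorem N21623 : nd 21623 = n31978 := ndS (p := 19060) (l := 3) rfl N19060 D31978
theorem N21624 : nd 21624 = n31979 := ndS (p := 19060) (l := 6) rfl N19060 D31979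
theorem N21625 : nd 21625 = n31980 := ndS (p := 19061) (l := 1) rfl N19061 D31980
theorem N21626 : nd 21626 = n31981 := ndS (p := 19062) (l := 4) rfl N19062 D31981
theorem N21627 : nd 21627 = n31982 := ndS (p := 19062) (l := 6) rfl N19062 D31982
theorem N21628 : nd 21628 = n31983 := ndS (p := 19064) (l := 1) rfl N19064 D31983
theorem N21629 : nd 21629 = n31984 := ndS (p := 19066) (l := 0) rfl N19066 D31984
theorem N21630 : nd 21630 = n31985 := ndS (p := 19066) (l := 4) rfl N19066 D31985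
theorem N21631 : nd 21631 = n31986 := ndS (p := 19067) (l := 3) rfl N19067 D31986
theorem N21632 : nd 21632 = n31987 := ndS (p := 19067) (l := 5) rfl N19067 D31987
theorem N21633 : nd 21633 = n31988 := ndS (p := 19069) (l := 2) rfl N19069 D31988
theorem N21634 : nd 21634 = n31989 := ndS (p := 19069) (l := 5) rfl N19069 D31989
theorem N21635 : nd 21635 = n31990 := ndS (p := 19069) (l := 6) rfl N19069 D31990
theorem N21636 : nd 21636 = n31991 := ndS (p := 19070) (l := 1) rfl N19070 D31991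
theorem N21637 : nd 21637 = n31992 := ndS (p := 19072) (l := 0) rfl N19072 D31992
theorem N21638 : nd 21638 = n31993 := ndS (p := 19072) (l := 2) rfl N19072 D31993
theorem N21639 : nd 21639 = n31994 := ndS (p := 19073) (l := 1) rfl N19073 D31994
theorem N21640 : nd 21640 = n31995 := ndS (p := 19073) (l := 5) rfl N19073 D31995
theorem N21641 : nd 21641 = n31996 := ndS (p := 19074) (l := 1) rfl N19074 D31996
theorem N21642 : nd 21642 = n31997 := ndS (p := 19074) (l := 6) rfl N19074 D31997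
theorem N21643 : nd 21643 = n31998 := ndS (p := 19075) (l := 6) rfl N19075 D31998
theorem N21644 : nd 21644 = n31999 := ndS (p := 19076) (l := 1) rfl N19076 D31999
theorem N21645 : nd 21645 = n32000 := ndS (p := 19080) (l := 0) rfl N19080 D32000
theorem N21646 : nd 21646 = n32001 := ndS (p := 19083) (l := 0) rfl N19083 D32001
theorem N21647 : nd 21647 = n32002 := ndS (p := 19084) (l := 1) rfl N19084 D32002
theorem N21648 : nd 21648 = n32003 := ndS (p := 19085) (l := 3) rfl N19085 D32003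
theorem N21649 : nd 21649 = n32004 := ndS (p := 19086) (l := 0) rfl N19086 D32004
theorem N21650 : nd 21650 = n32005 := ndS (p := 19086) (l := 2) rfl N19086 D32005
theorem N21651 : nd 21651 = n32006 := ndS (p := 19086) (l := 5) rfl N19086 D32006
theorem N21652 : nd 21652 = n32007 := ndS (p := 19087) (l := 1) rfl N19087 D32007
theorem N21653 : nd 21653 = n32008 := ndS (p := 19087) (l := 3) rfl N19087 D32008
theorem N21654 : nd 21654 = n32009 := ndS (p := 19088) (l := 2) rfl N19088 D32009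
theorem N21655 : nd 21655 = n32010 := ndS (p := 19088) (l := 4) rfl N19088 D32010
theorem N21656 : nd 21656 = n32011 := ndS (p := 19090) (l := 0) rfl N19090 D32011
theorem N21657 : nd 21657 = n32012 := ndS (p := 19090) (l := 6) rfl N19090 D32012
theorem N21658 : nd 21658 = n32013 := ndS (p := 19091) (l := 3) rfl N19091 D32013
theorem N21659 : nd 21659 = n32014 := ndS (p := 19091) (l := 6) rfl N19091 D32014
theorem N21660 : nd 21660 = n32015 := ndS (p := 19093) (l := 1) rfl N19093 D32015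
theorem N21661 : nd 21661 = n32018 := ndS (p := 19099) (l := 2) rfl N19099 D32018
theorem N21662 : nd 21662 = n32019 := ndS (p := 19101) (l := 1) rfl N19101 D32019
theorem N21663 : nd 21663 = n32020 := ndS (p := 19101) (l := 3) rfl N19101 D32020
theorem N21664 : nd 21664 = n32021 := ndS (p := 19102) (l := 2) rfl N19102 D32021
theorem N21665 : nd 21665 = n32022 := ndS (p := 19102) (l := 4) rfl N19102 D32022
theorem N21666 : nd 21666 = n32023 := ndS (p := 19103) (l := 3) rfl N19103 D32023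
theorem N21667 : nd 21667 = n32024 := ndS (p := 19103) (l := 6) rfl N19103 D32024
theorem N21668 : nd 21668 = n32025 := ndS (p := 19104) (l := 2) rfl N19104 D32025
theorem N21669 : nd 21669 = n32026 := ndS (p := 19104) (l := 4) rfl N19104 D32026
theorem N21670 : nd 21670 = n32027 := ndS (p := 19104) (l := 6) rfl N19104 D32027
theorem N21671 : nd 21671 = n32028 := ndS (p := 19105) (l := 1) rfl N19105 D32028
theorem N21672 : nd 21672 = n32029 := ndS (p := 19106) (l := 1) rfl N19106 D32029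
theorem N21673 : nd 21673 = n32030 := ndS (p := 19106) (l := 3) rfl N19106 D32030
theorem N21674 : nd 21674 = n32031 := ndS (p := 19106) (l := 6) rfl N19106 D32031
theorem N21675 : nd 21675 = n32032 := ndS (p := 19107) (l := 6) rfl N19107 D32032
theorem N21676 : nd 21676 = n32033 := ndS (p := 19111) (l := 0) rfl N19111 D32033
theorem N21677 : nd 21677 = n32034 := ndS (p := 19111) (l := 4) rfl N19111 D32034
theorem N21678 : nd 21678 = n32035 := ndS (p := 19111) (l := 5) rfl N19111 D32035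
theorem N21679 : nd 21679 = n32036 := ndS (p := 19114) (l := 1) rfl N19114 D32036
theorem N21680 : nd 21680 = n32037 := ndS (p := 19118) (l := 3) rfl N19118 D32037
theorem N21681 : nd 21681 = n32038 := ndS (p := 19119) (l := 3) rfl N19119 D32038
theorem N21682 : nd 21682 = n32039 := ndS (p := 19126) (l := 2) rfl N19126 D32039
theorem N21683 : nd 21683 = n32040 := ndS (p := 19127) (l := 5) rfl N19127 D32040
theorem N21684 : nd 21684 = n32041 := ndS (p := 19129) (l := 3) rfl N19129 D32041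
theorem N21685 : nd 21685 = n32042 := ndS (p := 19129) (l := 6) rfl N19129 D32042
theorem N21686 : nd 21686 = n32043 := ndS (p := 19131) (l := 1) rfl N19131 D32043
theorem N21687 : nd 21687 = n32044 := ndS (p := 19132) (l := 2) rfl N19132 D32044
theorem N21688 : nd 21688 = n32045 := ndS (p := 19133) (l := 3) rfl N19133 D32045
theorem N21689 : nd 21689 = n32046 := ndS (p := 19136) (l := 5) rfl N19136 D32046
theorem N21690 : nd 21690 = n32047 := ndS (p := 19137) (l := 5) rfl N19137 D32047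
theorem N21691 : nd 21691 = n32048 := ndS (p := 19140) (l := 1) rfl N19140 D32048
theorem N21692 : nd 21692 = n32049 := ndS (p := 19140) (l := 3) rfl N19140 D32049
theorem N21693 : nd 21693 = n32050 := ndS (p := 19140) (l := 6) rfl N19140 D32050
theorem N21694 : nd 21694 = n32051 := ndS (p := 19141) (l := 2) rfl N19141 D32051
theorem N21695 : nd 21695 = n32052 := ndS (p := 19141) (l := 4) rfl N19141 D32052
theorem N21696 : nd 21696 = n32053 := ndS (p := 19141) (l := 5) rfl N19141 D32053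
theorem N21697 : nd 21697 = n32054 := ndS (p := 19141) (l := 6) rfl N19141 D32054
theorem N21698 : nd 21698 = n32055 := ndS (p := 19143) (l := 1) rfl N19143 D32055
theorem N21699 : nd 21699 = n32056 := ndS (p := 19144) (l := 1) rfl N19144 D32056
theorem N21700 : nd 21700 = n32057 := ndS (p := 19149) (l := 4) rfl N19149 D32057
theorem N21701 : nd 21701 = n32058 := ndS (p := 19149) (l := 6) rfl N19149 D32058
theorem N21702 : nd 21702 = n32059 := ndS (p := 19151) (l := 4) rfl N19151 D32059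
theorem N21703 : nd 21703 = n32060 := ndS (p := 19152) (l := 5) rfl N19152 D32060
theorem N21704 : nd 21704 = n32061 := ndS (p := 19152) (l := 6) rfl N19152 D32061
theorem N21705 : nd 21705 = n32062 := ndS (p := 19158) (l := 0) rfl N19158 D32062
theorem N21706 : nd 21706 = n32063 := ndS (p := 19158) (l := 2) rfl N19158 D32063
theorem N21707 : nd 21707 = n32064 := ndS (p := 19159) (l := 1) rfl N19159 D32064
theorem N21708 : nd 21708 = n32065 := ndS (p := 19159) (l := 2) rfl N19159 D32065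
theorem N21709 : nd 21709 = n32066 := ndS (p := 19161) (l := 2) rfl N19161 D32066
theorem N21710 : nd 21710 = n32067 := ndS (p := 19162) (l := 1) rfl N19162 D32067
theorem N21711 : nd 21711 = n32068 := ndS (p := 19162) (l := 3) rfl N19162 D32068
theorem N21712 : nd 21712 = n32069 := ndS (p := 19166) (l := 1) rfl N19166 D32069
theorem N21713 : nd 21713 = n32070 := ndS (p := 19167) (l := 0) rfl N19167 D32070
theorem N21714 : nd 21714 = n32071 := ndS (p := 19174) (l := 1) rfl N19174 D32071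
theorem N21715 : nd 21715 = n32072 := ndS (p := 19176) (l := 2) rfl N19176 D32072
theorem N21716 : nd 21716 = n32073 := ndS (p := 19176) (l := 4) rfl N19176 D32073
theorem N21717 : nd 21717 = n32074 := ndS (p := 19177) (l := 1) rfl N19177 D32074
theorem N21718 : nd 21718 = n32075 := ndS (p := 19177) (l := 4) rfl N19177 D32075
theorem N21719 : nd 21719 = n32076 := ndS (p := 19178) (l := 5) rfl N19178 D32076
theorem N21720 : nd 21720 = n32077 := ndS (p := 19178) (l := 6) rfl N19178 D32077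
theorem N21721 : nd 21721 = n32078 := ndS (p := 19182) (l := 3) rfl N19182 D32078
theorem N21722 : nd 21722 = n32079 := ndS (p := 19182) (l := 5) rfl N19182 D32079
theorem N21723 : nd 21723 = n32080 := ndS (p := 19182) (l := 6) rfl N19182 D32080
theorem N21724 : nd 21724 = n32081 := ndS (p := 19183) (l := 6) rfl N19183 D32081
theorem N21725 : nd 21725 = n32082 := ndS (p := 19185) (l := 6) rfl N19185 D32082
theorem N21726 : nd 21726 = n32083 := ndS (p := 19186) (l := 1) rfl N19186 D32083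
theorem N21727 : nd 21727 = n32084 := ndS (p := 19186) (l := 5) rfl N19186 D32084
theorem N21728 : nd 21728 = n32085 := ndS (p := 19187) (l := 1) rfl N19187 D32085
theorem N21729 : nd 21729 = n32086 := ndS (p := 19189) (l := 1) rfl N19189 D32086
theorem N21730 : nd 21730 = n32087 := ndS (p := 19191) (l := 3) rfl N19191 D32087
theorem N21731 : nd 21731 = n32088 := ndS (p := 19192) (l := 2) rfl N19192 D32088
theorem N21732 : nd 21732 = n32089 := ndS (p := 19193) (l := 0) rfl N19193 D32089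
theorem N21733 : nd 21733 = n32090 := ndS (p := 19193) (l := 2) rfl N19193 D32090
theorem N21734 : nd 21734 = n32091 := ndS (p := 19193) (l := 5) rfl N19193 D32091
theorem N21735 : nd 21735 = n32092 := ndS (p := 19194) (l := 5) rfl N19194 D32092
theorem N21736 : nd 21736 = n32093 := ndS (p := 19197) (l := 3) rfl N19197 D32093
theorem N21737 : nd 21737 = n32094 := ndS (p := 19197) (l := 5) rfl N19197 D32094
theorem N21738 : nd 21738 = n32095 := ndS (p := 19199) (l := 4) rfl N19199 D32095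
theorem N21739 : nd 21739 = n32096 := ndS (p := 19199) (l := 5) rfl N19199 D32096
theorem N21740 : nd 21740 = n32097 := ndS (p := 19201) (l := 1) rfl N19201 D32097
theorem N21741 : nd 21741 = n32098 := ndS (p := 19203) (l := 0) rfl N19203 D32098
theorem N21742 : nd 21742 = n32099 := ndS (p := 19203) (l := 4) rfl N19203 D32099
theorem N21743 : nd 21743 = n32100 := ndS (p := 19204) (l := 3) rfl N19204 D32100
theorem N21744 : nd 21744 = n32101 := ndS (p := 19205) (l := 2) rfl N19205 D32101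
theorem N21745 : nd 21745 = n32102 := ndS (p := 19207) (l := 1) rfl N19207 D32102
theorem N21746 : nd 21746 = n32103 := ndS (p := 19207) (l := 6) rfl N19207 D32103
theorem N21747 : nd 21747 = n32104 := ndS (p := 19208) (l := 1) rfl N19208 D32104
theorem N21748 : nd 21748 = n32105 := ndS (p := 19208) (l := 5) rfl N19208 D32105
theorem N21749 : nd 21749 = n32106 := ndS (p := 19209) (l := 5) rfl N19209 D32106
theorem N21750 : nd 21750 = n32107 := ndS (p := 19210) (l := 1) rfl N19210 D32107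
theorem N21751 : nd 21751 = n32108 := ndS (p := 19214) (l := 0) rfl N19214 D32108
theorem N21752 : nd 21752 = n32109 := ndS (p := 19217) (l := 0) rfl N19217 D32109
theorem N21753 : nd 21753 = n32110 := ndS (p := 19218) (l := 1) rfl N19218 D32110
theorem N21754 : nd 21754 = n32111 := ndS (p := 19219) (l := 3) rfl N19219 D32111
theorem N21755 : nd 21755 = n32112 := ndS (p := 19220) (l := 2) rfl N19220 D32112
theorem N21756 : nd 21756 = n32113 := ndS (p := 19221) (l := 1) rfl N19221 D32113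
theorem N21757 : nd 21757 = n32114 := ndS (p := 19221) (l := 3) rfl N19221 D32114
theorem N21758 : nd 21758 = n32115 := ndS (p := 19222) (l := 2) rfl N19222 D32115
theorem N21759 : nd 21759 = n32116 := ndS (p := 19222) (l := 4) rfl N19222 D32116
theorem N21760 : nd 21760 = n32117 := ndS (p := 19229) (l := 4) rfl N19229 D32117
theorem N21761 : nd 21761 = n32118 := ndS (p := 19231) (l := 6) rfl N19231 D32118
theorem N21762 : nd 21762 = n32119 := ndS (p := 19232) (l := 2) rfl N19232 D32119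
theorem N21763 : nd 21763 = n32120 := ndS (p := 19233) (l := 5) rfl N19233 D32120
theorem N21764 : nd 21764 = n32121 := ndS (p := 19240) (l := 2) rfl N19240 D32121
theorem N21765 : nd 21765 = n32122 := ndS (p := 19244) (l := 2) rfl N19244 D32122
theorem N21766 : nd 21766 = n32123 := ndS (p := 19245) (l := 1) rfl N19245 D32123
theorem N21767 : nd 21767 = n32124 := ndS (p := 19246) (l := 4) rfl N19246 D32124
theorem N21768 : nd 21768 = n32125 := ndS (p := 19248) (l := 4) rfl N19248 D32125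
theorem N21769 : nd 21769 = n32126 := ndS (p := 19250) (l := 3) rfl N19250 D32126
theorem N21770 : nd 21770 = n32127 := ndS (p := 19250) (l := 5) rfl N19250 D32127
theorem N21771 : nd 21771 = n32128 := ndS (p := 19252) (l := 1) rfl N19252 D32128
theorem N21772 : nd 21772 = n32129 := ndS (p := 19255) (l := 1) rfl N19255 D32129
theorem N21773 : nd 21773 = n32130 := ndS (p := 19255) (l := 4) rfl N19255 D32130
theorem N21774 : nd 21774 = n32131 := ndS (p := 19257) (l := 3) rfl N19257 D32131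
theorem N21775 : nd 21775 = n32132 := ndS (p := 19264) (l := 2) rfl N19264 D32132
theorem N21776 : nd 21776 = n32133 := ndS (p := 19265) (l := 2) rfl N19265 D32133
theorem N21777 : nd 21777 = n32134 := ndS (p := 19269) (l := 1) rfl N19269 D32134
theorem N21778 : nd 21778 = n32135 := ndS (p := 19272) (l := 4) rfl N19272 D32135
theorem N21779 : nd 21779 = n32136 := ndS (p := 19273) (l := 4) rfl N19273 D32136
theorem N21780 : nd 21780 = n32137 := ndS (p := 19274) (l := 1) rfl N19274 D32137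
theorem N21781 : nd 21781 = n32138 := ndS (p := 19274) (l := 4) rfl N19274 D32138
theorem N21782 : nd 21782 = n32139 := ndS (p := 19274) (l := 5) rfl N19274 D32139
theorem N21783 : nd 21783 = n32140 := ndS (p := 19276) (l := 1) rfl N19276 D32140
theorem N21784 : nd 21784 = n32141 := ndS (p := 19283) (l := 0) rfl N19283 D32141
theorem N21785 : nd 21785 = n32142 := ndS (p := 19283) (l := 4) rfl N19283 D32142
theorem N21786 : nd 21786 = n32143 := ndS (p := 19283) (l := 6) rfl N19283 D32143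
theorem N21787 : nd 21787 = n32144 := ndS (p := 19284) (l := 5) rfl N19284 D32144
theorem N21788 : nd 21788 = n32145 := ndS (p := 19285) (l := 1) rfl N19285 D32145
theorem N21789 : nd 21789 = n32146 := ndS (p := 19287) (l := 2) rfl N19287 D32146
theorem N21790 : nd 21790 = n32147 := ndS (p := 19288) (l := 4) rfl N19288 D32147
theorem N21791 : nd 21791 = n32148 := ndS (p := 19297) (l := 2) rfl N19297 D32148
theorem N21792 : nd 21792 = n32149 := ndS (p := 19298) (l := 2) rfl N19298 D32149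
theorem N21793 : nd 21793 = n32150 := ndS (p := 19299) (l := 3) rfl N19299 D32150
theorem N21794 : nd 21794 = n32151 := ndS (p := 19299) (l := 6) rfl N19299 D32151
theorem N21795 : nd 21795 = n32152 := ndS (p := 19309) (l := 3) rfl N19309 D32152
theorem N21796 : nd 21796 = n32153 := ndS (p := 19310) (l := 2) rfl N19310 D32153
theorem N21797 : nd 21797 = n32154 := ndS (p := 19313) (l := 5) rfl N19313 D32154
theorem N21798 : nd 21798 = n32155 := ndS (p := 19316) (l := 2) rfl N19316 D32155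
theorem N21799 : nd 21799 = n32156 := ndS (p := 19318) (l := 3) rfl N19318 D32156
theorem N21800 : nd 21800 = n32157 := ndS (p := 19322) (l := 4) rfl N19322 D32157
theorem N21801 : nd 21801 = n32158 := ndS (p := 19323) (l := 5) rfl N19323 D32158
theorem N21802 : nd 21802 = n32159 := ndS (p := 19325) (l := 6) rfl N19325 D32159
theorem N21803 : nd 21803 = n32160 := ndS (p := 19326) (l := 1) rfl N19326 D32160
theorem N21804 : nd 21804 = n32161 := ndS (p := 19329) (l := 5) rfl N19329 D32161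
theorem N21805 : nd 21805 = n32162 := ndS (p := 19331) (l := 1) rfl N19331 D32162
theorem N21806 : nd 21806 = n32163 := ndS (p := 19341) (l := 2) rfl N19341 D32163
theorem N21807 : nd 21807 = n32164 := ndS (p := 19341) (l := 4) rfl N19341 D32164
theorem N21808 : nd 21808 = n32165 := ndS (p := 19341) (l := 6) rfl N19341 D32165
theorem N21809 : nd 21809 = n32166 := ndS (p := 19342) (l := 5) rfl N19342 D32166
theorem N21810 : nd 21810 = n32167 := ndS (p := 19345) (l := 4) rfl N19345 D32167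
theorem N21811 : nd 21811 = n32168 := ndS (p := 19345) (l := 6) rfl N19345 D32168
theorem N21812 : nd 21812 = n32169 := ndS (p := 19346) (l := 3) rfl N19346 D32169
theorem N21813 : nd 21813 = n32170 := ndS (p := 19346) (l := 6) rfl N19346 D32170
theorem N21814 : nd 21814 = n32171 := ndS (p := 19347) (l := 5) rfl N19347 D32171
theorem N21815 : nd 21815 = n32172 := ndS (p := 19351) (l := 0) rfl N19351 D32172
theorem N21816 : nd 21816 = n32173 := ndS (p := 19354) (l := 2) rfl N19354 D32173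
theorem N21817 : nd 21817 = n32174 := ndS (p := 19355) (l := 5) rfl N19355 D32174
theorem N21818 : nd 21818 = n32175 := ndS (p := 19356) (l := 1) rfl N19356 D32175
theorem N21819 : nd 21819 = n32176 := ndS (p := 19359) (l := 3) rfl N19359 D32176
theorem N21820 : nd 21820 = n32177 := ndS (p := 19361) (l := 6) rfl N19361 D32177
theorem N21821 : nd 21821 = n32178 := ndS (p := 19365) (l := 3) rfl N19365 D32178
theorem N21822 : nd 21822 = n32179 := ndS (p := 19365) (l := 6) rfl N19365 D32179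
theorem N21823 : nd 21823 = n32180 := ndS (p := 19367) (l := 4) rfl N19367 D32180
theorem N21824 : nd 21824 = n32181 := ndS (p := 19368) (l := 1) rfl N19368 D32181
theorem N21825 : nd 21825 = n32182 := ndS (p := 19374) (l := 1) rfl N19374 D32182
theorem N21826 : nd 21826 = n32183 := ndS (p := 19376) (l := 0) rfl N19376 D32183
theorem N21827 : nd 21827 = n32184 := ndS (p := 19383) (l := 2) rfl N19383 D32184
theorem N21828 : nd 21828 = n32185 := ndS (p := 19383) (l := 5) rfl N19383 D32185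
theorem N21829 : nd 21829 = n32186 := ndS (p := 19389) (l := 6) rfl N19389 D32186
theorem N21830 : nd 21830 = n32187 := ndS (p := 19393) (l := 4) rfl N19393 D32187
theorem N21831 : nd 21831 = n32188 := ndS (p := 19395) (l := 6) rfl N19395 D32188
theorem N21832 : nd 21832 = n32189 := ndS (p := 19400) (l := 5) rfl N19400 D32189
theorem N21833 : nd 21833 = n32190 := ndS (p := 19401) (l := 5) rfl N19401 D32190
theorem N21834 : nd 21834 = n32191 := ndS (p := 19402) (l := 1) rfl N19402 D32191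
theorem N21835 : nd 21835 = n32192 := ndS (p := 19404) (l := 5) rfl N19404 D32192
theorem N21836 : nd 21836 = n32193 := ndS (p := 19404) (l := 6) rfl N19404 D32193
theorem N21837 : nd 21837 = n32194 := ndS (p := 19405) (l := 1) rfl N19405 D32194
theorem N21838 : nd 21838 = n32195 := ndS (p := 19406) (l := 5) rfl N19406 D32195
theorem N21839 : nd 21839 = n32196 := ndS (p := 19407) (l := 2) rfl N19407 D32196
theorem N21840 : nd 21840 = n32197 := ndS (p := 19408) (l := 0) rfl N19408 D32197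
theorem N21841 : nd 21841 = n32198 := ndS (p := 19409) (l := 1) rfl N19409 D32198
theorem N21842 : nd 21842 = n32199 := ndS (p := 19412) (l := 6) rfl N19412 D32199
theorem N21843 : nd 21843 = n32200 := ndS (p := 19415) (l := 5) rfl N19415 D32200
theorem N21844 : nd 21844 = n32201 := ndS (p := 19417) (l := 5) rfl N19417 D32201
theorem N21845 : nd 21845 = n32202 := ndS (p := 19422) (l := 1) rfl N19422 D32202
theorem N21846 : nd 21846 = n32203 := ndS (p := 19422) (l := 5) rfl N19422 D32203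
theorem N21847 : nd 21847 = n32204 := ndS (p := 19425) (l := 3) rfl N19425 D32204
theorem N21848 : nd 21848 = n32205 := ndS (p := 19427) (l := 5) rfl N19427 D32205
theorem N21849 : nd 21849 = n32206 := ndS (p := 19430) (l := 6) rfl N19430 D32206
theorem N21850 : nd 21850 = n32207 := ndS (p := 19431) (l := 1) rfl N19431 D32207
theorem N21851 : nd 21851 = n32208 := ndS (p := 19435) (l := 3) rfl N19435 D32208
theorem N21852 : nd 21852 = n32209 := ndS (p := 19435) (l := 5) rfl N19435 D32209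
theorem N21853 : nd 21853 = n32210 := ndS (p := 19435) (l := 6) rfl N19435 D32210
theorem N21854 : nd 21854 = n32211 := ndS (p := 19438) (l := 6) rfl N19438 D32211
theorem N21855 : nd 21855 = n32212 := ndS (p := 19440) (l := 5) rfl N19440 D32212
theorem N21856 : nd 21856 = n32213 := ndS (p := 19442) (l := 1) rfl N19442 D32213
theorem N21857 : nd 21857 = n32214 := ndS (p := 19448) (l := 1) rfl N19448 D32214
theorem N21858 : nd 21858 = n32215 := ndS (p := 19448) (l := 5) rfl N19448 D32215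
theorem N21859 : nd 21859 = n32216 := ndS (p := 19449) (l := 1) rfl N19449 D32216
theorem N21860 : nd 21860 = n32217 := ndS (p := 19455) (l := 5) rfl N19455 D32217
theorem N21861 : nd 21861 = n32218 := ndS (p := 19456) (l := 3) rfl N19456 D32218
theorem N21862 : nd 21862 = n32219 := ndS (p := 19458) (l := 5) rfl N19458 D32219
theorem N21863 : nd 21863 = n32220 := ndS (p := 19460) (l := 5) rfl N19460 D32220
theorem N21864 : nd 21864 = n32221 := ndS (p := 19461) (l := 6) rfl N19461 D32221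
theorem N21865 : nd 21865 = n32222 := ndS (p := 19468) (l := 5) rfl N19468 D32222
theorem N21866 : nd 21866 = n32223 := ndS (p := 19474) (l := 2) rfl N19474 D32223
theorem N21867 : nd 21867 = n32224 := ndS (p := 19475) (l := 6) rfl N19475 D32224
theorem N21868 : nd 21868 = n32225 := ndS (p := 19480) (l := 2) rfl N19480 D32225
theorem N21869 : nd 21869 = n32226 := ndS (p := 19481) (l := 4) rfl N19481 D32226
theorem N21870 : nd 21870 = n32227 := ndS (p := 19484) (l := 3) rfl N19484 D32227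
theorem N21871 : nd 21871 = n32228 := ndS (p := 19484) (l := 6) rfl N19484 D32228
theorem N21872 : nd 21872 = n32229 := ndS (p := 19489) (l := 1) rfl N19489 D32229
theorem N21873 : nd 21873 = n32230 := ndS (p := 19490) (l := 3) rfl N19490 D32230
theorem N21874 : nd 21874 = n32231 := ndS (p := 19497) (l := 2) rfl N19497 D32231
theorem N21875 : nd 21875 = n32232 := ndS (p := 19502) (l := 1) rfl N19502 D32232
theorem N21876 : nd 21876 = n32233 := ndS (p := 19505) (l := 4) rfl N19505 D32233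
theorem N21877 : nd 21877 = n32234 := ndS (p := 19506) (l := 4) rfl N19506 D32234
theorem N21878 : nd 21878 = n32235 := ndS (p := 19507) (l := 1) rfl N19507 D32235
theorem N21879 : nd 21879 = n32236 := ndS (p := 19507) (l := 4) rfl N19507 D32236
theorem N21880 : nd 21880 = n32237 := ndS (p := 19507) (l := 6) rfl N19507 D32237
theorem N21881 : nd 21881 = n32238 := ndS (p := 19515) (l := 0) rfl N19515 D32238
theorem N21882 : nd 21882 = n32239 := ndS (p := 19515) (l := 4) rfl N19515 D32239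
theorem N21883 : nd 21883 = n32240 := ndS (p := 19515) (l := 5) rfl N19515 D32240
theorem N21884 : nd 21884 = n32241 := ndS (p := 19517) (l := 4) rfl N19517 D32241
theorem N21885 : nd 21885 = n32242 := ndS (p := 19525) (l := 2) rfl N19525 D32242
theorem N21886 : nd 21886 = n32243 := ndS (p := 19526) (l := 2) rfl N19526 D32243
theorem N21887 : nd 21887 = n32244 := ndS (p := 19527) (l := 3) rfl N19527 D32244
theorem N21888 : nd 21888 = n32245 := ndS (p := 19527) (l := 5) rfl N19527 D32245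
theorem N21889 : nd 21889 = n32246 := ndS (p := 19537) (l := 3) rfl N19537 D32246
theorem N21890 : nd 21890 = n32247 := ndS (p := 19538) (l := 2) rfl N19538 D32247
theorem N21891 : nd 21891 = n32248 := ndS (p := 19543) (l := 2) rfl N19543 D32248
theorem N21892 : nd 21892 = n32249 := ndS (p := 19545) (l := 3) rfl N19545 D32249
theorem N21893 : nd 21893 = n32250 := ndS (p := 19549) (l := 6) rfl N19549 D32250
theorem N21894 : nd 21894 = n32251 := ndS (p := 19551) (l := 1) rfl N19551 D32251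
theorem N21895 : nd 21895 = n32252 := ndS (p := 19555) (l := 6) rfl N19555 D32252
theorem N21896 : nd 21896 = n32253 := ndS (p := 19557) (l := 1) rfl N19557 D32253
theorem N21897 : nd 21897 = n32254 := ndS (p := 19561) (l := 4) rfl N19561 D32254
theorem N21898 : nd 21898 = n32255 := ndS (p := 19561) (l := 5) rfl N19561 D32255
theorem N21899 : nd 21899 = n32256 := ndS (p := 19564) (l := 4) rfl N19564 D32256
theorem N21900 : nd 21900 = n32257 := ndS (p := 19565) (l := 3) rfl N19565 D32257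
theorem N21901 : nd 21901 = n32258 := ndS (p := 19565) (l := 5) rfl N19565 D32258
theorem N21902 : nd 21902 = n32259 := ndS (p := 19566) (l := 6) rfl N19566 D32259
theorem N21903 : nd 21903 = n32260 := ndS (p := 19570) (l := 2) rfl N19570 D32260
theorem N21904 : nd 21904 = n32261 := ndS (p := 19574) (l := 3) rfl N19574 D32261
theorem N21905 : nd 21905 = n32262 := ndS (p := 19576) (l := 5) rfl N19576 D32262
theorem N21906 : nd 21906 = n32263 := ndS (p := 19580) (l := 3) rfl N19580 D32263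
theorem N21907 : nd 21907 = n32264 := ndS (p := 19580) (l := 5) rfl N19580 D32264
theorem N21908 : nd 21908 = n32265 := ndS (p := 19582) (l := 4) rfl N19582 D32265
theorem N21909 : nd 21909 = n32266 := ndS (p := 19583) (l := 1) rfl N19583 D32266
theorem N21910 : nd 21910 = n32267 := ndS (p := 19589) (l := 1) rfl N19589 D32267
theorem N21911 : nd 21911 = n32268 := ndS (p := 19591) (l := 0) rfl N19591 D32268
theorem N21912 : nd 21912 = n32269 := ndS (p := 19597) (l := 2) rfl N19597 D32269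
theorem N21913 : nd 21913 = n32270 := ndS (p := 19609) (l := 5) rfl N19609 D32270
theorem N21914 : nd 21914 = n32271 := ndS (p := 19609) (l := 6) rfl N19609 D32271
theorem N21915 : nd 21915 = n32272 := ndS (p := 19610) (l := 6) rfl N19610 D32272
theorem N21916 : nd 21916 = n32273 := ndS (p := 19611) (l := 1) rfl N19611 D32273
theorem N21917 : nd 21917 = n32274 := ndS (p := 19612) (l := 0) rfl N19612 D32274
theorem N21918 : nd 21918 = n32275 := ndS (p := 19613) (l := 1) rfl N19613 D32275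
theorem N21919 : nd 21919 = n32276 := ndS (p := 19614) (l := 2) rfl N19614 D32276
theorem N21920 : nd 21920 = n32277 := ndS (p := 19617) (l := 5) rfl N19617 D32277
theorem N21921 : nd 21921 = n32278 := ndS (p := 19624) (l := 1) rfl N19624 D32278
theorem N21922 : nd 21922 = n32279 := ndS (p := 19624) (l := 6) rfl N19624 D32279
theorem N21923 : nd 21923 = n32280 := ndS (p := 19626) (l := 3) rfl N19626 D32280
theorem N21924 : nd 21924 = n32281 := ndS (p := 19631) (l := 5) rfl N19631 D32281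
theorem N21925 : nd 21925 = n32282 := ndS (p := 19633) (l := 1) rfl N19633 D32282
theorem N21926 : nd 21926 = n32283 := ndS (p := 19636) (l := 3) rfl N19636 D32283
theorem N21927 : nd 21927 = n32284 := ndS (p := 19636) (l := 5) rfl N19636 D32284
theorem N21928 : nd 21928 = n32285 := ndS (p := 19636) (l := 6) rfl N19636 D32285
theorem N21929 : nd 21929 = n32286 := ndS (p := 19639) (l := 5) rfl N19639 D32286
theorem N21930 : nd 21930 = n32287 := ndS (p := 19640) (l := 6) rfl N19640 D32287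
theorem N21931 : nd 21931 = n32288 := ndS (p := 19648) (l := 1) rfl N19648 D32288
theorem N21932 : nd 21932 = n32289 := ndS (p := 19648) (l := 6) rfl N19648 D32289
theorem N21933 : nd 21933 = n32290 := ndS (p := 19649) (l := 1) rfl N19649 D32290
theorem N21934 : nd 21934 = n32291 := ndS (p := 19655) (l := 6) rfl N19655 D32291
theorem N21935 : nd 21935 = n32292 := ndS (p := 19656) (l := 3) rfl N19656 D32292
theorem N21936 : nd 21936 = n32293 := ndS (p := 19658) (l := 6) rfl N19658 D32293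
theorem N21937 : nd 21937 = n32294 := ndS (p := 19660) (l := 6) rfl N19660 D32294
theorem N21938 : nd 21938 = n32295 := ndS (p := 19661) (l := 5) rfl N19661 D32295
theorem N21939 : nd 21939 = n32296 := ndS (p := 19670) (l := 4) rfl N19670 D32296
theorem N21940 : nd 21940 = n32297 := ndS (p := 19670) (l := 5) rfl N19670 D32297
theorem N21941 : nd 21941 = n32298 := ndS (p := 19671) (l := 3) rfl N19671 D32298
theorem N21942 : nd 21942 = n32299 := ndS (p := 19672) (l := 1) rfl N19672 D32299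
theorem N21943 : nd 21943 = n32300 := ndS (p := 19673) (l := 1) rfl N19673 D32300
theorem N21944 : nd 21944 = n32301 := ndS (p := 19674) (l := 5) rfl N19674 D32301
theorem N21945 : nd 21945 = n32302 := ndS (p := 19676) (l := 5) rfl N19676 D32302
theorem N21946 : nd 21946 = n32303 := ndS (p := 19678) (l := 5) rfl N19678 D32303
theorem N21947 : nd 21947 = n32304 := ndS (p := 19679) (l := 6) rfl N19679 D32304
theorem N21948 : nd 21948 = n32305 := ndS (p := 19683) (l := 1) rfl N19683 D32305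
theorem N21949 : nd 21949 = n32306 := ndS (p := 19684) (l := 6) rfl N19684 D32306
theorem N21950 : nd 21950 = n32307 := ndS (p := 19686) (l := 1) rfl N19686 D32307
theorem N21951 : nd 21951 = n32308 := ndS (p := 19687) (l := 6) rfl N19687 D32308
theorem N21952 : nd 21952 = n32309 := ndS (p := 19688) (l := 5) rfl N19688 D32309
theorem N21953 : nd 21953 = n32310 := ndS (p := 19689) (l := 1) rfl N19689 D32310
theorem N21954 : nd 21954 = n32311 := ndS (p := 19691) (l := 5) rfl N19691 D32311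
theorem N21955 : nd 21955 = n32312 := ndS (p := 19696) (l := 2) rfl N19696 D32312
theorem N21956 : nd 21956 = n32313 := ndS (p := 19699) (l := 5) rfl N19699 D32313
theorem N21957 : nd 21957 = n32314 := ndS (p := 19699) (l := 6) rfl N19699 D32314
theorem N21958 : nd 21958 = n32315 := ndS (p := 19700) (l := 6) rfl N19700 D32315
theorem N21959 : nd 21959 = n32316 := ndS (p := 19701) (l := 5) rfl N19701 D32316
theorem N21960 : nd 21960 = n32317 := ndS (p := 19701) (l := 6) rfl N19701 D32317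
theorem N21961 : nd 21961 = n32318 := ndS (p := 19703) (l := 1) rfl N19703 D32318
theorem N21962 : nd 21962 = n32319 := ndS (p := 19704) (l := 3) rfl N19704 D32319
theorem N21963 : nd 21963 = n32320 := ndS (p := 19704) (l := 6) rfl N19704 D32320
theorem N21964 : nd 21964 = n32321 := ndS (p := 19706) (l := 1) rfl N19706 D32321
theorem N21965 : nd 21965 = n32322 := ndS (p := 19711) (l := 5) rfl N19711 D32322
theorem N21966 : nd 21966 = n32323 := ndS (p := 19712) (l := 2) rfl N19712 D32323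
theorem N21967 : nd 21967 = n32324 := ndS (p := 19715) (l := 2) rfl N19715 D32324
theorem N21968 : nd 21968 = n32325 := ndS (p := 19716) (l := 4) rfl N19716 D32325
theorem N21969 : nd 21969 = n32326 := ndS (p := 19717) (l := 3) rfl N19717 D32326
theorem N21970 : nd 21970 = n32327 := ndS (p := 19719) (l := 1) rfl N19719 D32327
theorem N21971 : nd 21971 = n32328 := ndS (p := 19730) (l := 5) rfl N19730 D32328
theorem N21972 : nd 21972 = n32329 := ndS (p := 19739) (l := 3) rfl N19739 D32329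
theorem N21973 : nd 21973 = n32330 := ndS (p := 19740) (l := 6) rfl N19740 D32330
theorem N21974 : nd 21974 = n32331 := ndS (p := 19742) (l := 6) rfl N19742 D32331
theorem N21975 : nd 21975 = n32332 := ndS (p := 19753) (l := 2) rfl N19753 D32332
theorem N21976 : nd 21976 = n32333 := ndS (p := 19757) (l := 6) rfl N19757 D32333
theorem N21977 : nd 21977 = n32334 := ndS (p := 19764) (l := 4) rfl N19764 D32334
theorem N21978 : nd 21978 = n32335 := ndS (p := 19764) (l := 6) rfl N19764 D32335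
theorem N21979 : nd 21979 = n32336 := ndS (p := 19765) (l := 3) rfl N19765 D32336
theorem N21980 : nd 21980 = n32337 := ndS (p := 19766) (l := 1) rfl N19766 D32337
theorem N21981 : nd 21981 = n32338 := ndS (p := 19767) (l := 1) rfl N19767 D32338
theorem N21982 : nd 21982 = n32339 := ndS (p := 19768) (l := 6) rfl N19768 D32339
theorem N21983 : nd 21983 = n32340 := ndS (p := 19770) (l := 6) rfl N19770 D32340
theorem N21984 : nd 21984 = n32341 := ndS (p := 19772) (l := 6) rfl N19772 D32341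
theorem N21985 : nd 21985 = n32342 := ndS (p := 19773) (l := 5) rfl N19773 D32342
theorem N21986 : nd 21986 = n32343 := ndS (p := 19776) (l := 1) rfl N19776 D32343
theorem N21987 : nd 21987 = n32344 := ndS (p := 19778) (l := 5) rfl N19778 D32344
theorem N21988 : nd 21988 = n32345 := ndS (p := 19779) (l := 1) rfl N19779 D32345
theorem N21989 : nd 21989 = n32346 := ndS (p := 19781) (l := 6) rfl N19781 D32346
theorem N21990 : nd 21990 = n32347 := ndS (p := 19782) (l := 5) rfl N19782 D32347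
theorem N21991 : nd 21991 = n32348 := ndS (p := 19784) (l := 1) rfl N19784 D32348
theorem N21992 : nd 21992 = n32349 := ndS (p := 19785) (l := 6) rfl N19785 D32349
theorem N21993 : nd 21993 = n32350 := ndS (p := 19791) (l := 2) rfl N19791 D32350
theorem N21994 : nd 21994 = n32351 := ndS (p := 19793) (l := 5) rfl N19793 D32351
theorem N21995 : nd 21995 = n32352 := ndS (p := 19793) (l := 6) rfl N19793 D32352
theorem N21996 : nd 21996 = n32353 := ndS (p := 19794) (l := 5) rfl N19794 D32353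
theorem N21997 : nd 21997 = n32354 := ndS (p := 19795) (l := 5) rfl N19795 D32354
theorem N21998 : nd 21998 = n32355 := ndS (p := 19795) (l := 6) rfl N19795 D32355
theorem N21999 : nd 21999 = n32356 := ndS (p := 19796) (l := 1) rfl N19796 D32356
theorem N22000 : nd 22000 = n32357 := ndS (p := 19798) (l := 3) rfl N19798 D32357
theorem N22001 : nd 22001 = n32358 := ndS (p := 19798) (l := 5) rfl N19798 D32358
theorem N22002 : nd 22002 = n32359 := ndS (p := 19799) (l := 1) rfl N19799 D32359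
theorem N22003 : nd 22003 = n32360 := ndS (p := 19804) (l := 6) rfl N19804 D32360
theorem N22004 : nd 22004 = n32361 := ndS (p := 19806) (l := 2) rfl N19806 D32361
theorem N22005 : nd 22005 = n32362 := ndS (p := 19809) (l := 2) rfl N19809 D32362
theorem N22006 : nd 22006 = n32363 := ndS (p := 19810) (l := 4) rfl N19810 D32363
theorem N22007 : nd 22007 = n32364 := ndS (p := 19811) (l := 3) rfl N19811 D32364
theorem N22008 : nd 22008 = n32365 := ndS (p := 19812) (l := 1) rfl N19812 D32365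
theorem N22009 : nd 22009 = n32366 := ndS (p := 19826) (l := 6) rfl N19826 D32366
theorem N22010 : nd 22010 = n32367 := ndS (p := 19833) (l := 3) rfl N19833 D32367
theorem N22011 : nd 22011 = n32368 := ndS (p := 19834) (l := 5) rfl N19834 D32368
theorem N22012 : nd 22012 = n32369 := ndS (p := 19837) (l := 5) rfl N19837 D32369
theorem N22013 : nd 22013 = n32370 := ndS (p := 19846) (l := 2) rfl N19846 D32370
theorem N22014 : nd 22014 = n32371 := ndS (p := 19849) (l := 5) rfl N19849 D32371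
theorem N22015 : nd 22015 = n32372 := ndS (p := 19854) (l := 6) rfl N19854 D32372
theorem N22016 : nd 22016 = n32373 := ndS (p := 19856) (l := 1) rfl N19856 D32373
theorem N22017 : nd 22017 = n32374 := ndS (p := 19857) (l := 1) rfl N19857 D32374
theorem N22018 : nd 22018 = n32375 := ndS (p := 19858) (l := 1) rfl N19858 D32375
theorem N22019 : nd 22019 = n32376 := ndS (p := 19859) (l := 1) rfl N19859 D32376
theorem N22020 : nd 22020 = n32377 := ndS (p := 19860) (l := 1) rfl N19860 D32377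
theorem N22021 : nd 22021 = n32378 := ndS (p := 19861) (l := 1) rfl N19861 D32378
theorem N22022 : nd 22022 = n32379 := ndS (p := 19863) (l := 0) rfl N19863 D32379
theorem N22023 : nd 22023 = n32380 := ndS (p := 19863) (l := 2) rfl N19863 D32380
theorem N22024 : nd 22024 = n32381 := ndS (p := 19863) (l := 5) rfl N19863 D32381
theorem N22025 : nd 22025 = n32382 := ndS (p := 19864) (l := 5) rfl N19864 D32382
theorem N22026 : nd 22026 = n32383 := ndS (p := 19864) (l := 6) rfl N19864 D32383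
theorem N22027 : nd 22027 = n32384 := ndS (p := 19867) (l := 6) rfl N19867 D32384
theorem N22028 : nd 22028 = n32385 := ndS (p := 19869) (l := 1) rfl N19869 D32385
theorem N22029 : nd 22029 = n32386 := ndS (p := 19871) (l := 0) rfl N19871 D32386
theorem N22030 : nd 22030 = n32387 := ndS (p := 19873) (l := 5) rfl N19873 D32387
theorem N22031 : nd 22031 = n32388 := ndS (p := 19874) (l := 1) rfl N19874 D32388
theorem N22032 : nd 22032 = n32389 := ndS (p := 19876) (l := 1) rfl N19876 D32389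
theorem N22033 : nd 22033 = n32390 := ndS (p := 19877) (l := 1) rfl N19877 D32390
theorem N22034 : nd 22034 = n32391 := ndS (p := 19878) (l := 1) rfl N19878 D32391
theorem N22035 : nd 22035 = n32392 := ndS (p := 19879) (l := 1) rfl N19879 D32392
theorem N22036 : nd 22036 = n32393 := ndS (p := 19880) (l := 0) rfl N19880 D32393
theorem N22037 : nd 22037 = n32394 := ndS (p := 19880) (l := 2) rfl N19880 D32394
theorem N22038 : nd 22038 = n32395 := ndS (p := 19880) (l := 6) rfl N19880 D32395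
theorem N22039 : nd 22039 = n32396 := ndS (p := 19882) (l := 5) rfl N19882 D32396
theorem N22040 : nd 22040 = n32397 := ndS (p := 19882) (l := 6) rfl N19882 D32397
theorem N22041 : nd 22041 = n32398 := ndS (p := 19886) (l := 5) rfl N19886 D32398
theorem N22042 : nd 22042 = n32399 := ndS (p := 19888) (l := 1) rfl N19888 D32399
theorem N22043 : nd 22043 = n32400 := ndS (p := 19889) (l := 0) rfl N19889 D32400
theorem N22044 : nd 22044 = n32401 := ndS (p := 19898) (l := 3) rfl N19898 D32401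
theorem N22045 : nd 22045 = n32402 := ndS (p := 19900) (l := 6) rfl N19900 D32402
theorem N22046 : nd 22046 = n32403 := ndS (p := 19911) (l := 3) rfl N19911 D32403
theorem N22047 : nd 22047 = n32404 := ndS (p := 19913) (l := 5) rfl N19913 D32404
theorem N22048 : nd 22048 = n32405 := ndS (p := 19922) (l := 1) rfl N19922 D32405
theorem N22049 : nd 22049 = n32406 := ndS (p := 19937) (l := 6) rfl N19937 D32406
theorem N22050 : nd 22050 = n32407 := ndS (p := 19939) (l := 5) rfl N19939 D32407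
theorem N22051 : nd 22051 = n32408 := ndS (p := 19940) (l := 1) rfl N19940 D32408
theorem N22052 : nd 22052 = n32409 := ndS (p := 19941) (l := 5) rfl N19941 D32409
theorem N22053 : nd 22053 = n32410 := ndS (p := 19945) (l := 6) rfl N19945 D32410
theorem N22054 : nd 22054 = n32411 := ndS (p := 19949) (l := 3) rfl N19949 D32411
theorem N22055 : nd 22055 = n32412 := ndS (p := 19950) (l := 2) rfl N19950 D32412
theorem N22056 : nd 22056 = n32413 := ndS (p := 19954) (l := 5) rfl N19954 D32413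
theorem N22057 : nd 22057 = n32414 := ndS (p := 19954) (l := 6) rfl N19954 D32414
theorem N22058 : nd 22058 = n32415 := ndS (p := 19958) (l := 5) rfl N19958 D32415
theorem N22059 : nd 22059 = n32416 := ndS (p := 19963) (l := 3) rfl N19963 D32416
theorem N22060 : nd 22060 = n32417 := ndS (p := 19964) (l := 5) rfl N19964 D32417
theorem N22061 : nd 22061 = n32418 := ndS (p := 19964) (l := 6) rfl N19964 D32418
theorem N22062 : nd 22062 = n32419 := ndS (p := 19969) (l := 2) rfl N19969 D32419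
theorem N22063 : nd 22063 = n32420 := ndS (p := 19971) (l := 6) rfl N19971 D32420
theorem N22064 : nd 22064 = n32421 := ndS (p := 19983) (l := 1) rfl N19983 D32421
theorem N22065 : nd 22065 = n32422 := ndS (p := 19996) (l := 5) rfl N19996 D32422
theorem N22066 : nd 22066 = n32423 := ndS (p := 19998) (l := 6) rfl N19998 D32423
theorem N22067 : nd 22067 = n32424 := ndS (p := 19999) (l := 6) rfl N19999 D32424
theorem N22068 : nd 22068 = n32425 := ndS (p := 20000) (l := 1) rfl N20000 D32425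
theorem N22069 : nd 22069 = n32426 := ndS (p := 20004) (l := 5) rfl N20004 D32426
theorem N22070 : nd 22070 = n32427 := ndS (p := 20018) (l := 6) rfl N20018 D32427
theorem N22071 : nd 22071 = n32428 := ndS (p := 20022) (l := 4) rfl N20022 D32428
theorem N22072 : nd 22072 = n32429 := ndS (p := 20023) (l := 3) rfl N20023 D32429
theorem N22073 : nd 22073 = n32430 := ndS (p := 20025) (l := 2) rfl N20025 D32430
theorem N22074 : nd 22074 = n32431 := ndS (p := 20025) (l := 6) rfl N20025 D32431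
theorem N22075 : nd 22075 = n32432 := ndS (p := 20029) (l := 1) rfl N20029 D32432
theorem N22076 : nd 22076 = n32433 := ndS (p := 20029) (l := 3) rfl N20029 D32433
theorem N22077 : nd 22077 = n32434 := ndS (p := 20029) (l := 6) rfl N20029 D32434
theorem N22078 : nd 22078 = n32435 := ndS (p := 20030) (l := 1) rfl N20030 D32435
theorem N22079 : nd 22079 = n32436 := ndS (p := 20032) (l := 3) rfl N20032 D32436
theorem N22080 : nd 22080 = n32437 := ndS (p := 20032) (l := 5) rfl N20032 D32437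
theorem N22081 : nd 22081 = n32438 := ndS (p := 20034) (l := 1) rfl N20034 D32438
theorem N22082 : nd 22082 = n32439 := ndS (p := 20035) (l := 2) rfl N20035 D32439
theorem N22083 : nd 22083 = n32440 := ndS (p := 20038) (l := 5) rfl N20038 D32440
theorem N22084 : nd 22084 = n32441 := ndS (p := 20042) (l := 4) rfl N20042 D32441
theorem N22085 : nd 22085 = n32442 := ndS (p := 20043) (l := 3) rfl N20043 D32442
theorem N22086 : nd 22086 = n32443 := ndS (p := 20045) (l := 2) rfl N20045 D32443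
theorem N22087 : nd 22087 = n32444 := ndS (p := 20045) (l := 5) rfl N20045 D32444
theorem N22088 : nd 22088 = n32445 := ndS (p := 20049) (l := 1) rfl N20049 D32445
theorem N22089 : nd 22089 = n32446 := ndS (p := 20049) (l := 3) rfl N20049 D32446
theorem N22090 : nd 22090 = n32447 := ndS (p := 20049) (l := 5) rfl N20049 D32447
theorem N22091 : nd 22091 = n32448 := ndS (p := 20050) (l := 1) rfl N20050 D32448
theorem N22092 : nd 22092 = n32449 := ndS (p := 20052) (l := 3) rfl N20052 D32449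
theorem N22093 : nd 22093 = n32450 := ndS (p := 20052) (l := 6) rfl N20052 D32450
theorem N22094 : nd 22094 = n32451 := ndS (p := 20054) (l := 1) rfl N20054 D32451
theorem N22095 : nd 22095 = n32452 := ndS (p := 20055) (l := 2) rfl N20055 D32452
theorem N22096 : nd 22096 = n32453 := ndS (p := 20059) (l := 2) rfl N20059 D32453
theorem N22097 : nd 22097 = n32454 := ndS (p := 20060) (l := 1) rfl N20060 D32454
theorem N22098 : nd 22098 = n32455 := ndS (p := 20060) (l := 5) rfl N20060 D32455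
theorem N22099 : nd 22099 = n32456 := ndS (p := 20060) (l := 6) rfl N20060 D32456
theorem N22100 : nd 22100 = n32457 := ndS (p := 20061) (l := 1) rfl N20061 D32457
theorem N22101 : nd 22101 = n32458 := ndS (p := 20062) (l := 1) rfl N20062 D32458
theorem N22102 : nd 22102 = n32459 := ndS (p := 20065) (l := 1) rfl N20065 D32459
theorem N22103 : nd 22103 = n32460 := ndS (p := 20065) (l := 6) rfl N20065 D32460
theorem N22104 : nd 22104 = n32461 := ndS (p := 20066) (l := 1) rfl N20066 D32461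
theorem N22105 : nd 22105 = n32462 := ndS (p := 20068) (l := 0) rfl N20068 D32462
theorem N22106 : nd 22106 = n32463 := ndS (p := 20068) (l := 5) rfl N20068 D32463
theorem N22107 : nd 22107 = n32464 := ndS (p := 20068) (l := 6) rfl N20068 D32464
theorem N22108 : nd 22108 = n32465 := ndS (p := 20070) (l := 1) rfl N20070 D32465
theorem N22109 : nd 22109 = n32466 := ndS (p := 20071) (l := 2) rfl N20071 D32466
theorem N22110 : nd 22110 = n32467 := ndS (p := 20072) (l := 1) rfl N20072 D32467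
theorem N22111 : nd 22111 = n32468 := ndS (p := 20072) (l := 5) rfl N20072 D32468
theorem N22112 : nd 22112 = n32469 := ndS (p := 20073) (l := 1) rfl N20073 D32469
theorem N22113 : nd 22113 = n32470 := ndS (p := 20076) (l := 2) rfl N20076 D32470
theorem N22114 : nd 22114 = n32471 := ndS (p := 20077) (l := 1) rfl N20077 D32471
theorem N22115 : nd 22115 = n32472 := ndS (p := 20078) (l := 1) rfl N20078 D32472
theorem N22116 : nd 22116 = n32473 := ndS (p := 20079) (l := 0) rfl N20079 D32473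
theorem N22117 : nd 22117 = n32474 := ndS (p := 20079) (l := 5) rfl N20079 D32474
theorem N22118 : nd 22118 = n32475 := ndS (p := 20079) (l := 6) rfl N20079 D32475
theorem N22119 : nd 22119 = n32476 := ndS (p := 20080) (l := 1) rfl N20080 D32476
theorem N22120 : nd 22120 = n32477 := ndS (p := 20082) (l := 2) rfl N20082 D32477
theorem N22121 : nd 22121 = n32478 := ndS (p := 20083) (l := 1) rfl N20083 D32478
theorem N22122 : nd 22122 = n32479 := ndS (p := 20084) (l := 5) rfl N20084 D32479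
theorem N22123 : nd 22123 = n32480 := ndS (p := 20086) (l := 2) rfl N20086 D32480
theorem N22124 : nd 22124 = n32481 := ndS (p := 20089) (l := 3) rfl N20089 D32481
theorem N22125 : nd 22125 = n32482 := ndS (p := 20090) (l := 2) rfl N20090 D32482
theorem N22126 : nd 22126 = n32483 := ndS (p := 20092) (l := 6) rfl N20092 D32483
theorem N22127 : nd 22127 = n32484 := ndS (p := 20094) (l := 2) rfl N20094 D32484
theorem N22128 : nd 22128 = n32485 := ndS (p := 20097) (l := 3) rfl N20097 D32485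
theorem N22129 : nd 22129 = n32486 := ndS (p := 20098) (l := 2) rfl N20098 D32486
theorem N22130 : nd 22130 = n32487 := ndS (p := 20103) (l := 6) rfl N20103 D32487
theorem N22131 : nd 22131 = n32488 := ndS (p := 20109) (l := 1) rfl N20109 D32488
theorem N22132 : nd 22132 = n32489 := ndS (p := 20111) (l := 5) rfl N20111 D32489
theorem N22133 : nd 22133 = n32490 := ndS (p := 20117) (l := 1) rfl N20117 D32490
theorem N22134 : nd 22134 = n32491 := ndS (p := 20123) (l := 1) rfl N20123 D32491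
theorem N22135 : nd 22135 = n32492 := ndS (p := 20130) (l := 1) rfl N20130 D32492
theorem N22136 : nd 22136 = n32493 := ndS (p := 20132) (l := 2) rfl N20132 D32493
theorem N22137 : nd 22137 = n32494 := ndS (p := 20135) (l := 2) rfl N20135 D32494
theorem N22138 : nd 22138 = n32495 := ndS (p := 20138) (l := 2) rfl N20138 D32495
theorem N22139 : nd 22139 = n32496 := ndS (p := 20139) (l := 1) rfl N20139 D32496
theorem N22140 : nd 22140 = n32497 := ndS (p := 20142) (l := 2) rfl N20142 D32497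
theorem N22141 : nd 22141 = n32498 := ndS (p := 20143) (l := 1) rfl N20143 D32498
theorem N22142 : nd 22142 = n32499 := ndS (p := 20147) (l := 2) rfl N20147 D32499
theorem N22143 : nd 22143 = n32500 := ndS (p := 20148) (l := 1) rfl N20148 D32500
theorem N22144 : nd 22144 = n32501 := ndS (p := 20148) (l := 3) rfl N20148 D32501
theorem N22145 : nd 22145 = n32502 := ndS (p := 20150) (l := 2) rfl N20150 D32502
theorem N22146 : nd 22146 = n32503 := ndS (p := 20151) (l := 1) rfl N20151 D32503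
theorem N22147 : nd 22147 = n32504 := ndS (p := 20151) (l := 3) rfl N20151 D32504
theorem N22148 : nd 22148 = n32505 := ndS (p := 20153) (l := 5) rfl N20153 D32505
theorem N22149 : nd 22149 = n32506 := ndS (p := 20158) (l := 6) rfl N20158 D32506
theorem N22150 : nd 22150 = n32507 := ndS (p := 20165) (l := 2) rfl N20165 D32507
theorem N22151 : nd 22151 = n32508 := ndS (p := 20167) (l := 1) rfl N20167 D32508
theorem N22152 : nd 22152 = n32509 := ndS (p := 20167) (l := 4) rfl N20167 D32509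
theorem N22153 : nd 22153 = n32510 := ndS (p := 20171) (l := 4) rfl N20171 D32510
theorem N22154 : nd 22154 = n32511 := ndS (p := 20173) (l := 1) rfl N20173 D32511
theorem N22155 : nd 22155 = n32512 := ndS (p := 20174) (l := 2) rfl N20174 D32512
theorem N22156 : nd 22156 = n32513 := ndS (p := 20178) (l := 6) rfl N20178 D32513
theorem N22157 : nd 22157 = n32514 := ndS (p := 20179) (l := 1) rfl N20179 D32514
theorem N22158 : nd 22158 = n32515 := ndS (p := 20180) (l := 2) rfl N20180 D32515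
theorem N22159 : nd 22159 = n32516 := ndS (p := 20182) (l := 2) rfl N20182 D32516
theorem N22160 : nd 22160 = n32517 := ndS (p := 20184) (l := 1) rfl N20184 D32517
theorem N22161 : nd 22161 = n32518 := ndS (p := 20184) (l := 4) rfl N20184 D32518
theorem N22162 : nd 22162 = n32519 := ndS (p := 20188) (l := 4) rfl N20188 D32519
theorem N22163 : nd 22163 = n32520 := ndS (p := 20190) (l := 1) rfl N20190 D32520
theorem N22164 : nd 22164 = n32521 := ndS (p := 20191) (l := 2) rfl N20191 D32521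
theorem N22165 : nd 22165 = n32522 := ndS (p := 20195) (l := 5) rfl N20195 D32522
theorem N22166 : nd 22166 = n32523 := ndS (p := 20196) (l := 1) rfl N20196 D32523
theorem N22167 : nd 22167 = n32524 := ndS (p := 20197) (l := 2) rfl N20197 D32524
theorem N22168 : nd 22168 = n32525 := ndS (p := 20220) (l := 1) rfl N20220 D32525
theorem N22169 : nd 22169 = n32526 := ndS (p := 20221) (l := 0) rfl N20221 D32526
theorem N22170 : nd 22170 = n32527 := ndS (p := 20223) (l := 0) rfl N20223 D32527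
theorem N22171 : nd 22171 = n32528 := ndS (p := 20223) (l := 2) rfl N20223 D32528
theorem N22172 : nd 22172 = n32529 := ndS (p := 20223) (l := 5) rfl N20223 D32529
theorem N22173 : nd 22173 = n32530 := ndS (p := 20225) (l := 1) rfl N20225 D32530
theorem N22174 : nd 22174 = n32531 := ndS (p := 20226) (l := 0) rfl N20226 D32531
theorem N22175 : nd 22175 = n32532 := ndS (p := 20227) (l := 1) rfl N20227 D32532
theorem N22176 : nd 22176 = n32533 := ndS (p := 20228) (l := 0) rfl N20228 D32533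
theorem N22177 : nd 22177 = n32534 := ndS (p := 20230) (l := 0) rfl N20230 D32534
theorem N22178 : nd 22178 = n32535 := ndS (p := 20230) (l := 2) rfl N20230 D32535
theorem N22179 : nd 22179 = n32536 := ndS (p := 20230) (l := 6) rfl N20230 D32536
theorem N22180 : nd 22180 = n32537 := ndS (p := 20232) (l := 1) rfl N20232 D32537
theorem N22181 : nd 22181 = n32538 := ndS (p := 20233) (l := 0) rfl N20233 D32538
theorem N22182 : nd 22182 = n32539 := ndS (p := 20237) (l := 3) rfl N20237 D32539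
theorem N22183 : nd 22183 = n32540 := ndS (p := 20239) (l := 3) rfl N20239 D32540
theorem N22184 : nd 22184 = n32541 := ndS (p := 20240) (l := 2) rfl N20240 D32541
theorem N22185 : nd 22185 = n32542 := ndS (p := 20240) (l := 6) rfl N20240 D32542
theorem N22186 : nd 22186 = n32543 := ndS (p := 20241) (l := 1) rfl N20241 D32543
theorem N22187 : nd 22187 = n32544 := ndS (p := 20242) (l := 1) rfl N20242 D32544
theorem N22188 : nd 22188 = n32545 := ndS (p := 20245) (l := 1) rfl N20245 D32545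
theorem N22189 : nd 22189 = n32546 := ndS (p := 20249) (l := 3) rfl N20249 D32546
theorem N22190 : nd 22190 = n32547 := ndS (p := 20251) (l := 3) rfl N20251 D32547
theorem N22191 : nd 22191 = n32548 := ndS (p := 20252) (l := 2) rfl N20252 D32548
theorem N22192 : nd 22192 = n32549 := ndS (p := 20252) (l := 5) rfl N20252 D32549
theorem N22193 : nd 22193 = n32550 := ndS (p := 20253) (l := 1) rfl N20253 D32550
theorem N22194 : nd 22194 = n32551 := ndS (p := 20254) (l := 1) rfl N20254 D32551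
theorem N22195 : nd 22195 = n32552 := ndS (p := 20257) (l := 1) rfl N20257 D32552
theorem N22196 : nd 22196 = n32553 := ndS (p := 20260) (l := 5) rfl N20260 D32553
theorem N22197 : nd 22197 = n32554 := ndS (p := 20263) (l := 6) rfl N20263 D32554
theorem N22198 : nd 22198 = n32555 := ndS (p := 20265) (l := 2) rfl N20265 D32555
theorem N22199 : nd 22199 = n32556 := ndS (p := 20267) (l := 2) rfl N20267 D32556
theorem N22200 : nd 22200 = n32557 := ndS (p := 20269) (l := 6) rfl N20269 D32557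
theorem N22201 : nd 22201 = n32558 := ndS (p := 20271) (l := 6) rfl N20271 D32558
theorem N22202 : nd 22202 = n32559 := ndS (p := 20274) (l := 5) rfl N20274 D32559
theorem N22203 : nd 22203 = n32560 := ndS (p := 20276) (l := 2) rfl N20276 D32560
theorem N22204 : nd 22204 = n32561 := ndS (p := 20278) (l := 2) rfl N20278 D32561
theorem N22205 : nd 22205 = n32562 := ndS (p := 20280) (l := 5) rfl N20280 D32562
theorem N22206 : nd 22206 = n32563 := ndS (p := 20282) (l := 1) rfl N20282 D32563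
theorem N22207 : nd 22207 = n32564 := ndS (p := 20282) (l := 3) rfl N20282 D32564
theorem N22208 : nd 22208 = n32565 := ndS (p := 20283) (l := 5) rfl N20283 D32565
theorem N22209 : nd 22209 = n32566 := ndS (p := 20285) (l := 4) rfl N20285 D32566
theorem N22210 : nd 22210 = n32567 := ndS (p := 20286) (l := 1) rfl N20286 D32567
theorem N22211 : nd 22211 = n32568 := ndS (p := 20290) (l := 3) rfl N20290 D32568
theorem N22212 : nd 22212 = n32569 := ndS (p := 20291) (l := 2) rfl N20291 D32569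
theorem N22213 : nd 22213 = n32570 := ndS (p := 20291) (l := 4) rfl N20291 D32570
theorem N22214 : nd 22214 = n32571 := ndS (p := 20291) (l := 5) rfl N20291 D32571
theorem N22215 : nd 22215 = n32572 := ndS (p := 20291) (l := 6) rfl N20291 D32572
theorem N22216 : nd 22216 = n32573 := ndS (p := 20295) (l := 3) rfl N20295 D32573
theorem N22217 : nd 22217 = n32574 := ndS (p := 20295) (l := 5) rfl N20295 D32574
theorem N22218 : nd 22218 = n32575 := ndS (p := 20296) (l := 4) rfl N20296 D32575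
theorem N22219 : nd 22219 = n32576 := ndS (p := 20298) (l := 6) rfl N20298 D32576
theorem N22220 : nd 22220 = n32577 := ndS (p := 20299) (l := 1) rfl N20299 D32577
theorem N22221 : nd 22221 = n32578 := ndS (p := 20302) (l := 1) rfl N20302 D32578
theorem N22222 : nd 22222 = n32579 := ndS (p := 20302) (l := 3) rfl N20302 D32579
theorem N22223 : nd 22223 = n32580 := ndS (p := 20303) (l := 6) rfl N20303 D32580
theorem N22224 : nd 22224 = n32581 := ndS (p := 20305) (l := 4) rfl N20305 D32581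
theorem N22225 : nd 22225 = n32582 := ndS (p := 20306) (l := 1) rfl N20306 D32582
theorem N22226 : nd 22226 = n32583 := ndS (p := 20310) (l := 3) rfl N20310 D32583
theorem N22227 : nd 22227 = n32584 := ndS (p := 20311) (l := 2) rfl N20311 D32584
theorem N22228 : nd 22228 = n32585 := ndS (p := 20311) (l := 4) rfl N20311 D32585
theorem N22229 : nd 22229 = n32586 := ndS (p := 20311) (l := 5) rfl N20311 D32586
theorem N22230 : nd 22230 = n32587 := ndS (p := 20311) (l := 6) rfl N20311 D32587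
theorem N22231 : nd 22231 = n32588 := ndS (p := 20315) (l := 3) rfl N20315 D32588
theorem N22232 : nd 22232 = n32589 := ndS (p := 20315) (l := 6) rfl N20315 D32589
theorem N22233 : nd 22233 = n32590 := ndS (p := 20316) (l := 4) rfl N20316 D32590
theorem N22234 : nd 22234 = n32591 := ndS (p := 20318) (l := 5) rfl N20318 D32591
theorem N22235 : nd 22235 = n32592 := ndS (p := 20319) (l := 1) rfl N20319 D32592
theorem N22236 : nd 22236 = n32593 := ndS (p := 20323) (l := 2) rfl N20323 D32593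
theorem N22237 : nd 22237 = n32594 := ndS (p := 20324) (l := 2) rfl N20324 D32594
theorem N22238 : nd 22238 = n32595 := ndS (p := 20325) (l := 3) rfl N20325 D32595
theorem N22239 : nd 22239 = n32596 := ndS (p := 20326) (l := 2) rfl N20326 D32596
theorem N22240 : nd 22240 = n32597 := ndS (p := 20339) (l := 1) rfl N20339 D32597
theorem N22241 : nd 22241 = n32598 := ndS (p := 20339) (l := 5) rfl N20339 D32598
theorem N22242 : nd 22242 = n32599 := ndS (p := 20342) (l := 3) rfl N20342 D32599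
theorem N22243 : nd 22243 = n32600 := ndS (p := 20362) (l := 2) rfl N20362 D32600
theorem N22244 : nd 22244 = n32601 := ndS (p := 20363) (l := 3) rfl N20363 D32601
theorem N22245 : nd 22245 = n32602 := ndS (p := 20364) (l := 6) rfl N20364 D32602
theorem N22246 : nd 22246 = n32603 := ndS (p := 20367) (l := 6) rfl N20367 D32603
theorem N22247 : nd 22247 = n32604 := ndS (p := 20369) (l := 5) rfl N20369 D32604
theorem N22248 : nd 22248 = n32605 := ndS (p := 20373) (l := 6) rfl N20373 D32605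
theorem N22249 : nd 22249 = n32606 := ndS (p := 20374) (l := 5) rfl N20374 D32606
theorem N22250 : nd 22250 = n32607 := ndS (p := 20382) (l := 3) rfl N20382 D32607
theorem N22251 : nd 22251 = n32608 := ndS (p := 20384) (l := 3) rfl N20384 D32608
theorem N22252 : nd 22252 = n32609 := ndS (p := 20385) (l := 6) rfl N20385 D32609
theorem N22253 : nd 22253 = n32610 := ndS (p := 20389) (l := 3) rfl N20389 D32610
theorem N22254 : nd 22254 = n32611 := ndS (p := 20389) (l := 6) rfl N20389 D32611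
theorem N22255 : nd 22255 = n32612 := ndS (p := 20393) (l := 2) rfl N20393 D32612
theorem N22256 : nd 22256 = n32613 := ndS (p := 20394) (l := 2) rfl N20394 D32613
theorem N22257 : nd 22257 = n32614 := ndS (p := 20395) (l := 3) rfl N20395 D32614
theorem N22258 : nd 22258 = n32615 := ndS (p := 20402) (l := 1) rfl N20402 D32615
theorem N22259 : nd 22259 = n32616 := ndS (p := 20404) (l := 3) rfl N20404 D32616
theorem N22260 : nd 22260 = n32617 := ndS (p := 20413) (l := 3) rfl N20413 D32617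
theorem N22261 : nd 22261 = n32618 := ndS (p := 20414) (l := 5) rfl N20414 D32618
theorem N22262 : nd 22262 = n32619 := ndS (p := 20420) (l := 5) rfl N20420 D32619
theorem N22263 : nd 22263 = n32620 := ndS (p := 20421) (l := 6) rfl N20421 D32620
theorem N22264 : nd 22264 = n32621 := ndS (p := 20435) (l := 2) rfl N20435 D32621
theorem N22265 : nd 22265 = n32622 := ndS (p := 20436) (l := 6) rfl N20436 D32622
theorem N22266 : nd 22266 = n32623 := ndS (p := 20439) (l := 6) rfl N20439 D32623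
theorem N22267 : nd 22267 = n32624 := ndS (p := 20448) (l := 5) rfl N20448 D32624
theorem N22268 : nd 22268 = n32625 := ndS (p := 20457) (l := 6) rfl N20457 D32625
theorem N22269 : nd 22269 = n32626 := ndS (p := 20459) (l := 1) rfl N20459 D32626
theorem N22270 : nd 22270 = n32627 := ndS (p := 20466) (l := 1) rfl N20466 D32627
theorem N22271 : nd 22271 = n32628 := ndS (p := 20469) (l := 5) rfl N20469 D32628
theorem N22272 : nd 22272 = n32629 := ndS (p := 20469) (l := 6) rfl N20469 D32629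
theorem N22273 : nd 22273 = n32630 := ndS (p := 20470) (l := 1) rfl N20470 D32630
theorem N22274 : nd 22274 = n32631 := ndS (p := 20470) (l := 6) rfl N20470 D32631
theorem N22275 : nd 22275 = n32632 := ndS (p := 20471) (l := 1) rfl N20471 D32632
theorem N22276 : nd 22276 = n32633 := ndS (p := 20471) (l := 5) rfl N20471 D32633
theorem N22277 : nd 22277 = n32634 := ndS (p := 20473) (l := 6) rfl N20473 D32634
theorem N22278 : nd 22278 = n32635 := ndS (p := 20474) (l := 1) rfl N20474 D32635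
theorem N22279 : nd 22279 = n32636 := ndS (p := 20478) (l := 5) rfl N20478 D32636
theorem N22280 : nd 22280 = n32637 := ndS (p := 20480) (l := 5) rfl N20480 D32637
theorem N22281 : nd 22281 = n32638 := ndS (p := 20480) (l := 6) rfl N20480 D32638
theorem N22282 : nd 22282 = n32639 := ndS (p := 20481) (l := 1) rfl N20481 D32639
theorem N22283 : nd 22283 = n32640 := ndS (p := 20484) (l := 0) rfl N20484 D32640
theorem N22284 : nd 22284 = n32641 := ndS (p := 20493) (l := 2) rfl N20493 D32641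
theorem N22285 : nd 22285 = n32642 := ndS (p := 20494) (l := 5) rfl N20494 D32642
theorem N22286 : nd 22286 = n32643 := ndS (p := 20497) (l := 5) rfl N20497 D32643
theorem N22287 : nd 22287 = n32644 := ndS (p := 20506) (l := 6) rfl N20506 D32644
theorem N22288 : nd 22288 = n32645 := ndS (p := 20516) (l := 5) rfl N20516 D32645
theorem N22289 : nd 22289 = n32646 := ndS (p := 20518) (l := 1) rfl N20518 D32646
theorem N22290 : nd 22290 = n32647 := ndS (p := 20523) (l := 1) rfl N20523 D32647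
theorem N22291 : nd 22291 = n32648 := ndS (p := 20527) (l := 5) rfl N20527 D32648
theorem N22292 : nd 22292 = n32649 := ndS (p := 20527) (l := 6) rfl N20527 D32649
theorem N22293 : nd 22293 = n32650 := ndS (p := 20528) (l := 1) rfl N20528 D32650
theorem N22294 : nd 22294 = n32651 := ndS (p := 20528) (l := 6) rfl N20528 D32651
theorem N22295 : nd 22295 = n32652 := ndS (p := 20529) (l := 1) rfl N20529 D32652
theorem N22296 : nd 22296 = n32653 := ndS (p := 20529) (l := 5) rfl N20529 D32653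
theorem N22297 : nd 22297 = n32654 := ndS (p := 20534) (l := 1) rfl N20534 D32654
theorem N22298 : nd 22298 = n32655 := ndS (p := 20536) (l := 6) rfl N20536 D32655
theorem N22299 : nd 22299 = n32656 := ndS (p := 20538) (l := 5) rfl N20538 D32656
theorem N22300 : nd 22300 = n32657 := ndS (p := 20538) (l := 6) rfl N20538 D32657
theorem N22301 : nd 22301 = n32658 := ndS (p := 20540) (l := 1) rfl N20540 D32658
theorem N22302 : nd 22302 = n32659 := ndS (p := 20543) (l := 0) rfl N20543 D32659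
theorem N22303 : nd 22303 = n32660 := ndS (p := 20546) (l := 5) rfl N20546 D32660
theorem N22304 : nd 22304 = n32661 := ndS (p := 20547) (l := 1) rfl N20547 D32661
theorem N22305 : nd 22305 = n32662 := ndS (p := 20550) (l := 0) rfl N20550 D32662
theorem N22306 : nd 22306 = n32663 := ndS (p := 20554) (l := 1) rfl N20554 D32663
theorem N22307 : nd 22307 = n32664 := ndS (p := 20558) (l := 5) rfl N20558 D32664
theorem N22308 : nd 22308 = n32665 := ndS (p := 20559) (l := 1) rfl N20559 D32665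
theorem N22309 : nd 22309 = n32666 := ndS (p := 20560) (l := 1) rfl N20560 D32666
theorem N22310 : nd 22310 = n32667 := ndS (p := 20561) (l := 0) rfl N20561 D32667
theorem N22311 : nd 22311 = n32668 := ndS (p := 20561) (l := 2) rfl N20561 D32668
theorem N22312 : nd 22312 = n32669 := ndS (p := 20562) (l := 1) rfl N20562 D32669
theorem N22313 : nd 22313 = n32670 := ndS (p := 20563) (l := 3) rfl N20563 D32670
theorem N22314 : nd 22314 = n32671 := ndS (p := 20564) (l := 1) rfl N20564 D32671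
theorem N22315 : nd 22315 = n32672 := ndS (p := 20565) (l := 5) rfl N20565 D32672
theorem N22316 : nd 22316 = n32673 := ndS (p := 20566) (l := 1) rfl N20566 D32673
theorem N22317 : nd 22317 = n32674 := ndS (p := 20574) (l := 0) rfl N20574 D32674
theorem N22318 : nd 22318 = n32675 := ndS (p := 20580) (l := 1) rfl N20580 D32675
theorem N22319 : nd 22319 = n32676 := ndS (p := 20613) (l := 2) rfl N20613 D32676
theorem N22320 : nd 22320 = n32677 := ndS (p := 20614) (l := 1) rfl N20614 D32677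
theorem N22321 : nd 22321 = n32678 := ndS (p := 20614) (l := 5) rfl N20614 D32678
theorem N22322 : nd 22322 = n32679 := ndS (p := 20616) (l := 2) rfl N20616 D32679
theorem N22323 : nd 22323 = n32680 := ndS (p := 20617) (l := 1) rfl N20617 D32680
theorem N22324 : nd 22324 = n32681 := ndS (p := 20617) (l := 6) rfl N20617 D32681
theorem N22325 : nd 22325 = n32682 := ndS (p := 20624) (l := 1) rfl N20624 D32682
theorem N22326 : nd 22326 = n32683 := ndS (p := 20625) (l := 5) rfl N20625 D32683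
theorem N22327 : nd 22327 = n32684 := ndS (p := 20626) (l := 1) rfl N20626 D32684
theorem N22328 : nd 22328 = n32685 := ndS (p := 20627) (l := 0) rfl N20627 D32685
theorem N22329 : nd 22329 = n32686 := ndS (p := 20627) (l := 2) rfl N20627 D32686
theorem N22330 : nd 22330 = n32687 := ndS (p := 20627) (l := 5) rfl N20627 D32687
theorem N22331 : nd 22331 = n32688 := ndS (p := 20628) (l := 1) rfl N20628 D32688
theorem N22332 : nd 22332 = n32689 := ndS (p := 20628) (l := 5) rfl N20628 D32689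
theorem N22333 : nd 22333 = n32690 := ndS (p := 20629) (l := 5) rfl N20629 D32690
theorem N22334 : nd 22334 = n32691 := ndS (p := 20631) (l := 5) rfl N20631 D32691
theorem N22335 : nd 22335 = n32692 := ndS (p := 20633) (l := 1) rfl N20633 D32692
theorem N22336 : nd 22336 = n32693 := ndS (p := 20635) (l := 2) rfl N20635 D32693
theorem N22337 : nd 22337 = n32694 := ndS (p := 20638) (l := 3) rfl N20638 D32694
theorem N22338 : nd 22338 = n32695 := ndS (p := 20638) (l := 6) rfl N20638 D32695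
theorem N22339 : nd 22339 = n32696 := ndS (p := 20651) (l := 1) rfl N20651 D32696
theorem N22340 : nd 22340 = n32697 := ndS (p := 20652) (l := 6) rfl N20652 D32697
theorem N22341 : nd 22341 = n32698 := ndS (p := 20653) (l := 1) rfl N20653 D32698
theorem N22342 : nd 22342 = n32699 := ndS (p := 20654) (l := 0) rfl N20654 D32699
theorem N22343 : nd 22343 = n32700 := ndS (p := 20654) (l := 2) rfl N20654 D32700
theorem N22344 : nd 22344 = n32701 := ndS (p := 20654) (l := 6) rfl N20654 D32701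
theorem N22345 : nd 22345 = n32702 := ndS (p := 20655) (l := 1) rfl N20655 D32702
theorem N22346 : nd 22346 = n32703 := ndS (p := 20655) (l := 6) rfl N20655 D32703
theorem N22347 : nd 22347 = n32704 := ndS (p := 20656) (l := 6) rfl N20656 D32704
theorem N22348 : nd 22348 = n32705 := ndS (p := 20658) (l := 6) rfl N20658 D32705
theorem N22349 : nd 22349 = n32706 := ndS (p := 20660) (l := 1) rfl N20660 D32706
theorem N22350 : nd 22350 = n32707 := ndS (p := 20664) (l := 5) rfl N20664 D32707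
theorem N22351 : nd 22351 = n32708 := ndS (p := 20676) (l := 5) rfl N20676 D32708
theorem N22352 : nd 22352 = n32709 := ndS (p := 20680) (l := 5) rfl N20680 D32709
theorem N22353 : nd 22353 = n32710 := ndS (p := 20688) (l := 6) rfl N20688 D32710
theorem N22354 : nd 22354 = n32711 := ndS (p := 20693) (l := 5) rfl N20693 D32711
theorem N22355 : nd 22355 = n32712 := ndS (p := 20695) (l := 3) rfl N20695 D32712
theorem N22356 : nd 22356 = n32713 := ndS (p := 20696) (l := 3) rfl N20696 D32713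
theorem N22357 : nd 22357 = n32714 := ndS (p := 20705) (l := 1) rfl N20705 D32714
theorem N22358 : nd 22358 = n32715 := ndS (p := 20709) (l := 2) rfl N20709 D32715
theorem N22359 : nd 22359 = n32716 := ndS (p := 20713) (l := 6) rfl N20713 D32716
theorem N22360 : nd 22360 = n32717 := ndS (p := 20717) (l := 6) rfl N20717 D32717
theorem N22361 : nd 22361 = n32718 := ndS (p := 20728) (l := 6) rfl N20728 D32718
theorem N22362 : nd 22362 = n32719 := ndS (p := 20730) (l := 3) rfl N20730 D32719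
theorem N22363 : nd 22363 = n32720 := ndS (p := 20738) (l := 1) rfl N20738 D32720
theorem N22364 : nd 22364 = n32721 := ndS (p := 20742) (l := 2) rfl N20742 D32721
theorem N22365 : nd 22365 = n32722 := ndS (p := 20748) (l := 3) rfl N20748 D32722
theorem N22366 : nd 22366 = n32723 := ndS (p := 20748) (l := 5) rfl N20748 D32723
theorem N22367 : nd 22367 = n32724 := ndS (p := 20748) (l := 6) rfl N20748 D32724
theorem N22368 : nd 22368 = n32725 := ndS (p := 20749) (l := 1) rfl N20749 D32725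
theorem N22369 : nd 22369 = n32726 := ndS (p := 20753) (l := 6) rfl N20753 D32726
theorem N22370 : nd 22370 = n32727 := ndS (p := 20760) (l := 3) rfl N20760 D32727
theorem N22371 : nd 22371 = n32728 := ndS (p := 20760) (l := 5) rfl N20760 D32728
theorem N22372 : nd 22372 = n32729 := ndS (p := 20760) (l := 6) rfl N20760 D32729
theorem N22373 : nd 22373 = n32730 := ndS (p := 20762) (l := 1) rfl N20762 D32730
theorem N22374 : nd 22374 = n32731 := ndS (p := 20773) (l := 5) rfl N20773 D32731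
theorem N22375 : nd 22375 = n32732 := ndS (p := 20775) (l := 1) rfl N20775 D32732
theorem N22376 : nd 22376 = n32733 := ndS (p := 20776) (l := 0) rfl N20776 D32733
theorem N22377 : nd 22377 = n32734 := ndS (p := 20776) (l := 2) rfl N20776 D32734
theorem N22378 : nd 22378 = n32735 := ndS (p := 20777) (l := 1) rfl N20777 D32735
theorem N22379 : nd 22379 = n32736 := ndS (p := 20778) (l := 3) rfl N20778 D32736
theorem N22380 : nd 22380 = n32737 := ndS (p := 20779) (l := 5) rfl N20779 D32737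
theorem N22381 : nd 22381 = n32738 := ndS (p := 20779) (l := 6) rfl N20779 D32738
theorem N22382 : nd 22382 = n32739 := ndS (p := 20780) (l := 1) rfl N20780 D32739
theorem N22383 : nd 22383 = n32740 := ndS (p := 20789) (l := 5) rfl N20789 D32740
theorem N22384 : nd 22384 = n32741 := ndS (p := 20832) (l := 5) rfl N20832 D32741
theorem N22385 : nd 22385 = n32742 := ndS (p := 20835) (l := 6) rfl N20835 D32742
theorem N22386 : nd 22386 = n32743 := ndS (p := 20850) (l := 2) rfl N20850 D32743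
theorem N22387 : nd 22387 = n32744 := ndS (p := 20850) (l := 4) rfl N20850 D32744
theorem N22388 : nd 22388 = n32745 := ndS (p := 20850) (l := 5) rfl N20850 D32745
theorem N22389 : nd 22389 = n32746 := ndS (p := 20857) (l := 2) rfl N20857 D32746
theorem N22390 : nd 22390 = n32747 := ndS (p := 20857) (l := 4) rfl N20857 D32747
theorem N22391 : nd 22391 = n32748 := ndS (p := 20857) (l := 6) rfl N20857 D32748
theorem N22392 : nd 22392 = n32749 := ndS (p := 20861) (l := 6) rfl N20861 D32749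
theorem N22393 : nd 22393 = n32750 := ndS (p := 20862) (l := 1) rfl N20862 D32750
theorem N22394 : nd 22394 = n32751 := ndS (p := 20864) (l := 0) rfl N20864 D32751
theorem N22395 : nd 22395 = n32752 := ndS (p := 20864) (l := 2) rfl N20864 D32752
theorem N22396 : nd 22396 = n32753 := ndS (p := 20865) (l := 0) rfl N20865 D32753
theorem N22397 : nd 22397 = n32754 := ndS (p := 20879) (l := 5) rfl N20879 D32754
theorem N22398 : nd 22398 = n32755 := ndS (p := 20885) (l := 1) rfl N20885 D32755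
theorem N22399 : nd 22399 = n32756 := ndS (p := 20886) (l := 5) rfl N20886 D32756
theorem N22400 : nd 22400 = n32757 := ndS (p := 20887) (l := 0) rfl N20887 D32757
theorem N22401 : nd 22401 = n32758 := ndS (p := 20887) (l := 2) rfl N20887 D32758
theorem N22402 : nd 22402 = n32759 := ndS (p := 20891) (l := 0) rfl N20891 D32759
theorem N22403 : nd 22403 = n32760 := ndS (p := 20903) (l := 6) rfl N20903 D32760
theorem N22404 : nd 22404 = n32761 := ndS (p := 20909) (l := 1) rfl N20909 D32761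
theorem N22405 : nd 22405 = n32762 := ndS (p := 20911) (l := 1) rfl N20911 D32762
theorem N22406 : nd 22406 = n32763 := ndS (p := 20914) (l := 2) rfl N20914 D32763
theorem N22407 : nd 22407 = n32764 := ndS (p := 20914) (l := 5) rfl N20914 D32764
theorem N22408 : nd 22408 = n32765 := ndS (p := 20915) (l := 2) rfl N20915 D32765
theorem N22409 : nd 22409 = n32766 := ndS (p := 20915) (l := 5) rfl N20915 D32766
theorem N22410 : nd 22410 = n32767 := ndS (p := 20917) (l := 5) rfl N20917 D32767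
theorem N22411 : nd 22411 = n32768 := ndS (p := 20921) (l := 0) rfl N20921 D32768
theorem N22412 : nd 22412 = n32769 := ndS (p := 20921) (l := 5) rfl N20921 D32769
theorem N22413 : nd 22413 = n32770 := ndS (p := 20922) (l := 1) rfl N20922 D32770
theorem N22414 : nd 22414 = n32771 := ndS (p := 20922) (l := 2) rfl N20922 D32771
theorem N22415 : nd 22415 = n32772 := ndS (p := 20922) (l := 5) rfl N20922 D32772
theorem N22416 : nd 22416 = n32773 := ndS (p := 20923) (l := 5) rfl N20923 D32773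
theorem N22417 : nd 22417 = n32774 := ndS (p := 20924) (l := 6) rfl N20924 D32774
theorem N22418 : nd 22418 = n32775 := ndS (p := 20925) (l := 2) rfl N20925 D32775
theorem N22419 : nd 22419 = n32776 := ndS (p := 20926) (l := 1) rfl N20926 D32776
theorem N22420 : nd 22420 = n32777 := ndS (p := 20926) (l := 5) rfl N20926 D32777
theorem N22421 : nd 22421 = n32778 := ndS (p := 20928) (l := 6) rfl N20928 D32778
theorem N22422 : nd 22422 = n32779 := ndS (p := 20933) (l := 1) rfl N20933 D32779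
theorem N22423 : nd 22423 = n32780 := ndS (p := 20938) (l := 1) rfl N20938 D32780
theorem N22424 : nd 22424 = n32781 := ndS (p := 20940) (l := 1) rfl N20940 D32781
theorem N22425 : nd 22425 = n32782 := ndS (p := 20943) (l := 2) rfl N20943 D32782
theorem N22426 : nd 22426 = n32783 := ndS (p := 20943) (l := 6) rfl N20943 D32783
theorem N22427 : nd 22427 = n32784 := ndS (p := 20944) (l := 2) rfl N20944 D32784
theorem N22428 : nd 22428 = n32785 := ndS (p := 20944) (l := 6) rfl N20944 D32785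
theorem N22429 : nd 22429 = n32786 := ndS (p := 20946) (l := 6) rfl N20946 D32786
theorem N22430 : nd 22430 = n32787 := ndS (p := 20950) (l := 0) rfl N20950 D32787
theorem N22431 : nd 22431 = n32788 := ndS (p := 20950) (l := 6) rfl N20950 D32788
theorem N22432 : nd 22432 = n32789 := ndS (p := 20951) (l := 6) rfl N20951 D32789
theorem N22433 : nd 22433 = n32790 := ndS (p := 20953) (l := 5) rfl N20953 D32790
theorem N22434 : nd 22434 = n32791 := ndS (p := 20955) (l := 6) rfl N20955 D32791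
theorem N22435 : nd 22435 = n32792 := ndS (p := 20957) (l := 5) rfl N20957 D32792
theorem N22436 : nd 22436 = n32793 := ndS (p := 20965) (l := 3) rfl N20965 D32793
theorem N22437 : nd 22437 = n32794 := ndS (p := 20965) (l := 5) rfl N20965 D32794
theorem N22438 : nd 22438 = n32795 := ndS (p := 20966) (l := 2) rfl N20966 D32795
theorem N22439 : nd 22439 = n32796 := ndS (p := 20966) (l := 4) rfl N20966 D32796
theorem N22440 : nd 22440 = n32797 := ndS (p := 20967) (l := 3) rfl N20967 D32797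
theorem N22441 : nd 22441 = n32798 := ndS (p := 20971) (l := 5) rfl N20971 D32798
theorem N22442 : nd 22442 = n32799 := ndS (p := 20972) (l := 1) rfl N20972 D32799
theorem N22443 : nd 22443 = n32800 := ndS (p := 20973) (l := 5) rfl N20973 D32800
theorem N22444 : nd 22444 = n32801 := ndS (p := 20976) (l := 1) rfl N20976 D32801
theorem N22445 : nd 22445 = n32802 := ndS (p := 20976) (l := 5) rfl N20976 D32802
theorem N22446 : nd 22446 = n32803 := ndS (p := 20980) (l := 5) rfl N20980 D32803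
theorem N22447 : nd 22447 = n32804 := ndS (p := 20982) (l := 6) rfl N20982 D32804
theorem N22448 : nd 22448 = n32805 := ndS (p := 20985) (l := 3) rfl N20985 D32805
theorem N22449 : nd 22449 = n32806 := ndS (p := 20991) (l := 3) rfl N20991 D32806
theorem N22450 : nd 22450 = n32807 := ndS (p := 20991) (l := 6) rfl N20991 D32807
theorem N22451 : nd 22451 = n32808 := ndS (p := 20992) (l := 2) rfl N20992 D32808
theorem N22452 : nd 22452 = n32809 := ndS (p := 20992) (l := 4) rfl N20992 D32809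
theorem N22453 : nd 22453 = n32810 := ndS (p := 20993) (l := 3) rfl N20993 D32810
theorem N22454 : nd 22454 = n32811 := ndS (p := 20997) (l := 6) rfl N20997 D32811
theorem N22455 : nd 22455 = n32812 := ndS (p := 20998) (l := 1) rfl N20998 D32812
theorem N22456 : nd 22456 = n32813 := ndS (p := 20999) (l := 6) rfl N20999 D32813
theorem N22457 : nd 22457 = n32814 := ndS (p := 21002) (l := 1) rfl N21002 D32814
theorem N22458 : nd 22458 = n32815 := ndS (p := 21002) (l := 6) rfl N21002 D32815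
theorem N22459 : nd 22459 = n32816 := ndS (p := 21006) (l := 6) rfl N21006 D32816
theorem N22460 : nd 22460 = n32817 := ndS (p := 21008) (l := 5) rfl N21008 D32817
theorem N22461 : nd 22461 = n32818 := ndS (p := 21011) (l := 3) rfl N21011 D32818
theorem N22462 : nd 22462 = n32819 := ndS (p := 21020) (l := 5) rfl N21020 D32819
theorem N22463 : nd 22463 = n32820 := ndS (p := 21022) (l := 5) rfl N21022 D32820
theorem N22464 : nd 22464 = n32821 := ndS (p := 21023) (l := 1) rfl N21023 D32821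
theorem N22465 : nd 22465 = n32822 := ndS (p := 21027) (l := 3) rfl N21027 D32822
theorem N22466 : nd 22466 = n32823 := ndS (p := 21036) (l := 5) rfl N21036 D32823
theorem N22467 : nd 22467 = n32824 := ndS (p := 21037) (l := 1) rfl N21037 D32824
theorem N22468 : nd 22468 = n32825 := ndS (p := 21041) (l := 1) rfl N21041 D32825
theorem N22469 : nd 22469 = n32826 := ndS (p := 21043) (l := 2) rfl N21043 D32826
theorem N22470 : nd 22470 = n32827 := ndS (p := 21044) (l := 3) rfl N21044 D32827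
theorem N22471 : nd 22471 = n32828 := ndS (p := 21049) (l := 1) rfl N21049 D32828
theorem N22472 : nd 22472 = n32829 := ndS (p := 21049) (l := 3) rfl N21049 D32829
theorem N22473 : nd 22473 = n32830 := ndS (p := 21051) (l := 5) rfl N21051 D32830
theorem N22474 : nd 22474 = n32831 := ndS (p := 21059) (l := 6) rfl N21059 D32831
theorem N22475 : nd 22475 = n32832 := ndS (p := 21061) (l := 6) rfl N21061 D32832
theorem N22476 : nd 22476 = n32833 := ndS (p := 21062) (l := 1) rfl N21062 D32833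
theorem N22477 : nd 22477 = n32834 := ndS (p := 21065) (l := 3) rfl N21065 D32834
theorem N22478 : nd 22478 = n32835 := ndS (p := 21073) (l := 6) rfl N21073 D32835
theorem N22479 : nd 22479 = n32836 := ndS (p := 21074) (l := 1) rfl N21074 D32836
theorem N22480 : nd 22480 = n32837 := ndS (p := 21078) (l := 1) rfl N21078 D32837
theorem N22481 : nd 22481 = n32838 := ndS (p := 21080) (l := 2) rfl N21080 D32838
theorem N22482 : nd 22482 = n32839 := ndS (p := 21081) (l := 3) rfl N21081 D32839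
theorem N22483 : nd 22483 = n32840 := ndS (p := 21084) (l := 1) rfl N21084 D32840
theorem N22484 : nd 22484 = n32841 := ndS (p := 21084) (l := 3) rfl N21084 D32841
theorem N22485 : nd 22485 = n32842 := ndS (p := 21086) (l := 6) rfl N21086 D32842
theorem N22486 : nd 22486 = n32843 := ndS (p := 21092) (l := 5) rfl N21092 D32843
theorem N22487 : nd 22487 = n32844 := ndS (p := 21093) (l := 0) rfl N21093 D32844
theorem N22488 : nd 22488 = n32845 := ndS (p := 21093) (l := 2) rfl N21093 D32845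
theorem N22489 : nd 22489 = n32846 := ndS (p := 21094) (l := 0) rfl N21094 D32846
theorem N22490 : nd 22490 = n32847 := ndS (p := 21094) (l := 2) rfl N21094 D32847
theorem N22491 : nd 22491 = n32848 := ndS (p := 21094) (l := 5) rfl N21094 D32848
theorem N22492 : nd 22492 = n32849 := ndS (p := 21096) (l := 3) rfl N21096 D32849
theorem N22493 : nd 22493 = n32850 := ndS (p := 21102) (l := 2) rfl N21102 D32850
theorem N22494 : nd 22494 = n32851 := ndS (p := 21106) (l := 0) rfl N21106 D32851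
theorem N22495 : nd 22495 = n32852 := ndS (p := 21106) (l := 5) rfl N21106 D32852
theorem N22496 : nd 22496 = n32853 := ndS (p := 21108) (l := 1) rfl N21108 D32853
theorem N22497 : nd 22497 = n32854 := ndS (p := 21108) (l := 6) rfl N21108 D32854
theorem N22498 : nd 22498 = n32855 := ndS (p := 21109) (l := 0) rfl N21109 D32855
theorem N22499 : nd 22499 = n32856 := ndS (p := 21109) (l := 2) rfl N21109 D32856
theorem N22500 : nd 22500 = n32857 := ndS (p := 21110) (l := 5) rfl N21110 D32857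
theorem N22501 : nd 22501 = n32858 := ndS (p := 21112) (l := 6) rfl N21112 D32858
theorem N22502 : nd 22502 = n32859 := ndS (p := 21114) (l := 0) rfl N21114 D32859
theorem N22503 : nd 22503 = n32860 := ndS (p := 21116) (l := 6) rfl N21116 D32860
theorem N22504 : nd 22504 = n32861 := ndS (p := 21117) (l := 6) rfl N21117 D32861
theorem N22505 : nd 22505 = n32862 := ndS (p := 21124) (l := 1) rfl N21124 D32862
theorem N22506 : nd 22506 = n32863 := ndS (p := 21128) (l := 2) rfl N21128 D32863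
theorem N22507 : nd 22507 = n32864 := ndS (p := 21131) (l := 1) rfl N21131 D32864
theorem N22508 : nd 22508 = n32865 := ndS (p := 21131) (l := 5) rfl N21131 D32865
theorem N22509 : nd 22509 = n32866 := ndS (p := 21132) (l := 5) rfl N21132 D32866
theorem N22510 : nd 22510 = n32867 := ndS (p := 21135) (l := 5) rfl N21135 D32867
theorem N22511 : nd 22511 = n32868 := ndS (p := 21137) (l := 1) rfl N21137 D32868
theorem N22512 : nd 22512 = n32869 := ndS (p := 21139) (l := 6) rfl N21139 D32869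
theorem N22513 : nd 22513 = n32870 := ndS (p := 21141) (l := 5) rfl N21141 D32870
theorem N22514 : nd 22514 = n32871 := ndS (p := 21145) (l := 1) rfl N21145 D32871
theorem N22515 : nd 22515 = n32872 := ndS (p := 21147) (l := 6) rfl N21147 D32872
theorem N22516 : nd 22516 = n32873 := ndS (p := 21148) (l := 2) rfl N21148 D32873
theorem N22517 : nd 22517 = n32874 := ndS (p := 21149) (l := 6) rfl N21149 D32874
theorem N22518 : nd 22518 = n32875 := ndS (p := 21155) (l := 2) rfl N21155 D32875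
theorem N22519 : nd 22519 = n32876 := ndS (p := 21159) (l := 0) rfl N21159 D32876
theorem N22520 : nd 22520 = n32877 := ndS (p := 21159) (l := 6) rfl N21159 D32877
theorem N22521 : nd 22521 = n32878 := ndS (p := 21161) (l := 1) rfl N21161 D32878
theorem N22522 : nd 22522 = n32879 := ndS (p := 21161) (l := 5) rfl N21161 D32879
theorem N22523 : nd 22523 = n32880 := ndS (p := 21162) (l := 0) rfl N21162 D32880
theorem N22524 : nd 22524 = n32881 := ndS (p := 21162) (l := 2) rfl N21162 D32881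
theorem N22525 : nd 22525 = n32882 := ndS (p := 21164) (l := 0) rfl N21164 D32882
theorem N22526 : nd 22526 = n32883 := ndS (p := 21169) (l := 6) rfl N21169 D32883
theorem N22527 : nd 22527 = n32884 := ndS (p := 21171) (l := 5) rfl N21171 D32884
theorem N22528 : nd 22528 = n32885 := ndS (p := 21177) (l := 1) rfl N21177 D32885
theorem N22529 : nd 22529 = n32886 := ndS (p := 21181) (l := 2) rfl N21181 D32886
theorem N22530 : nd 22530 = n32887 := ndS (p := 21184) (l := 1) rfl N21184 D32887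
theorem N22531 : nd 22531 = n32888 := ndS (p := 21184) (l := 6) rfl N21184 D32888
theorem N22532 : nd 22532 = n32889 := ndS (p := 21185) (l := 6) rfl N21185 D32889
theorem N22533 : nd 22533 = n32890 := ndS (p := 21187) (l := 1) rfl N21187 D32890
theorem N22534 : nd 22534 = n32891 := ndS (p := 21190) (l := 6) rfl N21190 D32891
theorem N22535 : nd 22535 = n32892 := ndS (p := 21194) (l := 1) rfl N21194 D32892
theorem N22536 : nd 22536 = n32893 := ndS (p := 21204) (l := 0) rfl N21204 D32893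
theorem N22537 : nd 22537 = n32894 := ndS (p := 21204) (l := 5) rfl N21204 D32894
theorem N22538 : nd 22538 = n32895 := ndS (p := 21206) (l := 1) rfl N21206 D32895
theorem N22539 : nd 22539 = n32896 := ndS (p := 21207) (l := 0) rfl N21207 D32896
theorem N22540 : nd 22540 = n32897 := ndS (p := 21209) (l := 2) rfl N21209 D32897
theorem N22541 : nd 22541 = n32898 := ndS (p := 21210) (l := 1) rfl N21210 D32898
theorem N22542 : nd 22542 = n32899 := ndS (p := 21210) (l := 2) rfl N21210 D32899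
theorem N22543 : nd 22543 = n32900 := ndS (p := 21211) (l := 3) rfl N21211 D32900
theorem N22544 : nd 22544 = n32901 := ndS (p := 21211) (l := 6) rfl N21211 D32901
theorem N22545 : nd 22545 = n32902 := ndS (p := 21213) (l := 6) rfl N21213 D32902
theorem N22546 : nd 22546 = n32903 := ndS (p := 21214) (l := 1) rfl N21214 D32903
theorem N22547 : nd 22547 = n32904 := ndS (p := 21224) (l := 0) rfl N21224 D32904
theorem N22548 : nd 22548 = n32905 := ndS (p := 21224) (l := 6) rfl N21224 D32905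
theorem N22549 : nd 22549 = n32906 := ndS (p := 21227) (l := 0) rfl N21227 D32906
theorem N22550 : nd 22550 = n32907 := ndS (p := 21229) (l := 1) rfl N21229 D32907
theorem N22551 : nd 22551 = n32908 := ndS (p := 21229) (l := 2) rfl N21229 D32908
theorem N22552 : nd 22552 = n32909 := ndS (p := 21230) (l := 3) rfl N21230 D32909
theorem N22553 : nd 22553 = n32910 := ndS (p := 21230) (l := 5) rfl N21230 D32910
theorem N22554 : nd 22554 = n32911 := ndS (p := 21233) (l := 5) rfl N21233 D32911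
theorem N22555 : nd 22555 = n32912 := ndS (p := 21234) (l := 1) rfl N21234 D32912
theorem N22556 : nd 22556 = n32913 := ndS (p := 21242) (l := 1) rfl N21242 D32913
theorem N22557 : nd 22557 = n32914 := ndS (p := 21244) (l := 2) rfl N21244 D32914
theorem N22558 : nd 22558 = n32915 := ndS (p := 21253) (l := 1) rfl N21253 D32915
theorem N22559 : nd 22559 = n32916 := ndS (p := 21255) (l := 2) rfl N21255 D32916
theorem N22560 : nd 22560 = n32917 := ndS (p := 21266) (l := 2) rfl N21266 D32917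
theorem N22561 : nd 22561 = n32918 := ndS (p := 21267) (l := 5) rfl N21267 D32918
theorem N22562 : nd 22562 = n32919 := ndS (p := 21268) (l := 6) rfl N21268 D32919
theorem N22563 : nd 22563 = n32920 := ndS (p := 21275) (l := 2) rfl N21275 D32920
theorem N22564 : nd 22564 = n32921 := ndS (p := 21276) (l := 6) rfl N21276 D32921
theorem N22565 : nd 22565 = n32922 := ndS (p := 21277) (l := 5) rfl N21277 D32922
theorem N22566 : nd 22566 = n32923 := ndS (p := 21293) (l := 3) rfl N21293 D32923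
theorem N22567 : nd 22567 = n32924 := ndS (p := 21294) (l := 4) rfl N21294 D32924
theorem N22568 : nd 22568 = n32925 := ndS (p := 21295) (l := 3) rfl N21295 D32925
theorem N22569 : nd 22569 = n32926 := ndS (p := 21296) (l := 4) rfl N21296 D32926
theorem N22570 : nd 22570 = n32927 := ndS (p := 21305) (l := 1) rfl N21305 D32927
theorem N22571 : nd 22571 = n32928 := ndS (p := 21307) (l := 2) rfl N21307 D32928
theorem N22572 : nd 22572 = n32929 := ndS (p := 21333) (l := 1) rfl N21333 D32929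
theorem N22573 : nd 22573 = n32930 := ndS (p := 21333) (l := 3) rfl N21333 D32930
theorem N22574 : nd 22574 = n32931 := ndS (p := 21334) (l := 4) rfl N21334 D32931
theorem N22575 : nd 22575 = n32932 := ndS (p := 21335) (l := 1) rfl N21335 D32932
theorem N22576 : nd 22576 = n32933 := ndS (p := 21335) (l := 3) rfl N21335 D32933
theorem N22577 : nd 22577 = n32934 := ndS (p := 21336) (l := 4) rfl N21336 D32934
theorem N22578 : nd 22578 = n32935 := ndS (p := 21353) (l := 1) rfl N21353 D32935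
theorem N22579 : nd 22579 = n32936 := ndS (p := 21361) (l := 1) rfl N21361 D32936
theorem N22580 : nd 22580 = n32937 := ndS (p := 21372) (l := 2) rfl N21372 D32937
theorem N22581 : nd 22581 = n32938 := ndS (p := 21380) (l := 1) rfl N21380 D32938
theorem N22582 : nd 22582 = n32939 := ndS (p := 21381) (l := 2) rfl N21381 D32939
theorem N22583 : nd 22583 = n32940 := ndS (p := 21385) (l := 2) rfl N21385 D32940
theorem N22584 : nd 22584 = n32941 := ndS (p := 21385) (l := 5) rfl N21385 D32941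
theorem N22585 : nd 22585 = n32942 := ndS (p := 21388) (l := 2) rfl N21388 D32942
theorem N22586 : nd 22586 = n32943 := ndS (p := 21389) (l := 2) rfl N21389 D32943
theorem N22587 : nd 22587 = n32944 := ndS (p := 21389) (l := 5) rfl N21389 D32944
theorem N22588 : nd 22588 = n32945 := ndS (p := 21390) (l := 3) rfl N21390 D32945
theorem N22589 : nd 22589 = n32946 := ndS (p := 21390) (l := 5) rfl N21390 D32946
theorem N22590 : nd 22590 = n32947 := ndS (p := 21392) (l := 6) rfl N21392 D32947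
theorem N22591 : nd 22591 = n32948 := ndS (p := 21399) (l := 1) rfl N21399 D32948
theorem N22592 : nd 22592 = n32949 := ndS (p := 21406) (l := 1) rfl N21406 D32949
theorem N22593 : nd 22593 = n32950 := ndS (p := 21416) (l := 2) rfl N21416 D32950
theorem N22594 : nd 22594 = n32951 := ndS (p := 21424) (l := 1) rfl N21424 D32951
theorem N22595 : nd 22595 = n32952 := ndS (p := 21425) (l := 2) rfl N21425 D32952
theorem N22596 : nd 22596 = n32953 := ndS (p := 21429) (l := 2) rfl N21429 D32953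
theorem N22597 : nd 22597 = n32954 := ndS (p := 21429) (l := 6) rfl N21429 D32954
theorem N22598 : nd 22598 = n32955 := ndS (p := 21432) (l := 2) rfl N21432 D32955
theorem N22599 : nd 22599 = n32956 := ndS (p := 21433) (l := 2) rfl N21433 D32956
theorem N22600 : nd 22600 = n32957 := ndS (p := 21433) (l := 6) rfl N21433 D32957
theorem N22601 : nd 22601 = n32958 := ndS (p := 21434) (l := 3) rfl N21434 D32958
theorem N22602 : nd 22602 = n32959 := ndS (p := 21434) (l := 6) rfl N21434 D32959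
theorem N22603 : nd 22603 = n32960 := ndS (p := 21436) (l := 5) rfl N21436 D32960
theorem N22604 : nd 22604 = n32961 := ndS (p := 21443) (l := 1) rfl N21443 D32961
theorem N22605 : nd 22605 = n32962 := ndS (p := 21443) (l := 3) rfl N21443 D32962
theorem N22606 : nd 22606 = n32963 := ndS (p := 21444) (l := 4) rfl N21444 D32963
theorem N22607 : nd 22607 = n32964 := ndS (p := 21450) (l := 0) rfl N21450 D32964
theorem N22608 : nd 22608 = n32965 := ndS (p := 21452) (l := 3) rfl N21452 D32965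
theorem N22609 : nd 22609 = n32966 := ndS (p := 21462) (l := 2) rfl N21462 D32966
theorem N22610 : nd 22610 = n32967 := ndS (p := 21465) (l := 1) rfl N21465 D32967
theorem N22611 : nd 22611 = n32968 := ndS (p := 21467) (l := 6) rfl N21467 D32968
theorem N22612 : nd 22612 = n32969 := ndS (p := 21471) (l := 0) rfl N21471 D32969
theorem N22613 : nd 22613 = n32970 := ndS (p := 21471) (l := 2) rfl N21471 D32970
theorem N22614 : nd 22614 = n32971 := ndS (p := 21471) (l := 6) rfl N21471 D32971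
theorem N22615 : nd 22615 = n32972 := ndS (p := 21472) (l := 2) rfl N21472 D32972
theorem N22616 : nd 22616 = n32973 := ndS (p := 21473) (l := 6) rfl N21473 D32973
theorem N22617 : nd 22617 = n32974 := ndS (p := 21475) (l := 6) rfl N21475 D32974
theorem N22618 : nd 22618 = n32975 := ndS (p := 21477) (l := 3) rfl N21477 D32975
theorem N22619 : nd 22619 = n32976 := ndS (p := 21479) (l := 0) rfl N21479 D32976
theorem N22620 : nd 22620 = n32977 := ndS (p := 21481) (l := 2) rfl N21481 D32977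
theorem N22621 : nd 22621 = n32978 := ndS (p := 21481) (l := 4) rfl N21481 D32978
theorem N22622 : nd 22622 = n32979 := ndS (p := 21487) (l := 3) rfl N21487 D32979
theorem N22623 : nd 22623 = n32980 := ndS (p := 21494) (l := 3) rfl N21494 D32980
theorem N22624 : nd 22624 = n32981 := ndS (p := 21504) (l := 2) rfl N21504 D32981
theorem N22625 : nd 22625 = n32982 := ndS (p := 21509) (l := 5) rfl N21509 D32982
theorem N22626 : nd 22626 = n32983 := ndS (p := 21513) (l := 0) rfl N21513 D32983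
theorem N22627 : nd 22627 = n32984 := ndS (p := 21513) (l := 2) rfl N21513 D32984
theorem N22628 : nd 22628 = n32985 := ndS (p := 21513) (l := 5) rfl N21513 D32985
theorem N22629 : nd 22629 = n32986 := ndS (p := 21514) (l := 2) rfl N21514 D32986
theorem N22630 : nd 22630 = n32987 := ndS (p := 21515) (l := 5) rfl N21515 D32987
theorem N22631 : nd 22631 = n32988 := ndS (p := 21517) (l := 5) rfl N21517 D32988
theorem N22632 : nd 22632 = n32989 := ndS (p := 21519) (l := 3) rfl N21519 D32989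
theorem N22633 : nd 22633 = n32990 := ndS (p := 21521) (l := 0) rfl N21521 D32990
theorem N22634 : nd 22634 = n32991 := ndS (p := 21529) (l := 6) rfl N21529 D32991
theorem N22635 : nd 22635 = n32992 := ndS (p := 21535) (l := 3) rfl N21535 D32992
theorem N22636 : nd 22636 = n32993 := ndS (p := 21535) (l := 5) rfl N21535 D32993
theorem N22637 : nd 22637 = n32994 := ndS (p := 21536) (l := 2) rfl N21536 D32994
theorem N22638 : nd 22638 = n32995 := ndS (p := 21536) (l := 4) rfl N21536 D32995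
theorem N22639 : nd 22639 = n32996 := ndS (p := 21538) (l := 1) rfl N21538 D32996
theorem N22640 : nd 22640 = n32997 := ndS (p := 21556) (l := 6) rfl N21556 D32997
theorem N22641 : nd 22641 = n32998 := ndS (p := 21558) (l := 2) rfl N21558 D32998
theorem N22642 : nd 22642 = n32999 := ndS (p := 21558) (l := 5) rfl N21558 D32999
theorem N22643 : nd 22643 = n33000 := ndS (p := 21560) (l := 2) rfl N21560 D33000
theorem N22644 : nd 22644 = n33001 := ndS (p := 21565) (l := 3) rfl N21565 D33001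
theorem N22645 : nd 22645 = n33002 := ndS (p := 21565) (l := 5) rfl N21565 D33002
theorem N22646 : nd 22646 = n33003 := ndS (p := 21566) (l := 4) rfl N21566 D33003
theorem N22647 : nd 22647 = n33004 := ndS (p := 21566) (l := 5) rfl N21566 D33004
theorem N22648 : nd 22648 = n33005 := ndS (p := 21568) (l := 1) rfl N21568 D33005
theorem N22649 : nd 22649 = n33006 := ndS (p := 21574) (l := 4) rfl N21574 D33006
theorem N22650 : nd 22650 = n33007 := ndS (p := 21575) (l := 5) rfl N21575 D33007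
theorem N22651 : nd 22651 = n33008 := ndS (p := 21576) (l := 1) rfl N21576 D33008
theorem N22652 : nd 22652 = n33009 := ndS (p := 21582) (l := 5) rfl N21582 D33009
theorem N22653 : nd 22653 = n33010 := ndS (p := 21585) (l := 1) rfl N21585 D33010
theorem N22654 : nd 22654 = n33011 := ndS (p := 21585) (l := 2) rfl N21585 D33011
theorem N22655 : nd 22655 = n33012 := ndS (p := 21586) (l := 3) rfl N21586 D33012
theorem N22656 : nd 22656 = n33013 := ndS (p := 21587) (l := 0) rfl N21587 D33013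
theorem N22657 : nd 22657 = n33014 := ndS (p := 21587) (l := 6) rfl N21587 D33014
theorem N22658 : nd 22658 = n33015 := ndS (p := 21589) (l := 2) rfl N21589 D33015
theorem N22659 : nd 22659 = n33016 := ndS (p := 21597) (l := 0) rfl N21597 D33016
theorem N22660 : nd 22660 = n33017 := ndS (p := 21598) (l := 4) rfl N21598 D33017
theorem N22661 : nd 22661 = n33018 := ndS (p := 21605) (l := 1) rfl N21605 D33018
theorem N22662 : nd 22662 = n33019 := ndS (p := 21606) (l := 5) rfl N21606 D33019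
theorem N22663 : nd 22663 = n33020 := ndS (p := 21610) (l := 1) rfl N21610 D33020
theorem N22664 : nd 22664 = n33021 := ndS (p := 21611) (l := 1) rfl N21611 D33021
theorem N22665 : nd 22665 = n33022 := ndS (p := 21612) (l := 0) rfl N21612 D33022
theorem N22666 : nd 22666 = n33023 := ndS (p := 21613) (l := 0) rfl N21613 D33023
theorem N22667 : nd 22667 = n33024 := ndS (p := 21614) (l := 4) rfl N21614 D33024
theorem N22668 : nd 22668 = n33025 := ndS (p := 21615) (l := 2) rfl N21615 D33025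
theorem N22669 : nd 22669 = n33026 := ndS (p := 21616) (l := 3) rfl N21616 D33026
theorem N22670 : nd 22670 = n33027 := ndS (p := 21618) (l := 6) rfl N21618 D33027
theorem N22671 : nd 22671 = n33028 := ndS (p := 21621) (l := 1) rfl N21621 D33028
theorem N22672 : nd 22672 = n33029 := ndS (p := 21622) (l := 3) rfl N21622 D33029
theorem N22673 : nd 22673 = n33030 := ndS (p := 21622) (l := 6) rfl N21622 D33030
theorem N22674 : nd 22674 = n33031 := ndS (p := 21623) (l := 4) rfl N21623 D33031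
theorem N22675 : nd 22675 = n33032 := ndS (p := 21625) (l := 2) rfl N21625 D33032
theorem N22676 : nd 22676 = n33033 := ndS (p := 21631) (l := 5) rfl N21631 D33033
theorem N22677 : nd 22677 = n33034 := ndS (p := 21633) (l := 5) rfl N21633 D33034
theorem N22678 : nd 22678 = n33035 := ndS (p := 21634) (l := 1) rfl N21634 D33035
theorem N22679 : nd 22679 = n33036 := ndS (p := 21637) (l := 1) rfl N21637 D33036
theorem N22680 : nd 22680 = n33037 := ndS (p := 21640) (l := 6) rfl N21640 D33037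
theorem N22681 : nd 22681 = n33038 := ndS (p := 21642) (l := 1) rfl N21642 D33038
theorem N22682 : nd 22682 = n33039 := ndS (p := 21644) (l := 0) rfl N21644 D33039
theorem N22683 : nd 22683 = n33040 := ndS (p := 21646) (l := 1) rfl N21646 D33040
theorem N22684 : nd 22684 = n33041 := ndS (p := 21647) (l := 0) rfl N21647 D33041
theorem N22685 : nd 22685 = n33042 := ndS (p := 21647) (l := 5) rfl N21647 D33042
theorem N22686 : nd 22686 = n33043 := ndS (p := 21648) (l := 4) rfl N21648 D33043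
theorem N22687 : nd 22687 = n33044 := ndS (p := 21650) (l := 3) rfl N21650 D33044
theorem N22688 : nd 22688 = n33045 := ndS (p := 21650) (l := 5) rfl N21650 D33045
theorem N22689 : nd 22689 = n33046 := ndS (p := 21654) (l := 4) rfl N21654 D33046
theorem N22690 : nd 22690 = n33047 := ndS (p := 21660) (l := 5) rfl N21660 D33047
theorem N22691 : nd 22691 = n33048 := ndS (p := 21666) (l := 2) rfl N21666 D33048
theorem N22692 : nd 22692 = n33049 := ndS (p := 21666) (l := 4) rfl N21666 D33049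
theorem N22693 : nd 22693 = n33050 := ndS (p := 21684) (l := 2) rfl N21684 D33050
theorem N22694 : nd 22694 = n33051 := ndS (p := 21684) (l := 6) rfl N21684 D33051
theorem N22695 : nd 22695 = n33052 := ndS (p := 21686) (l := 2) rfl N21686 D33052
theorem N22696 : nd 22696 = n33053 := ndS (p := 21691) (l := 3) rfl N21691 D33053
theorem N22697 : nd 22697 = n33054 := ndS (p := 21691) (l := 6) rfl N21691 D33054
theorem N22698 : nd 22698 = n33055 := ndS (p := 21692) (l := 4) rfl N21692 D33055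
theorem N22699 : nd 22699 = n33056 := ndS (p := 21692) (l := 6) rfl N21692 D33056
theorem N22700 : nd 22700 = n33057 := ndS (p := 21694) (l := 1) rfl N21694 D33057
theorem N22701 : nd 22701 = n33058 := ndS (p := 21700) (l := 6) rfl N21700 D33058
theorem N22702 : nd 22702 = n33059 := ndS (p := 21705) (l := 1) rfl N21705 D33059
theorem N22703 : nd 22703 = n33060 := ndS (p := 21705) (l := 2) rfl N21705 D33060
theorem N22704 : nd 22704 = n33061 := ndS (p := 21706) (l := 3) rfl N21706 D33061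
theorem N22705 : nd 22705 = n33062 := ndS (p := 21715) (l := 4) rfl N21715 D33062
theorem N22706 : nd 22706 = n33063 := ndS (p := 21722) (l := 6) rfl N21722 D33063
theorem N22707 : nd 22707 = n33064 := ndS (p := 21725) (l := 1) rfl N21725 D33064
theorem N22708 : nd 22708 = n33065 := ndS (p := 21727) (l := 1) rfl N21727 D33065
theorem N22709 : nd 22709 = n33066 := ndS (p := 21730) (l := 4) rfl N21730 D33066
theorem N22710 : nd 22710 = n33067 := ndS (p := 21731) (l := 3) rfl N21731 D33067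
theorem N22711 : nd 22711 = n33068 := ndS (p := 21732) (l := 5) rfl N21732 D33068
theorem N22712 : nd 22712 = n33069 := ndS (p := 21736) (l := 4) rfl N21736 D33069
theorem N22713 : nd 22713 = n33070 := ndS (p := 21746) (l := 5) rfl N21746 D33070
theorem N22714 : nd 22714 = n33071 := ndS (p := 21748) (l := 1) rfl N21748 D33071
theorem N22715 : nd 22715 = n33072 := ndS (p := 21750) (l := 0) rfl N21750 D33072
theorem N22716 : nd 22716 = n33073 := ndS (p := 21752) (l := 1) rfl N21752 D33073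
theorem N22717 : nd 22717 = n33074 := ndS (p := 21755) (l := 3) rfl N21755 D33074
theorem N22718 : nd 22718 = n33075 := ndS (p := 21764) (l := 1) rfl N21764 D33075
theorem N22719 : nd 22719 = n33076 := ndS (p := 21764) (l := 3) rfl N21764 D33076
theorem N22720 : nd 22720 = n33077 := ndS (p := 21766) (l := 6) rfl N21766 D33077
theorem N22721 : nd 22721 = n33078 := ndS (p := 21772) (l := 4) rfl N21772 D33078
theorem N22722 : nd 22722 = n33079 := ndS (p := 21782) (l := 1) rfl N21782 D33079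
theorem N22723 : nd 22723 = n33080 := ndS (p := 21783) (l := 2) rfl N21783 D33080
theorem N22724 : nd 22724 = n33081 := ndS (p := 21785) (l := 6) rfl N21785 D33081
theorem N22725 : nd 22725 = n33082 := ndS (p := 21787) (l := 1) rfl N21787 D33082
theorem N22726 : nd 22726 = n33083 := ndS (p := 21792) (l := 1) rfl N21792 D33083
theorem N22727 : nd 22727 = n33084 := ndS (p := 21793) (l := 6) rfl N21793 D33084
theorem N22728 : nd 22728 = n33085 := ndS (p := 21794) (l := 1) rfl N21794 D33085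
theorem N22729 : nd 22729 = n33086 := ndS (p := 21806) (l := 4) rfl N21806 D33086
theorem N22730 : nd 22730 = n33087 := ndS (p := 21813) (l := 5) rfl N21813 D33087
theorem N22731 : nd 22731 = n33088 := ndS (p := 21827) (l := 5) rfl N21827 D33088
theorem N22732 : nd 22732 = n33089 := ndS (p := 21832) (l := 1) rfl N21832 D33089
theorem N22733 : nd 22733 = n33090 := ndS (p := 21835) (l := 1) rfl N21835 D33090
theorem N22734 : nd 22734 = n33091 := ndS (p := 21846) (l := 1) rfl N21846 D33091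
theorem N22735 : nd 22735 = n33092 := ndS (p := 21855) (l := 1) rfl N21855 D33092
theorem N22736 : nd 22736 = n33093 := ndS (p := 21868) (l := 1) rfl N21868 D33093
theorem N22737 : nd 22737 = n33094 := ndS (p := 21872) (l := 5) rfl N21872 D33094
theorem N22738 : nd 22738 = n33095 := ndS (p := 21880) (l := 1) rfl N21880 D33095
theorem N22739 : nd 22739 = n33096 := ndS (p := 21886) (l := 1) rfl N21886 D33096
theorem N22740 : nd 22740 = n33097 := ndS (p := 21887) (l := 5) rfl N21887 D33097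
theorem N22741 : nd 22741 = n33098 := ndS (p := 21888) (l := 1) rfl N21888 D33098
theorem N22742 : nd 22742 = n33099 := ndS (p := 21901) (l := 6) rfl N21901 D33099
theorem N22743 : nd 22743 = n33100 := ndS (p := 21914) (l := 1) rfl N21914 D33100
theorem N22744 : nd 22744 = n33101 := ndS (p := 21922) (l := 1) rfl N21922 D33101
theorem N22745 : nd 22745 = n33102 := ndS (p := 21949) (l := 1) rfl N21949 D33102
theorem N22746 : nd 22746 = n33103 := ndS (p := 21950) (l := 5) rfl N21950 D33103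
theorem N22747 : nd 22747 = n33104 := ndS (p := 21953) (l := 5) rfl N21953 D33104
theorem N22748 : nd 22748 = n33105 := ndS (p := 21987) (l := 1) rfl N21987 D33105
theorem N22749 : nd 22749 = n33106 := ndS (p := 22020) (l := 2) rfl N22020 D33106
theorem N22750 : nd 22750 = n33107 := ndS (p := 22035) (l := 2) rfl N22035 D33107
theorem N22751 : nd 22751 = n33108 := ndS (p := 22076) (l := 6) rfl N22076 D33108
theorem N22752 : nd 22752 = n33109 := ndS (p := 22077) (l := 1) rfl N22077 D33109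
theorem N22753 : nd 22753 = n33110 := ndS (p := 22081) (l := 0) rfl N22081 D33110
theorem N22754 : nd 22754 = n33111 := ndS (p := 22081) (l := 2) rfl N22081 D33111
theorem N22755 : nd 22755 = n33112 := ndS (p := 22089) (l := 5) rfl N22089 D33112
theorem N22756 : nd 22756 = n33113 := ndS (p := 22090) (l := 1) rfl N22090 D33113
theorem N22757 : nd 22757 = n33114 := ndS (p := 22094) (l := 0) rfl N22094 D33114
theorem N22758 : nd 22758 = n33115 := ndS (p := 22094) (l := 2) rfl N22094 D33115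
theorem N22759 : nd 22759 = n33116 := ndS (p := 22096) (l := 1) rfl N22096 D33116
theorem N22760 : nd 22760 = n33117 := ndS (p := 22097) (l := 0) rfl N22097 D33117
theorem N22761 : nd 22761 = n33118 := ndS (p := 22097) (l := 6) rfl N22097 D33118
theorem N22762 : nd 22762 = n33119 := ndS (p := 22099) (l := 1) rfl N22099 D33119
theorem N22763 : nd 22763 = n33120 := ndS (p := 22102) (l := 0) rfl N22102 D33120
theorem N22764 : nd 22764 = n33121 := ndS (p := 22102) (l := 5) rfl N22102 D33121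
theorem N22765 : nd 22765 = n33122 := ndS (p := 22102) (l := 6) rfl N22102 D33122
theorem N22766 : nd 22766 = n33123 := ndS (p := 22103) (l := 1) rfl N22103 D33123
theorem N22767 : nd 22767 = n33124 := ndS (p := 22105) (l := 5) rfl N22105 D33124
theorem N22768 : nd 22768 = n33125 := ndS (p := 22108) (l := 5) rfl N22108 D33125
theorem N22769 : nd 22769 = n33126 := ndS (p := 22110) (l := 0) rfl N22110 D33126
theorem N22770 : nd 22770 = n33127 := ndS (p := 22110) (l := 6) rfl N22110 D33127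
theorem N22771 : nd 22771 = n33128 := ndS (p := 22113) (l := 1) rfl N22113 D33128
theorem N22772 : nd 22772 = n33129 := ndS (p := 22114) (l := 0) rfl N22114 D33129
theorem N22773 : nd 22773 = n33130 := ndS (p := 22114) (l := 5) rfl N22114 D33130
theorem N22774 : nd 22774 = n33131 := ndS (p := 22115) (l := 0) rfl N22115 D33131
theorem N22775 : nd 22775 = n33132 := ndS (p := 22115) (l := 5) rfl N22115 D33132
theorem N22776 : nd 22776 = n33133 := ndS (p := 22115) (l := 6) rfl N22115 D33133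
theorem N22777 : nd 22777 = n33134 := ndS (p := 22121) (l := 0) rfl N22121 D33134
theorem N22778 : nd 22778 = n33135 := ndS (p := 22121) (l := 5) rfl N22121 D33135
theorem N22779 : nd 22779 = n33136 := ndS (p := 22125) (l := 1) rfl N22125 D33136
theorem N22780 : nd 22780 = n33137 := ndS (p := 22129) (l := 1) rfl N22129 D33137
theorem N22781 : nd 22781 = n33138 := ndS (p := 22143) (l := 3) rfl N22143 D33138
theorem N22782 : nd 22782 = n33139 := ndS (p := 22143) (l := 6) rfl N22143 D33139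
theorem N22783 : nd 22783 = n33140 := ndS (p := 22146) (l := 3) rfl N22146 D33140
theorem N22784 : nd 22784 = n33141 := ndS (p := 22148) (l := 1) rfl N22148 D33141
theorem N22785 : nd 22785 = n33142 := ndS (p := 22149) (l := 1) rfl N22149 D33142
theorem N22786 : nd 22786 = n33143 := ndS (p := 22151) (l := 4) rfl N22151 D33143
theorem N22787 : nd 22787 = n33144 := ndS (p := 22152) (l := 3) rfl N22152 D33144
theorem N22788 : nd 22788 = n33145 := ndS (p := 22154) (l := 2) rfl N22154 D33145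
theorem N22789 : nd 22789 = n33146 := ndS (p := 22160) (l := 4) rfl N22160 D33146
theorem N22790 : nd 22790 = n33147 := ndS (p := 22161) (l := 3) rfl N22161 D33147
theorem N22791 : nd 22791 = n33148 := ndS (p := 22163) (l := 2) rfl N22163 D33148
theorem N22792 : nd 22792 = n33149 := ndS (p := 22171) (l := 5) rfl N22171 D33149
theorem N22793 : nd 22793 = n33150 := ndS (p := 22178) (l := 6) rfl N22178 D33150
theorem N22794 : nd 22794 = n33151 := ndS (p := 22185) (l := 1) rfl N22185 D33151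
theorem N22795 : nd 22795 = n33152 := ndS (p := 22192) (l := 1) rfl N22192 D33152
theorem N22796 : nd 22796 = n33153 := ndS (p := 22216) (l := 4) rfl N22216 D33153
theorem N22797 : nd 22797 = n33154 := ndS (p := 22231) (l := 4) rfl N22231 D33154
theorem N22798 : nd 22798 = n33155 := ndS (p := 22271) (l := 1) rfl N22271 D33155
theorem N22799 : nd 22799 = n33156 := ndS (p := 22283) (l := 1) rfl N22283 D33156
theorem N22800 : nd 22800 = n33157 := ndS (p := 22292) (l := 1) rfl N22292 D33157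
theorem N22801 : nd 22801 = n33158 := ndS (p := 22302) (l := 1) rfl N22302 D33158
theorem N22802 : nd 22802 = n33159 := ndS (p := 22303) (l := 1) rfl N22303 D33159
theorem N22803 : nd 22803 = n33160 := ndS (p := 22307) (l := 1) rfl N22307 D33160
theorem N22804 : nd 22804 = n33161 := ndS (p := 22308) (l := 2) rfl N22308 D33161
theorem N22805 : nd 22805 = n33162 := ndS (p := 22309) (l := 0) rfl N22309 D33162
theorem N22806 : nd 22806 = n33163 := ndS (p := 22309) (l := 2) rfl N22309 D33163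
theorem N22807 : nd 22807 = n33164 := ndS (p := 22310) (l := 1) rfl N22310 D33164
theorem N22808 : nd 22808 = n33165 := ndS (p := 22310) (l := 2) rfl N22310 D33165
theorem N22809 : nd 22809 = n33166 := ndS (p := 22313) (l := 2) rfl N22313 D33166
theorem N22810 : nd 22810 = n33167 := ndS (p := 22313) (l := 4) rfl N22313 D33167
theorem N22811 : nd 22811 = n33168 := ndS (p := 22315) (l := 1) rfl N22315 D33168
theorem N22812 : nd 22812 = n33169 := ndS (p := 22319) (l := 1) rfl N22319 D33169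
theorem N22813 : nd 22813 = n33170 := ndS (p := 22320) (l := 5) rfl N22320 D33170
theorem N22814 : nd 22814 = n33171 := ndS (p := 22320) (l := 6) rfl N22320 D33171
theorem N22815 : nd 22815 = n33172 := ndS (p := 22321) (l := 1) rfl N22321 D33172
theorem N22816 : nd 22816 = n33173 := ndS (p := 22322) (l := 1) rfl N22322 D33173
theorem N22817 : nd 22817 = n33174 := ndS (p := 22324) (l := 1) rfl N22324 D33174
theorem N22818 : nd 22818 = n33175 := ndS (p := 22325) (l := 5) rfl N22325 D33175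
theorem N22819 : nd 22819 = n33176 := ndS (p := 22328) (l := 1) rfl N22328 D33176
theorem N22820 : nd 22820 = n33177 := ndS (p := 22335) (l := 5) rfl N22335 D33177
theorem N22821 : nd 22821 = n33178 := ndS (p := 22339) (l := 6) rfl N22339 D33178
theorem N22822 : nd 22822 = n33179 := ndS (p := 22342) (l := 1) rfl N22342 D33179
theorem N22823 : nd 22823 = n33180 := ndS (p := 22349) (l := 6) rfl N22349 D33180
theorem N22824 : nd 22824 = n33181 := ndS (p := 22358) (l := 1) rfl N22358 D33181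
theorem N22825 : nd 22825 = n33182 := ndS (p := 22364) (l := 1) rfl N22364 D33182
theorem N22826 : nd 22826 = n33183 := ndS (p := 22366) (l := 1) rfl N22366 D33183
theorem N22827 : nd 22827 = n33184 := ndS (p := 22372) (l := 1) rfl N22372 D33184
theorem N22828 : nd 22828 = n33185 := ndS (p := 22379) (l := 2) rfl N22379 D33185
theorem N22829 : nd 22829 = n33186 := ndS (p := 22379) (l := 4) rfl N22379 D33186
theorem N22830 : nd 22830 = n33187 := ndS (p := 22380) (l := 1) rfl N22380 D33187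
theorem N22831 : nd 22831 = n33188 := ndS (p := 22392) (l := 1) rfl N22392 D33188
theorem N22832 : nd 22832 = n33189 := ndS (p := 22393) (l := 0) rfl N22393 D33189
theorem N22833 : nd 22833 = n33190 := ndS (p := 22393) (l := 2) rfl N22393 D33190
theorem N22834 : nd 22834 = n33191 := ndS (p := 22399) (l := 1) rfl N22399 D33191
theorem N22835 : nd 22835 = n33192 := ndS (p := 22408) (l := 5) rfl N22408 D33192
theorem N22836 : nd 22836 = n33193 := ndS (p := 22410) (l := 1) rfl N22410 D33193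
theorem N22837 : nd 22837 = n33194 := ndS (p := 22414) (l := 5) rfl N22414 D33194
theorem N22838 : nd 22838 = n33195 := ndS (p := 22416) (l := 6) rfl N22416 D33195
theorem N22839 : nd 22839 = n33196 := ndS (p := 22419) (l := 6) rfl N22419 D33196
theorem N22840 : nd 22840 = n33197 := ndS (p := 22420) (l := 1) rfl N22420 D33197
theorem N22841 : nd 22841 = n33198 := ndS (p := 22422) (l := 5) rfl N22422 D33198
theorem N22842 : nd 22842 = n33199 := ndS (p := 22427) (l := 6) rfl N22427 D33199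
theorem N22843 : nd 22843 = n33200 := ndS (p := 22429) (l := 1) rfl N22429 D33200
theorem N22844 : nd 22844 = n33201 := ndS (p := 22434) (l := 1) rfl N22434 D33201
theorem N22845 : nd 22845 = n33202 := ndS (p := 22436) (l := 2) rfl N22436 D33202
theorem N22846 : nd 22846 = n33203 := ndS (p := 22436) (l := 4) rfl N22436 D33203
theorem N22847 : nd 22847 = n33204 := ndS (p := 22449) (l := 2) rfl N22449 D33204
theorem N22848 : nd 22848 = n33205 := ndS (p := 22449) (l := 4) rfl N22449 D33205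
theorem N22849 : nd 22849 = n33206 := ndS (p := 22496) (l := 0) rfl N22496 D33206
theorem N22850 : nd 22850 = n33207 := ndS (p := 22521) (l := 0) rfl N22521 D33207
theorem N22851 : nd 22851 = n33208 := ndS (p := 22544) (l := 1) rfl N22544 D33208
theorem N22852 : nd 22852 = n33209 := ndS (p := 22545) (l := 1) rfl N22545 D33209
theorem N22853 : nd 22853 = n33210 := ndS (p := 22553) (l := 1) rfl N22553 D33210
theorem N22854 : nd 22854 = n33211 := ndS (p := 22554) (l := 1) rfl N22554 D33211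
theorem N22855 : nd 22855 = n33212 := ndS (p := 22556) (l := 6) rfl N22556 D33212
theorem N22856 : nd 22856 = n33213 := ndS (p := 22558) (l := 5) rfl N22558 D33213
theorem N22857 : nd 22857 = n33214 := ndS (p := 22573) (l := 4) rfl N22573 D33214
theorem N22858 : nd 22858 = n33215 := ndS (p := 22576) (l := 4) rfl N22576 D33215
theorem N22859 : nd 22859 = n33216 := ndS (p := 22586) (l := 5) rfl N22586 D33216
theorem N22860 : nd 22860 = n33217 := ndS (p := 22599) (l := 6) rfl N22599 D33217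
theorem N22861 : nd 22861 = n33218 := ndS (p := 22612) (l := 2) rfl N22612 D33218
theorem N22862 : nd 22862 = n33219 := ndS (p := 22626) (l := 2) rfl N22626 D33219
theorem N22863 : nd 22863 = n33220 := ndS (p := 22650) (l := 1) rfl N22650 D33220
theorem N22864 : nd 22864 = n33221 := ndS (p := 22653) (l := 0) rfl N22653 D33221
theorem N22865 : nd 22865 = n33222 := ndS (p := 22653) (l := 6) rfl N22653 D33222
theorem N22866 : nd 22866 = n33223 := ndS (p := 22663) (l := 0) rfl N22663 D33223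
theorem N22867 : nd 22867 = n33224 := ndS (p := 22664) (l := 0) rfl N22664 D33224
theorem N22868 : nd 22868 = n33225 := ndS (p := 22670) (l := 1) rfl N22670 D33225
theorem N22869 : nd 22869 = n33226 := ndS (p := 22677) (l := 1) rfl N22677 D33226
theorem N22870 : nd 22870 = n33227 := ndS (p := 22683) (l := 0) rfl N22683 D33227
theorem N22871 : nd 22871 = n33228 := ndS (p := 22683) (l := 5) rfl N22683 D33228
theorem N22872 : nd 22872 = n33229 := ndS (p := 22687) (l := 4) rfl N22687 D33229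
theorem N22873 : nd 22873 = n33230 := ndS (p := 22717) (l := 4) rfl N22717 D33230
theorem N22874 : nd 22874 = n33231 := ndS (p := 22761) (l := 1) rfl N22761 D33231
theorem N22875 : nd 22875 = n33232 := ndS (p := 22766) (l := 5) rfl N22766 D33232
theorem N22876 : nd 22876 = n33233 := ndS (p := 22781) (l := 6) rfl N22781 D33233
theorem N22877 : nd 22877 = n33234 := ndS (p := 22803) (l := 2) rfl N22803 D33234
theorem N22878 : nd 22878 = n33235 := ndS (p := 22805) (l := 2) rfl N22805 D33235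
theorem N22879 : nd 22879 = n33236 := ndS (p := 22813) (l := 1) rfl N22813 D33236
theorem Q1 : ∀ i, i < 1 → P i := stepQ 0 Q0 (allL N0 (tt N0 F1) (tt N0 F2) (tt N0 F3) (tt N0 F4) (tt N1 D1) (tt N0 F5) (tt N0 F6))
theorem Q2 : ∀ i, i < 2 → P i := stepQ 1 Q1 (allL N1 (tt N1 F7) (tt N1 F8) (tt N1 F9) (tt N2 D2) (tt N0 (iv D1)) (tt N1 F10) (tt N1 F11))
theorem Q3 : ∀ i, i < 3 → P i := stepQ 2 Q2 (allL N2 (tt N2 F12) (tt N2 F13) (tt N3 D3) (tt N1 (iv D2)) (tt N2 F14) (tt N2 F15) (tt N2 F16))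
theorem Q4 : ∀ i, i < 4 → P i := stepQ 3 Q3 (allL N3 (tt N3 F17) (tt N4 D4) (tt N2 (iv D3)) (tt N5 D5) (tt N3 F18) (tt N3 F19) (tt N3 F20))
theorem Q5 : ∀ i, i < 5 → P i := stepQ 4 Q4 (allL N4 (tt N6 D6) (tt N3 (iv D4)) (tt N4 F21) (tt N7 D7) (tt N4 F22) (tt N8 D8) (tt N9 D9))
theorem Q6 : ∀ i, i < 6 → P i := stepQ 5 Q5 (allL N5 (tt N5 F23) (tt N7 (iv F29)) (tt N5 F26) (tt N3 (iv D5)) (tt N10 D10) (tt N5 F24) (tt N5 F25))
theorem Q7 : ∀ i, i < 7 → P i := stepQ 6 Q6 (allL N6 (tt N4 (iv D6)) (tt N11 D11) (tt N6 F27) (tt N12 D12) (tt N6 F28) (tt N13 D13) (tt N14 D14))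
theorem Q8 : ∀ i, i < 8 → P i := stepQ 7 Q7 (allL N7 (tt N12 (iv F42)) (tt N5 F29) (tt N15 D15) (tt N4 (iv D7)) (tt N16 D16) (tt N17 D17) (tt N18 D18))
theorem Q9 : ∀ i, i < 9 → P i := stepQ 8 Q8 (allL N8 (tt N13 (iv F43)) (tt N8 F30) (tt N8 F31) (tt N17 (iv F53)) (tt N8 F32) (tt N4 (iv D8)) (tt N19 D19))
theorem Q10 : ∀ i, i < 10 → P i := stepQ 9 Q9 (allL N9 (tt N14 (iv F46)) (tt N9 F33) (tt N9 F34) (tt N18 (iv F55)) (tt N9 F35) (tt N20 D20) (tt N4 (iv D9)))
theorem Q11 : ∀ i, i < 11 → P i := stepQ 10 Q10 (allL N10 (tt N10 F36) (tt N16 (iv F50)) (tt N10 F37) (tt N10 F38) (tt N5 (iv D10)) (tt N10 F39) (tt N10 F40))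
theorem Q12 : ∀ i, i < 12 → P i := stepQ 11 Q11 (allL N11 (tt N21 D21) (tt N6 (iv D11)) (tt N21 (iv F15658)) (tt N22 D23) (tt N11 F41) (tt N23 D24) (tt N24 D25))
theorem Q13 : ∀ i, i < 13 → P i := stepQ 12 Q12 (allL N12 (tt N7 F42) (tt N22 (iv F67)) (tt N25 D26) (tt N6 (iv D12)) (tt N26 D27) (tt N27 D28) (tt N28 D29))
theorem Q14 : ∀ i, i < 14 → P i := stepQ 13 Q13 (allL N13 (tt N8 F43) (tt N29 D30) (tt N13 F44) (tt N27 (iv F74)) (tt N13 F45) (tt N6 (iv D13)) (tt N20 (iv F62)))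
theorem Q15 : ∀ i, i < 15 → P i := stepQ 14 Q14 (allL N14 (tt N9 F46) (tt N30 D31) (tt N14 F47) (tt N28 (iv F76)) (tt N14 F48) (tt N19 (iv F58)) (tt N6 (iv D14)))
theorem Q16 : ∀ i, i < 16 → P i := stepQ 15 Q15 (allL N15 (tt N25 (iv F70)) (tt N15 F49) (tt N7 (iv D15)) (tt N31 D32) (tt N32 D33) (tt N33 D34) (tt N34 D35))
theorem Q17 : ∀ i, i < 17 → P i := stepQ 16 Q16 (allL N16 (tt N26 (iv F71)) (tt N10 F50) (tt N32 (iv F81)) (tt N16 F51) (tt N7 (iv D16)) (tt N35 D36) (tt N36 D37))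
theorem Q18 : ∀ i, i < 18 → P i := stepQ 17 Q17 (allL N17 (tt N27 (iv F73)) (tt N17 F52) (tt N33 (iv F82)) (tt N8 F53) (tt N35 (iv F86)) (tt N7 (iv D17)) (tt N37 D38))
theorem Q19 : ∀ i, i < 19 → P i := stepQ 18 Q18 (allL N18 (tt N28 (iv F75)) (tt N18 F54) (tt N34 (iv F83)) (tt N9 F55) (tt N36 (iv F89)) (tt N38 D39) (tt N7 (iv D18)))
theorem Q20 : ∀ i, i < 20 → P i := stepQ 19 Q19 (allL N19 (tt N20 (iv F59)) (tt N39 D40) (tt N19 F56) (tt N37 (iv F90)) (tt N19 F57) (tt N14 F58) (tt N8 (iv D19)))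
theorem Q21 : ∀ i, i < 21 → P i := stepQ 20 Q20 (allL N20 (tt N19 F59) (tt N40 D41) (tt N20 F60) (tt N38 (iv F93)) (tt N20 F61) (tt N9 (iv D20)) (tt N13 F62))
theorem Q22 : ∀ i, i < 22 → P i := stepQ 21 Q21 (allL N21 (tt N11 (iv D21)) (tt N21 F63) (tt N11 F15658) (tt N41 D43) (tt N21 F64) (tt N42 D44) (tt N43 D45))
theorem Q23 : ∀ i, i < 23 → P i := stepQ 22 Q22 (allL N22 (tt N41 (iv F101)) (tt N12 F67) (tt N44 D49) (tt N11 (iv D23)) (tt N45 D50) (tt N46 D51) (tt N47 D52))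
theorem Q24 : ∀ i, i < 24 → P i := stepQ 23 Q23 (allL N23 (tt N42 (iv F103)) (tt N48 D53) (tt N42 (iv F15628)) (tt N46 (iv F114)) (tt N23 F68) (tt N11 (iv D24)) (tt N49 D54))
theorem Q25 : ∀ i, i < 25 → P i := stepQ 24 Q24 (allL N24 (tt N43 (iv F105)) (tt N50 D55) (tt N43 (iv F15666)) (tt N47 (iv F115)) (tt N24 F69) (tt N51 D56) (tt N11 (iv D25)))
theorem Q26 : ∀ i, i < 26 → P i := stepQ 25 Q25 (allL N25 (tt N15 F70) (tt N52 D57) (tt N12 (iv D26)) (tt N53 D58) (tt N54 D59) (tt N55 D60) (tt N56 D61))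
theorem Q27 : ∀ i, i < 27 → P i := stepQ 26 Q26 (allL N26 (tt N16 F71) (tt N45 (iv F112)) (tt N54 (iv F128)) (tt N26 F72) (tt N12 (iv D27)) (tt N57 D62) (tt N58 D63))
theorem Q28 : ∀ i, i < 28 → P i := stepQ 27 Q27 (allL N27 (tt N17 F73) (tt N59 D64) (tt N55 (iv F130)) (tt N13 F74) (tt N57 (iv F135)) (tt N12 (iv D28)) (tt N38 (iv F94)))
theorem Q29 : ∀ i, i < 29 → P i := stepQ 28 Q28 (allL N28 (tt N18 F75) (tt N60 D65) (tt N56 (iv F132)) (tt N14 F76) (tt N58 (iv F138)) (tt N37 (iv F91)) (tt N12 (iv D29)))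
theorem Q30 : ∀ i, i < 30 → P i := stepQ 29 Q29 (allL N29 (tt N61 D66) (tt N13 (iv D30)) (tt N62 D67) (tt N59 (iv F139)) (tt N29 F77) (tt N48 (iv F117)) (tt N63 D68))
theorem Q31 : ∀ i, i < 31 → P i := stepQ 30 Q30 (allL N30 (tt N64 D69) (tt N14 (iv D31)) (tt N65 D70) (tt N60 (iv F140)) (tt N30 F78) (tt N66 D71) (tt N50 (iv F121)))
theorem Q32 : ∀ i, i < 32 → P i := stepQ 31 Q31 (allL N31 (tt N53 (iv F125)) (tt N31 F79) (tt N53 (iv F126)) (tt N15 (iv D32)) (tt N67 D72) (tt N68 D73) (tt N69 D74))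
theorem Q33 : ∀ i, i < 33 → P i := stepQ 32 Q32 (allL N32 (tt N54 (iv F127)) (tt N32 F80) (tt N16 F81) (tt N70 D75) (tt N15 (iv D33)) (tt N71 D76) (tt N72 D77))
theorem Q34 : ∀ i, i < 34 → P i := stepQ 33 Q33 (allL N33 (tt N55 (iv F129)) (tt N73 D78) (tt N17 F82) (tt N68 (iv F153)) (tt N71 (iv F157)) (tt N15 (iv D34)) (tt N74 D79))
theorem Q35 : ∀ i, i < 35 → P i := stepQ 34 Q34 (allL N34 (tt N56 (iv F131)) (tt N75 D80) (tt N18 F83) (tt N69 (iv F154)) (tt N72 (iv F159)) (tt N76 D81) (tt N15 (iv D35)))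
theorem Q36 : ∀ i, i < 36 → P i := stepQ 35 Q35 (allL N35 (tt N57 (iv F133)) (tt N35 F84) (tt N71 (iv F156)) (tt N35 F85) (tt N17 F86) (tt N16 (iv D36)) (tt N77 D82))
theorem Q37 : ∀ i, i < 37 → P i := stepQ 36 Q36 (allL N36 (tt N58 (iv F136)) (tt N36 F87) (tt N72 (iv F158)) (tt N36 F88) (tt N18 F89) (tt N78 D83) (tt N16 (iv D37)))
theorem Q38 : ∀ i, i < 38 → P i := stepQ 37 Q37 (allL N37 (tt N38 (iv F92)) (tt N79 D84) (tt N74 (iv F162)) (tt N19 F90) (tt N77 (iv F170)) (tt N28 F91) (tt N17 (iv D38)))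
theorem Q39 : ∀ i, i < 39 → P i := stepQ 38 Q38 (allL N38 (tt N37 F92) (tt N80 D85) (tt N76 (iv F167)) (tt N20 F93) (tt N78 (iv F174)) (tt N18 (iv D39)) (tt N27 F94))
theorem Q40 : ∀ i, i < 40 → P i := stepQ 39 Q39 (allL N39 (tt N81 D86) (tt N19 (iv D40)) (tt N82 D87) (tt N79 (iv F176)) (tt N39 F95) (tt N83 D88) (tt N39 F96))
theorem Q41 : ∀ i, i < 41 → P i := stepQ 40 Q40 (allL N40 (tt N84 D89) (tt N20 (iv D41)) (tt N85 D90) (tt N80 (iv F178)) (tt N40 F97) (tt N40 F98) (tt N86 D91))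
theorem Q42 : ∀ i, i < 42 → P i := stepQ 41 Q41 (allL N41 (tt N22 F101) (tt N41 F102) (tt N87 D96) (tt N21 (iv D43)) (tt N88 D97) (tt N89 D98) (tt N90 D99))
theorem Q43 : ∀ i, i < 43 → P i := stepQ 42 Q42 (allL N42 (tt N23 F103) (tt N91 D100) (tt N23 F15628) (tt N89 (iv F208)) (tt N42 F104) (tt N21 (iv D44)) (tt N51 (iv F124)))
theorem Q44 : ∀ i, i < 44 → P i := stepQ 43 Q43 (allL N43 (tt N24 F105) (tt N92 D101) (tt N24 F15666) (tt N90 (iv F210)) (tt N43 F106) (tt N49 (iv F119)) (tt N21 (iv D45)))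
theorem Q45 : ∀ i, i < 45 → P i := stepQ 44 Q44 (allL N44 (tt N87 (iv F203)) (tt N93 D110) (tt N22 (iv D49)) (tt N94 D111) (tt N95 D112) (tt N96 D113) (tt N97 D114))
theorem Q46 : ∀ i, i < 46 → P i := stepQ 45 Q45 (allL N45 (tt N88 (iv F204)) (tt N26 F112) (tt N95 (iv F232)) (tt N45 F113) (tt N22 (iv D50)) (tt N98 D115) (tt N99 D116))
theorem Q47 : ∀ i, i < 47 → P i := stepQ 46 Q46 (allL N46 (tt N89 (iv F207)) (tt N100 D117) (tt N96 (iv F233)) (tt N23 F114) (tt N98 (iv F236)) (tt N22 (iv D51)) (tt N101 D118))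
theorem Q48 : ∀ i, i < 48 → P i := stepQ 47 Q47 (allL N47 (tt N90 (iv F209)) (tt N102 D119) (tt N97 (iv F234)) (tt N24 F115) (tt N99 (iv F238)) (tt N103 D120) (tt N22 (iv D52)))
theorem Q49 : ∀ i, i < 49 → P i := stepQ 48 Q48 (allL N48 (tt N62 (iv F145)) (tt N23 (iv D53)) (tt N61 F146) (tt N100 (iv F239)) (tt N48 F116) (tt N29 F117) (tt N104 D121))
theorem Q50 : ∀ i, i < 50 → P i := stepQ 49 Q49 (allL N49 (tt N51 (iv F122)) (tt N105 D122) (tt N51 (iv F15664)) (tt N101 (iv F241)) (tt N49 F118) (tt N43 F119) (tt N23 (iv D54)))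
theorem Q51 : ∀ i, i < 51 → P i := stepQ 50 Q50 (allL N50 (tt N65 (iv F15723)) (tt N24 (iv D55)) (tt N64 (iv F15710)) (tt N102 (iv F243)) (tt N50 F120) (tt N106 D125) (tt N30 F121))
theorem Q52 : ∀ i, i < 52 → P i := stepQ 51 Q51 (allL N51 (tt N49 F122) (tt N107 D126) (tt N49 F15664) (tt N103 (iv F246)) (tt N51 F123) (tt N24 (iv D56)) (tt N42 F124))
theorem Q53 : ∀ i, i < 53 → P i := stepQ 52 Q52 (allL N52 (tt N108 D127) (tt N25 (iv D57)) (tt N93 (iv F231)) (tt N109 D128) (tt N110 D129) (tt N111 D130) (tt N112 D131))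
theorem Q54 : ∀ i, i < 54 → P i := stepQ 53 Q53 (allL N53 (tt N31 F125) (tt N109 (iv F264)) (tt N31 F126) (tt N25 (iv D58)) (tt N113 D132) (tt N114 D133) (tt N115 D134))
theorem Q55 : ∀ i, i < 55 → P i := stepQ 54 Q54 (allL N54 (tt N32 F127) (tt N110 (iv F266)) (tt N26 F128) (tt N116 D135) (tt N25 (iv D59)) (tt N117 D136) (tt N118 D137))
theorem Q56 : ∀ i, i < 56 → P i := stepQ 55 Q55 (allL N55 (tt N33 F129) (tt N119 D138) (tt N27 F130) (tt N114 (iv F271)) (tt N117 (iv F278)) (tt N25 (iv D60)) (tt N76 (iv F168)))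
theorem Q57 : ∀ i, i < 57 → P i := stepQ 56 Q56 (allL N56 (tt N34 F131) (tt N120 D139) (tt N28 F132) (tt N115 (iv F274)) (tt N118 (iv F281)) (tt N74 (iv F163)) (tt N25 (iv D61)))
theorem Q58 : ∀ i, i < 58 → P i := stepQ 57 Q57 (allL N57 (tt N35 F133) (tt N121 D140) (tt N117 (iv F277)) (tt N57 F134) (tt N27 F135) (tt N26 (iv D62)) (tt N78 (iv F175)))
theorem Q59 : ∀ i, i < 59 → P i := stepQ 58 Q58 (allL N58 (tt N36 F136) (tt N122 D141) (tt N118 (iv F280)) (tt N58 F137) (tt N28 F138) (tt N77 (iv F171)) (tt N26 (iv D63)))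
theorem Q60 : ∀ i, i < 60 → P i := stepQ 59 Q59 (allL N59 (tt N123 D142) (tt N27 (iv D64)) (tt N124 D143) (tt N29 F139) (tt N121 (iv F283)) (tt N100 (iv F240)) (tt N125 D144))
theorem Q61 : ∀ i, i < 61 → P i := stepQ 60 Q60 (allL N60 (tt N126 D145) (tt N28 (iv D65)) (tt N127 D146) (tt N30 F140) (tt N122 (iv F285)) (tt N128 D147) (tt N102 (iv F244)))
theorem Q62 : ∀ i, i < 62 → P i := stepQ 61 Q61 (allL N61 (tt N29 (iv D66)) (tt N129 D148) (tt N48 (iv F146)) (tt N123 (iv F286)) (tt N61 F141) (tt N62 F144) (tt N107 F262))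
theorem Q63 : ∀ i, i < 63 → P i := stepQ 62 Q62 (allL N62 (tt N48 F145) (tt N62 F142) (tt N29 (iv D67)) (tt N130 D149) (tt N62 F143) (tt N61 (iv F144)) (tt N131 D150))
theorem Q64 : ∀ i, i < 64 → P i := stepQ 63 Q63 (allL N63 (tt N107 F261) (tt N86 (iv F192)) (tt N131 (iv F300)) (tt N125 (iv F287)) (tt N63 F147) (tt N131 (iv F302)) (tt N29 (iv D68)))
theorem Q65 : ∀ i, i < 65 → P i := stepQ 64 Q64 (allL N64 (tt N30 (iv D69)) (tt N132 D151) (tt N50 F15710) (tt N126 (iv F288)) (tt N64 F148) (tt N105 F257) (tt N65 (iv F15724)))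
theorem Q66 : ∀ i, i < 66 → P i := stepQ 65 Q65 (allL N65 (tt N50 F15723) (tt N65 F149) (tt N30 (iv D70)) (tt N133 D153) (tt N65 F150) (tt N134 D154) (tt N64 F15724))
theorem Q67 : ∀ i, i < 67 → P i := stepQ 66 Q66 (allL N66 (tt N105 (iv F258)) (tt N83 (iv F185)) (tt N134 (iv F312)) (tt N128 (iv F289)) (tt N66 F151) (tt N30 (iv D71)) (tt N134 (iv F15731)))
theorem Q68 : ∀ i, i < 68 → P i := stepQ 67 Q67 (allL N67 (tt N113 (iv F267)) (tt N67 F152) (tt N113 (iv F268)) (tt N135 D156) (tt N31 (iv D72)) (tt N136 D157) (tt N137 D158))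
theorem Q69 : ∀ i, i < 69 → P i := stepQ 68 Q68 (allL N68 (tt N114 (iv F269)) (tt N138 D159) (tt N114 (iv F270)) (tt N33 F153) (tt N136 (iv F319)) (tt N31 (iv D73)) (tt N139 D160))
theorem Q70 : ∀ i, i < 70 → P i := stepQ 69 Q69 (allL N69 (tt N115 (iv F272)) (tt N140 D161) (tt N115 (iv F273)) (tt N34 F154) (tt N137 (iv F320)) (tt N141 D162) (tt N31 (iv D74)))
theorem Q71 : ∀ i, i < 71 → P i := stepQ 70 Q70 (allL N70 (tt N116 (iv F275)) (tt N70 F155) (tt N142 D163) (tt N32 (iv D75)) (tt N135 (iv F318)) (tt N143 D164) (tt N144 D165))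
theorem Q72 : ∀ i, i < 72 → P i := stepQ 71 Q71 (allL N71 (tt N117 (iv F276)) (tt N145 D166) (tt N35 F156) (tt N143 (iv F331)) (tt N33 F157) (tt N32 (iv D76)) (tt N146 D167))
theorem Q73 : ∀ i, i < 73 → P i := stepQ 72 Q72 (allL N72 (tt N118 (iv F279)) (tt N147 D168) (tt N36 F158) (tt N144 (iv F332)) (tt N34 F159) (tt N148 D169) (tt N32 (iv D77)))
theorem Q74 : ∀ i, i < 74 → P i := stepQ 73 Q73 (allL N73 (tt N73 F14770) (tt N33 (iv D78)) (tt N73 F160) (tt N138 (iv F321)) (tt N145 (iv F334)) (tt N73 F161) (tt N149 D171))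
theorem Q75 : ∀ i, i < 75 → P i := stepQ 74 Q74 (allL N74 (tt N76 (iv F166)) (tt N150 D172) (tt N37 F162) (tt N139 (iv F323)) (tt N146 (iv F337)) (tt N56 F163) (tt N33 (iv D79)))
theorem Q76 : ∀ i, i < 76 → P i := stepQ 75 Q75 (allL N75 (tt N75 F16551) (tt N34 (iv D80)) (tt N75 F164) (tt N140 (iv F325)) (tt N147 (iv F340)) (tt N151 D174) (tt N75 F165))
theorem Q77 : ∀ i, i < 77 → P i := stepQ 76 Q76 (allL N76 (tt N74 F166) (tt N152 D175) (tt N38 F167) (tt N141 (iv F329)) (tt N148 (iv F344)) (tt N34 (iv D81)) (tt N55 F168))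
theorem Q78 : ∀ i, i < 78 → P i := stepQ 77 Q77 (allL N77 (tt N78 (iv F172)) (tt N153 D176) (tt N146 (iv F336)) (tt N77 F169) (tt N37 F170) (tt N58 F171) (tt N35 (iv D82)))
theorem Q79 : ∀ i, i < 79 → P i := stepQ 78 Q78 (allL N78 (tt N77 F172) (tt N154 D177) (tt N148 (iv F343)) (tt N78 F173) (tt N38 F174) (tt N36 (iv D83)) (tt N57 F175))
theorem Q80 : ∀ i, i < 80 → P i := stepQ 79 Q79 (allL N79 (tt N155 D178) (tt N37 (iv D84)) (tt N156 D179) (tt N39 F176) (tt N153 (iv F353)) (tt N157 D180) (tt N79 F177))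
theorem Q81 : ∀ i, i < 81 → P i := stepQ 80 Q80 (allL N80 (tt N158 D181) (tt N38 (iv D85)) (tt N159 D182) (tt N40 F178) (tt N154 (iv F356)) (tt N80 F179) (tt N160 D183))
theorem Q82 : ∀ i, i < 82 → P i := stepQ 81 Q81 (allL N81 (tt N39 (iv D86)) (tt N131 (iv F375)) (tt N161 D185) (tt N155 (iv F358)) (tt N81 F180) (tt N162 D186) (tt N81 F181))
theorem Q83 : ∀ i, i < 83 → P i := stepQ 82 Q82 (allL N82 (tt N161 (iv F369)) (tt N82 F182) (tt N39 (iv D87)) (tt N82 F32797) (tt N82 F183) (tt N163 D188) (tt N82 F184))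
theorem Q84 : ∀ i, i < 84 → P i := stepQ 83 Q83 (allL N83 (tt N162 (iv F372)) (tt N66 F185) (tt N163 (iv F379)) (tt N157 (iv F362)) (tt N83 F186) (tt N39 (iv D88)) (tt N162 (iv F374)))
theorem Q85 : ∀ i, i < 85 → P i := stepQ 84 Q84 (allL N84 (tt N40 (iv D89)) (tt N134 F15745) (tt N164 D189) (tt N158 (iv F363)) (tt N84 F187) (tt N84 F188) (tt N165 D190))
theorem Q86 : ∀ i, i < 86 → P i := stepQ 85 Q85 (allL N85 (tt N164 (iv F381)) (tt N85 F189) (tt N40 (iv D90)) (tt N85 F32859) (tt N85 F190) (tt N85 F191) (tt N166 D192))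
theorem Q87 : ∀ i, i < 87 → P i := stepQ 86 Q86 (allL N86 (tt N165 (iv F384)) (tt N63 F192) (tt N166 (iv F390)) (tt N160 (iv F367)) (tt N86 F193) (tt N165 (iv F387)) (tt N40 (iv D91)))
theorem Q88 : ∀ i, i < 88 → P i := stepQ 87 Q87 (allL N87 (tt N44 F203) (tt N167 D202) (tt N41 (iv D96)) (tt N168 D203) (tt N169 D204) (tt N170 D205) (tt N171 D206))
theorem Q89 : ∀ i, i < 89 → P i := stepQ 88 Q88 (allL N88 (tt N45 F204) (tt N88 F205) (tt N169 (iv F414)) (tt N88 F206) (tt N41 (iv D97)) (tt N172 D207) (tt N173 D208))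
theorem Q90 : ∀ i, i < 90 → P i := stepQ 89 Q89 (allL N89 (tt N46 F207) (tt N174 D209) (tt N170 (iv F416)) (tt N42 F208) (tt N172 (iv F421)) (tt N41 (iv D98)) (tt N103 (iv F247)))
theorem Q91 : ∀ i, i < 91 → P i := stepQ 90 Q90 (allL N90 (tt N47 F209) (tt N175 D210) (tt N171 (iv F418)) (tt N43 F210) (tt N173 (iv F424)) (tt N101 (iv F242)) (tt N41 (iv D99)))
theorem Q92 : ∀ i, i < 92 → P i := stepQ 91 Q91 (allL N91 (tt N91 F211) (tt N42 (iv D100)) (tt N129 (iv F15707)) (tt N174 (iv F426)) (tt N91 F212) (tt N91 F213) (tt N129 (iv F294)))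
theorem Q93 : ∀ i, i < 93 → P i := stepQ 92 Q92 (allL N92 (tt N92 F308) (tt N43 (iv D101)) (tt N132 F395) (tt N175 (iv F428)) (tt N92 F214) (tt N132 (iv F305)) (tt N92 F215))
theorem Q94 : ∀ i, i < 94 → P i := stepQ 93 Q93 (allL N93 (tt N176 D227) (tt N44 (iv D110)) (tt N52 F231) (tt N177 D228) (tt N178 D229) (tt N179 D230) (tt N180 D231))
theorem Q95 : ∀ i, i < 95 → P i := stepQ 94 Q94 (allL N94 (tt N168 (iv F412)) (tt N177 (iv F468)) (tt N94 F15336) (tt N44 (iv D111)) (tt N181 D233) (tt N182 D234) (tt N183 D235))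
theorem Q96 : ∀ i, i < 96 → P i := stepQ 95 Q95 (allL N95 (tt N169 (iv F413)) (tt N178 (iv F469)) (tt N45 F232) (tt N184 D236) (tt N44 (iv D112)) (tt N185 D237) (tt N186 D238))
theorem Q97 : ∀ i, i < 97 → P i := stepQ 96 Q96 (allL N96 (tt N170 (iv F415)) (tt N187 D239) (tt N46 F233) (tt N182 (iv F475)) (tt N185 (iv F478)) (tt N44 (iv D113)) (tt N188 D240))
theorem Q98 : ∀ i, i < 98 → P i := stepQ 97 Q97 (allL N97 (tt N171 (iv F417)) (tt N189 D241) (tt N47 F234) (tt N183 (iv F476)) (tt N186 (iv F480)) (tt N190 D242) (tt N44 (iv D114)))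
theorem Q99 : ∀ i, i < 99 → P i := stepQ 98 Q98 (allL N98 (tt N172 (iv F419)) (tt N191 D243) (tt N185 (iv F477)) (tt N98 F235) (tt N46 F236) (tt N45 (iv D115)) (tt N192 D244))
theorem Q100 : ∀ i, i < 100 → P i := stepQ 99 Q99 (allL N99 (tt N173 (iv F422)) (tt N193 D245) (tt N186 (iv F479)) (tt N99 F237) (tt N47 F238) (tt N194 D246) (tt N45 (iv D116)))
theorem Q101 : ∀ i, i < 101 → P i := stepQ 100 Q100 (allL N100 (tt N130 (iv F296)) (tt N46 (iv D117)) (tt N195 D247) (tt N48 F239) (tt N191 (iv F487)) (tt N59 F240) (tt N196 D248))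
theorem Q102 : ∀ i, i < 102 → P i := stepQ 101 Q101 (allL N101 (tt N103 (iv F245)) (tt N197 D249) (tt N188 (iv F481)) (tt N49 F241) (tt N192 (iv F490)) (tt N90 F242) (tt N46 (iv D118)))
theorem Q103 : ∀ i, i < 103 → P i := stepQ 102 Q102 (allL N102 (tt N133 (iv F15691)) (tt N47 (iv D119)) (tt N198 D251) (tt N50 F243) (tt N193 (iv F493)) (tt N199 D252) (tt N60 F244))
theorem Q104 : ∀ i, i < 104 → P i := stepQ 103 Q103 (allL N103 (tt N101 F245) (tt N200 D253) (tt N190 (iv F484)) (tt N51 F246) (tt N194 (iv F497)) (tt N47 (iv D120)) (tt N89 F247))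
theorem Q105 : ∀ i, i < 105 → P i := stepQ 104 Q104 (allL N104 (tt N131 (iv F299)) (tt N106 (iv F255)) (tt N107 (iv F263)) (tt N196 (iv F500)) (tt N104 F248) (tt N107 (iv F260)) (tt N48 (iv D121)))
theorem Q106 : ∀ i, i < 106 → P i := stepQ 105 Q105 (allL N105 (tt N66 F258) (tt N49 (iv D122)) (tt N106 (iv F15708)) (tt N197 (iv F501)) (tt N105 F249) (tt N64 (iv F257)) (tt N106 F256))
theorem Q107 : ∀ i, i < 107 → P i := stepQ 106 Q106 (allL N106 (tt N134 (iv F15729)) (tt N104 F255) (tt N105 F15708) (tt N199 (iv F508)) (tt N106 F254) (tt N50 (iv D125)) (tt N105 (iv F256)))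
theorem Q108 : ∀ i, i < 108 → P i := stepQ 107 Q107 (allL N107 (tt N63 (iv F261)) (tt N51 (iv D126)) (tt N104 F263) (tt N200 (iv F511)) (tt N107 F259) (tt N104 F260) (tt N61 (iv F262)))
theorem Q109 : ∀ i, i < 109 → P i := stepQ 108 Q108 (allL N108 (tt N52 (iv D127)) (tt N201 D257) (tt N176 (iv F467)) (tt N202 D258) (tt N203 D259) (tt N204 D260) (tt N205 D261))
theorem Q110 : ∀ i, i < 110 → P i := stepQ 109 Q109 (allL N109 (tt N202 (iv F525)) (tt N53 F264) (tt N109 F265) (tt N52 (iv D128)) (tt N206 D262) (tt N207 D263) (tt N208 D264))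
theorem Q111 : ∀ i, i < 111 → P i := stepQ 110 Q110 (allL N110 (tt N203 (iv F527)) (tt N54 F266) (tt N178 (iv F470)) (tt N209 D265) (tt N52 (iv D129)) (tt N210 D266) (tt N211 D267))
theorem Q112 : ∀ i, i < 112 → P i := stepQ 111 Q111 (allL N111 (tt N204 (iv F528)) (tt N212 D268) (tt N179 (iv F471)) (tt N207 (iv F533)) (tt N210 (iv F537)) (tt N52 (iv D130)) (tt N213 D269))
theorem Q113 : ∀ i, i < 113 → P i := stepQ 112 Q112 (allL N112 (tt N205 (iv F529)) (tt N214 D270) (tt N180 (iv F472)) (tt N208 (iv F535)) (tt N211 (iv F538)) (tt N215 D271) (tt N52 (iv D131)))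
theorem Q114 : ∀ i, i < 114 → P i := stepQ 113 Q113 (allL N113 (tt N67 F267) (tt N206 (iv F530)) (tt N67 F268) (tt N216 D272) (tt N53 (iv D132)) (tt N217 D273) (tt N218 D274))
theorem Q115 : ∀ i, i < 115 → P i := stepQ 114 Q114 (allL N114 (tt N68 F269) (tt N219 D275) (tt N68 F270) (tt N55 F271) (tt N217 (iv F548)) (tt N53 (iv D133)) (tt N141 (iv F330)))
theorem Q116 : ∀ i, i < 116 → P i := stepQ 115 Q115 (allL N115 (tt N69 F272) (tt N220 D276) (tt N69 F273) (tt N56 F274) (tt N218 (iv F551)) (tt N139 (iv F324)) (tt N53 (iv D134)))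
theorem Q117 : ∀ i, i < 117 → P i := stepQ 116 Q116 (allL N116 (tt N70 F275) (tt N209 (iv F536)) (tt N221 D277) (tt N54 (iv D135)) (tt N216 (iv F545)) (tt N222 D278) (tt N223 D279))
theorem Q118 : ∀ i, i < 118 → P i := stepQ 117 Q117 (allL N117 (tt N71 F276) (tt N224 D280) (tt N57 F277) (tt N222 (iv F557)) (tt N55 F278) (tt N54 (iv D136)) (tt N148 (iv F345)))
theorem Q119 : ∀ i, i < 119 → P i := stepQ 118 Q118 (allL N118 (tt N72 F279) (tt N225 D281) (tt N58 F280) (tt N223 (iv F559)) (tt N56 F281) (tt N146 (iv F338)) (tt N54 (iv D137)))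
theorem Q120 : ∀ i, i < 120 → P i := stepQ 119 Q119 (allL N119 (tt N226 D282) (tt N55 (iv D138)) (tt N227 D283) (tt N219 (iv F552)) (tt N224 (iv F560)) (tt N212 (iv F539)) (tt N228 D284))
theorem Q121 : ∀ i, i < 121 → P i := stepQ 120 Q120 (allL N120 (tt N229 D285) (tt N56 (iv D139)) (tt N230 D286) (tt N220 (iv F553)) (tt N225 (iv F561)) (tt N231 D287) (tt N214 (iv F541)))
theorem Q122 : ∀ i, i < 122 → P i := stepQ 121 Q121 (allL N121 (tt N232 D288) (tt N57 (iv D140)) (tt N233 D289) (tt N121 F282) (tt N59 F283) (tt N191 (iv F488)) (tt N234 D290))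
theorem Q123 : ∀ i, i < 123 → P i := stepQ 122 Q122 (allL N122 (tt N235 D291) (tt N58 (iv D141)) (tt N236 D292) (tt N122 F284) (tt N60 F285) (tt N237 D293) (tt N193 (iv F494)))
theorem Q124 : ∀ i, i < 124 → P i := stepQ 123 Q123 (allL N123 (tt N59 (iv D142)) (tt N238 D294) (tt N239 D295) (tt N61 F286) (tt N232 (iv F565)) (tt N130 (iv F298)) (tt N200 F514))
theorem Q125 : ∀ i, i < 125 → P i := stepQ 124 Q124 (allL N124 (tt N239 (iv F578)) (tt N227 (iv F562)) (tt N59 (iv D143)) (tt N240 D296) (tt N233 (iv F566)) (tt N195 (iv F499)) (tt N241 D297))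
theorem Q126 : ∀ i, i < 126 → P i := stepQ 125 Q125 (allL N125 (tt N200 F513) (tt N160 (iv F366)) (tt N241 (iv F579)) (tt N63 F287) (tt N234 (iv F568)) (tt N242 D298) (tt N59 (iv D144)))
theorem Q127 : ∀ i, i < 127 → P i := stepQ 126 Q126 (allL N126 (tt N60 (iv D145)) (tt N243 D299) (tt N244 D300) (tt N64 F288) (tt N235 (iv F570)) (tt N197 F503) (tt N133 (iv F15692)))
theorem Q128 : ∀ i, i < 128 → P i := stepQ 127 Q127 (allL N127 (tt N244 (iv F588)) (tt N230 (iv F563)) (tt N60 (iv D146)) (tt N245 D301) (tt N236 (iv F571)) (tt N246 D302) (tt N198 (iv F507)))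
theorem Q129 : ∀ i, i < 129 → P i := stepQ 128 Q128 (allL N128 (tt N197 F502) (tt N157 (iv F361)) (tt N246 (iv F589)) (tt N66 F289) (tt N237 (iv F573)) (tt N60 (iv D147)) (tt N247 D303))
theorem Q130 : ∀ i, i < 130 → P i := stepQ 129 Q129 (allL N129 (tt N129 F290) (tt N61 (iv D148)) (tt N91 F15707) (tt N238 (iv F575)) (tt N129 F292) (tt N129 F293) (tt N91 F294))
theorem Q131 : ∀ i, i < 131 → P i := stepQ 130 Q130 (allL N130 (tt N100 F296) (tt N130 F297) (tt N248 D304) (tt N62 (iv D149)) (tt N249 D305) (tt N123 F298) (tt N242 (iv F582)))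
theorem Q132 : ∀ i, i < 132 → P i := stepQ 131 Q131 (allL N131 (tt N104 F299) (tt N81 F375) (tt N63 F300) (tt N242 (iv F581)) (tt N131 F301) (tt N63 F302) (tt N62 (iv D150)))
theorem Q133 : ∀ i, i < 133 → P i := stepQ 132 Q132 (allL N132 (tt N132 F303) (tt N64 (iv D151)) (tt N92 (iv F395)) (tt N243 (iv F585)) (tt N132 F304) (tt N92 F305) (tt N132 F306))
theorem Q134 : ∀ i, i < 134 → P i := stepQ 133 Q133 (allL N133 (tt N102 F15691) (tt N133 F311) (tt N250 D307) (tt N65 (iv D153)) (tt N251 D308) (tt N247 (iv F15709)) (tt N126 F15692))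
theorem Q135 : ∀ i, i < 135 → P i := stepQ 134 Q134 (allL N134 (tt N106 F15729) (tt N84 (iv F15745)) (tt N66 F312) (tt N247 F15730) (tt N134 F313) (tt N65 (iv D154)) (tt N66 F15731))
theorem Q136 : ∀ i, i < 136 → P i := stepQ 135 Q135 (allL N135 (tt N216 (iv F544)) (tt N135 F317) (tt N252 D312) (tt N67 (iv D156)) (tt N70 F318) (tt N253 D313) (tt N254 D314))
theorem Q137 : ∀ i, i < 137 → P i := stepQ 136 Q136 (allL N136 (tt N217 (iv F546)) (tt N255 D315) (tt N217 (iv F547)) (tt N253 (iv F612)) (tt N68 F319) (tt N67 (iv D157)) (tt N256 D316))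
theorem Q138 : ∀ i, i < 138 → P i := stepQ 137 Q137 (allL N137 (tt N218 (iv F549)) (tt N257 D317) (tt N218 (iv F550)) (tt N254 (iv F614)) (tt N69 F320) (tt N258 D318) (tt N67 (iv D158)))
theorem Q139 : ∀ i, i < 139 → P i := stepQ 138 Q138 (allL N138 (tt N138 F14739) (tt N68 (iv D159)) (tt N259 D320) (tt N73 F321) (tt N255 (iv F616)) (tt N138 F322) (tt N259 (iv F16965)))
theorem Q140 : ∀ i, i < 140 → P i := stepQ 139 Q139 (allL N139 (tt N141 (iv F327)) (tt N260 D322) (tt N141 (iv F328)) (tt N74 F323) (tt N256 (iv F618)) (tt N115 F324) (tt N68 (iv D160)))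
theorem Q141 : ∀ i, i < 141 → P i := stepQ 140 Q140 (allL N140 (tt N140 F16552) (tt N69 (iv D161)) (tt N261 D324) (tt N75 F325) (tt N257 (iv F620)) (tt N261 F16554) (tt N140 F326))
theorem Q142 : ∀ i, i < 142 → P i := stepQ 141 Q141 (allL N141 (tt N139 F327) (tt N262 D326) (tt N139 F328) (tt N76 F329) (tt N258 (iv F624)) (tt N69 (iv D162)) (tt N114 F330))
theorem Q143 : ∀ i, i < 143 → P i := stepQ 142 Q142 (allL N142 (tt N221 (iv F554)) (tt N263 D327) (tt N70 (iv D163)) (tt N221 (iv F555)) (tt N252 (iv F611)) (tt N264 D328) (tt N265 D329))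
theorem Q144 : ∀ i, i < 144 → P i := stepQ 143 Q143 (allL N143 (tt N222 (iv F556)) (tt N266 D330) (tt N264 (iv F637)) (tt N71 F331) (tt N253 (iv F613)) (tt N70 (iv D164)) (tt N267 D331))
theorem Q145 : ∀ i, i < 145 → P i := stepQ 144 Q144 (allL N144 (tt N223 (iv F558)) (tt N268 D332) (tt N265 (iv F638)) (tt N72 F332) (tt N254 (iv F615)) (tt N269 D333) (tt N70 (iv D165)))
theorem Q146 : ∀ i, i < 146 → P i := stepQ 145 Q145 (allL N145 (tt N145 F14840) (tt N71 (iv D166)) (tt N145 F333) (tt N266 (iv F639)) (tt N73 F334) (tt N145 F335) (tt N270 D335))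
theorem Q147 : ∀ i, i < 147 → P i := stepQ 146 Q146 (allL N146 (tt N148 (iv F342)) (tt N271 D336) (tt N77 F336) (tt N267 (iv F641)) (tt N74 F337) (tt N118 F338) (tt N71 (iv D167)))
theorem Q148 : ∀ i, i < 148 → P i := stepQ 147 Q147 (allL N147 (tt N147 F16578) (tt N72 (iv D168)) (tt N147 F339) (tt N268 (iv F643)) (tt N75 F340) (tt N272 D338) (tt N147 F341))
theorem Q149 : ∀ i, i < 149 → P i := stepQ 148 Q148 (allL N148 (tt N146 F342) (tt N273 D339) (tt N78 F343) (tt N269 (iv F646)) (tt N76 F344) (tt N72 (iv D169)) (tt N117 F345))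
theorem Q150 : ∀ i, i < 150 → P i := stepQ 149 Q149 (allL N149 (tt N149 F14841) (tt N274 D342) (tt N149 F348) (tt N259 (iv F16964)) (tt N270 (iv F652)) (tt N149 F14842) (tt N73 (iv D171)))
theorem Q151 : ∀ i, i < 151 → P i := stepQ 150 Q150 (allL N150 (tt N275 D343) (tt N74 (iv D172)) (tt N276 D344) (tt N260 (iv F630)) (tt N271 (iv F653)) (tt N228 F16644) (tt N274 (iv F663)))
theorem Q152 : ∀ i, i < 152 → P i := stepQ 151 Q151 (allL N151 (tt N151 F16501) (tt N277 D348) (tt N151 F351) (tt N261 (iv F16504)) (tt N272 (iv F658)) (tt N75 (iv D174)) (tt N151 F16502))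
theorem Q153 : ∀ i, i < 153 → P i := stepQ 152 Q152 (allL N152 (tt N278 D349) (tt N76 (iv D175)) (tt N279 D350) (tt N262 (iv F635)) (tt N273 (iv F659)) (tt N277 (iv F669)) (tt N231 (iv F16506)))
theorem Q154 : ∀ i, i < 154 → P i := stepQ 153 Q153 (allL N153 (tt N280 D352) (tt N77 (iv D176)) (tt N281 D353) (tt N153 F352) (tt N79 F353) (tt N282 D354) (tt N153 F354))
theorem Q155 : ∀ i, i < 155 → P i := stepQ 154 Q154 (allL N154 (tt N283 D355) (tt N78 (iv D177)) (tt N284 D356) (tt N154 F355) (tt N80 F356) (tt N154 F357) (tt N285 D357))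
theorem Q156 : ∀ i, i < 156 → P i := stepQ 155 Q155 (allL N155 (tt N79 (iv D178)) (tt N242 F583) (tt N286 D358) (tt N81 F358) (tt N280 (iv F673)) (tt N287 D359) (tt N155 F359))
theorem Q157 : ∀ i, i < 157 → P i := stepQ 156 Q156 (allL N156 (tt N286 (iv F688)) (tt N276 (iv F664)) (tt N79 (iv D179)) (tt N286 F32609) (tt N281 (iv F675)) (tt N288 D361) (tt N156 F360))
theorem Q158 : ∀ i, i < 158 → P i := stepQ 157 Q157 (allL N157 (tt N287 (iv F690)) (tt N128 F361) (tt N288 (iv F694)) (tt N83 F362) (tt N282 (iv F679)) (tt N79 (iv D180)) (tt N287 (iv F692)))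
theorem Q159 : ∀ i, i < 159 → P i := stepQ 158 Q158 (allL N158 (tt N80 (iv D181)) (tt N247 F593) (tt N289 D362) (tt N84 F363) (tt N283 (iv F681)) (tt N158 F364) (tt N290 D363))
theorem Q160 : ∀ i, i < 160 → P i := stepQ 159 Q159 (allL N159 (tt N289 (iv F695)) (tt N279 (iv F670)) (tt N80 (iv D182)) (tt N289 F32808) (tt N284 (iv F683)) (tt N159 F365) (tt N291 D365))
theorem Q161 : ∀ i, i < 161 → P i := stepQ 160 Q160 (allL N160 (tt N290 (iv F697)) (tt N125 F366) (tt N291 (iv F702)) (tt N86 F367) (tt N285 (iv F687)) (tt N290 (iv F700)) (tt N80 (iv D183)))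
theorem Q162 : ∀ i, i < 162 → P i := stepQ 161 Q161 (allL N161 (tt N82 F369) (tt N166 F392) (tt N81 (iv D185)) (tt N161 F32749) (tt N161 F370) (tt N292 D367) (tt N161 F371))
theorem Q163 : ∀ i, i < 163 → P i := stepQ 162 Q162 (allL N162 (tt N83 F372) (tt N165 (iv F385)) (tt N292 (iv F706)) (tt N287 (iv F691)) (tt N162 F373) (tt N81 (iv D186)) (tt N83 F374))
theorem Q164 : ∀ i, i < 164 → P i := stepQ 163 Q163 (allL N163 (tt N292 (iv F705)) (tt N164 (iv F15759)) (tt N83 F379) (tt N163 F32857) (tt N163 F380) (tt N82 (iv D188)) (tt N292 (iv F708)))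
theorem Q165 : ∀ i, i < 165 → P i := stepQ 164 Q164 (allL N164 (tt N85 F381) (tt N163 F15759) (tt N84 (iv D189)) (tt N164 F32901) (tt N164 F382) (tt N164 F383) (tt N293 D374))
theorem Q166 : ∀ i, i < 166 → P i := stepQ 165 Q165 (allL N165 (tt N86 F384) (tt N162 F385) (tt N293 (iv F721)) (tt N290 (iv F699)) (tt N165 F386) (tt N86 F387) (tt N84 (iv D190)))
theorem Q167 : ∀ i, i < 167 → P i := stepQ 166 Q166 (allL N166 (tt N293 (iv F720)) (tt N161 (iv F392)) (tt N86 F390) (tt N166 F32798) (tt N166 F391) (tt N293 (iv F723)) (tt N85 (iv D192)))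
theorem Q168 : ∀ i, i < 168 → P i := stepQ 167 Q167 (allL N167 (tt N167 F15393) (tt N87 (iv D202)) (tt N167 F411) (tt N294 D400) (tt N295 D401) (tt N167 F15237) (tt N167 F17052))
theorem Q169 : ∀ i, i < 169 → P i := stepQ 168 Q168 (allL N168 (tt N94 F412) (tt N294 (iv F782)) (tt N168 F15395) (tt N87 (iv D203)) (tt N296 D404) (tt N297 D405) (tt N298 D406))
theorem Q170 : ∀ i, i < 170 → P i := stepQ 169 Q169 (allL N169 (tt N95 F413) (tt N295 (iv F783)) (tt N88 F414) (tt N299 D407) (tt N87 (iv D204)) (tt N300 D408) (tt N301 D409))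
theorem Q171 : ∀ i, i < 171 → P i := stepQ 170 Q170 (allL N170 (tt N96 F415) (tt N170 F15069) (tt N89 F416) (tt N297 (iv F789)) (tt N300 (iv F795)) (tt N87 (iv D205)) (tt N190 (iv F485)))
theorem Q172 : ∀ i, i < 172 → P i := stepQ 171 Q171 (allL N171 (tt N97 F417) (tt N171 F16932) (tt N90 F418) (tt N298 (iv F791)) (tt N301 (iv F798)) (tt N188 (iv F482)) (tt N87 (iv D206)))
theorem Q173 : ∀ i, i < 173 → P i := stepQ 172 Q172 (allL N172 (tt N98 F419) (tt N302 D412) (tt N300 (iv F794)) (tt N172 F420) (tt N89 F421) (tt N88 (iv D207)) (tt N194 (iv F498)))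
theorem Q174 : ∀ i, i < 174 → P i := stepQ 173 Q173 (allL N173 (tt N99 F422) (tt N303 D413) (tt N301 (iv F797)) (tt N173 F423) (tt N90 F424) (tt N192 (iv F491)) (tt N88 (iv D208)))
theorem Q175 : ∀ i, i < 175 → P i := stepQ 174 Q174 (allL N174 (tt N174 F425) (tt N89 (iv D209)) (tt N174 F14935) (tt N91 F426) (tt N302 (iv F801)) (tt N174 F427) (tt N238 (iv F577)))
theorem Q176 : ∀ i, i < 176 → P i := stepQ 175 Q175 (allL N175 (tt N175 F430) (tt N90 (iv D210)) (tt N175 F16793) (tt N92 F428) (tt N303 (iv F804)) (tt N243 (iv F586)) (tt N175 F429))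
theorem Q177 : ∀ i, i < 177 → P i := stepQ 176 Q176 (allL N176 (tt N93 (iv D227)) (tt N176 F15094) (tt N108 F467) (tt N304 D443) (tt N305 D444) (tt N306 D445) (tt N307 D446))
theorem Q178 : ∀ i, i < 178 → P i := stepQ 177 Q177 (allL N177 (tt N304 (iv F862)) (tt N94 F468) (tt N304 (iv F863)) (tt N93 (iv D228)) (tt N308 D447) (tt N309 D448) (tt N310 D449))
theorem Q179 : ∀ i, i < 179 → P i := stepQ 178 Q178 (allL N178 (tt N305 (iv F864)) (tt N95 F469) (tt N110 F470) (tt N311 D450) (tt N93 (iv D229)) (tt N312 D451) (tt N313 D452))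
theorem Q180 : ∀ i, i < 180 → P i := stepQ 179 Q179 (allL N179 (tt N306 (iv F866)) (tt N314 D453) (tt N111 F471) (tt N309 (iv F871)) (tt N312 (iv F875)) (tt N93 (iv D230)) (tt N315 D454))
theorem Q181 : ∀ i, i < 181 → P i := stepQ 180 Q180 (allL N180 (tt N307 (iv F868)) (tt N316 D455) (tt N112 F472) (tt N310 (iv F872)) (tt N313 (iv F877)) (tt N317 D456) (tt N93 (iv D231)))
theorem Q182 : ∀ i, i < 182 → P i := stepQ 181 Q181 (allL N181 (tt N296 (iv F787)) (tt N308 (iv F870)) (tt N181 F15459) (tt N318 D461) (tt N94 (iv D233)) (tt N319 D462) (tt N320 D463))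
theorem Q183 : ∀ i, i < 183 → P i := stepQ 182 Q182 (allL N182 (tt N297 (iv F788)) (tt N321 D464) (tt N182 F15164) (tt N96 F475) (tt N319 (iv F895)) (tt N94 (iv D234)) (tt N322 D465))
theorem Q184 : ∀ i, i < 184 → P i := stepQ 183 Q183 (allL N183 (tt N298 (iv F790)) (tt N323 D466) (tt N183 F15396) (tt N97 F476) (tt N320 (iv F896)) (tt N324 D467) (tt N94 (iv D235)))
theorem Q185 : ∀ i, i < 185 → P i := stepQ 184 Q184 (allL N184 (tt N299 (iv F792)) (tt N311 (iv F873)) (tt N325 D468) (tt N95 (iv D236)) (tt N318 (iv F894)) (tt N326 D469) (tt N327 D470))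
theorem Q186 : ∀ i, i < 186 → P i := stepQ 185 Q185 (allL N185 (tt N300 (iv F793)) (tt N328 D471) (tt N98 F477) (tt N326 (iv F904)) (tt N96 F478) (tt N95 (iv D237)) (tt N329 D472))
theorem Q187 : ∀ i, i < 187 → P i := stepQ 186 Q186 (allL N186 (tt N301 (iv F796)) (tt N330 D473) (tt N99 F479) (tt N327 (iv F905)) (tt N97 F480) (tt N331 D474) (tt N95 (iv D238)))
theorem Q188 : ∀ i, i < 188 → P i := stepQ 187 Q187 (allL N187 (tt N332 D475) (tt N96 (iv D239)) (tt N333 D476) (tt N321 (iv F897)) (tt N328 (iv F906)) (tt N314 (iv F878)) (tt N334 D477))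
theorem Q189 : ∀ i, i < 189 → P i := stepQ 188 Q188 (allL N188 (tt N190 (iv F483)) (tt N335 D478) (tt N101 F481) (tt N322 (iv F898)) (tt N329 (iv F908)) (tt N171 F482) (tt N96 (iv D240)))
theorem Q190 : ∀ i, i < 190 → P i := stepQ 189 Q189 (allL N189 (tt N336 D479) (tt N97 (iv D241)) (tt N337 D480) (tt N323 (iv F900)) (tt N330 (iv F910)) (tt N338 D481) (tt N316 (iv F881)))
theorem Q191 : ∀ i, i < 191 → P i := stepQ 190 Q190 (allL N190 (tt N188 F483) (tt N339 D482) (tt N103 F484) (tt N324 (iv F902)) (tt N331 (iv F913)) (tt N97 (iv D242)) (tt N170 F485))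
theorem Q192 : ∀ i, i < 192 → P i := stepQ 191 Q191 (allL N191 (tt N249 (iv F596)) (tt N98 (iv D243)) (tt N340 D483) (tt N191 F486) (tt N100 F487) (tt N121 F488) (tt N341 D484))
theorem Q193 : ∀ i, i < 193 → P i := stepQ 192 Q192 (allL N192 (tt N194 (iv F495)) (tt N342 D485) (tt N329 (iv F907)) (tt N192 F489) (tt N101 F490) (tt N173 F491) (tt N98 (iv D244)))
theorem Q194 : ∀ i, i < 194 → P i := stepQ 193 Q193 (allL N193 (tt N251 (iv F15725)) (tt N99 (iv D245)) (tt N343 D487) (tt N193 F492) (tt N102 F493) (tt N344 D488) (tt N122 F494))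
theorem Q195 : ∀ i, i < 195 → P i := stepQ 194 Q194 (allL N194 (tt N192 F495) (tt N345 D489) (tt N331 (iv F912)) (tt N194 F496) (tt N103 F497) (tt N99 (iv D246)) (tt N172 F498))
theorem Q196 : ∀ i, i < 196 → P i := stepQ 195 Q195 (allL N195 (tt N248 (iv F594)) (tt N333 (iv F915)) (tt N100 (iv D247)) (tt N346 D490) (tt N340 (iv F917)) (tt N124 F499) (tt N347 D491))
theorem Q197 : ∀ i, i < 197 → P i := stepQ 196 Q196 (allL N196 (tt N242 (iv F580)) (tt N199 (iv F510)) (tt N347 (iv F942)) (tt N104 F500) (tt N341 (iv F920)) (tt N200 (iv F512)) (tt N100 (iv D248)))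
theorem Q198 : ∀ i, i < 198 → P i := stepQ 197 Q197 (allL N197 (tt N128 (iv F502)) (tt N101 (iv D249)) (tt N348 D492) (tt N105 F501) (tt N342 (iv F922)) (tt N126 (iv F503)) (tt N199 (iv F509)))
theorem Q199 : ∀ i, i < 199 → P i := stepQ 198 Q198 (allL N198 (tt N250 (iv F15721)) (tt N337 (iv F916)) (tt N102 (iv D251)) (tt N349 D494) (tt N343 (iv F929)) (tt N350 D495) (tt N127 F507))
theorem Q200 : ∀ i, i < 200 → P i := stepQ 199 Q199 (allL N199 (tt N247 (iv F590)) (tt N196 F510) (tt N350 (iv F948)) (tt N106 F508) (tt N344 (iv F932)) (tt N102 (iv D252)) (tt N197 F509))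
theorem Q201 : ∀ i, i < 201 → P i := stepQ 200 Q200 (allL N200 (tt N125 (iv F513)) (tt N103 (iv D253)) (tt N351 D496) (tt N107 F511) (tt N345 (iv F936)) (tt N196 F512) (tt N123 (iv F514)))
theorem Q202 : ∀ i, i < 202 → P i := stepQ 201 Q201 (allL N201 (tt N201 F524) (tt N108 (iv D257)) (tt N201 F15403) (tt N352 D502) (tt N353 D503) (tt N201 F14972) (tt N201 F16787))
theorem Q203 : ∀ i, i < 203 → P i := stepQ 202 Q202 (allL N202 (tt N109 F525) (tt N352 (iv F964)) (tt N202 F526) (tt N108 (iv D258)) (tt N354 D506) (tt N355 D507) (tt N356 D508))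
theorem Q204 : ∀ i, i < 204 → P i := stepQ 203 Q203 (allL N203 (tt N110 F527) (tt N353 (iv F966)) (tt N305 (iv F865)) (tt N357 D509) (tt N108 (iv D259)) (tt N358 D510) (tt N359 D511))
theorem Q205 : ∀ i, i < 205 → P i := stepQ 204 Q204 (allL N204 (tt N111 F528) (tt N204 F14782) (tt N306 (iv F867)) (tt N355 (iv F973)) (tt N358 (iv F979)) (tt N108 (iv D260)) (tt N215 (iv F543)))
theorem Q206 : ∀ i, i < 206 → P i := stepQ 205 Q205 (allL N205 (tt N112 F529) (tt N205 F16572) (tt N307 (iv F869)) (tt N356 (iv F976)) (tt N359 (iv F981)) (tt N213 (iv F540)) (tt N108 (iv D261)))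
theorem Q207 : ∀ i, i < 207 → P i := stepQ 206 Q206 (allL N206 (tt N354 (iv F969)) (tt N113 F530) (tt N206 F531) (tt N360 D514) (tt N109 (iv D262)) (tt N361 D515) (tt N362 D516))
theorem Q208 : ∀ i, i < 208 → P i := stepQ 207 Q207 (allL N207 (tt N355 (iv F971)) (tt N363 D517) (tt N207 F532) (tt N111 F533) (tt N361 (iv F985)) (tt N109 (iv D263)) (tt N364 D518))
theorem Q209 : ∀ i, i < 209 → P i := stepQ 208 Q208 (allL N208 (tt N356 (iv F974)) (tt N365 D519) (tt N208 F534) (tt N112 F535) (tt N362 (iv F987)) (tt N366 D520) (tt N109 (iv D264)))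
theorem Q210 : ∀ i, i < 210 → P i := stepQ 209 Q209 (allL N209 (tt N357 (iv F977)) (tt N116 F536) (tt N367 D521) (tt N110 (iv D265)) (tt N360 (iv F983)) (tt N368 D522) (tt N369 D523))
theorem Q211 : ∀ i, i < 211 → P i := stepQ 210 Q210 (allL N210 (tt N358 (iv F978)) (tt N370 D524) (tt N312 (iv F874)) (tt N368 (iv F999)) (tt N111 F537) (tt N110 (iv D266)) (tt N371 D525))
theorem Q212 : ∀ i, i < 212 → P i := stepQ 211 Q211 (allL N211 (tt N359 (iv F980)) (tt N372 D526) (tt N313 (iv F876)) (tt N369 (iv F1000)) (tt N112 F538) (tt N373 D527) (tt N110 (iv D267)))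
theorem Q213 : ∀ i, i < 213 → P i := stepQ 212 Q212 (allL N212 (tt N274 F16748) (tt N111 (iv D268)) (tt N374 D529) (tt N363 (iv F988)) (tt N370 (iv F1001)) (tt N119 F539) (tt N275 F16749))
theorem Q214 : ∀ i, i < 214 → P i := stepQ 213 Q213 (allL N213 (tt N215 (iv F542)) (tt N375 D531) (tt N315 (iv F879)) (tt N364 (iv F991)) (tt N371 (iv F1003)) (tt N205 F540) (tt N111 (iv D269)))
theorem Q215 : ∀ i, i < 215 → P i := stepQ 214 Q214 (allL N214 (tt N277 F16476) (tt N112 (iv D270)) (tt N376 D533) (tt N365 (iv F993)) (tt N372 (iv F1005)) (tt N278 (iv F16486)) (tt N120 F541))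
theorem Q216 : ∀ i, i < 216 → P i := stepQ 215 Q215 (allL N215 (tt N213 F542) (tt N377 D535) (tt N317 (iv F883)) (tt N366 (iv F997)) (tt N373 (iv F1008)) (tt N112 (iv D271)) (tt N204 F543))
theorem Q217 : ∀ i, i < 217 → P i := stepQ 216 Q216 (allL N216 (tt N135 F544) (tt N360 (iv F982)) (tt N378 D536) (tt N113 (iv D272)) (tt N116 F545) (tt N379 D537) (tt N380 D538))
theorem Q218 : ∀ i, i < 218 → P i := stepQ 217 Q217 (allL N217 (tt N136 F546) (tt N381 D539) (tt N136 F547) (tt N379 (iv F1017)) (tt N114 F548) (tt N113 (iv D273)) (tt N258 (iv F625)))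
theorem Q219 : ∀ i, i < 219 → P i := stepQ 218 Q218 (allL N218 (tt N137 F549) (tt N382 D540) (tt N137 F550) (tt N380 (iv F1020)) (tt N115 F551) (tt N256 (iv F619)) (tt N113 (iv D274)))
theorem Q220 : ∀ i, i < 220 → P i := stepQ 219 Q219 (allL N219 (tt N383 D541) (tt N114 (iv D275)) (tt N384 D542) (tt N119 F552) (tt N381 (iv F1022)) (tt N363 (iv F989)) (tt N385 D543))
theorem Q221 : ∀ i, i < 221 → P i := stepQ 220 Q220 (allL N220 (tt N386 D544) (tt N115 (iv D276)) (tt N387 D545) (tt N120 F553) (tt N382 (iv F1023)) (tt N388 D546) (tt N365 (iv F994)))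
theorem Q222 : ∀ i, i < 222 → P i := stepQ 221 Q221 (allL N221 (tt N142 F554) (tt N389 D547) (tt N116 (iv D277)) (tt N142 F555) (tt N378 (iv F1015)) (tt N390 D548) (tt N391 D549))
theorem Q223 : ∀ i, i < 223 → P i := stepQ 222 Q222 (allL N222 (tt N143 F556) (tt N392 D550) (tt N390 (iv F1032)) (tt N117 F557) (tt N379 (iv F1018)) (tt N116 (iv D278)) (tt N269 (iv F647)))
theorem Q224 : ∀ i, i < 224 → P i := stepQ 223 Q223 (allL N223 (tt N144 F558) (tt N393 D551) (tt N391 (iv F1035)) (tt N118 F559) (tt N380 (iv F1021)) (tt N267 (iv F642)) (tt N116 (iv D279)))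
theorem Q225 : ∀ i, i < 225 → P i := stepQ 224 Q224 (allL N224 (tt N394 D552) (tt N117 (iv D280)) (tt N395 D553) (tt N392 (iv F1037)) (tt N119 F560) (tt N370 (iv F1002)) (tt N396 D554))
theorem Q226 : ∀ i, i < 226 → P i := stepQ 225 Q225 (allL N225 (tt N397 D555) (tt N118 (iv D281)) (tt N398 D556) (tt N393 (iv F1038)) (tt N120 F561) (tt N399 D557) (tt N372 (iv F1006)))
theorem Q227 : ∀ i, i < 227 → P i := stepQ 226 Q226 (allL N226 (tt N119 (iv D282)) (tt N226 F14693) (tt N400 D559) (tt N383 (iv F1024)) (tt N394 (iv F1039)) (tt N274 F16747) (tt N401 D560))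
theorem Q228 : ∀ i, i < 228 → P i := stepQ 227 Q227 (allL N227 (tt N400 (iv F1047)) (tt N124 F562) (tt N119 (iv D283)) (tt N402 D561) (tt N395 (iv F1041)) (tt N374 (iv F1011)) (tt N403 D562))
theorem Q229 : ∀ i, i < 229 → P i := stepQ 228 Q228 (allL N228 (tt N401 (iv F1048)) (tt N231 F16559) (tt N403 (iv F1051)) (tt N385 (iv F1026)) (tt N396 (iv F1042)) (tt N150 (iv F16644)) (tt N119 (iv D284)))
theorem Q230 : ∀ i, i < 230 → P i := stepQ 229 Q229 (allL N229 (tt N120 (iv D285)) (tt N229 F16456) (tt N404 D565) (tt N386 (iv F1027)) (tt N397 (iv F1043)) (tt N405 D566) (tt N277 (iv F16473)))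
theorem Q231 : ∀ i, i < 231 → P i := stepQ 230 Q230 (allL N230 (tt N404 (iv F1054)) (tt N127 F563) (tt N120 (iv D286)) (tt N406 D567) (tt N398 (iv F1045)) (tt N407 D568) (tt N376 (iv F1013)))
theorem Q232 : ∀ i, i < 232 → P i := stepQ 231 Q231 (allL N231 (tt N405 (iv F1055)) (tt N228 (iv F16559)) (tt N407 (iv F1058)) (tt N388 (iv F1029)) (tt N399 (iv F1046)) (tt N120 (iv D287)) (tt N152 F16506))
theorem Q233 : ∀ i, i < 233 → P i := stepQ 232 Q232 (allL N232 (tt N121 (iv D288)) (tt N408 D570) (tt N409 D571) (tt N232 F564) (tt N123 F565) (tt N249 (iv F599)) (tt N345 F939))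
theorem Q234 : ∀ i, i < 234 → P i := stepQ 233 Q233 (allL N233 (tt N409 (iv F1066)) (tt N395 (iv F1040)) (tt N121 (iv D289)) (tt N410 D572) (tt N124 F566) (tt N340 (iv F918)) (tt N411 D573))
theorem Q235 : ∀ i, i < 235 → P i := stepQ 234 Q234 (allL N234 (tt N345 F938) (tt N285 (iv F685)) (tt N411 (iv F1068)) (tt N234 F567) (tt N125 F568) (tt N412 D574) (tt N121 (iv D290)))
theorem Q236 : ∀ i, i < 236 → P i := stepQ 235 Q235 (allL N235 (tt N122 (iv D291)) (tt N413 D575) (tt N414 D576) (tt N235 F569) (tt N126 F570) (tt N342 F924) (tt N251 (iv F15726)))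
theorem Q237 : ∀ i, i < 237 → P i := stepQ 236 Q236 (allL N236 (tt N414 (iv F1080)) (tt N398 (iv F1044)) (tt N122 (iv D292)) (tt N415 D577) (tt N127 F571) (tt N416 D578) (tt N343 (iv F930)))
theorem Q238 : ∀ i, i < 238 → P i := stepQ 237 Q237 (allL N237 (tt N342 F923) (tt N282 (iv F677)) (tt N416 (iv F1082)) (tt N237 F572) (tt N128 F573) (tt N122 (iv D293)) (tt N417 D579))
theorem Q239 : ∀ i, i < 239 → P i := stepQ 238 Q238 (allL N238 (tt N238 F574) (tt N123 (iv D294)) (tt N238 F14821) (tt N129 F575) (tt N408 (iv F1063)) (tt N238 F576) (tt N174 F577))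
theorem Q240 : ∀ i, i < 240 → P i := stepQ 239 Q239 (allL N239 (tt N124 F578) (tt N239 F14733) (tt N123 (iv D295)) (tt N418 D582) (tt N409 (iv F1067)) (tt N248 (iv F595)) (tt N351 (iv F952)))
theorem Q241 : ∀ i, i < 241 → P i := stepQ 240 Q240 (allL N240 (tt N418 (iv F1092)) (tt N402 (iv F1050)) (tt N346 (iv F941)) (tt N124 (iv D296)) (tt N419 D583) (tt N346 (iv F940)) (tt N420 D584))
theorem Q242 : ∀ i, i < 242 → P i := stepQ 241 Q241 (allL N241 (tt N351 (iv F950)) (tt N421 D585) (tt N125 F579) (tt N420 (iv F1093)) (tt N411 (iv F1069)) (tt N422 D586) (tt N124 (iv D297)))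
theorem Q243 : ∀ i, i < 243 → P i := stepQ 242 Q242 (allL N242 (tt N196 F580) (tt N155 (iv F583)) (tt N422 (iv F1095)) (tt N131 F581) (tt N412 (iv F1072)) (tt N125 (iv D298)) (tt N130 F582))
theorem Q244 : ∀ i, i < 244 → P i := stepQ 243 Q243 (allL N243 (tt N243 F584) (tt N126 (iv D299)) (tt N243 F16687) (tt N132 F585) (tt N413 (iv F1077)) (tt N175 F586) (tt N243 F587))
theorem Q245 : ∀ i, i < 245 → P i := stepQ 244 Q244 (allL N244 (tt N127 F588) (tt N244 F16527) (tt N126 (iv D300)) (tt N423 D589) (tt N414 (iv F1081)) (tt N348 (iv F944)) (tt N250 (iv F15722)))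
theorem Q246 : ∀ i, i < 246 → P i := stepQ 245 Q245 (allL N245 (tt N423 (iv F1100)) (tt N406 (iv F1057)) (tt N349 F15743) (tt N127 (iv D301)) (tt N424 D591) (tt N425 D592) (tt N349 (iv F947)))
theorem Q247 : ∀ i, i < 247 → P i := stepQ 246 Q246 (allL N246 (tt N348 (iv F943)) (tt N426 D593) (tt N128 F589) (tt N425 (iv F1101)) (tt N416 (iv F1083)) (tt N127 (iv D302)) (tt N427 D594))
theorem Q248 : ∀ i, i < 248 → P i := stepQ 247 Q247 (allL N247 (tt N199 F590) (tt N158 (iv F593)) (tt N427 (iv F1103)) (tt N134 (iv F15730)) (tt N417 (iv F1086)) (tt N133 F15709) (tt N128 (iv D303)))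
theorem Q249 : ∀ i, i < 249 → P i := stepQ 248 Q248 (allL N248 (tt N195 F594) (tt N428 D595) (tt N130 (iv D304)) (tt N429 D596) (tt N430 D597) (tt N239 F595) (tt N422 (iv F1096)))
theorem Q250 : ∀ i, i < 250 → P i := stepQ 249 Q249 (allL N249 (tt N191 F596) (tt N249 F597) (tt N430 (iv F1110)) (tt N249 F598) (tt N130 (iv D305)) (tt N232 F599) (tt N412 (iv F1073)))
theorem Q251 : ∀ i, i < 251 → P i := stepQ 250 Q250 (allL N250 (tt N198 F15721) (tt N431 D600) (tt N133 (iv D307)) (tt N432 D601) (tt N433 D602) (tt N427 (iv F15733)) (tt N244 F15722))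
theorem Q252 : ∀ i, i < 252 → P i := stepQ 251 Q251 (allL N251 (tt N193 F15725) (tt N251 F602) (tt N433 (iv F1120)) (tt N251 F603) (tt N133 (iv D308)) (tt N417 (iv F15732)) (tt N235 F15726))
theorem Q253 : ∀ i, i < 253 → P i := stepQ 252 Q252 (allL N252 (tt N378 (iv F1014)) (tt N434 D610) (tt N135 (iv D312)) (tt N435 D611) (tt N142 F611) (tt N436 D612) (tt N437 D613))
theorem Q254 : ∀ i, i < 254 → P i := stepQ 253 Q253 (allL N253 (tt N379 (iv F1016)) (tt N438 D614) (tt N436 (iv F1138)) (tt N136 F612) (tt N143 F613) (tt N135 (iv D313)) (tt N439 D615))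
theorem Q255 : ∀ i, i < 255 → P i := stepQ 254 Q254 (allL N254 (tt N380 (iv F1019)) (tt N440 D616) (tt N437 (iv F1140)) (tt N137 F614) (tt N144 F615) (tt N441 D617) (tt N135 (iv D314)))
theorem Q256 : ∀ i, i < 256 → P i := stepQ 255 Q255 (allL N255 (tt N255 F14771) (tt N136 (iv D315)) (tt N442 D619) (tt N438 (iv F1142)) (tt N138 F616) (tt N255 F617) (tt N442 (iv F17081)))
theorem Q257 : ∀ i, i < 257 → P i := stepQ 256 Q256 (allL N256 (tt N258 (iv F622)) (tt N443 D621) (tt N258 (iv F623)) (tt N439 (iv F1145)) (tt N139 F618) (tt N218 F619) (tt N136 (iv D316)))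
theorem Q258 : ∀ i, i < 258 → P i := stepQ 257 Q257 (allL N257 (tt N257 F16637) (tt N137 (iv D317)) (tt N444 D623) (tt N440 (iv F1148)) (tt N140 F620) (tt N444 F16638) (tt N257 F621))
theorem Q259 : ∀ i, i < 259 → P i := stepQ 258 Q258 (allL N258 (tt N256 F622) (tt N445 D625) (tt N256 F623) (tt N441 (iv F1152)) (tt N141 F624) (tt N137 (iv D318)) (tt N217 F625))
theorem Q260 : ∀ i, i < 260 → P i := stepQ 259 Q259 (allL N259 (tt N259 F14711) (tt N384 (iv F1025)) (tt N138 (iv D320)) (tt N149 F16964) (tt N442 (iv F1157)) (tt N259 F628) (tt N138 F16965))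
theorem Q261 : ∀ i, i < 261 → P i := stepQ 260 Q260 (allL N260 (tt N446 D632) (tt N139 (iv D322)) (tt N385 F16706) (tt N150 F630) (tt N443 (iv F1160)) (tt N385 F16707) (tt N384 (iv F16827)))
theorem Q262 : ∀ i, i < 262 → P i := stepQ 261 Q261 (allL N261 (tt N261 F16503) (tt N387 (iv F1028)) (tt N140 (iv D324)) (tt N151 F16504) (tt N444 (iv F1163)) (tt N140 (iv F16554)) (tt N261 F633))
theorem Q263 : ∀ i, i < 263 → P i := stepQ 262 Q262 (allL N262 (tt N447 D641) (tt N141 (iv D326)) (tt N388 (iv F16555)) (tt N152 F635) (tt N445 (iv F1166)) (tt N387 F16505) (tt N388 (iv F16557)))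
theorem Q264 : ∀ i, i < 264 → P i := stepQ 263 Q263 (allL N263 (tt N448 D644) (tt N142 (iv D327)) (tt N263 F636) (tt N389 (iv F1030)) (tt N434 (iv F1136)) (tt N449 D645) (tt N450 D646))
theorem Q265 : ∀ i, i < 265 → P i := stepQ 264 Q264 (allL N264 (tt N390 (iv F1031)) (tt N451 D647) (tt N143 F637) (tt N390 (iv F1033)) (tt N436 (iv F1139)) (tt N142 (iv D328)) (tt N452 D648))
theorem Q266 : ∀ i, i < 266 → P i := stepQ 265 Q265 (allL N265 (tt N391 (iv F1034)) (tt N453 D649) (tt N144 F638) (tt N391 (iv F1036)) (tt N437 (iv F1141)) (tt N454 D650) (tt N142 (iv D329)))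
theorem Q267 : ∀ i, i < 267 → P i := stepQ 266 Q266 (allL N266 (tt N266 F14949) (tt N143 (iv D330)) (tt N455 D652) (tt N145 F639) (tt N438 (iv F1143)) (tt N266 F640) (tt N456 D653))
theorem Q268 : ∀ i, i < 268 → P i := stepQ 267 Q267 (allL N267 (tt N269 (iv F645)) (tt N457 D654) (tt N452 (iv F1197)) (tt N146 F641) (tt N439 (iv F1146)) (tt N223 F642) (tt N143 (iv D331)))
theorem Q269 : ∀ i, i < 269 → P i := stepQ 268 Q268 (allL N268 (tt N268 F16683) (tt N144 (iv D332)) (tt N458 D656) (tt N147 F643) (tt N440 (iv F1149)) (tt N459 D657) (tt N268 F644))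
theorem Q270 : ∀ i, i < 270 → P i := stepQ 269 Q269 (allL N269 (tt N267 F645) (tt N460 D658) (tt N454 (iv F1200)) (tt N148 F646) (tt N441 (iv F1153)) (tt N144 (iv D333)) (tt N222 F647))
theorem Q271 : ∀ i, i < 271 → P i := stepQ 270 Q270 (allL N270 (tt N270 F14950) (tt N461 D661) (tt N270 F651) (tt N456 (iv F1206)) (tt N149 F652) (tt N270 F14951) (tt N145 (iv D335)))
theorem Q272 : ∀ i, i < 272 → P i := stepQ 271 Q271 (allL N271 (tt N462 D662) (tt N146 (iv D336)) (tt N463 D663) (tt N457 (iv F1207)) (tt N150 F653) (tt N396 F16742) (tt N461 (iv F1219)))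
theorem Q273 : ∀ i, i < 273 → P i := stepQ 272 Q272 (allL N272 (tt N272 F16524) (tt N464 D667) (tt N272 F657) (tt N459 (iv F1211)) (tt N151 F658) (tt N147 (iv D338)) (tt N272 F16525))
theorem Q274 : ∀ i, i < 274 → P i := stepQ 273 Q273 (allL N273 (tt N465 D668) (tt N148 (iv D339)) (tt N466 D669) (tt N460 (iv F1212)) (tt N152 F659) (tt N464 (iv F1231)) (tt N399 (iv F16558)))
theorem Q275 : ∀ i, i < 275 → P i := stepQ 274 Q274 (allL N274 (tt N212 (iv F16748)) (tt N149 (iv D342)) (tt N467 D677) (tt N384 (iv F16826)) (tt N461 (iv F1218)) (tt N226 (iv F16747)) (tt N150 F663))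
theorem Q276 : ∀ i, i < 276 → P i := stepQ 275 Q275 (allL N275 (tt N150 (iv D343)) (tt N468 D679) (tt N469 D680) (tt N446 (iv F1177)) (tt N462 (iv F1220)) (tt N401 F16743) (tt N212 (iv F16749)))
theorem Q277 : ∀ i, i < 277 → P i := stepQ 276 Q276 (allL N276 (tt N469 (iv F1242)) (tt N156 F664) (tt N150 (iv D344)) (tt N470 D682) (tt N463 (iv F1222)) (tt N403 F16744) (tt N467 (iv F1241)))
theorem Q278 : ∀ i, i < 278 → P i := stepQ 277 Q277 (allL N277 (tt N214 (iv F16476)) (tt N151 (iv D348)) (tt N471 D691) (tt N387 (iv F16477)) (tt N464 (iv F1230)) (tt N152 F669) (tt N229 F16473))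
theorem Q279 : ∀ i, i < 279 → P i := stepQ 278 Q278 (allL N278 (tt N152 (iv D349)) (tt N472 D693) (tt N473 D694) (tt N447 (iv F1190)) (tt N465 (iv F1232)) (tt N214 F16486) (tt N405 F16487))
theorem Q280 : ∀ i, i < 280 → P i := stepQ 279 Q279 (allL N279 (tt N473 (iv F1254)) (tt N159 F670) (tt N152 (iv D350)) (tt N474 D696) (tt N466 (iv F1234)) (tt N471 (iv F1253)) (tt N407 F16482))
theorem Q281 : ∀ i, i < 281 → P i := stepQ 280 Q280 (allL N280 (tt N153 (iv D352)) (tt N412 F1074) (tt N475 D699) (tt N280 F672) (tt N155 F673) (tt N476 D700) (tt N280 F674))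
theorem Q282 : ∀ i, i < 282 → P i := stepQ 281 Q281 (allL N281 (tt N475 (iv F1261)) (tt N463 (iv F1221)) (tt N153 (iv D353)) (tt N477 D701) (tt N156 F675) (tt N478 D702) (tt N281 F676))
theorem Q283 : ∀ i, i < 283 → P i := stepQ 282 Q282 (allL N282 (tt N476 (iv F1264)) (tt N237 F677) (tt N478 (iv F1269)) (tt N282 F678) (tt N157 F679) (tt N153 (iv D354)) (tt N476 (iv F1267)))
theorem Q284 : ∀ i, i < 284 → P i := stepQ 283 Q283 (allL N283 (tt N154 (iv D355)) (tt N417 F1088) (tt N479 D703) (tt N283 F680) (tt N158 F681) (tt N283 F682) (tt N480 D704))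
theorem Q285 : ∀ i, i < 285 → P i := stepQ 284 Q284 (allL N284 (tt N479 (iv F1271)) (tt N466 (iv F1233)) (tt N154 (iv D356)) (tt N481 D705) (tt N159 F683) (tt N284 F684) (tt N482 D706))
theorem Q286 : ∀ i, i < 286 → P i := stepQ 285 Q285 (allL N285 (tt N480 (iv F1274)) (tt N234 F685) (tt N482 (iv F1280)) (tt N285 F686) (tt N160 F687) (tt N480 (iv F1278)) (tt N154 (iv D357)))
theorem Q287 : ∀ i, i < 287 → P i := stepQ 286 Q286 (allL N286 (tt N156 F688) (tt N470 F32551) (tt N155 (iv D358)) (tt N156 (iv F32609)) (tt N475 (iv F1262)) (tt N483 D709) (tt N286 F689))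
theorem Q288 : ∀ i, i < 288 → P i := stepQ 287 Q287 (allL N287 (tt N157 F690) (tt N290 (iv F698)) (tt N483 (iv F1285)) (tt N162 F691) (tt N476 (iv F1266)) (tt N155 (iv D359)) (tt N157 F692))
theorem Q289 : ∀ i, i < 289 → P i := stepQ 288 Q288 (allL N288 (tt N483 (iv F1284)) (tt N484 D713) (tt N157 F694) (tt N483 F32694) (tt N478 (iv F1270)) (tt N156 (iv D361)) (tt N483 (iv F1286)))
theorem Q290 : ∀ i, i < 290 → P i := stepQ 289 Q289 (allL N289 (tt N159 F695) (tt N474 (iv F32810)) (tt N158 (iv D362)) (tt N159 (iv F32808)) (tt N479 (iv F1272)) (tt N289 F696) (tt N485 D716))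
theorem Q291 : ∀ i, i < 291 → P i := stepQ 290 Q290 (allL N290 (tt N160 F697) (tt N287 F698) (tt N485 (iv F1294)) (tt N165 F699) (tt N480 (iv F1277)) (tt N160 F700) (tt N158 (iv D363)))
theorem Q292 : ∀ i, i < 292 → P i := stepQ 291 Q291 (allL N291 (tt N485 (iv F1293)) (tt N486 D720) (tt N160 F702) (tt N485 F32756) (tt N482 (iv F1281)) (tt N485 (iv F1295)) (tt N159 (iv D365)))
theorem Q293 : ∀ i, i < 293 → P i := stepQ 292 Q292 (allL N292 (tt N163 F705) (tt N487 D724) (tt N162 F706) (tt N292 F32799) (tt N292 F707) (tt N161 (iv D367)) (tt N163 F708))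
theorem Q294 : ∀ i, i < 294 → P i := stepQ 293 Q293 (allL N293 (tt N166 F720) (tt N488 D740) (tt N165 F721) (tt N293 F32858) (tt N293 F722) (tt N166 F723) (tt N164 (iv D374)))
theorem Q295 : ∀ i, i < 295 → P i := stepQ 294 Q294 (allL N294 (tt N294 F15492) (tt N168 F782) (tt N489 D783) (tt N167 (iv D400)) (tt N490 D784) (tt N294 F15394) (tt N294 F17152))
theorem Q296 : ∀ i, i < 296 → P i := stepQ 295 Q295 (allL N295 (tt N295 F15490) (tt N169 F783) (tt N295 F784) (tt N491 D787) (tt N167 (iv D401)) (tt N295 F15392) (tt N295 F17159))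
theorem Q297 : ∀ i, i < 297 → P i := stepQ 296 Q296 (allL N296 (tt N181 F787) (tt N490 (iv F1425)) (tt N296 F15496) (tt N492 D794) (tt N168 (iv D404)) (tt N493 D795) (tt N494 D796))
theorem Q298 : ∀ i, i < 298 → P i := stepQ 297 Q297 (allL N297 (tt N182 F788) (tt N297 F15208) (tt N297 F15334) (tt N170 F789) (tt N493 (iv F1443)) (tt N168 (iv D405)) (tt N324 (iv F903)))
theorem Q299 : ∀ i, i < 299 → P i := stepQ 298 Q298 (allL N298 (tt N183 F790) (tt N298 F17061) (tt N298 F15461) (tt N171 F791) (tt N494 (iv F1445)) (tt N322 (iv F899)) (tt N168 (iv D406)))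
theorem Q300 : ∀ i, i < 300 → P i := stepQ 299 Q299 (allL N299 (tt N184 F792) (tt N491 (iv F1428)) (tt N495 D799) (tt N169 (iv D407)) (tt N492 (iv F1441)) (tt N496 D800) (tt N497 D801))
theorem Q301 : ∀ i, i < 301 → P i := stepQ 300 Q300 (allL N300 (tt N185 F793) (tt N300 F15207) (tt N172 F794) (tt N496 (iv F1451)) (tt N170 F795) (tt N169 (iv D408)) (tt N331 (iv F914)))
theorem Q302 : ∀ i, i < 302 → P i := stepQ 301 Q301 (allL N301 (tt N186 F796) (tt N301 F17060) (tt N173 F797) (tt N497 (iv F1453)) (tt N171 F798) (tt N329 (iv F909)) (tt N169 (iv D409)))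
theorem Q303 : ∀ i, i < 303 → P i := stepQ 302 Q302 (allL N302 (tt N302 F799) (tt N172 (iv D412)) (tt N302 F15050) (tt N302 F800) (tt N174 F801) (tt N302 F802) (tt N408 (iv F1065)))
theorem Q304 : ∀ i, i < 304 → P i := stepQ 303 Q303 (allL N303 (tt N303 F806) (tt N173 (iv D413)) (tt N303 F16922) (tt N303 F803) (tt N175 F804) (tt N413 (iv F1078)) (tt N303 F805))
theorem Q305 : ∀ i, i < 305 → P i := stepQ 304 Q304 (allL N304 (tt N177 F862) (tt N304 F15248) (tt N177 F863) (tt N176 (iv D443)) (tt N498 D872) (tt N499 D873) (tt N500 D874))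
theorem Q306 : ∀ i, i < 306 → P i := stepQ 305 Q305 (allL N305 (tt N178 F864) (tt N305 F15244) (tt N203 F865) (tt N501 D875) (tt N176 (iv D444)) (tt N502 D876) (tt N503 D877))
theorem Q307 : ∀ i, i < 307 → P i := stepQ 306 Q306 (allL N306 (tt N179 F866) (tt N504 D878) (tt N204 F867) (tt N499 (iv F1563)) (tt N502 (iv F1570)) (tt N176 (iv D445)) (tt N317 (iv F884)))
theorem Q308 : ∀ i, i < 308 → P i := stepQ 307 Q307 (allL N307 (tt N180 F868) (tt N505 D879) (tt N205 F869) (tt N500 (iv F1566)) (tt N503 (iv F1573)) (tt N315 (iv F880)) (tt N176 (iv D446)))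
theorem Q309 : ∀ i, i < 309 → P i := stepQ 308 Q308 (allL N308 (tt N498 (iv F1559)) (tt N181 F870) (tt N498 (iv F1560)) (tt N506 D880) (tt N177 (iv D447)) (tt N507 D881) (tt N508 D882))
theorem Q310 : ∀ i, i < 310 → P i := stepQ 309 Q309 (allL N309 (tt N499 (iv F1561)) (tt N509 D883) (tt N499 (iv F1562)) (tt N179 F871) (tt N507 (iv F1576)) (tt N177 (iv D448)) (tt N510 D884))
theorem Q311 : ∀ i, i < 311 → P i := stepQ 310 Q310 (allL N310 (tt N500 (iv F1564)) (tt N511 D885) (tt N500 (iv F1565)) (tt N180 F872) (tt N508 (iv F1577)) (tt N512 D886) (tt N177 (iv D449)))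
theorem Q312 : ∀ i, i < 312 → P i := stepQ 311 Q311 (allL N311 (tt N501 (iv F1567)) (tt N184 F873) (tt N513 D887) (tt N178 (iv D450)) (tt N506 (iv F1575)) (tt N514 D888) (tt N515 D889))
theorem Q313 : ∀ i, i < 313 → P i := stepQ 312 Q312 (allL N312 (tt N502 (iv F1568)) (tt N516 D890) (tt N210 F874) (tt N514 (iv F1588)) (tt N179 F875) (tt N178 (iv D451)) (tt N517 D891))
theorem Q314 : ∀ i, i < 314 → P i := stepQ 313 Q313 (allL N313 (tt N503 (iv F1571)) (tt N518 D892) (tt N211 F876) (tt N515 (iv F1589)) (tt N180 F877) (tt N519 D893) (tt N178 (iv D452)))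
theorem Q315 : ∀ i, i < 315 → P i := stepQ 314 Q314 (allL N314 (tt N520 D894) (tt N179 (iv D453)) (tt N521 D895) (tt N509 (iv F1578)) (tt N516 (iv F1590)) (tt N187 F878) (tt N522 D896))
theorem Q316 : ∀ i, i < 316 → P i := stepQ 315 Q315 (allL N315 (tt N317 (iv F882)) (tt N523 D897) (tt N213 F879) (tt N510 (iv F1580)) (tt N517 (iv F1593)) (tt N307 F880) (tt N179 (iv D454)))
theorem Q317 : ∀ i, i < 317 → P i := stepQ 316 Q316 (allL N316 (tt N524 D898) (tt N180 (iv D455)) (tt N525 D899) (tt N511 (iv F1582)) (tt N518 (iv F1595)) (tt N526 D900) (tt N189 F881))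
theorem Q318 : ∀ i, i < 318 → P i := stepQ 317 Q317 (allL N317 (tt N315 F882) (tt N527 D901) (tt N215 F883) (tt N512 (iv F1586)) (tt N519 (iv F1599)) (tt N180 (iv D456)) (tt N306 F884))
theorem Q319 : ∀ i, i < 319 → P i := stepQ 318 Q318 (allL N318 (tt N492 (iv F1440)) (tt N506 (iv F1574)) (tt N528 D911) (tt N181 (iv D461)) (tt N184 F894) (tt N529 D912) (tt N530 D913))
theorem Q320 : ∀ i, i < 320 → P i := stepQ 319 Q319 (allL N319 (tt N493 (iv F1442)) (tt N531 D914) (tt N319 F15335) (tt N529 (iv F1622)) (tt N182 F895) (tt N181 (iv D462)) (tt N532 D915))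
theorem Q321 : ∀ i, i < 321 → P i := stepQ 320 Q320 (allL N320 (tt N494 (iv F1444)) (tt N533 D916) (tt N320 F15497) (tt N530 (iv F1624)) (tt N183 F896) (tt N534 D917) (tt N181 (iv D463)))
theorem Q322 : ∀ i, i < 322 → P i := stepQ 321 Q321 (allL N321 (tt N535 D918) (tt N182 (iv D464)) (tt N536 D919) (tt N187 F897) (tt N531 (iv F1626)) (tt N509 (iv F1579)) (tt N537 D920))
theorem Q323 : ∀ i, i < 323 → P i := stepQ 322 Q322 (allL N322 (tt N324 (iv F901)) (tt N538 D921) (tt N322 F15337) (tt N188 F898) (tt N532 (iv F1627)) (tt N298 F899) (tt N182 (iv D465)))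
theorem Q324 : ∀ i, i < 324 → P i := stepQ 323 Q323 (allL N323 (tt N539 D922) (tt N183 (iv D466)) (tt N540 D923) (tt N189 F900) (tt N533 (iv F1629)) (tt N541 D924) (tt N511 (iv F1583)))
theorem Q325 : ∀ i, i < 325 → P i := stepQ 324 Q324 (allL N324 (tt N322 F901) (tt N542 D925) (tt N324 F15458) (tt N190 F902) (tt N534 (iv F1631)) (tt N183 (iv D467)) (tt N297 F903))
theorem Q326 : ∀ i, i < 326 → P i := stepQ 325 Q325 (allL N325 (tt N495 (iv F1448)) (tt N543 D926) (tt N184 (iv D468)) (tt N495 (iv F1449)) (tt N528 (iv F1621)) (tt N544 D927) (tt N545 D928))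
theorem Q327 : ∀ i, i < 327 → P i := stepQ 326 Q326 (allL N326 (tt N496 (iv F1450)) (tt N546 D929) (tt N544 (iv F1639)) (tt N185 F904) (tt N529 (iv F1623)) (tt N184 (iv D469)) (tt N547 D930))
theorem Q328 : ∀ i, i < 328 → P i := stepQ 327 Q327 (allL N327 (tt N497 (iv F1452)) (tt N548 D931) (tt N545 (iv F1640)) (tt N186 F905) (tt N530 (iv F1625)) (tt N549 D932) (tt N184 (iv D470)))
theorem Q329 : ∀ i, i < 329 → P i := stepQ 328 Q328 (allL N328 (tt N550 D933) (tt N185 (iv D471)) (tt N551 D934) (tt N546 (iv F1641)) (tt N187 F906) (tt N516 (iv F1591)) (tt N552 D935))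
theorem Q330 : ∀ i, i < 330 → P i := stepQ 329 Q329 (allL N329 (tt N331 (iv F911)) (tt N553 D936) (tt N192 F907) (tt N547 (iv F1642)) (tt N188 F908) (tt N301 F909) (tt N185 (iv D472)))
theorem Q331 : ∀ i, i < 331 → P i := stepQ 330 Q330 (allL N330 (tt N554 D937) (tt N186 (iv D473)) (tt N555 D938) (tt N548 (iv F1644)) (tt N189 F910) (tt N556 D939) (tt N518 (iv F1596)))
theorem Q332 : ∀ i, i < 332 → P i := stepQ 331 Q331 (allL N331 (tt N329 F911) (tt N557 D940) (tt N194 F912) (tt N549 (iv F1646)) (tt N190 F913) (tt N186 (iv D474)) (tt N300 F914))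
theorem Q333 : ∀ i, i < 333 → P i := stepQ 332 Q332 (allL N332 (tt N187 (iv D475)) (tt N558 D941) (tt N559 D942) (tt N535 (iv F1633)) (tt N550 (iv F1648)) (tt N520 (iv F1601)) (tt N527 F16919))
theorem Q334 : ∀ i, i < 334 → P i := stepQ 333 Q333 (allL N333 (tt N559 (iv F1658)) (tt N195 F915) (tt N187 (iv D476)) (tt N560 D944) (tt N551 (iv F1650)) (tt N521 (iv F1603)) (tt N561 D945))
theorem Q335 : ∀ i, i < 335 → P i := stepQ 334 Q334 (allL N334 (tt N527 F16918) (tt N562 D946) (tt N561 (iv F1662)) (tt N537 (iv F1634)) (tt N552 (iv F1651)) (tt N563 D947) (tt N187 (iv D477)))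
theorem Q336 : ∀ i, i < 336 → P i := stepQ 335 Q335 (allL N335 (tt N564 D948) (tt N188 (iv D478)) (tt N565 D949) (tt N538 (iv F1635)) (tt N553 (iv F1652)) (tt N335 F16798) (tt N562 (iv F1663)))
theorem Q337 : ∀ i, i < 337 → P i := stepQ 336 Q336 (allL N336 (tt N189 (iv D479)) (tt N566 D951) (tt N567 D952) (tt N539 (iv F1636)) (tt N554 (iv F1653)) (tt N523 (iv F16820)) (tt N524 (iv F1604)))
theorem Q338 : ∀ i, i < 338 → P i := stepQ 337 Q337 (allL N337 (tt N567 (iv F1668)) (tt N198 F916) (tt N189 (iv D480)) (tt N568 D954) (tt N555 (iv F1655)) (tt N569 D955) (tt N525 (iv F1606)))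
theorem Q339 : ∀ i, i < 339 → P i := stepQ 338 Q338 (allL N338 (tt N523 (iv F16819)) (tt N570 D956) (tt N569 (iv F1672)) (tt N541 (iv F1637)) (tt N556 (iv F1656)) (tt N189 (iv D481)) (tt N571 D957))
theorem Q340 : ∀ i, i < 340 → P i := stepQ 339 Q339 (allL N339 (tt N572 D958) (tt N190 (iv D482)) (tt N573 D959) (tt N542 (iv F1638)) (tt N557 (iv F1657)) (tt N570 (iv F1673)) (tt N339 F14941))
theorem Q341 : ∀ i, i < 341 → P i := stepQ 340 Q340 (allL N340 (tt N430 (iv F1109)) (tt N551 (iv F1649)) (tt N191 (iv D483)) (tt N574 D961) (tt N195 F917) (tt N233 F918) (tt N575 D962))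
theorem Q342 : ∀ i, i < 342 → P i := stepQ 341 Q341 (allL N341 (tt N412 (iv F1070)) (tt N344 (iv F934)) (tt N575 (iv F1679)) (tt N341 F919) (tt N196 F920) (tt N345 (iv F937)) (tt N191 (iv D484)))
theorem Q343 : ∀ i, i < 343 → P i := stepQ 342 Q342 (allL N342 (tt N237 (iv F923)) (tt N192 (iv D485)) (tt N576 D963) (tt N342 F921) (tt N197 F922) (tt N235 (iv F924)) (tt N344 (iv F933)))
theorem Q344 : ∀ i, i < 344 → P i := stepQ 343 Q343 (allL N343 (tt N433 (iv F15741)) (tt N555 (iv F1654)) (tt N193 (iv D487)) (tt N577 D965) (tt N198 F929) (tt N578 D966) (tt N236 F930))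
theorem Q345 : ∀ i, i < 345 → P i := stepQ 344 Q344 (allL N344 (tt N417 (iv F1084)) (tt N341 F934) (tt N578 (iv F1688)) (tt N344 F931) (tt N199 F932) (tt N193 (iv D488)) (tt N342 F933))
theorem Q346 : ∀ i, i < 346 → P i := stepQ 345 Q345 (allL N345 (tt N234 (iv F938)) (tt N194 (iv D489)) (tt N579 D967) (tt N345 F935) (tt N200 F936) (tt N341 F937) (tt N232 (iv F939)))
theorem Q347 : ∀ i, i < 347 → P i := stepQ 346 Q346 (allL N346 (tt N429 (iv F1106)) (tt N560 (iv F1661)) (tt N240 F941) (tt N195 (iv D490)) (tt N580 D968) (tt N240 F940) (tt N581 D969))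
theorem Q348 : ∀ i, i < 348 → P i := stepQ 347 Q347 (allL N347 (tt N422 (iv F1094)) (tt N582 D970) (tt N196 F942) (tt N581 (iv F1698)) (tt N575 (iv F1680)) (tt N351 (iv F951)) (tt N195 (iv D491)))
theorem Q349 : ∀ i, i < 349 → P i := stepQ 348 Q348 (allL N348 (tt N246 F943) (tt N565 (iv F1666)) (tt N197 (iv D492)) (tt N583 D971) (tt N576 (iv F1682)) (tt N244 F944) (tt N350 (iv F949)))
theorem Q350 : ∀ i, i < 350 → P i := stepQ 349 Q349 (allL N349 (tt N432 (iv F15738)) (tt N568 (iv F1671)) (tt N245 (iv F15743)) (tt N198 (iv D494)) (tt N584 D975) (tt N585 D976) (tt N245 F947))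
theorem Q351 : ∀ i, i < 351 → P i := stepQ 350 Q350 (allL N350 (tt N427 (iv F1102)) (tt N586 D977) (tt N199 F948) (tt N585 (iv F1706)) (tt N578 (iv F1689)) (tt N198 (iv D495)) (tt N348 F949))
theorem Q352 : ∀ i, i < 352 → P i := stepQ 351 Q351 (allL N351 (tt N241 F950) (tt N573 (iv F1676)) (tt N200 (iv D496)) (tt N587 D978) (tt N579 (iv F1692)) (tt N347 F951) (tt N239 F952))
theorem Q353 : ∀ i, i < 353 → P i := stepQ 352 Q352 (allL N352 (tt N352 F963) (tt N202 F964) (tt N588 D990) (tt N201 (iv D502)) (tt N589 D991) (tt N352 F15027) (tt N352 F16893))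
theorem Q354 : ∀ i, i < 354 → P i := stepQ 353 Q353 (allL N353 (tt N353 F965) (tt N203 F966) (tt N353 F15500) (tt N590 D994) (tt N201 (iv D503)) (tt N353 F15091) (tt N353 F16917))
theorem Q355 : ∀ i, i < 355 → P i := stepQ 354 Q354 (allL N354 (tt N206 F969) (tt N589 (iv F1741)) (tt N354 F970) (tt N591 D1000) (tt N202 (iv D506)) (tt N592 D1001) (tt N593 D1002))
theorem Q356 : ∀ i, i < 356 → P i := stepQ 355 Q355 (allL N355 (tt N207 F971) (tt N355 F14809) (tt N355 F972) (tt N204 F973) (tt N592 (iv F1760)) (tt N202 (iv D507)) (tt N366 (iv F998)))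
theorem Q357 : ∀ i, i < 357 → P i := stepQ 356 Q356 (allL N356 (tt N208 F974) (tt N356 F16661) (tt N356 F975) (tt N205 F976) (tt N593 (iv F1763)) (tt N364 (iv F992)) (tt N202 (iv D508)))
theorem Q358 : ∀ i, i < 358 → P i := stepQ 357 Q357 (allL N357 (tt N209 F977) (tt N590 (iv F1747)) (tt N594 D1005) (tt N203 (iv D509)) (tt N591 (iv F1757)) (tt N595 D1006) (tt N596 D1007))
theorem Q359 : ∀ i, i < 359 → P i := stepQ 358 Q358 (allL N358 (tt N210 F978) (tt N358 F14858) (tt N502 (iv F1569)) (tt N595 (iv F1768)) (tt N204 F979) (tt N203 (iv D510)) (tt N373 (iv F1009)))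
theorem Q360 : ∀ i, i < 360 → P i := stepQ 359 Q359 (allL N359 (tt N211 F980) (tt N359 F16677) (tt N503 (iv F1572)) (tt N596 (iv F1770)) (tt N205 F981) (tt N371 (iv F1004)) (tt N203 (iv D511)))
theorem Q361 : ∀ i, i < 361 → P i := stepQ 360 Q360 (allL N360 (tt N591 (iv F1756)) (tt N216 F982) (tt N597 D1016) (tt N206 (iv D514)) (tt N209 F983) (tt N598 D1017) (tt N599 D1018))
theorem Q362 : ∀ i, i < 362 → P i := stepQ 361 Q361 (allL N361 (tt N592 (iv F1758)) (tt N600 D1019) (tt N361 F984) (tt N598 (iv F1774)) (tt N207 F985) (tt N206 (iv D515)) (tt N601 D1020))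
theorem Q363 : ∀ i, i < 363 → P i := stepQ 362 Q362 (allL N362 (tt N593 (iv F1761)) (tt N602 D1021) (tt N362 F986) (tt N599 (iv F1776)) (tt N208 F987) (tt N603 D1022) (tt N206 (iv D516)))
theorem Q364 : ∀ i, i < 364 → P i := stepQ 363 Q363 (allL N363 (tt N384 F14708) (tt N207 (iv D517)) (tt N383 F14709) (tt N212 F988) (tt N600 (iv F1778)) (tt N219 F989) (tt N446 F16831))
theorem Q365 : ∀ i, i < 365 → P i := stepQ 364 Q364 (allL N364 (tt N366 (iv F995)) (tt N604 D1026) (tt N364 F990) (tt N213 F991) (tt N601 (iv F1781)) (tt N356 F992) (tt N207 (iv D518)))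
theorem Q366 : ∀ i, i < 366 → P i := stepQ 365 Q365 (allL N365 (tt N387 (iv F16484)) (tt N208 (iv D519)) (tt N386 F16483) (tt N214 F993) (tt N602 (iv F1783)) (tt N447 (iv F16533)) (tt N220 F994))
theorem Q367 : ∀ i, i < 367 → P i := stepQ 366 Q366 (allL N366 (tt N364 F995) (tt N605 D1030) (tt N366 F996) (tt N215 F997) (tt N603 (iv F1787)) (tt N208 (iv D520)) (tt N355 F998))
theorem Q368 : ∀ i, i < 368 → P i := stepQ 367 Q367 (allL N367 (tt N594 (iv F1766)) (tt N606 D1031) (tt N209 (iv D521)) (tt N607 D1032) (tt N597 (iv F1773)) (tt N608 D1033) (tt N609 D1034))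
theorem Q369 : ∀ i, i < 369 → P i := stepQ 368 Q368 (allL N368 (tt N595 (iv F1767)) (tt N610 D1035) (tt N608 (iv F1802)) (tt N210 F999) (tt N598 (iv F1775)) (tt N209 (iv D522)) (tt N611 D1036))
theorem Q370 : ∀ i, i < 370 → P i := stepQ 369 Q369 (allL N369 (tt N596 (iv F1769)) (tt N612 D1037) (tt N609 (iv F1803)) (tt N211 F1000) (tt N599 (iv F1777)) (tt N613 D1038) (tt N209 (iv D523)))
theorem Q371 : ∀ i, i < 371 → P i := stepQ 370 Q370 (allL N370 (tt N461 F16875) (tt N210 (iv D524)) (tt N614 D1040) (tt N610 (iv F1804)) (tt N212 F1001) (tt N224 F1002) (tt N462 F16876))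
theorem Q372 : ∀ i, i < 372 → P i := stepQ 371 Q371 (allL N371 (tt N373 (iv F1007)) (tt N615 D1042) (tt N517 (iv F1592)) (tt N611 (iv F1806)) (tt N213 F1003) (tt N359 F1004) (tt N210 (iv D525)))
theorem Q373 : ∀ i, i < 373 → P i := stepQ 372 Q372 (allL N372 (tt N464 F16523) (tt N211 (iv D526)) (tt N616 D1044) (tt N612 (iv F1808)) (tt N214 F1005) (tt N465 (iv F16535)) (tt N225 F1006))
theorem Q374 : ∀ i, i < 374 → P i := stepQ 373 Q373 (allL N373 (tt N371 F1007) (tt N617 D1046) (tt N519 (iv F1598)) (tt N613 (iv F1811)) (tt N215 F1008) (tt N211 (iv D527)) (tt N358 F1009))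
theorem Q375 : ∀ i, i < 375 → P i := stepQ 374 Q374 (allL N374 (tt N467 F16879) (tt N521 (iv F1602)) (tt N212 (iv D529)) (tt N618 D1049) (tt N614 (iv F1815)) (tt N227 F1011) (tt N469 F16880))
theorem Q376 : ∀ i, i < 376 → P i := stepQ 375 Q375 (allL N375 (tt N619 D1052) (tt N213 (iv D531)) (tt N620 D1053) (tt N604 (iv F1794)) (tt N615 (iv F1818)) (tt N375 F16563) (tt N468 (iv F16658)))
theorem Q377 : ∀ i, i < 377 → P i := stepQ 376 Q376 (allL N376 (tt N471 F16479) (tt N525 (iv F1605)) (tt N214 (iv D533)) (tt N621 D1057) (tt N616 (iv F1821)) (tt N473 F16480) (tt N230 F1013))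
theorem Q378 : ∀ i, i < 378 → P i := stepQ 377 Q377 (allL N377 (tt N622 D1060) (tt N215 (iv D535)) (tt N623 D1061) (tt N605 (iv F1800)) (tt N617 (iv F1824)) (tt N472 F16593) (tt N377 F14979))
theorem Q379 : ∀ i, i < 379 → P i := stepQ 378 Q378 (allL N378 (tt N252 F1014) (tt N624 D1063) (tt N216 (iv D536)) (tt N625 D1064) (tt N221 F1015) (tt N626 D1065) (tt N627 D1066))
theorem Q380 : ∀ i, i < 380 → P i := stepQ 379 Q379 (allL N379 (tt N253 F1016) (tt N628 D1067) (tt N626 (iv F1844)) (tt N217 F1017) (tt N222 F1018) (tt N216 (iv D537)) (tt N441 (iv F1154)))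
theorem Q381 : ∀ i, i < 381 → P i := stepQ 380 Q380 (allL N380 (tt N254 F1019) (tt N629 D1068) (tt N627 (iv F1847)) (tt N218 F1020) (tt N223 F1021) (tt N439 (iv F1147)) (tt N216 (iv D538)))
theorem Q382 : ∀ i, i < 382 → P i := stepQ 381 Q381 (allL N381 (tt N630 D1069) (tt N217 (iv D539)) (tt N631 D1070) (tt N628 (iv F1849)) (tt N219 F1022) (tt N600 (iv F1779)) (tt N632 D1071))
theorem Q383 : ∀ i, i < 383 → P i := stepQ 382 Q382 (allL N382 (tt N633 D1072) (tt N218 (iv D540)) (tt N634 D1073) (tt N629 (iv F1851)) (tt N220 F1023) (tt N635 D1074) (tt N602 (iv F1784)))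
theorem Q384 : ∀ i, i < 384 → P i := stepQ 383 Q383 (allL N383 (tt N219 (iv D541)) (tt N383 F14702) (tt N363 (iv F14709)) (tt N226 F1024) (tt N630 (iv F1853)) (tt N384 (iv F14707)) (tt N636 D1077))
theorem Q385 : ∀ i, i < 385 → P i := stepQ 384 Q384 (allL N384 (tt N363 (iv F14708)) (tt N259 F1025) (tt N219 (iv D542)) (tt N274 F16826) (tt N631 (iv F1855)) (tt N383 F14707) (tt N260 F16827))
theorem Q386 : ∀ i, i < 386 → P i := stepQ 385 Q385 (allL N385 (tt N636 (iv F1863)) (tt N388 F16590) (tt N260 (iv F16706)) (tt N228 F1026) (tt N632 (iv F1856)) (tt N260 (iv F16707)) (tt N219 (iv D543)))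
theorem Q387 : ∀ i, i < 387 → P i := stepQ 386 Q386 (allL N386 (tt N220 (iv D544)) (tt N386 F16471) (tt N365 (iv F16483)) (tt N229 F1027) (tt N633 (iv F1857)) (tt N637 D1083) (tt N387 (iv F16485)))
theorem Q388 : ∀ i, i < 388 → P i := stepQ 387 Q387 (allL N387 (tt N365 F16484) (tt N261 F1028) (tt N220 (iv D545)) (tt N277 F16477) (tt N634 (iv F1859)) (tt N262 (iv F16505)) (tt N386 F16485))
theorem Q389 : ∀ i, i < 389 → P i := stepQ 388 Q388 (allL N388 (tt N637 (iv F1873)) (tt N385 (iv F16590)) (tt N262 F16555) (tt N231 F1029) (tt N635 (iv F1860)) (tt N220 (iv D546)) (tt N262 F16557))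
theorem Q390 : ∀ i, i < 390 → P i := stepQ 389 Q389 (allL N389 (tt N638 D1087) (tt N221 (iv D547)) (tt N606 (iv F1801)) (tt N263 F1030) (tt N624 (iv F1839)) (tt N639 D1088) (tt N640 D1089))
theorem Q391 : ∀ i, i < 391 → P i := stepQ 390 Q390 (allL N390 (tt N264 F1031) (tt N641 D1090) (tt N222 F1032) (tt N264 F1033) (tt N626 (iv F1845)) (tt N221 (iv D548)) (tt N454 (iv F1202)))
theorem Q392 : ∀ i, i < 392 → P i := stepQ 391 Q391 (allL N391 (tt N265 F1034) (tt N642 D1091) (tt N223 F1035) (tt N265 F1036) (tt N627 (iv F1848)) (tt N452 (iv F1198)) (tt N221 (iv D549)))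
theorem Q393 : ∀ i, i < 393 → P i := stepQ 392 Q392 (allL N392 (tt N643 D1092) (tt N222 (iv D550)) (tt N644 D1093) (tt N224 F1037) (tt N628 (iv F1850)) (tt N610 (iv F1805)) (tt N645 D1094))
theorem Q394 : ∀ i, i < 394 → P i := stepQ 393 Q393 (allL N393 (tt N646 D1095) (tt N223 (iv D551)) (tt N647 D1096) (tt N225 F1038) (tt N629 (iv F1852)) (tt N648 D1097) (tt N612 (iv F1809)))
theorem Q395 : ∀ i, i < 395 → P i := stepQ 394 Q394 (allL N394 (tt N224 (iv D552)) (tt N394 F14703) (tt N649 D1099) (tt N643 (iv F1886)) (tt N226 F1039) (tt N461 F16874) (tt N650 D1100))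
theorem Q396 : ∀ i, i < 396 → P i := stepQ 395 Q395 (allL N395 (tt N649 (iv F1891)) (tt N233 F1040) (tt N224 (iv D553)) (tt N651 D1101) (tt N227 F1041) (tt N614 (iv F1816)) (tt N652 D1102))
theorem Q397 : ∀ i, i < 397 → P i := stepQ 396 Q396 (allL N396 (tt N650 (iv F1893)) (tt N399 F16646) (tt N652 (iv F1897)) (tt N645 (iv F1887)) (tt N228 F1042) (tt N271 (iv F16742)) (tt N224 (iv D554)))
theorem Q398 : ∀ i, i < 398 → P i := stepQ 397 Q397 (allL N397 (tt N225 (iv D555)) (tt N397 F16472) (tt N653 D1105) (tt N646 (iv F1888)) (tt N229 F1043) (tt N654 D1106) (tt N464 (iv F16478)))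
theorem Q399 : ∀ i, i < 399 → P i := stepQ 398 Q398 (allL N398 (tt N653 (iv F1903)) (tt N236 F1044) (tt N225 (iv D556)) (tt N655 D1107) (tt N230 F1045) (tt N656 D1108) (tt N616 (iv F1822)))
theorem Q400 : ∀ i, i < 400 → P i := stepQ 399 Q399 (allL N399 (tt N654 (iv F1905)) (tt N396 (iv F16646)) (tt N656 (iv F1909)) (tt N648 (iv F1889)) (tt N231 F1046) (tt N225 (iv D557)) (tt N273 F16558))
theorem Q401 : ∀ i, i < 401 → P i := stepQ 400 Q400 (allL N400 (tt N227 F1047) (tt N657 D1114) (tt N226 (iv D559)) (tt N658 D1115) (tt N649 (iv F1892)) (tt N467 F16877) (tt N659 D1116))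
theorem Q402 : ∀ i, i < 402 → P i := stepQ 401 Q401 (allL N401 (tt N228 F1048) (tt N622 (iv F16713)) (tt N659 (iv F1918)) (tt N636 (iv F1864)) (tt N650 (iv F1894)) (tt N275 (iv F16743)) (tt N226 (iv D560)))
theorem Q403 : ∀ i, i < 403 → P i := stepQ 402 Q402 (allL N402 (tt N658 (iv F1916)) (tt N240 F1050) (tt N618 (iv F14684)) (tt N227 (iv D561)) (tt N660 D1119) (tt N618 (iv F1829)) (tt N661 D1120))
theorem Q404 : ∀ i, i < 404 → P i := stepQ 403 Q403 (allL N403 (tt N659 (iv F1917)) (tt N662 D1121) (tt N228 F1051) (tt N661 (iv F1921)) (tt N652 (iv F1898)) (tt N276 (iv F16744)) (tt N227 (iv D562)))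
theorem Q405 : ∀ i, i < 405 → P i := stepQ 404 Q404 (allL N404 (tt N230 F1054) (tt N663 D1128) (tt N229 (iv D565)) (tt N664 D1129) (tt N653 (iv F1904)) (tt N665 D1130) (tt N471 (iv F16458)))
theorem Q406 : ∀ i, i < 406 → P i := stepQ 405 Q405 (allL N405 (tt N231 F1055) (tt N619 F15024) (tt N665 (iv F1929)) (tt N637 (iv F1874)) (tt N654 (iv F1906)) (tt N229 (iv D566)) (tt N278 (iv F16487)))
theorem Q407 : ∀ i, i < 407 → P i := stepQ 406 Q406 (allL N406 (tt N664 (iv F1927)) (tt N245 F1057) (tt N621 (iv F16447)) (tt N230 (iv D567)) (tt N666 D1133) (tt N667 D1134) (tt N621 (iv F1835)))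
theorem Q408 : ∀ i, i < 408 → P i := stepQ 407 Q407 (allL N407 (tt N665 (iv F1928)) (tt N668 D1135) (tt N231 F1058) (tt N667 (iv F1932)) (tt N656 (iv F1910)) (tt N230 (iv D568)) (tt N279 (iv F16482)))
theorem Q409 : ∀ i, i < 409 → P i := stepQ 408 Q408 (allL N408 (tt N408 F1061) (tt N232 (iv D570)) (tt N408 F14934) (tt N408 F1062) (tt N238 F1063) (tt N408 F1064) (tt N302 F1065))
theorem Q410 : ∀ i, i < 410 → P i := stepQ 409 Q409 (allL N409 (tt N233 F1066) (tt N409 F14762) (tt N232 (iv D571)) (tt N669 D1140) (tt N239 F1067) (tt N430 (iv F1111)) (tt N579 (iv F1694)))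
theorem Q411 : ∀ i, i < 411 → P i := stepQ 410 Q410 (allL N410 (tt N669 (iv F1942)) (tt N651 (iv F1896)) (tt N670 D1141) (tt N233 (iv D572)) (tt N671 D1142) (tt N574 (iv F1678)) (tt N672 D1143))
theorem Q412 : ∀ i, i < 412 → P i := stepQ 411 Q411 (allL N411 (tt N579 (iv F1691)) (tt N673 D1144) (tt N234 F1068) (tt N672 (iv F1944)) (tt N241 F1069) (tt N674 D1145) (tt N233 (iv D573)))
theorem Q413 : ∀ i, i < 413 → P i := stepQ 412 Q412 (allL N412 (tt N341 F1070) (tt N280 (iv F1074)) (tt N674 (iv F1947)) (tt N412 F1071) (tt N242 F1072) (tt N234 (iv D574)) (tt N249 F1073))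
theorem Q414 : ∀ i, i < 414 → P i := stepQ 413 Q413 (allL N413 (tt N413 F1075) (tt N235 (iv D575)) (tt N413 F16792) (tt N413 F1076) (tt N243 F1077) (tt N303 F1078) (tt N413 F1079))
theorem Q415 : ∀ i, i < 415 → P i := stepQ 414 Q414 (allL N414 (tt N236 F1080) (tt N414 F16580) (tt N235 (iv D576)) (tt N675 D1148) (tt N244 F1081) (tt N576 (iv F1683)) (tt N433 (iv F15742)))
theorem Q416 : ∀ i, i < 416 → P i := stepQ 415 Q415 (allL N415 (tt N675 (iv F1955)) (tt N655 (iv F1908)) (tt N676 D1149) (tt N236 (iv D577)) (tt N677 D1150) (tt N678 D1151) (tt N577 (iv F1687)))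
theorem Q417 : ∀ i, i < 417 → P i := stepQ 416 Q416 (allL N416 (tt N576 (iv F1681)) (tt N679 D1152) (tt N237 F1082) (tt N678 (iv F1957)) (tt N246 F1083) (tt N236 (iv D578)) (tt N680 D1153))
theorem Q418 : ∀ i, i < 418 → P i := stepQ 417 Q417 (allL N417 (tt N344 F1084) (tt N283 (iv F1088)) (tt N680 (iv F1960)) (tt N417 F1085) (tt N247 F1086) (tt N251 F15732) (tt N237 (iv D579)))
theorem Q419 : ∀ i, i < 419 → P i := stepQ 418 Q418 (allL N418 (tt N240 F1092) (tt N418 F14710) (tt N429 (iv F1107)) (tt N239 (iv D582)) (tt N681 D1160) (tt N429 (iv F1108)) (tt N587 (iv F1711)))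
theorem Q420 : ∀ i, i < 420 → P i := stepQ 419 Q419 (allL N419 (tt N681 (iv F1969)) (tt N660 (iv F1920)) (tt N580 (iv F1695)) (tt N671 (iv F1943)) (tt N240 (iv D583)) (tt N580 (iv F1696)) (tt N682 D1161))
theorem Q421 : ∀ i, i < 421 → P i := stepQ 420 Q420 (allL N420 (tt N587 (iv F1709)) (tt N683 D1162) (tt N581 (iv F1697)) (tt N241 F1093) (tt N682 (iv F1970)) (tt N684 D1163) (tt N240 (iv D584)))
theorem Q422 : ∀ i, i < 422 → P i := stepQ 421 Q421 (allL N421 (tt N685 D1164) (tt N241 (iv D585)) (tt N486 (iv F1299)) (tt N683 (iv F1971)) (tt N673 (iv F1945)) (tt N686 D1165) (tt N662 (iv F1922)))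
theorem Q423 : ∀ i, i < 423 → P i := stepQ 422 Q422 (allL N422 (tt N347 F1094) (tt N687 D1166) (tt N242 F1095) (tt N684 (iv F1974)) (tt N674 (iv F1948)) (tt N241 (iv D586)) (tt N248 F1096))
theorem Q424 : ∀ i, i < 424 → P i := stepQ 423 Q423 (allL N423 (tt N245 F1100) (tt N423 F16488) (tt N432 (iv F1119)) (tt N244 (iv D589)) (tt N688 D1173) (tt N583 (iv F1700)) (tt N432 (iv F15740)))
theorem Q425 : ∀ i, i < 425 → P i := stepQ 424 Q424 (allL N424 (tt N688 (iv F1983)) (tt N666 (iv F1931)) (tt N584 F15756) (tt N677 (iv F1956)) (tt N245 (iv D591)) (tt N689 D1177) (tt N584 (iv F1705)))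
theorem Q426 : ∀ i, i < 426 → P i := stepQ 425 Q425 (allL N425 (tt N583 (iv F1699)) (tt N690 D1178) (tt N585 F15734) (tt N246 F1101) (tt N689 (iv F1987)) (tt N245 (iv D592)) (tt N691 D1179))
theorem Q427 : ∀ i, i < 427 → P i := stepQ 426 Q426 (allL N426 (tt N692 D1180) (tt N246 (iv D593)) (tt N484 (iv F1290)) (tt N690 (iv F1988)) (tt N679 (iv F1958)) (tt N668 (iv F1933)) (tt N693 D1181))
theorem Q428 : ∀ i, i < 428 → P i := stepQ 427 Q427 (allL N427 (tt N350 F1102) (tt N694 D1182) (tt N247 F1103) (tt N691 (iv F1990)) (tt N680 (iv F1961)) (tt N250 F15733) (tt N246 (iv D594)))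
theorem Q429 : ∀ i, i < 429 → P i := stepQ 428 Q428 (allL N428 (tt N428 F14823) (tt N248 (iv D595)) (tt N428 F1105) (tt N695 D1184) (tt N696 D1185) (tt N428 F14824) (tt N697 D1186))
theorem Q430 : ∀ i, i < 430 → P i := stepQ 429 Q429 (allL N429 (tt N346 F1106) (tt N695 (iv F1996)) (tt N418 F1107) (tt N248 (iv D596)) (tt N698 D1187) (tt N418 F1108) (tt N684 (iv F1975)))
theorem Q431 : ∀ i, i < 431 → P i := stepQ 430 Q430 (allL N430 (tt N340 F1109) (tt N696 (iv F1997)) (tt N249 F1110) (tt N699 D1188) (tt N248 (iv D597)) (tt N409 F1111) (tt N674 (iv F1949)))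
theorem Q432 : ∀ i, i < 432 → P i := stepQ 431 Q431 (allL N431 (tt N431 F16690) (tt N250 (iv D600)) (tt N431 F1117) (tt N700 D1192) (tt N701 D1193) (tt N702 D1194) (tt N431 F16691))
theorem Q433 : ∀ i, i < 433 → P i := stepQ 432 Q432 (allL N432 (tt N349 F15738) (tt N700 (iv F2011)) (tt N423 F1119) (tt N250 (iv D601)) (tt N703 D1196) (tt N691 F15739) (tt N423 F15740))
theorem Q434 : ∀ i, i < 434 → P i := stepQ 433 Q433 (allL N433 (tt N343 F15741) (tt N701 (iv F2012)) (tt N251 F1120) (tt N704 D1198) (tt N250 (iv D602)) (tt N680 (iv F15746)) (tt N414 F15742))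
theorem Q435 : ∀ i, i < 435 → P i := stepQ 434 Q434 (allL N434 (tt N705 D1209) (tt N252 (iv D610)) (tt N434 F1135) (tt N706 D1210) (tt N263 F1136) (tt N707 D1211) (tt N708 D1212))
theorem Q436 : ∀ i, i < 436 → P i := stepQ 435 Q435 (allL N435 (tt N625 (iv F1840)) (tt N706 (iv F2045)) (tt N435 F1137) (tt N252 (iv D611)) (tt N625 (iv F1842)) (tt N709 D1213) (tt N710 D1214))
theorem Q437 : ∀ i, i < 437 → P i := stepQ 436 Q436 (allL N436 (tt N626 (iv F1843)) (tt N711 D1215) (tt N253 F1138) (tt N709 (iv F2051)) (tt N264 F1139) (tt N252 (iv D612)) (tt N712 D1216))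
theorem Q438 : ∀ i, i < 438 → P i := stepQ 437 Q437 (allL N437 (tt N627 (iv F1846)) (tt N713 D1217) (tt N254 F1140) (tt N710 (iv F2053)) (tt N265 F1141) (tt N714 D1218) (tt N252 (iv D613)))
theorem Q439 : ∀ i, i < 439 → P i := stepQ 438 Q438 (allL N438 (tt N438 F14843) (tt N253 (iv D614)) (tt N715 D1220) (tt N255 F1142) (tt N266 F1143) (tt N438 F1144) (tt N716 D1221))
theorem Q440 : ∀ i, i < 440 → P i := stepQ 439 Q439 (allL N439 (tt N441 (iv F1151)) (tt N717 D1222) (tt N712 (iv F2055)) (tt N256 F1145) (tt N267 F1146) (tt N380 F1147) (tt N253 (iv D615)))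
theorem Q441 : ∀ i, i < 441 → P i := stepQ 440 Q440 (allL N440 (tt N440 F16739) (tt N254 (iv D616)) (tt N718 D1224) (tt N257 F1148) (tt N268 F1149) (tt N719 D1225) (tt N440 F1150))
theorem Q442 : ∀ i, i < 442 → P i := stepQ 441 Q441 (allL N441 (tt N439 F1151) (tt N720 D1226) (tt N714 (iv F2060)) (tt N258 F1152) (tt N269 F1153) (tt N254 (iv D617)) (tt N379 F1154))
theorem Q443 : ∀ i, i < 443 → P i := stepQ 442 Q442 (allL N442 (tt N442 F14740) (tt N631 (iv F1854)) (tt N255 (iv D619)) (tt N716 (iv F17183)) (tt N259 F1157) (tt N442 F1158) (tt N255 F17081))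
theorem Q444 : ∀ i, i < 444 → P i := stepQ 443 Q443 (allL N443 (tt N721 D1233) (tt N256 (iv D621)) (tt N632 F16824) (tt N717 (iv F2070)) (tt N260 F1160) (tt N632 F16825) (tt N631 (iv F16963)))
theorem Q445 : ∀ i, i < 445 → P i := stepQ 444 Q444 (allL N444 (tt N444 F16553) (tt N634 (iv F1858)) (tt N257 (iv D623)) (tt N719 (iv F16640)) (tt N261 F1163) (tt N257 (iv F16638)) (tt N444 F1164))
theorem Q446 : ∀ i, i < 446 → P i := stepQ 445 Q445 (allL N445 (tt N722 D1242) (tt N258 (iv D625)) (tt N635 (iv F16641)) (tt N720 (iv F2079)) (tt N262 F1166) (tt N634 F16556) (tt N635 (iv F16643)))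
theorem Q447 : ∀ i, i < 447 → P i := stepQ 446 Q446 (allL N446 (tt N260 (iv D632)) (tt N723 D1259) (tt N636 F16822) (tt N275 F1177) (tt N721 (iv F2093)) (tt N636 F16823) (tt N363 (iv F16831)))
theorem Q448 : ∀ i, i < 448 → P i := stepQ 447 Q447 (allL N447 (tt N262 (iv D641)) (tt N724 D1279) (tt N637 (iv F16568)) (tt N278 F1190) (tt N722 (iv F2109)) (tt N365 F16533) (tt N637 F16534))
theorem Q449 : ∀ i, i < 449 → P i := stepQ 448 Q448 (allL N448 (tt N263 (iv D644)) (tt N725 D1285) (tt N448 F1194) (tt N638 (iv F1881)) (tt N705 (iv F2044)) (tt N726 D1286) (tt N727 D1287))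
theorem Q450 : ∀ i, i < 450 → P i := stepQ 449 Q449 (allL N449 (tt N726 (iv F2167)) (tt N728 D1288) (tt N449 F1195) (tt N639 (iv F1882)) (tt N707 (iv F2047)) (tt N263 (iv D645)) (tt N729 D1289))
theorem Q451 : ∀ i, i < 451 → P i := stepQ 450 Q450 (allL N450 (tt N727 (iv F2169)) (tt N730 D1290) (tt N450 F1196) (tt N640 (iv F1883)) (tt N708 (iv F2049)) (tt N731 D1291) (tt N263 (iv D646)))
theorem Q452 : ∀ i, i < 452 → P i := stepQ 451 Q451 (allL N451 (tt N732 D1292) (tt N264 (iv D647)) (tt N733 D1293) (tt N641 (iv F1884)) (tt N711 (iv F2054)) (tt N728 (iv F2171)) (tt N734 D1294))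
theorem Q453 : ∀ i, i < 453 → P i := stepQ 452 Q452 (allL N452 (tt N454 (iv F1199)) (tt N735 D1295) (tt N267 F1197) (tt N454 (iv F1201)) (tt N712 (iv F2056)) (tt N391 F1198) (tt N264 (iv D648)))
theorem Q454 : ∀ i, i < 454 → P i := stepQ 453 Q453 (allL N453 (tt N736 D1296) (tt N265 (iv D649)) (tt N737 D1297) (tt N642 (iv F1885)) (tt N713 (iv F2058)) (tt N738 D1298) (tt N730 (iv F2174)))
theorem Q455 : ∀ i, i < 455 → P i := stepQ 454 Q454 (allL N454 (tt N452 F1199) (tt N739 D1299) (tt N269 F1200) (tt N452 F1201) (tt N714 (iv F2061)) (tt N265 (iv D650)) (tt N390 F1202))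
theorem Q456 : ∀ i, i < 456 → P i := stepQ 455 Q455 (allL N455 (tt N455 F15071) (tt N733 (iv F2178)) (tt N266 (iv D652)) (tt N740 D1303) (tt N715 (iv F2066)) (tt N455 F1205) (tt N741 D1304))
theorem Q457 : ∀ i, i < 457 → P i := stepQ 456 Q456 (allL N456 (tt N456 F15072) (tt N742 D1305) (tt N741 (iv F2188)) (tt N270 F1206) (tt N716 (iv F2069)) (tt N456 F15073) (tt N266 (iv D653)))
theorem Q458 : ∀ i, i < 458 → P i := stepQ 457 Q457 (allL N457 (tt N743 D1306) (tt N267 (iv D654)) (tt N744 D1307) (tt N271 F1207) (tt N717 (iv F2071)) (tt N645 F16869) (tt N742 (iv F2190)))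
theorem Q459 : ∀ i, i < 459 → P i := stepQ 458 Q458 (allL N458 (tt N458 F16791) (tt N737 (iv F2179)) (tt N268 (iv D656)) (tt N745 D1312) (tt N718 (iv F2075)) (tt N746 D1313) (tt N458 F1210))
theorem Q460 : ∀ i, i < 460 → P i := stepQ 459 Q459 (allL N459 (tt N459 F16576) (tt N747 D1314) (tt N746 (iv F2201)) (tt N272 F1211) (tt N719 (iv F2078)) (tt N268 (iv D657)) (tt N459 F16577))
theorem Q461 : ∀ i, i < 461 → P i := stepQ 460 Q460 (allL N460 (tt N748 D1315) (tt N269 (iv D658)) (tt N749 D1316) (tt N273 F1212) (tt N720 (iv F2080)) (tt N747 (iv F2203)) (tt N648 (iv F16645)))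
theorem Q462 : ∀ i, i < 462 → P i := stepQ 461 Q461 (allL N461 (tt N370 (iv F16875)) (tt N270 (iv D661)) (tt N750 D1324) (tt N742 (iv F2189)) (tt N274 F1218) (tt N394 (iv F16874)) (tt N271 F1219))
theorem Q463 : ∀ i, i < 463 → P i := stepQ 462 Q462 (allL N462 (tt N271 (iv D662)) (tt N751 D1326) (tt N752 D1327) (tt N743 (iv F2191)) (tt N275 F1220) (tt N650 F16870) (tt N370 (iv F16876)))
theorem Q464 : ∀ i, i < 464 → P i := stepQ 463 Q463 (allL N463 (tt N752 (iv F2221)) (tt N281 F1221) (tt N271 (iv D663)) (tt N753 D1329) (tt N276 F1222) (tt N652 F16871) (tt N750 (iv F2218)))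
theorem Q465 : ∀ i, i < 465 → P i := stepQ 464 Q464 (allL N464 (tt N372 (iv F16523)) (tt N272 (iv D667)) (tt N754 D1338) (tt N747 (iv F2202)) (tt N277 F1230) (tt N273 F1231) (tt N397 F16478))
theorem Q466 : ∀ i, i < 466 → P i := stepQ 465 Q465 (allL N465 (tt N273 (iv D668)) (tt N755 D1340) (tt N756 D1341) (tt N748 (iv F2204)) (tt N278 F1232) (tt N372 F16535) (tt N654 F16536))
theorem Q467 : ∀ i, i < 467 → P i := stepQ 466 Q466 (allL N466 (tt N756 (iv F2246)) (tt N284 F1233) (tt N273 (iv D669)) (tt N757 D1343) (tt N279 F1234) (tt N754 (iv F2243)) (tt N656 F16531))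
theorem Q468 : ∀ i, i < 468 → P i := stepQ 467 Q467 (allL N467 (tt N374 (iv F16879)) (tt N467 F1240) (tt N274 (iv D677)) (tt N758 D1360) (tt N750 (iv F2217)) (tt N400 (iv F16877)) (tt N276 F1241))
theorem Q469 : ∀ i, i < 469 → P i := stepQ 468 Q468 (allL N468 (tt N759 D1362) (tt N275 (iv D679)) (tt N760 D1363) (tt N723 (iv F2131)) (tt N751 (iv F2220)) (tt N759 F16657) (tt N375 F16658))
theorem Q470 : ∀ i, i < 470 → P i := stepQ 469 Q469 (allL N469 (tt N276 F1242) (tt N761 D1366) (tt N275 (iv D680)) (tt N762 D1367) (tt N752 (iv F2222)) (tt N659 F16860) (tt N374 (iv F16880)))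
theorem Q471 : ∀ i, i < 471 → P i := stepQ 470 Q470 (allL N470 (tt N762 (iv F2274)) (tt N286 (iv F32551)) (tt N687 F32516) (tt N276 (iv D682)) (tt N763 D1371) (tt N661 F16872) (tt N758 (iv F2272)))
theorem Q472 : ∀ i, i < 472 → P i := stepQ 471 Q471 (allL N471 (tt N376 (iv F16479)) (tt N471 F1252) (tt N277 (iv D691)) (tt N764 D1390) (tt N754 (iv F2242)) (tt N279 F1253) (tt N404 F16458))
theorem Q473 : ∀ i, i < 473 → P i := stepQ 472 Q472 (allL N472 (tt N765 D1392) (tt N278 (iv D693)) (tt N766 D1393) (tt N724 (iv F2157)) (tt N755 (iv F2245)) (tt N377 (iv F16593)) (tt N765 F14803))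
theorem Q474 : ∀ i, i < 474 → P i := stepQ 473 Q473 (allL N473 (tt N279 F1254) (tt N767 D1396) (tt N278 (iv D694)) (tt N768 D1397) (tt N756 (iv F2247)) (tt N376 (iv F16480)) (tt N665 F16470))
theorem Q475 : ∀ i, i < 475 → P i := stepQ 474 Q474 (allL N474 (tt N768 (iv F2304)) (tt N289 F32810) (tt N694 (iv F32812)) (tt N279 (iv D696)) (tt N769 D1401) (tt N764 (iv F2301)) (tt N667 F16465))
theorem Q476 : ∀ i, i < 476 → P i := stepQ 475 Q475 (allL N475 (tt N281 F1261) (tt N763 F32517) (tt N280 (iv D699)) (tt N770 D1407) (tt N286 F1262) (tt N771 D1408) (tt N475 F1263))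
theorem Q477 : ∀ i, i < 477 → P i := stepQ 476 Q476 (allL N476 (tt N282 F1264) (tt N480 (iv F1275)) (tt N771 (iv F2320)) (tt N476 F1265) (tt N287 F1266) (tt N280 (iv D700)) (tt N282 F1267))
theorem Q478 : ∀ i, i < 478 → P i := stepQ 477 Q477 (allL N477 (tt N770 (iv F2317)) (tt N753 (iv F2226)) (tt N772 D1409) (tt N281 (iv D701)) (tt N770 F32522) (tt N773 D1411) (tt N477 F1268))
theorem Q479 : ∀ i, i < 479 → P i := stepQ 478 Q478 (allL N478 (tt N771 (iv F2319)) (tt N774 D1412) (tt N282 F1269) (tt N773 (iv F2326)) (tt N288 F1270) (tt N281 (iv D702)) (tt N771 (iv F2322)))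
theorem Q480 : ∀ i, i < 480 → P i := stepQ 479 Q479 (allL N479 (tt N284 F1271) (tt N769 (iv F32770)) (tt N283 (iv D703)) (tt N775 D1414) (tt N289 F1272) (tt N479 F1273) (tt N776 D1415))
theorem Q481 : ∀ i, i < 481 → P i := stepQ 480 Q480 (allL N480 (tt N285 F1274) (tt N476 F1275) (tt N776 (iv F2333)) (tt N480 F1276) (tt N290 F1277) (tt N285 F1278) (tt N283 (iv D704)))
theorem Q482 : ∀ i, i < 482 → P i := stepQ 481 Q481 (allL N481 (tt N775 (iv F2330)) (tt N757 (iv F2251)) (tt N777 D1416) (tt N284 (iv D705)) (tt N775 F32827) (tt N481 F1279) (tt N778 D1418))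
theorem Q483 : ∀ i, i < 483 → P i := stepQ 482 Q482 (allL N482 (tt N776 (iv F2332)) (tt N779 D1419) (tt N285 F1280) (tt N778 (iv F2339)) (tt N291 F1281) (tt N776 (iv F2335)) (tt N284 (iv D706)))
theorem Q484 : ∀ i, i < 484 → P i := stepQ 483 Q483 (allL N483 (tt N288 F1284) (tt N780 D1426) (tt N287 F1285) (tt N288 (iv F32694)) (tt N771 (iv F2321)) (tt N286 (iv D709)) (tt N288 F1286))
theorem Q485 : ∀ i, i < 485 → P i := stepQ 484 Q484 (allL N484 (tt N781 D1432) (tt N288 (iv D713)) (tt N426 F1290) (tt N780 F32672) (tt N774 (iv F2328)) (tt N662 F16693) (tt N782 D1433))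
theorem Q486 : ∀ i, i < 486 → P i := stepQ 485 Q485 (allL N485 (tt N291 F1293) (tt N783 D1440) (tt N290 F1294) (tt N291 (iv F32756)) (tt N776 (iv F2334)) (tt N291 F1295) (tt N289 (iv D716)))
theorem Q487 : ∀ i, i < 487 → P i := stepQ 486 Q486 (allL N486 (tt N784 D1446) (tt N291 (iv D720)) (tt N421 F1299) (tt N783 F32699) (tt N779 (iv F2341)) (tt N785 D1447) (tt N668 F16584))
theorem Q488 : ∀ i, i < 488 → P i := stepQ 487 Q487 (allL N487 (tt N487 F1325) (tt N292 (iv D724)) (tt N488 (iv F1343)) (tt N487 F32860) (tt N487 F1309) (tt N488 (iv F1345)) (tt N488 F15771))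
theorem Q489 : ∀ i, i < 489 → P i := stepQ 488 Q488 (allL N488 (tt N488 F1342) (tt N293 (iv D740)) (tt N487 F1343) (tt N488 F32902) (tt N488 F1344) (tt N487 F1345) (tt N487 (iv F15771)))
theorem Q490 : ∀ i, i < 490 → P i := stepQ 489 Q489 (allL N489 (tt N489 F15597) (tt N489 F15602) (tt N294 (iv D783)) (tt N786 D1566) (tt N787 D1567) (tt N489 F15494) (tt N489 F17202))
theorem Q491 : ∀ i, i < 491 → P i := stepQ 490 Q490 (allL N490 (tt N490 F15598) (tt N296 F1425) (tt N787 (iv F2589)) (tt N788 D1570) (tt N294 (iv D784)) (tt N490 F15495) (tt N490 F17203))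
theorem Q492 : ∀ i, i < 492 → P i := stepQ 491 Q491 (allL N491 (tt N491 F15593) (tt N299 F1428) (tt N789 D1577) (tt N295 (iv D787)) (tt N788 (iv F2593)) (tt N491 F15491) (tt N491 F17205))
theorem Q493 : ∀ i, i < 493 → P i := stepQ 492 Q492 (allL N492 (tt N318 F1440) (tt N788 (iv F2592)) (tt N790 D1592) (tt N296 (iv D794)) (tt N299 F1441) (tt N791 D1593) (tt N792 D1594))
theorem Q494 : ∀ i, i < 494 → P i := stepQ 493 Q493 (allL N493 (tt N319 F1442) (tt N493 F15369) (tt N493 F15457) (tt N791 (iv F2627)) (tt N297 F1443) (tt N296 (iv D795)) (tt N534 (iv F1632)))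
theorem Q495 : ∀ i, i < 495 → P i := stepQ 494 Q494 (allL N494 (tt N320 F1444) (tt N494 F17168) (tt N494 F15562) (tt N792 (iv F2630)) (tt N298 F1445) (tt N532 (iv F1628)) (tt N296 (iv D796)))
theorem Q496 : ∀ i, i < 496 → P i := stepQ 495 Q495 (allL N495 (tt N325 F1448) (tt N793 D1603) (tt N299 (iv D799)) (tt N325 F1449) (tt N790 (iv F2625)) (tt N794 D1604) (tt N795 D1605))
theorem Q497 : ∀ i, i < 497 → P i := stepQ 496 Q496 (allL N496 (tt N326 F1450) (tt N496 F15368) (tt N794 (iv F2640)) (tt N300 F1451) (tt N791 (iv F2628)) (tt N299 (iv D800)) (tt N549 (iv F1647)))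
theorem Q498 : ∀ i, i < 498 → P i := stepQ 497 Q497 (allL N497 (tt N327 F1452) (tt N497 F17167) (tt N795 (iv F2643)) (tt N301 F1453) (tt N792 (iv F2631)) (tt N547 (iv F1643)) (tt N299 (iv D801)))
theorem Q499 : ∀ i, i < 499 → P i := stepQ 498 Q498 (allL N498 (tt N308 F1559) (tt N498 F15407) (tt N308 F1560) (tt N796 D1757) (tt N304 (iv D872)) (tt N797 D1758) (tt N798 D1759))
theorem Q500 : ∀ i, i < 500 → P i := stepQ 499 Q499 (allL N499 (tt N309 F1561) (tt N799 D1760) (tt N309 F1562) (tt N306 F1563) (tt N797 (iv F2860)) (tt N304 (iv D873)) (tt N512 (iv F1587)))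
theorem Q501 : ∀ i, i < 501 → P i := stepQ 500 Q500 (allL N500 (tt N310 F1564) (tt N800 D1761) (tt N310 F1565) (tt N307 F1566) (tt N798 (iv F2863)) (tt N510 (iv F1581)) (tt N304 (iv D874)))
theorem Q502 : ∀ i, i < 502 → P i := stepQ 501 Q501 (allL N501 (tt N311 F1567) (tt N501 F15402) (tt N801 D1762) (tt N305 (iv D875)) (tt N796 (iv F2857)) (tt N802 D1763) (tt N803 D1764))
theorem Q503 : ∀ i, i < 503 → P i := stepQ 502 Q502 (allL N502 (tt N312 F1568) (tt N804 D1765) (tt N358 F1569) (tt N802 (iv F2868)) (tt N306 F1570) (tt N305 (iv D876)) (tt N519 (iv F1600)))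
theorem Q504 : ∀ i, i < 504 → P i := stepQ 503 Q503 (allL N503 (tt N313 F1571) (tt N805 D1766) (tt N359 F1572) (tt N803 (iv F2870)) (tt N307 F1573) (tt N517 (iv F1594)) (tt N305 (iv D877)))
theorem Q505 : ∀ i, i < 505 → P i := stepQ 504 Q504 (allL N504 (tt N504 F15064) (tt N306 (iv D878)) (tt N504 F14978) (tt N799 (iv F2864)) (tt N804 (iv F2871)) (tt N504 F15107) (tt N558 (iv F17051)))
theorem Q506 : ∀ i, i < 506 → P i := stepQ 505 Q505 (allL N505 (tt N505 F16784) (tt N307 (iv D879)) (tt N505 F16785) (tt N800 (iv F2865)) (tt N805 (iv F2872)) (tt N566 (iv F16898)) (tt N505 F15358))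
theorem Q507 : ∀ i, i < 507 → P i := stepQ 506 Q506 (allL N506 (tt N796 (iv F2856)) (tt N318 F1574) (tt N806 D1773) (tt N308 (iv D880)) (tt N311 F1575) (tt N807 D1774) (tt N808 D1775))
theorem Q508 : ∀ i, i < 508 → P i := stepQ 507 Q507 (allL N507 (tt N797 (iv F2858)) (tt N809 D1776) (tt N797 (iv F2859)) (tt N807 (iv F2879)) (tt N309 F1576) (tt N308 (iv D881)) (tt N810 D1777))
theorem Q509 : ∀ i, i < 509 → P i := stepQ 508 Q508 (allL N508 (tt N798 (iv F2861)) (tt N811 D1778) (tt N798 (iv F2862)) (tt N808 (iv F2881)) (tt N310 F1577) (tt N812 D1779) (tt N308 (iv D882)))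
theorem Q510 : ∀ i, i < 510 → P i := stepQ 509 Q509 (allL N509 (tt N536 (iv F14814)) (tt N309 (iv D883)) (tt N535 (iv F14816)) (tt N314 F1578) (tt N809 (iv F2883)) (tt N321 F1579) (tt N813 D1782))
theorem Q511 : ∀ i, i < 511 → P i := stepQ 510 Q510 (allL N510 (tt N512 (iv F1584)) (tt N814 D1783) (tt N512 (iv F1585)) (tt N315 F1580) (tt N810 (iv F2885)) (tt N500 F1581) (tt N309 (iv D884)))
theorem Q512 : ∀ i, i < 512 → P i := stepQ 511 Q511 (allL N511 (tt N540 (iv F16673)) (tt N310 (iv D885)) (tt N539 (iv F16675)) (tt N316 F1582) (tt N811 (iv F2887)) (tt N815 D1786) (tt N323 F1583))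
theorem Q513 : ∀ i, i < 513 → P i := stepQ 512 Q512 (allL N512 (tt N510 F1584) (tt N816 D1787) (tt N510 F1585) (tt N317 F1586) (tt N812 (iv F2891)) (tt N310 (iv D886)) (tt N499 F1587))
theorem Q514 : ∀ i, i < 514 → P i := stepQ 513 Q513 (allL N513 (tt N801 (iv F2866)) (tt N817 D1788) (tt N311 (iv D887)) (tt N818 D1789) (tt N806 (iv F2878)) (tt N819 D1790) (tt N820 D1791))
theorem Q515 : ∀ i, i < 515 → P i := stepQ 514 Q514 (allL N514 (tt N802 (iv F2867)) (tt N821 D1792) (tt N819 (iv F2904)) (tt N312 F1588) (tt N807 (iv F2880)) (tt N311 (iv D888)) (tt N822 D1793))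
theorem Q516 : ∀ i, i < 516 → P i := stepQ 515 Q515 (allL N515 (tt N803 (iv F2869)) (tt N823 D1794) (tt N820 (iv F2905)) (tt N313 F1589) (tt N808 (iv F2882)) (tt N824 D1795) (tt N311 (iv D889)))
theorem Q517 : ∀ i, i < 517 → P i := stepQ 516 Q516 (allL N516 (tt N825 D1796) (tt N312 (iv D890)) (tt N826 D1797) (tt N821 (iv F2906)) (tt N314 F1590) (tt N328 F1591) (tt N827 D1798))
theorem Q518 : ∀ i, i < 518 → P i := stepQ 517 Q517 (allL N517 (tt N519 (iv F1597)) (tt N828 D1799) (tt N371 F1592) (tt N822 (iv F2908)) (tt N315 F1593) (tt N503 F1594) (tt N312 (iv D891)))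
theorem Q519 : ∀ i, i < 519 → P i := stepQ 518 Q518 (allL N518 (tt N829 D1800) (tt N313 (iv D892)) (tt N830 D1801) (tt N823 (iv F2910)) (tt N316 F1595) (tt N831 D1802) (tt N330 F1596))
theorem Q520 : ∀ i, i < 520 → P i := stepQ 519 Q519 (allL N519 (tt N517 F1597) (tt N832 D1803) (tt N373 F1598) (tt N824 (iv F2913)) (tt N317 F1599) (tt N313 (iv D893)) (tt N502 F1600))
theorem Q521 : ∀ i, i < 521 → P i := stepQ 520 Q520 (allL N520 (tt N314 (iv D894)) (tt N520 F14829) (tt N833 D1805) (tt N536 (iv F14815)) (tt N825 (iv F2915)) (tt N332 F1601) (tt N563 (iv F1665)))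
theorem Q522 : ∀ i, i < 522 → P i := stepQ 521 Q521 (allL N521 (tt N833 (iv F2929)) (tt N374 F1602) (tt N314 (iv D895)) (tt N834 D1806) (tt N826 (iv F2918)) (tt N333 F1603) (tt N835 D1807))
theorem Q523 : ∀ i, i < 523 → P i := stepQ 522 Q522 (allL N522 (tt N563 (iv F1664)) (tt N526 F16817) (tt N835 (iv F2933)) (tt N813 (iv F2896)) (tt N827 (iv F2920)) (tt N527 F16818) (tt N314 (iv D896)))
theorem Q524 : ∀ i, i < 524 → P i := stepQ 523 Q523 (allL N523 (tt N338 F16819) (tt N315 (iv D897)) (tt N836 D1810) (tt N814 (iv F2897)) (tt N828 (iv F2921)) (tt N336 F16820) (tt N526 F16821))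
theorem Q525 : ∀ i, i < 525 → P i := stepQ 524 Q524 (allL N524 (tt N316 (iv D898)) (tt N524 F16672) (tt N837 D1813) (tt N540 (iv F16674)) (tt N829 (iv F2922)) (tt N571 (iv F1675)) (tt N336 F1604))
theorem Q526 : ∀ i, i < 526 → P i := stepQ 525 Q525 (allL N525 (tt N837 (iv F2937)) (tt N376 F1605) (tt N316 (iv D899)) (tt N838 D1814) (tt N830 (iv F2925)) (tt N839 D1815) (tt N337 F1606))
theorem Q527 : ∀ i, i < 527 → P i := stepQ 526 Q526 (allL N526 (tt N571 (iv F1674)) (tt N522 (iv F16817)) (tt N839 (iv F2941)) (tt N815 (iv F2901)) (tt N831 (iv F2927)) (tt N316 (iv D900)) (tt N523 (iv F16821)))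
theorem Q528 : ∀ i, i < 528 → P i := stepQ 527 Q527 (allL N527 (tt N334 (iv F16918)) (tt N317 (iv D901)) (tt N840 D1818) (tt N816 (iv F2902)) (tt N832 (iv F2928)) (tt N522 (iv F16818)) (tt N332 (iv F16919)))
theorem Q529 : ∀ i, i < 529 → P i := stepQ 528 Q528 (allL N528 (tt N790 (iv F2624)) (tt N841 D1842) (tt N318 (iv D911)) (tt N842 D1843) (tt N325 F1621) (tt N843 D1844) (tt N844 D1845))
theorem Q530 : ∀ i, i < 530 → P i := stepQ 529 Q529 (allL N529 (tt N791 (iv F2626)) (tt N845 D1846) (tt N843 (iv F2981)) (tt N319 F1622) (tt N326 F1623) (tt N318 (iv D912)) (tt N846 D1847))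
theorem Q531 : ∀ i, i < 531 → P i := stepQ 530 Q530 (allL N530 (tt N792 (iv F2629)) (tt N847 D1848) (tt N844 (iv F2983)) (tt N320 F1624) (tt N327 F1625) (tt N848 D1849) (tt N318 (iv D913)))
theorem Q532 : ∀ i, i < 532 → P i := stepQ 531 Q531 (allL N531 (tt N849 D1850) (tt N319 (iv D914)) (tt N850 D1851) (tt N845 (iv F2985)) (tt N321 F1626) (tt N809 (iv F2884)) (tt N851 D1852))
theorem Q533 : ∀ i, i < 533 → P i := stepQ 532 Q532 (allL N532 (tt N534 (iv F1630)) (tt N852 D1853) (tt N532 F15460) (tt N846 (iv F2987)) (tt N322 F1627) (tt N494 F1628) (tt N319 (iv D915)))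
theorem Q534 : ∀ i, i < 534 → P i := stepQ 533 Q533 (allL N533 (tt N853 D1854) (tt N320 (iv D916)) (tt N854 D1855) (tt N847 (iv F2990)) (tt N323 F1629) (tt N855 D1856) (tt N811 (iv F2888)))
theorem Q535 : ∀ i, i < 535 → P i := stepQ 534 Q534 (allL N534 (tt N532 F1630) (tt N856 D1857) (tt N534 F15464) (tt N848 (iv F2993)) (tt N324 F1631) (tt N320 (iv D917)) (tt N493 F1632))
theorem Q536 : ∀ i, i < 536 → P i := stepQ 535 Q535 (allL N535 (tt N321 (iv D918)) (tt N857 D1858) (tt N509 F14816) (tt N332 F1633) (tt N849 (iv F2996)) (tt N536 F14817) (tt N816 F17048))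
theorem Q537 : ∀ i, i < 537 → P i := stepQ 536 Q536 (allL N536 (tt N509 F14814) (tt N536 F14916) (tt N321 (iv D919)) (tt N520 F14815) (tt N850 (iv F2997)) (tt N535 (iv F14817)) (tt N858 D1862))
theorem Q538 : ∀ i, i < 538 → P i := stepQ 537 Q537 (allL N537 (tt N816 F17047) (tt N859 D1863) (tt N858 (iv F3009)) (tt N334 F1634) (tt N851 (iv F2998)) (tt N858 F14921) (tt N321 (iv D920)))
theorem Q539 : ∀ i, i < 539 → P i := stepQ 538 Q538 (allL N538 (tt N860 D1865) (tt N322 (iv D921)) (tt N861 D1866) (tt N335 F1635) (tt N852 (iv F2999)) (tt N538 F16930) (tt N859 (iv F3011)))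
theorem Q540 : ∀ i, i < 540 → P i := stepQ 539 Q539 (allL N539 (tt N323 (iv D922)) (tt N862 D1868) (tt N511 F16675) (tt N336 F1636) (tt N853 (iv F3000)) (tt N814 (iv F16959)) (tt N540 F16676))
theorem Q541 : ∀ i, i < 541 → P i := stepQ 540 Q540 (allL N540 (tt N511 F16673) (tt N540 F15603) (tt N323 (iv D923)) (tt N524 F16674) (tt N854 (iv F3001)) (tt N863 D1872) (tt N539 (iv F16676)))
theorem Q542 : ∀ i, i < 542 → P i := stepQ 541 Q541 (allL N541 (tt N814 (iv F16958)) (tt N864 D1873) (tt N863 (iv F3023)) (tt N338 F1637) (tt N855 (iv F3002)) (tt N323 (iv D924)) (tt N863 F16780))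
theorem Q543 : ∀ i, i < 543 → P i := stepQ 542 Q542 (allL N542 (tt N865 D1875) (tt N324 (iv D925)) (tt N866 D1876) (tt N339 F1638) (tt N856 (iv F3003)) (tt N864 (iv F3025)) (tt N542 F15059))
theorem Q544 : ∀ i, i < 544 → P i := stepQ 543 Q543 (allL N543 (tt N867 D1878) (tt N325 (iv D926)) (tt N817 (iv F2903)) (tt N793 (iv F2638)) (tt N841 (iv F2980)) (tt N868 D1879) (tt N869 D1880))
theorem Q545 : ∀ i, i < 545 → P i := stepQ 544 Q544 (allL N544 (tt N794 (iv F2639)) (tt N870 D1881) (tt N326 F1639) (tt N794 (iv F2641)) (tt N843 (iv F2982)) (tt N325 (iv D927)) (tt N871 D1882))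
theorem Q546 : ∀ i, i < 546 → P i := stepQ 545 Q545 (allL N545 (tt N795 (iv F2642)) (tt N872 D1883) (tt N327 F1640) (tt N795 (iv F2644)) (tt N844 (iv F2984)) (tt N873 D1884) (tt N325 (iv D928)))
theorem Q547 : ∀ i, i < 547 → P i := stepQ 546 Q546 (allL N546 (tt N874 D1885) (tt N326 (iv D929)) (tt N875 D1886) (tt N328 F1641) (tt N845 (iv F2986)) (tt N821 (iv F2907)) (tt N876 D1887))
theorem Q548 : ∀ i, i < 548 → P i := stepQ 547 Q547 (allL N547 (tt N549 (iv F1645)) (tt N877 D1888) (tt N871 (iv F3032)) (tt N329 F1642) (tt N846 (iv F2988)) (tt N497 F1643) (tt N326 (iv D930)))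
theorem Q549 : ∀ i, i < 549 → P i := stepQ 548 Q548 (allL N548 (tt N878 D1889) (tt N327 (iv D931)) (tt N879 D1890) (tt N330 F1644) (tt N847 (iv F2991)) (tt N880 D1891) (tt N823 (iv F2911)))
theorem Q550 : ∀ i, i < 550 → P i := stepQ 549 Q549 (allL N549 (tt N547 F1645) (tt N881 D1892) (tt N873 (iv F3035)) (tt N331 F1646) (tt N848 (iv F2994)) (tt N327 (iv D932)) (tt N496 F1647))
theorem Q551 : ∀ i, i < 551 → P i := stepQ 550 Q550 (allL N550 (tt N328 (iv D933)) (tt N882 D1893) (tt N883 D1894) (tt N874 (iv F3038)) (tt N332 F1648) (tt N825 (iv F2916)) (tt N832 F17050))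
theorem Q552 : ∀ i, i < 552 → P i := stepQ 551 Q551 (allL N551 (tt N883 (iv F3045)) (tt N340 F1649) (tt N328 (iv D934)) (tt N884 D1896) (tt N333 F1650) (tt N826 (iv F2919)) (tt N885 D1897))
theorem Q553 : ∀ i, i < 553 → P i := stepQ 552 Q552 (allL N552 (tt N832 F17049) (tt N886 D1898) (tt N885 (iv F3051)) (tt N876 (iv F3039)) (tt N334 F1651) (tt N887 D1899) (tt N328 (iv D935)))
theorem Q554 : ∀ i, i < 554 → P i := stepQ 553 Q553 (allL N553 (tt N888 D1900) (tt N329 (iv D936)) (tt N889 D1901) (tt N877 (iv F3040)) (tt N335 F1652) (tt N553 F16927) (tt N886 (iv F3054)))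
theorem Q555 : ∀ i, i < 555 → P i := stepQ 554 Q554 (allL N554 (tt N330 (iv D937)) (tt N890 D1903) (tt N891 D1904) (tt N878 (iv F3041)) (tt N336 F1653) (tt N828 (iv F16946)) (tt N829 (iv F2923)))
theorem Q556 : ∀ i, i < 556 → P i := stepQ 555 Q555 (allL N555 (tt N891 (iv F3064)) (tt N343 F1654) (tt N330 (iv D938)) (tt N892 D1906) (tt N337 F1655) (tt N893 D1907) (tt N830 (iv F2926)))
theorem Q557 : ∀ i, i < 557 → P i := stepQ 556 Q556 (allL N556 (tt N828 (iv F16945)) (tt N894 D1908) (tt N893 (iv F3070)) (tt N880 (iv F3042)) (tt N338 F1656) (tt N330 (iv D939)) (tt N895 D1909))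
theorem Q558 : ∀ i, i < 558 → P i := stepQ 557 Q557 (allL N557 (tt N896 D1910) (tt N331 (iv D940)) (tt N897 D1911) (tt N881 (iv F3043)) (tt N339 F1657) (tt N894 (iv F3073)) (tt N557 F15056))
theorem Q559 : ∀ i, i < 559 → P i := stepQ 558 Q558 (allL N558 (tt N558 F15070) (tt N332 (iv D941)) (tt N558 F15061) (tt N857 (iv F3004)) (tt N882 (iv F3044)) (tt N558 F15062) (tt N504 F17051))
theorem Q560 : ∀ i, i < 560 → P i := stepQ 559 Q559 (allL N559 (tt N333 F1658) (tt N559 F14826) (tt N332 (iv D942)) (tt N898 D1918) (tt N883 (iv F3046)) (tt N833 (iv F2930)) (tt N840 F16977))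
theorem Q561 : ∀ i, i < 561 → P i := stepQ 560 Q560 (allL N560 (tt N898 (iv F3082)) (tt N346 F1661) (tt N834 F14704) (tt N333 (iv D944)) (tt N899 D1922) (tt N834 (iv F2932)) (tt N900 D1923))
theorem Q562 : ∀ i, i < 562 → P i := stepQ 561 Q561 (allL N561 (tt N840 F16976) (tt N901 D1924) (tt N334 F1662) (tt N900 (iv F3088)) (tt N885 (iv F3052)) (tt N902 D1925) (tt N333 (iv D945)))
theorem Q563 : ∀ i, i < 563 → P i := stepQ 562 Q562 (allL N562 (tt N903 D1926) (tt N334 (iv D946)) (tt N904 D1927) (tt N859 (iv F3010)) (tt N886 (iv F3053)) (tt N903 F16931) (tt N335 F1663))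
theorem Q564 : ∀ i, i < 564 → P i := stepQ 563 Q563 (allL N563 (tt N522 F1664) (tt N572 (iv F17069)) (tt N902 (iv F3091)) (tt N858 (iv F14919)) (tt N887 (iv F3056)) (tt N334 (iv D947)) (tt N520 F1665))
theorem Q565 : ∀ i, i < 565 → P i := stepQ 564 Q564 (allL N564 (tt N335 (iv D948)) (tt N571 (iv F15436)) (tt N905 D1931) (tt N860 (iv F3015)) (tt N888 (iv F3058)) (tt N564 F16902) (tt N903 (iv F3093)))
theorem Q566 : ∀ i, i < 566 → P i := stepQ 565 Q565 (allL N565 (tt N905 (iv F3095)) (tt N348 F1666) (tt N335 (iv D949)) (tt N906 D1933) (tt N889 (iv F3060)) (tt N565 F16689) (tt N904 (iv F3094)))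
theorem Q567 : ∀ i, i < 567 → P i := stepQ 566 Q566 (allL N566 (tt N566 F16896) (tt N336 (iv D951)) (tt N566 F16897) (tt N862 (iv F3018)) (tt N890 (iv F3063)) (tt N505 F16898) (tt N566 F16899))
theorem Q568 : ∀ i, i < 568 → P i := stepQ 567 Q567 (allL N567 (tt N337 F1668) (tt N567 F16670) (tt N336 (iv D952)) (tt N907 D1941) (tt N891 (iv F3065)) (tt N836 (iv F16703)) (tt N837 (iv F2938)))
theorem Q569 : ∀ i, i < 569 → P i := stepQ 568 Q568 (allL N568 (tt N907 (iv F3103)) (tt N349 F1671) (tt N838 F16474) (tt N337 (iv D954)) (tt N908 D1945) (tt N909 D1946) (tt N838 (iv F2940)))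
theorem Q570 : ∀ i, i < 570 → P i := stepQ 569 Q569 (allL N569 (tt N836 (iv F16702)) (tt N910 D1947) (tt N338 F1672) (tt N909 (iv F3108)) (tt N893 (iv F3071)) (tt N337 (iv D955)) (tt N911 D1948))
theorem Q571 : ∀ i, i < 571 → P i := stepQ 570 Q570 (allL N570 (tt N912 D1949) (tt N338 (iv D956)) (tt N913 D1950) (tt N864 (iv F3024)) (tt N894 (iv F3072)) (tt N339 F1673) (tt N912 (iv F15189)))
theorem Q572 : ∀ i, i < 572 → P i := stepQ 571 Q571 (allL N571 (tt N526 F1674) (tt N564 F15436) (tt N911 (iv F3111)) (tt N863 (iv F16779)) (tt N895 (iv F3075)) (tt N524 F1675) (tt N338 (iv D957)))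
theorem Q573 : ∀ i, i < 573 → P i := stepQ 572 Q572 (allL N572 (tt N339 (iv D958)) (tt N563 F17069) (tt N914 D1954) (tt N865 (iv F3029)) (tt N896 (iv F3077)) (tt N912 (iv F3113)) (tt N572 F15057))
theorem Q574 : ∀ i, i < 574 → P i := stepQ 573 Q573 (allL N573 (tt N914 (iv F3115)) (tt N351 F1676) (tt N339 (iv D959)) (tt N915 D1956) (tt N897 (iv F3079)) (tt N913 (iv F3114)) (tt N573 F14825))
theorem Q575 : ∀ i, i < 575 → P i := stepQ 574 Q574 (allL N574 (tt N699 (iv F2004)) (tt N884 (iv F3050)) (tt N916 D1959) (tt N340 (iv D961)) (tt N917 D1960) (tt N410 F1678) (tt N918 D1961))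
theorem Q576 : ∀ i, i < 576 → P i := stepQ 575 Q575 (allL N575 (tt N674 (iv F1946)) (tt N919 D1962) (tt N341 F1679) (tt N918 (iv F3126)) (tt N347 F1680) (tt N579 (iv F1693)) (tt N340 (iv D962)))
theorem Q577 : ∀ i, i < 577 → P i := stepQ 576 Q576 (allL N576 (tt N416 F1681) (tt N889 (iv F3059)) (tt N342 (iv D963)) (tt N920 D1963) (tt N348 F1682) (tt N414 F1683) (tt N578 (iv F1690)))
theorem Q578 : ∀ i, i < 578 → P i := stepQ 577 Q577 (allL N577 (tt N704 (iv F15754)) (tt N892 (iv F3069)) (tt N921 D1966) (tt N343 (iv D965)) (tt N922 D1967) (tt N923 D1968) (tt N415 F1687))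
theorem Q579 : ∀ i, i < 579 → P i := stepQ 578 Q578 (allL N578 (tt N680 (iv F1959)) (tt N924 D1969) (tt N344 F1688) (tt N923 (iv F3137)) (tt N350 F1689) (tt N343 (iv D966)) (tt N576 F1690))
theorem Q580 : ∀ i, i < 580 → P i := stepQ 579 Q579 (allL N579 (tt N411 F1691) (tt N897 (iv F3078)) (tt N345 (iv D967)) (tt N925 D1970) (tt N351 F1692) (tt N575 F1693) (tt N409 F1694))
theorem Q581 : ∀ i, i < 581 → P i := stepQ 580 Q580 (allL N580 (tt N698 (iv F2001)) (tt N899 (iv F3087)) (tt N419 F1695) (tt N917 (iv F3124)) (tt N346 (iv D968)) (tt N419 F1696) (tt N926 D1971))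
theorem Q582 : ∀ i, i < 582 → P i := stepQ 581 Q581 (allL N581 (tt N684 (iv F1972)) (tt N927 D1972) (tt N420 F1697) (tt N347 F1698) (tt N926 (iv F3145)) (tt N587 (iv F1710)) (tt N346 (iv D969)))
theorem Q583 : ∀ i, i < 583 → P i := stepQ 582 Q582 (allL N582 (tt N928 D1973) (tt N347 (iv D970)) (tt N586 (iv F1708)) (tt N927 (iv F3146)) (tt N919 (iv F3127)) (tt N929 D1974) (tt N901 (iv F3089)))
theorem Q584 : ∀ i, i < 584 → P i := stepQ 583 Q583 (allL N583 (tt N425 F1699) (tt N906 (iv F3098)) (tt N691 (iv F15735)) (tt N348 (iv D971)) (tt N930 D1975) (tt N423 F1700) (tt N585 (iv F1707)))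
theorem Q585 : ∀ i, i < 585 → P i := stepQ 584 Q584 (allL N584 (tt N703 (iv F15751)) (tt N908 (iv F3107)) (tt N424 (iv F15756)) (tt N922 (iv F3135)) (tt N349 (iv D975)) (tt N931 D1984) (tt N424 F1705))
theorem Q586 : ∀ i, i < 586 → P i := stepQ 585 Q585 (allL N585 (tt N691 (iv F1989)) (tt N932 D1985) (tt N425 (iv F15734)) (tt N350 F1706) (tt N931 (iv F3164)) (tt N349 (iv D976)) (tt N583 F1707))
theorem Q587 : ∀ i, i < 587 → P i := stepQ 586 Q586 (allL N586 (tt N933 D1986) (tt N350 (iv D977)) (tt N582 F1708) (tt N932 (iv F3166)) (tt N924 (iv F3140)) (tt N910 (iv F3109)) (tt N934 D1987))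
theorem Q588 : ∀ i, i < 588 → P i := stepQ 587 Q587 (allL N587 (tt N420 F1709) (tt N915 (iv F3118)) (tt N684 (iv F1973)) (tt N351 (iv D978)) (tt N935 D1988) (tt N581 F1710) (tt N418 F1711))
theorem Q589 : ∀ i, i < 589 → P i := stepQ 588 Q588 (allL N588 (tt N588 F1738) (tt N588 F1739) (tt N352 (iv D990)) (tt N936 D2010) (tt N937 D2011) (tt N588 F15161) (tt N588 F17027))
theorem Q590 : ∀ i, i < 590 → P i := stepQ 589 Q589 (allL N589 (tt N589 F1740) (tt N354 F1741) (tt N937 (iv F3209)) (tt N938 D2014) (tt N352 (iv D991)) (tt N589 F15159) (tt N589 F17026))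
theorem Q591 : ∀ i, i < 591 → P i := stepQ 590 Q590 (allL N590 (tt N590 F1746) (tt N357 F1747) (tt N939 D2020) (tt N353 (iv D994)) (tt N938 (iv F3216)) (tt N590 F15241) (tt N590 F17046))
theorem Q592 : ∀ i, i < 592 → P i := stepQ 591 Q591 (allL N591 (tt N360 F1756) (tt N938 (iv F3215)) (tt N940 D2033) (tt N354 (iv D1000)) (tt N357 F1757) (tt N941 D2034) (tt N942 D2035))
theorem Q593 : ∀ i, i < 593 → P i := stepQ 592 Q592 (allL N592 (tt N361 F1758) (tt N592 F14913) (tt N592 F1759) (tt N941 (iv F3247)) (tt N355 F1760) (tt N354 (iv D1001)) (tt N603 (iv F1788)))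
theorem Q594 : ∀ i, i < 594 → P i := stepQ 593 Q593 (allL N593 (tt N362 F1761) (tt N593 F16764) (tt N593 F1762) (tt N942 (iv F3250)) (tt N356 F1763) (tt N601 (iv F1782)) (tt N354 (iv D1002)))
theorem Q595 : ∀ i, i < 595 → P i := stepQ 594 Q594 (allL N594 (tt N367 F1766) (tt N943 D2044) (tt N357 (iv D1005)) (tt N944 D2045) (tt N940 (iv F3245)) (tt N945 D2046) (tt N946 D2047))
theorem Q596 : ∀ i, i < 596 → P i := stepQ 595 Q595 (allL N595 (tt N368 F1767) (tt N595 F14973) (tt N945 (iv F3263)) (tt N358 F1768) (tt N941 (iv F3248)) (tt N357 (iv D1006)) (tt N613 (iv F1812)))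
theorem Q597 : ∀ i, i < 597 → P i := stepQ 596 Q596 (allL N596 (tt N369 F1769) (tt N596 F16786) (tt N946 (iv F3265)) (tt N359 F1770) (tt N942 (iv F3251)) (tt N611 (iv F1807)) (tt N357 (iv D1007)))
theorem Q598 : ∀ i, i < 598 → P i := stepQ 597 Q597 (allL N597 (tt N940 (iv F3244)) (tt N947 D2068) (tt N360 (iv D1016)) (tt N948 D2069) (tt N367 F1773) (tt N949 D2070) (tt N950 D2071))
theorem Q599 : ∀ i, i < 599 → P i := stepQ 598 Q598 (allL N598 (tt N941 (iv F3246)) (tt N951 D2072) (tt N949 (iv F3288)) (tt N361 F1774) (tt N368 F1775) (tt N360 (iv D1017)) (tt N952 D2073))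
theorem Q600 : ∀ i, i < 600 → P i := stepQ 599 Q599 (allL N599 (tt N942 (iv F3249)) (tt N953 D2074) (tt N950 (iv F3290)) (tt N362 F1776) (tt N369 F1777) (tt N954 D2075) (tt N360 (iv D1018)))
theorem Q601 : ∀ i, i < 601 → P i := stepQ 600 Q600 (allL N600 (tt N631 (iv F14723)) (tt N361 (iv D1019)) (tt N630 F14722) (tt N951 (iv F3292)) (tt N363 F1778) (tt N381 F1779) (tt N721 F16966))
theorem Q602 : ∀ i, i < 602 → P i := stepQ 601 Q601 (allL N601 (tt N603 (iv F1785)) (tt N955 D2079) (tt N601 F1780) (tt N952 (iv F3295)) (tt N364 F1781) (tt N593 F1782) (tt N361 (iv D1020)))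
theorem Q603 : ∀ i, i < 603 → P i := stepQ 602 Q602 (allL N602 (tt N634 (iv F16511)) (tt N362 (iv D1021)) (tt N633 F16510) (tt N953 (iv F3298)) (tt N365 F1783) (tt N722 F16573) (tt N382 F1784))
theorem Q604 : ∀ i, i < 604 → P i := stepQ 603 Q603 (allL N603 (tt N601 F1785) (tt N956 D2083) (tt N603 F1786) (tt N954 (iv F3302)) (tt N366 F1787) (tt N362 (iv D1022)) (tt N592 F1788))
theorem Q605 : ∀ i, i < 605 → P i := stepQ 604 Q604 (allL N604 (tt N957 D2089) (tt N364 (iv D1026)) (tt N958 D2090) (tt N375 F1794) (tt N955 (iv F3311)) (tt N604 F16648) (tt N723 (iv F16754)))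
theorem Q606 : ∀ i, i < 606 → P i := stepQ 605 Q605 (allL N605 (tt N959 D2097) (tt N366 (iv D1030)) (tt N960 D2098) (tt N377 F1800) (tt N956 (iv F3318)) (tt N724 F16709) (tt N605 F15028))
theorem Q607 : ∀ i, i < 607 → P i := stepQ 606 Q606 (allL N606 (tt N961 D2100) (tt N367 (iv D1031)) (tt N389 F1801) (tt N962 D2101) (tt N947 (iv F3287)) (tt N963 D2102) (tt N964 D2103))
theorem Q608 : ∀ i, i < 608 → P i := stepQ 607 Q607 (allL N607 (tt N944 (iv F3260)) (tt N962 (iv F3344)) (tt N965 D2104) (tt N367 (iv D1032)) (tt N966 D2105) (tt N967 D2106) (tt N968 D2107))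
theorem Q609 : ∀ i, i < 609 → P i := stepQ 608 Q608 (allL N608 (tt N945 (iv F3262)) (tt N969 D2108) (tt N368 F1802) (tt N967 (iv F3349)) (tt N949 (iv F3289)) (tt N367 (iv D1033)) (tt N970 D2109))
theorem Q610 : ∀ i, i < 610 → P i := stepQ 609 Q609 (allL N609 (tt N946 (iv F3264)) (tt N971 D2110) (tt N369 F1803) (tt N968 (iv F3350)) (tt N950 (iv F3291)) (tt N972 D2111) (tt N367 (iv D1034)))
theorem Q611 : ∀ i, i < 611 → P i := stepQ 610 Q610 (allL N610 (tt N742 F17010) (tt N368 (iv D1035)) (tt N973 D2113) (tt N370 F1804) (tt N951 (iv F3293)) (tt N392 F1805) (tt N743 F17011))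
theorem Q612 : ∀ i, i < 612 → P i := stepQ 611 Q611 (allL N611 (tt N613 (iv F1810)) (tt N974 D2115) (tt N970 (iv F3351)) (tt N371 F1806) (tt N952 (iv F3296)) (tt N596 F1807) (tt N368 (iv D1036)))
theorem Q613 : ∀ i, i < 613 → P i := stepQ 612 Q612 (allL N612 (tt N747 F16574) (tt N369 (iv D1037)) (tt N975 D2117) (tt N372 F1808) (tt N953 (iv F3299)) (tt N748 (iv F16591)) (tt N393 F1809))
theorem Q614 : ∀ i, i < 614 → P i := stepQ 613 Q613 (allL N613 (tt N611 F1810) (tt N976 D2119) (tt N972 (iv F3354)) (tt N373 F1811) (tt N954 (iv F3303)) (tt N369 (iv D1038)) (tt N595 F1812))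
theorem Q615 : ∀ i, i < 615 → P i := stepQ 614 Q614 (allL N614 (tt N750 F17013) (tt N826 (iv F2917)) (tt N370 (iv D1040)) (tt N977 D2122) (tt N374 F1815) (tt N395 F1816) (tt N752 F17014))
theorem Q616 : ∀ i, i < 616 → P i := stepQ 615 Q615 (allL N615 (tt N978 D2125) (tt N371 (iv D1042)) (tt N979 D2126) (tt N974 (iv F3360)) (tt N375 F1818) (tt N615 F16653) (tt N751 (iv F16760)))
theorem Q617 : ∀ i, i < 617 → P i := stepQ 616 Q616 (allL N616 (tt N754 F16528) (tt N830 (iv F2924)) (tt N372 (iv D1044)) (tt N980 D2130) (tt N376 F1821) (tt N756 F16529) (tt N398 F1822))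
theorem Q618 : ∀ i, i < 618 → P i := stepQ 617 Q617 (allL N617 (tt N981 D2133) (tt N373 (iv D1046)) (tt N982 D2134) (tt N976 (iv F3365)) (tt N377 F1824) (tt N755 F16710) (tt N617 F15101))
theorem Q619 : ∀ i, i < 619 → P i := stepQ 618 Q618 (allL N618 (tt N758 (iv F17006)) (tt N834 (iv F2931)) (tt N402 F14684) (tt N374 (iv D1049)) (tt N983 D2140) (tt N402 F1829) (tt N762 F17001))
theorem Q620 : ∀ i, i < 620 → P i := stepQ 619 Q619 (allL N619 (tt N375 (iv D1052)) (tt N405 (iv F15024)) (tt N906 (iv F32846)) (tt N957 (iv F3327)) (tt N978 (iv F3377)) (tt N619 F16509) (tt N759 (iv F16565)))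
theorem Q621 : ∀ i, i < 621 → P i := stepQ 620 Q620 (allL N620 (tt N906 (iv F32845)) (tt N836 (iv F2935)) (tt N375 (iv D1053)) (tt N905 (iv F32848)) (tt N979 (iv F3378)) (tt N620 F16656) (tt N760 (iv F16738)))
theorem Q622 : ∀ i, i < 622 → P i := stepQ 621 Q621 (allL N621 (tt N764 F16463) (tt N838 (iv F2939)) (tt N406 F16447) (tt N376 (iv D1057)) (tt N984 D2158) (tt N768 (iv F16466)) (tt N406 F1835))
theorem Q623 : ∀ i, i < 623 → P i := stepQ 622 Q622 (allL N622 (tt N377 (iv D1060)) (tt N401 F16713) (tt N915 (iv F32642)) (tt N959 (iv F3339)) (tt N981 (iv F3390)) (tt N765 F16714) (tt N622 F15021))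
theorem Q624 : ∀ i, i < 624 → P i := stepQ 623 Q623 (allL N623 (tt N915 F32715) (tt N840 (iv F2943)) (tt N377 (iv D1061)) (tt N914 F32716) (tt N982 (iv F3391)) (tt N766 F16715) (tt N623 F15110))
theorem Q625 : ∀ i, i < 625 → P i := stepQ 624 Q624 (allL N624 (tt N985 D2169) (tt N378 (iv D1063)) (tt N947 (iv F3286)) (tt N986 D2170) (tt N389 F1839) (tt N987 D2171) (tt N988 D2172))
theorem Q626 : ∀ i, i < 626 → P i := stepQ 625 Q625 (allL N625 (tt N435 F1840) (tt N986 (iv F3441)) (tt N625 F1841) (tt N378 (iv D1064)) (tt N435 F1842) (tt N989 D2173) (tt N990 D2174))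
theorem Q627 : ∀ i, i < 627 → P i := stepQ 626 Q626 (allL N626 (tt N436 F1843) (tt N991 D2175) (tt N379 F1844) (tt N989 (iv F3447)) (tt N390 F1845) (tt N378 (iv D1065)) (tt N714 (iv F2062)))
theorem Q628 : ∀ i, i < 628 → P i := stepQ 627 Q627 (allL N627 (tt N437 F1846) (tt N992 D2176) (tt N380 F1847) (tt N990 (iv F3451)) (tt N391 F1848) (tt N712 (iv F2057)) (tt N378 (iv D1066)))
theorem Q629 : ∀ i, i < 629 → P i := stepQ 628 Q628 (allL N628 (tt N993 D2177) (tt N379 (iv D1067)) (tt N994 D2178) (tt N381 F1849) (tt N392 F1850) (tt N951 (iv F3294)) (tt N995 D2179))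
theorem Q630 : ∀ i, i < 630 → P i := stepQ 629 Q629 (allL N629 (tt N996 D2180) (tt N380 (iv D1068)) (tt N997 D2181) (tt N382 F1851) (tt N393 F1852) (tt N998 D2182) (tt N953 (iv F3300)))
theorem Q631 : ∀ i, i < 631 → P i := stepQ 630 Q630 (allL N630 (tt N381 (iv D1069)) (tt N630 F14719) (tt N600 (iv F14722)) (tt N993 (iv F3455)) (tt N383 F1853) (tt N631 (iv F14724)) (tt N999 D2185))
theorem Q632 : ∀ i, i < 632 → P i := stepQ 631 Q631 (allL N631 (tt N600 F14723) (tt N442 F1854) (tt N381 (iv D1070)) (tt N1000 D2186) (tt N384 F1855) (tt N630 F14724) (tt N443 F16963))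
theorem Q633 : ∀ i, i < 633 → P i := stepQ 632 Q632 (allL N632 (tt N999 (iv F3468)) (tt N635 F16708) (tt N443 (iv F16824)) (tt N995 (iv F3458)) (tt N385 F1856) (tt N443 (iv F16825)) (tt N381 (iv D1071)))
theorem Q634 : ∀ i, i < 634 → P i := stepQ 633 Q633 (allL N633 (tt N382 (iv D1072)) (tt N633 F16507) (tt N602 (iv F16510)) (tt N996 (iv F3460)) (tt N386 F1857) (tt N1001 D2191) (tt N634 (iv F16512)))
theorem Q635 : ∀ i, i < 635 → P i := stepQ 634 Q634 (allL N634 (tt N602 F16511) (tt N444 F1858) (tt N382 (iv D1073)) (tt N1002 D2192) (tt N387 F1859) (tt N445 (iv F16556)) (tt N633 F16512))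
theorem Q636 : ∀ i, i < 636 → P i := stepQ 635 Q635 (allL N635 (tt N1001 (iv F3480)) (tt N632 (iv F16708)) (tt N445 F16641) (tt N998 (iv F3463)) (tt N388 F1860) (tt N382 (iv D1074)) (tt N445 F16643))
theorem Q637 : ∀ i, i < 637 → P i := stepQ 636 Q636 (allL N636 (tt N385 F1863) (tt N959 (iv F16829)) (tt N446 (iv F16822)) (tt N401 F1864) (tt N999 (iv F3469)) (tt N446 (iv F16823)) (tt N383 (iv D1077)))
theorem Q638 : ∀ i, i < 638 → P i := stepQ 637 Q637 (allL N637 (tt N388 F1873) (tt N957 F15126) (tt N447 F16568) (tt N405 F1874) (tt N1001 (iv F3481)) (tt N386 (iv D1083)) (tt N447 (iv F16534)))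
theorem Q639 : ∀ i, i < 639 → P i := stepQ 638 Q638 (allL N638 (tt N389 (iv D1087)) (tt N1003 D2223) (tt N961 (iv F3343)) (tt N448 F1881) (tt N985 (iv F3440)) (tt N1004 D2224) (tt N1005 D2225))
theorem Q640 : ∀ i, i < 640 → P i := stepQ 639 Q639 (allL N639 (tt N1004 (iv F3523)) (tt N1006 D2226) (tt N963 (iv F3345)) (tt N449 F1882) (tt N987 (iv F3443)) (tt N389 (iv D1088)) (tt N1007 D2227))
theorem Q641 : ∀ i, i < 641 → P i := stepQ 640 Q640 (allL N640 (tt N1005 (iv F3525)) (tt N1008 D2228) (tt N964 (iv F3346)) (tt N450 F1883) (tt N988 (iv F3444)) (tt N1009 D2229) (tt N389 (iv D1089)))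
theorem Q642 : ∀ i, i < 642 → P i := stepQ 641 Q641 (allL N641 (tt N1010 D2230) (tt N390 (iv D1090)) (tt N1011 D2231) (tt N451 F1884) (tt N991 (iv F3453)) (tt N1006 (iv F3528)) (tt N1012 D2232))
theorem Q643 : ∀ i, i < 643 → P i := stepQ 642 Q642 (allL N642 (tt N1013 D2233) (tt N391 (iv D1091)) (tt N1014 D2234) (tt N453 F1885) (tt N992 (iv F3454)) (tt N1015 D2235) (tt N1008 (iv F3532)))
theorem Q644 : ∀ i, i < 644 → P i := stepQ 643 Q643 (allL N643 (tt N392 (iv D1092)) (tt N643 F14720) (tt N1016 D2237) (tt N394 F1886) (tt N993 (iv F3456)) (tt N742 F17009) (tt N1017 D2238))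
theorem Q645 : ∀ i, i < 645 → P i := stepQ 644 Q644 (allL N644 (tt N1016 (iv F3543)) (tt N1011 (iv F3537)) (tt N392 (iv D1093)) (tt N1018 D2239) (tt N994 (iv F3457)) (tt N973 (iv F3358)) (tt N1019 D2240))
theorem Q646 : ∀ i, i < 646 → P i := stepQ 645 Q645 (allL N645 (tt N1017 (iv F3544)) (tt N648 F16746) (tt N1019 (iv F3547)) (tt N396 F1887) (tt N995 (iv F3459)) (tt N457 (iv F16869)) (tt N392 (iv D1094)))
theorem Q647 : ∀ i, i < 647 → P i := stepQ 646 Q646 (allL N646 (tt N393 (iv D1095)) (tt N646 F16508) (tt N1020 D2243) (tt N397 F1888) (tt N996 (iv F3461)) (tt N1021 D2244) (tt N747 (iv F16526)))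
theorem Q648 : ∀ i, i < 648 → P i := stepQ 647 Q647 (allL N647 (tt N1020 (iv F3552)) (tt N1014 (iv F3540)) (tt N393 (iv D1096)) (tt N1022 D2245) (tt N997 (iv F3462)) (tt N1023 D2246) (tt N975 (iv F3363)))
theorem Q649 : ∀ i, i < 649 → P i := stepQ 648 Q648 (allL N648 (tt N1021 (iv F3553)) (tt N645 (iv F16746)) (tt N1023 (iv F3556)) (tt N399 F1889) (tt N998 (iv F3464)) (tt N393 (iv D1097)) (tt N460 F16645))
theorem Q650 : ∀ i, i < 650 → P i := stepQ 649 Q649 (allL N649 (tt N395 F1891) (tt N1024 D2252) (tt N394 (iv D1099)) (tt N1025 D2253) (tt N400 F1892) (tt N750 F17012) (tt N1026 D2254))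
theorem Q651 : ∀ i, i < 651 → P i := stepQ 650 Q650 (allL N650 (tt N396 F1893) (tt N981 (iv F16834)) (tt N1026 (iv F3569)) (tt N1017 (iv F3545)) (tt N401 F1894) (tt N462 (iv F16870)) (tt N394 (iv D1100)))
theorem Q652 : ∀ i, i < 652 → P i := stepQ 651 Q651 (allL N651 (tt N1025 (iv F3567)) (tt N410 F1896) (tt N1027 D2256) (tt N395 (iv D1101)) (tt N1028 D2257) (tt N977 (iv F3372)) (tt N1029 D2258))
theorem Q653 : ∀ i, i < 653 → P i := stepQ 652 Q652 (allL N652 (tt N1026 (iv F3568)) (tt N1030 D2259) (tt N396 F1897) (tt N1029 (iv F3575)) (tt N403 F1898) (tt N463 (iv F16871)) (tt N395 (iv D1102)))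
theorem Q654 : ∀ i, i < 654 → P i := stepQ 653 Q653 (allL N653 (tt N398 F1903) (tt N1031 D2266) (tt N397 (iv D1105)) (tt N1032 D2267) (tt N404 F1904) (tt N1033 D2268) (tt N754 (iv F16481)))
theorem Q655 : ∀ i, i < 655 → P i := stepQ 654 Q654 (allL N654 (tt N399 F1905) (tt N978 F15144) (tt N1033 (iv F3591)) (tt N1021 (iv F3554)) (tt N405 F1906) (tt N397 (iv D1106)) (tt N465 (iv F16536)))
theorem Q656 : ∀ i, i < 656 → P i := stepQ 655 Q655 (allL N655 (tt N1032 (iv F3589)) (tt N415 F1908) (tt N1034 D2270) (tt N398 (iv D1107)) (tt N1035 D2271) (tt N1036 D2272) (tt N980 (iv F3385)))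
theorem Q657 : ∀ i, i < 657 → P i := stepQ 656 Q656 (allL N656 (tt N1033 (iv F3590)) (tt N1037 D2273) (tt N399 F1909) (tt N1036 (iv F3597)) (tt N407 F1910) (tt N398 (iv D1108)) (tt N466 (iv F16531)))
theorem Q658 : ∀ i, i < 658 → P i := stepQ 657 Q657 (allL N657 (tt N657 F14679) (tt N400 (iv D1114)) (tt N657 F14680) (tt N697 F32484) (tt N1024 (iv F3565)) (tt N657 F1915) (tt N695 (iv F32504)))
theorem Q659 : ∀ i, i < 659 → P i := stepQ 658 Q658 (allL N658 (tt N402 F1916) (tt N697 F32480) (tt N758 (iv F17007)) (tt N400 (iv D1115)) (tt N1038 D2289) (tt N758 F17016) (tt N687 (iv F32499)))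
theorem Q660 : ∀ i, i < 660 → P i := stepQ 659 Q659 (allL N659 (tt N403 F1917) (tt N684 (iv F32552)) (tt N401 F1918) (tt N687 F32518) (tt N1026 (iv F3570)) (tt N469 (iv F16860)) (tt N400 (iv D1116)))
theorem Q661 : ∀ i, i < 661 → P i := stepQ 660 Q660 (allL N660 (tt N1038 (iv F3624)) (tt N419 F1920) (tt N983 (iv F14694)) (tt N1028 (iv F3574)) (tt N402 (iv D1119)) (tt N983 (iv F3406)) (tt N1039 D2297))
theorem Q662 : ∀ i, i < 662 → P i := stepQ 661 Q661 (allL N661 (tt N687 F32512) (tt N1040 D2298) (tt N762 (iv F16980)) (tt N403 F1921) (tt N1039 (iv F3641)) (tt N470 (iv F16872)) (tt N402 (iv D1120)))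
theorem Q663 : ∀ i, i < 663 → P i := stepQ 662 Q662 (allL N662 (tt N1041 D2300) (tt N403 (iv D1121)) (tt N668 F16583) (tt N1040 (iv F3642)) (tt N1030 (iv F3576)) (tt N484 (iv F16693)) (tt N421 F1922))
theorem Q664 : ∀ i, i < 664 → P i := stepQ 663 Q663 (allL N663 (tt N663 F16442) (tt N404 (iv D1128)) (tt N663 F16443) (tt N702 (iv F32908)) (tt N1031 (iv F3588)) (tt N700 (iv F32929)) (tt N663 F15408))
theorem Q665 : ∀ i, i < 665 → P i := stepQ 664 Q664 (allL N664 (tt N406 F1927) (tt N702 (iv F32907)) (tt N764 F16467) (tt N404 (iv D1129)) (tt N1042 D2319) (tt N694 F32870) (tt N764 F16468))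
theorem Q666 : ∀ i, i < 666 → P i := stepQ 665 Q665 (allL N665 (tt N407 F1928) (tt N691 (iv F32843)) (tt N405 F1929) (tt N694 (iv F32813)) (tt N1033 (iv F3592)) (tt N404 (iv D1130)) (tt N473 (iv F16470)))
theorem Q667 : ∀ i, i < 667 → P i := stepQ 666 Q666 (allL N666 (tt N1042 (iv F3667)) (tt N424 F1931) (tt N984 (iv F16457)) (tt N1035 (iv F3596)) (tt N406 (iv D1133)) (tt N1043 D2328) (tt N984 (iv F3424)))
theorem Q668 : ∀ i, i < 668 → P i := stepQ 667 Q667 (allL N667 (tt N694 (iv F32811)) (tt N1044 D2329) (tt N768 F16469) (tt N407 F1932) (tt N1043 (iv F3678)) (tt N406 (iv D1134)) (tt N474 (iv F16465)))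
theorem Q669 : ∀ i, i < 669 → P i := stepQ 668 Q668 (allL N668 (tt N1045 D2331) (tt N407 (iv D1135)) (tt N662 (iv F16583)) (tt N1044 (iv F3679)) (tt N1037 (iv F3598)) (tt N426 F1933) (tt N486 (iv F16584)))
theorem Q670 : ∀ i, i < 670 → P i := stepQ 669 Q669 (allL N669 (tt N410 F1942) (tt N669 F14822) (tt N1046 D2342) (tt N409 (iv D1140)) (tt N1047 D2343) (tt N699 (iv F2005)) (tt N925 (iv F3143)))
theorem Q671 : ∀ i, i < 671 → P i := stepQ 670 Q670 (allL N670 (tt N1046 (iv F3697)) (tt N1048 D2344) (tt N410 (iv D1141)) (tt N1046 (iv F3698)) (tt N1049 D2345) (tt N916 (iv F3123)) (tt N1050 D2346))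
theorem Q672 : ∀ i, i < 672 → P i := stepQ 671 Q671 (allL N671 (tt N1047 (iv F3699)) (tt N1028 (iv F3573)) (tt N1049 (iv F3701)) (tt N419 F1943) (tt N410 (iv D1142)) (tt N917 (iv F3125)) (tt N1051 D2347))
theorem Q673 : ∀ i, i < 673 → P i := stepQ 672 Q672 (allL N672 (tt N925 (iv F3141)) (tt N1052 D2348) (tt N1050 (iv F3702)) (tt N411 F1944) (tt N1051 (iv F3704)) (tt N1053 D2349) (tt N410 (iv D1143)))
theorem Q674 : ∀ i, i < 674 → P i := stepQ 673 Q673 (allL N673 (tt N1054 D2350) (tt N411 (iv D1144)) (tt N779 (iv F2340)) (tt N1052 (iv F3705)) (tt N421 F1945) (tt N1055 D2351) (tt N1030 (iv F3577)))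
theorem Q675 : ∀ i, i < 675 → P i := stepQ 674 Q674 (allL N674 (tt N575 F1946) (tt N1056 D2352) (tt N412 F1947) (tt N1053 (iv F3707)) (tt N422 F1948) (tt N411 (iv D1145)) (tt N430 F1949))
theorem Q676 : ∀ i, i < 676 → P i := stepQ 675 Q675 (allL N675 (tt N415 F1955) (tt N675 F16688) (tt N1057 D2359) (tt N414 (iv D1148)) (tt N1058 D2360) (tt N920 (iv F3129)) (tt N704 (iv F15755)))
theorem Q677 : ∀ i, i < 677 → P i := stepQ 676 Q676 (allL N676 (tt N1057 (iv F3722)) (tt N1059 D2361) (tt N415 (iv D1149)) (tt N1057 (iv F3723)) (tt N1060 D2362) (tt N1061 D2363) (tt N921 (iv F3134)))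
theorem Q678 : ∀ i, i < 678 → P i := stepQ 677 Q677 (allL N677 (tt N1058 (iv F3724)) (tt N1035 (iv F3595)) (tt N1060 (iv F3726)) (tt N424 F1956) (tt N415 (iv D1150)) (tt N1062 D2364) (tt N922 (iv F3136)))
theorem Q679 : ∀ i, i < 679 → P i := stepQ 678 Q678 (allL N678 (tt N920 (iv F3128)) (tt N1063 D2365) (tt N1061 (iv F3727)) (tt N416 F1957) (tt N1062 (iv F3729)) (tt N415 (iv D1151)) (tt N1064 D2366))
theorem Q680 : ∀ i, i < 680 → P i := stepQ 679 Q679 (allL N679 (tt N1065 D2367) (tt N416 (iv D1152)) (tt N774 (iv F2327)) (tt N1063 (iv F3730)) (tt N426 F1958) (tt N1037 (iv F3599)) (tt N1066 D2368))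
theorem Q681 : ∀ i, i < 681 → P i := stepQ 680 Q680 (allL N680 (tt N578 F1959) (tt N1067 D2369) (tt N417 F1960) (tt N1064 (iv F3732)) (tt N427 F1961) (tt N433 F15746) (tt N416 (iv D1153)))
theorem Q682 : ∀ i, i < 682 → P i := stepQ 681 Q681 (allL N681 (tt N419 F1969) (tt N681 F14738) (tt N698 (iv F2002)) (tt N1047 (iv F3700)) (tt N418 (iv D1160)) (tt N698 (iv F2003)) (tt N935 (iv F3172)))
theorem Q683 : ∀ i, i < 683 → P i := stepQ 682 Q682 (allL N682 (tt N935 (iv F3170)) (tt N1068 D2385) (tt N926 (iv F3144)) (tt N1051 (iv F3703)) (tt N420 F1970) (tt N1069 D2386) (tt N419 (iv D1161)))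
theorem Q684 : ∀ i, i < 684 → P i := stepQ 683 Q683 (allL N683 (tt N1070 D2387) (tt N420 (iv D1162)) (tt N1071 D2388) (tt N421 F1971) (tt N1068 (iv F3757)) (tt N761 (iv F32611)) (tt N1040 (iv F3643)))
theorem Q685 : ∀ i, i < 685 → P i := stepQ 684 Q684 (allL N684 (tt N581 F1972) (tt N659 F32552) (tt N587 F1973) (tt N422 F1974) (tt N1069 (iv F3760)) (tt N420 (iv D1163)) (tt N429 F1975))
theorem Q686 : ∀ i, i < 686 → P i := stepQ 685 Q685 (allL N685 (tt N421 (iv D1164)) (tt N1072 D2391) (tt N784 (iv F2369)) (tt N1070 (iv F3762)) (tt N1054 (iv F3709)) (tt N782 F16816) (tt N1041 (iv F3647)))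
theorem Q687 : ∀ i, i < 687 → P i := stepQ 686 Q686 (allL N686 (tt N782 (iv F16807)) (tt N762 F32553) (tt N785 (iv F2370)) (tt N761 (iv F32610)) (tt N1055 (iv F3710)) (tt N421 (iv D1165)) (tt N781 (iv F16805)))
theorem Q688 : ∀ i, i < 688 → P i := stepQ 687 Q687 (allL N687 (tt N661 (iv F32512)) (tt N422 (iv D1166)) (tt N470 (iv F32516)) (tt N659 (iv F32518)) (tt N1056 (iv F3712)) (tt N762 (iv F32519)) (tt N658 F32499))
theorem Q689 : ∀ i, i < 689 → P i := stepQ 688 Q688 (allL N688 (tt N424 F1983) (tt N688 F16537) (tt N703 (iv F2017)) (tt N1058 (iv F3725)) (tt N423 (iv D1173)) (tt N930 (iv F3150)) (tt N703 (iv F15753)))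
theorem Q690 : ∀ i, i < 690 → P i := stepQ 689 Q689 (allL N689 (tt N930 (iv F3149)) (tt N1073 D2419) (tt N931 F15747) (tt N1062 (iv F3728)) (tt N425 F1987) (tt N424 (iv D1177)) (tt N1074 D2420))
theorem Q691 : ∀ i, i < 691 → P i := stepQ 690 Q690 (allL N690 (tt N1071 F17307) (tt N425 (iv D1178)) (tt N1070 F17308) (tt N426 F1988) (tt N1073 (iv F3797)) (tt N1044 (iv F3680)) (tt N767 F32725))
theorem Q692 : ∀ i, i < 692 → P i := stepQ 691 Q691 (allL N691 (tt N585 F1989) (tt N665 F32843) (tt N583 F15735) (tt N427 F1990) (tt N1074 (iv F3799)) (tt N432 (iv F15739)) (tt N425 (iv D1179)))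
theorem Q693 : ∀ i, i < 693 → P i := stepQ 692 Q692 (allL N692 (tt N426 (iv D1180)) (tt N1075 D2425) (tt N781 (iv F2354)) (tt N1071 F17309) (tt N1065 (iv F3734)) (tt N1045 (iv F3684)) (tt N785 F16692))
theorem Q694 : ∀ i, i < 694 → P i := stepQ 693 Q693 (allL N693 (tt N785 F16694) (tt N768 (iv F32758)) (tt N782 (iv F2355)) (tt N767 F32700) (tt N1066 (iv F3735)) (tt N784 (iv F16700)) (tt N426 (iv D1181)))
theorem Q695 : ∀ i, i < 695 → P i := stepQ 694 Q694 (allL N694 (tt N667 F32811) (tt N427 (iv D1182)) (tt N474 F32812) (tt N665 F32813) (tt N1067 (iv F3737)) (tt N664 (iv F32870)) (tt N768 F32814))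
theorem Q696 : ∀ i, i < 696 → P i := stepQ 695 Q695 (allL N695 (tt N695 F14766) (tt N429 F1996) (tt N695 F14764) (tt N428 (iv D1184)) (tt N1076 D2435) (tt N695 F14767) (tt N657 F32504))
theorem Q697 : ∀ i, i < 697 → P i := stepQ 696 Q696 (allL N696 (tt N696 F14936) (tt N430 F1997) (tt N696 F1998) (tt N1077 D2437) (tt N428 (iv D1185)) (tt N696 F14937) (tt N1078 D2438))
theorem Q698 : ∀ i, i < 698 → P i := stepQ 697 Q697 (allL N697 (tt N697 F14939) (tt N658 (iv F32480)) (tt N697 F1999) (tt N657 (iv F32484)) (tt N1078 (iv F3829)) (tt N697 F2000) (tt N428 (iv D1186)))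
theorem Q699 : ∀ i, i < 699 → P i := stepQ 698 Q698 (allL N698 (tt N580 F2001) (tt N1076 (iv F3824)) (tt N681 F2002) (tt N1079 D2439) (tt N429 (iv D1187)) (tt N681 F2003) (tt N1069 (iv F3761)))
theorem Q700 : ∀ i, i < 700 → P i := stepQ 699 Q699 (allL N699 (tt N574 F2004) (tt N1077 (iv F3827)) (tt N1080 D2440) (tt N430 (iv D1188)) (tt N1079 (iv F3832)) (tt N669 F2005) (tt N1053 (iv F3708)))
theorem Q701 : ∀ i, i < 701 → P i := stepQ 700 Q700 (allL N700 (tt N700 F16597) (tt N432 F2011) (tt N700 F16594) (tt N431 (iv D1192)) (tt N1081 D2452) (tt N663 F32929) (tt N700 F16598))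
theorem Q702 : ∀ i, i < 702 → P i := stepQ 701 Q701 (allL N701 (tt N701 F16795) (tt N433 F2012) (tt N701 F2013) (tt N1082 D2455) (tt N431 (iv D1193)) (tt N1083 D2456) (tt N701 F16796))
theorem Q703 : ∀ i, i < 703 → P i := stepQ 702 Q702 (allL N702 (tt N702 F16800) (tt N664 F32907) (tt N702 F2014) (tt N663 F32908) (tt N1083 (iv F3860)) (tt N431 (iv D1194)) (tt N702 F15826))
theorem Q704 : ∀ i, i < 704 → P i := stepQ 703 Q703 (allL N703 (tt N584 F15751) (tt N1081 (iv F3855)) (tt N688 F2017) (tt N1084 D2461) (tt N432 (iv D1196)) (tt N1074 F15752) (tt N688 F15753))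
theorem Q705 : ∀ i, i < 705 → P i := stepQ 704 Q704 (allL N704 (tt N577 F15754) (tt N1082 (iv F3858)) (tt N1085 D2464) (tt N433 (iv D1198)) (tt N1084 (iv F3870)) (tt N1064 (iv F15760)) (tt N675 F15755))
theorem Q706 : ∀ i, i < 706 → P i := stepQ 705 Q705 (allL N705 (tt N434 (iv D1209)) (tt N1086 D2481) (tt N705 F2043) (tt N1087 D2482) (tt N448 F2044) (tt N1088 D2483) (tt N1089 D2484))
theorem Q707 : ∀ i, i < 707 → P i := stepQ 706 Q706 (allL N706 (tt N1087 (iv F3900)) (tt N435 F2045) (tt N1090 D2485) (tt N434 (iv D1210)) (tt N986 (iv F3442)) (tt N1091 D2486) (tt N1092 D2487))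
theorem Q708 : ∀ i, i < 708 → P i := stepQ 707 Q707 (allL N707 (tt N1088 (iv F3901)) (tt N1093 D2488) (tt N707 F2046) (tt N1091 (iv F3908)) (tt N449 F2047) (tt N434 (iv D1211)) (tt N1094 D2489))
theorem Q709 : ∀ i, i < 709 → P i := stepQ 708 Q708 (allL N708 (tt N1089 (iv F3904)) (tt N1095 D2490) (tt N708 F2048) (tt N1092 (iv F3909)) (tt N450 F2049) (tt N1096 D2491) (tt N434 (iv D1212)))
theorem Q710 : ∀ i, i < 710 → P i := stepQ 709 Q709 (allL N709 (tt N989 (iv F3445)) (tt N1097 D2492) (tt N709 F2050) (tt N436 F2051) (tt N989 (iv F3448)) (tt N435 (iv D1213)) (tt N1098 D2493))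
theorem Q711 : ∀ i, i < 711 → P i := stepQ 710 Q710 (allL N710 (tt N990 (iv F3449)) (tt N1099 D2494) (tt N710 F2052) (tt N437 F2053) (tt N990 (iv F3452)) (tt N1100 D2495) (tt N435 (iv D1214)))
theorem Q712 : ∀ i, i < 712 → P i := stepQ 711 Q711 (allL N711 (tt N1101 D2496) (tt N436 (iv D1215)) (tt N1102 D2497) (tt N1097 (iv F3921)) (tt N451 F2054) (tt N1093 (iv F3911)) (tt N1103 D2498))
theorem Q713 : ∀ i, i < 713 → P i := stepQ 712 Q712 (allL N712 (tt N714 (iv F2059)) (tt N1104 D2499) (tt N439 F2055) (tt N1098 (iv F3923)) (tt N452 F2056) (tt N627 F2057) (tt N436 (iv D1216)))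
theorem Q714 : ∀ i, i < 714 → P i := stepQ 713 Q713 (allL N713 (tt N1105 D2500) (tt N437 (iv D1217)) (tt N1106 D2501) (tt N1099 (iv F3925)) (tt N453 F2058) (tt N1107 D2502) (tt N1095 (iv F3916)))
theorem Q715 : ∀ i, i < 715 → P i := stepQ 714 Q714 (allL N714 (tt N712 F2059) (tt N1108 D2503) (tt N441 F2060) (tt N1100 (iv F3928)) (tt N454 F2061) (tt N437 (iv D1218)) (tt N626 F2062))
theorem Q716 : ∀ i, i < 716 → P i := stepQ 715 Q715 (allL N715 (tt N715 F14952) (tt N1102 (iv F3932)) (tt N438 (iv D1220)) (tt N1109 D2507) (tt N455 F2066) (tt N715 F2067) (tt N1110 D2508))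
theorem Q717 : ∀ i, i < 717 → P i := stepQ 716 Q716 (allL N716 (tt N716 F14953) (tt N1000 F17182) (tt N1110 (iv F3951)) (tt N442 F17183) (tt N456 F2069) (tt N716 F14954) (tt N438 (iv D1221)))
theorem Q718 : ∀ i, i < 718 → P i := stepQ 717 Q717 (allL N717 (tt N1111 D2510) (tt N439 (iv D1222)) (tt N1112 D2511) (tt N443 F2070) (tt N457 F2071) (tt N995 F16962) (tt N1000 (iv F17080)))
theorem Q719 : ∀ i, i < 719 → P i := stepQ 718 Q718 (allL N718 (tt N718 F16863) (tt N1106 (iv F3937)) (tt N440 (iv D1224)) (tt N1113 D2516) (tt N458 F2075) (tt N1114 D2517) (tt N718 F2076))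
theorem Q720 : ∀ i, i < 720 → P i := stepQ 719 Q719 (allL N719 (tt N719 F16664) (tt N1002 F16639) (tt N1114 (iv F3972)) (tt N444 F16640) (tt N459 F2078) (tt N440 (iv D1225)) (tt N719 F16665))
theorem Q721 : ∀ i, i < 721 → P i := stepQ 720 Q720 (allL N720 (tt N1115 D2519) (tt N441 (iv D1226)) (tt N1116 D2520) (tt N445 F2079) (tt N460 F2080) (tt N1002 F16642) (tt N998 (iv F16741)))
theorem Q722 : ∀ i, i < 722 → P i := stepQ 721 Q721 (allL N721 (tt N443 (iv D1233)) (tt N1117 D2537) (tt N999 F16960) (tt N1111 (iv F3956)) (tt N446 F2093) (tt N999 F16961) (tt N600 (iv F16966)))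
theorem Q723 : ∀ i, i < 723 → P i := stepQ 722 Q722 (allL N722 (tt N445 (iv D1242)) (tt N1118 D2558) (tt N1001 (iv F16662)) (tt N1115 (iv F3977)) (tt N447 F2109) (tt N602 (iv F16573)) (tt N1001 F16569))
theorem Q724 : ∀ i, i < 724 → P i := stepQ 723 Q723 (allL N723 (tt N1119 D2593) (tt N446 (iv D1259)) (tt N1120 D2594) (tt N468 F2131) (tt N1117 (iv F4006)) (tt N1119 F16753) (tt N604 F16754))
theorem Q725 : ∀ i, i < 725 → P i := stepQ 724 Q724 (allL N724 (tt N1121 D2636) (tt N447 (iv D1279)) (tt N1122 D2637) (tt N472 F2157) (tt N1118 (iv F4040)) (tt N605 (iv F16709)) (tt N1121 F14875))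
theorem Q726 : ∀ i, i < 726 → P i := stepQ 725 Q725 (allL N725 (tt N1123 D2650) (tt N448 (iv D1285)) (tt N1124 D2651) (tt N1003 (iv F3522)) (tt N1086 (iv F3899)) (tt N1125 D2652) (tt N1126 D2653))
theorem Q727 : ∀ i, i < 727 → P i := stepQ 726 Q726 (allL N726 (tt N449 F2167) (tt N1127 D2654) (tt N726 F2168) (tt N1004 (iv F3524)) (tt N1088 (iv F3903)) (tt N448 (iv D1286)) (tt N731 (iv F2177)))
theorem Q728 : ∀ i, i < 728 → P i := stepQ 727 Q727 (allL N727 (tt N450 F2169) (tt N1128 D2655) (tt N727 F2170) (tt N1005 (iv F3526)) (tt N1089 (iv F3906)) (tt N729 (iv F2173)) (tt N448 (iv D1287)))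
theorem Q729 : ∀ i, i < 729 → P i := stepQ 728 Q728 (allL N728 (tt N1129 D2656) (tt N449 (iv D1288)) (tt N1130 D2657) (tt N1006 (iv F3527)) (tt N1093 (iv F3910)) (tt N451 F2171) (tt N1131 D2658))
theorem Q730 : ∀ i, i < 730 → P i := stepQ 729 Q729 (allL N729 (tt N731 (iv F2175)) (tt N1132 D2659) (tt N729 F2172) (tt N1007 (iv F3529)) (tt N1094 (iv F3913)) (tt N727 F2173) (tt N449 (iv D1289)))
theorem Q731 : ∀ i, i < 731 → P i := stepQ 730 Q730 (allL N730 (tt N1133 D2660) (tt N450 (iv D1290)) (tt N1134 D2661) (tt N1008 (iv F3531)) (tt N1095 (iv F3915)) (tt N1135 D2662) (tt N453 F2174))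
theorem Q732 : ∀ i, i < 732 → P i := stepQ 731 Q731 (allL N731 (tt N729 F2175) (tt N1136 D2663) (tt N731 F2176) (tt N1009 (iv F3534)) (tt N1096 (iv F3919)) (tt N450 (iv D1291)) (tt N726 F2177))
theorem Q733 : ∀ i, i < 733 → P i := stepQ 732 Q732 (allL N732 (tt N451 (iv D1292)) (tt N1137 D2664) (tt N1138 D2665) (tt N1010 (iv F3536)) (tt N1101 (iv F3931)) (tt N1129 (iv F4166)) (tt N1139 D2666))
theorem Q734 : ∀ i, i < 734 → P i := stepQ 733 Q733 (allL N733 (tt N1138 (iv F4172)) (tt N455 F2178) (tt N451 (iv D1293)) (tt N1140 D2667) (tt N1102 (iv F3933)) (tt N1130 (iv F4168)) (tt N1141 D2668))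
theorem Q735 : ∀ i, i < 735 → P i := stepQ 734 Q734 (allL N734 (tt N1139 (iv F4173)) (tt N1142 D2669) (tt N1141 (iv F4176)) (tt N1012 (iv F3538)) (tt N1103 (iv F3934)) (tt N1143 D2670) (tt N451 (iv D1294)))
theorem Q736 : ∀ i, i < 736 → P i := stepQ 735 Q735 (allL N735 (tt N1144 D2671) (tt N452 (iv D1295)) (tt N1145 D2672) (tt N739 (iv F2180)) (tt N1104 (iv F3935)) (tt N1146 D2673) (tt N1142 (iv F4177)))
theorem Q737 : ∀ i, i < 737 → P i := stepQ 736 Q736 (allL N736 (tt N453 (iv D1296)) (tt N1147 D2674) (tt N1148 D2675) (tt N1013 (iv F3539)) (tt N1105 (iv F3936)) (tt N1149 D2676) (tt N1133 (iv F4169)))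
theorem Q738 : ∀ i, i < 738 → P i := stepQ 737 Q737 (allL N737 (tt N1148 (iv F4182)) (tt N458 F2179) (tt N453 (iv D1297)) (tt N1150 D2677) (tt N1106 (iv F3938)) (tt N1151 D2678) (tt N1134 (iv F4171)))
theorem Q739 : ∀ i, i < 739 → P i := stepQ 738 Q738 (allL N738 (tt N1149 (iv F4183)) (tt N1152 D2679) (tt N1151 (iv F4186)) (tt N1015 (iv F3541)) (tt N1107 (iv F3939)) (tt N453 (iv D1298)) (tt N1153 D2680))
theorem Q740 : ∀ i, i < 740 → P i := stepQ 739 Q739 (allL N739 (tt N1154 D2681) (tt N454 (iv D1299)) (tt N1155 D2682) (tt N735 F2180) (tt N1108 (iv F3940)) (tt N1152 (iv F4188)) (tt N1156 D2683))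
theorem Q741 : ∀ i, i < 741 → P i := stepQ 740 Q740 (allL N740 (tt N740 F15219) (tt N1140 (iv F4175)) (tt N740 F15220) (tt N455 (iv D1303)) (tt N1157 D2692) (tt N740 F2187) (tt N1158 D2693))
theorem Q742 : ∀ i, i < 742 → P i := stepQ 741 Q741 (allL N741 (tt N741 F15221) (tt N1159 D2694) (tt N456 F2188) (tt N1158 (iv F4207)) (tt N1110 (iv F3952)) (tt N741 F15222) (tt N455 (iv D1304)))
theorem Q743 : ∀ i, i < 743 → P i := stepQ 742 Q742 (allL N742 (tt N610 (iv F17010)) (tt N456 (iv D1305)) (tt N1160 D2696) (tt N461 F2189) (tt N1000 (iv F17079)) (tt N643 (iv F17009)) (tt N457 F2190))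
theorem Q744 : ∀ i, i < 744 → P i := stepQ 743 Q743 (allL N743 (tt N457 (iv D1306)) (tt N1161 D2698) (tt N1162 D2699) (tt N462 F2191) (tt N1111 (iv F3957)) (tt N1017 F17002) (tt N610 (iv F17011)))
theorem Q745 : ∀ i, i < 745 → P i := stepQ 744 Q744 (allL N744 (tt N1162 (iv F4213)) (tt N1145 (iv F4180)) (tt N457 (iv D1307)) (tt N1163 D2701) (tt N1112 (iv F3958)) (tt N1019 F17003) (tt N1160 (iv F4210)))
theorem Q746 : ∀ i, i < 746 → P i := stepQ 745 Q745 (allL N745 (tt N745 F16920) (tt N1150 (iv F4185)) (tt N745 F16921) (tt N458 (iv D1312)) (tt N1164 D2712) (tt N1165 D2713) (tt N745 F2200))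
theorem Q747 : ∀ i, i < 747 → P i := stepQ 746 Q746 (allL N746 (tt N746 F16681) (tt N1166 D2714) (tt N459 F2201) (tt N1165 (iv F4233)) (tt N1114 (iv F3973)) (tt N458 (iv D1313)) (tt N746 F16682))
theorem Q748 : ∀ i, i < 748 → P i := stepQ 747 Q747 (allL N747 (tt N612 (iv F16574)) (tt N459 (iv D1314)) (tt N1167 D2716) (tt N464 F2202) (tt N1002 (iv F16575)) (tt N460 F2203) (tt N646 F16526))
theorem Q749 : ∀ i, i < 749 → P i := stepQ 748 Q748 (allL N748 (tt N460 (iv D1315)) (tt N1168 D2718) (tt N1169 D2719) (tt N465 F2204) (tt N1115 (iv F3978)) (tt N612 F16591) (tt N1021 F16592))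
theorem Q750 : ∀ i, i < 750 → P i := stepQ 749 Q749 (allL N749 (tt N1169 (iv F4239)) (tt N1155 (iv F4192)) (tt N460 (iv D1316)) (tt N1170 D2721) (tt N1116 (iv F3979)) (tt N1167 (iv F4236)) (tt N1023 (iv F16745)))
theorem Q751 : ∀ i, i < 751 → P i := stepQ 750 Q750 (allL N750 (tt N614 (iv F17013)) (tt N750 F2216) (tt N461 (iv D1324)) (tt N1171 D2738) (tt N467 F2217) (tt N649 (iv F17012)) (tt N463 F2218))
theorem Q752 : ∀ i, i < 752 → P i := stepQ 751 Q751 (allL N751 (tt N1172 D2740) (tt N462 (iv D1326)) (tt N1173 D2741) (tt N1161 (iv F4212)) (tt N468 F2220) (tt N1172 F16759) (tt N615 F16760))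
theorem Q753 : ∀ i, i < 753 → P i := stepQ 752 Q752 (allL N752 (tt N463 F2221) (tt N1174 D2744) (tt N462 (iv D1327)) (tt N1175 D2745) (tt N469 F2222) (tt N1026 F16996) (tt N614 (iv F17014)))
theorem Q754 : ∀ i, i < 754 → P i := stepQ 753 Q753 (allL N753 (tt N1175 (iv F4284)) (tt N477 F2226) (tt N1176 D2748) (tt N463 (iv D1329)) (tt N1177 D2749) (tt N1029 F17004) (tt N1171 (iv F4275)))
theorem Q755 : ∀ i, i < 755 → P i := stepQ 754 Q754 (allL N754 (tt N616 (iv F16528)) (tt N754 F2241) (tt N464 (iv D1338)) (tt N1178 D2768) (tt N471 F2242) (tt N466 F2243) (tt N653 F16481))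
theorem Q756 : ∀ i, i < 756 → P i := stepQ 755 Q755 (allL N755 (tt N1179 D2770) (tt N465 (iv D1340)) (tt N1180 D2771) (tt N1168 (iv F4238)) (tt N472 F2245) (tt N617 (iv F16710)) (tt N1179 F14890))
theorem Q757 : ∀ i, i < 757 → P i := stepQ 756 Q756 (allL N756 (tt N466 F2246) (tt N1181 D2774) (tt N465 (iv D1341)) (tt N1182 D2775) (tt N473 F2247) (tt N616 (iv F16529)) (tt N1033 F16500))
theorem Q758 : ∀ i, i < 758 → P i := stepQ 757 Q757 (allL N757 (tt N1182 (iv F4342)) (tt N481 F2251) (tt N1183 D2778) (tt N466 (iv D1343)) (tt N1184 D2779) (tt N1178 (iv F4332)) (tt N1036 F16589))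
theorem Q759 : ∀ i, i < 759 → P i := stepQ 758 Q758 (allL N758 (tt N618 F17006) (tt N758 F2271) (tt N658 F17007) (tt N467 (iv D1360)) (tt N1185 D2812) (tt N658 (iv F17016)) (tt N470 F2272))
theorem Q760 : ∀ i, i < 760 → P i := stepQ 759 Q759 (allL N759 (tt N468 (iv D1362)) (tt N765 (iv F2303)) (tt N1186 D2815) (tt N1119 (iv F4090)) (tt N1172 (iv F4278)) (tt N468 (iv F16657)) (tt N619 F16565))
theorem Q761 : ∀ i, i < 761 → P i := stepQ 760 Q760 (allL N760 (tt N1186 (iv F4408)) (tt N1187 D2817) (tt N468 (iv D1363)) (tt N1188 D2818) (tt N1173 (iv F4279)) (tt N1186 F16737) (tt N620 F16738))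
theorem Q762 : ∀ i, i < 762 → P i := stepQ 761 Q761 (allL N761 (tt N1189 D2821) (tt N469 (iv D1366)) (tt N1187 (iv F4412)) (tt N686 F32610) (tt N1174 (iv F4283)) (tt N683 F32611) (tt N1190 D2824))
theorem Q763 : ∀ i, i < 763 → P i := stepQ 762 Q762 (allL N762 (tt N470 F2274) (tt N686 (iv F32553)) (tt N661 F16980) (tt N469 (iv D1367)) (tt N1191 D2826) (tt N687 F32519) (tt N618 (iv F17001)))
theorem Q764 : ∀ i, i < 764 → P i := stepQ 763 Q763 (allL N763 (tt N1191 (iv F4422)) (tt N475 (iv F32517)) (tt N1056 F32498) (tt N1177 (iv F4293)) (tt N470 (iv D1371)) (tt N1039 F17005) (tt N1185 (iv F4405)))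
theorem Q765 : ∀ i, i < 765 → P i := stepQ 764 Q764 (allL N764 (tt N621 (iv F16463)) (tt N764 F2300) (tt N664 (iv F16467)) (tt N471 (iv D1390)) (tt N1192 D2867) (tt N474 F2301) (tt N664 (iv F16468)))
theorem Q766 : ∀ i, i < 766 → P i := stepQ 765 Q765 (allL N765 (tt N472 (iv D1392)) (tt N759 F2303) (tt N1193 D2870) (tt N1121 (iv F4145)) (tt N1179 (iv F4336)) (tt N622 (iv F16714)) (tt N472 (iv F14803)))
theorem Q767 : ∀ i, i < 767 → P i := stepQ 766 Q766 (allL N766 (tt N1193 (iv F4491)) (tt N1194 D2872) (tt N472 (iv D1393)) (tt N1195 D2873) (tt N1180 (iv F4337)) (tt N623 (iv F16715)) (tt N1193 F14905))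
theorem Q768 : ∀ i, i < 768 → P i := stepQ 767 Q767 (allL N767 (tt N1196 D2876) (tt N473 (iv D1396)) (tt N1194 (iv F4495)) (tt N693 (iv F32700)) (tt N1181 (iv F4341)) (tt N1197 D2878) (tt N690 (iv F32725)))
theorem Q769 : ∀ i, i < 769 → P i := stepQ 768 Q768 (allL N768 (tt N474 F2304) (tt N693 F32758) (tt N667 (iv F16469)) (tt N473 (iv D1397)) (tt N1198 D2881) (tt N621 F16466) (tt N694 (iv F32814)))
theorem Q770 : ∀ i, i < 770 → P i := stepQ 769 Q769 (allL N769 (tt N1198 (iv F4502)) (tt N479 F32770) (tt N1067 (iv F32773)) (tt N1184 (iv F4351)) (tt N474 (iv D1401)) (tt N1192 (iv F4488)) (tt N1043 F16496))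
theorem Q771 : ∀ i, i < 771 → P i := stepQ 770 Q770 (allL N770 (tt N477 F2317) (tt N1177 F32502) (tt N1199 D2900) (tt N475 (iv D1407)) (tt N477 (iv F32522)) (tt N1200 D2902) (tt N770 F2318))
theorem Q772 : ∀ i, i < 772 → P i := stepQ 771 Q771 (allL N771 (tt N478 F2319) (tt N1201 D2903) (tt N476 F2320) (tt N1200 (iv F4535)) (tt N483 F2321) (tt N475 (iv D1408)) (tt N478 F2322))
theorem Q773 : ∀ i, i < 773 → P i := stepQ 772 Q772 (allL N772 (tt N1199 (iv F4528)) (tt N1202 D2904) (tt N477 (iv D1409)) (tt N1199 (iv F4530)) (tt N1199 F32555) (tt N1203 D2906) (tt N772 F2323))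
theorem Q774 : ∀ i, i < 774 → P i := stepQ 773 Q773 (allL N773 (tt N1200 (iv F4534)) (tt N1204 D2908) (tt N1203 (iv F4540)) (tt N478 F2326) (tt N1200 F32556) (tt N477 (iv D1411)) (tt N1200 (iv F4536)))
theorem Q775 : ∀ i, i < 775 → P i := stepQ 774 Q774 (allL N774 (tt N1205 D2909) (tt N478 (iv D1412)) (tt N679 F2327) (tt N1204 (iv F4543)) (tt N484 F2328) (tt N1030 F16802) (tt N1206 D2910))
theorem Q776 : ∀ i, i < 776 → P i := stepQ 775 Q775 (allL N775 (tt N481 F2330) (tt N1184 (iv F32835)) (tt N1207 D2915) (tt N479 (iv D1414)) (tt N481 (iv F32827)) (tt N775 F2331) (tt N1208 D2917))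
theorem Q777 : ∀ i, i < 777 → P i := stepQ 776 Q776 (allL N776 (tt N482 F2332) (tt N1209 D2918) (tt N480 F2333) (tt N1208 (iv F4560)) (tt N485 F2334) (tt N482 F2335) (tt N479 (iv D1415)))
theorem Q778 : ∀ i, i < 778 → P i := stepQ 777 Q777 (allL N777 (tt N1207 (iv F4553)) (tt N1210 D2919) (tt N481 (iv D1416)) (tt N1207 (iv F4555)) (tt N1207 F32877) (tt N777 F2336) (tt N1211 D2921))
theorem Q779 : ∀ i, i < 779 → P i := stepQ 778 Q778 (allL N778 (tt N1208 (iv F4559)) (tt N1212 D2923) (tt N1211 (iv F4566)) (tt N482 F2339) (tt N1208 F32767) (tt N1208 (iv F4561)) (tt N481 (iv D1418)))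
theorem Q780 : ∀ i, i < 780 → P i := stepQ 779 Q779 (allL N779 (tt N1213 D2924) (tt N482 (iv D1419)) (tt N673 F2340) (tt N1212 (iv F4569)) (tt N486 F2341) (tt N1214 D2925) (tt N1037 F16696))
theorem Q781 : ∀ i, i < 781 → P i := stepQ 780 Q780 (allL N780 (tt N1190 F15555) (tt N483 (iv D1426)) (tt N783 (iv F2363)) (tt N484 (iv F32672)) (tt N1201 (iv F4537)) (tt N1040 F32591) (tt N1189 (iv F15561)))
theorem Q782 : ∀ i, i < 782 → P i := stepQ 781 Q781 (allL N781 (tt N484 (iv D1432)) (tt N1215 D2952) (tt N692 F2354) (tt N1190 (iv F32673)) (tt N1205 (iv F4545)) (tt N1041 F16804) (tt N686 F16805))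
theorem Q783 : ∀ i, i < 783 → P i := stepQ 782 Q782 (allL N782 (tt N686 F16807) (tt N1189 F15622) (tt N693 F2355) (tt N1189 (iv F32674)) (tt N1206 (iv F4547)) (tt N685 (iv F16816)) (tt N484 (iv D1433)))
theorem Q784 : ∀ i, i < 784 → P i := stepQ 783 Q783 (allL N783 (tt N1197 F16618) (tt N485 (iv D1440)) (tt N780 F2363) (tt N486 (iv F32699)) (tt N1209 (iv F4563)) (tt N1196 F16619) (tt N1044 (iv F32740)))
theorem Q785 : ∀ i, i < 785 → P i := stepQ 784 Q784 (allL N784 (tt N486 (iv D1446)) (tt N1216 D2981) (tt N685 F2369) (tt N1197 F32757) (tt N1213 (iv F4571)) (tt N693 F16700) (tt N1045 F16701))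
theorem Q786 : ∀ i, i < 786 → P i := stepQ 785 Q785 (allL N785 (tt N693 (iv F16694)) (tt N1196 F16613) (tt N686 F2370) (tt N1196 F32612) (tt N1214 (iv F4573)) (tt N486 (iv D1447)) (tt N692 (iv F16692)))
theorem Q787 : ∀ i, i < 787 → P i := stepQ 786 Q786 (allL N786 (tt N786 F15649) (tt N786 F15654) (tt N786 F15650) (tt N489 (iv D1566)) (tt N936 (iv F16000)) (tt N786 F15600) (tt N786 F17199))
theorem Q788 : ∀ i, i < 788 → P i := stepQ 787 Q787 (allL N787 (tt N787 F15651) (tt N787 F15656) (tt N490 F2589) (tt N937 (iv F16002)) (tt N489 (iv D1567)) (tt N787 F15601) (tt N787 F17198))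
theorem Q789 : ∀ i, i < 789 → P i := stepQ 788 Q788 (allL N788 (tt N788 F15645) (tt N492 F2592) (tt N1217 D3233) (tt N490 (iv D1570)) (tt N491 F2593) (tt N788 F15596) (tt N788 F17211))
theorem Q790 : ∀ i, i < 790 → P i := stepQ 789 Q789 (allL N789 (tt N789 F15644) (tt N1218 D3248) (tt N491 (iv D1577)) (tt N1219 D3249) (tt N1217 (iv F5016)) (tt N789 F15595) (tt N789 F17212))
theorem Q791 : ∀ i, i < 791 → P i := stepQ 790 Q790 (allL N790 (tt N528 F2624) (tt N1220 D3280) (tt N492 (iv D1592)) (tt N1221 D3281) (tt N495 F2625) (tt N1222 D3282) (tt N1223 D3283))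
theorem Q792 : ∀ i, i < 792 → P i := stepQ 791 Q791 (allL N791 (tt N529 F2626) (tt N791 F15485) (tt N1222 (iv F5091)) (tt N493 F2627) (tt N496 F2628) (tt N492 (iv D1593)) (tt N848 (iv F2995)))
theorem Q793 : ∀ i, i < 793 → P i := stepQ 792 Q792 (allL N792 (tt N530 F2629) (tt N792 F17206) (tt N1223 (iv F5094)) (tt N494 F2630) (tt N497 F2631) (tt N846 (iv F2989)) (tt N492 (iv D1594)))
theorem Q794 : ∀ i, i < 794 → P i := stepQ 793 Q793 (allL N793 (tt N1224 D3304) (tt N495 (iv D1603)) (tt N1218 (iv F5040)) (tt N543 F2638) (tt N1220 (iv F5087)) (tt N1225 D3305) (tt N1226 D3306))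
theorem Q795 : ∀ i, i < 795 → P i := stepQ 794 Q794 (allL N794 (tt N544 F2639) (tt N1227 D3307) (tt N496 F2640) (tt N544 F2641) (tt N1222 (iv F5092)) (tt N495 (iv D1604)) (tt N873 (iv F3037)))
theorem Q796 : ∀ i, i < 796 → P i := stepQ 795 Q795 (allL N795 (tt N545 F2642) (tt N1228 D3308) (tt N497 F2643) (tt N545 F2644) (tt N1223 (iv F5095)) (tt N871 (iv F3033)) (tt N495 (iv D1605)))
theorem Q797 : ∀ i, i < 797 → P i := stepQ 796 Q796 (allL N796 (tt N506 F2856) (tt N796 F15504) (tt N1229 D3640) (tt N498 (iv D1757)) (tt N501 F2857) (tt N1230 D3641) (tt N1231 D3642))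
theorem Q798 : ∀ i, i < 798 → P i := stepQ 797 Q797 (allL N797 (tt N507 F2858) (tt N1232 D3643) (tt N507 F2859) (tt N1230 (iv F5591)) (tt N499 F2860) (tt N498 (iv D1758)) (tt N812 (iv F2892)))
theorem Q799 : ∀ i, i < 799 → P i := stepQ 798 Q798 (allL N798 (tt N508 F2861) (tt N1233 D3644) (tt N508 F2862) (tt N1231 (iv F5594)) (tt N500 F2863) (tt N810 (iv F2886)) (tt N498 (iv D1759)))
theorem Q800 : ∀ i, i < 800 → P i := stepQ 799 Q799 (allL N799 (tt N799 F15196) (tt N499 (iv D1760)) (tt N857 F15036) (tt N504 F2864) (tt N1232 (iv F5596)) (tt N799 F15178) (tt N857 (iv F17151)))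
theorem Q801 : ∀ i, i < 801 → P i := stepQ 800 Q800 (allL N800 (tt N800 F16913) (tt N500 (iv D1761)) (tt N862 F16908) (tt N505 F2865) (tt N1233 (iv F5597)) (tt N862 F16914) (tt N800 F15427))
theorem Q802 : ∀ i, i < 802 → P i := stepQ 801 Q801 (allL N801 (tt N513 F2866) (tt N1234 D3651) (tt N501 (iv D1762)) (tt N965 (iv F3348)) (tt N1229 (iv F5589)) (tt N1235 D3652) (tt N1236 D3653))
theorem Q803 : ∀ i, i < 803 → P i := stepQ 802 Q802 (allL N802 (tt N514 F2867) (tt N1237 D3654) (tt N1235 (iv F5605)) (tt N502 F2868) (tt N1230 (iv F5592)) (tt N501 (iv D1763)) (tt N824 (iv F2914)))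
theorem Q804 : ∀ i, i < 804 → P i := stepQ 803 Q803 (allL N803 (tt N515 F2869) (tt N1238 D3655) (tt N1236 (iv F5607)) (tt N503 F2870) (tt N1231 (iv F5595)) (tt N822 (iv F2909)) (tt N501 (iv D1764)))
theorem Q805 : ∀ i, i < 805 → P i := stepQ 804 Q804 (allL N804 (tt N804 F15197) (tt N502 (iv D1765)) (tt N804 F15100) (tt N1237 (iv F5608)) (tt N504 F2871) (tt N804 F15254) (tt N882 (iv F17158)))
theorem Q806 : ∀ i, i < 806 → P i := stepQ 805 Q805 (allL N805 (tt N805 F16915) (tt N503 (iv D1766)) (tt N805 F16916) (tt N1238 (iv F5609)) (tt N505 F2872) (tt N890 (iv F17031)) (tt N805 F15428))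
theorem Q807 : ∀ i, i < 807 → P i := stepQ 806 Q806 (allL N806 (tt N1229 (iv F5588)) (tt N1239 D3672) (tt N506 (iv D1773)) (tt N1240 D3673) (tt N513 F2878) (tt N1241 D3674) (tt N1242 D3675))
theorem Q808 : ∀ i, i < 808 → P i := stepQ 807 Q807 (allL N807 (tt N1230 (iv F5590)) (tt N1243 D3676) (tt N1241 (iv F5641)) (tt N507 F2879) (tt N514 F2880) (tt N506 (iv D1774)) (tt N1244 D3677))
theorem Q809 : ∀ i, i < 809 → P i := stepQ 808 Q808 (allL N808 (tt N1231 (iv F5593)) (tt N1245 D3678) (tt N1242 (iv F5643)) (tt N508 F2881) (tt N515 F2882) (tt N1246 D3679) (tt N506 (iv D1775)))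
theorem Q810 : ∀ i, i < 810 → P i := stepQ 809 Q809 (allL N809 (tt N850 (iv F14917)) (tt N507 (iv D1776)) (tt N849 (iv F14922)) (tt N1243 (iv F5645)) (tt N509 F2883) (tt N531 F2884) (tt N1247 D3682))
theorem Q811 : ∀ i, i < 811 → P i := stepQ 810 Q810 (allL N810 (tt N812 (iv F2889)) (tt N1248 D3683) (tt N812 (iv F2890)) (tt N1244 (iv F5648)) (tt N510 F2885) (tt N798 F2886) (tt N507 (iv D1777)))
theorem Q812 : ∀ i, i < 812 → P i := stepQ 811 Q811 (allL N811 (tt N854 (iv F16777)) (tt N508 (iv D1778)) (tt N853 (iv F16781)) (tt N1245 (iv F5651)) (tt N511 F2887) (tt N1249 D3686) (tt N533 F2888))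
theorem Q813 : ∀ i, i < 813 → P i := stepQ 812 Q812 (allL N812 (tt N810 F2889) (tt N1250 D3687) (tt N810 F2890) (tt N1246 (iv F5655)) (tt N512 F2891) (tt N508 (iv D1779)) (tt N797 F2892))
theorem Q814 : ∀ i, i < 814 → P i := stepQ 813 Q813 (allL N813 (tt N858 (iv F14918)) (tt N815 F16954) (tt N816 (iv F17150)) (tt N522 F2896) (tt N1247 (iv F5662)) (tt N816 F16956) (tt N509 (iv D1782)))
theorem Q815 : ∀ i, i < 815 → P i := stepQ 814 Q814 (allL N814 (tt N541 F16958) (tt N510 (iv D1783)) (tt N815 (iv F17075)) (tt N523 F2897) (tt N1248 (iv F5663)) (tt N539 F16959) (tt N815 (iv F17076)))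
theorem Q816 : ∀ i, i < 816 → P i := stepQ 815 Q815 (allL N815 (tt N863 (iv F16778)) (tt N813 (iv F16954)) (tt N814 F17075) (tt N526 F2901) (tt N1249 (iv F5668)) (tt N511 (iv D1786)) (tt N814 F17076))
theorem Q817 : ∀ i, i < 817 → P i := stepQ 816 Q816 (allL N816 (tt N537 (iv F17047)) (tt N512 (iv D1787)) (tt N813 F17150) (tt N527 F2902) (tt N1250 (iv F5669)) (tt N813 (iv F16956)) (tt N535 (iv F17048)))
theorem Q818 : ∀ i, i < 818 → P i := stepQ 817 Q817 (allL N817 (tt N1251 D3704) (tt N513 (iv D1788)) (tt N543 F2903) (tt N1252 D3705) (tt N1239 (iv F5639)) (tt N1253 D3706) (tt N1254 D3707))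
theorem Q819 : ∀ i, i < 819 → P i := stepQ 818 Q818 (allL N818 (tt N965 (iv F3347)) (tt N1252 (iv F5692)) (tt N944 (iv F3261)) (tt N513 (iv D1789)) (tt N1255 D3708) (tt N1256 D3709) (tt N1257 D3710))
theorem Q820 : ∀ i, i < 820 → P i := stepQ 819 Q819 (allL N819 (tt N1235 (iv F5604)) (tt N1258 D3711) (tt N514 F2904) (tt N1256 (iv F5695)) (tt N1241 (iv F5642)) (tt N513 (iv D1790)) (tt N1259 D3712))
theorem Q821 : ∀ i, i < 821 → P i := stepQ 820 Q820 (allL N820 (tt N1236 (iv F5606)) (tt N1260 D3713) (tt N515 F2905) (tt N1257 (iv F5696)) (tt N1242 (iv F5644)) (tt N1261 D3714) (tt N513 (iv D1791)))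
theorem Q822 : ∀ i, i < 822 → P i := stepQ 821 Q821 (allL N821 (tt N1262 D3715) (tt N514 (iv D1792)) (tt N1263 D3716) (tt N516 F2906) (tt N1243 (iv F5646)) (tt N546 F2907) (tt N1264 D3717))
theorem Q823 : ∀ i, i < 823 → P i := stepQ 822 Q822 (allL N822 (tt N824 (iv F2912)) (tt N1265 D3718) (tt N1259 (iv F5697)) (tt N517 F2908) (tt N1244 (iv F5649)) (tt N803 F2909) (tt N514 (iv D1793)))
theorem Q824 : ∀ i, i < 824 → P i := stepQ 823 Q823 (allL N823 (tt N1266 D3719) (tt N515 (iv D1794)) (tt N1267 D3720) (tt N518 F2910) (tt N1245 (iv F5652)) (tt N1268 D3721) (tt N548 F2911))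
theorem Q825 : ∀ i, i < 825 → P i := stepQ 824 Q824 (allL N824 (tt N822 F2912) (tt N1269 D3722) (tt N1261 (iv F5700)) (tt N519 F2913) (tt N1246 (iv F5656)) (tt N515 (iv D1795)) (tt N802 F2914))
theorem Q826 : ∀ i, i < 826 → P i := stepQ 825 Q825 (allL N825 (tt N516 (iv D1796)) (tt N825 F14920) (tt N1270 D3724) (tt N1262 (iv F5702)) (tt N520 F2915) (tt N550 F2916) (tt N887 (iv F3057)))
theorem Q827 : ∀ i, i < 827 → P i := stepQ 826 Q826 (allL N826 (tt N1270 (iv F5713)) (tt N614 F2917) (tt N516 (iv D1797)) (tt N1271 D3725) (tt N521 F2918) (tt N551 F2919) (tt N1272 D3726))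
theorem Q828 : ∀ i, i < 828 → P i := stepQ 827 Q827 (allL N827 (tt N887 (iv F3055)) (tt N831 F16943) (tt N1272 (iv F5718)) (tt N1264 (iv F5705)) (tt N522 F2920) (tt N832 F16944) (tt N516 (iv D1798)))
theorem Q829 : ∀ i, i < 829 → P i := stepQ 828 Q828 (allL N828 (tt N556 F16945) (tt N517 (iv D1799)) (tt N1273 D3729) (tt N1265 (iv F5706)) (tt N523 F2921) (tt N554 F16946) (tt N831 F16947))
theorem Q830 : ∀ i, i < 830 → P i := stepQ 829 Q829 (allL N829 (tt N518 (iv D1800)) (tt N829 F16776) (tt N1274 D3732) (tt N1266 (iv F5707)) (tt N524 F2922) (tt N895 (iv F3076)) (tt N554 F2923))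
theorem Q831 : ∀ i, i < 831 → P i := stepQ 830 Q830 (allL N830 (tt N1274 (iv F5728)) (tt N616 F2924) (tt N518 (iv D1801)) (tt N1275 D3733) (tt N525 F2925) (tt N1276 D3734) (tt N555 F2926))
theorem Q832 : ∀ i, i < 832 → P i := stepQ 831 Q831 (allL N831 (tt N895 (iv F3074)) (tt N827 (iv F16943)) (tt N1276 (iv F5733)) (tt N1268 (iv F5710)) (tt N526 F2927) (tt N518 (iv D1802)) (tt N828 (iv F16947)))
theorem Q833 : ∀ i, i < 833 → P i := stepQ 832 Q832 (allL N832 (tt N552 (iv F17049)) (tt N519 (iv D1803)) (tt N1277 D3737) (tt N1269 (iv F5711)) (tt N527 F2928) (tt N827 (iv F16944)) (tt N550 (iv F17050)))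
theorem Q834 : ∀ i, i < 834 → P i := stepQ 833 Q833 (allL N833 (tt N521 F2929) (tt N1278 D3743) (tt N520 (iv D1805)) (tt N1279 D3744) (tt N1270 (iv F5714)) (tt N559 F2930) (tt N902 (iv F3092)))
theorem Q835 : ∀ i, i < 835 → P i := stepQ 834 Q834 (allL N834 (tt N1279 (iv F5744)) (tt N618 F2931) (tt N560 (iv F14704)) (tt N521 (iv D1806)) (tt N1280 D3746) (tt N560 F2932) (tt N1215 (iv F32586)))
theorem Q836 : ∀ i, i < 836 → P i := stepQ 835 Q835 (allL N835 (tt N902 (iv F3090)) (tt N1190 F16735) (tt N522 F2933) (tt N1215 F32669) (tt N1272 (iv F5719)) (tt N840 (iv F16846)) (tt N521 (iv D1807)))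
theorem Q837 : ∀ i, i < 837 → P i := stepQ 836 Q836 (allL N836 (tt N569 F16702) (tt N620 F2935) (tt N523 (iv D1810)) (tt N1281 D3755) (tt N1273 (iv F5724)) (tt N567 F16703) (tt N839 F16704))
theorem Q838 : ∀ i, i < 838 → P i := stepQ 837 Q837 (allL N837 (tt N525 F2937) (tt N1282 D3762) (tt N524 (iv D1813)) (tt N1283 D3763) (tt N1274 (iv F5729)) (tt N911 (iv F3112)) (tt N567 F2938))
theorem Q839 : ∀ i, i < 839 → P i := stepQ 838 Q838 (allL N838 (tt N1283 (iv F5761)) (tt N621 F2939) (tt N568 (iv F16474)) (tt N525 (iv D1814)) (tt N1284 D3765) (tt N1216 F32867) (tt N568 F2940))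
theorem Q840 : ∀ i, i < 840 → P i := stepQ 839 Q839 (allL N839 (tt N911 (iv F3110)) (tt N1197 F16585) (tt N526 F2941) (tt N1216 (iv F32809)) (tt N1276 (iv F5734)) (tt N525 (iv D1815)) (tt N836 (iv F16704)))
theorem Q841 : ∀ i, i < 841 → P i := stepQ 840 Q840 (allL N840 (tt N561 (iv F16976)) (tt N623 F2943) (tt N527 (iv D1818)) (tt N1285 D3774) (tt N1277 (iv F5739)) (tt N835 F16846) (tt N559 (iv F16977)))
theorem Q842 : ∀ i, i < 842 → P i := stepQ 841 Q841 (allL N841 (tt N1286 D3826) (tt N528 (iv D1842)) (tt N1239 (iv F5638)) (tt N1287 D3827) (tt N543 F2980) (tt N1288 D3828) (tt N1289 D3829))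
theorem Q843 : ∀ i, i < 843 → P i := stepQ 842 Q842 (allL N842 (tt N1221 (iv F5088)) (tt N1287 (iv F5863)) (tt N1221 (iv F15687)) (tt N528 (iv D1843)) (tt N1221 (iv F5089)) (tt N1290 D3830) (tt N1291 D3831))
theorem Q844 : ∀ i, i < 844 → P i := stepQ 843 Q843 (allL N843 (tt N1222 (iv F5090)) (tt N1292 D3832) (tt N529 F2981) (tt N1290 (iv F5866)) (tt N544 F2982) (tt N528 (iv D1844)) (tt N1293 D3833))
theorem Q845 : ∀ i, i < 845 → P i := stepQ 844 Q844 (allL N844 (tt N1223 (iv F5093)) (tt N1294 D3834) (tt N530 F2983) (tt N1291 (iv F5867)) (tt N545 F2984) (tt N1295 D3835) (tt N528 (iv D1845)))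
theorem Q846 : ∀ i, i < 846 → P i := stepQ 845 Q845 (allL N845 (tt N1296 D3836) (tt N529 (iv D1846)) (tt N1297 D3837) (tt N531 F2985) (tt N546 F2986) (tt N1243 (iv F5647)) (tt N1298 D3838))
theorem Q847 : ∀ i, i < 847 → P i := stepQ 846 Q846 (allL N846 (tt N848 (iv F2992)) (tt N1299 D3839) (tt N1293 (iv F5869)) (tt N532 F2987) (tt N547 F2988) (tt N792 F2989) (tt N529 (iv D1847)))
theorem Q848 : ∀ i, i < 848 → P i := stepQ 847 Q847 (allL N847 (tt N1300 D3840) (tt N530 (iv D1848)) (tt N1301 D3841) (tt N533 F2990) (tt N548 F2991) (tt N1302 D3842) (tt N1245 (iv F5653)))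
theorem Q849 : ∀ i, i < 849 → P i := stepQ 848 Q848 (allL N848 (tt N846 F2992) (tt N1303 D3843) (tt N1295 (iv F5874)) (tt N534 F2993) (tt N549 F2994) (tt N530 (iv D1849)) (tt N791 F2995))
theorem Q850 : ∀ i, i < 850 → P i := stepQ 849 Q849 (allL N849 (tt N531 (iv D1850)) (tt N1304 D3844) (tt N809 F14922) (tt N1296 (iv F5877)) (tt N535 F2996) (tt N850 F14923) (tt N1250 F17149))
theorem Q851 : ∀ i, i < 851 → P i := stepQ 850 Q850 (allL N850 (tt N809 F14917) (tt N850 F15029) (tt N531 (iv D1851)) (tt N1305 D3847) (tt N536 F2997) (tt N849 (iv F14923)) (tt N1306 D3848))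
theorem Q852 : ∀ i, i < 852 → P i := stepQ 851 Q851 (allL N851 (tt N1250 F17144) (tt N1307 D3849) (tt N1306 (iv F5897)) (tt N1298 (iv F5880)) (tt N537 F2998) (tt N1306 F15035) (tt N531 (iv D1852)))
theorem Q853 : ∀ i, i < 853 → P i := stepQ 852 Q852 (allL N852 (tt N1308 D3851) (tt N532 (iv D1853)) (tt N1309 D3852) (tt N1299 (iv F5882)) (tt N538 F2999) (tt N852 F17058) (tt N1307 (iv F5900)))
theorem Q854 : ∀ i, i < 854 → P i := stepQ 853 Q853 (allL N853 (tt N533 (iv D1854)) (tt N1310 D3854) (tt N811 F16781) (tt N1300 (iv F5884)) (tt N539 F3000) (tt N1248 (iv F17073)) (tt N854 F16782))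
theorem Q855 : ∀ i, i < 855 → P i := stepQ 854 Q854 (allL N854 (tt N811 F16777) (tt N854 F15660) (tt N533 (iv D1855)) (tt N1311 D3857) (tt N540 F3001) (tt N1312 D3858) (tt N853 (iv F16782)))
theorem Q856 : ∀ i, i < 856 → P i := stepQ 855 Q855 (allL N855 (tt N1248 (iv F17072)) (tt N1313 D3859) (tt N1312 (iv F5914)) (tt N1302 (iv F5887)) (tt N541 F3002) (tt N533 (iv D1856)) (tt N1312 F16907))
theorem Q857 : ∀ i, i < 857 → P i := stepQ 856 Q856 (allL N856 (tt N1314 D3861) (tt N534 (iv D1857)) (tt N1315 D3862) (tt N1303 (iv F5889)) (tt N542 F3003) (tt N1313 (iv F5917)) (tt N856 F15192))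
theorem Q858 : ∀ i, i < 858 → P i := stepQ 857 Q857 (allL N857 (tt N857 F15209) (tt N535 (iv D1858)) (tt N799 (iv F15036)) (tt N558 F3004) (tt N1304 (iv F5891)) (tt N857 F15166) (tt N799 F17151))
theorem Q859 : ∀ i, i < 859 → P i := stepQ 858 Q858 (allL N858 (tt N813 F14918) (tt N865 (iv F17176)) (tt N537 F3009) (tt N563 F14919) (tt N1306 (iv F5898)) (tt N537 (iv F14921)) (tt N536 (iv D1862)))
theorem Q860 : ∀ i, i < 860 → P i := stepQ 859 Q859 (allL N859 (tt N1316 D3877) (tt N537 (iv D1863)) (tt N1317 D3878) (tt N562 F3010) (tt N1307 (iv F5899)) (tt N1316 F17059) (tt N538 F3011))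
theorem Q861 : ∀ i, i < 861 → P i := stepQ 860 Q860 (allL N860 (tt N538 (iv D1865)) (tt N863 F16906) (tt N1318 D3882) (tt N564 F3015) (tt N1308 (iv F5904)) (tt N860 F17033) (tt N1316 (iv F5938)))
theorem Q862 : ∀ i, i < 862 → P i := stepQ 861 Q861 (allL N861 (tt N1318 (iv F5943)) (tt N861 F15563) (tt N538 (iv D1866)) (tt N958 F32903) (tt N1309 (iv F5905)) (tt N861 F17057) (tt N1317 (iv F5939)))
theorem Q863 : ∀ i, i < 863 → P i := stepQ 862 Q862 (allL N862 (tt N862 F16909) (tt N539 (iv D1868)) (tt N800 (iv F16908)) (tt N566 F3018) (tt N1310 (iv F5908)) (tt N800 (iv F16914)) (tt N862 F16910))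
theorem Q864 : ∀ i, i < 864 → P i := stepQ 863 Q863 (allL N863 (tt N815 F16778) (tt N860 (iv F16906)) (tt N541 F3023) (tt N571 F16779) (tt N1312 (iv F5915)) (tt N540 (iv D1872)) (tt N541 (iv F16780)))
theorem Q865 : ∀ i, i < 865 → P i := stepQ 864 Q864 (allL N864 (tt N1319 D3900) (tt N541 (iv D1873)) (tt N1320 D3901) (tt N570 F3024) (tt N1313 (iv F5916)) (tt N542 F3025) (tt N1319 (iv F15351)))
theorem Q866 : ∀ i, i < 866 → P i := stepQ 865 Q865 (allL N865 (tt N542 (iv D1875)) (tt N858 F17176) (tt N1321 D3905) (tt N572 F3029) (tt N1314 (iv F5921)) (tt N1319 (iv F5964)) (tt N865 F15188))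
theorem Q867 : ∀ i, i < 867 → P i := stepQ 866 Q866 (allL N866 (tt N1321 (iv F5969)) (tt N866 F15566) (tt N542 (iv D1876)) (tt N960 F32842) (tt N1315 (iv F5922)) (tt N1320 (iv F5965)) (tt N866 F15191))
theorem Q868 : ∀ i, i < 868 → P i := stepQ 867 Q867 (allL N867 (tt N543 (iv D1878)) (tt N1322 D3910) (tt N1251 (iv F5691)) (tt N1224 (iv F5124)) (tt N1286 (iv F5862)) (tt N1323 D3911) (tt N1324 D3912))
theorem Q869 : ∀ i, i < 869 → P i := stepQ 868 Q868 (allL N868 (tt N1323 (iv F5977)) (tt N1325 D3913) (tt N1253 (iv F5693)) (tt N1225 (iv F5125)) (tt N1288 (iv F5864)) (tt N543 (iv D1879)) (tt N1326 D3914))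
theorem Q870 : ∀ i, i < 870 → P i := stepQ 869 Q869 (allL N869 (tt N1324 (iv F5978)) (tt N1327 D3915) (tt N1254 (iv F5694)) (tt N1226 (iv F5126)) (tt N1289 (iv F5865)) (tt N1328 D3916) (tt N543 (iv D1880)))
theorem Q871 : ∀ i, i < 871 → P i := stepQ 870 Q870 (allL N870 (tt N1329 D3917) (tt N544 (iv D1881)) (tt N1330 D3918) (tt N1227 (iv F5127)) (tt N1292 (iv F5868)) (tt N1325 (iv F5979)) (tt N1331 D3919))
theorem Q872 : ∀ i, i < 872 → P i := stepQ 871 Q871 (allL N871 (tt N873 (iv F3034)) (tt N1332 D3920) (tt N547 F3032) (tt N873 (iv F3036)) (tt N1293 (iv F5870)) (tt N795 F3033) (tt N544 (iv D1882)))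
theorem Q873 : ∀ i, i < 873 → P i := stepQ 872 Q872 (allL N872 (tt N1333 D3921) (tt N545 (iv D1883)) (tt N1334 D3922) (tt N1228 (iv F5128)) (tt N1294 (iv F5872)) (tt N1335 D3923) (tt N1327 (iv F5981)))
theorem Q874 : ∀ i, i < 874 → P i := stepQ 873 Q873 (allL N873 (tt N871 F3034) (tt N1336 D3924) (tt N549 F3035) (tt N871 F3036) (tt N1295 (iv F5875)) (tt N545 (iv D1884)) (tt N794 F3037))
theorem Q875 : ∀ i, i < 875 → P i := stepQ 874 Q874 (allL N874 (tt N546 (iv D1885)) (tt N1337 D3925) (tt N1338 D3926) (tt N550 F3038) (tt N1296 (iv F5878)) (tt N1262 (iv F5703)) (tt N1269 F17157))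
theorem Q876 : ∀ i, i < 876 → P i := stepQ 875 Q875 (allL N875 (tt N1338 (iv F5988)) (tt N1330 (iv F5984)) (tt N546 (iv D1886)) (tt N1339 D3928) (tt N1297 (iv F5879)) (tt N1263 (iv F5704)) (tt N1340 D3929))
theorem Q877 : ∀ i, i < 877 → P i := stepQ 876 Q876 (allL N876 (tt N1269 F17153) (tt N1341 D3930) (tt N1340 (iv F5992)) (tt N552 F3039) (tt N1298 (iv F5881)) (tt N1342 D3931) (tt N546 (iv D1887)))
theorem Q878 : ∀ i, i < 878 → P i := stepQ 877 Q877 (allL N877 (tt N1343 D3932) (tt N547 (iv D1888)) (tt N1344 D3933) (tt N553 F3040) (tt N1299 (iv F5883)) (tt N877 F17055) (tt N1341 (iv F5994)))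
theorem Q879 : ∀ i, i < 879 → P i := stepQ 878 Q878 (allL N878 (tt N548 (iv D1889)) (tt N1345 D3935) (tt N1346 D3936) (tt N554 F3041) (tt N1300 (iv F5885)) (tt N1265 (iv F17067)) (tt N1266 (iv F5708)))
theorem Q880 : ∀ i, i < 880 → P i := stepQ 879 Q879 (allL N879 (tt N1346 (iv F6002)) (tt N1334 (iv F5985)) (tt N548 (iv D1890)) (tt N1347 D3938) (tt N1301 (iv F5886)) (tt N1348 D3939) (tt N1267 (iv F5709)))
theorem Q881 : ∀ i, i < 881 → P i := stepQ 880 Q880 (allL N880 (tt N1265 (iv F17066)) (tt N1349 D3940) (tt N1348 (iv F6006)) (tt N556 F3042) (tt N1302 (iv F5888)) (tt N548 (iv D1891)) (tt N1350 D3941))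
theorem Q882 : ∀ i, i < 882 → P i := stepQ 881 Q881 (allL N881 (tt N1351 D3942) (tt N549 (iv D1892)) (tt N1352 D3943) (tt N557 F3043) (tt N1303 (iv F5890)) (tt N1349 (iv F6008)) (tt N881 F15185))
theorem Q883 : ∀ i, i < 883 → P i := stepQ 882 Q882 (allL N882 (tt N882 F15210) (tt N550 (iv D1893)) (tt N882 F15173) (tt N1337 (iv F5987)) (tt N558 F3044) (tt N882 F15174) (tt N804 F17158))
theorem Q884 : ∀ i, i < 884 → P i := stepQ 883 Q883 (allL N883 (tt N551 F3045) (tt N883 F14942) (tt N550 (iv D1894)) (tt N1353 D3950) (tt N559 F3046) (tt N1270 (iv F5715)) (tt N1277 F17091))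
theorem Q885 : ∀ i, i < 885 → P i := stepQ 884 Q884 (allL N884 (tt N1353 (iv F6020)) (tt N574 F3050) (tt N1354 D3953) (tt N551 (iv D1896)) (tt N1355 D3954) (tt N1271 (iv F5717)) (tt N1356 D3955))
theorem Q886 : ∀ i, i < 886 → P i := stepQ 885 Q885 (allL N885 (tt N1277 F17087) (tt N1357 D3956) (tt N552 F3051) (tt N1356 (iv F6028)) (tt N561 F3052) (tt N1358 D3957) (tt N551 (iv D1897)))
theorem Q887 : ∀ i, i < 887 → P i := stepQ 886 Q886 (allL N886 (tt N1359 D3958) (tt N552 (iv D1898)) (tt N1360 D3959) (tt N1341 (iv F5993)) (tt N562 F3053) (tt N1359 F17056) (tt N553 F3054))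
theorem Q888 : ∀ i, i < 888 → P i := stepQ 887 Q887 (allL N887 (tt N827 F3055) (tt N896 (iv F17169)) (tt N1358 (iv F6032)) (tt N1342 (iv F5996)) (tt N563 F3056) (tt N552 (iv D1899)) (tt N825 F3057))
theorem Q889 : ∀ i, i < 889 → P i := stepQ 888 Q888 (allL N888 (tt N553 (iv D1900)) (tt N895 (iv F15539)) (tt N1361 D3963) (tt N1343 (iv F5998)) (tt N564 F3058) (tt N888 F17034) (tt N1359 (iv F6036)))
theorem Q890 : ∀ i, i < 890 → P i := stepQ 889 Q889 (allL N889 (tt N1361 (iv F6042)) (tt N576 F3059) (tt N553 (iv D1901)) (tt N1362 D3965) (tt N565 F3060) (tt N889 F16794) (tt N1360 (iv F6038)))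
theorem Q891 : ∀ i, i < 891 → P i := stepQ 890 Q890 (allL N890 (tt N890 F17029) (tt N554 (iv D1903)) (tt N890 F17030) (tt N1345 (iv F6001)) (tt N566 F3063) (tt N805 F17031) (tt N890 F17032))
theorem Q892 : ∀ i, i < 892 → P i := stepQ 891 Q891 (allL N891 (tt N555 F3064) (tt N891 F16775) (tt N554 (iv D1904)) (tt N1363 D3973) (tt N567 F3065) (tt N1273 (iv F16814)) (tt N1274 (iv F5730)))
theorem Q893 : ∀ i, i < 893 → P i := stepQ 892 Q892 (allL N892 (tt N1363 (iv F6059)) (tt N577 F3069) (tt N1364 D3976) (tt N555 (iv D1906)) (tt N1365 D3977) (tt N1366 D3978) (tt N1275 (iv F5732)))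
theorem Q894 : ∀ i, i < 894 → P i := stepQ 893 Q893 (allL N893 (tt N1273 (iv F16813)) (tt N1367 D3979) (tt N556 F3070) (tt N1366 (iv F6067)) (tt N569 F3071) (tt N555 (iv D1907)) (tt N1368 D3980))
theorem Q895 : ∀ i, i < 895 → P i := stepQ 894 Q894 (allL N894 (tt N1369 D3981) (tt N556 (iv D1908)) (tt N1370 D3982) (tt N1349 (iv F6007)) (tt N570 F3072) (tt N557 F3073) (tt N1369 (iv F15346)))
theorem Q896 : ∀ i, i < 896 → P i := stepQ 895 Q895 (allL N895 (tt N831 F3074) (tt N888 F15539) (tt N1368 (iv F6071)) (tt N1350 (iv F6010)) (tt N571 F3075) (tt N829 F3076) (tt N556 (iv D1909)))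
theorem Q897 : ∀ i, i < 897 → P i := stepQ 896 Q896 (allL N896 (tt N557 (iv D1910)) (tt N887 F17169) (tt N1371 D3986) (tt N1351 (iv F6012)) (tt N572 F3077) (tt N1369 (iv F6075)) (tt N896 F15182))
theorem Q898 : ∀ i, i < 898 → P i := stepQ 897 Q897 (allL N897 (tt N1371 (iv F6081)) (tt N579 F3078) (tt N557 (iv D1911)) (tt N1372 D3988) (tt N573 F3079) (tt N1370 (iv F6077)) (tt N897 F14938))
theorem Q899 : ∀ i, i < 899 → P i := stepQ 898 Q898 (allL N898 (tt N560 F3082) (tt N898 F14769) (tt N1279 F14727) (tt N559 (iv D1918)) (tt N1373 D4006) (tt N1279 (iv F5745)) (tt N1285 F17102))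
theorem Q900 : ∀ i, i < 900 → P i := stepQ 899 Q899 (allL N899 (tt N1373 (iv F6107)) (tt N580 F3087) (tt N1280 F14729) (tt N1355 (iv F6027)) (tt N560 (iv D1922)) (tt N1280 (iv F5748)) (tt N1374 D4015))
theorem Q901 : ∀ i, i < 901 → P i := stepQ 900 Q900 (allL N900 (tt N1285 F17096) (tt N1375 D4016) (tt N1215 F32651) (tt N561 F3088) (tt N1374 (iv F6118)) (tt N1376 D4017) (tt N560 (iv D1923)))
theorem Q902 : ∀ i, i < 902 → P i := stepQ 901 Q901 (allL N901 (tt N1377 D4018) (tt N561 (iv D1924)) (tt N934 (iv F3169)) (tt N1375 (iv F6119)) (tt N1357 (iv F6029)) (tt N1375 (iv F32720)) (tt N582 F3089))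
theorem Q903 : ∀ i, i < 903 → P i := stepQ 902 Q902 (allL N902 (tt N835 F3090) (tt N1376 F32710) (tt N563 F3091) (tt N1376 (iv F6122)) (tt N1358 (iv F6033)) (tt N561 (iv D1925)) (tt N833 F3092))
theorem Q904 : ∀ i, i < 904 → P i := stepQ 903 Q903 (allL N903 (tt N562 (iv D1926)) (tt N912 (iv F15468)) (tt N1188 F32841) (tt N1316 (iv F5937)) (tt N1359 (iv F6035)) (tt N562 (iv F16931)) (tt N564 F3093))
theorem Q905 : ∀ i, i < 905 → P i := stepQ 904 Q904 (allL N904 (tt N1188 F32805) (tt N934 (iv F3168)) (tt N562 (iv D1927)) (tt N1186 F32806) (tt N1360 (iv F6037)) (tt N1188 F32807) (tt N565 F3094))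
theorem Q906 : ∀ i, i < 906 → P i := stepQ 905 Q905 (allL N905 (tt N565 F3095) (tt N1281 (iv F32868)) (tt N564 (iv D1931)) (tt N620 F32848) (tt N1361 (iv F6043)) (tt N905 F16797) (tt N1188 F32849))
theorem Q907 : ∀ i, i < 907 → P i := stepQ 906 Q906 (allL N906 (tt N620 F32845) (tt N583 F3098) (tt N619 F32846) (tt N565 (iv D1933)) (tt N1378 D4038) (tt N906 F16596) (tt N1186 F32847))
theorem Q908 : ∀ i, i < 908 → P i := stepQ 907 Q907 (allL N907 (tt N568 F3103) (tt N907 F16570) (tt N1283 F16514) (tt N567 (iv D1941)) (tt N1379 D4057) (tt N1281 (iv F16606)) (tt N1283 (iv F5762)))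
theorem Q909 : ∀ i, i < 909 → P i := stepQ 908 Q908 (allL N908 (tt N1379 (iv F6157)) (tt N584 F3107) (tt N1284 F16516) (tt N1365 (iv F6066)) (tt N568 (iv D1945)) (tt N1380 D4064) (tt N1284 (iv F5765)))
theorem Q910 : ∀ i, i < 910 → P i := stepQ 909 Q909 (allL N909 (tt N1281 (iv F16605)) (tt N1381 D4065) (tt N1216 F32863) (tt N569 F3108) (tt N1380 (iv F6168)) (tt N568 (iv D1946)) (tt N1382 D4066))
theorem Q911 : ∀ i, i < 911 → P i := stepQ 910 Q910 (allL N910 (tt N1383 D4067) (tt N569 (iv D1947)) (tt N929 (iv F3148)) (tt N1381 (iv F6169)) (tt N1367 (iv F6068)) (tt N586 F3109) (tt N1381 (iv F32804)))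
theorem Q912 : ∀ i, i < 912 → P i := stepQ 911 Q911 (allL N911 (tt N839 F3110) (tt N1382 (iv F32865)) (tt N571 F3111) (tt N1382 (iv F6172)) (tt N1368 (iv F6072)) (tt N837 F3112) (tt N569 (iv D1948)))
theorem Q913 : ∀ i, i < 913 → P i := stepQ 912 Q912 (allL N912 (tt N570 (iv D1949)) (tt N903 F15468) (tt N1195 F32787) (tt N1319 (iv F5963)) (tt N1369 (iv F6074)) (tt N572 F3113) (tt N570 F15189))
theorem Q914 : ∀ i, i < 914 → P i := stepQ 913 Q913 (allL N913 (tt N1195 (iv F32733)) (tt N929 (iv F3147)) (tt N570 (iv D1950)) (tt N1193 (iv F32717)) (tt N1370 (iv F6076)) (tt N573 F3114) (tt N1195 (iv F32736)))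
theorem Q915 : ∀ i, i < 915 → P i := stepQ 914 Q914 (allL N914 (tt N573 F3115) (tt N1285 F32711) (tt N572 (iv D1954)) (tt N623 (iv F32716)) (tt N1371 (iv F6082)) (tt N1195 (iv F32735)) (tt N914 F14940))
theorem Q916 : ∀ i, i < 916 → P i := stepQ 915 Q915 (allL N915 (tt N623 (iv F32715)) (tt N587 F3118) (tt N622 F32642) (tt N573 (iv D1956)) (tt N1384 D4087) (tt N1193 (iv F32718)) (tt N915 F14768))
theorem Q917 : ∀ i, i < 917 → P i := stepQ 916 Q916 (allL N916 (tt N1080 (iv F3834)) (tt N1385 D4091) (tt N574 (iv D1959)) (tt N1080 (iv F3836)) (tt N1386 D4092) (tt N670 F3123) (tt N1387 D4093))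
theorem Q918 : ∀ i, i < 918 → P i := stepQ 917 Q917 (allL N917 (tt N1079 (iv F3831)) (tt N1355 (iv F6026)) (tt N1386 (iv F6198)) (tt N580 F3124) (tt N574 (iv D1960)) (tt N671 F3125) (tt N1388 D4094))
theorem Q919 : ∀ i, i < 919 → P i := stepQ 918 Q918 (allL N918 (tt N1053 (iv F3706)) (tt N1389 D4095) (tt N1387 (iv F6200)) (tt N575 F3126) (tt N1388 (iv F6202)) (tt N925 (iv F3142)) (tt N574 (iv D1961)))
theorem Q920 : ∀ i, i < 920 → P i := stepQ 919 Q919 (allL N919 (tt N1390 D4096) (tt N575 (iv D1962)) (tt N924 (iv F3139)) (tt N1389 (iv F6203)) (tt N582 F3127) (tt N1391 D4097) (tt N1357 (iv F6030)))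
theorem Q921 : ∀ i, i < 921 → P i := stepQ 920 Q920 (allL N920 (tt N678 F3128) (tt N1362 (iv F6047)) (tt N1392 D4098) (tt N576 (iv D1963)) (tt N1393 D4099) (tt N675 F3129) (tt N923 (iv F3138)))
theorem Q922 : ∀ i, i < 922 → P i := stepQ 921 Q921 (allL N921 (tt N1085 (iv F15768)) (tt N1394 D4106) (tt N577 (iv D1966)) (tt N1085 (iv F15769)) (tt N1395 D4107) (tt N1396 D4108) (tt N676 F3134))
theorem Q923 : ∀ i, i < 923 → P i := stepQ 922 Q922 (allL N922 (tt N1084 (iv F15765)) (tt N1365 (iv F6065)) (tt N1395 (iv F6228)) (tt N584 F3135) (tt N577 (iv D1967)) (tt N1397 D4109) (tt N677 F3136))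
theorem Q924 : ∀ i, i < 924 → P i := stepQ 923 Q923 (allL N923 (tt N1064 (iv F3731)) (tt N1398 D4110) (tt N1396 (iv F6230)) (tt N578 F3137) (tt N1397 (iv F6233)) (tt N577 (iv D1968)) (tt N920 F3138))
theorem Q925 : ∀ i, i < 925 → P i := stepQ 924 Q924 (allL N924 (tt N1399 D4111) (tt N578 (iv D1969)) (tt N919 F3139) (tt N1398 (iv F6235)) (tt N586 F3140) (tt N1367 (iv F6069)) (tt N1400 D4112))
theorem Q926 : ∀ i, i < 926 → P i := stepQ 925 Q925 (allL N925 (tt N672 F3141) (tt N1372 (iv F6086)) (tt N1401 D4113) (tt N579 (iv D1970)) (tt N1402 D4114) (tt N918 F3142) (tt N669 F3143))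
theorem Q927 : ∀ i, i < 927 → P i := stepQ 926 Q926 (allL N926 (tt N1069 (iv F3758)) (tt N1403 D4115) (tt N682 F3144) (tt N1388 (iv F6201)) (tt N581 F3145) (tt N935 (iv F3171)) (tt N580 (iv D1971)))
theorem Q928 : ∀ i, i < 928 → P i := stepQ 927 Q927 (allL N927 (tt N929 (iv F32697)) (tt N581 (iv D1972)) (tt N1383 (iv F32722)) (tt N582 F3146) (tt N1403 (iv F6249)) (tt N928 (iv F32696)) (tt N1375 (iv F6120)))
theorem Q929 : ∀ i, i < 929 → P i := stepQ 928 Q928 (allL N928 (tt N582 (iv D1973)) (tt N1193 F15614) (tt N933 (iv F3167)) (tt N929 (iv F32698)) (tt N1390 (iv F6204)) (tt N927 F32696) (tt N1377 (iv F6124)))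
theorem Q930 : ∀ i, i < 930 → P i := stepQ 929 Q929 (allL N929 (tt N927 F32697) (tt N913 F3147) (tt N910 F3148) (tt N928 F32698) (tt N1391 (iv F6207)) (tt N582 (iv D1974)) (tt N1072 F6180))
theorem Q931 : ∀ i, i < 931 → P i := stepQ 930 Q930 (allL N930 (tt N689 F3149) (tt N1378 (iv F6135)) (tt N1074 (iv F15748)) (tt N1393 (iv F6212)) (tt N583 (iv D1975)) (tt N688 F3150) (tt N931 (iv F3165)))
theorem Q932 : ∀ i, i < 932 → P i := stepQ 931 Q931 (allL N931 (tt N1074 (iv F3798)) (tt N1404 D4138) (tt N689 (iv F15747)) (tt N1397 (iv F6232)) (tt N585 F3164) (tt N584 (iv D1984)) (tt N930 F3165))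
theorem Q933 : ∀ i, i < 933 → P i := stepQ 932 Q932 (allL N932 (tt N934 (iv F32752)) (tt N585 (iv D1985)) (tt N1377 F32750) (tt N586 F3166) (tt N1404 (iv F6279)) (tt N1381 (iv F6170)) (tt N933 F32751))
theorem Q934 : ∀ i, i < 934 → P i := stepQ 933 Q933 (allL N933 (tt N586 (iv D1986)) (tt N1186 (iv F15696)) (tt N928 F3167) (tt N934 (iv F32753)) (tt N1399 (iv F6237)) (tt N1383 (iv F6174)) (tt N932 (iv F32751)))
theorem Q935 : ∀ i, i < 935 → P i := stepQ 934 Q934 (allL N934 (tt N932 F32752) (tt N904 F3168) (tt N901 F3169) (tt N933 F32753) (tt N1400 (iv F6240)) (tt N1075 F15880) (tt N586 (iv D1987)))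
theorem Q936 : ∀ i, i < 936 → P i := stepQ 935 Q935 (allL N935 (tt N682 F3170) (tt N1384 (iv F6191)) (tt N1069 (iv F3759)) (tt N1402 (iv F6246)) (tt N587 (iv D1988)) (tt N926 F3171) (tt N681 F3172))
theorem Q937 : ∀ i, i < 937 → P i := stepQ 936 Q936 (allL N936 (tt N936 F3205) (tt N936 F3206) (tt N936 F15661) (tt N588 (iv D2010)) (tt N786 F16000) (tt N936 F15331) (tt N936 F17136))
theorem Q938 : ∀ i, i < 938 → P i := stepQ 937 Q937 (allL N937 (tt N937 F3207) (tt N937 F3208) (tt N589 F3209) (tt N787 F16002) (tt N588 (iv D2011)) (tt N937 F15328) (tt N937 F17135))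
theorem Q939 : ∀ i, i < 939 → P i := stepQ 938 Q938 (allL N938 (tt N938 F3214) (tt N591 F3215) (tt N1405 D4204) (tt N589 (iv D2014)) (tt N590 F3216) (tt N938 F15326) (tt N938 F17134))
theorem Q940 : ∀ i, i < 940 → P i := stepQ 939 Q939 (allL N939 (tt N939 F3228) (tt N1406 D4217) (tt N590 (iv D2020)) (tt N1407 D4218) (tt N1405 (iv F6380)) (tt N939 F15397) (tt N939 F17143))
theorem Q941 : ∀ i, i < 941 → P i := stepQ 940 Q940 (allL N940 (tt N597 F3244) (tt N1408 D4237) (tt N591 (iv D2033)) (tt N1409 D4238) (tt N594 F3245) (tt N1410 D4239) (tt N1411 D4240))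
theorem Q942 : ∀ i, i < 942 → P i := stepQ 941 Q941 (allL N941 (tt N598 F3246) (tt N941 F15026) (tt N1410 (iv F6455)) (tt N592 F3247) (tt N595 F3248) (tt N591 (iv D2034)) (tt N954 (iv F3304)))
theorem Q943 : ∀ i, i < 943 → P i := stepQ 942 Q942 (allL N942 (tt N599 F3249) (tt N942 F16892) (tt N1411 (iv F6458)) (tt N593 F3250) (tt N596 F3251) (tt N952 (iv F3297)) (tt N591 (iv D2035)))
theorem Q944 : ∀ i, i < 944 → P i := stepQ 943 Q943 (allL N943 (tt N1412 D4261) (tt N594 (iv D2044)) (tt N1406 (iv F6405)) (tt N1413 D4262) (tt N1408 (iv F6451)) (tt N1414 D4263) (tt N1415 D4264))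
theorem Q945 : ∀ i, i < 945 → P i := stepQ 944 Q944 (allL N944 (tt N607 F3260) (tt N1413 (iv F6498)) (tt N818 F3261) (tt N594 (iv D2045)) (tt N1416 D4265) (tt N1417 D4266) (tt N1418 D4267))
theorem Q946 : ∀ i, i < 946 → P i := stepQ 945 Q945 (allL N945 (tt N608 F3262) (tt N1419 D4268) (tt N595 F3263) (tt N1417 (iv F6503)) (tt N1410 (iv F6456)) (tt N594 (iv D2046)) (tt N972 (iv F3355)))
theorem Q947 : ∀ i, i < 947 → P i := stepQ 946 Q946 (allL N946 (tt N609 F3264) (tt N1420 D4269) (tt N596 F3265) (tt N1418 (iv F6506)) (tt N1411 (iv F6459)) (tt N970 (iv F3352)) (tt N594 (iv D2047)))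
theorem Q948 : ∀ i, i < 948 → P i := stepQ 947 Q947 (allL N947 (tt N1421 D4305) (tt N597 (iv D2068)) (tt N624 F3286) (tt N1421 F16036) (tt N606 F3287) (tt N1422 D4307) (tt N1423 D4308))
theorem Q949 : ∀ i, i < 949 → P i := stepQ 948 Q948 (allL N948 (tt N1409 (iv F6452)) (tt N1421 (iv F16035)) (tt N1409 (iv F6453)) (tt N597 (iv D2069)) (tt N1424 D4309) (tt N1425 D4310) (tt N1426 D4311))
theorem Q950 : ∀ i, i < 950 → P i := stepQ 949 Q949 (allL N949 (tt N1410 (iv F6454)) (tt N1427 D4312) (tt N598 F3288) (tt N1425 (iv F6567)) (tt N608 F3289) (tt N597 (iv D2070)) (tt N1428 D4313))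
theorem Q951 : ∀ i, i < 951 → P i := stepQ 950 Q950 (allL N950 (tt N1411 (iv F6457)) (tt N1429 D4314) (tt N599 F3290) (tt N1426 (iv F6568)) (tt N609 F3291) (tt N1430 D4315) (tt N597 (iv D2071)))
theorem Q952 : ∀ i, i < 952 → P i := stepQ 951 Q951 (allL N951 (tt N1000 (iv F14758)) (tt N598 (iv D2072)) (tt N1431 D4317) (tt N600 F3292) (tt N610 F3293) (tt N628 F3294) (tt N1111 F17082))
theorem Q953 : ∀ i, i < 953 → P i := stepQ 952 Q952 (allL N952 (tt N954 (iv F3301)) (tt N1432 D4319) (tt N1428 (iv F6570)) (tt N601 F3295) (tt N611 F3296) (tt N942 F3297) (tt N598 (iv D2073)))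
theorem Q954 : ∀ i, i < 954 → P i := stepQ 953 Q953 (allL N953 (tt N1002 (iv F16566)) (tt N599 (iv D2074)) (tt N1433 D4321) (tt N602 F3298) (tt N612 F3299) (tt N1115 F16678) (tt N629 F3300))
theorem Q955 : ∀ i, i < 955 → P i := stepQ 954 Q954 (allL N954 (tt N952 F3301) (tt N1434 D4323) (tt N1430 (iv F6575)) (tt N603 F3302) (tt N613 F3303) (tt N599 (iv D2075)) (tt N941 F3304))
theorem Q956 : ∀ i, i < 956 → P i := stepQ 955 Q955 (allL N955 (tt N1435 D4329) (tt N601 (iv D2079)) (tt N1436 D4330) (tt N1432 (iv F6585)) (tt N604 F3311) (tt N955 F16750) (tt N1117 (iv F16884)))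
theorem Q957 : ∀ i, i < 957 → P i := stepQ 956 Q956 (allL N956 (tt N1437 D4337) (tt N603 (iv D2083)) (tt N1438 D4338) (tt N1434 (iv F6594)) (tt N605 F3318) (tt N1118 F16774) (tt N956 F15160))
theorem Q958 : ∀ i, i < 958 → P i := stepQ 957 Q957 (allL N957 (tt N604 (iv D2089)) (tt N637 (iv F15126)) (tt N1439 D4353) (tt N619 F3327) (tt N1435 (iv F6606)) (tt N957 F16561) (tt N1119 (iv F16650)))
theorem Q959 : ∀ i, i < 959 → P i := stepQ 958 Q958 (allL N958 (tt N1439 (iv F6646)) (tt N958 F3328) (tt N604 (iv D2090)) (tt N861 (iv F32903)) (tt N1436 (iv F6608)) (tt N958 F16752) (tt N1120 (iv F16887)))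
theorem Q960 : ∀ i, i < 960 → P i := stepQ 959 Q959 (allL N959 (tt N605 (iv D2097)) (tt N636 F16829) (tt N1440 D4370) (tt N622 F3339) (tt N1437 (iv F6621)) (tt N1121 F16830) (tt N959 F15123))
theorem Q961 : ∀ i, i < 961 → P i := stepQ 960 Q960 (allL N960 (tt N1440 (iv F6673)) (tt N960 F3340) (tt N605 (iv D2098)) (tt N866 (iv F32842)) (tt N1438 (iv F6623)) (tt N1122 F16832) (tt N960 F15163))
theorem Q962 : ∀ i, i < 962 → P i := stepQ 961 Q961 (allL N961 (tt N606 (iv D2100)) (tt N1424 F16031) (tt N638 F3343) (tt N1441 D4375) (tt N1421 (iv F6560)) (tt N1442 D4376) (tt N1443 D4377))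
theorem Q963 : ∀ i, i < 963 → P i := stepQ 962 Q962 (allL N962 (tt N1441 (iv F6679)) (tt N607 F3344) (tt N1441 (iv F6680)) (tt N606 (iv D2101)) (tt N1441 F16030) (tt N1444 D4379) (tt N1445 D4380))
theorem Q964 : ∀ i, i < 964 → P i := stepQ 963 Q963 (allL N963 (tt N1442 (iv F6681)) (tt N1446 D4381) (tt N639 F3345) (tt N1444 (iv F6686)) (tt N1422 (iv F6563)) (tt N606 (iv D2102)) (tt N1447 D4382))
theorem Q965 : ∀ i, i < 965 → P i := stepQ 964 Q964 (allL N964 (tt N1443 (iv F6683)) (tt N1448 D4383) (tt N640 F3346) (tt N1445 (iv F6687)) (tt N1423 (iv F6565)) (tt N1449 D4384) (tt N606 (iv D2103)))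
theorem Q966 : ∀ i, i < 966 → P i := stepQ 965 Q965 (allL N965 (tt N818 F3347) (tt N1450 D4385) (tt N607 (iv D2104)) (tt N801 F3348) (tt N1450 F16021) (tt N1451 D4387) (tt N1452 D4388))
theorem Q967 : ∀ i, i < 967 → P i := stepQ 966 Q966 (allL N966 (tt N1416 (iv F6499)) (tt N1441 (iv F16029)) (tt N1450 F16022) (tt N1424 (iv F6566)) (tt N607 (iv D2105)) (tt N1453 D4389) (tt N1454 D4390))
theorem Q968 : ∀ i, i < 968 → P i := stepQ 967 Q967 (allL N967 (tt N1417 (iv F6501)) (tt N1455 D4391) (tt N1451 (iv F6699)) (tt N608 F3349) (tt N1453 (iv F6704)) (tt N607 (iv D2106)) (tt N1456 D4392))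
theorem Q969 : ∀ i, i < 969 → P i := stepQ 968 Q968 (allL N968 (tt N1418 (iv F6504)) (tt N1457 D4393) (tt N1452 (iv F6702)) (tt N609 F3350) (tt N1454 (iv F6705)) (tt N1458 D4394) (tt N607 (iv D2107)))
theorem Q970 : ∀ i, i < 970 → P i := stepQ 969 Q969 (allL N969 (tt N1459 D4395) (tt N608 (iv D2108)) (tt N1460 D4396) (tt N1455 (iv F6706)) (tt N1427 (iv F6569)) (tt N1446 (iv F6688)) (tt N1461 D4397))
theorem Q971 : ∀ i, i < 971 → P i := stepQ 970 Q970 (allL N970 (tt N972 (iv F3353)) (tt N1462 D4398) (tt N611 F3351) (tt N1456 (iv F6707)) (tt N1428 (iv F6571)) (tt N946 F3352) (tt N608 (iv D2109)))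
theorem Q972 : ∀ i, i < 972 → P i := stepQ 971 Q971 (allL N971 (tt N1463 D4399) (tt N609 (iv D2110)) (tt N1464 D4400) (tt N1457 (iv F6709)) (tt N1429 (iv F6573)) (tt N1465 D4401) (tt N1448 (iv F6691)))
theorem Q973 : ∀ i, i < 973 → P i := stepQ 972 Q972 (allL N972 (tt N970 F3353) (tt N1466 D4402) (tt N613 F3354) (tt N1458 (iv F6711)) (tt N1430 (iv F6576)) (tt N609 (iv D2111)) (tt N945 F3355))
theorem Q974 : ∀ i, i < 974 → P i := stepQ 973 Q973 (allL N973 (tt N1160 F17117) (tt N1460 (iv F6713)) (tt N610 (iv D2113)) (tt N1467 D4405) (tt N1431 (iv F6581)) (tt N644 F3358) (tt N1162 F17118))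
theorem Q975 : ∀ i, i < 975 → P i := stepQ 974 Q974 (allL N974 (tt N1468 D4408) (tt N611 (iv D2115)) (tt N1469 D4409) (tt N615 F3360) (tt N1432 (iv F6586)) (tt N974 F16756) (tt N1161 (iv F16890)))
theorem Q976 : ∀ i, i < 976 → P i := stepQ 975 Q975 (allL N975 (tt N1167 F16679) (tt N1464 (iv F6714)) (tt N612 (iv D2117)) (tt N1470 D4413) (tt N1433 (iv F6590)) (tt N1169 (iv F16711)) (tt N647 F3363))
theorem Q977 : ∀ i, i < 977 → P i := stepQ 976 Q976 (allL N976 (tt N1471 D4416) (tt N613 (iv D2119)) (tt N1472 D4417) (tt N617 F3365) (tt N1434 (iv F6595)) (tt N1168 F16839) (tt N976 F15250))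
theorem Q978 : ∀ i, i < 978 → P i := stepQ 977 Q977 (allL N977 (tt N1171 F17120) (tt N1271 (iv F5716)) (tt N1473 D4422) (tt N614 (iv D2122)) (tt N1474 D4423) (tt N651 F3372) (tt N1175 F17121))
theorem Q979 : ∀ i, i < 979 → P i := stepQ 978 Q978 (allL N978 (tt N615 (iv D2125)) (tt N654 (iv F15144)) (tt N1378 (iv F32790)) (tt N1468 (iv F6722)) (tt N619 F3377) (tt N978 F16562) (tt N1172 (iv F16655)))
theorem Q980 : ∀ i, i < 980 → P i := stepQ 979 Q979 (allL N979 (tt N1378 (iv F32789)) (tt N1273 (iv F5723)) (tt N615 (iv D2126)) (tt N1475 D4431) (tt N620 F3378) (tt N979 F16758) (tt N1173 (iv F16862)))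
theorem Q981 : ∀ i, i < 981 → P i := stepQ 980 Q980 (allL N980 (tt N1178 F16581) (tt N1275 (iv F5731)) (tt N1476 D4439) (tt N616 (iv D2130)) (tt N1477 D4440) (tt N1182 F16582) (tt N655 F3385))
theorem Q982 : ∀ i, i < 982 → P i := stepQ 981 Q981 (allL N981 (tt N617 (iv D2133)) (tt N650 F16834) (tt N1384 (iv F32570)) (tt N1471 (iv F6732)) (tt N622 F3390) (tt N1179 F16835) (tt N981 F15141))
theorem Q983 : ∀ i, i < 983 → P i := stepQ 982 Q982 (allL N982 (tt N1384 F32643) (tt N1277 (iv F5738)) (tt N617 (iv D2134)) (tt N1478 D4448) (tt N623 F3391) (tt N1180 F16837) (tt N982 F15257))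
theorem Q984 : ∀ i, i < 984 → P i := stepQ 983 Q983 (allL N983 (tt N1185 (iv F17114)) (tt N1280 (iv F5747)) (tt N660 F14694) (tt N1474 (iv F6746)) (tt N618 (iv D2140)) (tt N660 F3406) (tt N1191 F17109))
theorem Q985 : ∀ i, i < 985 → P i := stepQ 984 Q984 (allL N984 (tt N1192 F16490) (tt N1284 (iv F5764)) (tt N666 F16457) (tt N1477 (iv F6776)) (tt N621 (iv D2158)) (tt N1198 F16491) (tt N666 F3424))
theorem Q986 : ∀ i, i < 986 → P i := stepQ 985 Q985 (allL N985 (tt N624 (iv D2169)) (tt N1479 D4503) (tt N1421 (iv F6559)) (tt N1480 D4504) (tt N638 F3440) (tt N1481 D4505) (tt N1482 D4506))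
theorem Q987 : ∀ i, i < 987 → P i := stepQ 986 Q986 (allL N986 (tt N1480 (iv F6859)) (tt N625 F3441) (tt N1483 D4507) (tt N624 (iv D2170)) (tt N706 F3442) (tt N1484 D4508) (tt N1485 D4509))
theorem Q988 : ∀ i, i < 988 → P i := stepQ 987 Q987 (allL N987 (tt N1481 (iv F6861)) (tt N1486 D4510) (tt N1422 (iv F6562)) (tt N1484 (iv F6867)) (tt N639 F3443) (tt N624 (iv D2171)) (tt N1487 D4511))
theorem Q989 : ∀ i, i < 989 → P i := stepQ 988 Q988 (allL N988 (tt N1482 (iv F6863)) (tt N1488 D4512) (tt N1423 (iv F6564)) (tt N1485 (iv F6869)) (tt N640 F3444) (tt N1489 D4513) (tt N624 (iv D2172)))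
theorem Q990 : ∀ i, i < 990 → P i := stepQ 989 Q989 (allL N989 (tt N709 F3445) (tt N1490 D4514) (tt N989 F3446) (tt N626 F3447) (tt N709 F3448) (tt N625 (iv D2173)) (tt N1100 (iv F3930)))
theorem Q991 : ∀ i, i < 991 → P i := stepQ 990 Q990 (allL N990 (tt N710 F3449) (tt N1491 D4515) (tt N990 F3450) (tt N627 F3451) (tt N710 F3452) (tt N1098 (iv F3924)) (tt N625 (iv D2174)))
theorem Q992 : ∀ i, i < 992 → P i := stepQ 991 Q991 (allL N991 (tt N1492 D4516) (tt N626 (iv D2175)) (tt N1493 D4517) (tt N1490 (iv F6880)) (tt N641 F3453) (tt N1486 (iv F6872)) (tt N1494 D4518))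
theorem Q993 : ∀ i, i < 993 → P i := stepQ 992 Q992 (allL N992 (tt N1495 D4519) (tt N627 (iv D2176)) (tt N1496 D4520) (tt N1491 (iv F6882)) (tt N642 F3454) (tt N1497 D4521) (tt N1488 (iv F6876)))
theorem Q994 : ∀ i, i < 994 → P i := stepQ 993 Q993 (allL N993 (tt N628 (iv D2177)) (tt N993 F14749) (tt N1498 D4523) (tt N630 F3455) (tt N643 F3456) (tt N1000 (iv F14760)) (tt N1499 D4524))
theorem Q995 : ∀ i, i < 995 → P i := stepQ 994 Q994 (allL N994 (tt N1498 (iv F6894)) (tt N1493 (iv F6885)) (tt N628 (iv D2178)) (tt N1500 D4525) (tt N644 F3457) (tt N1431 (iv F6582)) (tt N1501 D4526))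
theorem Q996 : ∀ i, i < 996 → P i := stepQ 995 Q995 (allL N995 (tt N1499 (iv F6896)) (tt N998 F16828) (tt N1501 (iv F6900)) (tt N632 F3458) (tt N645 F3459) (tt N717 (iv F16962)) (tt N628 (iv D2179)))
theorem Q997 : ∀ i, i < 997 → P i := stepQ 996 Q996 (allL N996 (tt N629 (iv D2180)) (tt N996 F16560) (tt N1502 D4529) (tt N633 F3460) (tt N646 F3461) (tt N1503 D4530) (tt N1002 (iv F16567)))
theorem Q998 : ∀ i, i < 998 → P i := stepQ 997 Q997 (allL N997 (tt N1502 (iv F6908)) (tt N1496 (iv F6889)) (tt N629 (iv D2181)) (tt N1504 D4531) (tt N647 F3462) (tt N1505 D4532) (tt N1433 (iv F6591)))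
theorem Q999 : ∀ i, i < 999 → P i := stepQ 998 Q998 (allL N998 (tt N1503 (iv F6910)) (tt N995 (iv F16828)) (tt N1505 (iv F6914)) (tt N635 F3463) (tt N648 F3464) (tt N629 (iv D2182)) (tt N720 F16741))
theorem Q1000 : ∀ i, i < 1000 → P i := stepQ 999 Q999 (allL N999 (tt N632 F3468) (tt N1437 (iv F16894)) (tt N721 (iv F16960)) (tt N1499 (iv F6897)) (tt N636 F3469) (tt N721 (iv F16961)) (tt N630 (iv D2185)))
theorem Q1001 : ∀ i, i < 1001 → P i := stepQ 1000 Q1000 (allL N1000 (tt N951 F14758) (tt N716 (iv F17182)) (tt N1506 D4542) (tt N631 (iv D2186)) (tt N742 F17079) (tt N993 F14760) (tt N717 F17080))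
theorem Q1002 : ∀ i, i < 1002 → P i := stepQ 1001 Q1001 (allL N1001 (tt N635 F3480) (tt N1435 F15284) (tt N722 F16662) (tt N1503 (iv F6911)) (tt N637 F3481) (tt N633 (iv D2191)) (tt N722 (iv F16569)))
theorem Q1003 : ∀ i, i < 1003 → P i := stepQ 1002 Q1002 (allL N1002 (tt N953 F16566) (tt N719 (iv F16639)) (tt N1507 D4556) (tt N634 (iv D2192)) (tt N747 F16575) (tt N720 (iv F16642)) (tt N996 F16567))
theorem Q1004 : ∀ i, i < 1004 → P i := stepQ 1003 Q1003 (allL N1003 (tt N1508 D4620) (tt N638 (iv D2223)) (tt N1509 D4621) (tt N725 F3522) (tt N1479 (iv F6858)) (tt N1510 D4622) (tt N1511 D4623))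
theorem Q1005 : ∀ i, i < 1005 → P i := stepQ 1004 Q1004 (allL N1004 (tt N639 F3523) (tt N1512 D4624) (tt N1442 (iv F6682)) (tt N726 F3524) (tt N1481 (iv F6862)) (tt N638 (iv D2224)) (tt N1009 (iv F3535)))
theorem Q1006 : ∀ i, i < 1006 → P i := stepQ 1005 Q1005 (allL N1005 (tt N640 F3525) (tt N1513 D4625) (tt N1443 (iv F6684)) (tt N727 F3526) (tt N1482 (iv F6864)) (tt N1007 (iv F3530)) (tt N638 (iv D2225)))
theorem Q1007 : ∀ i, i < 1007 → P i := stepQ 1006 Q1006 (allL N1006 (tt N1514 D4626) (tt N639 (iv D2226)) (tt N1515 D4627) (tt N728 F3527) (tt N1486 (iv F6871)) (tt N641 F3528) (tt N1516 D4628))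
theorem Q1008 : ∀ i, i < 1008 → P i := stepQ 1007 Q1007 (allL N1007 (tt N1009 (iv F3533)) (tt N1517 D4629) (tt N1447 (iv F6689)) (tt N729 F3529) (tt N1487 (iv F6873)) (tt N1005 F3530) (tt N639 (iv D2227)))
theorem Q1009 : ∀ i, i < 1009 → P i := stepQ 1008 Q1008 (allL N1008 (tt N1518 D4630) (tt N640 (iv D2228)) (tt N1519 D4631) (tt N730 F3531) (tt N1488 (iv F6875)) (tt N1520 D4632) (tt N642 F3532))
theorem Q1010 : ∀ i, i < 1010 → P i := stepQ 1009 Q1009 (allL N1009 (tt N1007 F3533) (tt N1521 D4633) (tt N1449 (iv F6693)) (tt N731 F3534) (tt N1489 (iv F6878)) (tt N640 (iv D2229)) (tt N1004 F3535))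
theorem Q1011 : ∀ i, i < 1011 → P i := stepQ 1010 Q1010 (allL N1010 (tt N641 (iv D2230)) (tt N1522 D4634) (tt N1523 D4635) (tt N732 F3536) (tt N1492 (iv F6884)) (tt N1514 (iv F7048)) (tt N1524 D4636))
theorem Q1012 : ∀ i, i < 1012 → P i := stepQ 1011 Q1011 (allL N1011 (tt N1523 (iv F7058)) (tt N644 F3537) (tt N641 (iv D2231)) (tt N1525 D4637) (tt N1493 (iv F6886)) (tt N1515 (iv F7049)) (tt N1526 D4638))
theorem Q1013 : ∀ i, i < 1013 → P i := stepQ 1012 Q1012 (allL N1012 (tt N1524 (iv F7059)) (tt N1156 (iv F4193)) (tt N1526 (iv F7063)) (tt N734 F3538) (tt N1494 (iv F6887)) (tt N1527 D4639) (tt N641 (iv D2232)))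
theorem Q1014 : ∀ i, i < 1014 → P i := stepQ 1013 Q1013 (allL N1013 (tt N642 (iv D2233)) (tt N1528 D4640) (tt N1529 D4641) (tt N736 F3539) (tt N1495 (iv F6888)) (tt N1530 D4642) (tt N1518 (iv F7053)))
theorem Q1015 : ∀ i, i < 1015 → P i := stepQ 1014 Q1014 (allL N1014 (tt N1529 (iv F7068)) (tt N647 F3540) (tt N642 (iv D2234)) (tt N1531 D4643) (tt N1496 (iv F6890)) (tt N1532 D4644) (tt N1519 (iv F7054)))
theorem Q1016 : ∀ i, i < 1016 → P i := stepQ 1015 Q1015 (allL N1015 (tt N1530 (iv F7069)) (tt N1146 (iv F4181)) (tt N1532 (iv F7073)) (tt N738 F3541) (tt N1497 (iv F6891)) (tt N642 (iv D2235)) (tt N1533 D4645))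
theorem Q1017 : ∀ i, i < 1017 → P i := stepQ 1016 Q1016 (allL N1016 (tt N644 F3543) (tt N1534 D4650) (tt N643 (iv D2237)) (tt N1535 D4651) (tt N1498 (iv F6895)) (tt N1160 F17116) (tt N1536 D4652))
theorem Q1018 : ∀ i, i < 1018 → P i := stepQ 1017 Q1017 (allL N1017 (tt N645 F3544) (tt N1471 (iv F16969)) (tt N1536 (iv F7083)) (tt N650 F3545) (tt N1499 (iv F6898)) (tt N743 (iv F17002)) (tt N643 (iv D2238)))
theorem Q1019 : ∀ i, i < 1019 → P i := stepQ 1018 Q1018 (allL N1018 (tt N1535 (iv F7081)) (tt N1525 (iv F7062)) (tt N1537 D4654) (tt N644 (iv D2239)) (tt N1538 D4655) (tt N1467 (iv F6718)) (tt N1539 D4656))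
theorem Q1020 : ∀ i, i < 1020 → P i := stepQ 1019 Q1019 (allL N1019 (tt N1536 (iv F7082)) (tt N1540 D4657) (tt N645 F3547) (tt N1539 (iv F7086)) (tt N1501 (iv F6901)) (tt N744 (iv F17003)) (tt N644 (iv D2240)))
theorem Q1021 : ∀ i, i < 1021 → P i := stepQ 1020 Q1020 (allL N1020 (tt N647 F3552) (tt N1541 D4664) (tt N646 (iv D2243)) (tt N1542 D4665) (tt N1502 (iv F6909)) (tt N1543 D4666) (tt N1167 (iv F16579)))
theorem Q1022 : ∀ i, i < 1022 → P i := stepQ 1021 Q1021 (allL N1021 (tt N648 F3553) (tt N1468 F15297) (tt N1543 (iv F7097)) (tt N654 F3554) (tt N1503 (iv F6912)) (tt N646 (iv D2244)) (tt N748 (iv F16592)))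
theorem Q1023 : ∀ i, i < 1023 → P i := stepQ 1022 Q1022 (allL N1022 (tt N1542 (iv F7095)) (tt N1531 (iv F7072)) (tt N1544 D4668) (tt N647 (iv D2245)) (tt N1545 D4669) (tt N1546 D4670) (tt N1470 (iv F6728)))
theorem Q1024 : ∀ i, i < 1024 → P i := stepQ 1023 Q1023 (allL N1023 (tt N1543 (iv F7096)) (tt N1547 D4671) (tt N648 F3556) (tt N1546 (iv F7100)) (tt N1505 (iv F6915)) (tt N647 (iv D2246)) (tt N749 F16745))
theorem Q1025 : ∀ i, i < 1025 → P i := stepQ 1024 Q1024 (allL N1024 (tt N1024 F14687) (tt N649 (iv D2252)) (tt N1024 F14690) (tt N1548 D4684) (tt N657 F3565) (tt N1024 F3566) (tt N1076 (iv F32485)))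
theorem Q1026 : ∀ i, i < 1026 → P i := stepQ 1025 Q1025 (allL N1025 (tt N651 F3567) (tt N1548 (iv F7130)) (tt N1549 D4686) (tt N649 (iv D2253)) (tt N1550 D4687) (tt N1171 F17119) (tt N1551 D4688))
theorem Q1027 : ∀ i, i < 1027 → P i := stepQ 1026 Q1026 (allL N1026 (tt N652 F3568) (tt N1069 (iv F32521)) (tt N650 F3569) (tt N1551 (iv F7138)) (tt N659 F3570) (tt N752 (iv F16996)) (tt N649 (iv D2254)))
theorem Q1028 : ∀ i, i < 1028 → P i := stepQ 1027 Q1027 (allL N1027 (tt N1549 (iv F7133)) (tt N1552 D4692) (tt N651 (iv D2256)) (tt N1553 D4693) (tt N1554 D4694) (tt N1473 (iv F6745)) (tt N1555 D4695))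
theorem Q1029 : ∀ i, i < 1029 → P i := stepQ 1028 Q1028 (allL N1028 (tt N1550 (iv F7135)) (tt N671 F3573) (tt N1554 (iv F7148)) (tt N660 F3574) (tt N651 (iv D2257)) (tt N1474 (iv F6747)) (tt N1556 D4696))
theorem Q1030 : ∀ i, i < 1030 → P i := stepQ 1029 Q1029 (allL N1029 (tt N1551 (iv F7137)) (tt N1557 D4697) (tt N1555 (iv F7149)) (tt N652 F3575) (tt N1556 (iv F7151)) (tt N753 (iv F17004)) (tt N651 (iv D2258)))
theorem Q1031 : ∀ i, i < 1031 → P i := stepQ 1030 Q1030 (allL N1030 (tt N1558 D4699) (tt N652 (iv D2259)) (tt N1037 F16695) (tt N1557 (iv F7152)) (tt N662 F3576) (tt N774 (iv F16802)) (tt N673 F3577))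
theorem Q1032 : ∀ i, i < 1032 → P i := stepQ 1031 Q1031 (allL N1031 (tt N1031 F16450) (tt N653 (iv D2266)) (tt N1031 F16451) (tt N1559 D4714) (tt N663 F3588) (tt N1081 (iv F32895)) (tt N1031 F15511))
theorem Q1033 : ∀ i, i < 1033 → P i := stepQ 1032 Q1032 (allL N1032 (tt N655 F3589) (tt N1559 (iv F7188)) (tt N1560 D4717) (tt N653 (iv D2267)) (tt N1561 D4718) (tt N1562 D4719) (tt N1178 (iv F16530)))
theorem Q1034 : ∀ i, i < 1034 → P i := stepQ 1033 Q1033 (allL N1033 (tt N656 F3590) (tt N1074 (iv F32786)) (tt N654 F3591) (tt N1562 (iv F7196)) (tt N665 F3592) (tt N653 (iv D2268)) (tt N756 (iv F16500)))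
theorem Q1035 : ∀ i, i < 1035 → P i := stepQ 1034 Q1034 (allL N1034 (tt N1560 (iv F7191)) (tt N1563 D4723) (tt N655 (iv D2270)) (tt N1564 D4724) (tt N1565 D4725) (tt N1566 D4726) (tt N1476 (iv F6775)))
theorem Q1036 : ∀ i, i < 1036 → P i := stepQ 1035 Q1035 (allL N1035 (tt N1561 (iv F7193)) (tt N677 F3595) (tt N1565 (iv F7206)) (tt N666 F3596) (tt N655 (iv D2271)) (tt N1567 D4727) (tt N1477 (iv F6777)))
theorem Q1037 : ∀ i, i < 1037 → P i := stepQ 1036 Q1036 (allL N1036 (tt N1562 (iv F7195)) (tt N1568 D4728) (tt N1566 (iv F7207)) (tt N656 F3597) (tt N1567 (iv F7209)) (tt N655 (iv D2272)) (tt N757 (iv F16589)))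
theorem Q1038 : ∀ i, i < 1038 → P i := stepQ 1037 Q1037 (allL N1037 (tt N1569 D4730) (tt N656 (iv D2273)) (tt N1030 (iv F16695)) (tt N1568 (iv F7210)) (tt N668 F3598) (tt N679 F3599) (tt N779 (iv F16696)))
theorem Q1039 : ∀ i, i < 1039 → P i := stepQ 1038 Q1038 (allL N1038 (tt N660 F3624) (tt N1078 F32471) (tt N1185 (iv F17115)) (tt N1550 (iv F7136)) (tt N658 (iv D2289)) (tt N1185 F17128) (tt N1056 (iv F32481)))
theorem Q1040 : ∀ i, i < 1040 → P i := stepQ 1039 Q1039 (allL N1039 (tt N1056 F32497) (tt N1570 D4772) (tt N1191 (iv F17019)) (tt N1556 (iv F7150)) (tt N661 F3641) (tt N763 (iv F17005)) (tt N660 (iv D2297)))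
theorem Q1041 : ∀ i, i < 1041 → P i := stepQ 1040 Q1040 (allL N1040 (tt N1194 (iv F32589)) (tt N661 (iv D2298)) (tt N1196 (iv F32590)) (tt N662 F3642) (tt N1570 (iv F7279)) (tt N780 (iv F32591)) (tt N683 F3643))
theorem Q1042 : ∀ i, i < 1042 → P i := stepQ 1041 Q1041 (allL N1041 (tt N662 (iv D2300)) (tt N1195 (iv F32734)) (tt N1045 F16699) (tt N1194 F32671) (tt N1558 (iv F7157)) (tt N781 (iv F16804)) (tt N685 F3647))
theorem Q1043 : ∀ i, i < 1043 → P i := stepQ 1042 Q1042 (allL N1042 (tt N666 F3667) (tt N1083 (iv F32890)) (tt N1192 F16492) (tt N1561 (iv F7194)) (tt N664 (iv D2319)) (tt N1067 F32839) (tt N1192 F16493))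
theorem Q1044 : ∀ i, i < 1044 → P i := stepQ 1043 Q1043 (allL N1043 (tt N1067 (iv F32772)) (tt N1571 D4832) (tt N1198 F16499) (tt N1567 (iv F7208)) (tt N667 F3678) (tt N666 (iv D2328)) (tt N769 (iv F16496)))
theorem Q1045 : ∀ i, i < 1045 → P i := stepQ 1044 Q1044 (allL N1044 (tt N1187 F32738) (tt N667 (iv D2329)) (tt N1189 F32739) (tt N668 F3679) (tt N1571 (iv F7361)) (tt N690 F3680) (tt N783 F32740))
theorem Q1046 : ∀ i, i < 1046 → P i := stepQ 1045 Q1045 (allL N1045 (tt N668 (iv D2331)) (tt N1188 (iv F32788)) (tt N1041 (iv F16699)) (tt N1187 F32737) (tt N1569 (iv F7215)) (tt N692 F3684) (tt N784 (iv F16701)))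
theorem Q1047 : ∀ i, i < 1047 → P i := stepQ 1046 Q1046 (allL N1046 (tt N670 F3697) (tt N1572 D4861) (tt N669 (iv D2342)) (tt N670 F3698) (tt N1573 D4862) (tt N1080 (iv F3835)) (tt N1401 (iv F6243)))
theorem Q1048 : ∀ i, i < 1048 → P i := stepQ 1047 Q1047 (allL N1047 (tt N671 F3699) (tt N1047 F14765) (tt N1573 (iv F7411)) (tt N681 F3700) (tt N669 (iv D2343)) (tt N1079 (iv F3833)) (tt N1402 (iv F6248)))
theorem Q1049 : ∀ i, i < 1049 → P i := stepQ 1048 Q1048 (allL N1048 (tt N1574 D4863) (tt N670 (iv D2344)) (tt N1552 (iv F7145)) (tt N1572 (iv F7409)) (tt N1575 D4864) (tt N1576 D4865) (tt N1577 D4866))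
theorem Q1050 : ∀ i, i < 1050 → P i := stepQ 1049 Q1049 (allL N1049 (tt N1573 (iv F7410)) (tt N1575 (iv F7412)) (tt N671 F3701) (tt N1578 D4867) (tt N670 (iv D2345)) (tt N1386 (iv F6199)) (tt N1579 D4868))
theorem Q1051 : ∀ i, i < 1051 → P i := stepQ 1050 Q1050 (allL N1050 (tt N1401 (iv F6241)) (tt N1580 D4869) (tt N672 F3702) (tt N1401 (iv F6244)) (tt N1579 (iv F7414)) (tt N1581 D4870) (tt N670 (iv D2346)))
theorem Q1052 : ∀ i, i < 1052 → P i := stepQ 1051 Q1051 (allL N1051 (tt N1402 (iv F6245)) (tt N1582 D4871) (tt N1579 (iv F7413)) (tt N682 F3703) (tt N672 F3704) (tt N1583 D4872) (tt N671 (iv D2347)))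
theorem Q1053 : ∀ i, i < 1053 → P i := stepQ 1052 Q1052 (allL N1052 (tt N1584 D4873) (tt N672 (iv D2348)) (tt N1585 D4874) (tt N673 F3705) (tt N1582 (iv F7420)) (tt N1586 D4875) (tt N1557 (iv F7153)))
theorem Q1054 : ∀ i, i < 1054 → P i := stepQ 1053 Q1053 (allL N1053 (tt N918 F3706) (tt N1587 D4876) (tt N1581 (iv F7416)) (tt N674 F3707) (tt N1583 (iv F7423)) (tt N672 (iv D2349)) (tt N699 F3708))
theorem Q1055 : ∀ i, i < 1055 → P i := stepQ 1054 Q1054 (allL N1054 (tt N673 (iv D2350)) (tt N1588 D4877) (tt N1213 (iv F4570)) (tt N1584 (iv F7425)) (tt N685 F3709) (tt N1206 F16942) (tt N1558 (iv F7158)))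
theorem Q1056 : ∀ i, i < 1056 → P i := stepQ 1055 Q1055 (allL N1055 (tt N1206 (iv F16936)) (tt N1191 F32520) (tt N1214 (iv F4572)) (tt N1586 (iv F7426)) (tt N686 F3710) (tt N673 (iv D2351)) (tt N1205 (iv F16934)))
theorem Q1057 : ∀ i, i < 1057 → P i := stepQ 1056 Q1056 (allL N1056 (tt N1039 (iv F32497)) (tt N674 (iv D2352)) (tt N763 (iv F32498)) (tt N1587 (iv F7427)) (tt N687 F3712) (tt N1191 (iv F32500)) (tt N1038 F32481))
theorem Q1058 : ∀ i, i < 1058 → P i := stepQ 1057 Q1057 (allL N1057 (tt N676 F3722) (tt N1589 D4899) (tt N675 (iv D2359)) (tt N676 F3723) (tt N1590 D4900) (tt N1392 (iv F6209)) (tt N1085 (iv F15770)))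
theorem Q1059 : ∀ i, i < 1059 → P i := stepQ 1058 Q1058 (allL N1058 (tt N677 F3724) (tt N1058 F16595) (tt N1590 (iv F7478)) (tt N688 F3725) (tt N675 (iv D2360)) (tt N1393 (iv F6213)) (tt N1084 (iv F15767)))
theorem Q1060 : ∀ i, i < 1060 → P i := stepQ 1059 Q1059 (allL N1059 (tt N1591 D4901) (tt N676 (iv D2361)) (tt N1563 (iv F7203)) (tt N1589 (iv F7476)) (tt N1592 D4902) (tt N1593 D4903) (tt N1594 D4904))
theorem Q1061 : ∀ i, i < 1061 → P i := stepQ 1060 Q1060 (allL N1060 (tt N1590 (iv F7477)) (tt N1592 (iv F7479)) (tt N677 F3726) (tt N1595 D4905) (tt N676 (iv D2362)) (tt N1596 D4906) (tt N1395 (iv F6229)))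
theorem Q1062 : ∀ i, i < 1062 → P i := stepQ 1061 Q1061 (allL N1061 (tt N1392 (iv F6208)) (tt N1597 D4907) (tt N678 F3727) (tt N1392 (iv F6210)) (tt N1596 (iv F7481)) (tt N676 (iv D2363)) (tt N1598 D4908))
theorem Q1063 : ∀ i, i < 1063 → P i := stepQ 1062 Q1062 (allL N1062 (tt N1393 (iv F6211)) (tt N1599 D4909) (tt N1596 (iv F7480)) (tt N689 F3728) (tt N678 F3729) (tt N677 (iv D2364)) (tt N1600 D4910))
theorem Q1064 : ∀ i, i < 1064 → P i := stepQ 1063 Q1063 (allL N1063 (tt N1601 D4911) (tt N678 (iv D2365)) (tt N1602 D4912) (tt N679 F3730) (tt N1599 (iv F7487)) (tt N1568 (iv F7211)) (tt N1603 D4913))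
theorem Q1065 : ∀ i, i < 1065 → P i := stepQ 1064 Q1064 (allL N1064 (tt N923 F3731) (tt N1604 D4914) (tt N1598 (iv F7483)) (tt N680 F3732) (tt N1600 (iv F7490)) (tt N704 F15760) (tt N678 (iv D2366)))
theorem Q1066 : ∀ i, i < 1066 → P i := stepQ 1065 Q1065 (allL N1065 (tt N679 (iv D2367)) (tt N1605 D4915) (tt N1205 (iv F4544)) (tt N1601 (iv F7492)) (tt N692 F3734) (tt N1569 (iv F7216)) (tt N1214 F16801))
theorem Q1067 : ∀ i, i < 1067 → P i := stepQ 1066 Q1066 (allL N1066 (tt N1214 F16803) (tt N1198 (iv F32702)) (tt N1206 (iv F4546)) (tt N1603 (iv F7493)) (tt N693 F3735) (tt N1213 (iv F16811)) (tt N679 (iv D2368)))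
theorem Q1068 : ∀ i, i < 1068 → P i := stepQ 1067 Q1067 (allL N1067 (tt N1043 F32772) (tt N680 (iv D2369)) (tt N769 F32773) (tt N1604 (iv F7494)) (tt N694 F3737) (tt N1042 (iv F32839)) (tt N1198 F32774))
theorem Q1069 : ∀ i, i < 1069 → P i := stepQ 1068 Q1068 (allL N1068 (tt N1606 D4950) (tt N682 (iv D2385)) (tt N1607 D4951) (tt N1582 (iv F7419)) (tt N683 F3757) (tt N1174 (iv F32554)) (tt N1570 (iv F7280)))
theorem Q1070 : ∀ i, i < 1070 → P i := stepQ 1069 Q1069 (allL N1069 (tt N926 F3758) (tt N1026 F32521) (tt N935 F3759) (tt N1583 (iv F7422)) (tt N684 F3760) (tt N682 (iv D2386)) (tt N698 F3761))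
theorem Q1071 : ∀ i, i < 1071 → P i := stepQ 1070 Q1070 (allL N1070 (tt N683 (iv D2387)) (tt N1377 (iv F32724)) (tt N690 (iv F17308)) (tt N685 F3762) (tt N1606 (iv F7554)) (tt N1189 (iv F32675)) (tt N1194 F32657))
theorem Q1072 : ∀ i, i < 1072 → P i := stepQ 1071 Q1071 (allL N1071 (tt N690 (iv F17307)) (tt N1383 (iv F32721)) (tt N683 (iv D2388)) (tt N692 (iv F17309)) (tt N1607 (iv F7555)) (tt N1187 (iv F32695)) (tt N1196 F32658))
theorem Q1073 : ∀ i, i < 1073 → P i := stepQ 1072 Q1072 (allL N1072 (tt N1375 F32754) (tt N685 (iv D2391)) (tt N1381 (iv F32802)) (tt N1377 F32755) (tt N1588 (iv F7428)) (tt N1377 F6182) (tt N929 (iv F6180)))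
theorem Q1074 : ∀ i, i < 1074 → P i := stepQ 1073 Q1073 (allL N1073 (tt N1607 (iv F17310)) (tt N689 (iv D2419)) (tt N1606 (iv F17315)) (tt N1599 (iv F7486)) (tt N690 F3797) (tt N1571 (iv F7362)) (tt N1181 F32660))
theorem Q1075 : ∀ i, i < 1075 → P i := stepQ 1074 Q1074 (allL N1074 (tt N931 F3798) (tt N1033 F32786) (tt N930 F15748) (tt N1600 (iv F7489)) (tt N691 F3799) (tt N703 (iv F15752)) (tt N689 (iv D2420)))
theorem Q1076 : ∀ i, i < 1076 → P i := stepQ 1075 Q1075 (allL N1075 (tt N1381 (iv F32801)) (tt N692 (iv D2425)) (tt N1375 F32759) (tt N1383 F32760) (tt N1605 (iv F7495)) (tt N934 (iv F15880)) (tt N1383 F15870))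
theorem Q1077 : ∀ i, i < 1077 → P i := stepQ 1076 Q1076 (allL N1076 (tt N1076 F14833) (tt N698 F3824) (tt N1076 F14831) (tt N1608 D5051) (tt N695 (iv D2435)) (tt N1076 F14834) (tt N1024 F32485))
theorem Q1078 : ∀ i, i < 1078 → P i := stepQ 1077 Q1077 (allL N1077 (tt N1077 F15051) (tt N699 F3827) (tt N1609 D5053) (tt N696 (iv D2437)) (tt N1608 (iv F7684)) (tt N1077 F15052) (tt N1610 D5054))
theorem Q1079 : ∀ i, i < 1079 → P i := stepQ 1078 Q1078 (allL N1078 (tt N1078 F15054) (tt N1038 (iv F32471)) (tt N1078 F3828) (tt N1610 (iv F7687)) (tt N697 F3829) (tt N1078 F3830) (tt N696 (iv D2438)))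
theorem Q1080 : ∀ i, i < 1080 → P i := stepQ 1079 Q1079 (allL N1079 (tt N917 F3831) (tt N1608 (iv F7683)) (tt N1611 D5055) (tt N698 (iv D2439)) (tt N699 F3832) (tt N1047 F3833) (tt N1583 (iv F7424)))
theorem Q1081 : ∀ i, i < 1081 → P i := stepQ 1080 Q1080 (allL N1080 (tt N916 F3834) (tt N1612 D5056) (tt N699 (iv D2440)) (tt N916 F3836) (tt N1611 (iv F7690)) (tt N1046 F3835) (tt N1581 (iv F7418)))
theorem Q1082 : ∀ i, i < 1082 → P i := stepQ 1081 Q1081 (allL N1081 (tt N1081 F16719) (tt N703 F3855) (tt N1081 F16716) (tt N1613 D5086) (tt N700 (iv D2452)) (tt N1031 F32895) (tt N1081 F16720))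
theorem Q1083 : ∀ i, i < 1083 → P i := stepQ 1082 Q1082 (allL N1082 (tt N1082 F16924) (tt N704 F3858) (tt N1614 D5092) (tt N701 (iv D2455)) (tt N1613 (iv F7740)) (tt N1615 D5093) (tt N1082 F16925))
theorem Q1084 : ∀ i, i < 1084 → P i := stepQ 1083 Q1083 (allL N1083 (tt N1083 F16929) (tt N1042 F32890) (tt N1083 F3859) (tt N1615 (iv F7750)) (tt N702 F3860) (tt N701 (iv D2456)) (tt N1083 F15840))
theorem Q1085 : ∀ i, i < 1085 → P i := stepQ 1084 Q1084 (allL N1084 (tt N922 F15765) (tt N1613 (iv F7739)) (tt N1616 D5103) (tt N703 (iv D2461)) (tt N704 F3870) (tt N1600 F15766) (tt N1058 F15767))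
theorem Q1086 : ∀ i, i < 1086 → P i := stepQ 1085 Q1085 (allL N1085 (tt N921 F15768) (tt N1617 D5109) (tt N704 (iv D2464)) (tt N921 F15769) (tt N1616 (iv F7765)) (tt N1598 (iv F15774)) (tt N1057 F15770))
theorem Q1087 : ∀ i, i < 1087 → P i := stepQ 1086 Q1086 (allL N1086 (tt N1618 D5140) (tt N705 (iv D2481)) (tt N1619 D5141) (tt N1620 D5142) (tt N725 F3899) (tt N1621 D5143) (tt N1622 D5144))
theorem Q1088 : ∀ i, i < 1088 → P i := stepQ 1087 Q1087 (allL N1087 (tt N706 F3900) (tt N1620 (iv F7818)) (tt N1623 D5145) (tt N705 (iv D2482)) (tt N1480 (iv F6860)) (tt N1624 D5146) (tt N1625 D5147))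
theorem Q1089 : ∀ i, i < 1089 → P i := stepQ 1088 Q1088 (allL N1088 (tt N707 F3901) (tt N1626 D5148) (tt N1088 F3902) (tt N1624 (iv F7823)) (tt N726 F3903) (tt N705 (iv D2483)) (tt N1096 (iv F3920)))
theorem Q1090 : ∀ i, i < 1090 → P i := stepQ 1089 Q1089 (allL N1089 (tt N708 F3904) (tt N1627 D5149) (tt N1089 F3905) (tt N1625 (iv F7825)) (tt N727 F3906) (tt N1094 (iv F3914)) (tt N705 (iv D2484)))
theorem Q1091 : ∀ i, i < 1091 → P i := stepQ 1090 Q1090 (allL N1090 (tt N1623 (iv F7821)) (tt N1090 F3907) (tt N706 (iv D2485)) (tt N1628 D5150) (tt N1483 (iv F6866)) (tt N1629 D5151) (tt N1630 D5152))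
theorem Q1092 : ∀ i, i < 1092 → P i := stepQ 1091 Q1091 (allL N1091 (tt N1624 (iv F7822)) (tt N1631 D5153) (tt N1629 (iv F7829)) (tt N707 F3908) (tt N1484 (iv F6868)) (tt N706 (iv D2486)) (tt N1632 D5154))
theorem Q1093 : ∀ i, i < 1093 → P i := stepQ 1092 Q1092 (allL N1092 (tt N1625 (iv F7824)) (tt N1633 D5155) (tt N1630 (iv F7830)) (tt N708 F3909) (tt N1485 (iv F6870)) (tt N1634 D5156) (tt N706 (iv D2487)))
theorem Q1094 : ∀ i, i < 1094 → P i := stepQ 1093 Q1093 (allL N1093 (tt N1635 D5157) (tt N707 (iv D2488)) (tt N1636 D5158) (tt N1631 (iv F7831)) (tt N728 F3910) (tt N711 F3911) (tt N1637 D5159))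
theorem Q1095 : ∀ i, i < 1095 → P i := stepQ 1094 Q1094 (allL N1094 (tt N1096 (iv F3917)) (tt N1638 D5160) (tt N1094 F3912) (tt N1632 (iv F7833)) (tt N729 F3913) (tt N1089 F3914) (tt N707 (iv D2489)))
theorem Q1096 : ∀ i, i < 1096 → P i := stepQ 1095 Q1095 (allL N1095 (tt N1639 D5161) (tt N708 (iv D2490)) (tt N1640 D5162) (tt N1633 (iv F7835)) (tt N730 F3915) (tt N1641 D5163) (tt N713 F3916))
theorem Q1097 : ∀ i, i < 1097 → P i := stepQ 1096 Q1096 (allL N1096 (tt N1094 F3917) (tt N1642 D5164) (tt N1096 F3918) (tt N1634 (iv F7838)) (tt N731 F3919) (tt N708 (iv D2491)) (tt N1088 F3920))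
theorem Q1098 : ∀ i, i < 1098 → P i := stepQ 1097 Q1097 (allL N1097 (tt N1643 D5165) (tt N709 (iv D2492)) (tt N1644 D5166) (tt N711 F3921) (tt N1490 (iv F6881)) (tt N1631 (iv F7832)) (tt N1645 D5167))
theorem Q1099 : ∀ i, i < 1099 → P i := stepQ 1098 Q1098 (allL N1098 (tt N1100 (iv F3926)) (tt N1646 D5168) (tt N1098 F3922) (tt N712 F3923) (tt N1100 (iv F3929)) (tt N990 F3924) (tt N709 (iv D2493)))
theorem Q1100 : ∀ i, i < 1100 → P i := stepQ 1099 Q1099 (allL N1099 (tt N1647 D5169) (tt N710 (iv D2494)) (tt N1648 D5170) (tt N713 F3925) (tt N1491 (iv F6883)) (tt N1649 D5171) (tt N1633 (iv F7836)))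
theorem Q1101 : ∀ i, i < 1101 → P i := stepQ 1100 Q1100 (allL N1100 (tt N1098 F3926) (tt N1650 D5172) (tt N1100 F3927) (tt N714 F3928) (tt N1098 F3929) (tt N710 (iv D2495)) (tt N989 F3930))
theorem Q1102 : ∀ i, i < 1102 → P i := stepQ 1101 Q1101 (allL N1101 (tt N711 (iv D2496)) (tt N1651 D5173) (tt N1652 D5174) (tt N1643 (iv F7854)) (tt N732 F3931) (tt N1635 (iv F7841)) (tt N1653 D5175))
theorem Q1103 : ∀ i, i < 1103 → P i := stepQ 1102 Q1102 (allL N1102 (tt N1652 (iv F7864)) (tt N715 F3932) (tt N711 (iv D2497)) (tt N1654 D5176) (tt N733 F3933) (tt N1636 (iv F7844)) (tt N1655 D5177))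
theorem Q1104 : ∀ i, i < 1104 → P i := stepQ 1103 Q1103 (allL N1103 (tt N1653 (iv F7866)) (tt N1656 D5178) (tt N1655 (iv F7870)) (tt N1645 (iv F7856)) (tt N734 F3934) (tt N1657 D5179) (tt N711 (iv D2498)))
theorem Q1105 : ∀ i, i < 1105 → P i := stepQ 1104 Q1104 (allL N1104 (tt N1658 D5180) (tt N712 (iv D2499)) (tt N1659 D5181) (tt N1646 (iv F7857)) (tt N735 F3935) (tt N1660 D5182) (tt N1656 (iv F7873)))
theorem Q1106 : ∀ i, i < 1106 → P i := stepQ 1105 Q1105 (allL N1105 (tt N713 (iv D2500)) (tt N1661 D5183) (tt N1662 D5184) (tt N1647 (iv F7858)) (tt N736 F3936) (tt N1663 D5185) (tt N1639 (iv F7848)))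
theorem Q1107 : ∀ i, i < 1107 → P i := stepQ 1106 Q1106 (allL N1106 (tt N1662 (iv F7883)) (tt N718 F3937) (tt N713 (iv D2501)) (tt N1664 D5186) (tt N737 F3938) (tt N1665 D5187) (tt N1640 (iv F7851)))
theorem Q1108 : ∀ i, i < 1108 → P i := stepQ 1107 Q1107 (allL N1107 (tt N1663 (iv F7885)) (tt N1666 D5188) (tt N1665 (iv F7889)) (tt N1649 (iv F7860)) (tt N738 F3939) (tt N713 (iv D2502)) (tt N1667 D5189))
theorem Q1109 : ∀ i, i < 1109 → P i := stepQ 1108 Q1108 (allL N1108 (tt N1668 D5190) (tt N714 (iv D2503)) (tt N1669 D5191) (tt N1650 (iv F7861)) (tt N739 F3940) (tt N1666 (iv F7892)) (tt N1670 D5192))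
theorem Q1110 : ∀ i, i < 1110 → P i := stepQ 1109 Q1109 (allL N1109 (tt N1109 F15075) (tt N1654 (iv F7869)) (tt N1671 D5201) (tt N715 (iv D2507)) (tt N1672 D5202) (tt N1109 F3950) (tt N1671 (iv F17217)))
theorem Q1111 : ∀ i, i < 1111 → P i := stepQ 1110 Q1110 (allL N1110 (tt N1110 F15076) (tt N1673 D5204) (tt N716 F3951) (tt N1671 (iv F17216)) (tt N741 F3952) (tt N1110 F15077) (tt N715 (iv D2508)))
theorem Q1112 : ∀ i, i < 1112 → P i := stepQ 1111 Q1111 (allL N1111 (tt N717 (iv D2510)) (tt N1674 D5208) (tt N1675 D5209) (tt N721 F3956) (tt N743 F3957) (tt N1499 F17077) (tt N951 (iv F17082)))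
theorem Q1113 : ∀ i, i < 1113 → P i := stepQ 1112 Q1112 (allL N1112 (tt N1675 (iv F7932)) (tt N1659 (iv F7878)) (tt N717 (iv D2511)) (tt N1676 D5211) (tt N744 F3958) (tt N1501 F17078) (tt N1506 (iv F17181)))
theorem Q1114 : ∀ i, i < 1114 → P i := stepQ 1113 Q1113 (allL N1113 (tt N1113 F16999) (tt N1664 (iv F7888)) (tt N1677 D5222) (tt N718 (iv D2516)) (tt N1678 D5223) (tt N1677 (iv F16865)) (tt N1113 F3971))
theorem Q1115 : ∀ i, i < 1115 → P i := stepQ 1114 Q1114 (allL N1114 (tt N1114 F16770) (tt N1679 D5225) (tt N719 F3972) (tt N1677 (iv F16864)) (tt N746 F3973) (tt N718 (iv D2517)) (tt N1114 F16771))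
theorem Q1116 : ∀ i, i < 1116 → P i := stepQ 1115 Q1115 (allL N1115 (tt N720 (iv D2519)) (tt N1680 D5229) (tt N1681 D5230) (tt N722 F3977) (tt N748 F3978) (tt N953 (iv F16678)) (tt N1503 F16663))
theorem Q1117 : ∀ i, i < 1117 → P i := stepQ 1116 Q1116 (allL N1116 (tt N1681 (iv F7975)) (tt N1669 (iv F7897)) (tt N720 (iv D2520)) (tt N1682 D5232) (tt N749 F3979) (tt N1507 F16740) (tt N1505 (iv F16868)))
theorem Q1118 : ∀ i, i < 1118 → P i := stepQ 1117 Q1117 (allL N1117 (tt N1683 D5269) (tt N721 (iv D2537)) (tt N1684 D5270) (tt N1674 (iv F7930)) (tt N723 F4006) (tt N1683 F16883) (tt N955 F16884))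
theorem Q1119 : ∀ i, i < 1119 → P i := stepQ 1118 Q1118 (allL N1118 (tt N1685 D5317) (tt N722 (iv D2558)) (tt N1686 D5318) (tt N1680 (iv F7973)) (tt N724 F4040) (tt N956 (iv F16774)) (tt N1685 (iv F14869)))
theorem Q1120 : ∀ i, i < 1120 → P i := stepQ 1119 Q1119 (allL N1119 (tt N723 (iv D2593)) (tt N1121 (iv F4144)) (tt N1687 D5387) (tt N759 F4090) (tt N1683 (iv F8048)) (tt N723 (iv F16753)) (tt N957 F16650))
theorem Q1121 : ∀ i, i < 1121 → P i := stepQ 1120 Q1120 (allL N1120 (tt N1687 (iv F8239)) (tt N1440 F17083) (tt N723 (iv D2594)) (tt N1317 (iv F32861)) (tt N1684 (iv F8049)) (tt N1687 F16886) (tt N958 F16887))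
theorem Q1122 : ∀ i, i < 1122 → P i := stepQ 1121 Q1121 (allL N1121 (tt N724 (iv D2636)) (tt N1119 F4144) (tt N1688 D5469) (tt N765 F4145) (tt N1685 (iv F8132)) (tt N959 (iv F16830)) (tt N724 (iv F14875)))
theorem Q1123 : ∀ i, i < 1123 → P i := stepQ 1122 Q1122 (allL N1122 (tt N1688 (iv F8343)) (tt N1439 (iv F16772)) (tt N724 (iv D2637)) (tt N1320 (iv F32894)) (tt N1686 (iv F8133)) (tt N960 (iv F16832)) (tt N1688 (iv F14877)))
theorem Q1124 : ∀ i, i < 1124 → P i := stepQ 1123 Q1123 (allL N1123 (tt N725 (iv D2650)) (tt N1508 (iv F7041)) (tt N1689 D5493) (tt N1508 (iv F7042)) (tt N1618 (iv F7815)) (tt N1690 D5494) (tt N1691 D5495))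
theorem Q1125 : ∀ i, i < 1125 → P i := stepQ 1124 Q1124 (allL N1124 (tt N1689 (iv F8372)) (tt N1124 F4165) (tt N725 (iv D2651)) (tt N1692 D5496) (tt N1619 (iv F7817)) (tt N1693 D5497) (tt N1694 D5498))
theorem Q1126 : ∀ i, i < 1126 → P i := stepQ 1125 Q1125 (allL N1125 (tt N1690 (iv F8373)) (tt N1695 D5499) (tt N1693 (iv F8376)) (tt N1510 (iv F7043)) (tt N1621 (iv F7819)) (tt N725 (iv D2652)) (tt N1696 D5500))
theorem Q1127 : ∀ i, i < 1127 → P i := stepQ 1126 Q1126 (allL N1126 (tt N1691 (iv F8374)) (tt N1697 D5501) (tt N1694 (iv F8377)) (tt N1511 (iv F7044)) (tt N1622 (iv F7820)) (tt N1698 D5502) (tt N725 (iv D2653)))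
theorem Q1128 : ∀ i, i < 1128 → P i := stepQ 1127 Q1127 (allL N1127 (tt N1699 D5503) (tt N726 (iv D2654)) (tt N1700 D5504) (tt N1512 (iv F7045)) (tt N1626 (iv F7826)) (tt N1695 (iv F8378)) (tt N1701 D5505))
theorem Q1129 : ∀ i, i < 1129 → P i := stepQ 1128 Q1128 (allL N1128 (tt N1702 D5506) (tt N727 (iv D2655)) (tt N1703 D5507) (tt N1513 (iv F7046)) (tt N1627 (iv F7827)) (tt N1704 D5508) (tt N1697 (iv F8380)))
theorem Q1130 : ∀ i, i < 1130 → P i := stepQ 1129 Q1129 (allL N1129 (tt N728 (iv D2656)) (tt N1705 D5509) (tt N1706 D5510) (tt N1514 (iv F7047)) (tt N1635 (iv F7840)) (tt N732 F4166) (tt N1143 (iv F4179)))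
theorem Q1131 : ∀ i, i < 1131 → P i := stepQ 1130 Q1130 (allL N1130 (tt N1706 (iv F8385)) (tt N1130 F4167) (tt N728 (iv D2657)) (tt N1707 D5511) (tt N1636 (iv F7843)) (tt N733 F4168) (tt N1708 D5512))
theorem Q1132 : ∀ i, i < 1132 → P i := stepQ 1131 Q1131 (allL N1131 (tt N1143 (iv F4178)) (tt N1709 D5513) (tt N1708 (iv F8389)) (tt N1516 (iv F7050)) (tt N1637 (iv F7845)) (tt N1139 (iv F4174)) (tt N728 (iv D2658)))
theorem Q1133 : ∀ i, i < 1133 → P i := stepQ 1132 Q1132 (allL N1132 (tt N1710 D5514) (tt N729 (iv D2659)) (tt N1711 D5515) (tt N1517 (iv F7051)) (tt N1638 (iv F7846)) (tt N1712 D5516) (tt N1709 (iv F8390)))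
theorem Q1134 : ∀ i, i < 1134 → P i := stepQ 1133 Q1133 (allL N1133 (tt N730 (iv D2660)) (tt N1713 D5517) (tt N1714 D5518) (tt N1518 (iv F7052)) (tt N1639 (iv F7847)) (tt N1153 (iv F4190)) (tt N736 F4169))
theorem Q1135 : ∀ i, i < 1135 → P i := stepQ 1134 Q1134 (allL N1134 (tt N1714 (iv F8393)) (tt N1134 F4170) (tt N730 (iv D2661)) (tt N1715 D5519) (tt N1640 (iv F7850)) (tt N1716 D5520) (tt N737 F4171))
theorem Q1136 : ∀ i, i < 1136 → P i := stepQ 1135 Q1135 (allL N1135 (tt N1153 (iv F4189)) (tt N1717 D5521) (tt N1716 (iv F8397)) (tt N1520 (iv F7055)) (tt N1641 (iv F7852)) (tt N730 (iv D2662)) (tt N1149 (iv F4184)))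
theorem Q1137 : ∀ i, i < 1137 → P i := stepQ 1136 Q1136 (allL N1136 (tt N1718 D5522) (tt N731 (iv D2663)) (tt N1719 D5523) (tt N1521 (iv F7056)) (tt N1642 (iv F7853)) (tt N1717 (iv F8398)) (tt N1720 D5524))
theorem Q1138 : ∀ i, i < 1138 → P i := stepQ 1137 Q1137 (allL N1137 (tt N1721 D5525) (tt N732 (iv D2664)) (tt N1722 D5526) (tt N1522 (iv F7057)) (tt N1651 (iv F7863)) (tt N1723 D5527) (tt N1724 D5528))
theorem Q1139 : ∀ i, i < 1139 → P i := stepQ 1138 Q1138 (allL N1138 (tt N733 F4172) (tt N1725 D5529) (tt N732 (iv D2665)) (tt N1726 D5530) (tt N1652 (iv F7865)) (tt N1706 (iv F8386)) (tt N1727 D5531))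
theorem Q1140 : ∀ i, i < 1140 → P i := stepQ 1139 Q1139 (allL N1139 (tt N734 F4173) (tt N1728 D5532) (tt N1727 (iv F8403)) (tt N1524 (iv F7060)) (tt N1653 (iv F7867)) (tt N1131 F4174) (tt N732 (iv D2666)))
theorem Q1141 : ∀ i, i < 1141 → P i := stepQ 1140 Q1140 (allL N1140 (tt N1726 (iv F8401)) (tt N740 F4175) (tt N1729 D5533) (tt N733 (iv D2667)) (tt N1730 D5534) (tt N1707 (iv F8388)) (tt N1731 D5535))
theorem Q1142 : ∀ i, i < 1142 → P i := stepQ 1141 Q1141 (allL N1141 (tt N1727 (iv F8402)) (tt N1732 D5536) (tt N734 F4176) (tt N1731 (iv F8406)) (tt N1655 (iv F7871)) (tt N1733 D5537) (tt N733 (iv D2668)))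
theorem Q1143 : ∀ i, i < 1143 → P i := stepQ 1142 Q1142 (allL N1142 (tt N1734 D5538) (tt N734 (iv D2669)) (tt N1735 D5539) (tt N1156 (iv F4194)) (tt N1656 (iv F7872)) (tt N1736 D5540) (tt N735 F4177))
theorem Q1144 : ∀ i, i < 1144 → P i := stepQ 1143 Q1143 (allL N1143 (tt N1131 F4178) (tt N1737 D5541) (tt N1733 (iv F8409)) (tt N1527 (iv F7065)) (tt N1657 (iv F7875)) (tt N734 (iv D2670)) (tt N1129 F4179))
theorem Q1145 : ∀ i, i < 1145 → P i := stepQ 1144 Q1144 (allL N1144 (tt N735 (iv D2671)) (tt N1738 D5542) (tt N1739 D5543) (tt N1154 (iv F4191)) (tt N1658 (iv F7877)) (tt N1740 D5544) (tt N1734 (iv F8411)))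
theorem Q1146 : ∀ i, i < 1146 → P i := stepQ 1145 Q1145 (allL N1145 (tt N1739 (iv F8413)) (tt N744 F4180) (tt N735 (iv D2672)) (tt N1741 D5545) (tt N1659 (iv F7879)) (tt N1742 D5546) (tt N1735 (iv F8412)))
theorem Q1147 : ∀ i, i < 1147 → P i := stepQ 1146 Q1146 (allL N1146 (tt N1740 (iv F8414)) (tt N1015 F4181) (tt N1742 (iv F8417)) (tt N1152 (iv F4187)) (tt N1660 (iv F7881)) (tt N735 (iv D2673)) (tt N1743 D5547))
theorem Q1148 : ∀ i, i < 1148 → P i := stepQ 1147 Q1147 (allL N1147 (tt N1744 D5548) (tt N736 (iv D2674)) (tt N1745 D5549) (tt N1528 (iv F7067)) (tt N1661 (iv F7882)) (tt N1746 D5550) (tt N1747 D5551))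
theorem Q1149 : ∀ i, i < 1149 → P i := stepQ 1148 Q1148 (allL N1148 (tt N737 F4182) (tt N1748 D5552) (tt N736 (iv D2675)) (tt N1749 D5553) (tt N1662 (iv F7884)) (tt N1750 D5554) (tt N1714 (iv F8394)))
theorem Q1150 : ∀ i, i < 1150 → P i := stepQ 1149 Q1149 (allL N1149 (tt N738 F4183) (tt N1751 D5555) (tt N1750 (iv F8422)) (tt N1530 (iv F7070)) (tt N1663 (iv F7886)) (tt N736 (iv D2676)) (tt N1135 F4184))
theorem Q1151 : ∀ i, i < 1151 → P i := stepQ 1150 Q1150 (allL N1150 (tt N1749 (iv F8420)) (tt N745 F4185) (tt N1752 D5556) (tt N737 (iv D2677)) (tt N1753 D5557) (tt N1754 D5558) (tt N1715 (iv F8396)))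
theorem Q1152 : ∀ i, i < 1152 → P i := stepQ 1151 Q1151 (allL N1151 (tt N1750 (iv F8421)) (tt N1755 D5559) (tt N738 F4186) (tt N1754 (iv F8425)) (tt N1665 (iv F7890)) (tt N737 (iv D2678)) (tt N1756 D5560))
theorem Q1153 : ∀ i, i < 1153 → P i := stepQ 1152 Q1152 (allL N1152 (tt N1757 D5561) (tt N738 (iv D2679)) (tt N1758 D5562) (tt N1146 F4187) (tt N1666 (iv F7891)) (tt N739 F4188) (tt N1759 D5563))
theorem Q1154 : ∀ i, i < 1154 → P i := stepQ 1153 Q1153 (allL N1153 (tt N1135 F4189) (tt N1760 D5564) (tt N1756 (iv F8428)) (tt N1533 (iv F7075)) (tt N1667 (iv F7894)) (tt N1133 F4190) (tt N738 (iv D2680)))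
theorem Q1155 : ∀ i, i < 1155 → P i := stepQ 1154 Q1154 (allL N1154 (tt N739 (iv D2681)) (tt N1761 D5565) (tt N1762 D5566) (tt N1144 F4191) (tt N1668 (iv F7896)) (tt N1757 (iv F8431)) (tt N1763 D5567))
theorem Q1156 : ∀ i, i < 1156 → P i := stepQ 1155 Q1155 (allL N1155 (tt N1762 (iv F8435)) (tt N749 F4192) (tt N739 (iv D2682)) (tt N1764 D5568) (tt N1669 (iv F7898)) (tt N1758 (iv F8432)) (tt N1765 D5569))
theorem Q1157 : ∀ i, i < 1157 → P i := stepQ 1156 Q1156 (allL N1156 (tt N1763 (iv F8436)) (tt N1012 F4193) (tt N1765 (iv F8440)) (tt N1142 F4194) (tt N1670 (iv F7900)) (tt N1766 D5570) (tt N739 (iv D2683)))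
theorem Q1158 : ∀ i, i < 1158 → P i := stepQ 1157 Q1157 (allL N1157 (tt N1157 F15383) (tt N1730 (iv F8405)) (tt N1157 F15384) (tt N1672 (iv F7919)) (tt N740 (iv D2692)) (tt N1157 F4206) (tt N1767 D5591))
theorem Q1159 : ∀ i, i < 1159 → P i := stepQ 1158 Q1158 (allL N1158 (tt N1158 F15385) (tt N1768 D5592) (tt N1158 F15386) (tt N741 F4207) (tt N1767 (iv F8471)) (tt N1158 F15387) (tt N740 (iv D2693)))
theorem Q1160 : ∀ i, i < 1160 → P i := stepQ 1159 Q1159 (allL N1159 (tt N1769 D5593) (tt N741 (iv D2694)) (tt N1770 D5594) (tt N1768 (iv F8472)) (tt N1673 (iv F7922)) (tt N1771 D5595) (tt N1732 (iv F8407)))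
theorem Q1161 : ∀ i, i < 1161 → P i := stepQ 1160 Q1160 (allL N1160 (tt N973 (iv F17117)) (tt N1770 (iv F8473)) (tt N742 (iv D2696)) (tt N1772 D5598) (tt N1506 (iv F17180)) (tt N1016 (iv F17116)) (tt N744 F4210))
theorem Q1162 : ∀ i, i < 1162 → P i := stepQ 1161 Q1161 (allL N1161 (tt N1773 D5600) (tt N743 (iv D2698)) (tt N1774 D5601) (tt N751 F4212) (tt N1674 (iv F7931)) (tt N1773 F16889) (tt N974 F16890))
theorem Q1163 : ∀ i, i < 1163 → P i := stepQ 1162 Q1162 (allL N1162 (tt N744 F4213) (tt N1775 D5604) (tt N743 (iv D2699)) (tt N1776 D5605) (tt N1675 (iv F7933)) (tt N1536 F17110) (tt N973 (iv F17118)))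
theorem Q1164 : ∀ i, i < 1164 → P i := stepQ 1163 Q1163 (allL N1163 (tt N1776 (iv F8483)) (tt N1741 (iv F8416)) (tt N1777 D5608) (tt N744 (iv D2701)) (tt N1778 D5609) (tt N1539 F17111) (tt N1772 (iv F8477)))
theorem Q1165 : ∀ i, i < 1165 → P i := stepQ 1164 Q1164 (allL N1164 (tt N1164 F17053) (tt N1753 (iv F8424)) (tt N1164 F17054) (tt N1678 (iv F7962)) (tt N745 (iv D2712)) (tt N1779 D5634) (tt N1164 F4232))
theorem Q1166 : ∀ i, i < 1166 → P i := stepQ 1165 Q1165 (allL N1165 (tt N1165 F16788) (tt N1780 D5635) (tt N1165 F16789) (tt N746 F4233) (tt N1779 (iv F8524)) (tt N745 (iv D2713)) (tt N1165 F16790))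
theorem Q1167 : ∀ i, i < 1167 → P i := stepQ 1166 Q1166 (allL N1166 (tt N1781 D5636) (tt N746 (iv D2714)) (tt N1782 D5637) (tt N1780 (iv F8525)) (tt N1679 (iv F7965)) (tt N1755 (iv F8426)) (tt N1783 D5638))
theorem Q1168 : ∀ i, i < 1168 → P i := stepQ 1167 Q1167 (allL N1167 (tt N975 (iv F16679)) (tt N1782 (iv F8526)) (tt N747 (iv D2716)) (tt N1784 D5641) (tt N1507 (iv F16680)) (tt N749 F4236) (tt N1020 F16579))
theorem Q1169 : ∀ i, i < 1169 → P i := stepQ 1168 Q1168 (allL N1168 (tt N1785 D5643) (tt N748 (iv D2718)) (tt N1786 D5644) (tt N755 F4238) (tt N1680 (iv F7974)) (tt N976 (iv F16839)) (tt N1785 (iv F14883)))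
theorem Q1170 : ∀ i, i < 1170 → P i := stepQ 1169 Q1169 (allL N1169 (tt N749 F4239) (tt N1787 D5647) (tt N748 (iv D2719)) (tt N1788 D5648) (tt N1681 (iv F7976)) (tt N975 F16711) (tt N1543 F16712))
theorem Q1171 : ∀ i, i < 1171 → P i := stepQ 1170 Q1170 (allL N1170 (tt N1788 (iv F8537)) (tt N1764 (iv F8439)) (tt N1789 D5651) (tt N749 (iv D2721)) (tt N1790 D5652) (tt N1784 (iv F8530)) (tt N1546 (iv F16873)))
theorem Q1172 : ∀ i, i < 1172 → P i := stepQ 1171 Q1171 (allL N1171 (tt N977 (iv F17120)) (tt N1171 F4274) (tt N1791 D5684) (tt N750 (iv D2738)) (tt N1792 D5685) (tt N1025 (iv F17119)) (tt N753 F4275))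
theorem Q1173 : ∀ i, i < 1173 → P i := stepQ 1172 Q1172 (allL N1172 (tt N751 (iv D2740)) (tt N1179 (iv F4335)) (tt N1793 D5688) (tt N1773 (iv F8479)) (tt N759 F4278) (tt N751 (iv F16759)) (tt N978 F16655))
theorem Q1174 : ∀ i, i < 1174 → P i := stepQ 1173 Q1173 (allL N1173 (tt N1793 (iv F8621)) (tt N1794 D5690) (tt N751 (iv D2741)) (tt N1795 D5691) (tt N760 F4279) (tt N1793 F16861) (tt N979 F16862))
theorem Q1175 : ∀ i, i < 1175 → P i := stepQ 1174 Q1174 (allL N1174 (tt N1796 D5694) (tt N752 (iv D2744)) (tt N1794 (iv F8627)) (tt N1797 D5695) (tt N761 F4283) (tt N1068 F32554) (tt N1798 D5697))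
theorem Q1176 : ∀ i, i < 1176 → P i := stepQ 1175 Q1175 (allL N1175 (tt N753 F4284) (tt N1797 (iv F8636)) (tt N1799 D5698) (tt N752 (iv D2745)) (tt N1800 D5699) (tt N1551 F17107) (tt N977 (iv F17121)))
theorem Q1177 : ∀ i, i < 1177 → P i := stepQ 1176 Q1176 (allL N1176 (tt N1799 (iv F8639)) (tt N1801 D5703) (tt N753 (iv D2748)) (tt N1802 D5704) (tt N1803 D5705) (tt N1555 F17112) (tt N1791 (iv F8614)))
theorem Q1178 : ∀ i, i < 1178 → P i := stepQ 1177 Q1177 (allL N1177 (tt N1800 (iv F8641)) (tt N770 (iv F32502)) (tt N1803 (iv F8653)) (tt N763 F4293) (tt N753 (iv D2749)) (tt N1556 F17113) (tt N1792 (iv F8617)))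
theorem Q1179 : ∀ i, i < 1179 → P i := stepQ 1178 Q1178 (allL N1178 (tt N980 (iv F16581)) (tt N1178 F4331) (tt N1804 D5739) (tt N754 (iv D2768)) (tt N1805 D5740) (tt N757 F4332) (tt N1032 F16530))
theorem Q1180 : ∀ i, i < 1180 → P i := stepQ 1179 Q1179 (allL N1179 (tt N755 (iv D2770)) (tt N1172 F4335) (tt N1806 D5743) (tt N1785 (iv F8533)) (tt N765 F4336) (tt N981 (iv F16835)) (tt N755 (iv F14890)))
theorem Q1181 : ∀ i, i < 1181 → P i := stepQ 1180 Q1180 (allL N1180 (tt N1806 (iv F8739)) (tt N1807 D5745) (tt N755 (iv D2771)) (tt N1808 D5746) (tt N766 F4337) (tt N982 (iv F16837)) (tt N1806 (iv F14892)))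
theorem Q1182 : ∀ i, i < 1182 → P i := stepQ 1181 Q1181 (allL N1181 (tt N1809 D5749) (tt N756 (iv D2774)) (tt N1807 (iv F8745)) (tt N1810 D5750) (tt N767 F4341) (tt N1811 D5751) (tt N1073 (iv F32660)))
theorem Q1183 : ∀ i, i < 1183 → P i := stepQ 1182 Q1182 (allL N1182 (tt N757 F4342) (tt N1810 (iv F8753)) (tt N1812 D5753) (tt N756 (iv D2775)) (tt N1813 D5754) (tt N980 (iv F16582)) (tt N1562 F16550))
theorem Q1184 : ∀ i, i < 1184 → P i := stepQ 1183 Q1183 (allL N1183 (tt N1812 (iv F8756)) (tt N1814 D5758) (tt N757 (iv D2778)) (tt N1815 D5759) (tt N1816 D5760) (tt N1804 (iv F8732)) (tt N1566 F16705))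
theorem Q1185 : ∀ i, i < 1185 → P i := stepQ 1184 Q1184 (allL N1184 (tt N1813 (iv F8758)) (tt N775 F32835) (tt N1816 (iv F8770)) (tt N769 F4351) (tt N757 (iv D2779)) (tt N1805 (iv F8735)) (tt N1567 F16546))
theorem Q1186 : ∀ i, i < 1186 → P i := stepQ 1185 Q1185 (allL N1185 (tt N983 F17114) (tt N1185 F4404) (tt N1038 F17115) (tt N1792 (iv F8616)) (tt N758 (iv D2812)) (tt N1038 (iv F17128)) (tt N763 F4405))
theorem Q1187 : ∀ i, i < 1187 → P i := stepQ 1186 Q1186 (allL N1186 (tt N760 F4408) (tt N933 F15696) (tt N759 (iv D2815)) (tt N904 (iv F32806)) (tt N1793 (iv F8622)) (tt N760 (iv F16737)) (tt N906 (iv F32847)))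
theorem Q1188 : ∀ i, i < 1188 → P i := stepQ 1187 Q1187 (allL N1187 (tt N1044 (iv F32738)) (tt N760 (iv D2817)) (tt N761 F4412) (tt N1045 (iv F32737)) (tt N1794 (iv F8628)) (tt N1071 F32695) (tt N1197 F16633))
theorem Q1189 : ∀ i, i < 1189 → P i := stepQ 1188 Q1188 (allL N1188 (tt N904 (iv F32805)) (tt N1045 F32788) (tt N903 (iv F32841)) (tt N760 (iv D2818)) (tt N1817 D5829) (tt N904 (iv F32807)) (tt N905 (iv F32849)))
theorem Q1190 : ∀ i, i < 1190 → P i := stepQ 1189 Q1189 (allL N1189 (tt N761 (iv D2821)) (tt N782 (iv F15622)) (tt N1044 (iv F32739)) (tt N782 F32674) (tt N1796 (iv F8635)) (tt N1070 F32675) (tt N780 F15561))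
theorem Q1191 : ∀ i, i < 1191 → P i := stepQ 1190 Q1190 (allL N1190 (tt N780 (iv F15555)) (tt N835 (iv F16735)) (tt N1197 F16625) (tt N781 F32673) (tt N1798 (iv F8638)) (tt N1194 F16626) (tt N761 (iv D2824)))
theorem Q1192 : ∀ i, i < 1192 → P i := stepQ 1191 Q1191 (allL N1191 (tt N763 F4422) (tt N1055 (iv F32520)) (tt N1039 F17019) (tt N1800 (iv F8642)) (tt N762 (iv D2826)) (tt N1056 F32500) (tt N983 (iv F17109)))
theorem Q1193 : ∀ i, i < 1193 → P i := stepQ 1192 Q1192 (allL N1192 (tt N984 (iv F16490)) (tt N1192 F4487) (tt N1042 (iv F16492)) (tt N1805 (iv F8734)) (tt N764 (iv D2867)) (tt N769 F4488) (tt N1042 (iv F16493)))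
theorem Q1194 : ∀ i, i < 1194 → P i := stepQ 1193 Q1193 (allL N1193 (tt N766 F4491) (tt N928 (iv F15614)) (tt N765 (iv D2870)) (tt N913 F32717) (tt N1806 (iv F8740)) (tt N915 F32718) (tt N766 (iv F14905)))
theorem Q1195 : ∀ i, i < 1195 → P i := stepQ 1194 Q1194 (allL N1194 (tt N1040 F32589) (tt N766 (iv D2872)) (tt N767 F4495) (tt N1041 (iv F32671)) (tt N1807 (iv F8746)) (tt N1190 (iv F16626)) (tt N1070 (iv F32657)))
theorem Q1196 : ∀ i, i < 1196 → P i := stepQ 1195 Q1195 (allL N1195 (tt N913 F32733) (tt N1041 F32734) (tt N912 (iv F32787)) (tt N766 (iv D2873)) (tt N1818 D5934) (tt N914 F32735) (tt N913 F32736))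
theorem Q1197 : ∀ i, i < 1197 → P i := stepQ 1196 Q1196 (allL N1196 (tt N767 (iv D2876)) (tt N785 (iv F16613)) (tt N1040 F32590) (tt N785 (iv F32612)) (tt N1809 (iv F8752)) (tt N783 (iv F16619)) (tt N1071 (iv F32658)))
theorem Q1198 : ∀ i, i < 1198 → P i := stepQ 1197 Q1197 (allL N1197 (tt N783 (iv F16618)) (tt N839 (iv F16585)) (tt N1190 (iv F16625)) (tt N784 (iv F32757)) (tt N1811 (iv F8754)) (tt N767 (iv D2878)) (tt N1187 (iv F16633)))
theorem Q1199 : ∀ i, i < 1199 → P i := stepQ 1198 Q1198 (allL N1198 (tt N769 F4502) (tt N1066 F32702) (tt N1043 (iv F16499)) (tt N1813 (iv F8759)) (tt N768 (iv D2881)) (tt N984 (iv F16491)) (tt N1067 (iv F32774)))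
theorem Q1200 : ∀ i, i < 1200 → P i := stepQ 1199 Q1199 (allL N1199 (tt N772 F4528) (tt N1819 D5993) (tt N770 (iv D2900)) (tt N772 F4530) (tt N772 (iv F32555)) (tt N1820 D5995) (tt N1199 F4529))
theorem Q1201 : ∀ i, i < 1201 → P i := stepQ 1200 Q1200 (allL N1200 (tt N773 F4534) (tt N1821 D5997) (tt N1820 (iv F9100)) (tt N771 F4535) (tt N773 (iv F32556)) (tt N770 (iv D2902)) (tt N773 F4536))
theorem Q1202 : ∀ i, i < 1202 → P i := stepQ 1201 Q1201 (allL N1201 (tt N1798 (iv F15558)) (tt N771 (iv D2903)) (tt N1209 (iv F4562)) (tt N1821 (iv F9107)) (tt N780 F4537) (tt N1570 F32537) (tt N1796 (iv F15627)))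
theorem Q1203 : ∀ i, i < 1203 → P i := stepQ 1202 Q1202 (allL N1202 (tt N1822 D6000) (tt N772 (iv D2904)) (tt N1801 (iv F8650)) (tt N1819 (iv F9095)) (tt N1819 F32528) (tt N1823 D6002) (tt N1824 D6003))
theorem Q1204 : ∀ i, i < 1204 → P i := stepQ 1203 Q1203 (allL N1203 (tt N1820 (iv F9099)) (tt N1825 D6006) (tt N773 F4540) (tt N1820 (iv F9101)) (tt N1820 F32617) (tt N772 (iv D2906)) (tt N1820 (iv F9102)))
theorem Q1205 : ∀ i, i < 1205 → P i := stepQ 1204 Q1204 (allL N1204 (tt N1826 D6008) (tt N773 (iv D2908)) (tt N1827 D6009) (tt N774 F4543) (tt N1821 F32540) (tt N1557 F16935) (tt N1828 D6010))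
theorem Q1206 : ∀ i, i < 1206 → P i := stepQ 1205 Q1205 (allL N1205 (tt N774 (iv D2909)) (tt N1829 D6011) (tt N1065 F4544) (tt N1826 (iv F9118)) (tt N781 F4545) (tt N1558 F16933) (tt N1055 F16934))
theorem Q1207 : ∀ i, i < 1207 → P i := stepQ 1206 Q1206 (allL N1206 (tt N1055 F16936) (tt N1796 (iv F15625)) (tt N1066 F4546) (tt N1828 (iv F9119)) (tt N782 F4547) (tt N1054 (iv F16942)) (tt N774 (iv D2910)))
theorem Q1208 : ∀ i, i < 1208 → P i := stepQ 1207 Q1207 (allL N1207 (tt N777 F4553) (tt N1830 D6025) (tt N775 (iv D2915)) (tt N777 F4555) (tt N777 (iv F32877)) (tt N1207 F4554) (tt N1831 D6027))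
theorem Q1209 : ∀ i, i < 1209 → P i := stepQ 1208 Q1208 (allL N1208 (tt N778 F4559) (tt N1832 D6029) (tt N1831 (iv F9153)) (tt N776 F4560) (tt N778 (iv F32767)) (tt N778 F4561) (tt N775 (iv D2917)))
theorem Q1210 : ∀ i, i < 1210 → P i := stepQ 1209 Q1209 (allL N1209 (tt N1811 (iv F16630)) (tt N776 (iv D2918)) (tt N1201 F4562) (tt N1832 (iv F9160)) (tt N783 F4563) (tt N1809 (iv F16617)) (tt N1571 (iv F32678)))
theorem Q1211 : ∀ i, i < 1211 → P i := stepQ 1210 Q1210 (allL N1210 (tt N1833 D6032) (tt N777 (iv D2919)) (tt N1814 (iv F8767)) (tt N1830 (iv F9148)) (tt N1830 F32912) (tt N1834 D6034) (tt N1835 D6035))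
theorem Q1212 : ∀ i, i < 1212 → P i := stepQ 1211 Q1211 (allL N1211 (tt N1831 (iv F9152)) (tt N1836 D6038) (tt N778 F4566) (tt N1831 (iv F9154)) (tt N1831 F32826) (tt N1831 (iv F9155)) (tt N777 (iv D2921)))
theorem Q1213 : ∀ i, i < 1213 → P i := stepQ 1212 Q1212 (allL N1212 (tt N1837 D6040) (tt N778 (iv D2923)) (tt N1838 D6041) (tt N779 F4569) (tt N1832 F32701) (tt N1839 D6042) (tt N1568 F16808))
theorem Q1214 : ∀ i, i < 1214 → P i := stepQ 1213 Q1213 (allL N1213 (tt N779 (iv D2924)) (tt N1840 D6043) (tt N1054 F4570) (tt N1837 (iv F9173)) (tt N784 F4571) (tt N1066 F16811) (tt N1569 F16812))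
theorem Q1215 : ∀ i, i < 1215 → P i := stepQ 1214 Q1214 (allL N1214 (tt N1066 (iv F16803)) (tt N1809 F16731) (tt N1055 F4572) (tt N1839 (iv F9174)) (tt N785 F4573) (tt N779 (iv D2925)) (tt N1065 (iv F16801)))
theorem Q1216 : ∀ i, i < 1216 → P i := stepQ 1215 Q1215 (allL N1215 (tt N1376 (iv F32667)) (tt N781 (iv D2952)) (tt N900 (iv F32651)) (tt N835 (iv F32669)) (tt N1829 (iv F9120)) (tt N1285 (iv F32670)) (tt N834 F32586))
theorem Q1217 : ∀ i, i < 1217 → P i := stepQ 1216 Q1216 (allL N1216 (tt N1382 (iv F32864)) (tt N784 (iv D2981)) (tt N909 (iv F32863)) (tt N839 F32809) (tt N1840 (iv F9175)) (tt N838 (iv F32867)) (tt N1281 (iv F32869)))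
theorem Q1218 : ∀ i, i < 1218 → P i := stepQ 1217 Q1217 (allL N1217 (tt N1217 F15675) (tt N1841 D6705) (tt N788 (iv D3233)) (tt N1405 (iv F16010)) (tt N789 F5016) (tt N1217 F15648) (tt N1217 F17209))
theorem Q1219 : ∀ i, i < 1219 → P i := stepQ 1218 Q1218 (allL N1218 (tt N1842 D6737) (tt N789 (iv D3248)) (tt N793 F5040) (tt N1843 D6738) (tt N1841 (iv F10075)) (tt N1844 D6739) (tt N1845 D6740))
theorem Q1220 : ∀ i, i < 1220 → P i := stepQ 1219 Q1219 (allL N1219 (tt N1219 F15673) (tt N1843 (iv F10128)) (tt N1219 F15674) (tt N789 (iv D3249)) (tt N1407 F16012) (tt N1219 F15647) (tt N1219 F17210))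
theorem Q1221 : ∀ i, i < 1221 → P i := stepQ 1220 Q1220 (allL N1220 (tt N1846 D6803) (tt N790 (iv D3280)) (tt N1841 (iv F10074)) (tt N1847 D6804) (tt N793 F5087) (tt N1848 D6805) (tt N1849 D6806))
theorem Q1222 : ∀ i, i < 1222 → P i := stepQ 1221 Q1221 (allL N1221 (tt N842 F5088) (tt N1847 (iv F10227)) (tt N842 F15687) (tt N790 (iv D3281)) (tt N842 F5089) (tt N1850 D6807) (tt N1851 D6808))
theorem Q1223 : ∀ i, i < 1223 → P i := stepQ 1222 Q1222 (allL N1222 (tt N843 F5090) (tt N1852 D6809) (tt N791 F5091) (tt N1850 (iv F10232)) (tt N794 F5092) (tt N790 (iv D3282)) (tt N1295 (iv F5876)))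
theorem Q1224 : ∀ i, i < 1224 → P i := stepQ 1223 Q1223 (allL N1223 (tt N844 F5093) (tt N1853 D6810) (tt N792 F5094) (tt N1851 (iv F10235)) (tt N795 F5095) (tt N1293 (iv F5871)) (tt N790 (iv D3283)))
theorem Q1225 : ∀ i, i < 1225 → P i := stepQ 1224 Q1224 (allL N1224 (tt N793 (iv D3304)) (tt N1854 D6857) (tt N1842 (iv F10127)) (tt N867 F5124) (tt N1846 (iv F10226)) (tt N1855 D6858) (tt N1856 D6859))
theorem Q1226 : ∀ i, i < 1226 → P i := stepQ 1225 Q1225 (allL N1225 (tt N1855 (iv F10301)) (tt N1857 D6860) (tt N1844 (iv F10129)) (tt N868 F5125) (tt N1848 (iv F10229)) (tt N793 (iv D3305)) (tt N1858 D6861))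
theorem Q1227 : ∀ i, i < 1227 → P i := stepQ 1226 Q1226 (allL N1226 (tt N1856 (iv F10303)) (tt N1859 D6862) (tt N1845 (iv F10130)) (tt N869 F5126) (tt N1849 (iv F10230)) (tt N1860 D6863) (tt N793 (iv D3306)))
theorem Q1228 : ∀ i, i < 1228 → P i := stepQ 1227 Q1227 (allL N1227 (tt N1861 D6864) (tt N794 (iv D3307)) (tt N1227 F15592) (tt N870 F5127) (tt N1852 (iv F10237)) (tt N1857 (iv F10306)) (tt N1862 D6866))
theorem Q1229 : ∀ i, i < 1229 → P i := stepQ 1228 Q1228 (allL N1228 (tt N1863 D6867) (tt N795 (iv D3308)) (tt N1228 F17213) (tt N872 F5128) (tt N1853 (iv F10238)) (tt N1864 D6869) (tt N1859 (iv F10310)))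
theorem Q1230 : ∀ i, i < 1230 → P i := stepQ 1229 Q1229 (allL N1229 (tt N806 F5588) (tt N1865 D7595) (tt N796 (iv D3640)) (tt N1865 (iv F16016)) (tt N801 F5589) (tt N1866 D7597) (tt N1867 D7598))
theorem Q1231 : ∀ i, i < 1231 → P i := stepQ 1230 Q1230 (allL N1230 (tt N807 F5590) (tt N1868 D7599) (tt N1866 (iv F11295)) (tt N797 F5591) (tt N802 F5592) (tt N796 (iv D3641)) (tt N1246 (iv F5657)))
theorem Q1232 : ∀ i, i < 1232 → P i := stepQ 1231 Q1231 (allL N1231 (tt N808 F5593) (tt N1869 D7600) (tt N1867 (iv F11298)) (tt N798 F5594) (tt N803 F5595) (tt N1244 (iv F5650)) (tt N796 (iv D3642)))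
theorem Q1233 : ∀ i, i < 1233 → P i := stepQ 1232 Q1232 (allL N1232 (tt N1232 F15354) (tt N797 (iv D3643)) (tt N1304 F15176) (tt N1868 (iv F11300)) (tt N799 F5596) (tt N1232 F15341) (tt N1304 (iv F17201)))
theorem Q1234 : ∀ i, i < 1234 → P i := stepQ 1233 Q1233 (allL N1233 (tt N1233 F17042) (tt N798 (iv D3644)) (tt N1310 F17039) (tt N1869 (iv F11302)) (tt N800 F5597) (tt N1310 F17043) (tt N1233 F15535))
theorem Q1235 : ∀ i, i < 1235 → P i := stepQ 1234 Q1234 (allL N1234 (tt N1870 D7619) (tt N801 (iv D3651)) (tt N1234 F15605) (tt N1450 (iv F6695)) (tt N1865 (iv F11291)) (tt N1871 D7620) (tt N1872 D7621))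
theorem Q1236 : ∀ i, i < 1236 → P i := stepQ 1235 Q1235 (allL N1235 (tt N819 F5604) (tt N1873 D7622) (tt N802 F5605) (tt N1451 (iv F6700)) (tt N1866 (iv F11296)) (tt N801 (iv D3652)) (tt N1261 (iv F5701)))
theorem Q1237 : ∀ i, i < 1237 → P i := stepQ 1236 Q1236 (allL N1236 (tt N820 F5606) (tt N1874 D7623) (tt N803 F5607) (tt N1452 (iv F6703)) (tt N1867 (iv F11299)) (tt N1259 (iv F5698)) (tt N801 (iv D3653)))
theorem Q1238 : ∀ i, i < 1238 → P i := stepQ 1237 Q1237 (allL N1237 (tt N1237 F15356) (tt N802 (iv D3654)) (tt N1875 D7625) (tt N804 F5608) (tt N1868 (iv F11301)) (tt N1237 F15410) (tt N1337 (iv F17204)))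
theorem Q1239 : ∀ i, i < 1239 → P i := stepQ 1238 Q1238 (allL N1238 (tt N1238 F17044) (tt N803 (iv D3655)) (tt N1876 D7628) (tt N805 F5609) (tt N1869 (iv F11303)) (tt N1345 (iv F17138)) (tt N1238 F15536))
theorem Q1240 : ∀ i, i < 1240 → P i := stepQ 1239 Q1239 (allL N1239 (tt N1877 D7660) (tt N806 (iv D3672)) (tt N841 F5638) (tt N1878 D7661) (tt N817 F5639) (tt N1879 D7662) (tt N1880 D7663))
theorem Q1241 : ∀ i, i < 1241 → P i := stepQ 1240 Q1240 (allL N1240 (tt N1865 (iv F16014)) (tt N1878 (iv F11385)) (tt N1240 F5640) (tt N806 (iv D3673)) (tt N1870 (iv F16018)) (tt N1881 D7665) (tt N1882 D7666))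
theorem Q1242 : ∀ i, i < 1242 → P i := stepQ 1241 Q1241 (allL N1241 (tt N1866 (iv F11294)) (tt N1883 D7667) (tt N807 F5641) (tt N1881 (iv F11393)) (tt N819 F5642) (tt N806 (iv D3674)) (tt N1884 D7668))
theorem Q1243 : ∀ i, i < 1243 → P i := stepQ 1242 Q1242 (allL N1242 (tt N1867 (iv F11297)) (tt N1885 D7669) (tt N808 F5643) (tt N1882 (iv F11395)) (tt N820 F5644) (tt N1886 D7670) (tt N806 (iv D3675)))
theorem Q1244 : ∀ i, i < 1244 → P i := stepQ 1243 Q1243 (allL N1243 (tt N1305 (iv F15030)) (tt N807 (iv D3676)) (tt N1887 D7672) (tt N809 F5645) (tt N821 F5646) (tt N845 F5647) (tt N1888 D7673))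
theorem Q1245 : ∀ i, i < 1245 → P i := stepQ 1244 Q1244 (allL N1244 (tt N1246 (iv F5654)) (tt N1889 D7674) (tt N1884 (iv F11397)) (tt N810 F5648) (tt N822 F5649) (tt N1231 F5650) (tt N807 (iv D3677)))
theorem Q1246 : ∀ i, i < 1246 → P i := stepQ 1245 Q1245 (allL N1245 (tt N1311 (iv F16903)) (tt N808 (iv D3678)) (tt N1890 D7676) (tt N811 F5651) (tt N823 F5652) (tt N1891 D7677) (tt N847 F5653))
theorem Q1247 : ∀ i, i < 1247 → P i := stepQ 1246 Q1246 (allL N1246 (tt N1244 F5654) (tt N1892 D7678) (tt N1886 (iv F11402)) (tt N812 F5655) (tt N824 F5656) (tt N808 (iv D3679)) (tt N1230 F5657))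
theorem Q1248 : ∀ i, i < 1248 → P i := stepQ 1247 Q1247 (allL N1247 (tt N1306 (iv F15032)) (tt N1249 F17070) (tt N1250 F17145) (tt N1888 (iv F11410)) (tt N813 F5662) (tt N1250 F17071) (tt N809 (iv D3682)))
theorem Q1249 : ∀ i, i < 1249 → P i := stepQ 1248 Q1248 (allL N1248 (tt N855 F17072) (tt N810 (iv D3683)) (tt N1249 (iv F17177)) (tt N1889 (iv F11412)) (tt N814 F5663) (tt N853 F17073) (tt N1249 F17074))
theorem Q1250 : ∀ i, i < 1250 → P i := stepQ 1249 Q1249 (allL N1249 (tt N1312 (iv F16905)) (tt N1247 (iv F17070)) (tt N1248 F17177) (tt N1891 (iv F11419)) (tt N815 F5668) (tt N811 (iv D3686)) (tt N1248 (iv F17074)))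
theorem Q1251 : ∀ i, i < 1251 → P i := stepQ 1250 Q1250 (allL N1250 (tt N851 (iv F17144)) (tt N812 (iv D3687)) (tt N1247 (iv F17145)) (tt N1892 (iv F11421)) (tt N816 F5669) (tt N1247 (iv F17071)) (tt N849 (iv F17149)))
theorem Q1252 : ∀ i, i < 1252 → P i := stepQ 1251 Q1251 (allL N1251 (tt N817 (iv D3704)) (tt N1893 D7733) (tt N867 F5691) (tt N1894 D7734) (tt N1877 (iv F11384)) (tt N1895 D7735) (tt N1896 D7736))
theorem Q1253 : ∀ i, i < 1253 → P i := stepQ 1252 Q1252 (allL N1252 (tt N1894 (iv F11496)) (tt N818 F5692) (tt N1897 D7737) (tt N817 (iv D3705)) (tt N1898 D7738) (tt N1899 D7739) (tt N1900 D7740))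
theorem Q1254 : ∀ i, i < 1254 → P i := stepQ 1253 Q1253 (allL N1253 (tt N1895 (iv F11497)) (tt N1901 D7741) (tt N868 F5693) (tt N1899 (iv F11502)) (tt N1879 (iv F11387)) (tt N817 (iv D3706)) (tt N1902 D7742))
theorem Q1255 : ∀ i, i < 1255 → P i := stepQ 1254 Q1254 (allL N1254 (tt N1896 (iv F11499)) (tt N1903 D7743) (tt N869 F5694) (tt N1900 (iv F11503)) (tt N1880 (iv F11389)) (tt N1904 D7744) (tt N817 (iv D3707)))
theorem Q1256 : ∀ i, i < 1256 → P i := stepQ 1255 Q1255 (allL N1255 (tt N1450 F16019) (tt N1898 (iv F11501)) (tt N1416 (iv F6500)) (tt N1870 F16020) (tt N818 (iv D3708)) (tt N1905 D7745) (tt N1906 D7746))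
theorem Q1257 : ∀ i, i < 1257 → P i := stepQ 1256 Q1256 (allL N1256 (tt N1451 (iv F6698)) (tt N1907 D7747) (tt N1417 (iv F6502)) (tt N819 F5695) (tt N1905 (iv F11511)) (tt N818 (iv D3709)) (tt N1908 D7748))
theorem Q1258 : ∀ i, i < 1258 → P i := stepQ 1257 Q1257 (allL N1257 (tt N1452 (iv F6701)) (tt N1909 D7749) (tt N1418 (iv F6505)) (tt N820 F5696) (tt N1906 (iv F11512)) (tt N1910 D7750) (tt N818 (iv D3710)))
theorem Q1259 : ∀ i, i < 1259 → P i := stepQ 1258 Q1258 (allL N1258 (tt N1911 D7751) (tt N819 (iv D3711)) (tt N1912 D7752) (tt N1907 (iv F11513)) (tt N1883 (iv F11396)) (tt N1901 (iv F11504)) (tt N1913 D7753))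
theorem Q1260 : ∀ i, i < 1260 → P i := stepQ 1259 Q1259 (allL N1259 (tt N1261 (iv F5699)) (tt N1914 D7754) (tt N822 F5697) (tt N1908 (iv F11515)) (tt N1884 (iv F11398)) (tt N1236 F5698) (tt N819 (iv D3712)))
theorem Q1261 : ∀ i, i < 1261 → P i := stepQ 1260 Q1260 (allL N1260 (tt N1915 D7755) (tt N820 (iv D3713)) (tt N1916 D7756) (tt N1909 (iv F11517)) (tt N1885 (iv F11400)) (tt N1917 D7757) (tt N1903 (iv F11507)))
theorem Q1262 : ∀ i, i < 1262 → P i := stepQ 1261 Q1261 (allL N1261 (tt N1259 F5699) (tt N1918 D7758) (tt N824 F5700) (tt N1910 (iv F11520)) (tt N1886 (iv F11403)) (tt N820 (iv D3714)) (tt N1235 F5701))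
theorem Q1263 : ∀ i, i < 1263 → P i := stepQ 1262 Q1262 (allL N1262 (tt N821 (iv D3715)) (tt N1262 F15034) (tt N1919 D7760) (tt N825 F5702) (tt N1305 (iv F15031)) (tt N874 F5703) (tt N1342 (iv F5997)))
theorem Q1264 : ∀ i, i < 1264 → P i := stepQ 1263 Q1263 (allL N1263 (tt N1919 (iv F11525)) (tt N1912 (iv F11522)) (tt N821 (iv D3716)) (tt N1920 D7761) (tt N1887 (iv F11408)) (tt N875 F5704) (tt N1921 D7762))
theorem Q1265 : ∀ i, i < 1265 → P i := stepQ 1264 Q1264 (allL N1264 (tt N1342 (iv F5995)) (tt N1268 F17064) (tt N1921 (iv F11528)) (tt N827 F5705) (tt N1888 (iv F11411)) (tt N1269 F17065) (tt N821 (iv D3717)))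
theorem Q1266 : ∀ i, i < 1266 → P i := stepQ 1265 Q1265 (allL N1265 (tt N880 F17066) (tt N822 (iv D3718)) (tt N1922 D7765) (tt N828 F5706) (tt N1889 (iv F11413)) (tt N878 F17067) (tt N1268 F17068))
theorem Q1267 : ∀ i, i < 1267 → P i := stepQ 1266 Q1266 (allL N1266 (tt N823 (iv D3719)) (tt N1266 F16901) (tt N1923 D7768) (tt N829 F5707) (tt N1311 (iv F16904)) (tt N1350 (iv F6011)) (tt N878 F5708))
theorem Q1268 : ∀ i, i < 1268 → P i := stepQ 1267 Q1267 (allL N1267 (tt N1923 (iv F11535)) (tt N1916 (iv F11523)) (tt N823 (iv D3720)) (tt N1924 D7769) (tt N1890 (iv F11417)) (tt N1925 D7770) (tt N879 F5709))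
theorem Q1269 : ∀ i, i < 1269 → P i := stepQ 1268 Q1268 (allL N1268 (tt N1350 (iv F6009)) (tt N1264 (iv F17064)) (tt N1925 (iv F11538)) (tt N831 F5710) (tt N1891 (iv F11420)) (tt N823 (iv D3721)) (tt N1265 (iv F17068)))
theorem Q1270 : ∀ i, i < 1270 → P i := stepQ 1269 Q1269 (allL N1269 (tt N876 (iv F17153)) (tt N824 (iv D3722)) (tt N1926 D7773) (tt N832 F5711) (tt N1892 (iv F11422)) (tt N1264 (iv F17065)) (tt N874 (iv F17157)))
theorem Q1271 : ∀ i, i < 1271 → P i := stepQ 1270 Q1270 (allL N1270 (tt N826 F5713) (tt N1927 D7779) (tt N825 (iv D3724)) (tt N1928 D7780) (tt N833 F5714) (tt N883 F5715) (tt N1358 (iv F6034)))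
theorem Q1272 : ∀ i, i < 1272 → P i := stepQ 1271 Q1271 (allL N1271 (tt N1928 (iv F11553)) (tt N977 F5716) (tt N1929 D7781) (tt N826 (iv D3725)) (tt N1930 D7782) (tt N884 F5717) (tt N1931 D7783))
theorem Q1273 : ∀ i, i < 1273 → P i := stepQ 1272 Q1272 (allL N1272 (tt N1358 (iv F6031)) (tt N1798 F16859) (tt N827 F5718) (tt N1931 (iv F11559)) (tt N835 F5719) (tt N1277 (iv F16971)) (tt N826 (iv D3726)))
theorem Q1274 : ∀ i, i < 1274 → P i := stepQ 1273 Q1273 (allL N1273 (tt N893 F16813) (tt N979 F5723) (tt N828 (iv D3729)) (tt N1932 D7791) (tt N836 F5724) (tt N891 F16814) (tt N1276 F16815))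
theorem Q1275 : ∀ i, i < 1275 → P i := stepQ 1274 Q1274 (allL N1274 (tt N830 F5728) (tt N1933 D7798) (tt N829 (iv D3732)) (tt N1934 D7799) (tt N837 F5729) (tt N1368 (iv F6073)) (tt N891 F5730))
theorem Q1276 : ∀ i, i < 1276 → P i := stepQ 1275 Q1275 (allL N1275 (tt N1934 (iv F11587)) (tt N980 F5731) (tt N1935 D7800) (tt N830 (iv D3733)) (tt N1936 D7801) (tt N1937 D7802) (tt N892 F5732))
theorem Q1277 : ∀ i, i < 1277 → P i := stepQ 1276 Q1276 (allL N1276 (tt N1368 (iv F6070)) (tt N1811 F16697) (tt N831 F5733) (tt N1937 (iv F11593)) (tt N839 F5734) (tt N830 (iv D3734)) (tt N1273 (iv F16815)))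
theorem Q1278 : ∀ i, i < 1278 → P i := stepQ 1277 Q1277 (allL N1277 (tt N885 (iv F17087)) (tt N982 F5738) (tt N832 (iv D3737)) (tt N1938 D7810) (tt N840 F5739) (tt N1272 F16971) (tt N883 (iv F17091)))
theorem Q1279 : ∀ i, i < 1279 → P i := stepQ 1278 Q1278 (allL N1278 (tt N1278 F5743) (tt N833 (iv D3743)) (tt N1278 F14827) (tt N1939 D7821) (tt N1927 (iv F11552)) (tt N1278 F14828) (tt N1939 F32732))
theorem Q1280 : ∀ i, i < 1280 → P i := stepQ 1279 Q1279 (allL N1279 (tt N834 F5744) (tt N1939 (iv F11637)) (tt N898 (iv F14727)) (tt N833 (iv D3744)) (tt N1940 D7824) (tt N898 F5745) (tt N1376 (iv F6123)))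
theorem Q1281 : ∀ i, i < 1281 → P i := stepQ 1280 Q1280 (allL N1280 (tt N1940 (iv F11642)) (tt N983 F5747) (tt N899 (iv F14729)) (tt N1930 (iv F11557)) (tt N834 (iv D3746)) (tt N899 F5748) (tt N1829 (iv F32534)))
theorem Q1282 : ∀ i, i < 1282 → P i := stepQ 1281 Q1281 (allL N1281 (tt N909 F16605) (tt N905 F32868) (tt N1382 (iv F16727)) (tt N836 (iv D3755)) (tt N1941 D7845) (tt N907 F16606) (tt N1216 F32869))
theorem Q1283 : ∀ i, i < 1283 → P i := stepQ 1282 Q1282 (allL N1282 (tt N1282 F16134) (tt N837 (iv D3762)) (tt N1282 F16668) (tt N1942 D7859) (tt N1933 (iv F11586)) (tt N1942 (iv F32944)) (tt N1282 F16669))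
theorem Q1284 : ∀ i, i < 1284 → P i := stepQ 1283 Q1283 (allL N1283 (tt N838 F5761) (tt N1942 (iv F11723)) (tt N907 (iv F16514)) (tt N837 (iv D3763)) (tt N1943 D7862) (tt N1382 (iv F6173)) (tt N907 F5762))
theorem Q1285 : ∀ i, i < 1285 → P i := stepQ 1284 Q1284 (allL N1284 (tt N1943 (iv F11729)) (tt N984 F5764) (tt N908 (iv F16516)) (tt N1936 (iv F11591)) (tt N838 (iv D3765)) (tt N1840 F32830) (tt N908 F5765))
theorem Q1286 : ∀ i, i < 1286 → P i := stepQ 1285 Q1285 (allL N1285 (tt N900 (iv F17096)) (tt N914 (iv F32711)) (tt N1376 (iv F17097)) (tt N840 (iv D3774)) (tt N1944 D7879) (tt N1215 F32670) (tt N898 (iv F17102)))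
theorem Q1287 : ∀ i, i < 1287 → P i := stepQ 1286 Q1286 (allL N1286 (tt N841 (iv D3826)) (tt N1945 D7995) (tt N1877 (iv F11383)) (tt N1946 D7996) (tt N867 F5862) (tt N1947 D7997) (tt N1948 D7998))
theorem Q1288 : ∀ i, i < 1288 → P i := stepQ 1287 Q1287 (allL N1287 (tt N1946 (iv F11934)) (tt N842 F5863) (tt N1949 D7999) (tt N841 (iv D3827)) (tt N1847 (iv F10228)) (tt N1950 D8000) (tt N1951 D8001))
theorem Q1289 : ∀ i, i < 1289 → P i := stepQ 1288 Q1288 (allL N1288 (tt N1947 (iv F11935)) (tt N1952 D8002) (tt N1879 (iv F11386)) (tt N1950 (iv F11939)) (tt N868 F5864) (tt N841 (iv D3828)) (tt N1953 D8003))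
theorem Q1290 : ∀ i, i < 1290 → P i := stepQ 1289 Q1289 (allL N1289 (tt N1948 (iv F11937)) (tt N1954 D8004) (tt N1880 (iv F11388)) (tt N1951 (iv F11940)) (tt N869 F5865) (tt N1955 D8005) (tt N841 (iv D3829)))
theorem Q1291 : ∀ i, i < 1291 → P i := stepQ 1290 Q1290 (allL N1290 (tt N1850 (iv F10231)) (tt N1956 D8006) (tt N1850 (iv F15665)) (tt N843 F5866) (tt N1850 (iv F10233)) (tt N842 (iv D3830)) (tt N1957 D8007))
theorem Q1292 : ∀ i, i < 1292 → P i := stepQ 1291 Q1291 (allL N1291 (tt N1851 (iv F10234)) (tt N1958 D8008) (tt N1851 (iv F15711)) (tt N844 F5867) (tt N1851 (iv F10236)) (tt N1959 D8009) (tt N842 (iv D3831)))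
theorem Q1293 : ∀ i, i < 1293 → P i := stepQ 1292 Q1292 (allL N1292 (tt N1960 D8010) (tt N843 (iv D3832)) (tt N1961 D8011) (tt N1956 (iv F11950)) (tt N870 F5868) (tt N1952 (iv F11942)) (tt N1962 D8012))
theorem Q1294 : ∀ i, i < 1294 → P i := stepQ 1293 Q1293 (allL N1293 (tt N1295 (iv F5873)) (tt N1963 D8013) (tt N846 F5869) (tt N1957 (iv F11951)) (tt N871 F5870) (tt N1223 F5871) (tt N843 (iv D3833)))
theorem Q1295 : ∀ i, i < 1295 → P i := stepQ 1294 Q1294 (allL N1294 (tt N1964 D8014) (tt N844 (iv D3834)) (tt N1965 D8015) (tt N1958 (iv F11953)) (tt N872 F5872) (tt N1966 D8016) (tt N1954 (iv F11946)))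
theorem Q1296 : ∀ i, i < 1296 → P i := stepQ 1295 Q1295 (allL N1295 (tt N1293 F5873) (tt N1967 D8017) (tt N848 F5874) (tt N1959 (iv F11955)) (tt N873 F5875) (tt N844 (iv D3835)) (tt N1222 F5876))
theorem Q1297 : ∀ i, i < 1297 → P i := stepQ 1296 Q1296 (allL N1296 (tt N845 (iv D3836)) (tt N1968 D8018) (tt N1969 D8019) (tt N849 F5877) (tt N874 F5878) (tt N1305 F15037) (tt N1892 (iv F17148)))
theorem Q1298 : ∀ i, i < 1298 → P i := stepQ 1297 Q1297 (allL N1297 (tt N1969 (iv F11970)) (tt N1961 (iv F11959)) (tt N845 (iv D3837)) (tt N1970 D8021) (tt N875 F5879) (tt N1887 (iv F11409)) (tt N1971 D8022))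
theorem Q1299 : ∀ i, i < 1299 → P i := stepQ 1298 Q1298 (allL N1298 (tt N1892 (iv F17146)) (tt N1972 D8023) (tt N1971 (iv F11976)) (tt N851 F5880) (tt N876 F5881) (tt N1973 D8024) (tt N845 (iv D3838)))
theorem Q1300 : ∀ i, i < 1300 → P i := stepQ 1299 Q1299 (allL N1299 (tt N1974 D8025) (tt N846 (iv D3839)) (tt N1975 D8026) (tt N852 F5882) (tt N877 F5883) (tt N1299 F17161) (tt N1972 (iv F11980)))
theorem Q1301 : ∀ i, i < 1301 → P i := stepQ 1300 Q1300 (allL N1300 (tt N847 (iv D3840)) (tt N1976 D8028) (tt N1977 D8029) (tt N853 F5884) (tt N878 F5885) (tt N1889 (iv F17174)) (tt N1311 F16911))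
theorem Q1302 : ∀ i, i < 1302 → P i := stepQ 1301 Q1301 (allL N1301 (tt N1977 (iv F11993)) (tt N1965 (iv F11964)) (tt N847 (iv D3841)) (tt N1978 D8031) (tt N879 F5886) (tt N1979 D8032) (tt N1890 (iv F11418)))
theorem Q1303 : ∀ i, i < 1303 → P i := stepQ 1302 Q1302 (allL N1302 (tt N1889 (iv F17173)) (tt N1980 D8033) (tt N1979 (iv F11999)) (tt N855 F5887) (tt N880 F5888) (tt N847 (iv D3842)) (tt N1981 D8034))
theorem Q1304 : ∀ i, i < 1304 → P i := stepQ 1303 Q1303 (allL N1303 (tt N1982 D8035) (tt N848 (iv D3843)) (tt N1983 D8036) (tt N856 F5889) (tt N881 F5890) (tt N1980 (iv F12003)) (tt N1303 F15348))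
theorem Q1305 : ∀ i, i < 1305 → P i := stepQ 1304 Q1304 (allL N1304 (tt N1304 F15370) (tt N849 (iv D3844)) (tt N1232 (iv F15176)) (tt N1968 (iv F11968)) (tt N857 F5891) (tt N1304 F15338) (tt N1232 F17201))
theorem Q1306 : ∀ i, i < 1306 → P i := stepQ 1305 Q1305 (allL N1305 (tt N1243 F15030) (tt N1305 F15165) (tt N1984 D8046) (tt N850 (iv D3847)) (tt N1262 F15031) (tt N1296 (iv F15037)) (tt N1973 (iv F15169)))
theorem Q1307 : ∀ i, i < 1307 → P i := stepQ 1306 Q1306 (allL N1306 (tt N1247 F15032) (tt N1314 (iv F17208)) (tt N851 F5897) (tt N1973 (iv F15168)) (tt N858 F5898) (tt N851 (iv F15035)) (tt N850 (iv D3848)))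
theorem Q1308 : ∀ i, i < 1308 → P i := stepQ 1307 Q1307 (allL N1307 (tt N1985 D8051) (tt N851 (iv D3849)) (tt N1986 D8052) (tt N1972 (iv F11978)) (tt N859 F5899) (tt N1985 F17166) (tt N852 F5900))
theorem Q1309 : ∀ i, i < 1309 → P i := stepQ 1308 Q1308 (allL N1308 (tt N852 (iv D3851)) (tt N1312 F17037) (tt N1987 D8056) (tt N1974 (iv F11985)) (tt N860 F5904) (tt N1308 F17141) (tt N1985 (iv F12033)))
theorem Q1310 : ∀ i, i < 1310 → P i := stepQ 1309 Q1309 (allL N1309 (tt N1987 (iv F12039)) (tt N1309 F15629) (tt N852 (iv D3852)) (tt N1988 D8058) (tt N861 F5905) (tt N1309 F17164) (tt N1986 (iv F12035)))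
theorem Q1311 : ∀ i, i < 1311 → P i := stepQ 1310 Q1310 (allL N1310 (tt N1310 F17040) (tt N853 (iv D3854)) (tt N1233 (iv F17039)) (tt N1976 (iv F11991)) (tt N862 F5908) (tt N1233 (iv F17043)) (tt N1310 F17041))
theorem Q1312 : ∀ i, i < 1312 → P i := stepQ 1311 Q1311 (allL N1311 (tt N1245 F16903) (tt N1311 F15689) (tt N1989 D8069) (tt N854 (iv D3857)) (tt N1266 F16904) (tt N1981 (iv F17036)) (tt N1300 (iv F16911)))
theorem Q1313 : ∀ i, i < 1313 → P i := stepQ 1312 Q1312 (allL N1312 (tt N1249 F16905) (tt N1308 (iv F17037)) (tt N855 F5914) (tt N1981 (iv F17035)) (tt N863 F5915) (tt N854 (iv D3858)) (tt N855 (iv F16907)))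
theorem Q1314 : ∀ i, i < 1314 → P i := stepQ 1313 Q1313 (allL N1313 (tt N1990 D8074) (tt N855 (iv D3859)) (tt N1991 D8075) (tt N1980 (iv F12001)) (tt N864 F5916) (tt N856 F5917) (tt N1990 (iv F15467)))
theorem Q1315 : ∀ i, i < 1315 → P i := stepQ 1314 Q1314 (allL N1314 (tt N856 (iv D3861)) (tt N1306 F17208) (tt N1992 D8079) (tt N1982 (iv F12008)) (tt N865 F5921) (tt N1990 (iv F12068)) (tt N1314 F15350))
theorem Q1316 : ∀ i, i < 1316 → P i := stepQ 1315 Q1315 (allL N1315 (tt N1992 (iv F12074)) (tt N1315 F15632) (tt N856 (iv D3862)) (tt N1993 D8081) (tt N866 F5922) (tt N1991 (iv F12070)) (tt N1315 F15353))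
theorem Q1317 : ∀ i, i < 1317 → P i := stepQ 1316 Q1316 (allL N1316 (tt N859 (iv D3877)) (tt N1319 (iv F15565)) (tt N1994 D8115) (tt N903 F5937) (tt N1985 (iv F12032)) (tt N859 (iv F17059)) (tt N860 F5938))
theorem Q1318 : ∀ i, i < 1318 → P i := stepQ 1317 Q1317 (allL N1317 (tt N1994 (iv F12117)) (tt N1321 F17214) (tt N859 (iv D3878)) (tt N1120 F32861) (tt N1986 (iv F12034)) (tt N1994 F17165) (tt N861 F5939))
theorem Q1319 : ∀ i, i < 1319 → P i := stepQ 1318 Q1318 (allL N1318 (tt N861 F5943) (tt N1320 (iv F17038)) (tt N860 (iv D3882)) (tt N1439 F32928) (tt N1987 (iv F12040)) (tt N1318 F17140) (tt N1994 (iv F12118)))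
theorem Q1320 : ∀ i, i < 1320 → P i := stepQ 1319 Q1319 (allL N1319 (tt N864 (iv D3900)) (tt N1316 F15565) (tt N1995 D8166) (tt N912 F5963) (tt N1990 (iv F12067)) (tt N865 F5964) (tt N864 F15351))
theorem Q1321 : ∀ i, i < 1321 → P i := stepQ 1320 Q1320 (allL N1320 (tt N1995 (iv F12174)) (tt N1318 F17038) (tt N864 (iv D3901)) (tt N1122 F32894) (tt N1991 (iv F12069)) (tt N866 F5965) (tt N1995 (iv F15466)))
theorem Q1322 : ∀ i, i < 1322 → P i := stepQ 1321 Q1321 (allL N1321 (tt N866 F5969) (tt N1317 (iv F17214)) (tt N865 (iv D3905)) (tt N1440 F32800) (tt N1992 (iv F12075)) (tt N1995 (iv F12175)) (tt N1321 F15349))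
theorem Q1323 : ∀ i, i < 1323 → P i := stepQ 1322 Q1322 (allL N1322 (tt N1996 D8187) (tt N867 (iv D3910)) (tt N1996 (iv F19074)) (tt N1854 (iv F10300)) (tt N1945 (iv F11933)) (tt N1997 D8189) (tt N1998 D8190))
theorem Q1324 : ∀ i, i < 1324 → P i := stepQ 1323 Q1323 (allL N1323 (tt N868 F5977) (tt N1999 D8191) (tt N1895 (iv F11498)) (tt N1855 (iv F10302)) (tt N1947 (iv F11936)) (tt N867 (iv D3911)) (tt N1328 (iv F5983)))
theorem Q1325 : ∀ i, i < 1325 → P i := stepQ 1324 Q1324 (allL N1324 (tt N869 F5978) (tt N2000 D8192) (tt N1896 (iv F11500)) (tt N1856 (iv F10304)) (tt N1948 (iv F11938)) (tt N1326 (iv F5980)) (tt N867 (iv D3912)))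
theorem Q1326 : ∀ i, i < 1326 → P i := stepQ 1325 Q1325 (allL N1325 (tt N2001 D8193) (tt N868 (iv D3913)) (tt N2002 D8194) (tt N1857 (iv F10305)) (tt N1952 (iv F11941)) (tt N870 F5979) (tt N2003 D8195))
theorem Q1327 : ∀ i, i < 1327 → P i := stepQ 1326 Q1326 (allL N1326 (tt N1328 (iv F5982)) (tt N2004 D8196) (tt N1902 (iv F11505)) (tt N1858 (iv F10307)) (tt N1953 (iv F11943)) (tt N1324 F5980) (tt N868 (iv D3914)))
theorem Q1328 : ∀ i, i < 1328 → P i := stepQ 1327 Q1327 (allL N1327 (tt N2005 D8197) (tt N869 (iv D3915)) (tt N2006 D8198) (tt N1859 (iv F10309)) (tt N1954 (iv F11945)) (tt N2007 D8199) (tt N872 F5981))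
theorem Q1329 : ∀ i, i < 1329 → P i := stepQ 1328 Q1328 (allL N1328 (tt N1326 F5982) (tt N2008 D8200) (tt N1904 (iv F11509)) (tt N1860 (iv F10312)) (tt N1955 (iv F11948)) (tt N869 (iv D3916)) (tt N1323 F5983))
theorem Q1330 : ∀ i, i < 1330 → P i := stepQ 1329 Q1329 (allL N1329 (tt N870 (iv D3917)) (tt N2009 D8201) (tt N2010 D8202) (tt N1861 (iv F10314)) (tt N1960 (iv F11958)) (tt N2001 (iv F12199)) (tt N2011 D8203))
theorem Q1331 : ∀ i, i < 1331 → P i := stepQ 1330 Q1330 (allL N1330 (tt N2010 (iv F12203)) (tt N875 F5984) (tt N870 (iv D3918)) (tt N2012 D8204) (tt N1961 (iv F11960)) (tt N2002 (iv F12200)) (tt N2013 D8205))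
theorem Q1332 : ∀ i, i < 1332 → P i := stepQ 1331 Q1331 (allL N1331 (tt N2011 (iv F12204)) (tt N2014 D8206) (tt N2013 (iv F12207)) (tt N1862 (iv F10316)) (tt N1962 (iv F11961)) (tt N2015 D8207) (tt N870 (iv D3919)))
theorem Q1333 : ∀ i, i < 1333 → P i := stepQ 1332 Q1332 (allL N1332 (tt N2016 D8208) (tt N871 (iv D3920)) (tt N2017 D8209) (tt N1336 (iv F5986)) (tt N1963 (iv F11962)) (tt N2018 D8210) (tt N2014 (iv F12208)))
theorem Q1334 : ∀ i, i < 1334 → P i := stepQ 1333 Q1333 (allL N1333 (tt N872 (iv D3921)) (tt N2019 D8211) (tt N2020 D8212) (tt N1863 (iv F10317)) (tt N1964 (iv F11963)) (tt N2021 D8213) (tt N2005 (iv F12201)))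
theorem Q1335 : ∀ i, i < 1335 → P i := stepQ 1334 Q1334 (allL N1334 (tt N2020 (iv F12213)) (tt N879 F5985) (tt N872 (iv D3922)) (tt N2022 D8214) (tt N1965 (iv F11965)) (tt N2023 D8215) (tt N2006 (iv F12202)))
theorem Q1336 : ∀ i, i < 1336 → P i := stepQ 1335 Q1335 (allL N1335 (tt N2021 (iv F12214)) (tt N2024 D8216) (tt N2023 (iv F12217)) (tt N1864 (iv F10319)) (tt N1966 (iv F11966)) (tt N872 (iv D3923)) (tt N2025 D8217))
theorem Q1337 : ∀ i, i < 1337 → P i := stepQ 1336 Q1336 (allL N1336 (tt N2026 D8218) (tt N873 (iv D3924)) (tt N2027 D8219) (tt N1332 F5986) (tt N1967 (iv F11967)) (tt N2024 (iv F12219)) (tt N2028 D8220))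
theorem Q1338 : ∀ i, i < 1338 → P i := stepQ 1337 Q1337 (allL N1337 (tt N1337 F15372) (tt N874 (iv D3925)) (tt N2029 D8222) (tt N882 F5987) (tt N1968 (iv F11969)) (tt N1337 F15339) (tt N1237 F17204))
theorem Q1339 : ∀ i, i < 1339 → P i := stepQ 1338 Q1338 (allL N1338 (tt N875 F5988) (tt N2030 D8225) (tt N874 (iv D3926)) (tt N2031 D8226) (tt N1969 (iv F11971)) (tt N1919 (iv F11526)) (tt N1926 (iv F17156)))
theorem Q1340 : ∀ i, i < 1340 → P i := stepQ 1339 Q1339 (allL N1339 (tt N2031 (iv F12229)) (tt N2012 (iv F12206)) (tt N2032 D8229) (tt N875 (iv D3928)) (tt N2033 D8230) (tt N1920 (iv F11527)) (tt N2034 D8231))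
theorem Q1341 : ∀ i, i < 1341 → P i := stepQ 1340 Q1340 (allL N1340 (tt N1926 (iv F17154)) (tt N2035 D8232) (tt N876 F5992) (tt N2034 (iv F12234)) (tt N1971 (iv F11977)) (tt N2036 D8233) (tt N875 (iv D3929)))
theorem Q1342 : ∀ i, i < 1342 → P i := stepQ 1341 Q1341 (allL N1341 (tt N2037 D8234) (tt N876 (iv D3930)) (tt N2038 D8235) (tt N886 F5993) (tt N1972 (iv F11979)) (tt N2037 F17162) (tt N877 F5994))
theorem Q1343 : ∀ i, i < 1343 → P i := stepQ 1342 Q1342 (allL N1342 (tt N1264 F5995) (tt N1351 (iv F17207)) (tt N2036 (iv F12236)) (tt N887 F5996) (tt N1973 (iv F11983)) (tt N876 (iv D3931)) (tt N1262 F5997))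
theorem Q1344 : ∀ i, i < 1344 → P i := stepQ 1343 Q1343 (allL N1343 (tt N877 (iv D3932)) (tt N1350 (iv F15612)) (tt N2039 D8239) (tt N888 F5998) (tt N1974 (iv F11986)) (tt N1343 F17142) (tt N2037 (iv F12239)))
theorem Q1345 : ∀ i, i < 1345 → P i := stepQ 1344 Q1344 (allL N1344 (tt N2039 (iv F12244)) (tt N2017 (iv F12211)) (tt N877 (iv D3933)) (tt N2040 D8241) (tt N1975 (iv F11987)) (tt N1344 F17160) (tt N2038 (iv F12240)))
theorem Q1346 : ∀ i, i < 1346 → P i := stepQ 1345 Q1345 (allL N1345 (tt N1345 F17137) (tt N878 (iv D3935)) (tt N2041 D8245) (tt N890 F6001) (tt N1976 (iv F11992)) (tt N1238 F17138) (tt N1345 F17139))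
theorem Q1347 : ∀ i, i < 1347 → P i := stepQ 1346 Q1346 (allL N1346 (tt N879 F6002) (tt N2042 D8248) (tt N878 (iv D3936)) (tt N2043 D8249) (tt N1977 (iv F11994)) (tt N1922 (iv F17171)) (tt N1923 (iv F11536)))
theorem Q1348 : ∀ i, i < 1348 → P i := stepQ 1347 Q1347 (allL N1347 (tt N2043 (iv F12255)) (tt N2022 (iv F12216)) (tt N2044 D8252) (tt N879 (iv D3938)) (tt N2045 D8253) (tt N2046 D8254) (tt N1924 (iv F11537)))
theorem Q1349 : ∀ i, i < 1349 → P i := stepQ 1348 Q1348 (allL N1348 (tt N1922 (iv F17170)) (tt N2047 D8255) (tt N880 F6006) (tt N2046 (iv F12260)) (tt N1979 (iv F12000)) (tt N879 (iv D3939)) (tt N2048 D8256))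
theorem Q1350 : ∀ i, i < 1350 → P i := stepQ 1349 Q1349 (allL N1349 (tt N2049 D8257) (tt N880 (iv D3940)) (tt N2050 D8258) (tt N894 F6007) (tt N1980 (iv F12002)) (tt N881 F6008) (tt N2049 (iv F15465)))
theorem Q1351 : ∀ i, i < 1351 → P i := stepQ 1350 Q1350 (allL N1350 (tt N1268 F6009) (tt N1343 F15612) (tt N2048 (iv F12262)) (tt N895 F6010) (tt N1981 (iv F12006)) (tt N1266 F6011) (tt N880 (iv D3941)))
theorem Q1352 : ∀ i, i < 1352 → P i := stepQ 1351 Q1351 (allL N1351 (tt N881 (iv D3942)) (tt N1342 F17207) (tt N2051 D8262) (tt N896 F6012) (tt N1982 (iv F12009)) (tt N2049 (iv F12265)) (tt N1351 F15345))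
theorem Q1353 : ∀ i, i < 1353 → P i := stepQ 1352 Q1352 (allL N1352 (tt N2051 (iv F12270)) (tt N2027 (iv F12223)) (tt N881 (iv D3943)) (tt N2052 D8264) (tt N1983 (iv F12010)) (tt N2050 (iv F12266)) (tt N1352 F15347))
theorem Q1354 : ∀ i, i < 1354 → P i := stepQ 1353 Q1353 (allL N1353 (tt N884 F6020) (tt N1353 F15060) (tt N2053 D8275) (tt N883 (iv D3950)) (tt N2054 D8276) (tt N1928 (iv F11554)) (tt N1938 (iv F17090)))
theorem Q1355 : ∀ i, i < 1355 → P i := stepQ 1354 Q1354 (allL N1354 (tt N2053 (iv F12296)) (tt N2055 D8282) (tt N884 (iv D3953)) (tt N2056 D8283) (tt N2057 D8284) (tt N1929 (iv F11555)) (tt N2058 D8285))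
theorem Q1356 : ∀ i, i < 1356 → P i := stepQ 1355 Q1355 (allL N1355 (tt N2054 (iv F12298)) (tt N917 F6026) (tt N2057 (iv F12311)) (tt N899 F6027) (tt N884 (iv D3954)) (tt N1930 (iv F11558)) (tt N2059 D8286))
theorem Q1357 : ∀ i, i < 1357 → P i := stepQ 1356 Q1356 (allL N1356 (tt N1938 (iv F17088)) (tt N2060 D8287) (tt N2058 (iv F12312)) (tt N885 F6028) (tt N2059 (iv F12314)) (tt N2061 D8288) (tt N884 (iv D3955)))
theorem Q1358 : ∀ i, i < 1358 → P i := stepQ 1357 Q1357 (allL N1357 (tt N2062 D8289) (tt N885 (iv D3956)) (tt N1400 (iv F6239)) (tt N2060 (iv F12315)) (tt N901 F6029) (tt N2063 D8290) (tt N919 F6030))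
theorem Q1359 : ∀ i, i < 1359 → P i := stepQ 1358 Q1358 (allL N1358 (tt N1272 F6031) (tt N2064 D8291) (tt N887 F6032) (tt N2061 (iv F12318)) (tt N902 F6033) (tt N885 (iv D3957)) (tt N1270 F6034))
theorem Q1360 : ∀ i, i < 1360 → P i := stepQ 1359 Q1359 (allL N1359 (tt N886 (iv D3958)) (tt N1369 (iv F15564)) (tt N1817 F32784) (tt N2037 (iv F12238)) (tt N903 F6035) (tt N886 (iv F17056)) (tt N888 F6036))
theorem Q1361 : ∀ i, i < 1361 → P i := stepQ 1360 Q1360 (allL N1360 (tt N1817 F32765) (tt N1400 (iv F6238)) (tt N886 (iv D3959)) (tt N2065 D8294) (tt N904 F6037) (tt N1817 F32766) (tt N889 F6038))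
theorem Q1362 : ∀ i, i < 1362 → P i := stepQ 1361 Q1361 (allL N1361 (tt N889 F6042) (tt N1941 (iv F32831)) (tt N888 (iv D3963)) (tt N2066 D8305) (tt N905 F6043) (tt N1361 F16926) (tt N1817 F32793))
theorem Q1363 : ∀ i, i < 1363 → P i := stepQ 1362 Q1362 (allL N1362 (tt N2066 (iv F12344)) (tt N920 F6047) (tt N2067 D8308) (tt N889 (iv D3965)) (tt N2068 D8309) (tt N1362 F16923) (tt N2065 (iv F12330)))
theorem Q1364 : ∀ i, i < 1364 → P i := stepQ 1363 Q1363 (allL N1363 (tt N892 F6059) (tt N1363 F16900) (tt N2069 D8321) (tt N891 (iv D3973)) (tt N2070 D8322) (tt N1932 (iv F16949)) (tt N1934 (iv F11588)))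
theorem Q1365 : ∀ i, i < 1365 → P i := stepQ 1364 Q1364 (allL N1364 (tt N2069 (iv F12379)) (tt N2071 D8325) (tt N892 (iv D3976)) (tt N2072 D8326) (tt N2073 D8327) (tt N2074 D8328) (tt N1935 (iv F11589)))
theorem Q1366 : ∀ i, i < 1366 → P i := stepQ 1365 Q1365 (allL N1365 (tt N2070 (iv F12381)) (tt N922 F6065) (tt N2073 (iv F12392)) (tt N908 F6066) (tt N892 (iv D3977)) (tt N2075 D8329) (tt N1936 (iv F11592)))
theorem Q1367 : ∀ i, i < 1367 → P i := stepQ 1366 Q1366 (allL N1366 (tt N1932 (iv F16948)) (tt N2076 D8330) (tt N2074 (iv F12393)) (tt N893 F6067) (tt N2075 (iv F12395)) (tt N892 (iv D3978)) (tt N2077 D8331))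
theorem Q1368 : ∀ i, i < 1368 → P i := stepQ 1367 Q1367 (allL N1367 (tt N2078 D8332) (tt N893 (iv D3979)) (tt N1391 (iv F6206)) (tt N2076 (iv F12396)) (tt N910 F6068) (tt N924 F6069) (tt N2079 D8333))
theorem Q1369 : ∀ i, i < 1369 → P i := stepQ 1368 Q1368 (allL N1368 (tt N1276 F6070) (tt N2080 D8334) (tt N895 F6071) (tt N2077 (iv F12399)) (tt N911 F6072) (tt N1274 F6073) (tt N893 (iv D3980)))
theorem Q1370 : ∀ i, i < 1370 → P i := stepQ 1369 Q1369 (allL N1369 (tt N894 (iv D3981)) (tt N1359 F15564) (tt N1818 F32744) (tt N2049 (iv F12264)) (tt N912 F6074) (tt N896 F6075) (tt N894 F15346))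
theorem Q1371 : ∀ i, i < 1371 → P i := stepQ 1370 Q1370 (allL N1370 (tt N1818 (iv F32679)) (tt N1391 (iv F6205)) (tt N894 (iv D3982)) (tt N2081 D8337) (tt N913 F6076) (tt N897 F6077) (tt N1818 (iv F32682)))
theorem Q1372 : ∀ i, i < 1372 → P i := stepQ 1371 Q1371 (allL N1371 (tt N897 F6081) (tt N1944 F32624) (tt N896 (iv D3986)) (tt N2082 D8348) (tt N914 F6082) (tt N1818 (iv F32681)) (tt N1371 F15055))
theorem Q1373 : ∀ i, i < 1373 → P i := stepQ 1372 Q1372 (allL N1372 (tt N2082 (iv F12426)) (tt N925 F6086) (tt N2083 D8351) (tt N897 (iv D3988)) (tt N2084 D8352) (tt N2081 (iv F12410)) (tt N1372 F15053))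
theorem Q1374 : ∀ i, i < 1374 → P i := stepQ 1373 Q1373 (allL N1373 (tt N899 F6107) (tt N1373 F14839) (tt N1940 (iv F14728)) (tt N2054 (iv F12299)) (tt N898 (iv D4006)) (tt N1940 (iv F11643)) (tt N1944 (iv F17101)))
theorem Q1375 : ∀ i, i < 1375 → P i := stepQ 1374 Q1374 (allL N1374 (tt N1944 (iv F17098)) (tt N2063 (iv F32652)) (tt N1829 F32575) (tt N2059 (iv F12313)) (tt N900 F6118) (tt N2064 (iv F32584)) (tt N899 (iv D4015)))
theorem Q1376 : ∀ i, i < 1376 → P i := stepQ 1375 Q1375 (allL N1375 (tt N1072 (iv F32754)) (tt N900 (iv D4016)) (tt N1075 (iv F32759)) (tt N901 F6119) (tt N2063 F32719) (tt N901 F32720) (tt N927 F6120))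
theorem Q1377 : ∀ i, i < 1377 → P i := stepQ 1376 Q1376 (allL N1376 (tt N1215 F32667) (tt N902 (iv F32710)) (tt N1285 F17097) (tt N902 F6122) (tt N2064 F32668) (tt N900 (iv D4017)) (tt N1279 F6123))
theorem Q1378 : ∀ i, i < 1378 → P i := stepQ 1377 Q1377 (allL N1377 (tt N901 (iv D4018)) (tt N1070 F32724) (tt N932 (iv F32750)) (tt N1072 (iv F32755)) (tt N2062 (iv F12320)) (tt N1072 (iv F6182)) (tt N928 F6124))
theorem Q1379 : ∀ i, i < 1379 → P i := stepQ 1378 Q1378 (allL N1378 (tt N979 F32789) (tt N930 F6135) (tt N978 F32790) (tt N2068 (iv F12351)) (tt N906 (iv D4038)) (tt N1378 F16718) (tt N1793 F32791))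
theorem Q1380 : ∀ i, i < 1380 → P i := stepQ 1379 Q1379 (allL N1379 (tt N908 F6157) (tt N1379 F16671) (tt N1943 (iv F16515)) (tt N2070 (iv F12382)) (tt N907 (iv D4057)) (tt N1941 (iv F16729)) (tt N1943 (iv F11730)))
theorem Q1381 : ∀ i, i < 1381 → P i := stepQ 1380 Q1380 (allL N1380 (tt N1941 (iv F16728)) (tt N2079 F32824) (tt N1840 F32825) (tt N2075 (iv F12394)) (tt N909 F6168) (tt N908 (iv D4064)) (tt N2080 (iv F32828)))
theorem Q1382 : ∀ i, i < 1382 → P i := stepQ 1381 Q1381 (allL N1381 (tt N1075 F32801) (tt N909 (iv D4065)) (tt N1072 F32802) (tt N910 F6169) (tt N2079 F32803) (tt N932 F6170) (tt N910 F32804))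
theorem Q1383 : ∀ i, i < 1383 → P i := stepQ 1382 Q1382 (allL N1382 (tt N1216 F32864) (tt N911 F32865) (tt N1281 F16727) (tt N911 F6172) (tt N2080 F32866) (tt N1283 F6173) (tt N909 (iv D4066)))
theorem Q1384 : ∀ i, i < 1384 → P i := stepQ 1383 Q1383 (allL N1383 (tt N910 (iv D4067)) (tt N1071 F32721) (tt N927 F32722) (tt N1075 (iv F32760)) (tt N2078 (iv F12401)) (tt N933 F6174) (tt N1075 (iv F15870)))
theorem Q1385 : ∀ i, i < 1385 → P i := stepQ 1384 Q1384 (allL N1384 (tt N982 (iv F32643)) (tt N935 F6191) (tt N981 F32570) (tt N2084 (iv F12433)) (tt N915 (iv D4087)) (tt N1806 (iv F32644)) (tt N1384 F14835))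
theorem Q1386 : ∀ i, i < 1386 → P i := stepQ 1385 Q1385 (allL N1385 (tt N2085 D8518) (tt N916 (iv D4091)) (tt N2055 (iv F12308)) (tt N1612 (iv F7692)) (tt N2086 D8519) (tt N2087 D8520) (tt N2088 D8521))
theorem Q1387 : ∀ i, i < 1387 → P i := stepQ 1386 Q1386 (allL N1386 (tt N1611 (iv F7689)) (tt N2086 (iv F12710)) (tt N917 F6198) (tt N2089 D8522) (tt N916 (iv D4092)) (tt N1049 F6199) (tt N2090 D8523))
theorem Q1388 : ∀ i, i < 1388 → P i := stepQ 1387 Q1387 (allL N1387 (tt N1581 (iv F7415)) (tt N2091 D8524) (tt N918 F6200) (tt N1581 (iv F7417)) (tt N2090 (iv F12714)) (tt N1401 (iv F6242)) (tt N916 (iv D4093)))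
theorem Q1389 : ∀ i, i < 1389 → P i := stepQ 1388 Q1388 (allL N1388 (tt N1583 (iv F7421)) (tt N2092 D8525) (tt N2090 (iv F12713)) (tt N926 F6201) (tt N918 F6202) (tt N1402 (iv F6247)) (tt N917 (iv D4094)))
theorem Q1390 : ∀ i, i < 1390 → P i := stepQ 1389 Q1389 (allL N1389 (tt N2093 D8526) (tt N918 (iv D4095)) (tt N2094 D8527) (tt N919 F6203) (tt N2092 (iv F12716)) (tt N2095 D8528) (tt N2060 (iv F12316)))
theorem Q1391 : ∀ i, i < 1391 → P i := stepQ 1390 Q1390 (allL N1390 (tt N919 (iv D4096)) (tt N1806 (iv F15616)) (tt N1399 (iv F6236)) (tt N2093 (iv F12717)) (tt N928 F6204) (tt N1403 F32613) (tt N2062 (iv F12321)))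
theorem Q1392 : ∀ i, i < 1392 → P i := stepQ 1391 Q1391 (allL N1391 (tt N1403 F32614) (tt N1370 F6205) (tt N1367 F6206) (tt N2095 (iv F12719)) (tt N929 F6207) (tt N919 (iv D4097)) (tt N1588 F7429))
theorem Q1393 : ∀ i, i < 1393 → P i := stepQ 1392 Q1392 (allL N1392 (tt N1061 F6208) (tt N2096 D8531) (tt N920 (iv D4098)) (tt N1061 F6210) (tt N2097 D8532) (tt N1057 F6209) (tt N1396 (iv F6231)))
theorem Q1394 : ∀ i, i < 1394 → P i := stepQ 1393 Q1393 (allL N1393 (tt N1062 F6211) (tt N2068 (iv F12350)) (tt N2097 (iv F12727)) (tt N930 F6212) (tt N920 (iv D4099)) (tt N1058 F6213) (tt N1397 (iv F6234)))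
theorem Q1395 : ∀ i, i < 1395 → P i := stepQ 1394 Q1394 (allL N1394 (tt N2098 D8545) (tt N921 (iv D4106)) (tt N2071 (iv F12389)) (tt N1617 (iv F15787)) (tt N2099 D8546) (tt N2100 D8547) (tt N2101 D8548))
theorem Q1396 : ∀ i, i < 1396 → P i := stepQ 1395 Q1395 (allL N1395 (tt N1616 (iv F15785)) (tt N2099 (iv F12753)) (tt N922 F6228) (tt N2102 D8549) (tt N921 (iv D4107)) (tt N2103 D8550) (tt N1060 F6229))
theorem Q1397 : ∀ i, i < 1397 → P i := stepQ 1396 Q1396 (allL N1396 (tt N1598 (iv F7482)) (tt N2104 D8551) (tt N923 F6230) (tt N1598 (iv F7484)) (tt N2103 (iv F12757)) (tt N921 (iv D4108)) (tt N1392 F6231))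
theorem Q1398 : ∀ i, i < 1398 → P i := stepQ 1397 Q1397 (allL N1397 (tt N1600 (iv F7488)) (tt N2105 D8552) (tt N2103 (iv F12756)) (tt N931 F6232) (tt N923 F6233) (tt N922 (iv D4109)) (tt N1393 F6234))
theorem Q1399 : ∀ i, i < 1399 → P i := stepQ 1398 Q1398 (allL N1398 (tt N2106 D8553) (tt N923 (iv D4110)) (tt N2107 D8554) (tt N924 F6235) (tt N2105 (iv F12760)) (tt N2076 (iv F12397)) (tt N2108 D8555))
theorem Q1400 : ∀ i, i < 1400 → P i := stepQ 1399 Q1399 (allL N1399 (tt N924 (iv D4111)) (tt N1793 (iv F15728)) (tt N1390 F6236) (tt N2106 (iv F12761)) (tt N933 F6237) (tt N2078 (iv F12402)) (tt N1404 (iv F32728)))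
theorem Q1401 : ∀ i, i < 1401 → P i := stepQ 1400 Q1400 (allL N1400 (tt N1404 (iv F32726)) (tt N1360 F6238) (tt N1357 F6239) (tt N2108 (iv F12763)) (tt N934 F6240) (tt N1605 (iv F15878)) (tt N924 (iv D4112)))
theorem Q1402 : ∀ i, i < 1402 → P i := stepQ 1401 Q1401 (allL N1401 (tt N1050 F6241) (tt N2109 D8559) (tt N925 (iv D4113)) (tt N1050 F6244) (tt N2110 D8560) (tt N1387 F6242) (tt N1046 F6243))
theorem Q1403 : ∀ i, i < 1403 → P i := stepQ 1402 Q1402 (allL N1402 (tt N1051 F6245) (tt N2084 (iv F12432)) (tt N2110 (iv F12775)) (tt N935 F6246) (tt N925 (iv D4114)) (tt N1388 F6247) (tt N1047 F6248))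
theorem Q1404 : ∀ i, i < 1404 → P i := stepQ 1403 Q1403 (allL N1403 (tt N1391 (iv F32614)) (tt N926 (iv D4115)) (tt N2078 (iv F32656)) (tt N2092 (iv F12715)) (tt N927 F6249) (tt N1390 (iv F32613)) (tt N2063 (iv F32654)))
theorem Q1405 : ∀ i, i < 1405 → P i := stepQ 1404 Q1404 (allL N1404 (tt N1400 F32726) (tt N931 (iv D4138)) (tt N2062 F32727) (tt N2105 (iv F12759)) (tt N932 F6279) (tt N2079 (iv F32764)) (tt N1399 F32728))
theorem Q1406 : ∀ i, i < 1406 → P i := stepQ 1405 Q1405 (allL N1405 (tt N1405 F6379) (tt N2111 D8746) (tt N938 (iv D4204)) (tt N1217 F16010) (tt N939 F6380) (tt N1405 F15450) (tt N1405 F17197))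
theorem Q1407 : ∀ i, i < 1407 → P i := stepQ 1406 Q1406 (allL N1406 (tt N2112 D8767) (tt N939 (iv D4217)) (tt N943 F6405) (tt N2113 D8768) (tt N2111 (iv F13055)) (tt N2114 D8769) (tt N2115 D8770))
theorem Q1408 : ∀ i, i < 1408 → P i := stepQ 1407 Q1407 (allL N1407 (tt N1407 F6406) (tt N2113 (iv F13095)) (tt N1407 F15693) (tt N939 (iv D4218)) (tt N1219 (iv F16012)) (tt N1407 F15498) (tt N1407 F17200))
theorem Q1409 : ∀ i, i < 1409 → P i := stepQ 1408 Q1408 (allL N1408 (tt N2116 D8798) (tt N940 (iv D4237)) (tt N2111 (iv F13054)) (tt N2117 D8799) (tt N943 F6451) (tt N2118 D8800) (tt N2119 D8801))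
theorem Q1410 : ∀ i, i < 1410 → P i := stepQ 1409 Q1409 (allL N1409 (tt N948 F6452) (tt N2117 (iv F13144)) (tt N948 F6453) (tt N940 (iv D4238)) (tt N2120 D8802) (tt N2121 D8803) (tt N2122 D8804))
theorem Q1411 : ∀ i, i < 1411 → P i := stepQ 1410 Q1410 (allL N1410 (tt N949 F6454) (tt N2123 D8805) (tt N941 F6455) (tt N2121 (iv F13152)) (tt N945 F6456) (tt N940 (iv D4239)) (tt N1430 (iv F6577)))
theorem Q1412 : ∀ i, i < 1412 → P i := stepQ 1411 Q1411 (allL N1411 (tt N950 F6457) (tt N2124 D8806) (tt N942 F6458) (tt N2122 (iv F13155)) (tt N946 F6459) (tt N1428 (iv F6572)) (tt N940 (iv D4240)))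
theorem Q1413 : ∀ i, i < 1413 → P i := stepQ 1412 Q1412 (allL N1412 (tt N943 (iv D4261)) (tt N2125 D8843) (tt N2112 (iv F13094)) (tt N2126 D8844) (tt N2116 (iv F13143)) (tt N2127 D8845) (tt N2128 D8846))
theorem Q1414 : ∀ i, i < 1414 → P i := stepQ 1413 Q1413 (allL N1413 (tt N2126 (iv F13222)) (tt N944 F6498) (tt N2129 D8847) (tt N943 (iv D4262)) (tt N2130 D8848) (tt N2131 D8849) (tt N2132 D8850))
theorem Q1415 : ∀ i, i < 1415 → P i := stepQ 1414 Q1414 (allL N1414 (tt N2127 (iv F13223)) (tt N2133 D8851) (tt N2114 (iv F13096)) (tt N2131 (iv F13227)) (tt N2118 (iv F13145)) (tt N943 (iv D4263)) (tt N2134 D8852))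
theorem Q1416 : ∀ i, i < 1416 → P i := stepQ 1415 Q1415 (allL N1415 (tt N2128 (iv F13224)) (tt N2135 D8853) (tt N2115 (iv F13097)) (tt N2132 (iv F13228)) (tt N2119 (iv F13146)) (tt N2136 D8854) (tt N943 (iv D4264)))
theorem Q1417 : ∀ i, i < 1417 → P i := stepQ 1416 Q1416 (allL N1416 (tt N966 F6499) (tt N2130 (iv F13226)) (tt N1255 F6500) (tt N2120 (iv F13149)) (tt N944 (iv D4265)) (tt N2137 D8855) (tt N2138 D8856))
theorem Q1418 : ∀ i, i < 1418 → P i := stepQ 1417 Q1417 (allL N1417 (tt N967 F6501) (tt N2139 D8857) (tt N1256 F6502) (tt N945 F6503) (tt N2137 (iv F13236)) (tt N944 (iv D4266)) (tt N1458 (iv F6712)))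
theorem Q1419 : ∀ i, i < 1419 → P i := stepQ 1418 Q1418 (allL N1418 (tt N968 F6504) (tt N2140 D8858) (tt N1257 F6505) (tt N946 F6506) (tt N2138 (iv F13239)) (tt N1456 (iv F6708)) (tt N944 (iv D4267)))
theorem Q1420 : ∀ i, i < 1420 → P i := stepQ 1419 Q1419 (allL N1419 (tt N2141 D8859) (tt N945 (iv D4268)) (tt N1419 F15249) (tt N2139 (iv F13240)) (tt N2123 (iv F13156)) (tt N2133 (iv F13229)) (tt N2142 D8861))
theorem Q1421 : ∀ i, i < 1421 → P i := stepQ 1420 Q1420 (allL N1420 (tt N2143 D8862) (tt N946 (iv D4269)) (tt N1420 F17045) (tt N2140 (iv F13241)) (tt N2124 (iv F13157)) (tt N2144 D8864) (tt N2135 (iv F13231)))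
theorem Q1422 : ∀ i, i < 1422 → P i := stepQ 1421 Q1421 (allL N1421 (tt N947 (iv D4305)) (tt N948 F16035) (tt N985 F6559) (tt N947 (iv F16036)) (tt N961 F6560) (tt N2145 D8918) (tt N2146 D8919))
theorem Q1423 : ∀ i, i < 1423 → P i := stepQ 1422 Q1422 (allL N1422 (tt N2145 (iv F13343)) (tt N2147 D8924) (tt N987 F6562) (tt N2145 (iv F16037)) (tt N963 F6563) (tt N947 (iv D4307)) (tt N2148 D8925))
theorem Q1424 : ∀ i, i < 1424 → P i := stepQ 1423 Q1423 (allL N1423 (tt N2146 (iv F13346)) (tt N2149 D8926) (tt N988 F6564) (tt N2146 (iv F16038)) (tt N964 F6565) (tt N2150 D8927) (tt N947 (iv D4308)))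
theorem Q1425 : ∀ i, i < 1425 → P i := stepQ 1424 Q1424 (allL N1424 (tt N2120 (iv F13147)) (tt N961 (iv F16031)) (tt N2120 (iv F13148)) (tt N966 F6566) (tt N948 (iv D4309)) (tt N2151 D8928) (tt N2152 D8929))
theorem Q1426 : ∀ i, i < 1426 → P i := stepQ 1425 Q1425 (allL N1425 (tt N2121 (iv F13150)) (tt N2153 D8930) (tt N2121 (iv F13151)) (tt N949 F6567) (tt N2151 (iv F13365)) (tt N948 (iv D4310)) (tt N2154 D8931))
theorem Q1427 : ∀ i, i < 1427 → P i := stepQ 1426 Q1426 (allL N1426 (tt N2122 (iv F13153)) (tt N2155 D8932) (tt N2122 (iv F13154)) (tt N950 F6568) (tt N2152 (iv F13367)) (tt N2156 D8933) (tt N948 (iv D4311)))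
theorem Q1428 : ∀ i, i < 1428 → P i := stepQ 1427 Q1427 (allL N1427 (tt N2157 D8934) (tt N949 (iv D4312)) (tt N2158 D8935) (tt N2153 (iv F13368)) (tt N969 F6569) (tt N2147 (iv F13354)) (tt N2159 D8936))
theorem Q1429 : ∀ i, i < 1429 → P i := stepQ 1428 Q1428 (allL N1428 (tt N1430 (iv F6574)) (tt N2160 D8937) (tt N952 F6570) (tt N2154 (iv F13369)) (tt N970 F6571) (tt N1411 F6572) (tt N949 (iv D4313)))
theorem Q1430 : ∀ i, i < 1430 → P i := stepQ 1429 Q1429 (allL N1429 (tt N2161 D8938) (tt N950 (iv D4314)) (tt N2162 D8939) (tt N2155 (iv F13371)) (tt N971 F6573) (tt N2163 D8940) (tt N2149 (iv F13359)))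
theorem Q1431 : ∀ i, i < 1431 → P i := stepQ 1430 Q1430 (allL N1430 (tt N1428 F6574) (tt N2164 D8941) (tt N954 F6575) (tt N2156 (iv F13374)) (tt N972 F6576) (tt N950 (iv D4315)) (tt N1410 F6577))
theorem Q1432 : ∀ i, i < 1432 → P i := stepQ 1431 Q1431 (allL N1431 (tt N1506 (iv F14810)) (tt N2158 (iv F13377)) (tt N951 (iv D4317)) (tt N2165 D8944) (tt N973 F6581) (tt N994 F6582) (tt N1675 (iv F17179)))
theorem Q1433 : ∀ i, i < 1433 → P i := stepQ 1432 Q1432 (allL N1432 (tt N2166 D8947) (tt N952 (iv D4319)) (tt N2167 D8948) (tt N955 F6585) (tt N974 F6586) (tt N1432 F16882) (tt N1674 (iv F17022)))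
theorem Q1434 : ∀ i, i < 1434 → P i := stepQ 1433 Q1433 (allL N1433 (tt N1507 (iv F16666)) (tt N2162 (iv F13382)) (tt N953 (iv D4321)) (tt N2168 D8952) (tt N975 F6590) (tt N1681 (iv F16768)) (tt N997 F6591))
theorem Q1435 : ∀ i, i < 1435 → P i := stepQ 1434 Q1434 (allL N1434 (tt N2169 D8955) (tt N954 (iv D4323)) (tt N2170 D8956) (tt N956 F6594) (tt N976 F6595) (tt N1680 (iv F16767)) (tt N1434 F15327))
theorem Q1436 : ∀ i, i < 1436 → P i := stepQ 1435 Q1435 (allL N1435 (tt N955 (iv D4329)) (tt N1001 (iv F15284)) (tt N2171 D8971) (tt N2166 (iv F13397)) (tt N957 F6606) (tt N1435 F16647) (tt N1683 (iv F16751)))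
theorem Q1437 : ∀ i, i < 1437 → P i := stepQ 1436 Q1436 (allL N1436 (tt N2171 (iv F13445)) (tt N1436 F6607) (tt N955 (iv D4330)) (tt N2172 D8972) (tt N958 F6608) (tt N1436 F16881) (tt N1684 (iv F17021)))
theorem Q1438 : ∀ i, i < 1438 → P i := stepQ 1437 Q1437 (allL N1437 (tt N956 (iv D4337)) (tt N999 F16894) (tt N2173 D8988) (tt N2169 (iv F13414)) (tt N959 F6621) (tt N1685 F16895) (tt N1437 F15282))
theorem Q1439 : ∀ i, i < 1439 → P i := stepQ 1438 Q1438 (allL N1438 (tt N2173 (iv F13479)) (tt N1438 F6622) (tt N956 (iv D4338)) (tt N2174 D8989) (tt N960 F6623) (tt N1686 (iv F16773)) (tt N1438 F15330))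
theorem Q1440 : ∀ i, i < 1440 → P i := stepQ 1439 Q1439 (allL N1439 (tt N958 F6646) (tt N1122 F16772) (tt N957 (iv D4353)) (tt N1318 (iv F32928)) (tt N2171 (iv F13446)) (tt N1439 F16649) (tt N1687 (iv F16755)))
theorem Q1441 : ∀ i, i < 1441 → P i := stepQ 1440 Q1440 (allL N1440 (tt N960 F6673) (tt N1120 (iv F17083)) (tt N959 (iv D4370)) (tt N1321 (iv F32800)) (tt N2173 (iv F13480)) (tt N1688 F16967) (tt N1440 F15280))
theorem Q1442 : ∀ i, i < 1442 → P i := stepQ 1441 Q1441 (allL N1441 (tt N962 F6679) (tt N966 F16029) (tt N962 F6680) (tt N961 (iv D4375)) (tt N962 (iv F16030)) (tt N2175 D9054) (tt N2176 D9055))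
theorem Q1443 : ∀ i, i < 1443 → P i := stepQ 1442 Q1442 (allL N1442 (tt N963 F6681) (tt N2177 D9056) (tt N1004 F6682) (tt N2175 (iv F13564)) (tt N2145 (iv F13345)) (tt N961 (iv D4376)) (tt N1449 (iv F6694)))
theorem Q1444 : ∀ i, i < 1444 → P i := stepQ 1443 Q1443 (allL N1443 (tt N964 F6683) (tt N2178 D9057) (tt N1005 F6684) (tt N2176 (iv F13567)) (tt N2146 (iv F13348)) (tt N1447 (iv F6690)) (tt N961 (iv D4377)))
theorem Q1445 : ∀ i, i < 1445 → P i := stepQ 1444 Q1444 (allL N1444 (tt N2175 (iv F13562)) (tt N2179 D9060) (tt N2175 (iv F13563)) (tt N963 F6686) (tt N2175 (iv F16032)) (tt N962 (iv D4379)) (tt N2180 D9061))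
theorem Q1446 : ∀ i, i < 1446 → P i := stepQ 1445 Q1445 (allL N1445 (tt N2176 (iv F13565)) (tt N2181 D9062) (tt N2176 (iv F13566)) (tt N964 F6687) (tt N2176 (iv F16033)) (tt N2182 D9063) (tt N962 (iv D4380)))
theorem Q1447 : ∀ i, i < 1447 → P i := stepQ 1446 Q1446 (allL N1446 (tt N2183 D9064) (tt N963 (iv D4381)) (tt N2184 D9065) (tt N2179 (iv F13570)) (tt N2147 (iv F13353)) (tt N969 F6688) (tt N2185 D9066))
theorem Q1448 : ∀ i, i < 1448 → P i := stepQ 1447 Q1447 (allL N1447 (tt N1449 (iv F6692)) (tt N2186 D9067) (tt N1007 F6689) (tt N2180 (iv F13572)) (tt N2148 (iv F13356)) (tt N1443 F6690) (tt N963 (iv D4382)))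
theorem Q1449 : ∀ i, i < 1449 → P i := stepQ 1448 Q1448 (allL N1448 (tt N2187 D9068) (tt N964 (iv D4383)) (tt N2188 D9069) (tt N2181 (iv F13574)) (tt N2149 (iv F13358)) (tt N2189 D9070) (tt N971 F6691))
theorem Q1450 : ∀ i, i < 1450 → P i := stepQ 1449 Q1449 (allL N1449 (tt N1447 F6692) (tt N2190 D9071) (tt N1009 F6693) (tt N2182 (iv F13578)) (tt N2150 (iv F13362)) (tt N964 (iv D4384)) (tt N1442 F6694))
theorem Q1451 : ∀ i, i < 1451 → P i := stepQ 1450 Q1450 (allL N1450 (tt N1255 (iv F16019)) (tt N965 (iv D4385)) (tt N966 (iv F16022)) (tt N1234 F6695) (tt N965 (iv F16021)) (tt N2191 D9074) (tt N2192 D9075))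
theorem Q1452 : ∀ i, i < 1452 → P i := stepQ 1451 Q1451 (allL N1451 (tt N1256 F6698) (tt N2193 D9079) (tt N967 F6699) (tt N1235 F6700) (tt N2191 (iv F16025)) (tt N965 (iv D4387)) (tt N1910 (iv F11521)))
theorem Q1453 : ∀ i, i < 1453 → P i := stepQ 1452 Q1452 (allL N1452 (tt N1257 F6701) (tt N2194 D9080) (tt N968 F6702) (tt N1236 F6703) (tt N2192 (iv F16028)) (tt N1908 (iv F11516)) (tt N965 (iv D4388)))
theorem Q1454 : ∀ i, i < 1454 → P i := stepQ 1453 Q1453 (allL N1453 (tt N2137 (iv F13234)) (tt N2195 D9081) (tt N2191 (iv F16024)) (tt N2151 (iv F13364)) (tt N967 F6704) (tt N966 (iv D4389)) (tt N2196 D9082))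
theorem Q1455 : ∀ i, i < 1455 → P i := stepQ 1454 Q1454 (allL N1454 (tt N2138 (iv F13237)) (tt N2197 D9083) (tt N2192 (iv F16027)) (tt N2152 (iv F13366)) (tt N968 F6705) (tt N2198 D9084) (tt N966 (iv D4390)))
theorem Q1456 : ∀ i, i < 1456 → P i := stepQ 1455 Q1455 (allL N1455 (tt N2199 D9085) (tt N967 (iv D4391)) (tt N2200 D9086) (tt N969 F6706) (tt N2195 (iv F13601)) (tt N2179 (iv F13571)) (tt N2201 D9087))
theorem Q1457 : ∀ i, i < 1457 → P i := stepQ 1456 Q1456 (allL N1456 (tt N1458 (iv F6710)) (tt N2202 D9088) (tt N1910 (iv F11519)) (tt N970 F6707) (tt N2196 (iv F13602)) (tt N1418 F6708) (tt N967 (iv D4392)))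
theorem Q1458 : ∀ i, i < 1458 → P i := stepQ 1457 Q1457 (allL N1457 (tt N2203 D9089) (tt N968 (iv D4393)) (tt N2204 D9090) (tt N971 F6709) (tt N2197 (iv F13604)) (tt N2205 D9091) (tt N2181 (iv F13575)))
theorem Q1459 : ∀ i, i < 1459 → P i := stepQ 1458 Q1458 (allL N1458 (tt N1456 F6710) (tt N2206 D9092) (tt N1908 (iv F11514)) (tt N972 F6711) (tt N2198 (iv F13606)) (tt N968 (iv D4394)) (tt N1417 F6712))
theorem Q1460 : ∀ i, i < 1460 → P i := stepQ 1459 Q1459 (allL N1459 (tt N969 (iv D4395)) (tt N2207 D9093) (tt N2208 D9094) (tt N2199 (iv F13608)) (tt N2157 (iv F13376)) (tt N2183 (iv F13580)) (tt N2209 D9095))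
theorem Q1461 : ∀ i, i < 1461 → P i := stepQ 1460 Q1460 (allL N1460 (tt N2208 (iv F13614)) (tt N973 F6713) (tt N969 (iv D4396)) (tt N2210 D9096) (tt N2158 (iv F13378)) (tt N2184 (iv F13582)) (tt N2211 D9097))
theorem Q1462 : ∀ i, i < 1462 → P i := stepQ 1461 Q1461 (allL N1461 (tt N2209 (iv F13615)) (tt N2212 D9098) (tt N2211 (iv F13618)) (tt N2201 (iv F13609)) (tt N2159 (iv F13379)) (tt N2213 D9099) (tt N969 (iv D4397)))
theorem Q1463 : ∀ i, i < 1463 → P i := stepQ 1462 Q1462 (allL N1462 (tt N2214 D9100) (tt N970 (iv D4398)) (tt N2215 D9101) (tt N2202 (iv F13610)) (tt N2160 (iv F13380)) (tt N2216 D9102) (tt N2212 (iv F13619)))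
theorem Q1464 : ∀ i, i < 1464 → P i := stepQ 1463 Q1463 (allL N1463 (tt N971 (iv D4399)) (tt N2217 D9103) (tt N2218 D9104) (tt N2203 (iv F13611)) (tt N2161 (iv F13381)) (tt N2219 D9105) (tt N2187 (iv F13583)))
theorem Q1465 : ∀ i, i < 1465 → P i := stepQ 1464 Q1464 (allL N1464 (tt N2218 (iv F13624)) (tt N975 F6714) (tt N971 (iv D4400)) (tt N2220 D9106) (tt N2162 (iv F13383)) (tt N2221 D9107) (tt N2188 (iv F13585)))
theorem Q1466 : ∀ i, i < 1466 → P i := stepQ 1465 Q1465 (allL N1465 (tt N2219 (iv F13625)) (tt N2222 D9108) (tt N2221 (iv F13628)) (tt N2205 (iv F13612)) (tt N2163 (iv F13384)) (tt N971 (iv D4401)) (tt N2223 D9109))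
theorem Q1467 : ∀ i, i < 1467 → P i := stepQ 1466 Q1466 (allL N1466 (tt N2224 D9110) (tt N972 (iv D4402)) (tt N2225 D9111) (tt N2206 (iv F13613)) (tt N2164 (iv F13385)) (tt N2222 (iv F13629)) (tt N2226 D9112))
theorem Q1468 : ∀ i, i < 1468 → P i := stepQ 1467 Q1467 (allL N1467 (tt N1772 (iv F17188)) (tt N2210 (iv F13617)) (tt N2227 D9118) (tt N973 (iv D4405)) (tt N2228 D9119) (tt N1018 F6718) (tt N1776 (iv F17187)))
theorem Q1469 : ∀ i, i < 1469 → P i := stepQ 1468 Q1468 (allL N1468 (tt N974 (iv D4408)) (tt N1021 (iv F15297)) (tt N2229 D9126) (tt N978 F6722) (tt N2166 (iv F13398)) (tt N1468 F16652) (tt N1773 (iv F16757)))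
theorem Q1470 : ∀ i, i < 1470 → P i := stepQ 1469 Q1469 (allL N1469 (tt N2229 (iv F13652)) (tt N2215 (iv F13622)) (tt N974 (iv D4409)) (tt N2230 D9127) (tt N2167 (iv F13399)) (tt N1469 F16888) (tt N1774 (iv F17025)))
theorem Q1471 : ∀ i, i < 1471 → P i := stepQ 1470 Q1470 (allL N1470 (tt N1784 (iv F16684)) (tt N2220 (iv F13627)) (tt N2231 D9135) (tt N975 (iv D4413)) (tt N2232 D9136) (tt N1788 (iv F16840)) (tt N1022 F6728))
theorem Q1472 : ∀ i, i < 1472 → P i := stepQ 1471 Q1471 (allL N1471 (tt N976 (iv D4416)) (tt N1017 F16969) (tt N2233 D9143) (tt N981 F6732) (tt N2169 (iv F13415)) (tt N1785 F16970) (tt N1471 F15295))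
theorem Q1473 : ∀ i, i < 1473 → P i := stepQ 1472 Q1472 (allL N1472 (tt N2233 (iv F13676)) (tt N2225 (iv F13632)) (tt N976 (iv D4417)) (tt N2234 D9144) (tt N2170 (iv F13416)) (tt N1786 (iv F16838)) (tt N1472 F15409))
theorem Q1474 : ∀ i, i < 1474 → P i := stepQ 1473 Q1473 (allL N1473 (tt N1791 (iv F17192)) (tt N2235 D9149) (tt N977 (iv D4422)) (tt N2236 D9150) (tt N2237 D9151) (tt N1027 F6745) (tt N1799 (iv F17185)))
theorem Q1475 : ∀ i, i < 1475 → P i := stepQ 1474 Q1474 (allL N1474 (tt N1792 (iv F17195)) (tt N1930 (iv F11556)) (tt N2237 (iv F13691)) (tt N983 F6746) (tt N977 (iv D4423)) (tt N1028 F6747) (tt N1800 (iv F17133)))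
theorem Q1476 : ∀ i, i < 1476 → P i := stepQ 1475 Q1475 (allL N1475 (tt N2068 (iv F32853)) (tt N1932 (iv F11573)) (tt N2238 D9164) (tt N979 (iv D4431)) (tt N2066 (iv F32855)) (tt N1475 F16891) (tt N1795 (iv F16998)))
theorem Q1477 : ∀ i, i < 1477 → P i := stepQ 1476 Q1476 (allL N1476 (tt N1804 (iv F16586)) (tt N2239 D9179) (tt N980 (iv D4439)) (tt N2240 D9180) (tt N2241 D9181) (tt N1812 (iv F16635)) (tt N1034 F6775))
theorem Q1478 : ∀ i, i < 1478 → P i := stepQ 1477 Q1477 (allL N1477 (tt N1805 (iv F16494)) (tt N1936 (iv F11590)) (tt N2241 (iv F13742)) (tt N984 F6776) (tt N980 (iv D4440)) (tt N1813 (iv F16521)) (tt N1035 F6777))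
theorem Q1479 : ∀ i, i < 1479 → P i := stepQ 1478 Q1478 (allL N1478 (tt N2084 F32571) (tt N1938 (iv F11613)) (tt N2242 D9194) (tt N982 (iv D4448)) (tt N2082 F32572) (tt N1808 (iv F16836)) (tt N1478 F15411))
theorem Q1480 : ∀ i, i < 1480 → P i := stepQ 1479 Q1479 (allL N1479 (tt N2243 D9300) (tt N985 (iv D4503)) (tt N2117 (iv F16046)) (tt N2244 D9302) (tt N1003 F6858) (tt N2245 D9303) (tt N2246 D9304))
theorem Q1481 : ∀ i, i < 1481 → P i := stepQ 1480 Q1480 (allL N1480 (tt N986 F6859) (tt N2244 (iv F13889)) (tt N2247 D9305) (tt N985 (iv D4504)) (tt N1087 F6860) (tt N2248 D9306) (tt N2249 D9307))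
theorem Q1482 : ∀ i, i < 1482 → P i := stepQ 1481 Q1481 (allL N1481 (tt N987 F6861) (tt N2250 D9308) (tt N2145 (iv F13344)) (tt N2248 (iv F13896)) (tt N1004 F6862) (tt N985 (iv D4505)) (tt N1489 (iv F6879)))
theorem Q1483 : ∀ i, i < 1483 → P i := stepQ 1482 Q1482 (allL N1482 (tt N988 F6863) (tt N2251 D9309) (tt N2146 (iv F13347)) (tt N2249 (iv F13899)) (tt N1005 F6864) (tt N1487 (iv F6874)) (tt N985 (iv D4506)))
theorem Q1484 : ∀ i, i < 1484 → P i := stepQ 1483 Q1483 (allL N1483 (tt N2247 (iv F13893)) (tt N1483 F6865) (tt N986 (iv D4507)) (tt N1483 F16041) (tt N1090 F6866) (tt N2252 D9311) (tt N2253 D9312))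
theorem Q1485 : ∀ i, i < 1485 → P i := stepQ 1484 Q1484 (allL N1484 (tt N2248 (iv F13895)) (tt N2254 D9313) (tt N2252 (iv F13904)) (tt N987 F6867) (tt N1091 F6868) (tt N986 (iv D4508)) (tt N2255 D9314))
theorem Q1486 : ∀ i, i < 1486 → P i := stepQ 1485 Q1485 (allL N1485 (tt N2249 (iv F13898)) (tt N2256 D9315) (tt N2253 (iv F13906)) (tt N988 F6869) (tt N1092 F6870) (tt N2257 D9316) (tt N986 (iv D4509)))
theorem Q1487 : ∀ i, i < 1487 → P i := stepQ 1486 Q1486 (allL N1486 (tt N2258 D9317) (tt N987 (iv D4510)) (tt N2259 D9318) (tt N2254 (iv F13908)) (tt N1006 F6871) (tt N991 F6872) (tt N2260 D9319))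
theorem Q1488 : ∀ i, i < 1488 → P i := stepQ 1487 Q1487 (allL N1487 (tt N1489 (iv F6877)) (tt N2261 D9320) (tt N2148 (iv F13355)) (tt N2255 (iv F13911)) (tt N1007 F6873) (tt N1482 F6874) (tt N987 (iv D4511)))
theorem Q1489 : ∀ i, i < 1489 → P i := stepQ 1488 Q1488 (allL N1488 (tt N2262 D9321) (tt N988 (iv D4512)) (tt N2263 D9322) (tt N2256 (iv F13914)) (tt N1008 F6875) (tt N2264 D9323) (tt N992 F6876))
theorem Q1490 : ∀ i, i < 1490 → P i := stepQ 1489 Q1489 (allL N1489 (tt N1487 F6877) (tt N2265 D9324) (tt N2150 (iv F13361)) (tt N2257 (iv F13918)) (tt N1009 F6878) (tt N988 (iv D4513)) (tt N1481 F6879))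
theorem Q1491 : ∀ i, i < 1491 → P i := stepQ 1490 Q1490 (allL N1490 (tt N2266 D9325) (tt N989 (iv D4514)) (tt N2267 D9326) (tt N991 F6880) (tt N1097 F6881) (tt N2254 (iv F13910)) (tt N2268 D9327))
theorem Q1492 : ∀ i, i < 1492 → P i := stepQ 1491 Q1491 (allL N1491 (tt N2269 D9328) (tt N990 (iv D4515)) (tt N2270 D9329) (tt N992 F6882) (tt N1099 F6883) (tt N2271 D9330) (tt N2256 (iv F13916)))
theorem Q1493 : ∀ i, i < 1493 → P i := stepQ 1492 Q1492 (allL N1492 (tt N991 (iv D4516)) (tt N2272 D9331) (tt N2273 D9332) (tt N2266 (iv F13933)) (tt N1010 F6884) (tt N2258 (iv F13922)) (tt N2274 D9333))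
theorem Q1494 : ∀ i, i < 1494 → P i := stepQ 1493 Q1493 (allL N1493 (tt N2273 (iv F13946)) (tt N994 F6885) (tt N991 (iv D4517)) (tt N2275 D9334) (tt N1011 F6886) (tt N2259 (iv F13924)) (tt N2276 D9335))
theorem Q1495 : ∀ i, i < 1495 → P i := stepQ 1494 Q1494 (allL N1494 (tt N2274 (iv F13948)) (tt N1670 (iv F7899)) (tt N2276 (iv F13952)) (tt N2268 (iv F13937)) (tt N1012 F6887) (tt N2277 D9336) (tt N991 (iv D4518)))
theorem Q1496 : ∀ i, i < 1496 → P i := stepQ 1495 Q1495 (allL N1495 (tt N992 (iv D4519)) (tt N2278 D9337) (tt N2279 D9338) (tt N2269 (iv F13939)) (tt N1013 F6888) (tt N2280 D9339) (tt N2262 (iv F13928)))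
theorem Q1497 : ∀ i, i < 1497 → P i := stepQ 1496 Q1496 (allL N1496 (tt N2279 (iv F13958)) (tt N997 F6889) (tt N992 (iv D4520)) (tt N2281 D9340) (tt N1014 F6890) (tt N2282 D9341) (tt N2263 (iv F13930)))
theorem Q1498 : ∀ i, i < 1498 → P i := stepQ 1497 Q1497 (allL N1497 (tt N2280 (iv F13960)) (tt N1660 (iv F7880)) (tt N2282 (iv F13964)) (tt N2271 (iv F13943)) (tt N1015 F6891) (tt N992 (iv D4521)) (tt N2283 D9342))
theorem Q1499 : ∀ i, i < 1499 → P i := stepQ 1498 Q1498 (allL N1498 (tt N994 F6894) (tt N2284 D9347) (tt N993 (iv D4523)) (tt N2285 D9348) (tt N1016 F6895) (tt N1506 (iv F14812)) (tt N2286 D9349))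
theorem Q1500 : ∀ i, i < 1500 → P i := stepQ 1499 Q1499 (allL N1499 (tt N995 F6896) (tt N2169 (iv F17028)) (tt N2286 (iv F13980)) (tt N999 F6897) (tt N1017 F6898) (tt N1111 (iv F17077)) (tt N993 (iv D4524)))
theorem Q1501 : ∀ i, i < 1501 → P i := stepQ 1500 Q1500 (allL N1500 (tt N2285 (iv F13978)) (tt N2275 (iv F13951)) (tt N2165 (iv F14915)) (tt N994 (iv D4525)) (tt N2287 D9352) (tt N2165 (iv F13391)) (tt N2288 D9353))
theorem Q1502 : ∀ i, i < 1502 → P i := stepQ 1501 Q1501 (allL N1501 (tt N2286 (iv F13979)) (tt N2289 D9354) (tt N995 F6900) (tt N2288 (iv F13986)) (tt N1019 F6901) (tt N1112 (iv F17078)) (tt N994 (iv D4526)))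
theorem Q1503 : ∀ i, i < 1503 → P i := stepQ 1502 Q1502 (allL N1502 (tt N997 F6908) (tt N2290 D9361) (tt N996 (iv D4529)) (tt N2291 D9362) (tt N1020 F6909) (tt N2292 D9363) (tt N1507 (iv F16667)))
theorem Q1504 : ∀ i, i < 1504 → P i := stepQ 1503 Q1503 (allL N1503 (tt N998 F6910) (tt N2166 (iv F15285)) (tt N2292 (iv F14005)) (tt N1001 F6911) (tt N1021 F6912) (tt N996 (iv D4530)) (tt N1115 (iv F16663)))
theorem Q1505 : ∀ i, i < 1505 → P i := stepQ 1504 Q1504 (allL N1504 (tt N2291 (iv F14003)) (tt N2281 (iv F13963)) (tt N2168 (iv F16766)) (tt N997 (iv D4531)) (tt N2293 D9366) (tt N2294 D9367) (tt N2168 (iv F13408)))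
theorem Q1506 : ∀ i, i < 1506 → P i := stepQ 1505 Q1505 (allL N1505 (tt N2292 (iv F14004)) (tt N2295 D9368) (tt N998 F6914) (tt N2294 (iv F14011)) (tt N1023 F6915) (tt N997 (iv D4532)) (tt N1116 F16868))
theorem Q1507 : ∀ i, i < 1507 → P i := stepQ 1506 Q1506 (allL N1506 (tt N1431 F14810) (tt N2296 D9390) (tt N1000 (iv D4542)) (tt N2297 D9391) (tt N1160 F17180) (tt N1498 F14812) (tt N1112 F17181))
theorem Q1508 : ∀ i, i < 1508 → P i := stepQ 1507 Q1507 (allL N1507 (tt N1433 F16666) (tt N2298 D9421) (tt N1002 (iv D4556)) (tt N2299 D9422) (tt N1167 F16680) (tt N1116 (iv F16740)) (tt N1502 F16667))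
theorem Q1509 : ∀ i, i < 1509 → P i := stepQ 1508 Q1508 (allL N1508 (tt N1003 (iv D4620)) (tt N1123 F7041) (tt N2125 (iv F16050)) (tt N1123 F7042) (tt N2243 (iv F13887)) (tt N2300 D9542) (tt N2301 D9543))
theorem Q1510 : ∀ i, i < 1510 → P i := stepQ 1509 Q1509 (allL N1509 (tt N2125 (iv F16049)) (tt N2120 (iv F16034)) (tt N1003 (iv D4621)) (tt N2130 (iv F16048)) (tt N2117 (iv F16047)) (tt N2302 D9545) (tt N2303 D9546))
theorem Q1511 : ∀ i, i < 1511 → P i := stepQ 1510 Q1510 (allL N1510 (tt N2300 (iv F14263)) (tt N2304 D9547) (tt N2302 (iv F14267)) (tt N1125 F7043) (tt N2245 (iv F13891)) (tt N1003 (iv D4622)) (tt N2305 D9548))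
theorem Q1512 : ∀ i, i < 1512 → P i := stepQ 1511 Q1511 (allL N1511 (tt N2301 (iv F14265)) (tt N2306 D9549) (tt N2303 (iv F14268)) (tt N1126 F7044) (tt N2246 (iv F13892)) (tt N2307 D9550) (tt N1003 (iv D4623)))
theorem Q1513 : ∀ i, i < 1513 → P i := stepQ 1512 Q1512 (allL N1512 (tt N2308 D9551) (tt N1004 (iv D4624)) (tt N2309 D9552) (tt N1127 F7045) (tt N2250 (iv F13901)) (tt N2304 (iv F14270)) (tt N2310 D9553))
theorem Q1514 : ∀ i, i < 1514 → P i := stepQ 1513 Q1513 (allL N1513 (tt N2311 D9554) (tt N1005 (iv D4625)) (tt N2312 D9555) (tt N1128 F7046) (tt N2251 (iv F13902)) (tt N2313 D9556) (tt N2306 (iv F14274)))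
theorem Q1515 : ∀ i, i < 1515 → P i := stepQ 1514 Q1514 (allL N1514 (tt N1006 (iv D4626)) (tt N2314 D9557) (tt N2315 D9558) (tt N1129 F7047) (tt N2258 (iv F13921)) (tt N1010 F7048) (tt N1527 (iv F7066)))
theorem Q1516 : ∀ i, i < 1516 → P i := stepQ 1515 Q1515 (allL N1515 (tt N2315 (iv F14283)) (tt N2184 (iv F13581)) (tt N1006 (iv D4627)) (tt N2316 D9559) (tt N2259 (iv F13923)) (tt N1011 F7049) (tt N2317 D9560))
theorem Q1517 : ∀ i, i < 1517 → P i := stepQ 1516 Q1516 (allL N1516 (tt N1527 (iv F7064)) (tt N2318 D9561) (tt N2317 (iv F14286)) (tt N1131 F7050) (tt N2260 (iv F13925)) (tt N1524 (iv F7061)) (tt N1006 (iv D4628)))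
theorem Q1518 : ∀ i, i < 1518 → P i := stepQ 1517 Q1517 (allL N1517 (tt N2319 D9562) (tt N1007 (iv D4629)) (tt N2320 D9563) (tt N1132 F7051) (tt N2261 (iv F13926)) (tt N2321 D9564) (tt N2318 (iv F14288)))
theorem Q1519 : ∀ i, i < 1519 → P i := stepQ 1518 Q1518 (allL N1518 (tt N1008 (iv D4630)) (tt N2322 D9565) (tt N2323 D9566) (tt N1133 F7052) (tt N2262 (iv F13927)) (tt N1533 (iv F7076)) (tt N1013 F7053))
theorem Q1520 : ∀ i, i < 1520 → P i := stepQ 1519 Q1519 (allL N1519 (tt N2323 (iv F14293)) (tt N2188 (iv F13584)) (tt N1008 (iv D4631)) (tt N2324 D9567) (tt N2263 (iv F13929)) (tt N2325 D9568) (tt N1014 F7054))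
theorem Q1521 : ∀ i, i < 1521 → P i := stepQ 1520 Q1520 (allL N1520 (tt N1533 (iv F7074)) (tt N2326 D9569) (tt N2325 (iv F14296)) (tt N1135 F7055) (tt N2264 (iv F13931)) (tt N1008 (iv D4632)) (tt N1530 (iv F7071)))
theorem Q1522 : ∀ i, i < 1522 → P i := stepQ 1521 Q1521 (allL N1521 (tt N2327 D9570) (tt N1009 (iv D4633)) (tt N2328 D9571) (tt N1136 F7056) (tt N2265 (iv F13932)) (tt N2326 (iv F14298)) (tt N2329 D9572))
theorem Q1523 : ∀ i, i < 1523 → P i := stepQ 1522 Q1522 (allL N1522 (tt N2330 D9573) (tt N1010 (iv D4634)) (tt N2330 (iv F20107)) (tt N1137 F7057) (tt N2272 (iv F13945)) (tt N2331 D9575) (tt N2332 D9576))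
theorem Q1524 : ∀ i, i < 1524 → P i := stepQ 1523 Q1523 (allL N1523 (tt N1011 F7058) (tt N2333 D9577) (tt N1010 (iv D4635)) (tt N2334 D9578) (tt N2273 (iv F13947)) (tt N2315 (iv F14284)) (tt N2335 D9579))
theorem Q1525 : ∀ i, i < 1525 → P i := stepQ 1524 Q1524 (allL N1524 (tt N1012 F7059) (tt N2336 D9580) (tt N2335 (iv F14308)) (tt N1139 F7060) (tt N2274 (iv F13949)) (tt N1516 F7061) (tt N1010 (iv D4636)))
theorem Q1526 : ∀ i, i < 1526 → P i := stepQ 1525 Q1525 (allL N1525 (tt N2334 (iv F14306)) (tt N1018 F7062) (tt N2337 D9581) (tt N1011 (iv D4637)) (tt N2338 D9582) (tt N2316 (iv F14285)) (tt N2339 D9583))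
theorem Q1527 : ∀ i, i < 1527 → P i := stepQ 1526 Q1526 (allL N1526 (tt N2335 (iv F14307)) (tt N2340 D9584) (tt N1012 F7063) (tt N2339 (iv F14312)) (tt N2276 (iv F13953)) (tt N2341 D9585) (tt N1011 (iv D4638)))
theorem Q1528 : ∀ i, i < 1528 → P i := stepQ 1527 Q1527 (allL N1527 (tt N1516 F7064) (tt N2342 D9586) (tt N2341 (iv F14315)) (tt N1143 F7065) (tt N2277 (iv F13955)) (tt N1012 (iv D4639)) (tt N1514 F7066))
theorem Q1529 : ∀ i, i < 1529 → P i := stepQ 1528 Q1528 (allL N1528 (tt N2343 D9587) (tt N1013 (iv D4640)) (tt N2343 F23431) (tt N1147 F7067) (tt N2278 (iv F13957)) (tt N2344 D9589) (tt N2345 D9590))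
theorem Q1530 : ∀ i, i < 1530 → P i := stepQ 1529 Q1529 (allL N1529 (tt N1014 F7068) (tt N2346 D9591) (tt N1013 (iv D4641)) (tt N2347 D9592) (tt N2279 (iv F13959)) (tt N2348 D9593) (tt N2323 (iv F14294)))
theorem Q1531 : ∀ i, i < 1531 → P i := stepQ 1530 Q1530 (allL N1530 (tt N1015 F7069) (tt N2349 D9594) (tt N2348 (iv F14324)) (tt N1149 F7070) (tt N2280 (iv F13961)) (tt N1013 (iv D4642)) (tt N1520 F7071))
theorem Q1532 : ∀ i, i < 1532 → P i := stepQ 1531 Q1531 (allL N1531 (tt N2347 (iv F14322)) (tt N1022 F7072) (tt N2350 D9595) (tt N1014 (iv D4643)) (tt N2351 D9596) (tt N2352 D9597) (tt N2324 (iv F14295)))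
theorem Q1533 : ∀ i, i < 1533 → P i := stepQ 1532 Q1532 (allL N1532 (tt N2348 (iv F14323)) (tt N2353 D9598) (tt N1015 F7073) (tt N2352 (iv F14328)) (tt N2282 (iv F13965)) (tt N1014 (iv D4644)) (tt N2354 D9599))
theorem Q1534 : ∀ i, i < 1534 → P i := stepQ 1533 Q1533 (allL N1533 (tt N1520 F7074) (tt N2355 D9600) (tt N2354 (iv F14331)) (tt N1153 F7075) (tt N2283 (iv F13967)) (tt N1518 F7076) (tt N1015 (iv D4645)))
theorem Q1535 : ∀ i, i < 1535 → P i := stepQ 1534 Q1534 (allL N1534 (tt N2356 D9610) (tt N1016 (iv D4650)) (tt N1534 F14790) (tt N2357 D9611) (tt N2284 (iv F13977)) (tt N2358 D9612) (tt N2359 D9613))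
theorem Q1536 : ∀ i, i < 1536 → P i := stepQ 1535 Q1535 (allL N1535 (tt N1018 F7081) (tt N2357 (iv F14350)) (tt N1553 (iv F7147)) (tt N1016 (iv D4651)) (tt N2360 D9614) (tt N1772 (iv F17190)) (tt N2361 D9615))
theorem Q1537 : ∀ i, i < 1537 → P i := stepQ 1536 Q1536 (allL N1536 (tt N1019 F7082) (tt N2362 D9616) (tt N1017 F7083) (tt N2361 (iv F14353)) (tt N2286 (iv F13981)) (tt N1162 (iv F17110)) (tt N1016 (iv D4652)))
theorem Q1538 : ∀ i, i < 1538 → P i := stepQ 1537 Q1537 (allL N1537 (tt N1553 (iv F7146)) (tt N2363 D9619) (tt N1018 (iv D4654)) (tt N1549 (iv F7134)) (tt N2364 D9620) (tt N2227 (iv F13641)) (tt N2365 D9621))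
theorem Q1539 : ∀ i, i < 1539 → P i := stepQ 1538 Q1538 (allL N1538 (tt N2360 (iv F14351)) (tt N2338 (iv F14311)) (tt N2364 (iv F14358)) (tt N2287 (iv F13985)) (tt N1018 (iv D4655)) (tt N2228 (iv F13642)) (tt N2366 D9622))
theorem Q1540 : ∀ i, i < 1540 → P i := stepQ 1539 Q1539 (allL N1539 (tt N2361 (iv F14352)) (tt N2367 D9623) (tt N2365 (iv F14359)) (tt N1019 F7086) (tt N2366 (iv F14360)) (tt N1163 (iv F17111)) (tt N1018 (iv D4656)))
theorem Q1541 : ∀ i, i < 1541 → P i := stepQ 1540 Q1540 (allL N1540 (tt N2368 D9625) (tt N1019 (iv D4657)) (tt N1547 F17008) (tt N2367 (iv F14361)) (tt N2289 (iv F13987)) (tt N2369 D9626) (tt N2340 (iv F14313)))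
theorem Q1542 : ∀ i, i < 1542 → P i := stepQ 1541 Q1541 (allL N1541 (tt N2370 D9639) (tt N1020 (iv D4664)) (tt N1541 F16651) (tt N2371 D9640) (tt N2290 (iv F14002)) (tt N2372 D9641) (tt N2373 D9642))
theorem Q1543 : ∀ i, i < 1543 → P i := stepQ 1542 Q1542 (allL N1542 (tt N1022 F7095) (tt N2371 (iv F14385)) (tt N1564 (iv F7205)) (tt N1020 (iv D4665)) (tt N2374 D9643) (tt N2375 D9644) (tt N1784 (iv F16686)))
theorem Q1544 : ∀ i, i < 1544 → P i := stepQ 1543 Q1543 (allL N1543 (tt N1023 F7096) (tt N2376 D9645) (tt N1021 F7097) (tt N2375 (iv F14388)) (tt N2292 (iv F14006)) (tt N1020 (iv D4666)) (tt N1169 (iv F16712)))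
theorem Q1545 : ∀ i, i < 1545 → P i := stepQ 1544 Q1544 (allL N1544 (tt N1564 (iv F7204)) (tt N2377 D9648) (tt N1022 (iv D4668)) (tt N1560 (iv F7192)) (tt N2378 D9649) (tt N2379 D9650) (tt N2231 (iv F13664)))
theorem Q1546 : ∀ i, i < 1546 → P i := stepQ 1545 Q1545 (allL N1545 (tt N2374 (iv F14386)) (tt N2351 (iv F14327)) (tt N2378 (iv F14393)) (tt N2293 (iv F14010)) (tt N1022 (iv D4669)) (tt N2380 D9651) (tt N2232 (iv F13665)))
theorem Q1547 : ∀ i, i < 1547 → P i := stepQ 1546 Q1546 (allL N1546 (tt N2375 (iv F14387)) (tt N2381 D9652) (tt N2379 (iv F14394)) (tt N1023 F7100) (tt N2380 (iv F14395)) (tt N1022 (iv D4670)) (tt N1170 F16873))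
theorem Q1548 : ∀ i, i < 1548 → P i := stepQ 1547 Q1547 (allL N1547 (tt N2382 D9654) (tt N1023 (iv D4671)) (tt N1540 (iv F17008)) (tt N2381 (iv F14396)) (tt N2295 (iv F14012)) (tt N2353 (iv F14329)) (tt N2383 D9655))
theorem Q1549 : ∀ i, i < 1549 → P i := stepQ 1548 Q1548 (allL N1548 (tt N1548 F14695) (tt N1025 F7130) (tt N2384 D9676) (tt N1024 (iv D4684)) (tt N1610 F32468) (tt N1548 F7131) (tt N1608 (iv F32473)))
theorem Q1550 : ∀ i, i < 1550 → P i := stepQ 1549 Q1549 (allL N1549 (tt N1027 F7133) (tt N2385 D9680) (tt N1025 (iv D4686)) (tt N1537 F7134) (tt N2386 D9681) (tt N1791 (iv F17194)) (tt N2387 D9682))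
theorem Q1551 : ∀ i, i < 1551 → P i := stepQ 1550 Q1550 (allL N1550 (tt N1028 F7135) (tt N1610 F32467) (tt N2386 (iv F14449)) (tt N1038 F7136) (tt N1025 (iv D4687)) (tt N1792 (iv F17196)) (tt N1587 (iv F32472)))
theorem Q1552 : ∀ i, i < 1552 → P i := stepQ 1551 Q1551 (allL N1551 (tt N1029 F7137) (tt N1583 (iv F32501)) (tt N2387 (iv F14451)) (tt N1026 F7138) (tt N1587 F32482) (tt N1175 (iv F17107)) (tt N1025 (iv D4688)))
theorem Q1553 : ∀ i, i < 1553 → P i := stepQ 1552 Q1552 (allL N1552 (tt N2388 D9690) (tt N1027 (iv D4692)) (tt N1048 F7145) (tt N2389 D9691) (tt N2390 D9692) (tt N2391 D9693) (tt N2392 D9694))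
theorem Q1554 : ∀ i, i < 1554 → P i := stepQ 1553 Q1553 (allL N1553 (tt N1537 F7146) (tt N2389 (iv F14468)) (tt N1535 F7147) (tt N1027 (iv D4693)) (tt N2393 D9695) (tt N2236 (iv F13690)) (tt N2394 D9696))
theorem Q1555 : ∀ i, i < 1555 → P i := stepQ 1554 Q1554 (allL N1554 (tt N2386 (iv F14448)) (tt N2390 (iv F14469)) (tt N1028 F7148) (tt N2395 D9697) (tt N1027 (iv D4694)) (tt N2237 (iv F13692)) (tt N2396 D9698))
theorem Q1556 : ∀ i, i < 1556 → P i := stepQ 1555 Q1555 (allL N1555 (tt N2387 (iv F14450)) (tt N2397 D9699) (tt N1029 F7149) (tt N2394 (iv F14477)) (tt N2396 (iv F14479)) (tt N1176 (iv F17112)) (tt N1027 (iv D4695)))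
theorem Q1557 : ∀ i, i < 1557 → P i := stepQ 1556 Q1556 (allL N1556 (tt N1587 F32479) (tt N2398 D9701) (tt N2396 (iv F14478)) (tt N1039 F7150) (tt N1029 F7151) (tt N1177 (iv F17113)) (tt N1028 (iv D4696)))
theorem Q1558 : ∀ i, i < 1558 → P i := stepQ 1557 Q1557 (allL N1557 (tt N2399 D9703) (tt N1029 (iv D4697)) (tt N2400 D9704) (tt N1030 F7152) (tt N2398 (iv F14484)) (tt N1204 (iv F16935)) (tt N1052 F7153))
theorem Q1559 : ∀ i, i < 1559 → P i := stepQ 1558 Q1558 (allL N1558 (tt N1030 (iv D4699)) (tt N1818 (iv F32680)) (tt N1569 F16810) (tt N2399 (iv F14490)) (tt N1041 F7157) (tt N1205 (iv F16933)) (tt N1054 F7158))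
theorem Q1560 : ∀ i, i < 1560 → P i := stepQ 1559 Q1559 (allL N1559 (tt N1559 F16459) (tt N1032 F7188) (tt N2401 D9733) (tt N1031 (iv D4714)) (tt N1615 (iv F32924)) (tt N1613 (iv F32931)) (tt N1559 F15608))
theorem Q1561 : ∀ i, i < 1561 → P i := stepQ 1560 Q1560 (allL N1560 (tt N1034 F7191) (tt N2402 D9740) (tt N1032 (iv D4717)) (tt N1544 F7192) (tt N2403 D9741) (tt N2404 D9742) (tt N1804 (iv F16588)))
theorem Q1562 : ∀ i, i < 1562 → P i := stepQ 1561 Q1561 (allL N1561 (tt N1035 F7193) (tt N1615 (iv F32923)) (tt N2403 (iv F14560)) (tt N1042 F7194) (tt N1032 (iv D4718)) (tt N1604 F32889) (tt N1805 (iv F16495)))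
theorem Q1563 : ∀ i, i < 1563 → P i := stepQ 1562 Q1562 (allL N1562 (tt N1036 F7195) (tt N1600 (iv F32844)) (tt N2404 (iv F14562)) (tt N1033 F7196) (tt N1604 (iv F32837)) (tt N1032 (iv D4719)) (tt N1182 (iv F16550)))
theorem Q1564 : ∀ i, i < 1564 → P i := stepQ 1563 Q1563 (allL N1563 (tt N2405 D9750) (tt N1034 (iv D4723)) (tt N1059 F7203) (tt N2406 D9751) (tt N2407 D9752) (tt N2408 D9753) (tt N2409 D9754))
theorem Q1565 : ∀ i, i < 1565 → P i := stepQ 1564 Q1564 (allL N1564 (tt N1544 F7204) (tt N2406 (iv F14580)) (tt N1542 F7205) (tt N1034 (iv D4724)) (tt N2410 D9755) (tt N2411 D9756) (tt N2240 (iv F13741)))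
theorem Q1566 : ∀ i, i < 1566 → P i := stepQ 1565 Q1565 (allL N1565 (tt N2403 (iv F14559)) (tt N2407 (iv F14581)) (tt N1035 F7206) (tt N2412 D9757) (tt N1034 (iv D4725)) (tt N2413 D9758) (tt N2241 (iv F13743)))
theorem Q1567 : ∀ i, i < 1567 → P i := stepQ 1566 Q1566 (allL N1566 (tt N2404 (iv F14561)) (tt N2414 D9759) (tt N1036 F7207) (tt N2411 (iv F14589)) (tt N2413 (iv F14591)) (tt N1034 (iv D4726)) (tt N1183 (iv F16705)))
theorem Q1568 : ∀ i, i < 1568 → P i := stepQ 1567 Q1567 (allL N1567 (tt N1604 (iv F32836)) (tt N2415 D9761) (tt N2413 (iv F14590)) (tt N1043 F7208) (tt N1036 F7209) (tt N1035 (iv D4727)) (tt N1184 (iv F16546)))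
theorem Q1569 : ∀ i, i < 1569 → P i := stepQ 1568 Q1568 (allL N1568 (tt N2416 D9763) (tt N1036 (iv D4728)) (tt N2417 D9764) (tt N1037 F7210) (tt N2415 (iv F14596)) (tt N1063 F7211) (tt N1212 (iv F16808)))
theorem Q1570 : ∀ i, i < 1570 → P i := stepQ 1569 Q1569 (allL N1569 (tt N1037 (iv D4730)) (tt N1817 (iv F32745)) (tt N1558 (iv F16810)) (tt N2416 (iv F14602)) (tt N1045 F7215) (tt N1065 F7216) (tt N1213 (iv F16812)))
theorem Q1571 : ∀ i, i < 1571 → P i := stepQ 1570 Q1570 (allL N1570 (tt N1807 (iv F32535)) (tt N1039 (iv D4772)) (tt N1809 (iv F32536)) (tt N2398 (iv F14483)) (tt N1040 F7279) (tt N1201 (iv F32537)) (tt N1068 F7280))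
theorem Q1572 : ∀ i, i < 1572 → P i := stepQ 1571 Q1571 (allL N1571 (tt N1794 F32676) (tt N1043 (iv D4832)) (tt N1796 F32677) (tt N2415 (iv F14595)) (tt N1044 F7361) (tt N1073 F7362) (tt N1209 F32678))
theorem Q1573 : ∀ i, i < 1573 → P i := stepQ 1572 Q1572 (allL N1572 (tt N2418 D9851) (tt N1046 (iv D4861)) (tt N1572 F16346) (tt N1048 F7409) (tt N2419 D9852) (tt N2420 D9853) (tt N2421 D9854))
theorem Q1574 : ∀ i, i < 1574 → P i := stepQ 1573 Q1573 (allL N1573 (tt N1049 F7410) (tt N2419 (iv F17526)) (tt N1047 F7411) (tt N2422 D9855) (tt N1046 (iv D4862)) (tt N1611 (iv F7691)) (tt N2110 (iv F12777)))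
theorem Q1575 : ∀ i, i < 1575 → P i := stepQ 1574 Q1574 (allL N1574 (tt N1048 (iv D4863)) (tt N2423 D9856) (tt N2388 (iv F14467)) (tt N2418 (iv F17525)) (tt N2424 D9857) (tt N2425 D9858) (tt N2426 D9859))
theorem Q1576 : ∀ i, i < 1576 → P i := stepQ 1575 Q1575 (allL N1575 (tt N2424 (iv F17535)) (tt N1049 F7412) (tt N2390 (iv F14470)) (tt N2427 D9860) (tt N1048 (iv D4864)) (tt N2428 D9861) (tt N2429 D9862))
theorem Q1577 : ∀ i, i < 1577 → P i := stepQ 1576 Q1576 (allL N1576 (tt N2425 (iv F17536)) (tt N2087 (iv F12711)) (tt N2391 (iv F14471)) (tt N2420 (iv F17529)) (tt N2428 (iv F17539)) (tt N1048 (iv D4865)) (tt N2430 D9863))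
theorem Q1578 : ∀ i, i < 1578 → P i := stepQ 1577 Q1577 (allL N1577 (tt N2426 (iv F17537)) (tt N2431 D9864) (tt N2392 (iv F14472)) (tt N2421 (iv F17531)) (tt N2429 (iv F17540)) (tt N2432 D9865) (tt N1048 (iv D4866)))
theorem Q1579 : ∀ i, i < 1579 → P i := stepQ 1578 Q1578 (allL N1578 (tt N2422 (iv F17532)) (tt N2427 (iv F17538)) (tt N2433 D9866) (tt N1049 (iv D4867)) (tt N2422 (iv F17533)) (tt N2089 (iv F12712)) (tt N2434 D9867))
theorem Q1580 : ∀ i, i < 1580 → P i := stepQ 1579 Q1579 (allL N1579 (tt N2110 (iv F12774)) (tt N2435 D9868) (tt N1051 F7413) (tt N2434 (iv F17549)) (tt N1050 F7414) (tt N2436 D9869) (tt N1049 (iv D4868)))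
theorem Q1581 : ∀ i, i < 1581 → P i := stepQ 1580 Q1580 (allL N1580 (tt N2437 D9870) (tt N1050 (iv D4869)) (tt N2438 D9871) (tt N2109 (iv F12773)) (tt N2435 (iv F17550)) (tt N2439 D9872) (tt N2431 (iv F17542)))
theorem Q1582 : ∀ i, i < 1582 → P i := stepQ 1581 Q1581 (allL N1581 (tt N1387 F7415) (tt N2440 D9873) (tt N1053 F7416) (tt N1387 F7417) (tt N2436 (iv F17553)) (tt N1050 (iv D4870)) (tt N1080 F7418))
theorem Q1583 : ∀ i, i < 1583 → P i := stepQ 1582 Q1582 (allL N1582 (tt N2441 D9874) (tt N1051 (iv D4871)) (tt N2442 D9875) (tt N1068 F7419) (tt N1052 F7420) (tt N1797 (iv F32524)) (tt N2398 (iv F14485)))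
theorem Q1584 : ∀ i, i < 1584 → P i := stepQ 1583 Q1583 (allL N1583 (tt N1388 F7421) (tt N1551 F32501) (tt N2436 (iv F17552)) (tt N1069 F7422) (tt N1053 F7423) (tt N1051 (iv D4872)) (tt N1079 F7424))
theorem Q1585 : ∀ i, i < 1585 → P i := stepQ 1584 Q1584 (allL N1584 (tt N1052 (iv D4873)) (tt N2443 D9878) (tt N2444 D9879) (tt N1054 F7425) (tt N2441 (iv F17558)) (tt N1828 (iv F17443)) (tt N2399 (iv F14491)))
theorem Q1586 : ∀ i, i < 1586 → P i := stepQ 1585 Q1585 (allL N1585 (tt N2444 (iv F17566)) (tt N2438 (iv F17555)) (tt N1052 (iv D4874)) (tt N2445 D9880) (tt N2442 (iv F17559)) (tt N2446 D9881) (tt N2400 (iv F14492)))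
theorem Q1587 : ∀ i, i < 1587 → P i := stepQ 1586 Q1586 (allL N1586 (tt N1828 F17444) (tt N1800 F32503) (tt N2446 (iv F17567)) (tt N1055 F7426) (tt N1797 (iv F32523)) (tt N1052 (iv D4875)) (tt N1826 F17446))
theorem Q1588 : ∀ i, i < 1588 → P i := stepQ 1587 Q1587 (allL N1587 (tt N1556 (iv F32479)) (tt N1053 (iv D4876)) (tt N2447 D9882) (tt N1056 F7427) (tt N1551 (iv F32482)) (tt N1800 (iv F32483)) (tt N1550 F32472))
theorem Q1589 : ∀ i, i < 1589 → P i := stepQ 1588 Q1588 (allL N1588 (tt N2063 (iv F12323)) (tt N1054 (iv D4877)) (tt N2079 (iv F12403)) (tt N2443 (iv F17564)) (tt N1072 F7428) (tt N2062 (iv F12322)) (tt N1391 (iv F7429)))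
theorem Q1590 : ∀ i, i < 1590 → P i := stepQ 1589 Q1589 (allL N1589 (tt N2448 D9884) (tt N1057 (iv D4899)) (tt N1589 F17502) (tt N1059 F7476) (tt N2449 D9885) (tt N2450 D9886) (tt N2451 D9887))
theorem Q1591 : ∀ i, i < 1591 → P i := stepQ 1590 Q1590 (allL N1590 (tt N1060 F7477) (tt N2449 (iv F17573)) (tt N1058 F7478) (tt N2452 D9888) (tt N1057 (iv D4900)) (tt N2097 (iv F12728)) (tt N1616 (iv F15786)))
theorem Q1592 : ∀ i, i < 1592 → P i := stepQ 1591 Q1591 (allL N1591 (tt N1059 (iv D4901)) (tt N2453 D9889) (tt N2405 (iv F14579)) (tt N2448 (iv F17572)) (tt N2454 D9890) (tt N2455 D9891) (tt N2456 D9892))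
theorem Q1593 : ∀ i, i < 1593 → P i := stepQ 1592 Q1592 (allL N1592 (tt N2454 (iv F17582)) (tt N1060 F7479) (tt N2407 (iv F14582)) (tt N2457 D9893) (tt N1059 (iv D4902)) (tt N2458 D9894) (tt N2459 D9895))
theorem Q1594 : ∀ i, i < 1594 → P i := stepQ 1593 Q1593 (allL N1593 (tt N2455 (iv F17583)) (tt N2460 D9896) (tt N2408 (iv F14583)) (tt N2450 (iv F17576)) (tt N2458 (iv F17586)) (tt N1059 (iv D4903)) (tt N2461 D9897))
theorem Q1595 : ∀ i, i < 1595 → P i := stepQ 1594 Q1594 (allL N1594 (tt N2456 (iv F17584)) (tt N2101 (iv F12754)) (tt N2409 (iv F14584)) (tt N2451 (iv F17578)) (tt N2459 (iv F17587)) (tt N2462 D9898) (tt N1059 (iv D4904)))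
theorem Q1596 : ∀ i, i < 1596 → P i := stepQ 1595 Q1595 (allL N1595 (tt N2452 (iv F17579)) (tt N2457 (iv F17585)) (tt N2463 D9899) (tt N1060 (iv D4905)) (tt N2452 (iv F17580)) (tt N2464 D9900) (tt N2102 (iv F12755)))
theorem Q1597 : ∀ i, i < 1597 → P i := stepQ 1596 Q1596 (allL N1596 (tt N2097 (iv F12726)) (tt N2465 D9901) (tt N1062 F7480) (tt N2464 (iv F17596)) (tt N1061 F7481) (tt N1060 (iv D4906)) (tt N2466 D9902))
theorem Q1598 : ∀ i, i < 1598 → P i := stepQ 1597 Q1597 (allL N1597 (tt N2467 D9903) (tt N1061 (iv D4907)) (tt N2468 D9904) (tt N2096 (iv F12725)) (tt N2465 (iv F17597)) (tt N2460 (iv F17588)) (tt N2469 D9905))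
theorem Q1599 : ∀ i, i < 1599 → P i := stepQ 1598 Q1598 (allL N1598 (tt N1396 F7482) (tt N2470 D9906) (tt N1064 F7483) (tt N1396 F7484) (tt N2466 (iv F17600)) (tt N1085 F15774) (tt N1061 (iv D4908)))
theorem Q1600 : ∀ i, i < 1600 → P i := stepQ 1599 Q1599 (allL N1599 (tt N2471 D9907) (tt N1062 (iv D4909)) (tt N2472 D9908) (tt N1073 F7486) (tt N1063 F7487) (tt N2415 (iv F14597)) (tt N1810 F32729))
theorem Q1601 : ∀ i, i < 1601 → P i := stepQ 1600 Q1600 (allL N1600 (tt N1397 F7488) (tt N1562 F32844) (tt N2466 (iv F17599)) (tt N1074 F7489) (tt N1064 F7490) (tt N1084 (iv F15766)) (tt N1062 (iv D4910)))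
theorem Q1602 : ∀ i, i < 1602 → P i := stepQ 1601 Q1601 (allL N1601 (tt N1063 (iv D4911)) (tt N2473 D9911) (tt N2474 D9912) (tt N1065 F7492) (tt N2471 (iv F17605)) (tt N2416 (iv F14603)) (tt N1839 (iv F17487)))
theorem Q1603 : ∀ i, i < 1603 → P i := stepQ 1602 Q1602 (allL N1602 (tt N2474 (iv F17613)) (tt N2468 (iv F17602)) (tt N1063 (iv D4912)) (tt N2475 D9913) (tt N2472 (iv F17606)) (tt N2417 (iv F14604)) (tt N2476 D9914))
theorem Q1604 : ∀ i, i < 1604 → P i := stepQ 1603 Q1603 (allL N1603 (tt N1839 (iv F17488)) (tt N1813 (iv F32771)) (tt N2476 (iv F17614)) (tt N1066 F7493) (tt N1810 F32703) (tt N1837 (iv F17486)) (tt N1063 (iv D4913)))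
theorem Q1605 : ∀ i, i < 1605 → P i := stepQ 1604 Q1604 (allL N1604 (tt N1567 F32836) (tt N1064 (iv D4914)) (tt N2477 D9915) (tt N1067 F7494) (tt N1562 F32837) (tt N1561 (iv F32889)) (tt N1813 F32838))
theorem Q1606 : ∀ i, i < 1606 → P i := stepQ 1605 Q1605 (allL N1605 (tt N2079 F15876) (tt N1065 (iv D4915)) (tt N2063 F15877) (tt N2473 (iv F17611)) (tt N1075 F7495) (tt N1400 F15878) (tt N2078 F15879))
theorem Q1607 : ∀ i, i < 1607 → P i := stepQ 1606 Q1606 (allL N1606 (tt N1068 (iv D4950)) (tt N2062 (iv F32659)) (tt N1073 F17315) (tt N2441 (iv F17557)) (tt N1070 F7554) (tt N1796 (iv F32592)) (tt N1807 F32576))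
theorem Q1608 : ∀ i, i < 1608 → P i := stepQ 1607 Q1607 (allL N1607 (tt N1073 F17310) (tt N2078 (iv F32655)) (tt N1068 (iv D4951)) (tt N2471 (iv F17604)) (tt N1071 F7555) (tt N1794 (iv F32616)) (tt N1809 F32577))
theorem Q1609 : ∀ i, i < 1609 → P i := stepQ 1608 Q1608 (allL N1608 (tt N1608 F16311) (tt N1079 F7683) (tt N2478 D9925) (tt N1076 (iv D5051)) (tt N1077 F7684) (tt N1608 F16317) (tt N1548 F32473))
theorem Q1610 : ∀ i, i < 1610 → P i := stepQ 1609 Q1609 (allL N1609 (tt N1609 F16318) (tt N2479 D9927) (tt N1077 (iv D5053)) (tt N2480 D9928) (tt N2478 (iv F17637)) (tt N1609 F16316) (tt N2481 D9929))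
theorem Q1611 : ∀ i, i < 1611 → P i := stepQ 1610 Q1610 (allL N1610 (tt N1610 F16313) (tt N1550 (iv F32467)) (tt N2481 (iv F17648)) (tt N1078 F7687) (tt N1548 (iv F32468)) (tt N1610 F7688) (tt N1077 (iv D5054)))
theorem Q1612 : ∀ i, i < 1612 → P i := stepQ 1611 Q1611 (allL N1611 (tt N1386 F7689) (tt N2482 D9930) (tt N1079 (iv D5055)) (tt N2433 (iv F17546)) (tt N1080 F7690) (tt N1573 F7691) (tt N2436 (iv F17554)))
theorem Q1613 : ∀ i, i < 1613 → P i := stepQ 1612 Q1612 (allL N1612 (tt N2483 D9931) (tt N1080 (iv D5056)) (tt N2479 (iv F17643)) (tt N1385 F7692) (tt N2482 (iv F17650)) (tt N2484 D9932) (tt N2485 D9933))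
theorem Q1614 : ∀ i, i < 1614 → P i := stepQ 1613 Q1613 (allL N1613 (tt N1613 F17453) (tt N1084 F7739) (tt N2486 D9934) (tt N1081 (iv D5086)) (tt N1082 F7740) (tt N1559 F32931) (tt N1613 F17451))
theorem Q1615 : ∀ i, i < 1615 → P i := stepQ 1614 Q1614 (allL N1614 (tt N1614 F17452) (tt N2487 D9936) (tt N1082 (iv D5092)) (tt N2488 D9937) (tt N2486 (iv F17656)) (tt N2489 D9938) (tt N1614 F17450))
theorem Q1616 : ∀ i, i < 1616 → P i := stepQ 1615 Q1615 (allL N1615 (tt N1615 F17448) (tt N1561 F32923) (tt N2489 (iv F17667)) (tt N1083 F7750) (tt N1559 F32924) (tt N1082 (iv D5093)) (tt N1615 F15948))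
theorem Q1617 : ∀ i, i < 1617 → P i := stepQ 1616 Q1616 (allL N1616 (tt N1395 F15785) (tt N2490 D9939) (tt N1084 (iv D5103)) (tt N2463 (iv F17593)) (tt N1085 F7765) (tt N2466 (iv F17601)) (tt N1590 F15786))
theorem Q1618 : ∀ i, i < 1618 → P i := stepQ 1617 Q1617 (allL N1617 (tt N2491 D9940) (tt N1085 (iv D5109)) (tt N2487 (iv F17662)) (tt N1394 F15787) (tt N2490 (iv F17669)) (tt N2492 D9941) (tt N2493 D9942))
theorem Q1619 : ∀ i, i < 1619 → P i := stepQ 1618 Q1618 (allL N1618 (tt N1086 (iv D5140)) (tt N2243 (iv F13886)) (tt N2494 D9943) (tt N1949 (iv F17703)) (tt N1123 F7815) (tt N2495 D9945) (tt N2496 D9946))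
theorem Q1620 : ∀ i, i < 1620 → P i := stepQ 1619 Q1619 (allL N1619 (tt N2494 (iv F17674)) (tt N1619 F7816) (tt N1086 (iv D5141)) (tt N2497 D9947) (tt N1124 F7817) (tt N2498 D9948) (tt N2499 D9949))
theorem Q1621 : ∀ i, i < 1621 → P i := stepQ 1620 Q1620 (allL N1620 (tt N1949 (iv F17702)) (tt N1087 F7818) (tt N1946 (iv F17701)) (tt N1086 (iv D5142)) (tt N2244 (iv F13890)) (tt N2500 D9951) (tt N2501 D9952))
theorem Q1622 : ∀ i, i < 1622 → P i := stepQ 1621 Q1621 (allL N1621 (tt N2495 (iv F17677)) (tt N2502 D9953) (tt N2498 (iv F17682)) (tt N2500 (iv F17686)) (tt N1125 F7819) (tt N1086 (iv D5143)) (tt N2503 D9954))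
theorem Q1623 : ∀ i, i < 1623 → P i := stepQ 1622 Q1622 (allL N1622 (tt N2496 (iv F17679)) (tt N2504 D9955) (tt N2499 (iv F17684)) (tt N2501 (iv F17687)) (tt N1126 F7820) (tt N2505 D9956) (tt N1086 (iv D5144)))
theorem Q1624 : ∀ i, i < 1624 → P i := stepQ 1623 Q1623 (allL N1623 (tt N1090 F7821) (tt N2506 D9957) (tt N1087 (iv D5145)) (tt N2507 D9958) (tt N2247 (iv F13894)) (tt N2508 D9959) (tt N2509 D9960))
theorem Q1625 : ∀ i, i < 1625 → P i := stepQ 1624 Q1624 (allL N1624 (tt N1091 F7822) (tt N2510 D9961) (tt N2508 (iv F17705)) (tt N1088 F7823) (tt N2248 (iv F13897)) (tt N1087 (iv D5146)) (tt N1634 (iv F7839)))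
theorem Q1626 : ∀ i, i < 1626 → P i := stepQ 1625 Q1625 (allL N1625 (tt N1092 F7824) (tt N2511 D9962) (tt N2509 (iv F17707)) (tt N1089 F7825) (tt N2249 (iv F13900)) (tt N1632 (iv F7834)) (tt N1087 (iv D5147)))
theorem Q1627 : ∀ i, i < 1627 → P i := stepQ 1626 Q1626 (allL N1626 (tt N2512 D9963) (tt N1088 (iv D5148)) (tt N2513 D9964) (tt N2510 (iv F17708)) (tt N1127 F7826) (tt N2502 (iv F17689)) (tt N2514 D9965))
theorem Q1628 : ∀ i, i < 1628 → P i := stepQ 1627 Q1627 (allL N1627 (tt N2515 D9966) (tt N1089 (iv D5149)) (tt N2516 D9967) (tt N2511 (iv F17709)) (tt N1128 F7827) (tt N2517 D9968) (tt N2504 (iv F17693)))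
theorem Q1629 : ∀ i, i < 1629 → P i := stepQ 1628 Q1628 (allL N1628 (tt N2507 (iv F17697)) (tt N1628 F7828) (tt N2507 (iv F17699)) (tt N1090 (iv D5150)) (tt N1628 F16043) (tt N2518 D9969) (tt N2519 D9970))
theorem Q1630 : ∀ i, i < 1630 → P i := stepQ 1629 Q1629 (allL N1629 (tt N2508 (iv F17704)) (tt N2520 D9971) (tt N1091 F7829) (tt N2518 (iv F17718)) (tt N2252 (iv F13905)) (tt N1090 (iv D5151)) (tt N2521 D9972))
theorem Q1631 : ∀ i, i < 1631 → P i := stepQ 1630 Q1630 (allL N1630 (tt N2509 (iv F17706)) (tt N2522 D9973) (tt N1092 F7830) (tt N2519 (iv F17720)) (tt N2253 (iv F13907)) (tt N2523 D9974) (tt N1090 (iv D5152)))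
theorem Q1632 : ∀ i, i < 1632 → P i := stepQ 1631 Q1631 (allL N1631 (tt N2524 D9975) (tt N1091 (iv D5153)) (tt N2525 D9976) (tt N1093 F7831) (tt N2254 (iv F13909)) (tt N1097 F7832) (tt N2526 D9977))
theorem Q1633 : ∀ i, i < 1633 → P i := stepQ 1632 Q1632 (allL N1632 (tt N1634 (iv F7837)) (tt N2527 D9978) (tt N2521 (iv F17723)) (tt N1094 F7833) (tt N2255 (iv F13912)) (tt N1625 F7834) (tt N1091 (iv D5154)))
theorem Q1634 : ∀ i, i < 1634 → P i := stepQ 1633 Q1633 (allL N1633 (tt N2528 D9979) (tt N1092 (iv D5155)) (tt N2529 D9980) (tt N1095 F7835) (tt N2256 (iv F13915)) (tt N2530 D9981) (tt N1099 F7836))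
theorem Q1635 : ∀ i, i < 1635 → P i := stepQ 1634 Q1634 (allL N1634 (tt N1632 F7837) (tt N2531 D9982) (tt N2523 (iv F17727)) (tt N1096 F7838) (tt N2257 (iv F13919)) (tt N1092 (iv D5156)) (tt N1624 F7839))
theorem Q1636 : ∀ i, i < 1636 → P i := stepQ 1635 Q1635 (allL N1635 (tt N1093 (iv D5157)) (tt N2532 D9983) (tt N2533 D9984) (tt N2524 (iv F17729)) (tt N1129 F7840) (tt N1101 F7841) (tt N1657 (iv F7876)))
theorem Q1637 : ∀ i, i < 1637 → P i := stepQ 1636 Q1636 (allL N1636 (tt N2533 (iv F17740)) (tt N1636 F7842) (tt N1093 (iv D5158)) (tt N2534 D9985) (tt N1130 F7843) (tt N1102 F7844) (tt N2535 D9986))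
theorem Q1638 : ∀ i, i < 1638 → P i := stepQ 1637 Q1637 (allL N1637 (tt N1657 (iv F7874)) (tt N2536 D9987) (tt N2535 (iv F17745)) (tt N2526 (iv F17732)) (tt N1131 F7845) (tt N1653 (iv F7868)) (tt N1093 (iv D5159)))
theorem Q1639 : ∀ i, i < 1639 → P i := stepQ 1638 Q1638 (allL N1638 (tt N2537 D9988) (tt N1094 (iv D5160)) (tt N2538 D9989) (tt N2527 (iv F17733)) (tt N1132 F7846) (tt N2539 D9990) (tt N2536 (iv F17748)))
theorem Q1640 : ∀ i, i < 1640 → P i := stepQ 1639 Q1639 (allL N1639 (tt N1095 (iv D5161)) (tt N2540 D9991) (tt N2541 D9992) (tt N2528 (iv F17734)) (tt N1133 F7847) (tt N1667 (iv F7895)) (tt N1105 F7848))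
theorem Q1641 : ∀ i, i < 1641 → P i := stepQ 1640 Q1640 (allL N1640 (tt N2541 (iv F17755)) (tt N1640 F7849) (tt N1095 (iv D5162)) (tt N2542 D9993) (tt N1134 F7850) (tt N2543 D9994) (tt N1106 F7851))
theorem Q1642 : ∀ i, i < 1642 → P i := stepQ 1641 Q1641 (allL N1641 (tt N1667 (iv F7893)) (tt N2544 D9995) (tt N2543 (iv F17760)) (tt N2530 (iv F17737)) (tt N1135 F7852) (tt N1095 (iv D5163)) (tt N1663 (iv F7887)))
theorem Q1643 : ∀ i, i < 1643 → P i := stepQ 1642 Q1642 (allL N1642 (tt N2545 D9996) (tt N1096 (iv D5164)) (tt N2546 D9997) (tt N2531 (iv F17738)) (tt N1136 F7853) (tt N2544 (iv F17763)) (tt N2547 D9998))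
theorem Q1644 : ∀ i, i < 1644 → P i := stepQ 1643 Q1643 (allL N1643 (tt N1097 (iv D5165)) (tt N2548 D9999) (tt N2549 D10000) (tt N1101 F7854) (tt N2266 (iv F13934)) (tt N2524 (iv F17730)) (tt N2550 D10001))
theorem Q1645 : ∀ i, i < 1645 → P i := stepQ 1644 Q1644 (allL N1644 (tt N2549 (iv F17770)) (tt N1644 F7855) (tt N1097 (iv D5166)) (tt N2551 D10002) (tt N2267 (iv F13936)) (tt N2525 (iv F17731)) (tt N2552 D10003))
theorem Q1646 : ∀ i, i < 1646 → P i := stepQ 1645 Q1645 (allL N1645 (tt N2550 (iv F17771)) (tt N2553 D10004) (tt N2552 (iv F17775)) (tt N1103 F7856) (tt N2268 (iv F13938)) (tt N2554 D10005) (tt N1097 (iv D5167)))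
theorem Q1647 : ∀ i, i < 1647 → P i := stepQ 1646 Q1646 (allL N1646 (tt N2555 D10006) (tt N1098 (iv D5168)) (tt N2556 D10007) (tt N1104 F7857) (tt N1650 (iv F7862)) (tt N2557 D10008) (tt N2553 (iv F17777)))
theorem Q1648 : ∀ i, i < 1648 → P i := stepQ 1647 Q1647 (allL N1647 (tt N1099 (iv D5169)) (tt N2558 D10009) (tt N2559 D10010) (tt N1105 F7858) (tt N2269 (iv F13940)) (tt N2560 D10011) (tt N2528 (iv F17735)))
theorem Q1649 : ∀ i, i < 1649 → P i := stepQ 1648 Q1648 (allL N1648 (tt N2559 (iv F17786)) (tt N1648 F7859) (tt N1099 (iv D5170)) (tt N2561 D10012) (tt N2270 (iv F13942)) (tt N2562 D10013) (tt N2529 (iv F17736)))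
theorem Q1650 : ∀ i, i < 1650 → P i := stepQ 1649 Q1649 (allL N1649 (tt N2560 (iv F17787)) (tt N2563 D10014) (tt N2562 (iv F17791)) (tt N1107 F7860) (tt N2271 (iv F13944)) (tt N1099 (iv D5171)) (tt N2564 D10015))
theorem Q1651 : ∀ i, i < 1651 → P i := stepQ 1650 Q1650 (allL N1650 (tt N2565 D10016) (tt N1100 (iv D5172)) (tt N2566 D10017) (tt N1108 F7861) (tt N1646 F7862) (tt N2563 (iv F17794)) (tt N2567 D10018))
theorem Q1652 : ∀ i, i < 1652 → P i := stepQ 1651 Q1651 (allL N1651 (tt N2568 D10019) (tt N1101 (iv D5173)) (tt N2569 D10020) (tt N2548 (iv F17769)) (tt N1137 F7863) (tt N2570 D10021) (tt N2571 D10022))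
theorem Q1653 : ∀ i, i < 1653 → P i := stepQ 1652 Q1652 (allL N1652 (tt N1102 F7864) (tt N2572 D10023) (tt N1101 (iv D5174)) (tt N2573 D10024) (tt N1138 F7865) (tt N2533 (iv F17742)) (tt N2574 D10025))
theorem Q1654 : ∀ i, i < 1654 → P i := stepQ 1653 Q1653 (allL N1653 (tt N1103 F7866) (tt N2575 D10026) (tt N2574 (iv F17812)) (tt N2550 (iv F17772)) (tt N1139 F7867) (tt N1637 F7868) (tt N1101 (iv D5175)))
theorem Q1655 : ∀ i, i < 1655 → P i := stepQ 1654 Q1654 (allL N1654 (tt N2573 (iv F17810)) (tt N1109 F7869) (tt N2576 D10027) (tt N1102 (iv D5176)) (tt N2577 D10028) (tt N2534 (iv F17744)) (tt N2578 D10029))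
theorem Q1656 : ∀ i, i < 1656 → P i := stepQ 1655 Q1655 (allL N1655 (tt N2574 (iv F17811)) (tt N2579 D10030) (tt N1103 F7870) (tt N2578 (iv F17818)) (tt N1141 F7871) (tt N2580 D10031) (tt N1102 (iv D5177)))
theorem Q1657 : ∀ i, i < 1657 → P i := stepQ 1656 Q1656 (allL N1656 (tt N2581 D10032) (tt N1103 (iv D5178)) (tt N2582 D10033) (tt N2553 (iv F17776)) (tt N1142 F7872) (tt N2583 D10034) (tt N1104 F7873))
theorem Q1658 : ∀ i, i < 1658 → P i := stepQ 1657 Q1657 (allL N1657 (tt N1637 F7874) (tt N2584 D10035) (tt N2580 (iv F17822)) (tt N2554 (iv F17779)) (tt N1143 F7875) (tt N1103 (iv D5179)) (tt N1635 F7876))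
theorem Q1659 : ∀ i, i < 1659 → P i := stepQ 1658 Q1658 (allL N1658 (tt N1104 (iv D5180)) (tt N2585 D10036) (tt N2586 D10037) (tt N2555 (iv F17781)) (tt N1144 F7877) (tt N2587 D10038) (tt N2581 (iv F17826)))
theorem Q1660 : ∀ i, i < 1660 → P i := stepQ 1659 Q1659 (allL N1659 (tt N2586 (iv F17832)) (tt N1112 F7878) (tt N1104 (iv D5181)) (tt N2588 D10039) (tt N1145 F7879) (tt N2589 D10040) (tt N2582 (iv F17828)))
theorem Q1661 : ∀ i, i < 1661 → P i := stepQ 1660 Q1660 (allL N1660 (tt N2587 (iv F17834)) (tt N1497 F7880) (tt N2589 (iv F17838)) (tt N2557 (iv F17784)) (tt N1146 F7881) (tt N1104 (iv D5182)) (tt N2590 D10041))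
theorem Q1662 : ∀ i, i < 1662 → P i := stepQ 1661 Q1661 (allL N1661 (tt N2591 D10042) (tt N1105 (iv D5183)) (tt N2592 D10043) (tt N2558 (iv F17785)) (tt N1147 F7882) (tt N2593 D10044) (tt N2594 D10045))
theorem Q1663 : ∀ i, i < 1663 → P i := stepQ 1662 Q1662 (allL N1662 (tt N1106 F7883) (tt N2595 D10046) (tt N1105 (iv D5184)) (tt N2596 D10047) (tt N1148 F7884) (tt N2597 D10048) (tt N2541 (iv F17757)))
theorem Q1664 : ∀ i, i < 1664 → P i := stepQ 1663 Q1663 (allL N1663 (tt N1107 F7885) (tt N2598 D10049) (tt N2597 (iv F17850)) (tt N2560 (iv F17788)) (tt N1149 F7886) (tt N1105 (iv D5185)) (tt N1641 F7887))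
theorem Q1665 : ∀ i, i < 1665 → P i := stepQ 1664 Q1664 (allL N1664 (tt N2596 (iv F17848)) (tt N1113 F7888) (tt N2599 D10050) (tt N1106 (iv D5186)) (tt N2600 D10051) (tt N2601 D10052) (tt N2542 (iv F17759)))
theorem Q1666 : ∀ i, i < 1666 → P i := stepQ 1665 Q1665 (allL N1665 (tt N2597 (iv F17849)) (tt N2602 D10053) (tt N1107 F7889) (tt N2601 (iv F17856)) (tt N1151 F7890) (tt N1106 (iv D5187)) (tt N2603 D10054))
theorem Q1667 : ∀ i, i < 1667 → P i := stepQ 1666 Q1666 (allL N1666 (tt N2604 D10055) (tt N1107 (iv D5188)) (tt N2605 D10056) (tt N2563 (iv F17792)) (tt N1152 F7891) (tt N1108 F7892) (tt N2606 D10057))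
theorem Q1668 : ∀ i, i < 1668 → P i := stepQ 1667 Q1667 (allL N1667 (tt N1641 F7893) (tt N2607 D10058) (tt N2603 (iv F17860)) (tt N2564 (iv F17796)) (tt N1153 F7894) (tt N1639 F7895) (tt N1107 (iv D5189)))
theorem Q1669 : ∀ i, i < 1669 → P i := stepQ 1668 Q1668 (allL N1668 (tt N1108 (iv D5190)) (tt N2608 D10059) (tt N2609 D10060) (tt N2565 (iv F17798)) (tt N1154 F7896) (tt N2604 (iv F17864)) (tt N2610 D10061))
theorem Q1670 : ∀ i, i < 1670 → P i := stepQ 1669 Q1669 (allL N1669 (tt N2609 (iv F17870)) (tt N1116 F7897) (tt N1108 (iv D5191)) (tt N2611 D10062) (tt N1155 F7898) (tt N2605 (iv F17866)) (tt N2612 D10063))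
theorem Q1671 : ∀ i, i < 1671 → P i := stepQ 1670 Q1670 (allL N1670 (tt N2610 (iv F17872)) (tt N1494 F7899) (tt N2612 (iv F17876)) (tt N2567 (iv F17803)) (tt N1156 F7900) (tt N2613 D10064) (tt N1108 (iv D5192)))
theorem Q1672 : ∀ i, i < 1672 → P i := stepQ 1671 Q1671 (allL N1671 (tt N1671 F14956) (tt N2614 D10065) (tt N1109 (iv D5201)) (tt N1110 F17216) (tt N2615 D10066) (tt N1671 F7918) (tt N1109 F17217))
theorem Q1673 : ∀ i, i < 1673 → P i := stepQ 1672 Q1672 (allL N1672 (tt N1672 F16204) (tt N2577 (iv F17816)) (tt N2615 (iv F17883)) (tt N1157 F7919) (tt N1109 (iv D5202)) (tt N1672 F7920) (tt N2615 (iv F17886)))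
theorem Q1674 : ∀ i, i < 1674 → P i := stepQ 1673 Q1673 (allL N1673 (tt N2616 D10067) (tt N1110 (iv D5204)) (tt N2296 F17215) (tt N2614 (iv F17881)) (tt N1159 F7922) (tt N2617 D10068) (tt N2579 (iv F17820)))
theorem Q1675 : ∀ i, i < 1675 → P i := stepQ 1674 Q1674 (allL N1674 (tt N2618 D10069) (tt N1111 (iv D5208)) (tt N2619 D10070) (tt N1117 F7930) (tt N1161 F7931) (tt N2618 (iv F17893)) (tt N1432 F17022))
theorem Q1676 : ∀ i, i < 1676 → P i := stepQ 1675 Q1675 (allL N1675 (tt N1112 F7932) (tt N2620 D10071) (tt N1111 (iv D5209)) (tt N2621 D10072) (tt N1162 F7933) (tt N2286 F17178) (tt N1431 F17179))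
theorem Q1677 : ∀ i, i < 1677 → P i := stepQ 1676 Q1676 (allL N1676 (tt N2621 (iv F17897)) (tt N2588 (iv F17837)) (tt N2622 D10073) (tt N1112 (iv D5211)) (tt N2623 D10074) (tt N2288 (iv F17237)) (tt N2297 F17236))
theorem Q1678 : ∀ i, i < 1678 → P i := stepQ 1677 Q1677 (allL N1677 (tt N1677 F16867) (tt N2624 D10075) (tt N1113 (iv D5222)) (tt N1114 F16864) (tt N2625 D10076) (tt N1113 F16865) (tt N1677 F7961))
theorem Q1679 : ∀ i, i < 1679 → P i := stepQ 1678 Q1678 (allL N1678 (tt N1678 F17418) (tt N2600 (iv F17854)) (tt N2625 (iv F17907)) (tt N1164 F7962) (tt N1113 (iv D5223)) (tt N2625 (iv F17909)) (tt N1678 F7963))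
theorem Q1680 : ∀ i, i < 1680 → P i := stepQ 1679 Q1679 (allL N1679 (tt N2626 D10077) (tt N1114 (iv D5225)) (tt N2298 F16866) (tt N2624 (iv F17905)) (tt N1166 F7965) (tt N2602 (iv F17858)) (tt N2627 D10078))
theorem Q1681 : ∀ i, i < 1681 → P i := stepQ 1680 Q1680 (allL N1680 (tt N2628 D10079) (tt N1115 (iv D5229)) (tt N2629 D10080) (tt N1118 F7973) (tt N1168 F7974) (tt N1434 F16767) (tt N2628 (iv F17918)))
theorem Q1682 : ∀ i, i < 1682 → P i := stepQ 1681 Q1681 (allL N1681 (tt N1116 F7975) (tt N2630 D10081) (tt N1115 (iv D5230)) (tt N2631 D10082) (tt N1169 F7976) (tt N1433 F16768) (tt N2292 F16769))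
theorem Q1683 : ∀ i, i < 1683 → P i := stepQ 1682 Q1682 (allL N1682 (tt N2631 (iv F17922)) (tt N2611 (iv F17875)) (tt N2632 D10083) (tt N1116 (iv D5232)) (tt N2633 D10084) (tt N2299 (iv F17480)) (tt N2294 F17479))
theorem Q1684 : ∀ i, i < 1684 → P i := stepQ 1683 Q1683 (allL N1683 (tt N1117 (iv D5269)) (tt N1685 (iv F8131)) (tt N2634 D10085) (tt N2618 (iv F17890)) (tt N1119 F8048) (tt N1117 (iv F16883)) (tt N1435 F16751))
theorem Q1685 : ∀ i, i < 1685 → P i := stepQ 1684 Q1684 (allL N1684 (tt N2634 (iv F17930)) (tt N2173 F17020) (tt N1117 (iv D5270)) (tt N2635 D10086) (tt N1120 F8049) (tt N2634 (iv F17932)) (tt N1436 F17021))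
theorem Q1686 : ∀ i, i < 1686 → P i := stepQ 1685 Q1685 (allL N1685 (tt N1118 (iv D5317)) (tt N1683 F8131) (tt N2636 D10087) (tt N2628 (iv F17915)) (tt N1121 F8132) (tt N1437 (iv F16895)) (tt N1118 F14869))
theorem Q1687 : ∀ i, i < 1687 → P i := stepQ 1686 Q1686 (allL N1686 (tt N2636 (iv F17935)) (tt N2171 F17441) (tt N1118 (iv D5318)) (tt N2637 D10088) (tt N1122 F8133) (tt N1438 F16773) (tt N2636 (iv F17938)))
theorem Q1688 : ∀ i, i < 1688 → P i := stepQ 1687 Q1687 (allL N1687 (tt N1120 F8239) (tt N2638 D10089) (tt N1119 (iv D5387)) (tt N1994 (iv F32904)) (tt N2634 (iv F17931)) (tt N1120 (iv F16886)) (tt N1439 F16755))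
theorem Q1689 : ∀ i, i < 1689 → P i := stepQ 1688 Q1688 (allL N1688 (tt N1122 F8343) (tt N2639 D10093) (tt N1121 (iv D5469)) (tt N1995 (iv F32862)) (tt N2636 (iv F17936)) (tt N1440 (iv F16967)) (tt N1122 F14877))
theorem Q1690 : ∀ i, i < 1690 → P i := stepQ 1689 Q1689 (allL N1689 (tt N1124 F8372) (tt N2112 F16051) (tt N1123 (iv D5493)) (tt N2640 D10097) (tt N2494 (iv F17675)) (tt N2641 D10098) (tt N2642 D10099))
theorem Q1691 : ∀ i, i < 1691 → P i := stepQ 1690 Q1690 (allL N1690 (tt N1125 F8373) (tt N2643 D10100) (tt N2641 (iv F17957)) (tt N2300 (iv F14264)) (tt N2495 (iv F17678)) (tt N1123 (iv D5494)) (tt N1698 (iv F8382)))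
theorem Q1692 : ∀ i, i < 1692 → P i := stepQ 1691 Q1691 (allL N1691 (tt N1126 F8374) (tt N2644 D10101) (tt N2642 (iv F17959)) (tt N2301 (iv F14266)) (tt N2496 (iv F17680)) (tt N1696 (iv F8379)) (tt N1123 (iv D5495)))
theorem Q1693 : ∀ i, i < 1693 → P i := stepQ 1692 Q1692 (allL N1692 (tt N2640 (iv F17955)) (tt N1692 F8375) (tt N2645 D10102) (tt N1124 (iv D5496)) (tt N2646 D10103) (tt N2647 D10104) (tt N2648 D10105))
theorem Q1694 : ∀ i, i < 1694 → P i := stepQ 1693 Q1693 (allL N1693 (tt N2641 (iv F17956)) (tt N2649 D10106) (tt N1125 F8376) (tt N2647 (iv F17961)) (tt N2498 (iv F17683)) (tt N1124 (iv D5497)) (tt N2650 D10107))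
theorem Q1695 : ∀ i, i < 1695 → P i := stepQ 1694 Q1694 (allL N1694 (tt N2642 (iv F17958)) (tt N2651 D10108) (tt N1126 F8377) (tt N2648 (iv F17962)) (tt N2499 (iv F17685)) (tt N2652 D10109) (tt N1124 (iv D5498)))
theorem Q1696 : ∀ i, i < 1696 → P i := stepQ 1695 Q1695 (allL N1695 (tt N2653 D10110) (tt N1125 (iv D5499)) (tt N2654 D10111) (tt N2304 (iv F14269)) (tt N2502 (iv F17688)) (tt N1127 F8378) (tt N2655 D10112))
theorem Q1697 : ∀ i, i < 1697 → P i := stepQ 1696 Q1696 (allL N1696 (tt N1698 (iv F8381)) (tt N2656 D10113) (tt N2650 (iv F17964)) (tt N2305 (iv F14271)) (tt N2503 (iv F17690)) (tt N1691 F8379) (tt N1125 (iv D5500)))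
theorem Q1698 : ∀ i, i < 1698 → P i := stepQ 1697 Q1697 (allL N1697 (tt N2657 D10114) (tt N1126 (iv D5501)) (tt N2658 D10115) (tt N2306 (iv F14273)) (tt N2504 (iv F17692)) (tt N2659 D10116) (tt N1128 F8380))
theorem Q1699 : ∀ i, i < 1699 → P i := stepQ 1698 Q1698 (allL N1698 (tt N1696 F8381) (tt N2660 D10117) (tt N2652 (iv F17968)) (tt N2307 (iv F14276)) (tt N2505 (iv F17695)) (tt N1126 (iv D5502)) (tt N1690 F8382))
theorem Q1700 : ∀ i, i < 1700 → P i := stepQ 1699 Q1699 (allL N1699 (tt N1127 (iv D5503)) (tt N2661 D10118) (tt N2662 D10119) (tt N2308 (iv F14278)) (tt N2512 (iv F17710)) (tt N2653 (iv F17971)) (tt N2663 D10120))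
theorem Q1701 : ∀ i, i < 1701 → P i := stepQ 1700 Q1700 (allL N1700 (tt N2662 (iv F17975)) (tt N1700 F8383) (tt N1127 (iv D5504)) (tt N2664 D10121) (tt N2513 (iv F17712)) (tt N2654 (iv F17972)) (tt N2665 D10122))
theorem Q1702 : ∀ i, i < 1702 → P i := stepQ 1701 Q1701 (allL N1701 (tt N2663 (iv F17976)) (tt N1720 (iv F8400)) (tt N2665 (iv F17979)) (tt N2310 (iv F14279)) (tt N2514 (iv F17713)) (tt N2666 D10123) (tt N1127 (iv D5505)))
theorem Q1703 : ∀ i, i < 1703 → P i := stepQ 1702 Q1702 (allL N1702 (tt N1128 (iv D5506)) (tt N2667 D10124) (tt N2668 D10125) (tt N2311 (iv F14280)) (tt N2515 (iv F17714)) (tt N2669 D10126) (tt N2657 (iv F17973)))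
theorem Q1704 : ∀ i, i < 1704 → P i := stepQ 1703 Q1703 (allL N1703 (tt N2668 (iv F17982)) (tt N1703 F8384) (tt N1128 (iv D5507)) (tt N2670 D10127) (tt N2516 (iv F17716)) (tt N2671 D10128) (tt N2658 (iv F17974)))
theorem Q1705 : ∀ i, i < 1705 → P i := stepQ 1704 Q1704 (allL N1704 (tt N2669 (iv F17983)) (tt N1712 (iv F8392)) (tt N2671 (iv F17986)) (tt N2313 (iv F14281)) (tt N2517 (iv F17717)) (tt N1128 (iv D5508)) (tt N2672 D10129))
theorem Q1706 : ∀ i, i < 1706 → P i := stepQ 1705 Q1705 (allL N1705 (tt N2673 D10130) (tt N1129 (iv D5509)) (tt N2674 D10131) (tt N2314 (iv F14282)) (tt N2532 (iv F17739)) (tt N2675 D10132) (tt N2676 D10133))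
theorem Q1707 : ∀ i, i < 1707 → P i := stepQ 1706 Q1706 (allL N1706 (tt N1130 F8385) (tt N2677 D10134) (tt N1129 (iv D5510)) (tt N2678 D10135) (tt N2533 (iv F17741)) (tt N1138 F8386) (tt N1733 (iv F8410)))
theorem Q1708 : ∀ i, i < 1708 → P i := stepQ 1707 Q1707 (allL N1707 (tt N2678 (iv F17990)) (tt N1707 F8387) (tt N2679 D10136) (tt N1130 (iv D5511)) (tt N2680 D10137) (tt N1140 F8388) (tt N2681 D10138))
theorem Q1709 : ∀ i, i < 1709 → P i := stepQ 1708 Q1708 (allL N1708 (tt N1733 (iv F8408)) (tt N2682 D10139) (tt N1131 F8389) (tt N2681 (iv F17995)) (tt N2535 (iv F17746)) (tt N1727 (iv F8404)) (tt N1130 (iv D5512)))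
theorem Q1710 : ∀ i, i < 1710 → P i := stepQ 1709 Q1709 (allL N1709 (tt N2683 D10140) (tt N1131 (iv D5513)) (tt N2684 D10141) (tt N2318 (iv F14287)) (tt N2536 (iv F17747)) (tt N2685 D10142) (tt N1132 F8390))
theorem Q1711 : ∀ i, i < 1711 → P i := stepQ 1710 Q1710 (allL N1710 (tt N1132 (iv D5514)) (tt N2686 D10143) (tt N2687 D10144) (tt N2319 (iv F14289)) (tt N2537 (iv F17749)) (tt N2688 D10145) (tt N2683 (iv F17997)))
theorem Q1712 : ∀ i, i < 1712 → P i := stepQ 1711 Q1711 (allL N1711 (tt N2687 (iv F17999)) (tt N1711 F8391) (tt N1132 (iv D5515)) (tt N2689 D10146) (tt N2538 (iv F17751)) (tt N2690 D10147) (tt N2684 (iv F17998)))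
theorem Q1713 : ∀ i, i < 1713 → P i := stepQ 1712 Q1712 (allL N1712 (tt N2688 (iv F18000)) (tt N1704 F8392) (tt N2690 (iv F18003)) (tt N2321 (iv F14291)) (tt N2539 (iv F17753)) (tt N1132 (iv D5516)) (tt N2691 D10148))
theorem Q1714 : ∀ i, i < 1714 → P i := stepQ 1713 Q1713 (allL N1713 (tt N2692 D10149) (tt N1133 (iv D5517)) (tt N2693 D10150) (tt N2322 (iv F14292)) (tt N2540 (iv F17754)) (tt N2694 D10151) (tt N2695 D10152))
theorem Q1715 : ∀ i, i < 1715 → P i := stepQ 1714 Q1714 (allL N1714 (tt N1134 F8393) (tt N2696 D10153) (tt N1133 (iv D5518)) (tt N2697 D10154) (tt N2541 (iv F17756)) (tt N1756 (iv F8429)) (tt N1148 F8394))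
theorem Q1716 : ∀ i, i < 1716 → P i := stepQ 1715 Q1715 (allL N1715 (tt N2697 (iv F18007)) (tt N1715 F8395) (tt N2698 D10155) (tt N1134 (iv D5519)) (tt N2699 D10156) (tt N2700 D10157) (tt N1150 F8396))
theorem Q1717 : ∀ i, i < 1717 → P i := stepQ 1716 Q1716 (allL N1716 (tt N1756 (iv F8427)) (tt N2701 D10158) (tt N1135 F8397) (tt N2700 (iv F18012)) (tt N2543 (iv F17761)) (tt N1134 (iv D5520)) (tt N1750 (iv F8423)))
theorem Q1718 : ∀ i, i < 1718 → P i := stepQ 1717 Q1717 (allL N1717 (tt N2702 D10159) (tt N1135 (iv D5521)) (tt N2703 D10160) (tt N2326 (iv F14297)) (tt N2544 (iv F17762)) (tt N1136 F8398) (tt N2704 D10161))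
theorem Q1719 : ∀ i, i < 1719 → P i := stepQ 1718 Q1718 (allL N1718 (tt N1136 (iv D5522)) (tt N2705 D10162) (tt N2706 D10163) (tt N2327 (iv F14299)) (tt N2545 (iv F17764)) (tt N2702 (iv F18014)) (tt N2707 D10164))
theorem Q1720 : ∀ i, i < 1720 → P i := stepQ 1719 Q1719 (allL N1719 (tt N2706 (iv F18016)) (tt N1719 F8399) (tt N1136 (iv D5523)) (tt N2708 D10165) (tt N2546 (iv F17766)) (tt N2703 (iv F18015)) (tt N2709 D10166))
theorem Q1721 : ∀ i, i < 1721 → P i := stepQ 1720 Q1720 (allL N1720 (tt N2707 (iv F18017)) (tt N1701 F8400) (tt N2709 (iv F18020)) (tt N2329 (iv F14301)) (tt N2547 (iv F17768)) (tt N2710 D10167) (tt N1136 (iv D5524)))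
theorem Q1722 : ∀ i, i < 1722 → P i := stepQ 1721 Q1721 (allL N1721 (tt N1137 (iv D5525)) (tt N2330 (iv F14302)) (tt N2333 (iv F20106)) (tt N2330 (iv F14303)) (tt N2568 (iv F17805)) (tt N2711 D10169) (tt N2712 D10170))
theorem Q1723 : ∀ i, i < 1723 → P i := stepQ 1722 Q1722 (allL N1722 (tt N2333 (iv F20105)) (tt N2713 D10171) (tt N1137 (iv D5526)) (tt N2714 D10172) (tt N2569 (iv F17806)) (tt N2715 D10173) (tt N2716 D10174))
theorem Q1724 : ∀ i, i < 1724 → P i := stepQ 1723 Q1723 (allL N1723 (tt N2711 (iv F18024)) (tt N2675 (iv F17989)) (tt N2715 (iv F18027)) (tt N2331 (iv F14304)) (tt N2570 (iv F17807)) (tt N1137 (iv D5527)) (tt N2717 D10175))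
theorem Q1725 : ∀ i, i < 1725 → P i := stepQ 1724 Q1724 (allL N1724 (tt N2712 (iv F18025)) (tt N2718 D10176) (tt N2716 (iv F18028)) (tt N2332 (iv F14305)) (tt N2571 (iv F17808)) (tt N2719 D10177) (tt N1137 (iv D5528)))
theorem Q1726 : ∀ i, i < 1726 → P i := stepQ 1725 Q1725 (allL N1725 (tt N2720 D10178) (tt N1138 (iv D5529)) (tt N2713 (iv F18026)) (tt N2721 D10179) (tt N2572 (iv F17809)) (tt N2722 D10180) (tt N2723 D10181))
theorem Q1727 : ∀ i, i < 1727 → P i := stepQ 1726 Q1726 (allL N1726 (tt N1140 F8401) (tt N2721 (iv F18034)) (tt N2724 D10182) (tt N1138 (iv D5530)) (tt N2725 D10183) (tt N2678 (iv F17991)) (tt N2726 D10184))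
theorem Q1728 : ∀ i, i < 1728 → P i := stepQ 1727 Q1727 (allL N1727 (tt N1141 F8402) (tt N2727 D10185) (tt N1139 F8403) (tt N2726 (iv F18039)) (tt N2574 (iv F17813)) (tt N1708 F8404) (tt N1138 (iv D5531)))
theorem Q1729 : ∀ i, i < 1729 → P i := stepQ 1728 Q1728 (allL N1728 (tt N2728 D10186) (tt N1139 (iv D5532)) (tt N2729 D10187) (tt N2336 (iv F14310)) (tt N2575 (iv F17815)) (tt N2730 D10188) (tt N2718 (iv F18030)))
theorem Q1730 : ∀ i, i < 1730 → P i := stepQ 1729 Q1729 (allL N1729 (tt N2724 (iv F18035)) (tt N1729 F16287) (tt N1140 (iv D5533)) (tt N2731 D10189) (tt N2732 D10190) (tt N2679 (iv F17992)) (tt N2733 D10191))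
theorem Q1731 : ∀ i, i < 1731 → P i := stepQ 1730 Q1730 (allL N1730 (tt N2725 (iv F18037)) (tt N1157 F8405) (tt N2732 (iv F18046)) (tt N2577 (iv F17817)) (tt N1140 (iv D5534)) (tt N2680 (iv F17994)) (tt N2734 D10192))
theorem Q1732 : ∀ i, i < 1732 → P i := stepQ 1731 Q1731 (allL N1731 (tt N2726 (iv F18038)) (tt N2735 D10193) (tt N2733 (iv F18047)) (tt N1141 F8406) (tt N2734 (iv F18048)) (tt N2736 D10194) (tt N1140 (iv D5535)))
theorem Q1733 : ∀ i, i < 1733 → P i := stepQ 1732 Q1732 (allL N1732 (tt N2737 D10195) (tt N1141 (iv D5536)) (tt N2738 D10196) (tt N2735 (iv F18049)) (tt N2579 (iv F17819)) (tt N2739 D10197) (tt N1159 F8407))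
theorem Q1734 : ∀ i, i < 1734 → P i := stepQ 1733 Q1733 (allL N1733 (tt N1708 F8408) (tt N2740 D10198) (tt N1143 F8409) (tt N2736 (iv F18052)) (tt N2580 (iv F17823)) (tt N1141 (iv D5537)) (tt N1706 F8410))
theorem Q1735 : ∀ i, i < 1735 → P i := stepQ 1734 Q1734 (allL N1734 (tt N1142 (iv D5538)) (tt N2741 D10199) (tt N2742 D10200) (tt N1763 (iv F8437)) (tt N2581 (iv F17825)) (tt N1743 (iv F8419)) (tt N1144 F8411))
theorem Q1736 : ∀ i, i < 1736 → P i := stepQ 1735 Q1735 (allL N1735 (tt N2742 (iv F18057)) (tt N2738 (iv F18055)) (tt N1142 (iv D5539)) (tt N2743 D10201) (tt N2582 (iv F17827)) (tt N2744 D10202) (tt N1145 F8412))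
theorem Q1737 : ∀ i, i < 1737 → P i := stepQ 1736 Q1736 (allL N1736 (tt N1743 (iv F8418)) (tt N2745 D10203) (tt N2744 (iv F18060)) (tt N1766 (iv F8442)) (tt N2583 (iv F17829)) (tt N1142 (iv D5540)) (tt N1740 (iv F8415)))
theorem Q1738 : ∀ i, i < 1738 → P i := stepQ 1737 Q1737 (allL N1737 (tt N2746 D10204) (tt N1143 (iv D5541)) (tt N2747 D10205) (tt N2342 (iv F14317)) (tt N2584 (iv F17830)) (tt N2745 (iv F18061)) (tt N2748 D10206))
theorem Q1739 : ∀ i, i < 1739 → P i := stepQ 1738 Q1738 (allL N1738 (tt N2749 D10207) (tt N1144 (iv D5542)) (tt N2750 D10208) (tt N1761 (iv F8434)) (tt N2585 (iv F17831)) (tt N2751 D10209) (tt N2752 D10210))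
theorem Q1740 : ∀ i, i < 1740 → P i := stepQ 1739 Q1739 (allL N1739 (tt N1145 F8413) (tt N2753 D10211) (tt N1144 (iv D5543)) (tt N2754 D10212) (tt N2586 (iv F17833)) (tt N2755 D10213) (tt N2742 (iv F18058)))
theorem Q1741 : ∀ i, i < 1741 → P i := stepQ 1740 Q1740 (allL N1740 (tt N1146 F8414) (tt N2756 D10214) (tt N2755 (iv F18065)) (tt N1757 (iv F8430)) (tt N2587 (iv F17835)) (tt N1144 (iv D5544)) (tt N1736 F8415))
theorem Q1742 : ∀ i, i < 1742 → P i := stepQ 1741 Q1741 (allL N1741 (tt N2754 (iv F18063)) (tt N1163 F8416) (tt N2757 D10215) (tt N1145 (iv D5545)) (tt N2758 D10216) (tt N2759 D10217) (tt N2743 (iv F18059)))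
theorem Q1743 : ∀ i, i < 1743 → P i := stepQ 1742 Q1742 (allL N1742 (tt N2755 (iv F18064)) (tt N2369 (iv F17430)) (tt N1146 F8417) (tt N2759 (iv F18068)) (tt N2589 (iv F17839)) (tt N1145 (iv D5546)) (tt N2760 D10218))
theorem Q1744 : ∀ i, i < 1744 → P i := stepQ 1743 Q1743 (allL N1743 (tt N1736 F8418) (tt N2761 D10219) (tt N2760 (iv F18070)) (tt N1759 (iv F8433)) (tt N2590 (iv F17841)) (tt N1734 F8419) (tt N1146 (iv D5547)))
theorem Q1745 : ∀ i, i < 1745 → P i := stepQ 1744 Q1744 (allL N1744 (tt N1147 (iv D5548)) (tt N2343 (iv F14318)) (tt N2346 (iv F23434)) (tt N2343 (iv F14319)) (tt N2591 (iv F17843)) (tt N2762 D10221) (tt N2763 D10222))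
theorem Q1746 : ∀ i, i < 1746 → P i := stepQ 1745 Q1745 (allL N1745 (tt N2346 F23435) (tt N2764 D10223) (tt N1147 (iv D5549)) (tt N2765 D10224) (tt N2592 (iv F17844)) (tt N2766 D10225) (tt N2767 D10226))
theorem Q1747 : ∀ i, i < 1747 → P i := stepQ 1746 Q1746 (allL N1746 (tt N2762 (iv F18074)) (tt N2768 D10227) (tt N2766 (iv F18077)) (tt N2344 (iv F14320)) (tt N2593 (iv F17845)) (tt N1147 (iv D5550)) (tt N2769 D10228))
theorem Q1748 : ∀ i, i < 1748 → P i := stepQ 1747 Q1747 (allL N1747 (tt N2763 (iv F18075)) (tt N2695 (iv F18006)) (tt N2767 (iv F18078)) (tt N2345 (iv F14321)) (tt N2594 (iv F17846)) (tt N2770 D10229) (tt N1147 (iv D5551)))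
theorem Q1749 : ∀ i, i < 1749 → P i := stepQ 1748 Q1748 (allL N1748 (tt N2771 D10230) (tt N1148 (iv D5552)) (tt N2764 (iv F18076)) (tt N2772 D10231) (tt N2595 (iv F17847)) (tt N2773 D10232) (tt N2774 D10233))
theorem Q1750 : ∀ i, i < 1750 → P i := stepQ 1749 Q1749 (allL N1749 (tt N1150 F8420) (tt N2772 (iv F18084)) (tt N2775 D10234) (tt N1148 (iv D5553)) (tt N2776 D10235) (tt N2777 D10236) (tt N2697 (iv F18008)))
theorem Q1751 : ∀ i, i < 1751 → P i := stepQ 1750 Q1750 (allL N1750 (tt N1151 F8421) (tt N2778 D10237) (tt N1149 F8422) (tt N2777 (iv F18089)) (tt N2597 (iv F17851)) (tt N1148 (iv D5554)) (tt N1716 F8423))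
theorem Q1752 : ∀ i, i < 1752 → P i := stepQ 1751 Q1751 (allL N1751 (tt N2779 D10238) (tt N1149 (iv D5555)) (tt N2780 D10239) (tt N2349 (iv F14326)) (tt N2598 (iv F17853)) (tt N2768 (iv F18079)) (tt N2781 D10240))
theorem Q1753 : ∀ i, i < 1753 → P i := stepQ 1752 Q1752 (allL N1752 (tt N2775 (iv F18085)) (tt N1752 F17457) (tt N1150 (iv D5556)) (tt N2782 D10241) (tt N2783 D10242) (tt N2784 D10243) (tt N2698 (iv F18009)))
theorem Q1754 : ∀ i, i < 1754 → P i := stepQ 1753 Q1753 (allL N1753 (tt N2776 (iv F18087)) (tt N1164 F8424) (tt N2783 (iv F18096)) (tt N2600 (iv F17855)) (tt N1150 (iv D5557)) (tt N2785 D10244) (tt N2699 (iv F18011)))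
theorem Q1755 : ∀ i, i < 1755 → P i := stepQ 1754 Q1754 (allL N1754 (tt N2777 (iv F18088)) (tt N2786 D10245) (tt N2784 (iv F18097)) (tt N1151 F8425) (tt N2785 (iv F18098)) (tt N1150 (iv D5558)) (tt N2787 D10246))
theorem Q1756 : ∀ i, i < 1756 → P i := stepQ 1755 Q1755 (allL N1755 (tt N2788 D10247) (tt N1151 (iv D5559)) (tt N2789 D10248) (tt N2786 (iv F18099)) (tt N2602 (iv F17857)) (tt N1166 F8426) (tt N2790 D10249))
theorem Q1757 : ∀ i, i < 1757 → P i := stepQ 1756 Q1756 (allL N1756 (tt N1716 F8427) (tt N2791 D10250) (tt N1153 F8428) (tt N2787 (iv F18102)) (tt N2603 (iv F17861)) (tt N1714 F8429) (tt N1151 (iv D5560)))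
theorem Q1758 : ∀ i, i < 1758 → P i := stepQ 1757 Q1757 (allL N1757 (tt N1152 (iv D5561)) (tt N2792 D10251) (tt N2793 D10252) (tt N1740 F8430) (tt N2604 (iv F17863)) (tt N1154 F8431) (tt N1766 (iv F8443)))
theorem Q1759 : ∀ i, i < 1759 → P i := stepQ 1758 Q1758 (allL N1758 (tt N2793 (iv F18108)) (tt N2789 (iv F18105)) (tt N1152 (iv D5562)) (tt N2794 D10253) (tt N2605 (iv F17865)) (tt N1155 F8432) (tt N2795 D10254))
theorem Q1760 : ∀ i, i < 1760 → P i := stepQ 1759 Q1759 (allL N1759 (tt N1766 (iv F8441)) (tt N2796 D10255) (tt N2795 (iv F18111)) (tt N1743 F8433) (tt N2606 (iv F17867)) (tt N1763 (iv F8438)) (tt N1152 (iv D5563)))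
theorem Q1761 : ∀ i, i < 1761 → P i := stepQ 1760 Q1760 (allL N1760 (tt N2797 D10256) (tt N1153 (iv D5564)) (tt N2798 D10257) (tt N2355 (iv F14333)) (tt N2607 (iv F17868)) (tt N2799 D10258) (tt N2796 (iv F18113)))
theorem Q1762 : ∀ i, i < 1762 → P i := stepQ 1761 Q1761 (allL N1761 (tt N2800 D10259) (tt N1154 (iv D5565)) (tt N2801 D10260) (tt N1738 F8434) (tt N2608 (iv F17869)) (tt N2802 D10261) (tt N2803 D10262))
theorem Q1763 : ∀ i, i < 1763 → P i := stepQ 1762 Q1762 (allL N1762 (tt N1155 F8435) (tt N2804 D10263) (tt N1154 (iv D5566)) (tt N2805 D10264) (tt N2609 (iv F17871)) (tt N2793 (iv F18109)) (tt N2806 D10265))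
theorem Q1764 : ∀ i, i < 1764 → P i := stepQ 1763 Q1763 (allL N1763 (tt N1156 F8436) (tt N2807 D10266) (tt N2806 (iv F18121)) (tt N1734 F8437) (tt N2610 (iv F17873)) (tt N1759 F8438) (tt N1154 (iv D5567)))
theorem Q1765 : ∀ i, i < 1765 → P i := stepQ 1764 Q1764 (allL N1764 (tt N2805 (iv F18119)) (tt N1170 F8439) (tt N2808 D10267) (tt N1155 (iv D5568)) (tt N2809 D10268) (tt N2794 (iv F18110)) (tt N2810 D10269))
theorem Q1766 : ∀ i, i < 1766 → P i := stepQ 1765 Q1765 (allL N1765 (tt N2806 (iv F18120)) (tt N2383 F17429) (tt N1156 F8440) (tt N2810 (iv F18125)) (tt N2612 (iv F17877)) (tt N2811 D10270) (tt N1155 (iv D5569)))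
theorem Q1767 : ∀ i, i < 1767 → P i := stepQ 1766 Q1766 (allL N1766 (tt N1759 F8441) (tt N2812 D10271) (tt N2811 (iv F18127)) (tt N1736 F8442) (tt N2613 (iv F17879)) (tt N1156 (iv D5570)) (tt N1757 F8443))
theorem Q1768 : ∀ i, i < 1768 → P i := stepQ 1767 Q1767 (allL N1767 (tt N1767 F16202) (tt N2813 D10272) (tt N1767 F16203) (tt N2615 (iv F17884)) (tt N1158 F8471) (tt N1767 F16201) (tt N1157 (iv D5591)))
theorem Q1769 : ∀ i, i < 1769 → P i := stepQ 1768 Q1768 (allL N1768 (tt N2814 D10273) (tt N1158 (iv D5592)) (tt N2815 D10274) (tt N1159 F8472) (tt N2813 (iv F18131)) (tt N2815 F28526) (tt N2735 (iv F18050)))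
theorem Q1770 : ∀ i, i < 1770 → P i := stepQ 1769 Q1769 (allL N1769 (tt N1159 (iv D5593)) (tt N2816 D10276) (tt N2817 D10277) (tt N2814 (iv F18132)) (tt N2616 (iv F17887)) (tt N2818 D10278) (tt N2737 (iv F18054)))
theorem Q1771 : ∀ i, i < 1771 → P i := stepQ 1770 Q1770 (allL N1770 (tt N2817 (iv F18136)) (tt N1160 F8473) (tt N1159 (iv D5594)) (tt N2819 D10279) (tt N2296 F17191) (tt N2820 D10280) (tt N2738 (iv F18056)))
theorem Q1772 : ∀ i, i < 1772 → P i := stepQ 1771 Q1771 (allL N1771 (tt N2818 (iv F18137)) (tt N1771 F16286) (tt N2820 (iv F18141)) (tt N2815 F28527) (tt N2617 (iv F17889)) (tt N1159 (iv D5595)) (tt N2821 D10281))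
theorem Q1773 : ∀ i, i < 1773 → P i := stepQ 1772 Q1772 (allL N1772 (tt N1467 F17188) (tt N2819 (iv F18139)) (tt N2236 F17189) (tt N1160 (iv D5598)) (tt N2822 D10282) (tt N1535 F17190) (tt N1163 F8477))
theorem Q1774 : ∀ i, i < 1774 → P i := stepQ 1773 Q1773 (allL N1773 (tt N1161 (iv D5600)) (tt N1785 (iv F8532)) (tt N2823 D10283) (tt N1172 F8479) (tt N2618 (iv F17891)) (tt N1161 (iv F16889)) (tt N1468 F16757))
theorem Q1775 : ∀ i, i < 1775 → P i := stepQ 1774 Q1774 (allL N1774 (tt N2823 (iv F18147)) (tt N2824 D10284) (tt N1161 (iv D5601)) (tt N2825 D10285) (tt N2619 (iv F17894)) (tt N2823 (iv F18148)) (tt N1469 F17025))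
theorem Q1776 : ∀ i, i < 1776 → P i := stepQ 1775 Q1775 (allL N1775 (tt N2826 D10286) (tt N1162 (iv D5604)) (tt N2824 (iv F18150)) (tt N2827 D10287) (tt N2620 (iv F17896)) (tt N2828 D10288) (tt N2829 D10289))
theorem Q1777 : ∀ i, i < 1777 → P i := stepQ 1776 Q1776 (allL N1776 (tt N1163 F8483) (tt N2827 (iv F18152)) (tt N1802 (iv F8652)) (tt N1162 (iv D5605)) (tt N2830 D10290) (tt N2361 F17186) (tt N1467 F17187))
theorem Q1778 : ∀ i, i < 1778 → P i := stepQ 1777 Q1777 (allL N1777 (tt N1802 (iv F8651)) (tt N2831 D10291) (tt N1163 (iv D5608)) (tt N1799 (iv F8640)) (tt N2832 D10292) (tt N2365 F17235) (tt N2236 F17233))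
theorem Q1779 : ∀ i, i < 1779 → P i := stepQ 1778 Q1778 (allL N1778 (tt N2830 (iv F18154)) (tt N2758 (iv F18067)) (tt N2832 (iv F18156)) (tt N2623 (iv F17904)) (tt N1163 (iv D5609)) (tt N2366 (iv F17408)) (tt N2822 (iv F18146)))
theorem Q1780 : ∀ i, i < 1780 → P i := stepQ 1779 Q1779 (allL N1779 (tt N1779 F17419) (tt N2833 D10293) (tt N1779 F17417) (tt N2625 (iv F17908)) (tt N1165 F8524) (tt N1164 (iv D5634)) (tt N1779 F17420))
theorem Q1781 : ∀ i, i < 1781 → P i := stepQ 1780 Q1780 (allL N1780 (tt N2834 D10294) (tt N1165 (iv D5635)) (tt N2835 D10295) (tt N1166 F8525) (tt N2833 (iv F18157)) (tt N2786 (iv F18100)) (tt N2835 F34615))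
theorem Q1782 : ∀ i, i < 1782 → P i := stepQ 1781 Q1781 (allL N1781 (tt N1166 (iv D5636)) (tt N2836 D10297) (tt N2837 D10298) (tt N2834 (iv F18158)) (tt N2626 (iv F17911)) (tt N2788 (iv F18104)) (tt N2838 D10299))
theorem Q1783 : ∀ i, i < 1783 → P i := stepQ 1782 Q1782 (allL N1782 (tt N2837 (iv F18162)) (tt N1167 F8526) (tt N1166 (iv D5637)) (tt N2839 D10300) (tt N2298 (iv F17482)) (tt N2789 (iv F18106)) (tt N2840 D10301))
theorem Q1784 : ∀ i, i < 1784 → P i := stepQ 1783 Q1783 (allL N1783 (tt N2838 (iv F18163)) (tt N1783 F17503) (tt N2840 (iv F18167)) (tt N2835 (iv F34613)) (tt N2627 (iv F17913)) (tt N2841 D10302) (tt N1166 (iv D5638)))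
theorem Q1785 : ∀ i, i < 1785 → P i := stepQ 1784 Q1784 (allL N1784 (tt N1470 F16684) (tt N2839 (iv F18165)) (tt N2240 F16685) (tt N1167 (iv D5641)) (tt N2842 D10303) (tt N1170 F8530) (tt N1542 F16686))
theorem Q1786 : ∀ i, i < 1786 → P i := stepQ 1785 Q1785 (allL N1785 (tt N1168 (iv D5643)) (tt N1773 F8532) (tt N2843 D10304) (tt N1179 F8533) (tt N2628 (iv F17916)) (tt N1471 (iv F16970)) (tt N1168 F14883))
theorem Q1787 : ∀ i, i < 1787 → P i := stepQ 1786 Q1786 (allL N1786 (tt N2843 (iv F18173)) (tt N2844 D10305) (tt N1168 (iv D5644)) (tt N2845 D10306) (tt N2629 (iv F17919)) (tt N1472 F16838) (tt N2843 (iv F18175)))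
theorem Q1788 : ∀ i, i < 1788 → P i := stepQ 1787 Q1787 (allL N1787 (tt N2846 D10307) (tt N1169 (iv D5647)) (tt N2844 (iv F18176)) (tt N2847 D10308) (tt N2630 (iv F17921)) (tt N2848 D10309) (tt N2849 D10310))
theorem Q1789 : ∀ i, i < 1789 → P i := stepQ 1788 Q1788 (allL N1788 (tt N1170 F8537) (tt N2847 (iv F18178)) (tt N1815 (iv F8769)) (tt N1169 (iv D5648)) (tt N2850 D10311) (tt N1470 F16840) (tt N2375 F16841))
theorem Q1790 : ∀ i, i < 1790 → P i := stepQ 1789 Q1789 (allL N1789 (tt N1815 (iv F8768)) (tt N2851 D10312) (tt N1170 (iv D5651)) (tt N1812 (iv F8757)) (tt N2852 D10313) (tt N2240 (iv F17477)) (tt N2379 F17474))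
theorem Q1791 : ∀ i, i < 1791 → P i := stepQ 1790 Q1790 (allL N1790 (tt N2850 (iv F18180)) (tt N2809 (iv F18124)) (tt N2852 (iv F18182)) (tt N2633 (iv F17929)) (tt N1170 (iv D5652)) (tt N2842 (iv F18171)) (tt N2380 F17475))
theorem Q1792 : ∀ i, i < 1792 → P i := stepQ 1791 Q1791 (allL N1791 (tt N1473 F17192) (tt N2853 D10314) (tt N1171 (iv D5684)) (tt N2227 F17193) (tt N2854 D10315) (tt N1549 F17194) (tt N1176 F8614))
theorem Q1793 : ∀ i, i < 1793 → P i := stepQ 1792 Q1792 (allL N1792 (tt N1474 F17195) (tt N1792 F8615) (tt N2854 (iv F18185)) (tt N1185 F8616) (tt N1171 (iv D5685)) (tt N1550 F17196) (tt N1177 F8617))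
theorem Q1794 : ∀ i, i < 1794 → P i := stepQ 1793 Q1793 (allL N1793 (tt N1173 F8621) (tt N1399 F15728) (tt N1172 (iv D5688)) (tt N2855 D10316) (tt N1186 F8622) (tt N1173 (iv F16861)) (tt N1378 (iv F32791)))
theorem Q1795 : ∀ i, i < 1795 → P i := stepQ 1794 Q1794 (allL N1794 (tt N1571 (iv F32676)) (tt N1173 (iv D5690)) (tt N1174 F8627) (tt N2856 D10317) (tt N1187 F8628) (tt N1607 F32616) (tt N1811 F16736))
theorem Q1796 : ∀ i, i < 1796 → P i := stepQ 1795 Q1795 (allL N1795 (tt N2855 (iv F18188)) (tt N2856 (iv F18192)) (tt N2857 D10319) (tt N1173 (iv D5691)) (tt N2858 D10320) (tt N2855 (iv F18190)) (tt N1475 F16998))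
theorem Q1797 : ∀ i, i < 1797 → P i := stepQ 1796 Q1796 (allL N1796 (tt N1174 (iv D5694)) (tt N1206 F15625) (tt N1571 (iv F32677)) (tt N2859 D10321) (tt N1189 F8635) (tt N1606 F32592) (tt N1201 F15627))
theorem Q1798 : ∀ i, i < 1798 → P i := stepQ 1797 Q1797 (allL N1797 (tt N2859 (iv F18201)) (tt N1175 F8636) (tt N2860 D10323) (tt N1174 (iv D5695)) (tt N1586 F32523) (tt N1582 F32524) (tt N2861 D10326))
theorem Q1799 : ∀ i, i < 1799 → P i := stepQ 1798 Q1798 (allL N1798 (tt N1201 F15558) (tt N1272 (iv F16859)) (tt N1811 F16733) (tt N2861 (iv F18214)) (tt N1190 F8638) (tt N1807 F16734) (tt N1174 (iv D5697)))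
theorem Q1800 : ∀ i, i < 1800 → P i := stepQ 1799 Q1799 (allL N1799 (tt N1176 F8639) (tt N2862 D10327) (tt N1175 (iv D5698)) (tt N1777 F8640) (tt N2863 D10328) (tt N2387 F17184) (tt N1473 F17185))
theorem Q1801 : ∀ i, i < 1801 → P i := stepQ 1800 Q1800 (allL N1800 (tt N1177 F8641) (tt N1586 (iv F32503)) (tt N2863 (iv F18217)) (tt N1191 F8642) (tt N1175 (iv D5699)) (tt N1587 F32483) (tt N1474 F17133))
theorem Q1802 : ∀ i, i < 1802 → P i := stepQ 1801 Q1801 (allL N1801 (tt N2864 D10329) (tt N1176 (iv D5703)) (tt N1202 F8650) (tt N2865 D10330) (tt N2866 D10331) (tt N2867 D10332) (tt N2868 D10333))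
theorem Q1803 : ∀ i, i < 1803 → P i := stepQ 1802 Q1802 (allL N1802 (tt N1777 F8651) (tt N2865 (iv F18220)) (tt N1776 F8652) (tt N1176 (iv D5704)) (tt N2869 D10334) (tt N2394 F17234) (tt N2227 (iv F17232)))
theorem Q1804 : ∀ i, i < 1804 → P i := stepQ 1803 Q1803 (allL N1803 (tt N2863 (iv F18216)) (tt N2866 (iv F18221)) (tt N1177 F8653) (tt N2870 D10335) (tt N1176 (iv D5705)) (tt N2396 (iv F17407)) (tt N2854 (iv F18187)))
theorem Q1805 : ∀ i, i < 1805 → P i := stepQ 1804 Q1804 (allL N1804 (tt N1476 F16586) (tt N2871 D10336) (tt N1178 (iv D5739)) (tt N2231 F16587) (tt N2872 D10337) (tt N1183 F8732) (tt N1560 F16588))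
theorem Q1806 : ∀ i, i < 1806 → P i := stepQ 1805 Q1805 (allL N1805 (tt N1477 F16494) (tt N1805 F8733) (tt N2872 (iv F18229)) (tt N1192 F8734) (tt N1178 (iv D5740)) (tt N1184 F8735) (tt N1561 F16495))
theorem Q1807 : ∀ i, i < 1807 → P i := stepQ 1806 Q1806 (allL N1806 (tt N1180 F8739) (tt N1390 F15616) (tt N1179 (iv D5743)) (tt N2873 D10338) (tt N1193 F8740) (tt N1384 F32644) (tt N1180 F14892))
theorem Q1808 : ∀ i, i < 1808 → P i := stepQ 1807 Q1807 (allL N1807 (tt N1570 F32535) (tt N1180 (iv D5745)) (tt N1181 F8745) (tt N2874 D10339) (tt N1194 F8746) (tt N1798 (iv F16734)) (tt N1606 (iv F32576)))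
theorem Q1809 : ∀ i, i < 1809 → P i := stepQ 1808 Q1808 (allL N1808 (tt N2873 (iv F18232)) (tt N2874 (iv F18236)) (tt N2875 D10340) (tt N1180 (iv D5746)) (tt N2876 D10341) (tt N1478 F16836) (tt N2873 (iv F18235)))
theorem Q1810 : ∀ i, i < 1810 → P i := stepQ 1809 Q1809 (allL N1809 (tt N1181 (iv D5749)) (tt N1214 (iv F16731)) (tt N1570 F32536) (tt N2877 D10342) (tt N1196 F8752) (tt N1209 F16617) (tt N1607 (iv F32577)))
theorem Q1811 : ∀ i, i < 1811 → P i := stepQ 1810 Q1810 (allL N1810 (tt N2877 (iv F18241)) (tt N1182 F8753) (tt N2878 D10343) (tt N1181 (iv D5750)) (tt N1603 (iv F32703)) (tt N2879 D10345) (tt N1599 (iv F32729)))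
theorem Q1812 : ∀ i, i < 1812 → P i := stepQ 1811 Q1811 (allL N1811 (tt N1209 F16630) (tt N1276 (iv F16697)) (tt N1798 (iv F16733)) (tt N2879 (iv F18248)) (tt N1197 F8754) (tt N1181 (iv D5751)) (tt N1794 (iv F16736)))
theorem Q1813 : ∀ i, i < 1813 → P i := stepQ 1812 Q1812 (allL N1812 (tt N1183 F8756) (tt N2880 D10347) (tt N1182 (iv D5753)) (tt N1789 F8757) (tt N2881 D10348) (tt N1476 F16635) (tt N2404 F16636))
theorem Q1814 : ∀ i, i < 1814 → P i := stepQ 1813 Q1813 (allL N1813 (tt N1184 F8758) (tt N1603 F32771) (tt N2881 (iv F18253)) (tt N1198 F8759) (tt N1182 (iv D5754)) (tt N1477 F16521) (tt N1604 (iv F32838)))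
theorem Q1815 : ∀ i, i < 1815 → P i := stepQ 1814 Q1814 (allL N1814 (tt N2882 D10349) (tt N1183 (iv D5758)) (tt N1210 F8767) (tt N2883 D10350) (tt N2884 D10351) (tt N2885 D10352) (tt N2886 D10353))
theorem Q1816 : ∀ i, i < 1816 → P i := stepQ 1815 Q1815 (allL N1815 (tt N1789 F8768) (tt N2883 (iv F18256)) (tt N1788 F8769) (tt N1183 (iv D5759)) (tt N2887 D10354) (tt N2231 F17478) (tt N2411 (iv F17476)))
theorem Q1817 : ∀ i, i < 1817 → P i := stepQ 1816 Q1816 (allL N1816 (tt N2881 (iv F18252)) (tt N2884 (iv F18257)) (tt N1184 F8770) (tt N2888 D10355) (tt N1183 (iv D5760)) (tt N2872 (iv F18230)) (tt N2413 (iv F17501)))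
theorem Q1818 : ∀ i, i < 1818 → P i := stepQ 1817 Q1817 (allL N1817 (tt N1360 (iv F32765)) (tt N1569 F32745) (tt N1359 (iv F32784)) (tt N2858 (iv F18199)) (tt N1188 (iv D5829)) (tt N1360 (iv F32766)) (tt N1361 (iv F32793)))
theorem Q1819 : ∀ i, i < 1819 → P i := stepQ 1818 Q1818 (allL N1818 (tt N1370 F32679) (tt N1558 F32680) (tt N1369 (iv F32744)) (tt N2876 (iv F18239)) (tt N1195 (iv D5934)) (tt N1371 F32681) (tt N1370 F32682))
theorem Q1820 : ∀ i, i < 1820 → P i := stepQ 1819 Q1819 (allL N1819 (tt N2889 D10404) (tt N1199 (iv D5993)) (tt N2866 F32506) (tt N1202 F9095) (tt N1202 (iv F32528)) (tt N2890 D10406) (tt N1834 F34389))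
theorem Q1821 : ∀ i, i < 1821 → P i := stepQ 1820 Q1820 (allL N1820 (tt N1203 F9099) (tt N2891 D10410) (tt N1200 F9100) (tt N1203 F9101) (tt N1203 (iv F32617)) (tt N1199 (iv D5995)) (tt N1203 F9102))
theorem Q1822 : ∀ i, i < 1822 → P i := stepQ 1821 Q1821 (allL N1821 (tt N2861 (iv F18212)) (tt N1200 (iv D5997)) (tt N2892 D10412) (tt N1201 F9107) (tt N1204 (iv F32540)) (tt N2398 F32515) (tt N2859 (iv F18203)))
theorem Q1823 : ∀ i, i < 1823 → P i := stepQ 1822 Q1822 (allL N1822 (tt N1202 (iv D6000)) (tt N2893 D10413) (tt N2864 (iv F18219)) (tt N2889 (iv F18408)) (tt N2889 F32563) (tt N2894 D10415) (tt N2895 D10416))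
theorem Q1824 : ∀ i, i < 1824 → P i := stepQ 1823 Q1823 (allL N1823 (tt N2894 (iv F18424)) (tt N2896 D10420) (tt N2867 (iv F18223)) (tt N2890 (iv F18410)) (tt N2890 F32564) (tt N1202 (iv D6002)) (tt N2897 D10421))
theorem Q1825 : ∀ i, i < 1825 → P i := stepQ 1824 Q1824 (allL N1824 (tt N2895 (iv F18425)) (tt N1824 F9112) (tt N2868 (iv F18224)) (tt N1834 (iv F34335)) (tt N1834 (iv F34336)) (tt N1830 F34296) (tt N1202 (iv D6003)))
theorem Q1826 : ∀ i, i < 1826 → P i := stepQ 1825 Q1825 (allL N1825 (tt N2898 D10426) (tt N1203 (iv D6006)) (tt N2899 D10427) (tt N2891 (iv F18420)) (tt N2891 F32706) (tt N2896 (iv F18430)) (tt N2900 D10428))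
theorem Q1827 : ∀ i, i < 1827 → P i := stepQ 1826 Q1826 (allL N1826 (tt N1204 (iv D6008)) (tt N2901 D10432) (tt N2902 D10433) (tt N1205 F9118) (tt N2861 (iv F32546)) (tt N2399 F17445) (tt N1586 (iv F17446)))
theorem Q1828 : ∀ i, i < 1828 → P i := stepQ 1827 Q1827 (allL N1827 (tt N2902 (iv F18448)) (tt N2899 (iv F18438)) (tt N1204 (iv D6009)) (tt N2903 D10434) (tt N2892 F32600) (tt N2400 (iv F17447)) (tt N2904 D10435))
theorem Q1829 : ∀ i, i < 1829 → P i := stepQ 1828 Q1828 (allL N1828 (tt N1586 (iv F17444)) (tt N2859 (iv F18202)) (tt N2904 (iv F18451)) (tt N1206 F9119) (tt N2859 (iv F32549)) (tt N1584 F17443) (tt N1204 (iv D6010)))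
theorem Q1830 : ∀ i, i < 1830 → P i := stepQ 1829 Q1829 (allL N1829 (tt N2064 (iv F17415)) (tt N1205 (iv D6011)) (tt N1374 (iv F32575)) (tt N2901 (iv F18447)) (tt N1215 F9120) (tt N1944 (iv F32588)) (tt N1280 F32534))
theorem Q1831 : ∀ i, i < 1831 → P i := stepQ 1830 Q1830 (allL N1830 (tt N2897 (iv F34297)) (tt N1207 (iv D6025)) (tt N2884 (iv F32917)) (tt N1210 F9148) (tt N1210 (iv F32912)) (tt N1824 (iv F34296)) (tt N2894 (iv F34299)))
theorem Q1832 : ∀ i, i < 1832 → P i := stepQ 1831 Q1831 (allL N1831 (tt N1211 F9152) (tt N2905 D10457) (tt N1208 F9153) (tt N1211 F9154) (tt N1211 (iv F32826)) (tt N1211 F9155) (tt N1207 (iv D6027)))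
theorem Q1833 : ∀ i, i < 1833 → P i := stepQ 1832 Q1832 (allL N1832 (tt N2879 (iv F18246)) (tt N1208 (iv D6029)) (tt N2906 D10459) (tt N1209 F9160) (tt N1212 (iv F32701)) (tt N2877 (iv F18243)) (tt N2415 (iv F32743)))
theorem Q1834 : ∀ i, i < 1834 → P i := stepQ 1833 Q1833 (allL N1833 (tt N1210 (iv D6032)) (tt N2907 D10460) (tt N2882 (iv F18255)) (tt N2897 F34339) (tt N2897 F34340) (tt N2908 D10462) (tt N2890 (iv F34408)))
theorem Q1835 : ∀ i, i < 1835 → P i := stepQ 1834 Q1834 (allL N1834 (tt N2908 (iv F18503)) (tt N1834 F9167) (tt N2885 (iv F18259)) (tt N1824 F34335) (tt N1824 F34336) (tt N1210 (iv D6034)) (tt N1819 (iv F34389)))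
theorem Q1836 : ∀ i, i < 1836 → P i := stepQ 1835 Q1835 (allL N1835 (tt N2890 (iv F34407)) (tt N2909 D10468) (tt N2886 (iv F18260)) (tt N2894 F34343) (tt N2894 F34344) (tt N2889 (iv F34414)) (tt N1210 (iv D6035)))
theorem Q1837 : ∀ i, i < 1837 → P i := stepQ 1836 Q1836 (allL N1836 (tt N2910 D10473) (tt N1211 (iv D6038)) (tt N2911 D10474) (tt N2905 (iv F18499)) (tt N2905 F32876) (tt N2912 D10475) (tt N2909 (iv F18510)))
theorem Q1838 : ∀ i, i < 1838 → P i := stepQ 1837 Q1837 (allL N1837 (tt N1212 (iv D6040)) (tt N2913 D10479) (tt N2914 D10480) (tt N1213 F9173) (tt N2879 F32768) (tt N1603 F17486) (tt N2416 (iv F17485)))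
theorem Q1839 : ∀ i, i < 1839 → P i := stepQ 1838 Q1838 (allL N1838 (tt N2914 (iv F18527)) (tt N2911 (iv F18517)) (tt N1212 (iv D6041)) (tt N2915 D10481) (tt N2906 F32769) (tt N2916 D10482) (tt N2417 (iv F17490)))
theorem Q1840 : ∀ i, i < 1840 → P i := stepQ 1839 Q1839 (allL N1839 (tt N1603 F17488) (tt N2877 (iv F18242)) (tt N2916 (iv F18530)) (tt N1214 F9174) (tt N2877 F32615) (tt N1212 (iv D6042)) (tt N1601 F17487))
theorem Q1841 : ∀ i, i < 1841 → P i := stepQ 1840 Q1840 (allL N1840 (tt N2080 F15905) (tt N1213 (iv D6043)) (tt N1380 (iv F32825)) (tt N2913 (iv F18526)) (tt N1216 F9175) (tt N1284 (iv F32830)) (tt N1941 (iv F32833)))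
theorem Q1842 : ∀ i, i < 1842 → P i := stepQ 1841 Q1841 (allL N1841 (tt N2917 D10633) (tt N1217 (iv D6705)) (tt N1220 F10074) (tt N2111 F16011) (tt N1218 F10075) (tt N2918 D10634) (tt N2919 D10635))
theorem Q1843 : ∀ i, i < 1843 → P i := stepQ 1842 Q1842 (allL N1842 (tt N1218 (iv D6737)) (tt N2920 D10636) (tt N1224 F10127) (tt N2921 D10637) (tt N2917 (iv F18870)) (tt N2922 D10638) (tt N2923 D10639))
theorem Q1844 : ∀ i, i < 1844 → P i := stepQ 1843 Q1843 (allL N1843 (tt N2921 (iv F18877)) (tt N1219 F10128) (tt N2924 D10640) (tt N1218 (iv D6738)) (tt N2113 (iv F16013)) (tt N2925 D10641) (tt N2926 D10642))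
theorem Q1845 : ∀ i, i < 1845 → P i := stepQ 1844 Q1844 (allL N1844 (tt N2922 (iv F18878)) (tt N1844 F16109) (tt N1225 F10129) (tt N2925 (iv F18884)) (tt N2918 (iv F18873)) (tt N1218 (iv D6739)) (tt N2927 D10643))
theorem Q1846 : ∀ i, i < 1846 → P i := stepQ 1845 Q1845 (allL N1845 (tt N2923 (iv F18880)) (tt N1845 F17224) (tt N1226 F10130) (tt N2926 (iv F18886)) (tt N2919 (iv F18876)) (tt N2928 D10644) (tt N1218 (iv D6740)))
theorem Q1847 : ∀ i, i < 1847 → P i := stepQ 1846 Q1846 (allL N1846 (tt N1220 (iv D6803)) (tt N2929 D10645) (tt N2917 (iv F18869)) (tt N2930 D10646) (tt N1224 F10226) (tt N2931 D10647) (tt N2932 D10648))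
theorem Q1848 : ∀ i, i < 1848 → P i := stepQ 1847 Q1847 (allL N1847 (tt N2930 (iv F18893)) (tt N1221 F10227) (tt N2933 D10649) (tt N1220 (iv D6804)) (tt N1287 F10228) (tt N2934 D10650) (tt N2935 D10651))
theorem Q1849 : ∀ i, i < 1849 → P i := stepQ 1848 Q1848 (allL N1848 (tt N2931 (iv F18896)) (tt N2936 D10652) (tt N2918 (iv F18872)) (tt N2934 (iv F18904)) (tt N1225 F10229) (tt N1220 (iv D6805)) (tt N2937 D10653))
theorem Q1850 : ∀ i, i < 1850 → P i := stepQ 1849 Q1849 (allL N1849 (tt N2932 (iv F18898)) (tt N2938 D10654) (tt N2919 (iv F18875)) (tt N2935 (iv F18906)) (tt N1226 F10230) (tt N2939 D10655) (tt N1220 (iv D6806)))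
theorem Q1851 : ∀ i, i < 1851 → P i := stepQ 1850 Q1850 (allL N1850 (tt N1290 F10231) (tt N2940 D10656) (tt N1290 F15665) (tt N1222 F10232) (tt N1290 F10233) (tt N1221 (iv D6807)) (tt N1959 (iv F11957)))
theorem Q1852 : ∀ i, i < 1852 → P i := stepQ 1851 Q1851 (allL N1851 (tt N1291 F10234) (tt N2941 D10657) (tt N1291 F15711) (tt N1223 F10235) (tt N1291 F10236) (tt N1957 (iv F11952)) (tt N1221 (iv D6808)))
theorem Q1853 : ∀ i, i < 1853 → P i := stepQ 1852 Q1852 (allL N1852 (tt N2942 D10658) (tt N1222 (iv D6809)) (tt N1852 F16112) (tt N2940 (iv F18919)) (tt N1227 F10237) (tt N2936 (iv F18910)) (tt N2943 D10659))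
theorem Q1854 : ∀ i, i < 1854 → P i := stepQ 1853 Q1853 (allL N1853 (tt N2944 D10660) (tt N1223 (iv D6810)) (tt N1853 F17221) (tt N2941 (iv F18921)) (tt N1228 F10238) (tt N2945 D10661) (tt N2938 (iv F18915)))
theorem Q1855 : ∀ i, i < 1855 → P i := stepQ 1854 Q1854 (allL N1854 (tt N2946 D10662) (tt N1224 (iv D6857)) (tt N2947 D10663) (tt N1322 F10300) (tt N2929 (iv F18892)) (tt N2948 D10664) (tt N2949 D10665))
theorem Q1856 : ∀ i, i < 1856 → P i := stepQ 1855 Q1855 (allL N1855 (tt N1225 F10301) (tt N2950 D10666) (tt N2922 (iv F18879)) (tt N1323 F10302) (tt N2931 (iv F18897)) (tt N1224 (iv D6858)) (tt N1860 (iv F10313)))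
theorem Q1857 : ∀ i, i < 1857 → P i := stepQ 1856 Q1856 (allL N1856 (tt N1226 F10303) (tt N2951 D10667) (tt N2923 (iv F18881)) (tt N1324 F10304) (tt N2932 (iv F18899)) (tt N1858 (iv F10308)) (tt N1224 (iv D6859)))
theorem Q1858 : ∀ i, i < 1858 → P i := stepQ 1857 Q1857 (allL N1857 (tt N2952 D10668) (tt N1225 (iv D6860)) (tt N1857 F16110) (tt N1325 F10305) (tt N2936 (iv F18909)) (tt N1227 F10306) (tt N2953 D10669))
theorem Q1859 : ∀ i, i < 1859 → P i := stepQ 1858 Q1858 (allL N1858 (tt N1860 (iv F10311)) (tt N2954 D10670) (tt N2927 (iv F18887)) (tt N1326 F10307) (tt N2937 (iv F18911)) (tt N1856 F10308) (tt N1225 (iv D6861)))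
theorem Q1860 : ∀ i, i < 1860 → P i := stepQ 1859 Q1859 (allL N1859 (tt N2955 D10671) (tt N1226 (iv D6862)) (tt N1859 F17223) (tt N1327 F10309) (tt N2938 (iv F18914)) (tt N2956 D10672) (tt N1228 F10310))
theorem Q1861 : ∀ i, i < 1861 → P i := stepQ 1860 Q1860 (allL N1860 (tt N1858 F10311) (tt N2957 D10673) (tt N2928 (iv F18890)) (tt N1328 F10312) (tt N2939 (iv F18917)) (tt N1226 (iv D6863)) (tt N1855 F10313))
theorem Q1862 : ∀ i, i < 1862 → P i := stepQ 1861 Q1861 (allL N1861 (tt N1227 (iv D6864)) (tt N2958 D10674) (tt N1861 F16111) (tt N1329 F10314) (tt N2942 (iv F18924)) (tt N2952 (iv F18939)) (tt N2959 D10675))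
theorem Q1863 : ∀ i, i < 1863 → P i := stepQ 1862 Q1862 (allL N1862 (tt N2959 (iv F18950)) (tt N2028 (iv F12224)) (tt N1862 F16113) (tt N1331 F10316) (tt N2943 (iv F18926)) (tt N2960 D10676) (tt N1227 (iv D6866)))
theorem Q1864 : ∀ i, i < 1864 → P i := stepQ 1863 Q1863 (allL N1863 (tt N1228 (iv D6867)) (tt N2961 D10677) (tt N1863 F17220) (tt N1333 F10317) (tt N2944 (iv F18928)) (tt N2962 D10678) (tt N2955 (iv F18945)))
theorem Q1865 : ∀ i, i < 1865 → P i := stepQ 1864 Q1864 (allL N1864 (tt N2962 (iv F18959)) (tt N2018 (iv F12212)) (tt N1864 F17222) (tt N1335 F10319) (tt N2945 (iv F18930)) (tt N1228 (iv D6869)) (tt N2963 D10679))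
theorem Q1866 : ∀ i, i < 1866 → P i := stepQ 1865 Q1865 (allL N1865 (tt N1240 F16014) (tt N1229 (iv D7595)) (tt N1865 F16015) (tt N1229 F16016) (tt N1234 F11291) (tt N2964 D10680) (tt N2965 D10681))
theorem Q1867 : ∀ i, i < 1867 → P i := stepQ 1866 Q1866 (allL N1866 (tt N1241 F11294) (tt N2966 D10682) (tt N1230 F11295) (tt N2964 (iv F18969)) (tt N1235 F11296) (tt N1229 (iv D7597)) (tt N1886 (iv F11404)))
theorem Q1868 : ∀ i, i < 1868 → P i := stepQ 1867 Q1867 (allL N1867 (tt N1242 F11297) (tt N2967 D10683) (tt N1231 F11298) (tt N2965 (iv F18973)) (tt N1236 F11299) (tt N1884 (iv F11399)) (tt N1229 (iv D7598)))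
theorem Q1869 : ∀ i, i < 1869 → P i := stepQ 1868 Q1868 (allL N1868 (tt N1868 F16213) (tt N1230 (iv D7599)) (tt N2968 D10684) (tt N1232 F11300) (tt N1237 F11301) (tt N1868 F16159) (tt N1968 F17231))
theorem Q1870 : ∀ i, i < 1870 → P i := stepQ 1869 Q1869 (allL N1869 (tt N1869 F17240) (tt N1231 (iv D7600)) (tt N2969 D10685) (tt N1233 F11302) (tt N1238 F11303) (tt N1976 (iv F17238)) (tt N1869 F16151))
theorem Q1871 : ∀ i, i < 1871 → P i := stepQ 1870 Q1870 (allL N1870 (tt N1234 (iv D7619)) (tt N2970 D10686) (tt N1870 F16017) (tt N1255 (iv F16020)) (tt N1240 F16018) (tt N2971 D10687) (tt N2972 D10688))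
theorem Q1872 : ∀ i, i < 1872 → P i := stepQ 1871 Q1871 (allL N1871 (tt N2971 (iv F18985)) (tt N2973 D10689) (tt N1871 F16107) (tt N2191 (iv F13588)) (tt N2964 (iv F18970)) (tt N1234 (iv D7620)) (tt N2974 D10690))
theorem Q1873 : ∀ i, i < 1873 → P i := stepQ 1872 Q1872 (allL N1872 (tt N2972 (iv F18989)) (tt N2975 D10691) (tt N1872 F16108) (tt N2192 (iv F13589)) (tt N2965 (iv F18974)) (tt N2976 D10692) (tt N1234 (iv D7621)))
theorem Q1874 : ∀ i, i < 1874 → P i := stepQ 1873 Q1873 (allL N1873 (tt N2977 D10693) (tt N1235 (iv D7622)) (tt N2978 D10694) (tt N2193 (iv F13599)) (tt N2966 (iv F18975)) (tt N2973 (iv F18993)) (tt N2979 D10695))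
theorem Q1875 : ∀ i, i < 1875 → P i := stepQ 1874 Q1874 (allL N1874 (tt N2980 D10696) (tt N1236 (iv D7623)) (tt N2981 D10697) (tt N2194 (iv F13600)) (tt N2967 (iv F18976)) (tt N2982 D10698) (tt N2975 (iv F18996)))
theorem Q1876 : ∀ i, i < 1876 → P i := stepQ 1875 Q1875 (allL N1875 (tt N1875 F16212) (tt N2978 (iv F19000)) (tt N1237 (iv D7625)) (tt N2983 D10699) (tt N2968 (iv F18978)) (tt N1875 F16188) (tt N2029 F17230))
theorem Q1877 : ∀ i, i < 1877 → P i := stepQ 1876 Q1876 (allL N1876 (tt N1876 F17256) (tt N2981 (iv F19001)) (tt N1238 (iv D7628)) (tt N2984 D10700) (tt N2969 (iv F18981)) (tt N2041 F17255) (tt N1876 F16150))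
theorem Q1878 : ∀ i, i < 1878 → P i := stepQ 1877 Q1877 (allL N1877 (tt N1239 (iv D7660)) (tt N2985 D10701) (tt N1286 F11383) (tt N2986 D10702) (tt N1251 F11384) (tt N2987 D10703) (tt N2988 D10704))
theorem Q1879 : ∀ i, i < 1879 → P i := stepQ 1878 Q1878 (allL N1878 (tt N2986 (iv F19009)) (tt N1240 F11385) (tt N2497 F17700) (tt N1239 (iv D7661)) (tt N2970 (iv F18984)) (tt N2989 D10705) (tt N2990 D10706))
theorem Q1880 : ∀ i, i < 1880 → P i := stepQ 1879 Q1879 (allL N1879 (tt N2987 (iv F19010)) (tt N2991 D10707) (tt N1288 F11386) (tt N2989 (iv F19016)) (tt N1253 F11387) (tt N1239 (iv D7662)) (tt N2992 D10708))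
theorem Q1881 : ∀ i, i < 1881 → P i := stepQ 1880 Q1880 (allL N1880 (tt N2988 (iv F19013)) (tt N2993 D10709) (tt N1289 F11388) (tt N2990 (iv F19017)) (tt N1254 F11389) (tt N2994 D10710) (tt N1239 (iv D7663)))
theorem Q1882 : ∀ i, i < 1882 → P i := stepQ 1881 Q1881 (allL N1881 (tt N2964 (iv F18967)) (tt N2995 D10711) (tt N1881 F11392) (tt N1241 F11393) (tt N2971 (iv F18988)) (tt N1240 (iv D7665)) (tt N2996 D10712))
theorem Q1883 : ∀ i, i < 1883 → P i := stepQ 1882 Q1882 (allL N1882 (tt N2965 (iv F18971)) (tt N2997 D10713) (tt N1882 F11394) (tt N1242 F11395) (tt N2972 (iv F18992)) (tt N2998 D10714) (tt N1240 (iv D7666)))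
theorem Q1884 : ∀ i, i < 1884 → P i := stepQ 1883 Q1883 (allL N1883 (tt N2999 D10715) (tt N1241 (iv D7667)) (tt N3000 D10716) (tt N2995 (iv F19029)) (tt N1258 F11396) (tt N2991 (iv F19019)) (tt N3001 D10717))
theorem Q1885 : ∀ i, i < 1885 → P i := stepQ 1884 Q1884 (allL N1884 (tt N1886 (iv F11401)) (tt N3002 D10718) (tt N1244 F11397) (tt N2996 (iv F19031)) (tt N1259 F11398) (tt N1867 F11399) (tt N1241 (iv D7668)))
theorem Q1886 : ∀ i, i < 1886 → P i := stepQ 1885 Q1885 (allL N1885 (tt N3003 D10719) (tt N1242 (iv D7669)) (tt N3004 D10720) (tt N2997 (iv F19034)) (tt N1260 F11400) (tt N3005 D10721) (tt N2993 (iv F19024)))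
theorem Q1887 : ∀ i, i < 1887 → P i := stepQ 1886 Q1886 (allL N1886 (tt N1884 F11401) (tt N3006 D10722) (tt N1246 F11402) (tt N2998 (iv F19037)) (tt N1261 F11403) (tt N1242 (iv D7670)) (tt N1866 F11404))
theorem Q1888 : ∀ i, i < 1888 → P i := stepQ 1887 Q1887 (allL N1887 (tt N1984 F16326) (tt N3000 (iv F19041)) (tt N1243 (iv D7672)) (tt N3007 D10723) (tt N1263 F11408) (tt N1297 F11409) (tt N3008 D10724))
theorem Q1889 : ∀ i, i < 1889 → P i := stepQ 1888 Q1888 (allL N1888 (tt N1973 (iv F11981)) (tt N1891 (iv F17228)) (tt N3008 (iv F19052)) (tt N1247 F11410) (tt N1264 F11411) (tt N1892 (iv F17147)) (tt N1243 (iv D7673)))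
theorem Q1890 : ∀ i, i < 1890 → P i := stepQ 1889 Q1889 (allL N1889 (tt N1302 F17173) (tt N1244 (iv D7674)) (tt N3009 D10725) (tt N1248 F11412) (tt N1265 F11413) (tt N1300 F17174) (tt N1891 F17175))
theorem Q1891 : ∀ i, i < 1891 → P i := stepQ 1890 Q1890 (allL N1890 (tt N1989 F17459) (tt N3004 (iv F19046)) (tt N1245 (iv D7676)) (tt N3010 D10726) (tt N1267 F11417) (tt N3011 D10727) (tt N1301 F11418))
theorem Q1892 : ∀ i, i < 1892 → P i := stepQ 1891 Q1891 (allL N1891 (tt N1981 (iv F12004)) (tt N1888 F17228) (tt N3011 (iv F19059)) (tt N1249 F11419) (tt N1268 F11420) (tt N1245 (iv D7677)) (tt N1889 (iv F17175)))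
theorem Q1893 : ∀ i, i < 1893 → P i := stepQ 1892 Q1892 (allL N1892 (tt N1298 F17146) (tt N1246 (iv D7678)) (tt N3012 D10728) (tt N1250 F11421) (tt N1269 F11422) (tt N1888 F17147) (tt N1296 F17148))
theorem Q1894 : ∀ i, i < 1894 → P i := stepQ 1893 Q1893 (allL N1893 (tt N2947 (iv F19075)) (tt N1251 (iv D7733)) (tt N2946 (iv F19073)) (tt N3013 D10731) (tt N2985 (iv F19008)) (tt N3014 D10732) (tt N3015 D10733))
theorem Q1895 : ∀ i, i < 1895 → P i := stepQ 1894 Q1894 (allL N1894 (tt N1252 F11496) (tt N3013 (iv F19067)) (tt N3016 D10734) (tt N1251 (iv D7734)) (tt N3017 D10735) (tt N3018 D10736) (tt N3019 D10737))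
theorem Q1896 : ∀ i, i < 1896 → P i := stepQ 1895 Q1895 (allL N1895 (tt N1253 F11497) (tt N3020 D10738) (tt N1323 F11498) (tt N3018 (iv F19078)) (tt N2987 (iv F19012)) (tt N1251 (iv D7735)) (tt N1904 (iv F11510)))
theorem Q1897 : ∀ i, i < 1897 → P i := stepQ 1896 Q1896 (allL N1896 (tt N1254 F11499) (tt N3021 D10739) (tt N1324 F11500) (tt N3019 (iv F19080)) (tt N2988 (iv F19015)) (tt N1902 (iv F11506)) (tt N1251 (iv D7736)))
theorem Q1898 : ∀ i, i < 1898 → P i := stepQ 1897 Q1897 (allL N1897 (tt N3016 (iv F19068)) (tt N2129 (iv F13225)) (tt N1252 (iv D7737)) (tt N3022 D10740) (tt N3023 D10741) (tt N3024 D10742) (tt N3025 D10743))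
theorem Q1899 : ∀ i, i < 1899 → P i := stepQ 1898 Q1898 (allL N1898 (tt N3017 (iv F19076)) (tt N1255 F11501) (tt N3023 (iv F19083)) (tt N2970 (iv F18983)) (tt N1252 (iv D7738)) (tt N3026 D10744) (tt N3027 D10745))
theorem Q1900 : ∀ i, i < 1900 → P i := stepQ 1899 Q1899 (allL N1899 (tt N3018 (iv F19077)) (tt N3028 D10746) (tt N3024 (iv F19084)) (tt N1253 F11502) (tt N3026 (iv F19086)) (tt N1252 (iv D7739)) (tt N3029 D10747))
theorem Q1901 : ∀ i, i < 1901 → P i := stepQ 1900 Q1900 (allL N1900 (tt N3019 (iv F19079)) (tt N3030 D10748) (tt N3025 (iv F19085)) (tt N1254 F11503) (tt N3027 (iv F19087)) (tt N3031 D10749) (tt N1252 (iv D7740)))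
theorem Q1902 : ∀ i, i < 1902 → P i := stepQ 1901 Q1901 (allL N1901 (tt N3032 D10750) (tt N1253 (iv D7741)) (tt N3033 D10751) (tt N3028 (iv F19088)) (tt N2991 (iv F19018)) (tt N1258 F11504) (tt N3034 D10752))
theorem Q1903 : ∀ i, i < 1903 → P i := stepQ 1902 Q1902 (allL N1902 (tt N1904 (iv F11508)) (tt N3035 D10753) (tt N1326 F11505) (tt N3029 (iv F19090)) (tt N2992 (iv F19021)) (tt N1896 F11506) (tt N1253 (iv D7742)))
theorem Q1904 : ∀ i, i < 1904 → P i := stepQ 1903 Q1903 (allL N1903 (tt N3036 D10754) (tt N1254 (iv D7743)) (tt N3037 D10755) (tt N3030 (iv F19092)) (tt N2993 (iv F19023)) (tt N3038 D10756) (tt N1260 F11507))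
theorem Q1905 : ∀ i, i < 1905 → P i := stepQ 1904 Q1904 (allL N1904 (tt N1902 F11508) (tt N3039 D10757) (tt N1328 F11509) (tt N3031 (iv F19095)) (tt N2994 (iv F19027)) (tt N1254 (iv D7744)) (tt N1895 F11510))
theorem Q1906 : ∀ i, i < 1906 → P i := stepQ 1905 Q1905 (allL N1905 (tt N2191 (iv F16023)) (tt N3040 D10758) (tt N2137 (iv F13235)) (tt N2971 (iv F18987)) (tt N1256 F11511) (tt N1255 (iv D7745)) (tt N3041 D10759))
theorem Q1907 : ∀ i, i < 1907 → P i := stepQ 1906 Q1906 (allL N1906 (tt N2192 (iv F16026)) (tt N3042 D10760) (tt N2138 (iv F13238)) (tt N2972 (iv F18991)) (tt N1257 F11512) (tt N3043 D10761) (tt N1255 (iv D7746)))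
theorem Q1908 : ∀ i, i < 1908 → P i := stepQ 1907 Q1907 (allL N1907 (tt N3044 D10762) (tt N1256 (iv D7747)) (tt N3045 D10763) (tt N1258 F11513) (tt N3040 (iv F19103)) (tt N3028 (iv F19089)) (tt N3046 D10764))
theorem Q1909 : ∀ i, i < 1909 → P i := stepQ 1908 Q1908 (allL N1908 (tt N1910 (iv F11518)) (tt N3047 D10765) (tt N1458 F11514) (tt N1259 F11515) (tt N3041 (iv F19106)) (tt N1452 F11516) (tt N1256 (iv D7748)))
theorem Q1910 : ∀ i, i < 1910 → P i := stepQ 1909 Q1909 (allL N1909 (tt N3048 D10766) (tt N1257 (iv D7749)) (tt N3049 D10767) (tt N1260 F11517) (tt N3042 (iv F19108)) (tt N3050 D10768) (tt N3030 (iv F19093)))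
theorem Q1911 : ∀ i, i < 1911 → P i := stepQ 1910 Q1910 (allL N1910 (tt N1908 F11518) (tt N3051 D10769) (tt N1456 F11519) (tt N1261 F11520) (tt N3043 (iv F19112)) (tt N1257 (iv D7750)) (tt N1451 F11521))
theorem Q1912 : ∀ i, i < 1912 → P i := stepQ 1911 Q1911 (allL N1911 (tt N1258 (iv D7751)) (tt N3052 D10770) (tt N3053 D10771) (tt N3044 (iv F19114)) (tt N2999 (iv F19040)) (tt N3032 (iv F19097)) (tt N3054 D10772))
theorem Q1913 : ∀ i, i < 1913 → P i := stepQ 1912 Q1912 (allL N1912 (tt N3053 (iv F19120)) (tt N1263 F11522) (tt N1258 (iv D7752)) (tt N3055 D10773) (tt N3000 (iv F19042)) (tt N3033 (iv F19099)) (tt N3056 D10774))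
theorem Q1914 : ∀ i, i < 1914 → P i := stepQ 1913 Q1913 (allL N1913 (tt N3054 (iv F19121)) (tt N3057 D10775) (tt N3056 (iv F19124)) (tt N3046 (iv F19115)) (tt N3001 (iv F19043)) (tt N3058 D10776) (tt N1258 (iv D7753)))
theorem Q1915 : ∀ i, i < 1915 → P i := stepQ 1914 Q1914 (allL N1914 (tt N3059 D10777) (tt N1259 (iv D7754)) (tt N3060 D10778) (tt N3047 (iv F19116)) (tt N3002 (iv F19044)) (tt N3061 D10779) (tt N3057 (iv F19125)))
theorem Q1916 : ∀ i, i < 1916 → P i := stepQ 1915 Q1915 (allL N1915 (tt N1260 (iv D7755)) (tt N3062 D10780) (tt N3063 D10781) (tt N3048 (iv F19117)) (tt N3003 (iv F19045)) (tt N3064 D10782) (tt N3036 (iv F19100)))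
theorem Q1917 : ∀ i, i < 1917 → P i := stepQ 1916 Q1916 (allL N1916 (tt N3063 (iv F19130)) (tt N1267 F11523) (tt N1260 (iv D7756)) (tt N3065 D10783) (tt N3004 (iv F19047)) (tt N3066 D10784) (tt N3037 (iv F19102)))
theorem Q1918 : ∀ i, i < 1918 → P i := stepQ 1917 Q1917 (allL N1917 (tt N3064 (iv F19131)) (tt N3067 D10785) (tt N3066 (iv F19134)) (tt N3050 (iv F19118)) (tt N3005 (iv F19048)) (tt N1260 (iv D7757)) (tt N3068 D10786))
theorem Q1919 : ∀ i, i < 1919 → P i := stepQ 1918 Q1918 (allL N1918 (tt N3069 D10787) (tt N1261 (iv D7758)) (tt N3070 D10788) (tt N3051 (iv F19119)) (tt N3006 (iv F19049)) (tt N3067 (iv F19135)) (tt N3071 D10789))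
theorem Q1920 : ∀ i, i < 1920 → P i := stepQ 1919 Q1919 (allL N1919 (tt N1263 F11525) (tt N3072 D10790) (tt N1262 (iv D7760)) (tt N3073 D10791) (tt N1984 F16327) (tt N1338 F11526) (tt N2036 (iv F12237)))
theorem Q1921 : ∀ i, i < 1921 → P i := stepQ 1920 Q1920 (allL N1920 (tt N3073 (iv F19141)) (tt N3055 (iv F19123)) (tt N3074 D10792) (tt N1263 (iv D7761)) (tt N3075 D10793) (tt N1339 F11527) (tt N3076 D10794))
theorem Q1922 : ∀ i, i < 1922 → P i := stepQ 1921 Q1921 (allL N1921 (tt N2036 (iv F12235)) (tt N3077 D10795) (tt N1264 F11528) (tt N3076 (iv F19145)) (tt N3008 (iv F19053)) (tt N1926 (iv F17155)) (tt N1263 (iv D7762)))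
theorem Q1923 : ∀ i, i < 1923 → P i := stepQ 1922 Q1922 (allL N1922 (tt N1348 F17170) (tt N3060 (iv F19128)) (tt N1265 (iv D7765)) (tt N3078 D10796) (tt N3009 (iv F19055)) (tt N1346 F17171) (tt N1925 F17172))
theorem Q1924 : ∀ i, i < 1924 → P i := stepQ 1923 Q1923 (allL N1923 (tt N1267 F11535) (tt N3079 D10797) (tt N1266 (iv D7768)) (tt N3080 D10798) (tt N1989 F17460) (tt N2048 (iv F12263)) (tt N1346 F11536))
theorem Q1925 : ∀ i, i < 1925 → P i := stepQ 1924 Q1924 (allL N1924 (tt N3080 (iv F19149)) (tt N3065 (iv F19133)) (tt N3081 D10799) (tt N1267 (iv D7769)) (tt N3082 D10800) (tt N3083 D10801) (tt N1347 F11537))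
theorem Q1926 : ∀ i, i < 1926 → P i := stepQ 1925 Q1925 (allL N1925 (tt N2048 (iv F12261)) (tt N3084 D10802) (tt N1268 F11538) (tt N3083 (iv F19153)) (tt N3011 (iv F19060)) (tt N1267 (iv D7770)) (tt N1922 (iv F17172)))
theorem Q1927 : ∀ i, i < 1927 → P i := stepQ 1926 Q1926 (allL N1926 (tt N1340 F17154) (tt N3070 (iv F19138)) (tt N1269 (iv D7773)) (tt N3085 D10803) (tt N3012 (iv F19063)) (tt N1921 F17155) (tt N1338 F17156))
theorem Q1928 : ∀ i, i < 1928 → P i := stepQ 1927 Q1927 (allL N1927 (tt N1927 F11551) (tt N1270 (iv D7779)) (tt N1927 F16333) (tt N3086 D10804) (tt N1278 F11552) (tt N1927 F16332) (tt N3087 D10805))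
theorem Q1929 : ∀ i, i < 1929 → P i := stepQ 1928 Q1928 (allL N1928 (tt N1271 F11553) (tt N3086 (iv F19160)) (tt N3088 D10806) (tt N1270 (iv D7780)) (tt N3089 D10807) (tt N1353 F11554) (tt N2061 (iv F12319)))
theorem Q1930 : ∀ i, i < 1930 → P i := stepQ 1929 Q1929 (allL N1929 (tt N3088 (iv F19166)) (tt N3090 D10808) (tt N1271 (iv D7781)) (tt N3091 D10809) (tt N3092 D10810) (tt N1354 F11555) (tt N3093 D10811))
theorem Q1931 : ∀ i, i < 1931 → P i := stepQ 1930 Q1930 (allL N1930 (tt N3089 (iv F19169)) (tt N1474 F11556) (tt N3092 (iv F19176)) (tt N1280 F11557) (tt N1271 (iv D7782)) (tt N1355 F11558) (tt N2901 (iv F32513)))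
theorem Q1932 : ∀ i, i < 1932 → P i := stepQ 1931 Q1931 (allL N1931 (tt N2061 (iv F12317)) (tt N2861 (iv F18213)) (tt N3093 (iv F19178)) (tt N1272 F11559) (tt N2901 F32538) (tt N1938 (iv F17089)) (tt N1271 (iv D7783)))
theorem Q1933 : ∀ i, i < 1933 → P i := stepQ 1932 Q1932 (allL N1932 (tt N1366 F16948) (tt N1475 F11573) (tt N3094 D10813) (tt N1273 (iv D7791)) (tt N3095 D10814) (tt N1363 F16949) (tt N1937 F16950))
theorem Q1934 : ∀ i, i < 1934 → P i := stepQ 1933 Q1933 (allL N1933 (tt N1933 F16137) (tt N1274 (iv D7798)) (tt N1933 F17492) (tt N3096 D10815) (tt N1282 F11586) (tt N3097 D10816) (tt N1933 F17493))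
theorem Q1935 : ∀ i, i < 1935 → P i := stepQ 1934 Q1934 (allL N1934 (tt N1275 F11587) (tt N3096 (iv F19188)) (tt N3098 D10817) (tt N1274 (iv D7799)) (tt N3099 D10818) (tt N2077 (iv F12400)) (tt N1363 F11588))
theorem Q1936 : ∀ i, i < 1936 → P i := stepQ 1935 Q1935 (allL N1935 (tt N3098 (iv F19194)) (tt N3100 D10819) (tt N1275 (iv D7800)) (tt N3101 D10820) (tt N3102 D10821) (tt N3103 D10822) (tt N1364 F11589))
theorem Q1937 : ∀ i, i < 1937 → P i := stepQ 1936 Q1936 (allL N1936 (tt N3099 (iv F19197)) (tt N1477 F11590) (tt N3102 (iv F19204)) (tt N1284 F11591) (tt N1275 (iv D7801)) (tt N2913 F32883) (tt N1365 F11592))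
theorem Q1938 : ∀ i, i < 1938 → P i := stepQ 1937 Q1937 (allL N1937 (tt N2077 (iv F12398)) (tt N2879 (iv F18247)) (tt N3103 (iv F19206)) (tt N1276 F11593) (tt N2913 (iv F32829)) (tt N1275 (iv D7802)) (tt N1932 (iv F16950)))
theorem Q1939 : ∀ i, i < 1939 → P i := stepQ 1938 Q1938 (allL N1938 (tt N1356 F17088) (tt N1478 F11613) (tt N3104 D10824) (tt N1277 (iv D7810)) (tt N3105 D10825) (tt N1931 F17089) (tt N1353 F17090))
theorem Q1940 : ∀ i, i < 1940 → P i := stepQ 1939 Q1939 (allL N1939 (tt N1939 F11636) (tt N1279 F11637) (tt N1939 F16344) (tt N1278 (iv D7821)) (tt N3087 F32666) (tt N1939 F16343) (tt N1278 (iv F32732)))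
theorem Q1941 : ∀ i, i < 1941 → P i := stepQ 1940 Q1940 (allL N1940 (tt N1280 F11642) (tt N3087 (iv F32581)) (tt N1373 F14728) (tt N3089 (iv F19170)) (tt N1279 (iv D7824)) (tt N1373 F11643) (tt N2064 (iv F32585)))
theorem Q1942 : ∀ i, i < 1942 → P i := stepQ 1941 Q1941 (allL N1941 (tt N1380 F16728) (tt N1361 F32831) (tt N2080 F32832) (tt N3095 (iv F19185)) (tt N1281 (iv D7845)) (tt N1379 F16729) (tt N1840 F32833))
theorem Q1943 : ∀ i, i < 1943 → P i := stepQ 1942 Q1942 (allL N1942 (tt N1942 F16136) (tt N1283 F11723) (tt N1942 F11728) (tt N1282 (iv D7859)) (tt N3097 F32943) (tt N1282 F32944) (tt N1942 F16513))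
theorem Q1944 : ∀ i, i < 1944 → P i := stepQ 1943 Q1943 (allL N1943 (tt N1284 F11729) (tt N3097 (iv F32914)) (tt N1379 F16515) (tt N3099 (iv F19198)) (tt N1283 (iv D7862)) (tt N2080 F32881) (tt N1379 F11730))
theorem Q1945 : ∀ i, i < 1945 → P i := stepQ 1944 Q1944 (allL N1944 (tt N1374 F17098) (tt N1371 (iv F32624)) (tt N2064 F32587) (tt N3105 (iv F19216)) (tt N1285 (iv D7879)) (tt N1829 F32588) (tt N1373 F17101))
theorem Q1946 : ∀ i, i < 1946 → P i := stepQ 1945 Q1945 (allL N1945 (tt N3106 D10830) (tt N1286 (iv D7995)) (tt N3106 F19236) (tt N3107 D10831) (tt N1322 F11933) (tt N3108 D10832) (tt N3109 D10833))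
theorem Q1947 : ∀ i, i < 1947 → P i := stepQ 1946 Q1946 (allL N1946 (tt N1287 F11934) (tt N3107 (iv F19237)) (tt N1620 F17701) (tt N1286 (iv D7996)) (tt N2930 (iv F18894)) (tt N3110 D10834) (tt N3111 D10835))
theorem Q1948 : ∀ i, i < 1948 → P i := stepQ 1947 Q1947 (allL N1947 (tt N1288 F11935) (tt N3112 D10836) (tt N2987 (iv F19011)) (tt N3110 (iv F19243)) (tt N1323 F11936) (tt N1286 (iv D7997)) (tt N1955 (iv F11949)))
theorem Q1949 : ∀ i, i < 1949 → P i := stepQ 1948 Q1948 (allL N1948 (tt N1289 F11937) (tt N3113 D10837) (tt N2988 (iv F19014)) (tt N3111 (iv F19246)) (tt N1324 F11938) (tt N1953 (iv F11944)) (tt N1286 (iv D7998)))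
theorem Q1950 : ∀ i, i < 1950 → P i := stepQ 1949 Q1949 (allL N1949 (tt N1620 F17702) (tt N2933 (iv F18901)) (tt N1287 (iv D7999)) (tt N1618 F17703) (tt N2933 (iv F18902)) (tt N3114 D10838) (tt N3115 D10839))
theorem Q1951 : ∀ i, i < 1951 → P i := stepQ 1950 Q1950 (allL N1950 (tt N3110 (iv F19241)) (tt N3116 D10840) (tt N3114 (iv F19250)) (tt N1288 F11939) (tt N2934 (iv F18905)) (tt N1287 (iv D8000)) (tt N3117 D10841))
theorem Q1952 : ∀ i, i < 1952 → P i := stepQ 1951 Q1951 (allL N1951 (tt N3111 (iv F19244)) (tt N3118 D10842) (tt N3115 (iv F19253)) (tt N1289 F11940) (tt N2935 (iv F18907)) (tt N3119 D10843) (tt N1287 (iv D8001)))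
theorem Q1953 : ∀ i, i < 1953 → P i := stepQ 1952 Q1952 (allL N1952 (tt N3120 D10844) (tt N1288 (iv D8002)) (tt N3121 D10845) (tt N3116 (iv F19255)) (tt N1325 F11941) (tt N1292 F11942) (tt N3122 D10846))
theorem Q1954 : ∀ i, i < 1954 → P i := stepQ 1953 Q1953 (allL N1953 (tt N1955 (iv F11947)) (tt N3123 D10847) (tt N2992 (iv F19020)) (tt N3117 (iv F19257)) (tt N1326 F11943) (tt N1948 F11944) (tt N1288 (iv D8003)))
theorem Q1955 : ∀ i, i < 1955 → P i := stepQ 1954 Q1954 (allL N1954 (tt N3124 D10848) (tt N1289 (iv D8004)) (tt N3125 D10849) (tt N3118 (iv F19259)) (tt N1327 F11945) (tt N3126 D10850) (tt N1294 F11946))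
theorem Q1956 : ∀ i, i < 1956 → P i := stepQ 1955 Q1955 (allL N1955 (tt N1953 F11947) (tt N3127 D10851) (tt N2994 (iv F19026)) (tt N3119 (iv F19262)) (tt N1328 F11948) (tt N1289 (iv D8005)) (tt N1947 F11949))
theorem Q1957 : ∀ i, i < 1957 → P i := stepQ 1956 Q1956 (allL N1956 (tt N3128 D10852) (tt N1290 (iv D8006)) (tt N3129 D10853) (tt N1292 F11950) (tt N2940 (iv F18920)) (tt N3116 (iv F19256)) (tt N3130 D10854))
theorem Q1958 : ∀ i, i < 1958 → P i := stepQ 1957 Q1957 (allL N1957 (tt N1959 (iv F11954)) (tt N3131 D10855) (tt N1959 (iv F15994)) (tt N1293 F11951) (tt N1959 (iv F11956)) (tt N1851 F11952) (tt N1290 (iv D8007)))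
theorem Q1959 : ∀ i, i < 1959 → P i := stepQ 1958 Q1958 (allL N1958 (tt N3132 D10856) (tt N1291 (iv D8008)) (tt N3133 D10857) (tt N1294 F11953) (tt N2941 (iv F18922)) (tt N3134 D10858) (tt N3118 (iv F19260)))
theorem Q1960 : ∀ i, i < 1960 → P i := stepQ 1959 Q1959 (allL N1959 (tt N1957 F11954) (tt N3135 D10859) (tt N1957 F15994) (tt N1295 F11955) (tt N1957 F11956) (tt N1291 (iv D8009)) (tt N1850 F11957))
theorem Q1961 : ∀ i, i < 1961 → P i := stepQ 1960 Q1960 (allL N1960 (tt N1292 (iv D8010)) (tt N3136 D10860) (tt N3137 D10861) (tt N3128 (iv F19276)) (tt N1329 F11958) (tt N3120 (iv F19265)) (tt N3138 D10862))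
theorem Q1962 : ∀ i, i < 1962 → P i := stepQ 1961 Q1961 (allL N1961 (tt N3137 (iv F19284)) (tt N1297 F11959) (tt N1292 (iv D8011)) (tt N3139 D10863) (tt N1330 F11960) (tt N3121 (iv F19267)) (tt N3140 D10864))
theorem Q1963 : ∀ i, i < 1963 → P i := stepQ 1962 Q1962 (allL N1962 (tt N3138 (iv F19286)) (tt N3141 D10865) (tt N3140 (iv F19290)) (tt N3130 (iv F19277)) (tt N1331 F11961) (tt N3142 D10866) (tt N1292 (iv D8012)))
theorem Q1964 : ∀ i, i < 1964 → P i := stepQ 1963 Q1963 (allL N1963 (tt N3143 D10867) (tt N1293 (iv D8013)) (tt N3144 D10868) (tt N3131 (iv F19278)) (tt N1332 F11962) (tt N3145 D10869) (tt N3141 (iv F19293)))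
theorem Q1965 : ∀ i, i < 1965 → P i := stepQ 1964 Q1964 (allL N1964 (tt N1294 (iv D8014)) (tt N3146 D10870) (tt N3147 D10871) (tt N3132 (iv F19279)) (tt N1333 F11963) (tt N3148 D10872) (tt N3124 (iv F19271)))
theorem Q1966 : ∀ i, i < 1966 → P i := stepQ 1965 Q1965 (allL N1965 (tt N3147 (iv F19303)) (tt N1301 F11964) (tt N1294 (iv D8015)) (tt N3149 D10873) (tt N1334 F11965) (tt N3150 D10874) (tt N3125 (iv F19273)))
theorem Q1967 : ∀ i, i < 1967 → P i := stepQ 1966 Q1966 (allL N1966 (tt N3148 (iv F19305)) (tt N3151 D10875) (tt N3150 (iv F19309)) (tt N3134 (iv F19280)) (tt N1335 F11966) (tt N1294 (iv D8016)) (tt N3152 D10876))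
theorem Q1968 : ∀ i, i < 1968 → P i := stepQ 1967 Q1967 (allL N1967 (tt N3153 D10877) (tt N1295 (iv D8017)) (tt N3154 D10878) (tt N3135 (iv F19281)) (tt N1336 F11967) (tt N3151 (iv F19312)) (tt N3155 D10879))
theorem Q1969 : ∀ i, i < 1969 → P i := stepQ 1968 Q1968 (allL N1968 (tt N1968 F16160) (tt N1296 (iv D8018)) (tt N3156 D10880) (tt N1304 F11968) (tt N1337 F11969) (tt N1968 F16230) (tt N1868 (iv F17231)))
theorem Q1970 : ∀ i, i < 1970 → P i := stepQ 1969 Q1969 (allL N1969 (tt N1297 F11970) (tt N3157 D10881) (tt N1296 (iv D8019)) (tt N3158 D10882) (tt N1338 F11971) (tt N1984 (iv F16325)) (tt N3012 (iv F19065)))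
theorem Q1971 : ∀ i, i < 1971 → P i := stepQ 1970 Q1970 (allL N1970 (tt N3158 (iv F19326)) (tt N3139 (iv F19289)) (tt N3007 (iv F19051)) (tt N1297 (iv D8021)) (tt N3159 D10883) (tt N3007 (iv F19050)) (tt N3160 D10884))
theorem Q1972 : ∀ i, i < 1972 → P i := stepQ 1971 Q1971 (allL N1971 (tt N3012 (iv F19062)) (tt N3161 D10885) (tt N1298 F11976) (tt N3160 (iv F19328)) (tt N1340 F11977) (tt N3162 D10886) (tt N1297 (iv D8022)))
theorem Q1973 : ∀ i, i < 1973 → P i := stepQ 1972 Q1972 (allL N1972 (tt N3163 D10887) (tt N1298 (iv D8023)) (tt N3164 D10888) (tt N1307 F11978) (tt N1341 F11979) (tt N3163 (iv F19337)) (tt N1299 F11980))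
theorem Q1974 : ∀ i, i < 1974 → P i := stepQ 1973 Q1973 (allL N1973 (tt N1888 F11981) (tt N1982 F17225) (tt N3162 (iv F19331)) (tt N1306 F15168) (tt N1342 F11983) (tt N1298 (iv D8024)) (tt N1305 F15169))
theorem Q1975 : ∀ i, i < 1975 → P i := stepQ 1974 Q1974 (allL N1974 (tt N1299 (iv D8025)) (tt N1981 F16097) (tt N3165 D10889) (tt N1308 F11985) (tt N1343 F11986) (tt N1974 F17248) (tt N3163 (iv F19336)))
theorem Q1976 : ∀ i, i < 1976 → P i := stepQ 1975 Q1975 (allL N1975 (tt N3165 (iv F19340)) (tt N3144 (iv F19298)) (tt N1299 (iv D8026)) (tt N3166 D10890) (tt N1344 F11987) (tt N1975 F17249) (tt N3164 (iv F19339)))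
theorem Q1977 : ∀ i, i < 1977 → P i := stepQ 1976 Q1976 (allL N1976 (tt N1976 F17229) (tt N1300 (iv D8028)) (tt N3167 D10891) (tt N1310 F11991) (tt N1345 F11992) (tt N1869 F17238) (tt N1976 F17239))
theorem Q1978 : ∀ i, i < 1978 → P i := stepQ 1977 Q1977 (allL N1977 (tt N1301 F11993) (tt N3168 D10892) (tt N1300 (iv D8029)) (tt N3169 D10893) (tt N1346 F11994) (tt N3009 (iv F19056)) (tt N1989 (iv F17458)))
theorem Q1979 : ∀ i, i < 1979 → P i := stepQ 1978 Q1978 (allL N1978 (tt N3169 (iv F19349)) (tt N3149 (iv F19308)) (tt N3010 (iv F19058)) (tt N1301 (iv D8031)) (tt N3170 D10894) (tt N3171 D10895) (tt N3010 (iv F19057)))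
theorem Q1980 : ∀ i, i < 1980 → P i := stepQ 1979 Q1979 (allL N1979 (tt N3009 (iv F19054)) (tt N3172 D10896) (tt N1302 F11999) (tt N3171 (iv F19351)) (tt N1348 F12000) (tt N1301 (iv D8032)) (tt N3173 D10897))
theorem Q1981 : ∀ i, i < 1981 → P i := stepQ 1980 Q1980 (allL N1980 (tt N3174 D10898) (tt N1302 (iv D8033)) (tt N3175 D10899) (tt N1313 F12001) (tt N1349 F12002) (tt N1303 F12003) (tt N3174 (iv F19361)))
theorem Q1982 : ∀ i, i < 1982 → P i := stepQ 1981 Q1981 (allL N1981 (tt N1891 F12004) (tt N1974 (iv F16097)) (tt N3173 (iv F19354)) (tt N1312 F17035) (tt N1350 F12006) (tt N1311 F17036) (tt N1302 (iv D8034)))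
theorem Q1983 : ∀ i, i < 1983 → P i := stepQ 1982 Q1982 (allL N1982 (tt N1303 (iv D8035)) (tt N1973 (iv F17225)) (tt N3176 D10900) (tt N1314 F12008) (tt N1351 F12009) (tt N3174 (iv F19360)) (tt N1982 F16221))
theorem Q1984 : ∀ i, i < 1984 → P i := stepQ 1983 Q1983 (allL N1983 (tt N3176 (iv F19364)) (tt N3154 (iv F19317)) (tt N1303 (iv D8036)) (tt N3177 D10901) (tt N1352 F12010) (tt N3175 (iv F19363)) (tt N1983 F16222))
theorem Q1985 : ∀ i, i < 1985 → P i := stepQ 1984 Q1984 (allL N1984 (tt N1887 (iv F16326)) (tt N3178 D10902) (tt N1305 (iv D8046)) (tt N3179 D10903) (tt N1919 (iv F16327)) (tt N1969 F16325) (tt N3162 (iv F19333)))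
theorem Q1986 : ∀ i, i < 1986 → P i := stepQ 1985 Q1985 (allL N1985 (tt N1307 (iv D8051)) (tt N1990 F16082) (tt N3180 D10904) (tt N3163 (iv F19334)) (tt N1316 F12032) (tt N1307 (iv F17166)) (tt N1308 F12033))
theorem Q1987 : ∀ i, i < 1987 → P i := stepQ 1986 Q1986 (allL N1986 (tt N3180 (iv F19373)) (tt N1992 (iv F17219)) (tt N1307 (iv D8052)) (tt N3181 D10905) (tt N1317 F12034) (tt N3180 (iv F19375)) (tt N1309 F12035))
theorem Q1988 : ∀ i, i < 1988 → P i := stepQ 1987 Q1987 (allL N1987 (tt N1309 F12039) (tt N1991 (iv F17226)) (tt N1308 (iv D8056)) (tt N3182 D10906) (tt N1318 F12040) (tt N1987 F17227) (tt N3180 (iv F19376)))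
theorem Q1989 : ∀ i, i < 1989 → P i := stepQ 1988 Q1988 (allL N1988 (tt N3182 (iv F19378)) (tt N1988 F16089) (tt N3183 D10907) (tt N1309 (iv D8058)) (tt N2172 F32962) (tt N1988 F17242) (tt N3181 (iv F19377)))
theorem Q1990 : ∀ i, i < 1990 → P i := stepQ 1989 Q1989 (allL N1989 (tt N1890 (iv F17459)) (tt N3184 D10909) (tt N1311 (iv D8069)) (tt N3185 D10910) (tt N1923 (iv F17460)) (tt N3173 (iv F19356)) (tt N1977 F17458))
theorem Q1991 : ∀ i, i < 1991 → P i := stepQ 1990 Q1990 (allL N1990 (tt N1313 (iv D8074)) (tt N1985 (iv F16082)) (tt N3186 D10911) (tt N3174 (iv F19358)) (tt N1319 F12067) (tt N1314 F12068) (tt N1313 F15467))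
theorem Q1992 : ∀ i, i < 1992 → P i := stepQ 1991 Q1991 (allL N1991 (tt N3186 (iv F19389)) (tt N1987 F17226) (tt N1313 (iv D8075)) (tt N3187 D10912) (tt N1320 F12069) (tt N1315 F12070) (tt N3186 (iv F19392)))
theorem Q1993 : ∀ i, i < 1993 → P i := stepQ 1992 Q1992 (allL N1992 (tt N1315 F12074) (tt N1986 F17219) (tt N1314 (iv D8079)) (tt N3188 D10913) (tt N1321 F12075) (tt N3186 (iv F19391)) (tt N1992 F16214))
theorem Q1994 : ∀ i, i < 1994 → P i := stepQ 1993 Q1993 (allL N1993 (tt N3188 (iv F19395)) (tt N1993 F16087) (tt N3189 D10914) (tt N1315 (iv D8081)) (tt N2174 F32927) (tt N3187 (iv F19394)) (tt N1993 F16215))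
theorem Q1995 : ∀ i, i < 1995 → P i := stepQ 1994 Q1994 (allL N1994 (tt N1317 F12117) (tt N3190 D10916) (tt N1316 (iv D8115)) (tt N1687 F32904) (tt N3180 (iv F19374)) (tt N1317 (iv F17165)) (tt N1318 F12118))
theorem Q1996 : ∀ i, i < 1996 → P i := stepQ 1995 Q1995 (allL N1995 (tt N1320 F12174) (tt N3191 D10923) (tt N1319 (iv D8166)) (tt N1688 F32862) (tt N3186 (iv F19390)) (tt N1321 F12175) (tt N1320 F15466))
theorem Q1997 : ∀ i, i < 1997 → P i := stepQ 1996 Q1996 (allL N1996 (tt N1322 (iv D8187)) (tt N2946 (iv F18931)) (tt N1322 F19074) (tt N2946 (iv F18932)) (tt N3106 (iv F19235)) (tt N3192 D10930) (tt N3193 D10931))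
theorem Q1998 : ∀ i, i < 1998 → P i := stepQ 1997 Q1997 (allL N1997 (tt N3192 (iv F19434)) (tt N3194 D10932) (tt N3192 (iv F19435)) (tt N2948 (iv F18933)) (tt N3108 (iv F19239)) (tt N1322 (iv D8189)) (tt N3195 D10933))
theorem Q1999 : ∀ i, i < 1999 → P i := stepQ 1998 Q1998 (allL N1998 (tt N3193 (iv F19436)) (tt N3196 D10934) (tt N3193 (iv F19437)) (tt N2949 (iv F18934)) (tt N3109 (iv F19240)) (tt N3197 D10935) (tt N1322 (iv D8190)))
theorem Q2000 : ∀ i, i < 2000 → P i := stepQ 1999 Q1999 (allL N1999 (tt N3198 D10936) (tt N1323 (iv D8191)) (tt N3199 D10937) (tt N2950 (iv F18935)) (tt N3112 (iv F19247)) (tt N3194 (iv F19438)) (tt N3200 D10938))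
theorem Q2001 : ∀ i, i < 2001 → P i := stepQ 2000 Q2000 (allL N2000 (tt N3201 D10939) (tt N1324 (iv D8192)) (tt N3202 D10940) (tt N2951 (iv F18936)) (tt N3113 (iv F19248)) (tt N3203 D10941) (tt N3196 (iv F19440)))
theorem Q2002 : ∀ i, i < 2002 → P i := stepQ 2001 Q2001 (allL N2001 (tt N1325 (iv D8193)) (tt N3204 D10942) (tt N3205 D10943) (tt N2952 (iv F18938)) (tt N3120 (iv F19264)) (tt N1329 F12199) (tt N2015 (iv F12210)))
theorem Q2003 : ∀ i, i < 2003 → P i := stepQ 2002 Q2002 (allL N2002 (tt N3205 (iv F19444)) (tt N3033 (iv F19098)) (tt N1325 (iv D8194)) (tt N3206 D10944) (tt N3121 (iv F19266)) (tt N1330 F12200) (tt N3207 D10945))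
theorem Q2004 : ∀ i, i < 2004 → P i := stepQ 2003 Q2003 (allL N2003 (tt N2015 (iv F12209)) (tt N3208 D10946) (tt N3207 (iv F19447)) (tt N2953 (iv F18941)) (tt N3122 (iv F19268)) (tt N2011 (iv F12205)) (tt N1325 (iv D8195)))
theorem Q2005 : ∀ i, i < 2005 → P i := stepQ 2004 Q2004 (allL N2004 (tt N3209 D10947) (tt N1326 (iv D8196)) (tt N3210 D10948) (tt N2954 (iv F18942)) (tt N3123 (iv F19269)) (tt N3211 D10949) (tt N3208 (iv F19448)))
theorem Q2006 : ∀ i, i < 2006 → P i := stepQ 2005 Q2005 (allL N2005 (tt N1327 (iv D8197)) (tt N3212 D10950) (tt N3213 D10951) (tt N2955 (iv F18944)) (tt N3124 (iv F19270)) (tt N2025 (iv F12221)) (tt N1333 F12201))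
theorem Q2007 : ∀ i, i < 2007 → P i := stepQ 2006 Q2006 (allL N2006 (tt N3213 (iv F19450)) (tt N3037 (iv F19101)) (tt N1327 (iv D8198)) (tt N3214 D10952) (tt N3125 (iv F19272)) (tt N3215 D10953) (tt N1334 F12202))
theorem Q2008 : ∀ i, i < 2008 → P i := stepQ 2007 Q2007 (allL N2007 (tt N2025 (iv F12220)) (tt N3216 D10954) (tt N3215 (iv F19453)) (tt N2956 (iv F18947)) (tt N3126 (iv F19274)) (tt N1327 (iv D8199)) (tt N2021 (iv F12215)))
theorem Q2009 : ∀ i, i < 2009 → P i := stepQ 2008 Q2008 (allL N2008 (tt N3217 D10955) (tt N1328 (iv D8200)) (tt N3218 D10956) (tt N2957 (iv F18948)) (tt N3127 (iv F19275)) (tt N3216 (iv F19454)) (tt N3219 D10957))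
theorem Q2010 : ∀ i, i < 2010 → P i := stepQ 2009 Q2009 (allL N2009 (tt N3220 D10958) (tt N1329 (iv D8201)) (tt N3221 D10959) (tt N2958 (iv F18949)) (tt N3136 (iv F19283)) (tt N3222 D10960) (tt N3223 D10961))
theorem Q2011 : ∀ i, i < 2011 → P i := stepQ 2010 Q2010 (allL N2010 (tt N1330 F12203) (tt N3224 D10962) (tt N1329 (iv D8202)) (tt N3225 D10963) (tt N3137 (iv F19285)) (tt N3205 (iv F19445)) (tt N3226 D10964))
theorem Q2012 : ∀ i, i < 2012 → P i := stepQ 2011 Q2011 (allL N2011 (tt N1331 F12204) (tt N3227 D10965) (tt N3226 (iv F19459)) (tt N2959 (iv F18952)) (tt N3138 (iv F19287)) (tt N2003 F12205) (tt N1329 (iv D8203)))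
theorem Q2013 : ∀ i, i < 2013 → P i := stepQ 2012 Q2012 (allL N2012 (tt N3225 (iv F19456)) (tt N1339 F12206) (tt N3225 (iv F19457)) (tt N1330 (iv D8204)) (tt N3228 D10966) (tt N3206 (iv F19446)) (tt N3229 D10967))
theorem Q2014 : ∀ i, i < 2014 → P i := stepQ 2013 Q2013 (allL N2013 (tt N3226 (iv F19458)) (tt N3230 D10968) (tt N1331 F12207) (tt N3229 (iv F19462)) (tt N3140 (iv F19291)) (tt N3231 D10969) (tt N1330 (iv D8205)))
theorem Q2015 : ∀ i, i < 2015 → P i := stepQ 2014 Q2014 (allL N2014 (tt N3232 D10970) (tt N1331 (iv D8206)) (tt N3233 D10971) (tt N2028 (iv F12225)) (tt N3141 (iv F19292)) (tt N3234 D10972) (tt N1332 F12208))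
theorem Q2016 : ∀ i, i < 2016 → P i := stepQ 2015 Q2015 (allL N2015 (tt N2003 F12209) (tt N3235 D10973) (tt N3231 (iv F19465)) (tt N2960 (iv F18956)) (tt N3142 (iv F19295)) (tt N1331 (iv D8207)) (tt N2001 F12210))
theorem Q2017 : ∀ i, i < 2017 → P i := stepQ 2016 Q2016 (allL N2016 (tt N1332 (iv D8208)) (tt N3236 D10974) (tt N3237 D10975) (tt N2026 (iv F12222)) (tt N3143 (iv F19297)) (tt N3238 D10976) (tt N3232 (iv F19467)))
theorem Q2018 : ∀ i, i < 2018 → P i := stepQ 2017 Q2017 (allL N2017 (tt N3237 (iv F19469)) (tt N1344 F12211) (tt N1332 (iv D8209)) (tt N3239 D10977) (tt N3144 (iv F19299)) (tt N3240 D10978) (tt N3233 (iv F19468)))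
theorem Q2019 : ∀ i, i < 2019 → P i := stepQ 2018 Q2018 (allL N2018 (tt N3238 (iv F19470)) (tt N1864 F12212) (tt N3240 (iv F19474)) (tt N2024 (iv F12218)) (tt N3145 (iv F19301)) (tt N1332 (iv D8210)) (tt N3241 D10979))
theorem Q2020 : ∀ i, i < 2020 → P i := stepQ 2019 Q2019 (allL N2019 (tt N3242 D10980) (tt N1333 (iv D8211)) (tt N3243 D10981) (tt N2961 (iv F18958)) (tt N3146 (iv F19302)) (tt N3244 D10982) (tt N3245 D10983))
theorem Q2021 : ∀ i, i < 2021 → P i := stepQ 2020 Q2020 (allL N2020 (tt N1334 F12213) (tt N3246 D10984) (tt N1333 (iv D8212)) (tt N3247 D10985) (tt N3147 (iv F19304)) (tt N3248 D10986) (tt N3213 (iv F19451)))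
theorem Q2022 : ∀ i, i < 2022 → P i := stepQ 2021 Q2021 (allL N2021 (tt N1335 F12214) (tt N3249 D10987) (tt N3248 (iv F19480)) (tt N2962 (iv F18961)) (tt N3148 (iv F19306)) (tt N1333 (iv D8213)) (tt N2007 F12215))
theorem Q2023 : ∀ i, i < 2023 → P i := stepQ 2022 Q2022 (allL N2022 (tt N3247 (iv F19477)) (tt N1347 F12216) (tt N3247 (iv F19478)) (tt N1334 (iv D8214)) (tt N3250 D10988) (tt N3251 D10989) (tt N3214 (iv F19452)))
theorem Q2024 : ∀ i, i < 2024 → P i := stepQ 2023 Q2023 (allL N2023 (tt N3248 (iv F19479)) (tt N3252 D10990) (tt N1335 F12217) (tt N3251 (iv F19483)) (tt N3150 (iv F19310)) (tt N1334 (iv D8215)) (tt N3253 D10991))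
theorem Q2025 : ∀ i, i < 2025 → P i := stepQ 2024 Q2024 (allL N2024 (tt N3254 D10992) (tt N1335 (iv D8216)) (tt N3255 D10993) (tt N2018 F12218) (tt N3151 (iv F19311)) (tt N1336 F12219) (tt N3256 D10994))
theorem Q2026 : ∀ i, i < 2026 → P i := stepQ 2025 Q2025 (allL N2025 (tt N2007 F12220) (tt N3257 D10995) (tt N3253 (iv F19486)) (tt N2963 (iv F18965)) (tt N3152 (iv F19314)) (tt N2005 F12221) (tt N1335 (iv D8217)))
theorem Q2027 : ∀ i, i < 2027 → P i := stepQ 2026 Q2026 (allL N2026 (tt N1336 (iv D8218)) (tt N3258 D10996) (tt N3259 D10997) (tt N2016 F12222) (tt N3153 (iv F19316)) (tt N3254 (iv F19489)) (tt N3260 D10998))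
theorem Q2028 : ∀ i, i < 2028 → P i := stepQ 2027 Q2027 (allL N2027 (tt N3259 (iv F19493)) (tt N1352 F12223) (tt N1336 (iv D8219)) (tt N3261 D10999) (tt N3154 (iv F19318)) (tt N3255 (iv F19490)) (tt N3262 D11000))
theorem Q2029 : ∀ i, i < 2029 → P i := stepQ 2028 Q2028 (allL N2028 (tt N3260 (iv F19494)) (tt N1862 F12224) (tt N3262 (iv F19499)) (tt N2014 F12225) (tt N3155 (iv F19320)) (tt N3263 D11001) (tt N1336 (iv D8220)))
theorem Q2030 : ∀ i, i < 2030 → P i := stepQ 2029 Q2029 (allL N2029 (tt N2029 F16209) (tt N3264 D11002) (tt N1337 (iv D8222)) (tt N3265 D11003) (tt N3156 (iv F19322)) (tt N2029 F16229) (tt N1875 (iv F17230)))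
theorem Q2031 : ∀ i, i < 2031 → P i := stepQ 2030 Q2030 (allL N2030 (tt N3266 D11004) (tt N1338 (iv D8225)) (tt N3264 (iv F19503)) (tt N3267 D11005) (tt N3157 (iv F19325)) (tt N3268 D11006) (tt N3269 D11007))
theorem Q2032 : ∀ i, i < 2032 → P i := stepQ 2031 Q2031 (allL N2031 (tt N1339 F12229) (tt N3267 (iv F19508)) (tt N2056 (iv F12310)) (tt N1338 (iv D8226)) (tt N3270 D11008) (tt N3073 (iv F19142)) (tt N3085 (iv F19158)))
theorem Q2033 : ∀ i, i < 2033 → P i := stepQ 2032 Q2032 (allL N2032 (tt N2056 (iv F12309)) (tt N3271 D11009) (tt N1339 (iv D8229)) (tt N2053 (iv F12297)) (tt N3272 D11010) (tt N3074 (iv F19143)) (tt N3273 D11011))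
theorem Q2034 : ∀ i, i < 2034 → P i := stepQ 2033 Q2033 (allL N2033 (tt N3270 (iv F19509)) (tt N3228 (iv F19461)) (tt N3272 (iv F19510)) (tt N3159 (iv F19327)) (tt N1339 (iv D8230)) (tt N3075 (iv F19144)) (tt N3274 D11012))
theorem Q2035 : ∀ i, i < 2035 → P i := stepQ 2034 Q2034 (allL N2034 (tt N3085 (iv F19156)) (tt N3275 D11013) (tt N3273 (iv F19511)) (tt N1340 F12234) (tt N3274 (iv F19513)) (tt N3276 D11014) (tt N1339 (iv D8231)))
theorem Q2036 : ∀ i, i < 2036 → P i := stepQ 2035 Q2035 (allL N2035 (tt N3277 D11015) (tt N1340 (iv D8232)) (tt N3278 D11016) (tt N3275 (iv F19514)) (tt N3161 (iv F19329)) (tt N3279 D11017) (tt N3230 (iv F19463)))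
theorem Q2037 : ∀ i, i < 2037 → P i := stepQ 2036 Q2036 (allL N2036 (tt N1921 F12235) (tt N3280 D11018) (tt N1342 F12236) (tt N3276 (iv F19516)) (tt N3162 (iv F19332)) (tt N1340 (iv D8233)) (tt N1919 F12237))
theorem Q2038 : ∀ i, i < 2038 → P i := stepQ 2037 Q2037 (allL N2037 (tt N1341 (iv D8234)) (tt N2049 F16079) (tt N3281 D11019) (tt N1359 F12238) (tt N3163 (iv F19335)) (tt N1341 (iv F17162)) (tt N1343 F12239))
theorem Q2039 : ∀ i, i < 2039 → P i := stepQ 2038 Q2038 (allL N2038 (tt N3281 (iv F19519)) (tt N3278 (iv F19518)) (tt N1341 (iv D8235)) (tt N3282 D11020) (tt N3164 (iv F19338)) (tt N3281 (iv F19520)) (tt N1344 F12240))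
theorem Q2040 : ∀ i, i < 2040 → P i := stepQ 2039 Q2039 (allL N2039 (tt N1344 F12244) (tt N3283 D11021) (tt N1343 (iv D8239)) (tt N3284 D11022) (tt N3165 (iv F19341)) (tt N2039 F17250) (tt N3281 (iv F19521)))
theorem Q2041 : ∀ i, i < 2041 → P i := stepQ 2040 Q2040 (allL N2040 (tt N3284 (iv F19523)) (tt N3239 (iv F19472)) (tt N3285 D11023) (tt N1344 (iv D8241)) (tt N3286 D11024) (tt N2040 F17251) (tt N3282 (iv F19522)))
theorem Q2042 : ∀ i, i < 2042 → P i := stepQ 2041 Q2041 (allL N2041 (tt N2041 F17257) (tt N3287 D11025) (tt N1345 (iv D8245)) (tt N3288 D11026) (tt N3167 (iv F19345)) (tt N1876 (iv F17255)) (tt N2041 F17254))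
theorem Q2043 : ∀ i, i < 2043 → P i := stepQ 2042 Q2042 (allL N2042 (tt N3289 D11027) (tt N1346 (iv D8248)) (tt N3287 (iv F19527)) (tt N3290 D11028) (tt N3168 (iv F19348)) (tt N3291 D11029) (tt N3292 D11030))
theorem Q2044 : ∀ i, i < 2044 → P i := stepQ 2043 Q2043 (allL N2043 (tt N1347 F12255) (tt N3290 (iv F19532)) (tt N2072 (iv F12391)) (tt N1346 (iv D8249)) (tt N3293 D11031) (tt N3078 (iv F19147)) (tt N3080 (iv F19150)))
theorem Q2045 : ∀ i, i < 2045 → P i := stepQ 2044 Q2044 (allL N2044 (tt N2072 (iv F12390)) (tt N3294 D11032) (tt N1347 (iv D8252)) (tt N2069 (iv F12380)) (tt N3295 D11033) (tt N3296 D11034) (tt N3081 (iv F19151)))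
theorem Q2046 : ∀ i, i < 2046 → P i := stepQ 2045 Q2045 (allL N2045 (tt N3293 (iv F19533)) (tt N3250 (iv F19482)) (tt N3295 (iv F19534)) (tt N3170 (iv F19350)) (tt N1347 (iv D8253)) (tt N3297 D11035) (tt N3082 (iv F19152)))
theorem Q2047 : ∀ i, i < 2047 → P i := stepQ 2046 Q2046 (allL N2046 (tt N3078 (iv F19146)) (tt N3298 D11036) (tt N3296 (iv F19535)) (tt N1348 F12260) (tt N3297 (iv F19537)) (tt N1347 (iv D8254)) (tt N3299 D11037))
theorem Q2048 : ∀ i, i < 2048 → P i := stepQ 2047 Q2047 (allL N2047 (tt N3300 D11038) (tt N1348 (iv D8255)) (tt N3301 D11039) (tt N3298 (iv F19538)) (tt N3172 (iv F19352)) (tt N3252 (iv F19484)) (tt N3302 D11040))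
theorem Q2049 : ∀ i, i < 2049 → P i := stepQ 2048 Q2048 (allL N2048 (tt N1925 F12261) (tt N3303 D11041) (tt N1350 F12262) (tt N3299 (iv F19540)) (tt N3173 (iv F19355)) (tt N1923 F12263) (tt N1348 (iv D8256)))
theorem Q2050 : ∀ i, i < 2050 → P i := stepQ 2049 Q2049 (allL N2049 (tt N1349 (iv D8257)) (tt N2037 (iv F16079)) (tt N3304 D11042) (tt N1369 F12264) (tt N3174 (iv F19359)) (tt N1351 F12265) (tt N1349 F15465))
theorem Q2051 : ∀ i, i < 2051 → P i := stepQ 2050 Q2050 (allL N2050 (tt N3304 (iv F19544)) (tt N3301 (iv F19542)) (tt N1349 (iv D8258)) (tt N3305 D11043) (tt N3175 (iv F19362)) (tt N1352 F12266) (tt N3304 (iv F19546)))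
theorem Q2052 : ∀ i, i < 2052 → P i := stepQ 2051 Q2051 (allL N2051 (tt N1352 F12270) (tt N3306 D11044) (tt N1351 (iv D8262)) (tt N3307 D11045) (tt N3176 (iv F19365)) (tt N3304 (iv F19545)) (tt N2051 F16223))
theorem Q2053 : ∀ i, i < 2053 → P i := stepQ 2052 Q2052 (allL N2052 (tt N3307 (iv F19549)) (tt N3261 (iv F19497)) (tt N3308 D11046) (tt N1352 (iv D8264)) (tt N3309 D11047) (tt N3305 (iv F19547)) (tt N2052 F16224))
theorem Q2054 : ∀ i, i < 2054 → P i := stepQ 2053 Q2053 (allL N2053 (tt N1354 F12296) (tt N3310 D11048) (tt N1353 (iv D8275)) (tt N2032 F12297) (tt N3311 D11049) (tt N3088 (iv F19167)) (tt N3104 (iv F19213)))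
theorem Q2055 : ∀ i, i < 2055 → P i := stepQ 2054 Q2054 (allL N2054 (tt N1355 F12298) (tt N2054 F16310) (tt N3311 (iv F19556)) (tt N1373 F12299) (tt N1353 (iv D8276)) (tt N3089 (iv F19171)) (tt N3105 (iv F19218)))
theorem Q2056 : ∀ i, i < 2056 → P i := stepQ 2055 Q2055 (allL N2055 (tt N3312 D11050) (tt N1354 (iv D8282)) (tt N1385 F12308) (tt N3313 D11051) (tt N3314 D11052) (tt N3315 D11053) (tt N3316 D11054))
theorem Q2057 : ∀ i, i < 2057 → P i := stepQ 2056 Q2056 (allL N2056 (tt N2032 F12309) (tt N3313 (iv F19558)) (tt N2031 F12310) (tt N1354 (iv D8283)) (tt N3317 D11055) (tt N3091 (iv F19175)) (tt N3318 D11056))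
theorem Q2058 : ∀ i, i < 2058 → P i := stepQ 2057 Q2057 (allL N2057 (tt N3311 (iv F19555)) (tt N3314 (iv F19559)) (tt N1355 F12311) (tt N3319 D11057) (tt N1354 (iv D8284)) (tt N3092 (iv F19177)) (tt N3320 D11058))
theorem Q2059 : ∀ i, i < 2059 → P i := stepQ 2058 Q2058 (allL N2058 (tt N3104 (iv F19211)) (tt N3321 D11059) (tt N1356 F12312) (tt N3318 (iv F19567)) (tt N3320 (iv F19569)) (tt N3322 D11060) (tt N1354 (iv D8285)))
theorem Q2060 : ∀ i, i < 2060 → P i := stepQ 2059 Q2059 (allL N2059 (tt N3105 (iv F19214)) (tt N3323 D11061) (tt N3320 (iv F19568)) (tt N1374 F12313) (tt N1356 F12314) (tt N3324 D11062) (tt N1355 (iv D8286)))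
theorem Q2061 : ∀ i, i < 2061 → P i := stepQ 2060 Q2060 (allL N2060 (tt N3325 D11063) (tt N1356 (iv D8287)) (tt N3326 D11064) (tt N1357 F12315) (tt N3323 (iv F19574)) (tt N3323 (iv F32578)) (tt N1389 F12316))
theorem Q2062 : ∀ i, i < 2062 → P i := stepQ 2061 Q2061 (allL N2061 (tt N1931 F12317) (tt N3324 F32593) (tt N3322 (iv F19571)) (tt N1358 F12318) (tt N3324 (iv F19578)) (tt N1356 (iv D8288)) (tt N1928 F12319))
theorem Q2063 : ∀ i, i < 2063 → P i := stepQ 2062 Q2062 (allL N2062 (tt N1357 (iv D8289)) (tt N1606 F32659) (tt N1404 (iv F32727)) (tt N3325 (iv F19580)) (tt N1377 F12320) (tt N1588 F12322) (tt N1390 F12321))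
theorem Q2064 : ∀ i, i < 2064 → P i := stepQ 2063 Q2063 (allL N2063 (tt N1588 F12323) (tt N1374 F32652) (tt N1605 (iv F15877)) (tt N3323 F32653) (tt N1375 (iv F32719)) (tt N1357 (iv D8290)) (tt N1403 F32654))
theorem Q2065 : ∀ i, i < 2065 → P i := stepQ 2064 Q2064 (allL N2064 (tt N1829 F17415) (tt N1358 (iv D8291)) (tt N1944 (iv F32587)) (tt N3324 F32583) (tt N1376 (iv F32668)) (tt N1374 F32584) (tt N1940 F32585))
theorem Q2066 : ∀ i, i < 2066 → P i := stepQ 2065 Q2065 (allL N2065 (tt N2858 F32819) (tt N2108 (iv F12762)) (tt N3327 D11069) (tt N1360 (iv D8294)) (tt N2855 F32820) (tt N2858 F32821) (tt N1362 F12330))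
theorem Q2067 : ∀ i, i < 2067 → P i := stepQ 2066 Q2066 (allL N2066 (tt N1362 F12344) (tt N3095 (iv F32884)) (tt N3328 D11073) (tt N1361 (iv D8305)) (tt N1475 F32855) (tt N2066 F17449) (tt N2858 F32856))
theorem Q2068 : ∀ i, i < 2068 → P i := stepQ 2067 Q2067 (allL N2067 (tt N3328 (iv F19602)) (tt N3329 D11075) (tt N1362 (iv D8308)) (tt N3330 D11076) (tt N3331 D11077) (tt N2067 F17455) (tt N3327 (iv F19595)))
theorem Q2069 : ∀ i, i < 2069 → P i := stepQ 2068 Q2068 (allL N2068 (tt N1475 F32853) (tt N1393 F12350) (tt N3331 (iv F19612)) (tt N1378 F12351) (tt N1362 (iv D8309)) (tt N2068 F17456) (tt N2855 F32854))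
theorem Q2070 : ∀ i, i < 2070 → P i := stepQ 2069 Q2069 (allL N2069 (tt N1364 F12379) (tt N3332 D11078) (tt N1363 (iv D8321)) (tt N2044 F12380) (tt N3333 D11079) (tt N3094 (iv F19182)) (tt N3098 (iv F19195)))
theorem Q2071 : ∀ i, i < 2071 → P i := stepQ 2070 Q2070 (allL N2070 (tt N1365 F12381) (tt N2070 F17454) (tt N3333 (iv F19617)) (tt N1379 F12382) (tt N1363 (iv D8322)) (tt N3095 (iv F19186)) (tt N3099 (iv F19199)))
theorem Q2072 : ∀ i, i < 2072 → P i := stepQ 2071 Q2071 (allL N2071 (tt N3334 D11080) (tt N1364 (iv D8325)) (tt N1394 F12389) (tt N3335 D11081) (tt N3336 D11082) (tt N3337 D11083) (tt N3338 D11084))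
theorem Q2073 : ∀ i, i < 2073 → P i := stepQ 2072 Q2072 (allL N2072 (tt N2044 F12390) (tt N3335 (iv F19619)) (tt N2043 F12391) (tt N1364 (iv D8326)) (tt N3339 D11085) (tt N3340 D11086) (tt N3101 (iv F19203)))
theorem Q2074 : ∀ i, i < 2074 → P i := stepQ 2073 Q2073 (allL N2073 (tt N3333 (iv F19616)) (tt N3336 (iv F19620)) (tt N1365 F12392) (tt N3341 D11087) (tt N1364 (iv D8327)) (tt N3342 D11088) (tt N3102 (iv F19205)))
theorem Q2075 : ∀ i, i < 2075 → P i := stepQ 2074 Q2074 (allL N2074 (tt N3094 (iv F19181)) (tt N3343 D11089) (tt N1366 F12393) (tt N3340 (iv F19628)) (tt N3342 (iv F19630)) (tt N1364 (iv D8328)) (tt N3344 D11090))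
theorem Q2076 : ∀ i, i < 2076 → P i := stepQ 2075 Q2075 (allL N2075 (tt N3095 (iv F19183)) (tt N3345 D11091) (tt N3342 (iv F19629)) (tt N1380 F12394) (tt N1366 F12395) (tt N1365 (iv D8329)) (tt N3346 D11092))
theorem Q2077 : ∀ i, i < 2077 → P i := stepQ 2076 Q2076 (allL N2076 (tt N3347 D11093) (tt N1366 (iv D8330)) (tt N3348 D11094) (tt N1367 F12396) (tt N3345 (iv F19635)) (tt N1398 F12397) (tt N3345 (iv F32818)))
theorem Q2078 : ∀ i, i < 2078 → P i := stepQ 2077 Q2077 (allL N2077 (tt N1937 F12398) (tt N3346 (iv F32879)) (tt N3344 (iv F19632)) (tt N1368 F12399) (tt N3346 (iv F19639)) (tt N1934 F12400) (tt N1366 (iv D8331)))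
theorem Q2079 : ∀ i, i < 2079 → P i := stepQ 2078 Q2078 (allL N2078 (tt N1367 (iv D8332)) (tt N1607 F32655) (tt N1403 F32656) (tt N3347 (iv F19641)) (tt N1383 F12401) (tt N1399 F12402) (tt N1605 (iv F15879)))
theorem Q2080 : ∀ i, i < 2080 → P i := stepQ 2079 Q2079 (allL N2079 (tt N1605 (iv F15876)) (tt N1380 (iv F32824)) (tt N1588 F12403) (tt N3345 (iv F32817)) (tt N1381 (iv F32803)) (tt N1404 F32764) (tt N1367 (iv D8333)))
theorem Q2081 : ∀ i, i < 2081 → P i := stepQ 2080 Q2080 (allL N2080 (tt N1840 (iv F15905)) (tt N1368 (iv D8334)) (tt N1941 (iv F32832)) (tt N3346 (iv F32880)) (tt N1382 (iv F32866)) (tt N1943 (iv F32881)) (tt N1380 F32828))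
theorem Q2082 : ∀ i, i < 2082 → P i := stepQ 2081 Q2081 (allL N2081 (tt N2876 (iv F32595)) (tt N2095 (iv F12718)) (tt N3349 D11099) (tt N1370 (iv D8337)) (tt N2873 (iv F32573)) (tt N1372 F12410) (tt N2876 (iv F32598)))
theorem Q2083 : ∀ i, i < 2083 → P i := stepQ 2082 Q2082 (allL N2082 (tt N1372 F12426) (tt N3105 F32562) (tt N3350 D11103) (tt N1371 (iv D8348)) (tt N1478 (iv F32572)) (tt N2876 (iv F32597)) (tt N2082 F16312))
theorem Q2084 : ∀ i, i < 2084 → P i := stepQ 2083 Q2083 (allL N2083 (tt N3350 (iv F19667)) (tt N3351 D11105) (tt N1372 (iv D8351)) (tt N3352 D11106) (tt N3353 D11107) (tt N3349 (iv F19658)) (tt N2083 F16314))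
theorem Q2085 : ∀ i, i < 2085 → P i := stepQ 2084 Q2084 (allL N2084 (tt N1478 (iv F32571)) (tt N1402 F12432) (tt N3353 (iv F19677)) (tt N1384 F12433) (tt N1372 (iv D8352)) (tt N2873 (iv F32574)) (tt N2084 F16315))
theorem Q2086 : ∀ i, i < 2086 → P i := stepQ 2085 Q2085 (allL N2085 (tt N1385 (iv D8518)) (tt N3354 D11136) (tt N3312 (iv F19557)) (tt N2483 (iv F17651)) (tt N3355 D11137) (tt N3356 D11138) (tt N3357 D11139))
theorem Q2087 : ∀ i, i < 2087 → P i := stepQ 2086 Q2086 (allL N2086 (tt N3355 (iv F19754)) (tt N1386 F12710) (tt N3314 (iv F19560)) (tt N3358 D11140) (tt N1385 (iv D8519)) (tt N3359 D11141) (tt N3360 D11142))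
theorem Q2088 : ∀ i, i < 2088 → P i := stepQ 2087 Q2087 (allL N2087 (tt N3356 (iv F19755)) (tt N1576 F12711) (tt N3315 (iv F19561)) (tt N2484 (iv F17653)) (tt N3359 (iv F19759)) (tt N1385 (iv D8520)) (tt N3361 D11143))
theorem Q2089 : ∀ i, i < 2089 → P i := stepQ 2088 Q2088 (allL N2088 (tt N3357 (iv F19756)) (tt N3362 D11144) (tt N3316 (iv F19562)) (tt N2485 (iv F17654)) (tt N3360 (iv F19760)) (tt N3363 D11145) (tt N1385 (iv D8521)))
theorem Q2090 : ∀ i, i < 2090 → P i := stepQ 2089 Q2089 (allL N2089 (tt N2433 (iv F17545)) (tt N3358 (iv F19757)) (tt N2422 (iv F17534)) (tt N1386 (iv D8522)) (tt N2433 (iv F17547)) (tt N1578 F12712) (tt N3364 D11146))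
theorem Q2091 : ∀ i, i < 2091 → P i := stepQ 2090 Q2090 (allL N2090 (tt N2436 (iv F17551)) (tt N3365 D11147) (tt N1388 F12713) (tt N3364 (iv F19765)) (tt N1387 F12714) (tt N2110 (iv F12776)) (tt N1386 (iv D8523)))
theorem Q2092 : ∀ i, i < 2092 → P i := stepQ 2091 Q2091 (allL N2091 (tt N3366 D11148) (tt N1387 (iv D8524)) (tt N3367 D11149) (tt N2440 (iv F17556)) (tt N3365 (iv F19766)) (tt N3368 D11150) (tt N3362 (iv F19762)))
theorem Q2093 : ∀ i, i < 2093 → P i := stepQ 2092 Q2092 (allL N2092 (tt N2095 (iv F32560)) (tt N1388 (iv D8525)) (tt N3369 D11152) (tt N1403 F12715) (tt N1389 F12716) (tt N2093 (iv F32559)) (tt N3323 (iv F19575)))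
theorem Q2094 : ∀ i, i < 2094 → P i := stepQ 2093 Q2093 (allL N2093 (tt N1389 (iv D8526)) (tt N2873 (iv F18233)) (tt N3370 D11154) (tt N1390 F12717) (tt N2095 (iv F32561)) (tt N2092 F32559) (tt N3325 (iv F19581)))
theorem Q2095 : ∀ i, i < 2095 → P i := stepQ 2094 Q2094 (allL N2094 (tt N3370 (iv F19774)) (tt N3367 (iv F19767)) (tt N1389 (iv D8527)) (tt N3371 D11156) (tt N3369 (iv F19770)) (tt N3372 D11157) (tt N3326 (iv F19583)))
theorem Q2096 : ∀ i, i < 2096 → P i := stepQ 2095 Q2095 (allL N2095 (tt N2092 F32560) (tt N2081 F12718) (tt N3372 (iv F19778)) (tt N1391 F12719) (tt N2093 F32561) (tt N1389 (iv D8528)) (tt N2443 (iv F17565)))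
theorem Q2097 : ∀ i, i < 2097 → P i := stepQ 2096 Q2096 (allL N2096 (tt N3373 D11158) (tt N1392 (iv D8531)) (tt N3329 (iv F19608)) (tt N1597 F12725) (tt N3374 D11159) (tt N3375 D11160) (tt N3376 D11161))
theorem Q2098 : ∀ i, i < 2098 → P i := stepQ 2097 Q2097 (allL N2097 (tt N1596 F12726) (tt N3374 (iv F19780)) (tt N1393 F12727) (tt N3377 D11162) (tt N1392 (iv D8532)) (tt N1590 F12728) (tt N2103 (iv F12758)))
theorem Q2099 : ∀ i, i < 2099 → P i := stepQ 2098 Q2098 (allL N2098 (tt N1394 (iv D8545)) (tt N3378 D11163) (tt N3334 (iv F19618)) (tt N2491 (iv F17670)) (tt N3379 D11164) (tt N3380 D11165) (tt N3381 D11166))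
theorem Q2100 : ∀ i, i < 2100 → P i := stepQ 2099 Q2099 (allL N2099 (tt N3379 (iv F19787)) (tt N1395 F12753) (tt N3336 (iv F19621)) (tt N3382 D11167) (tt N1394 (iv D8546)) (tt N3383 D11168) (tt N3384 D11169))
theorem Q2101 : ∀ i, i < 2101 → P i := stepQ 2100 Q2100 (allL N2100 (tt N3380 (iv F19788)) (tt N3385 D11170) (tt N3337 (iv F19622)) (tt N2492 (iv F17671)) (tt N3383 (iv F19791)) (tt N1394 (iv D8547)) (tt N3386 D11171))
theorem Q2102 : ∀ i, i < 2102 → P i := stepQ 2101 Q2101 (allL N2101 (tt N3381 (iv F19789)) (tt N1594 F12754) (tt N3338 (iv F19623)) (tt N2493 (iv F17673)) (tt N3384 (iv F19793)) (tt N3387 D11172) (tt N1394 (iv D8548)))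
theorem Q2103 : ∀ i, i < 2103 → P i := stepQ 2102 Q2102 (allL N2102 (tt N2463 (iv F17592)) (tt N3382 (iv F19790)) (tt N2452 (iv F17581)) (tt N1395 (iv D8549)) (tt N2463 (iv F17594)) (tt N3388 D11173) (tt N1595 F12755))
theorem Q2104 : ∀ i, i < 2104 → P i := stepQ 2103 Q2103 (allL N2103 (tt N2466 (iv F17598)) (tt N3389 D11174) (tt N1397 F12756) (tt N3388 (iv F19799)) (tt N1396 F12757) (tt N1395 (iv D8550)) (tt N2097 F12758))
theorem Q2105 : ∀ i, i < 2105 → P i := stepQ 2104 Q2104 (allL N2104 (tt N3390 D11175) (tt N1396 (iv D8551)) (tt N3391 D11176) (tt N2470 (iv F17603)) (tt N3389 (iv F19801)) (tt N3385 (iv F19794)) (tt N3392 D11177))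
theorem Q2106 : ∀ i, i < 2106 → P i := stepQ 2105 Q2105 (allL N2105 (tt N2108 (iv F32762)) (tt N1397 (iv D8552)) (tt N3393 D11179) (tt N1404 F12759) (tt N1398 F12760) (tt N3345 (iv F19636)) (tt N2106 F32761))
theorem Q2107 : ∀ i, i < 2107 → P i := stepQ 2106 Q2106 (allL N2106 (tt N1398 (iv D8553)) (tt N2855 (iv F18189)) (tt N3394 D11181) (tt N1399 F12761) (tt N2108 (iv F32763)) (tt N3347 (iv F19642)) (tt N2105 (iv F32761)))
theorem Q2108 : ∀ i, i < 2108 → P i := stepQ 2107 Q2107 (allL N2107 (tt N3394 (iv F19810)) (tt N3391 (iv F19802)) (tt N1398 (iv D8554)) (tt N3395 D11183) (tt N3393 (iv F19806)) (tt N3348 (iv F19644)) (tt N3396 D11184))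
theorem Q2109 : ∀ i, i < 2109 → P i := stepQ 2108 Q2108 (allL N2108 (tt N2105 F32762) (tt N2065 F12762) (tt N3396 (iv F19814)) (tt N1400 F12763) (tt N2106 F32763) (tt N2473 F17612) (tt N1398 (iv D8555)))
theorem Q2110 : ∀ i, i < 2110 → P i := stepQ 2109 Q2109 (allL N2109 (tt N3397 D11185) (tt N1401 (iv D8559)) (tt N3351 (iv F19673)) (tt N1580 F12773) (tt N3398 D11186) (tt N3399 D11187) (tt N3400 D11188))
theorem Q2111 : ∀ i, i < 2111 → P i := stepQ 2110 Q2110 (allL N2110 (tt N1579 F12774) (tt N3398 (iv F19816)) (tt N1402 F12775) (tt N3401 D11189) (tt N1401 (iv D8560)) (tt N2090 F12776) (tt N1573 F12777))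
theorem Q2112 : ∀ i, i < 2112 → P i := stepQ 2111 Q2111 (allL N2111 (tt N3402 D11194) (tt N1405 (iv D8746)) (tt N1408 F13054) (tt N1841 (iv F16011)) (tt N1406 F13055) (tt N3403 D11195) (tt N3404 D11196))
theorem Q2113 : ∀ i, i < 2113 → P i := stepQ 2112 Q2112 (allL N2112 (tt N1406 (iv D8767)) (tt N1689 (iv F16051)) (tt N1412 F13094) (tt N3405 D11197) (tt N3402 (iv F19843)) (tt N3406 D11198) (tt N3407 D11199))
theorem Q2114 : ∀ i, i < 2114 → P i := stepQ 2113 Q2113 (allL N2113 (tt N3405 (iv F19853)) (tt N1407 F13095) (tt N3408 D11200) (tt N1406 (iv D8768)) (tt N1843 F16013) (tt N3409 D11201) (tt N3410 D11202))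
theorem Q2115 : ∀ i, i < 2115 → P i := stepQ 2114 Q2114 (allL N2114 (tt N3406 (iv F19856)) (tt N2114 F16194) (tt N1414 F13096) (tt N3409 (iv F19863)) (tt N3403 (iv F19848)) (tt N1406 (iv D8769)) (tt N3411 D11203))
theorem Q2116 : ∀ i, i < 2116 → P i := stepQ 2115 Q2115 (allL N2115 (tt N3407 (iv F19858)) (tt N2115 F17252) (tt N1415 F13097) (tt N3410 (iv F19866)) (tt N3404 (iv F19852)) (tt N3412 D11204) (tt N1406 (iv D8770)))
theorem Q2117 : ∀ i, i < 2117 → P i := stepQ 2116 Q2116 (allL N2116 (tt N1408 (iv D8798)) (tt N3413 D11205) (tt N3402 (iv F19841)) (tt N3413 F19876) (tt N1412 F13143) (tt N3414 D11206) (tt N3415 D11207))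
theorem Q2118 : ∀ i, i < 2118 → P i := stepQ 2117 Q2117 (allL N2117 (tt N3413 (iv F19873)) (tt N1409 F13144) (tt N1479 F16046) (tt N1408 (iv D8799)) (tt N1509 F16047) (tt N3416 D11208) (tt N3417 D11209))
theorem Q2119 : ∀ i, i < 2119 → P i := stepQ 2118 Q2118 (allL N2118 (tt N3414 (iv F19877)) (tt N3418 D11210) (tt N3403 (iv F19846)) (tt N3416 (iv F19882)) (tt N1414 F13145) (tt N1408 (iv D8800)) (tt N3419 D11211))
theorem Q2120 : ∀ i, i < 2120 → P i := stepQ 2119 Q2119 (allL N2119 (tt N3415 (iv F19879)) (tt N3420 D11212) (tt N3404 (iv F19850)) (tt N3417 (iv F19885)) (tt N1415 F13146) (tt N3421 D11213) (tt N1408 (iv D8801)))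
theorem Q2121 : ∀ i, i < 2121 → P i := stepQ 2120 Q2120 (allL N2120 (tt N1424 F13147) (tt N1509 F16034) (tt N1424 F13148) (tt N1416 F13149) (tt N1409 (iv D8802)) (tt N3422 D11214) (tt N3423 D11215))
theorem Q2122 : ∀ i, i < 2122 → P i := stepQ 2121 Q2121 (allL N2121 (tt N1425 F13150) (tt N3424 D11216) (tt N1425 F13151) (tt N1410 F13152) (tt N3422 (iv F19901)) (tt N1409 (iv D8803)) (tt N2156 (iv F13375)))
theorem Q2123 : ∀ i, i < 2123 → P i := stepQ 2122 Q2122 (allL N2122 (tt N1426 F13153) (tt N3425 D11217) (tt N1426 F13154) (tt N1411 F13155) (tt N3423 (iv F19905)) (tt N2154 (iv F13370)) (tt N1409 (iv D8804)))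
theorem Q2124 : ∀ i, i < 2124 → P i := stepQ 2123 Q2123 (allL N2123 (tt N3426 D11218) (tt N1410 (iv D8805)) (tt N2123 F16249) (tt N3424 (iv F19906)) (tt N1419 F13156) (tt N3418 (iv F19889)) (tt N3427 D11219))
theorem Q2125 : ∀ i, i < 2125 → P i := stepQ 2124 Q2124 (allL N2124 (tt N3428 D11220) (tt N1411 (iv D8806)) (tt N2124 F17422) (tt N3425 (iv F19907)) (tt N1420 F13157) (tt N3429 D11221) (tt N3420 (iv F19894)))
theorem Q2126 : ∀ i, i < 2126 → P i := stepQ 2125 Q2125 (allL N2125 (tt N1509 F16049) (tt N1412 (iv D8843)) (tt N1508 F16050) (tt N3430 D11222) (tt N3413 (iv F19875)) (tt N3431 D11223) (tt N3432 D11224))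
theorem Q2127 : ∀ i, i < 2127 → P i := stepQ 2126 Q2126 (allL N2126 (tt N1413 F13222) (tt N3430 (iv F19917)) (tt N3433 D11225) (tt N1412 (iv D8844)) (tt N3430 (iv F19918)) (tt N3434 D11226) (tt N3435 D11227))
theorem Q2128 : ∀ i, i < 2128 → P i := stepQ 2127 Q2127 (allL N2127 (tt N1414 F13223) (tt N3436 D11228) (tt N3406 (iv F19857)) (tt N3434 (iv F19925)) (tt N3414 (iv F19878)) (tt N1412 (iv D8845)) (tt N2136 (iv F13233)))
theorem Q2129 : ∀ i, i < 2129 → P i := stepQ 2128 Q2128 (allL N2128 (tt N1415 F13224) (tt N3437 D11229) (tt N3407 (iv F19859)) (tt N3435 (iv F19927)) (tt N3415 (iv F19880)) (tt N2134 (iv F13230)) (tt N1412 (iv D8846)))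
theorem Q2130 : ∀ i, i < 2130 → P i := stepQ 2129 Q2129 (allL N2129 (tt N3433 (iv F19923)) (tt N1897 F13225) (tt N1413 (iv D8847)) (tt N3438 D11230) (tt N3439 D11231) (tt N3440 D11232) (tt N3441 D11233))
theorem Q2131 : ∀ i, i < 2131 → P i := stepQ 2130 Q2130 (allL N2130 (tt N3430 (iv F19916)) (tt N1416 F13226) (tt N3439 (iv F19930)) (tt N1509 F16048) (tt N1413 (iv D8848)) (tt N3442 D11234) (tt N3443 D11235))
theorem Q2132 : ∀ i, i < 2132 → P i := stepQ 2131 Q2131 (allL N2131 (tt N3434 (iv F19924)) (tt N3444 D11236) (tt N3440 (iv F19931)) (tt N1414 F13227) (tt N3442 (iv F19934)) (tt N1413 (iv D8849)) (tt N3445 D11237))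
theorem Q2133 : ∀ i, i < 2133 → P i := stepQ 2132 Q2132 (allL N2132 (tt N3435 (iv F19926)) (tt N3446 D11238) (tt N3441 (iv F19932)) (tt N1415 F13228) (tt N3443 (iv F19936)) (tt N3447 D11239) (tt N1413 (iv D8850)))
theorem Q2134 : ∀ i, i < 2134 → P i := stepQ 2133 Q2133 (allL N2133 (tt N3448 D11240) (tt N1414 (iv D8851)) (tt N2133 F16195) (tt N3444 (iv F19937)) (tt N3418 (iv F19888)) (tt N1419 F13229) (tt N3449 D11241))
theorem Q2135 : ∀ i, i < 2135 → P i := stepQ 2134 Q2134 (allL N2134 (tt N2136 (iv F13232)) (tt N3450 D11242) (tt N3411 (iv F19868)) (tt N3445 (iv F19939)) (tt N3419 (iv F19890)) (tt N2128 F13230) (tt N1414 (iv D8852)))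
theorem Q2136 : ∀ i, i < 2136 → P i := stepQ 2135 Q2135 (allL N2135 (tt N3451 D11243) (tt N1415 (iv D8853)) (tt N2135 F17253) (tt N3446 (iv F19941)) (tt N3420 (iv F19893)) (tt N3452 D11244) (tt N1420 F13231))
theorem Q2137 : ∀ i, i < 2137 → P i := stepQ 2136 Q2136 (allL N2136 (tt N2134 F13232) (tt N3453 D11245) (tt N3412 (iv F19871)) (tt N3447 (iv F19944)) (tt N3421 (iv F19896)) (tt N1415 (iv D8854)) (tt N2127 F13233))
theorem Q2138 : ∀ i, i < 2138 → P i := stepQ 2137 Q2137 (allL N2137 (tt N1453 F13234) (tt N3454 D11246) (tt N1905 F13235) (tt N3422 (iv F19900)) (tt N1417 F13236) (tt N1416 (iv D8855)) (tt N2198 (iv F13607)))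
theorem Q2139 : ∀ i, i < 2139 → P i := stepQ 2138 Q2138 (allL N2138 (tt N1454 F13237) (tt N3455 D11247) (tt N1906 F13238) (tt N3423 (iv F19904)) (tt N1418 F13239) (tt N2196 (iv F13603)) (tt N1416 (iv D8856)))
theorem Q2140 : ∀ i, i < 2140 → P i := stepQ 2139 Q2139 (allL N2139 (tt N3456 D11248) (tt N1417 (iv D8857)) (tt N3457 D11249) (tt N1419 F13240) (tt N3454 (iv F19952)) (tt N3444 (iv F19938)) (tt N3458 D11250))
theorem Q2141 : ∀ i, i < 2141 → P i := stepQ 2140 Q2140 (allL N2140 (tt N3459 D11251) (tt N1418 (iv D8858)) (tt N3460 D11252) (tt N1420 F13241) (tt N3455 (iv F19953)) (tt N3461 D11253) (tt N3446 (iv F19942)))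
theorem Q2142 : ∀ i, i < 2142 → P i := stepQ 2141 Q2141 (allL N2141 (tt N1419 (iv D8859)) (tt N3462 D11254) (tt N2141 F16248) (tt N3456 (iv F19954)) (tt N3426 (iv F19909)) (tt N3448 (iv F19947)) (tt N3463 D11255))
theorem Q2143 : ∀ i, i < 2143 → P i := stepQ 2142 Q2142 (allL N2142 (tt N3463 (iv F19960)) (tt N2226 (iv F13633)) (tt N2142 F16250) (tt N3458 (iv F19956)) (tt N3427 (iv F19911)) (tt N3464 D11256) (tt N1419 (iv D8861)))
theorem Q2144 : ∀ i, i < 2144 → P i := stepQ 2143 Q2143 (allL N2143 (tt N1420 (iv D8862)) (tt N3465 D11257) (tt N2143 F17421) (tt N3459 (iv F19957)) (tt N3428 (iv F19913)) (tt N3466 D11258) (tt N3451 (iv F19950)))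
theorem Q2145 : ∀ i, i < 2145 → P i := stepQ 2144 Q2144 (allL N2144 (tt N3466 (iv F19966)) (tt N2216 (iv F13623)) (tt N2144 F17423) (tt N3461 (iv F19959)) (tt N3429 (iv F19915)) (tt N1420 (iv D8864)) (tt N3467 D11259))
theorem Q2146 : ∀ i, i < 2146 → P i := stepQ 2145 Q2145 (allL N2145 (tt N1422 F13343) (tt N3468 D11260) (tt N1481 F13344) (tt N1422 F16037) (tt N1442 F13345) (tt N1421 (iv D8918)) (tt N2150 (iv F13363)))
theorem Q2147 : ∀ i, i < 2147 → P i := stepQ 2146 Q2146 (allL N2146 (tt N1423 F13346) (tt N3469 D11261) (tt N1482 F13347) (tt N1423 F16038) (tt N1443 F13348) (tt N2148 (iv F13357)) (tt N1421 (iv D8919)))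
theorem Q2148 : ∀ i, i < 2148 → P i := stepQ 2147 Q2147 (allL N2147 (tt N3470 D11262) (tt N1422 (iv D8924)) (tt N3471 D11263) (tt N3468 (iv F19972)) (tt N1446 F13353) (tt N1427 F13354) (tt N3472 D11264))
theorem Q2149 : ∀ i, i < 2149 → P i := stepQ 2148 Q2148 (allL N2148 (tt N2150 (iv F13360)) (tt N3473 D11265) (tt N1487 F13355) (tt N2150 (iv F16039)) (tt N1447 F13356) (tt N2146 F13357) (tt N1422 (iv D8925)))
theorem Q2150 : ∀ i, i < 2150 → P i := stepQ 2149 Q2149 (allL N2149 (tt N3474 D11266) (tt N1423 (iv D8926)) (tt N3475 D11267) (tt N3469 (iv F19975)) (tt N1448 F13358) (tt N3476 D11268) (tt N1429 F13359))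
theorem Q2151 : ∀ i, i < 2151 → P i := stepQ 2150 Q2150 (allL N2150 (tt N2148 F13360) (tt N3477 D11269) (tt N1489 F13361) (tt N2148 F16039) (tt N1449 F13362) (tt N1423 (iv D8927)) (tt N2145 F13363))
theorem Q2152 : ∀ i, i < 2152 → P i := stepQ 2151 Q2151 (allL N2151 (tt N3422 (iv F19898)) (tt N3478 D11270) (tt N3422 (iv F19899)) (tt N1453 F13364) (tt N1425 F13365) (tt N1424 (iv D8928)) (tt N3479 D11271))
theorem Q2153 : ∀ i, i < 2153 → P i := stepQ 2152 Q2152 (allL N2152 (tt N3423 (iv F19902)) (tt N3480 D11272) (tt N3423 (iv F19903)) (tt N1454 F13366) (tt N1426 F13367) (tt N3481 D11273) (tt N1424 (iv D8929)))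
theorem Q2154 : ∀ i, i < 2154 → P i := stepQ 2153 Q2153 (allL N2153 (tt N3482 D11274) (tt N1425 (iv D8930)) (tt N3483 D11275) (tt N1427 F13368) (tt N3478 (iv F19994)) (tt N3468 (iv F19974)) (tt N3484 D11276))
theorem Q2155 : ∀ i, i < 2155 → P i := stepQ 2154 Q2154 (allL N2154 (tt N2156 (iv F13372)) (tt N3485 D11277) (tt N2156 (iv F13373)) (tt N1428 F13369) (tt N3479 (iv F19997)) (tt N2122 F13370) (tt N1425 (iv D8931)))
theorem Q2156 : ∀ i, i < 2156 → P i := stepQ 2155 Q2155 (allL N2155 (tt N3486 D11278) (tt N1426 (iv D8932)) (tt N3487 D11279) (tt N1429 F13371) (tt N3480 (iv F20000)) (tt N3488 D11280) (tt N3469 (iv F19977)))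
theorem Q2157 : ∀ i, i < 2157 → P i := stepQ 2156 Q2156 (allL N2156 (tt N2154 F13372) (tt N3489 D11281) (tt N2154 F13373) (tt N1430 F13374) (tt N3481 (iv F20005)) (tt N1426 (iv D8933)) (tt N2121 F13375))
theorem Q2158 : ∀ i, i < 2158 → P i := stepQ 2157 Q2157 (allL N2157 (tt N1427 (iv D8934)) (tt N3490 D11282) (tt N3491 D11283) (tt N3482 (iv F20007)) (tt N1459 F13376) (tt N3470 (iv F19979)) (tt N3492 D11284))
theorem Q2159 : ∀ i, i < 2159 → P i := stepQ 2158 Q2158 (allL N2158 (tt N3491 (iv F20014)) (tt N1431 F13377) (tt N1427 (iv D8935)) (tt N3493 D11285) (tt N1460 F13378) (tt N3471 (iv F19982)) (tt N3494 D11286))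
theorem Q2160 : ∀ i, i < 2160 → P i := stepQ 2159 Q2159 (allL N2159 (tt N3492 (iv F20016)) (tt N3495 D11287) (tt N3494 (iv F20020)) (tt N3484 (iv F20008)) (tt N1461 F13379) (tt N3496 D11288) (tt N1427 (iv D8936)))
theorem Q2161 : ∀ i, i < 2161 → P i := stepQ 2160 Q2160 (allL N2160 (tt N3497 D11289) (tt N1428 (iv D8937)) (tt N3498 D11290) (tt N3485 (iv F20009)) (tt N1462 F13380) (tt N3499 D11291) (tt N3495 (iv F20023)))
theorem Q2162 : ∀ i, i < 2162 → P i := stepQ 2161 Q2161 (allL N2161 (tt N1429 (iv D8938)) (tt N3500 D11292) (tt N3501 D11293) (tt N3486 (iv F20010)) (tt N1463 F13381) (tt N3502 D11294) (tt N3474 (iv F19986)))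
theorem Q2163 : ∀ i, i < 2163 → P i := stepQ 2162 Q2162 (allL N2162 (tt N3501 (iv F20033)) (tt N1433 F13382) (tt N1429 (iv D8939)) (tt N3503 D11295) (tt N1464 F13383) (tt N3504 D11296) (tt N3475 (iv F19989)))
theorem Q2164 : ∀ i, i < 2164 → P i := stepQ 2163 Q2163 (allL N2163 (tt N3502 (iv F20035)) (tt N3505 D11297) (tt N3504 (iv F20039)) (tt N3488 (iv F20011)) (tt N1465 F13384) (tt N1429 (iv D8940)) (tt N3506 D11298))
theorem Q2165 : ∀ i, i < 2165 → P i := stepQ 2164 Q2164 (allL N2164 (tt N3507 D11299) (tt N1430 (iv D8941)) (tt N3508 D11300) (tt N3489 (iv F20012)) (tt N1466 F13385) (tt N3505 (iv F20042)) (tt N3509 D11301))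
theorem Q2166 : ∀ i, i < 2166 → P i := stepQ 2165 Q2165 (allL N2165 (tt N2297 F14914) (tt N3493 (iv F20019)) (tt N1500 F14915) (tt N1431 (iv D8944)) (tt N3510 D11302) (tt N1500 F13391) (tt N2621 (iv F17898)))
theorem Q2167 : ∀ i, i < 2167 → P i := stepQ 2166 Q2166 (allL N2166 (tt N1432 (iv D8947)) (tt N1503 F15285) (tt N3511 D11303) (tt N1435 F13397) (tt N1468 F13398) (tt N2166 F17472) (tt N2618 (iv F17892)))
theorem Q2168 : ∀ i, i < 2168 → P i := stepQ 2167 Q2167 (allL N2167 (tt N3511 (iv F20054)) (tt N3498 (iv F20028)) (tt N1432 (iv D8948)) (tt N3512 D11304) (tt N1469 F13399) (tt N2167 F17466) (tt N2619 (iv F17895)))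
theorem Q2169 : ∀ i, i < 2169 → P i := stepQ 2168 Q2168 (allL N2168 (tt N2299 F16765) (tt N3503 (iv F20038)) (tt N1504 F16766) (tt N1433 (iv D8952)) (tt N3513 D11305) (tt N2631 (iv F17923)) (tt N1504 F13408))
theorem Q2170 : ∀ i, i < 2170 → P i := stepQ 2169 Q2169 (allL N2169 (tt N1434 (iv D8955)) (tt N1499 F17028) (tt N3514 D11306) (tt N1437 F13414) (tt N1471 F13415) (tt N2628 (iv F17917)) (tt N2169 F16227))
theorem Q2171 : ∀ i, i < 2171 → P i := stepQ 2170 Q2170 (allL N2170 (tt N3514 (iv F20061)) (tt N3508 (iv F20047)) (tt N1434 (iv D8956)) (tt N3515 D11307) (tt N1472 F13416) (tt N2629 (iv F17920)) (tt N2170 F16191))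
theorem Q2172 : ∀ i, i < 2172 → P i := stepQ 2171 Q2171 (allL N2171 (tt N1436 F13445) (tt N1686 (iv F17441)) (tt N1435 (iv D8971)) (tt N3516 D11308) (tt N1439 F13446) (tt N2171 F17442) (tt N2634 (iv F17933)))
theorem Q2173 : ∀ i, i < 2173 → P i := stepQ 2172 Q2172 (allL N2172 (tt N3516 (iv F20065)) (tt N2172 F13447) (tt N3517 D11309) (tt N1436 (iv D8972)) (tt N1988 (iv F32962)) (tt N2172 F17473) (tt N2635 (iv F17934)))
theorem Q2174 : ∀ i, i < 2174 → P i := stepQ 2173 Q2173 (allL N2173 (tt N1438 F13479) (tt N1684 (iv F17020)) (tt N1437 (iv D8988)) (tt N3518 D11311) (tt N1440 F13480) (tt N2636 (iv F17937)) (tt N2173 F16233))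
theorem Q2175 : ∀ i, i < 2175 → P i := stepQ 2174 Q2174 (allL N2174 (tt N3518 (iv F20072)) (tt N2174 F13481) (tt N3519 D11312) (tt N1438 (iv D8989)) (tt N1993 (iv F32927)) (tt N2637 (iv F17939)) (tt N2174 F16234))
theorem Q2176 : ∀ i, i < 2176 → P i := stepQ 2175 Q2175 (allL N2175 (tt N1444 F13562) (tt N3520 D11320) (tt N1444 F13563) (tt N1442 F13564) (tt N1444 F16032) (tt N1441 (iv D9054)) (tt N2182 (iv F13579)))
theorem Q2177 : ∀ i, i < 2177 → P i := stepQ 2176 Q2176 (allL N2176 (tt N1445 F13565) (tt N3521 D11321) (tt N1445 F13566) (tt N1443 F13567) (tt N1445 F16033) (tt N2180 (iv F13573)) (tt N1441 (iv D9055)))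
theorem Q2178 : ∀ i, i < 2178 → P i := stepQ 2177 Q2177 (allL N2177 (tt N3522 D11322) (tt N1442 (iv D9056)) (tt N3523 D11323) (tt N3520 (iv F20091)) (tt N3468 (iv F19973)) (tt N3478 (iv F19995)) (tt N3524 D11324))
theorem Q2179 : ∀ i, i < 2179 → P i := stepQ 2178 Q2178 (allL N2178 (tt N3525 D11325) (tt N1443 (iv D9057)) (tt N3526 D11326) (tt N3521 (iv F20094)) (tt N3469 (iv F19976)) (tt N3527 D11327) (tt N3480 (iv F20001)))
theorem Q2180 : ∀ i, i < 2180 → P i := stepQ 2179 Q2179 (allL N2179 (tt N3528 D11328) (tt N1444 (iv D9060)) (tt N3529 D11329) (tt N1446 F13570) (tt N3520 (iv F20092)) (tt N1455 F13571) (tt N3530 D11330))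
theorem Q2181 : ∀ i, i < 2181 → P i := stepQ 2180 Q2180 (allL N2180 (tt N2182 (iv F13576)) (tt N3531 D11331) (tt N2182 (iv F13577)) (tt N1447 F13572) (tt N2182 F16045) (tt N2176 F13573) (tt N1444 (iv D9061)))
theorem Q2182 : ∀ i, i < 2182 → P i := stepQ 2181 Q2181 (allL N2181 (tt N3532 D11332) (tt N1445 (iv D9062)) (tt N3533 D11333) (tt N1448 F13574) (tt N3521 (iv F20095)) (tt N3534 D11334) (tt N1457 F13575))
theorem Q2183 : ∀ i, i < 2183 → P i := stepQ 2182 Q2182 (allL N2182 (tt N2180 F13576) (tt N3535 D11335) (tt N2180 F13577) (tt N1449 F13578) (tt N2180 (iv F16045)) (tt N1445 (iv D9063)) (tt N2175 F13579))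
theorem Q2184 : ∀ i, i < 2184 → P i := stepQ 2183 Q2183 (allL N2183 (tt N1446 (iv D9064)) (tt N3536 D11336) (tt N3537 D11337) (tt N3528 (iv F20113)) (tt N3470 (iv F19978)) (tt N1459 F13580) (tt N2213 (iv F13621)))
theorem Q2185 : ∀ i, i < 2185 → P i := stepQ 2184 Q2184 (allL N2184 (tt N3537 (iv F20124)) (tt N1515 F13581) (tt N1446 (iv D9065)) (tt N3538 D11338) (tt N3471 (iv F19981)) (tt N1460 F13582) (tt N3539 D11339))
theorem Q2186 : ∀ i, i < 2186 → P i := stepQ 2185 Q2185 (allL N2185 (tt N2213 (iv F13620)) (tt N3540 D11340) (tt N3539 (iv F20128)) (tt N3530 (iv F20116)) (tt N3472 (iv F19983)) (tt N2209 (iv F13616)) (tt N1446 (iv D9066)))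
theorem Q2187 : ∀ i, i < 2187 → P i := stepQ 2186 Q2186 (allL N2186 (tt N3541 D11341) (tt N1447 (iv D9067)) (tt N3542 D11342) (tt N3531 (iv F20117)) (tt N3473 (iv F19984)) (tt N3543 D11343) (tt N3540 (iv F20129)))
theorem Q2188 : ∀ i, i < 2188 → P i := stepQ 2187 Q2187 (allL N2187 (tt N1448 (iv D9068)) (tt N3544 D11344) (tt N3545 D11345) (tt N3532 (iv F20118)) (tt N3474 (iv F19985)) (tt N2223 (iv F13631)) (tt N1463 F13583))
theorem Q2189 : ∀ i, i < 2189 → P i := stepQ 2188 Q2188 (allL N2188 (tt N3545 (iv F20132)) (tt N1519 F13584) (tt N1448 (iv D9069)) (tt N3546 D11346) (tt N3475 (iv F19988)) (tt N3547 D11347) (tt N1464 F13585))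
theorem Q2190 : ∀ i, i < 2190 → P i := stepQ 2189 Q2189 (allL N2189 (tt N2223 (iv F13630)) (tt N3548 D11348) (tt N3547 (iv F20136)) (tt N3534 (iv F20121)) (tt N3476 (iv F19990)) (tt N1448 (iv D9070)) (tt N2219 (iv F13626)))
theorem Q2191 : ∀ i, i < 2191 → P i := stepQ 2190 Q2190 (allL N2190 (tt N3549 D11349) (tt N1449 (iv D9071)) (tt N3550 D11350) (tt N3535 (iv F20122)) (tt N3477 (iv F19992)) (tt N3548 (iv F20137)) (tt N3551 D11351))
theorem Q2192 : ∀ i, i < 2192 → P i := stepQ 2191 Q2191 (allL N2191 (tt N1905 F16023) (tt N3552 D11352) (tt N1453 F16024) (tt N1871 F13588) (tt N1451 F16025) (tt N1450 (iv D9074)) (tt N3043 (iv F19113)))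
theorem Q2193 : ∀ i, i < 2193 → P i := stepQ 2192 Q2192 (allL N2192 (tt N1906 F16026) (tt N3553 D11353) (tt N1454 F16027) (tt N1872 F13589) (tt N1452 F16028) (tt N3041 (iv F19107)) (tt N1450 (iv D9075)))
theorem Q2194 : ∀ i, i < 2194 → P i := stepQ 2193 Q2193 (allL N2193 (tt N3554 D11354) (tt N1451 (iv D9079)) (tt N3555 D11355) (tt N1873 F13599) (tt N3552 (iv F20141)) (tt N3552 (iv F20142)) (tt N3556 D11356))
theorem Q2195 : ∀ i, i < 2195 → P i := stepQ 2194 Q2194 (allL N2194 (tt N3557 D11357) (tt N1452 (iv D9080)) (tt N3558 D11358) (tt N1874 F13600) (tt N3553 (iv F20144)) (tt N3559 D11359) (tt N3553 (iv F20145)))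
theorem Q2196 : ∀ i, i < 2196 → P i := stepQ 2195 Q2195 (allL N2195 (tt N3560 D11360) (tt N1453 (iv D9081)) (tt N3561 D11361) (tt N3478 (iv F19993)) (tt N1455 F13601) (tt N3520 (iv F20093)) (tt N3562 D11362))
theorem Q2197 : ∀ i, i < 2197 → P i := stepQ 2196 Q2196 (allL N2196 (tt N2198 (iv F13605)) (tt N3563 D11363) (tt N3043 (iv F19110)) (tt N3479 (iv F19996)) (tt N1456 F13602) (tt N2138 F13603) (tt N1453 (iv D9082)))
theorem Q2198 : ∀ i, i < 2198 → P i := stepQ 2197 Q2197 (allL N2197 (tt N3564 D11364) (tt N1454 (iv D9083)) (tt N3565 D11365) (tt N3480 (iv F19999)) (tt N1457 F13604) (tt N3566 D11366) (tt N3521 (iv F20096)))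
theorem Q2199 : ∀ i, i < 2199 → P i := stepQ 2198 Q2198 (allL N2198 (tt N2196 F13605) (tt N3567 D11367) (tt N3041 (iv F19104)) (tt N3481 (iv F20004)) (tt N1458 F13606) (tt N1454 (iv D9084)) (tt N2137 F13607))
theorem Q2200 : ∀ i, i < 2200 → P i := stepQ 2199 Q2199 (allL N2199 (tt N1455 (iv D9085)) (tt N3568 D11368) (tt N3569 D11369) (tt N1459 F13608) (tt N3560 (iv F20153)) (tt N3528 (iv F20114)) (tt N3570 D11370))
theorem Q2201 : ∀ i, i < 2201 → P i := stepQ 2200 Q2200 (allL N2200 (tt N3569 (iv F20162)) (tt N3555 (iv F20147)) (tt N1455 (iv D9086)) (tt N3571 D11371) (tt N3561 (iv F20154)) (tt N3529 (iv F20115)) (tt N3572 D11372))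
theorem Q2202 : ∀ i, i < 2202 → P i := stepQ 2201 Q2201 (allL N2201 (tt N3570 (iv F20163)) (tt N3573 D11373) (tt N3572 (iv F20166)) (tt N1461 F13609) (tt N3562 (iv F20155)) (tt N3574 D11374) (tt N1455 (iv D9087)))
theorem Q2203 : ∀ i, i < 2203 → P i := stepQ 2202 Q2202 (allL N2202 (tt N3575 D11375) (tt N1456 (iv D9088)) (tt N3576 D11376) (tt N1462 F13610) (tt N3563 (iv F20156)) (tt N3577 D11377) (tt N3573 (iv F20168)))
theorem Q2204 : ∀ i, i < 2204 → P i := stepQ 2203 Q2203 (allL N2203 (tt N1457 (iv D9089)) (tt N3578 D11378) (tt N3579 D11379) (tt N1463 F13611) (tt N3564 (iv F20157)) (tt N3580 D11380) (tt N3532 (iv F20119)))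
theorem Q2205 : ∀ i, i < 2205 → P i := stepQ 2204 Q2204 (allL N2204 (tt N3579 (iv F20176)) (tt N3558 (iv F20150)) (tt N1457 (iv D9090)) (tt N3581 D11381) (tt N3565 (iv F20158)) (tt N3582 D11382) (tt N3533 (iv F20120)))
theorem Q2206 : ∀ i, i < 2206 → P i := stepQ 2205 Q2205 (allL N2205 (tt N3580 (iv F20177)) (tt N3583 D11383) (tt N3582 (iv F20180)) (tt N1465 F13612) (tt N3566 (iv F20159)) (tt N1457 (iv D9091)) (tt N3584 D11384))
theorem Q2207 : ∀ i, i < 2207 → P i := stepQ 2206 Q2206 (allL N2206 (tt N3585 D11385) (tt N1458 (iv D9092)) (tt N3586 D11386) (tt N1466 F13613) (tt N3567 (iv F20160)) (tt N3583 (iv F20182)) (tt N3587 D11387))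
theorem Q2208 : ∀ i, i < 2208 → P i := stepQ 2207 Q2207 (allL N2207 (tt N3588 D11388) (tt N1459 (iv D9093)) (tt N3589 D11389) (tt N3568 (iv F20161)) (tt N3490 (iv F20013)) (tt N3590 D11390) (tt N3591 D11391))
theorem Q2209 : ∀ i, i < 2209 → P i := stepQ 2208 Q2208 (allL N2208 (tt N1460 F13614) (tt N3592 D11392) (tt N1459 (iv D9094)) (tt N3593 D11393) (tt N3491 (iv F20015)) (tt N3537 (iv F20125)) (tt N3594 D11394))
theorem Q2210 : ∀ i, i < 2210 → P i := stepQ 2209 Q2209 (allL N2209 (tt N1461 F13615) (tt N3595 D11395) (tt N3594 (iv F20191)) (tt N3570 (iv F20164)) (tt N3492 (iv F20017)) (tt N2185 F13616) (tt N1459 (iv D9095)))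
theorem Q2211 : ∀ i, i < 2211 → P i := stepQ 2210 Q2210 (allL N2210 (tt N3593 (iv F20189)) (tt N1467 F13617) (tt N3596 D11396) (tt N1460 (iv D9096)) (tt N3597 D11397) (tt N3538 (iv F20127)) (tt N3598 D11398))
theorem Q2212 : ∀ i, i < 2212 → P i := stepQ 2211 Q2211 (allL N2211 (tt N3594 (iv F20190)) (tt N2829 (iv F18153)) (tt N1461 F13618) (tt N3598 (iv F20194)) (tt N3494 (iv F20021)) (tt N3599 D11399) (tt N1460 (iv D9097)))
theorem Q2213 : ∀ i, i < 2213 → P i := stepQ 2212 Q2212 (allL N2212 (tt N3600 D11400) (tt N1461 (iv D9098)) (tt N3601 D11401) (tt N3573 (iv F20167)) (tt N3495 (iv F20022)) (tt N3602 D11402) (tt N1462 F13619))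
theorem Q2214 : ∀ i, i < 2214 → P i := stepQ 2213 Q2213 (allL N2213 (tt N2185 F13620) (tt N3603 D11403) (tt N3599 (iv F20196)) (tt N3574 (iv F20170)) (tt N3496 (iv F20025)) (tt N1461 (iv D9099)) (tt N2183 F13621))
theorem Q2215 : ∀ i, i < 2215 → P i := stepQ 2214 Q2214 (allL N2214 (tt N1462 (iv D9100)) (tt N3604 D11404) (tt N3605 D11405) (tt N3575 (iv F20172)) (tt N3497 (iv F20027)) (tt N3606 D11406) (tt N3600 (iv F20198)))
theorem Q2216 : ∀ i, i < 2216 → P i := stepQ 2215 Q2215 (allL N2215 (tt N3605 (iv F20200)) (tt N1469 F13622) (tt N1462 (iv D9101)) (tt N3607 D11407) (tt N3498 (iv F20029)) (tt N3608 D11408) (tt N3601 (iv F20199)))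
theorem Q2217 : ∀ i, i < 2217 → P i := stepQ 2216 Q2216 (allL N2216 (tt N3606 (iv F20201)) (tt N2144 F13623) (tt N3608 (iv F20205)) (tt N3577 (iv F20174)) (tt N3499 (iv F20031)) (tt N1462 (iv D9102)) (tt N3609 D11409))
theorem Q2218 : ∀ i, i < 2218 → P i := stepQ 2217 Q2217 (allL N2217 (tt N3610 D11410) (tt N1463 (iv D9103)) (tt N3611 D11411) (tt N3578 (iv F20175)) (tt N3500 (iv F20032)) (tt N3612 D11412) (tt N3613 D11413))
theorem Q2219 : ∀ i, i < 2219 → P i := stepQ 2218 Q2218 (allL N2218 (tt N1464 F13624) (tt N3614 D11414) (tt N1463 (iv D9104)) (tt N3615 D11415) (tt N3501 (iv F20034)) (tt N3616 D11416) (tt N3545 (iv F20133)))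
theorem Q2220 : ∀ i, i < 2220 → P i := stepQ 2219 Q2219 (allL N2219 (tt N1465 F13625) (tt N3617 D11417) (tt N3616 (iv F20210)) (tt N3580 (iv F20178)) (tt N3502 (iv F20036)) (tt N1463 (iv D9105)) (tt N2189 F13626))
theorem Q2221 : ∀ i, i < 2221 → P i := stepQ 2220 Q2220 (allL N2220 (tt N3615 (iv F20208)) (tt N1470 F13627) (tt N3618 D11418) (tt N1464 (iv D9106)) (tt N3619 D11419) (tt N3620 D11420) (tt N3546 (iv F20135)))
theorem Q2222 : ∀ i, i < 2222 → P i := stepQ 2221 Q2221 (allL N2221 (tt N3616 (iv F20209)) (tt N2848 (iv F18179)) (tt N1465 F13628) (tt N3620 (iv F20213)) (tt N3504 (iv F20040)) (tt N1464 (iv D9107)) (tt N3621 D11421))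
theorem Q2223 : ∀ i, i < 2223 → P i := stepQ 2222 Q2222 (allL N2222 (tt N3622 D11422) (tt N1465 (iv D9108)) (tt N3623 D11423) (tt N3583 (iv F20181)) (tt N3505 (iv F20041)) (tt N1466 F13629) (tt N3624 D11424))
theorem Q2224 : ∀ i, i < 2224 → P i := stepQ 2223 Q2223 (allL N2223 (tt N2189 F13630) (tt N3625 D11425) (tt N3621 (iv F20215)) (tt N3584 (iv F20184)) (tt N3506 (iv F20044)) (tt N2187 F13631) (tt N1465 (iv D9109)))
theorem Q2225 : ∀ i, i < 2225 → P i := stepQ 2224 Q2224 (allL N2224 (tt N1466 (iv D9110)) (tt N3626 D11426) (tt N3627 D11427) (tt N3585 (iv F20186)) (tt N3507 (iv F20046)) (tt N3622 (iv F20217)) (tt N3628 D11428))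
theorem Q2226 : ∀ i, i < 2226 → P i := stepQ 2225 Q2225 (allL N2225 (tt N3627 (iv F20219)) (tt N1472 F13632) (tt N1466 (iv D9111)) (tt N3629 D11429) (tt N3508 (iv F20048)) (tt N3623 (iv F20218)) (tt N3630 D11430))
theorem Q2227 : ∀ i, i < 2227 → P i := stepQ 2226 Q2226 (allL N2226 (tt N3628 (iv F20220)) (tt N2142 F13633) (tt N3630 (iv F20224)) (tt N3587 (iv F20188)) (tt N3509 (iv F20050)) (tt N3631 D11431) (tt N1466 (iv D9112)))
theorem Q2228 : ∀ i, i < 2228 → P i := stepQ 2227 Q2227 (allL N2227 (tt N2236 (iv F13688)) (tt N3632 D11432) (tt N1467 (iv D9118)) (tt N1791 (iv F17193)) (tt N3633 D11433) (tt N1537 F13641) (tt N1802 F17232))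
theorem Q2229 : ∀ i, i < 2229 → P i := stepQ 2228 Q2228 (allL N2228 (tt N2822 (iv F18144)) (tt N3597 (iv F20193)) (tt N3633 (iv F20228)) (tt N3510 (iv F20052)) (tt N1467 (iv D9119)) (tt N1538 F13642) (tt N2830 (iv F18155)))
theorem Q2230 : ∀ i, i < 2230 → P i := stepQ 2229 Q2229 (allL N2229 (tt N1469 F13652) (tt N3634 D11434) (tt N1468 (iv D9126)) (tt N3635 D11435) (tt N3511 (iv F20055)) (tt N2229 F17464) (tt N2823 (iv F18149)))
theorem Q2231 : ∀ i, i < 2231 → P i := stepQ 2230 Q2230 (allL N2230 (tt N3635 (iv F20232)) (tt N3607 (iv F20203)) (tt N3636 D11436) (tt N1469 (iv D9127)) (tt N3637 D11437) (tt N2230 F17465) (tt N2825 (iv F18151)))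
theorem Q2232 : ∀ i, i < 2232 → P i := stepQ 2231 Q2231 (allL N2231 (tt N2240 (iv F13739)) (tt N3638 D11438) (tt N1470 (iv D9135)) (tt N1804 (iv F16587)) (tt N3639 D11439) (tt N1815 (iv F17478)) (tt N1544 F13664))
theorem Q2233 : ∀ i, i < 2233 → P i := stepQ 2232 Q2232 (allL N2232 (tt N2842 (iv F18170)) (tt N3619 (iv F20212)) (tt N3639 (iv F20237)) (tt N3513 (iv F20059)) (tt N1470 (iv D9136)) (tt N2850 (iv F18181)) (tt N1545 F13665))
theorem Q2234 : ∀ i, i < 2234 → P i := stepQ 2233 Q2233 (allL N2233 (tt N1472 F13676) (tt N3640 D11440) (tt N1471 (iv D9143)) (tt N3641 D11441) (tt N3514 (iv F20062)) (tt N2843 (iv F18174)) (tt N2233 F16189))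
theorem Q2235 : ∀ i, i < 2235 → P i := stepQ 2234 Q2234 (allL N2234 (tt N3641 (iv F20241)) (tt N3629 (iv F20222)) (tt N3642 D11442) (tt N1472 (iv D9144)) (tt N3643 D11443) (tt N2845 (iv F18177)) (tt N2234 F16190))
theorem Q2236 : ∀ i, i < 2236 → P i := stepQ 2235 Q2235 (allL N2235 (tt N3644 D11444) (tt N1473 (iv D9149)) (tt N3090 (iv F19172)) (tt N3645 D11445) (tt N3646 D11446) (tt N3647 D11447) (tt N3648 D11448))
theorem Q2237 : ∀ i, i < 2237 → P i := stepQ 2236 Q2236 (allL N2236 (tt N2227 F13688) (tt N3645 (iv F20245)) (tt N1772 (iv F17189)) (tt N1473 (iv D9150)) (tt N3649 D11449) (tt N1553 F13690) (tt N1777 (iv F17233)))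
theorem Q2238 : ∀ i, i < 2238 → P i := stepQ 2237 Q2237 (allL N2237 (tt N2854 (iv F18184)) (tt N3646 (iv F20246)) (tt N1474 F13691) (tt N3650 D11450) (tt N1473 (iv D9151)) (tt N1554 F13692) (tt N2863 (iv F18218)))
theorem Q2239 : ∀ i, i < 2239 → P i := stepQ 2238 Q2238 (allL N2238 (tt N3331 (iv F32896)) (tt N3651 D11455) (tt N1475 (iv D9164)) (tt N3652 D11456) (tt N3328 (iv F32899)) (tt N2238 F17462) (tt N2857 (iv F18198)))
theorem Q2240 : ∀ i, i < 2240 → P i := stepQ 2239 Q2239 (allL N2239 (tt N3653 D11458) (tt N1476 (iv D9179)) (tt N3100 (iv F19200)) (tt N3654 D11459) (tt N3655 D11460) (tt N3656 D11461) (tt N3657 D11462))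
theorem Q2241 : ∀ i, i < 2241 → P i := stepQ 2240 Q2240 (allL N2240 (tt N2231 F13739) (tt N3654 (iv F20270)) (tt N1784 (iv F16685)) (tt N1476 (iv D9180)) (tt N3658 D11463) (tt N1789 F17477) (tt N1564 F13741))
theorem Q2242 : ∀ i, i < 2242 → P i := stepQ 2241 Q2241 (allL N2241 (tt N2872 (iv F18228)) (tt N3655 (iv F20271)) (tt N1477 F13742) (tt N3659 D11464) (tt N1476 (iv D9181)) (tt N2881 (iv F18254)) (tt N1565 F13743))
theorem Q2243 : ∀ i, i < 2243 → P i := stepQ 2242 Q2242 (allL N2242 (tt N3353 F32645) (tt N3660 D11469) (tt N1478 (iv D9194)) (tt N3661 D11470) (tt N3350 F32646) (tt N2875 (iv F18238)) (tt N2242 F16187))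
theorem Q2244 : ∀ i, i < 2244 → P i := stepQ 2243 Q2243 (allL N2243 (tt N1479 (iv D9300)) (tt N1618 F13886) (tt N3413 (iv F19874)) (tt N2933 (iv F18903)) (tt N1508 F13887) (tt N3662 D11490) (tt N3663 D11491))
theorem Q2245 : ∀ i, i < 2245 → P i := stepQ 2244 Q2244 (allL N2244 (tt N2933 (iv F18900)) (tt N1480 F13889) (tt N2930 (iv F18895)) (tt N1479 (iv D9302)) (tt N1620 F13890) (tt N3664 D11492) (tt N3665 D11493))
theorem Q2246 : ∀ i, i < 2246 → P i := stepQ 2245 Q2245 (allL N2245 (tt N3662 (iv F20339)) (tt N3666 D11494) (tt N3416 (iv F19881)) (tt N3664 (iv F20343)) (tt N1510 F13891) (tt N1479 (iv D9303)) (tt N3667 D11495))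
theorem Q2247 : ∀ i, i < 2247 → P i := stepQ 2246 Q2246 (allL N2246 (tt N3663 (iv F20341)) (tt N3668 D11496) (tt N3417 (iv F19884)) (tt N3665 (iv F20345)) (tt N1511 F13892) (tt N3669 D11497) (tt N1479 (iv D9304)))
theorem Q2248 : ∀ i, i < 2248 → P i := stepQ 2247 Q2247 (allL N2247 (tt N1483 F13893) (tt N3670 D11498) (tt N1480 (iv D9305)) (tt N2247 F16042) (tt N1623 F13894) (tt N3671 D11499) (tt N3672 D11500))
theorem Q2249 : ∀ i, i < 2249 → P i := stepQ 2248 Q2248 (allL N2248 (tt N1484 F13895) (tt N3673 D11501) (tt N3671 (iv F20359)) (tt N1481 F13896) (tt N1624 F13897) (tt N1480 (iv D9306)) (tt N2257 (iv F13920)))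
theorem Q2250 : ∀ i, i < 2250 → P i := stepQ 2249 Q2249 (allL N2249 (tt N1485 F13898) (tt N3674 D11502) (tt N3672 (iv F20363)) (tt N1482 F13899) (tt N1625 F13900) (tt N2255 (iv F13913)) (tt N1480 (iv D9307)))
theorem Q2251 : ∀ i, i < 2251 → P i := stepQ 2250 Q2250 (allL N2250 (tt N3675 D11503) (tt N1481 (iv D9308)) (tt N3676 D11504) (tt N3673 (iv F20366)) (tt N1512 F13901) (tt N3666 (iv F20348)) (tt N3677 D11505))
theorem Q2252 : ∀ i, i < 2252 → P i := stepQ 2251 Q2251 (allL N2251 (tt N3678 D11506) (tt N1482 (iv D9309)) (tt N3679 D11507) (tt N3674 (iv F20368)) (tt N1513 F13902) (tt N3680 D11508) (tt N3668 (iv F20352)))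
theorem Q2253 : ∀ i, i < 2253 → P i := stepQ 2252 Q2252 (allL N2252 (tt N3671 (iv F20358)) (tt N3681 D11509) (tt N1484 F13904) (tt N2252 F16044) (tt N1629 F13905) (tt N1483 (iv D9311)) (tt N3682 D11510))
theorem Q2254 : ∀ i, i < 2254 → P i := stepQ 2253 Q2253 (allL N2253 (tt N3672 (iv F20362)) (tt N3683 D11511) (tt N1485 F13906) (tt N2253 F16040) (tt N1630 F13907) (tt N3684 D11512) (tt N1483 (iv D9312)))
theorem Q2255 : ∀ i, i < 2255 → P i := stepQ 2254 Q2254 (allL N2254 (tt N3685 D11513) (tt N1484 (iv D9313)) (tt N3686 D11514) (tt N1486 F13908) (tt N1631 F13909) (tt N1490 F13910) (tt N3687 D11515))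
theorem Q2256 : ∀ i, i < 2256 → P i := stepQ 2255 Q2255 (allL N2255 (tt N2257 (iv F13917)) (tt N3688 D11516) (tt N3682 (iv F20382)) (tt N1487 F13911) (tt N1632 F13912) (tt N2249 F13913) (tt N1484 (iv D9314)))
theorem Q2257 : ∀ i, i < 2257 → P i := stepQ 2256 Q2256 (allL N2256 (tt N3689 D11517) (tt N1485 (iv D9315)) (tt N3690 D11518) (tt N1488 F13914) (tt N1633 F13915) (tt N3691 D11519) (tt N1491 F13916))
theorem Q2258 : ∀ i, i < 2258 → P i := stepQ 2257 Q2257 (allL N2257 (tt N2255 F13917) (tt N3692 D11520) (tt N3684 (iv F20390)) (tt N1489 F13918) (tt N1634 F13919) (tt N1485 (iv D9316)) (tt N2248 F13920))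
theorem Q2259 : ∀ i, i < 2259 → P i := stepQ 2258 Q2258 (allL N2258 (tt N1486 (iv D9317)) (tt N3693 D11521) (tt N3694 D11522) (tt N3685 (iv F20394)) (tt N1514 F13921) (tt N1492 F13922) (tt N2277 (iv F13956)))
theorem Q2260 : ∀ i, i < 2260 → P i := stepQ 2259 Q2259 (allL N2259 (tt N3694 (iv F20413)) (tt N3471 (iv F19980)) (tt N1486 (iv D9318)) (tt N3695 D11523) (tt N1515 F13923) (tt N1493 F13924) (tt N3696 D11524))
theorem Q2261 : ∀ i, i < 2261 → P i := stepQ 2260 Q2260 (allL N2260 (tt N2277 (iv F13954)) (tt N3697 D11525) (tt N3696 (iv F20417)) (tt N3687 (iv F20399)) (tt N1516 F13925) (tt N2274 (iv F13950)) (tt N1486 (iv D9319)))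
theorem Q2262 : ∀ i, i < 2262 → P i := stepQ 2261 Q2261 (allL N2261 (tt N3698 D11526) (tt N1487 (iv D9320)) (tt N3699 D11527) (tt N3688 (iv F20401)) (tt N1517 F13926) (tt N3700 D11528) (tt N3697 (iv F20420)))
theorem Q2263 : ∀ i, i < 2263 → P i := stepQ 2262 Q2262 (allL N2262 (tt N1488 (iv D9321)) (tt N3701 D11529) (tt N3702 D11530) (tt N3689 (iv F20403)) (tt N1518 F13927) (tt N2283 (iv F13968)) (tt N1495 F13928))
theorem Q2264 : ∀ i, i < 2264 → P i := stepQ 2263 Q2263 (allL N2263 (tt N3702 (iv F20426)) (tt N3475 (iv F19987)) (tt N1488 (iv D9322)) (tt N3703 D11531) (tt N1519 F13929) (tt N3704 D11532) (tt N1496 F13930))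
theorem Q2265 : ∀ i, i < 2265 → P i := stepQ 2264 Q2264 (allL N2264 (tt N2283 (iv F13966)) (tt N3705 D11533) (tt N3704 (iv F20430)) (tt N3691 (iv F20408)) (tt N1520 F13931) (tt N1488 (iv D9323)) (tt N2280 (iv F13962)))
theorem Q2266 : ∀ i, i < 2266 → P i := stepQ 2265 Q2265 (allL N2265 (tt N3706 D11534) (tt N1489 (iv D9324)) (tt N3707 D11535) (tt N3692 (iv F20410)) (tt N1521 F13932) (tt N3705 (iv F20433)) (tt N3708 D11536))
theorem Q2267 : ∀ i, i < 2267 → P i := stepQ 2266 Q2266 (allL N2266 (tt N1490 (iv D9325)) (tt N3709 D11537) (tt N3710 D11538) (tt N1492 F13933) (tt N1643 F13934) (tt N3685 (iv F20396)) (tt N3711 D11539))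
theorem Q2268 : ∀ i, i < 2268 → P i := stepQ 2267 Q2267 (allL N2267 (tt N3710 (iv F20440)) (tt N2267 F13935) (tt N1490 (iv D9326)) (tt N3712 D11540) (tt N1644 F13936) (tt N3686 (iv F20398)) (tt N3713 D11541))
theorem Q2269 : ∀ i, i < 2269 → P i := stepQ 2268 Q2268 (allL N2268 (tt N3711 (iv F20442)) (tt N2567 (iv F17802)) (tt N3713 (iv F20447)) (tt N1494 F13937) (tt N1645 F13938) (tt N3714 D11542) (tt N1490 (iv D9327)))
theorem Q2270 : ∀ i, i < 2270 → P i := stepQ 2269 Q2269 (allL N2269 (tt N1491 (iv D9328)) (tt N3715 D11543) (tt N3716 D11544) (tt N1495 F13939) (tt N1647 F13940) (tt N3717 D11545) (tt N3689 (iv F20405)))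
theorem Q2271 : ∀ i, i < 2271 → P i := stepQ 2270 Q2270 (allL N2270 (tt N3716 (iv F20455)) (tt N2270 F13941) (tt N1491 (iv D9329)) (tt N3718 D11546) (tt N1648 F13942) (tt N3719 D11547) (tt N3690 (iv F20407)))
theorem Q2272 : ∀ i, i < 2272 → P i := stepQ 2271 Q2271 (allL N2271 (tt N3717 (iv F20457)) (tt N2557 (iv F17783)) (tt N3719 (iv F20462)) (tt N1497 F13943) (tt N1649 F13944) (tt N1491 (iv D9330)) (tt N3720 D11548))
theorem Q2273 : ∀ i, i < 2273 → P i := stepQ 2272 Q2272 (allL N2272 (tt N3721 D11549) (tt N1492 (iv D9331)) (tt N3721 F20470) (tt N3709 (iv F20438)) (tt N1522 F13945) (tt N3722 D11550) (tt N3723 D11551))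
theorem Q2274 : ∀ i, i < 2274 → P i := stepQ 2273 Q2273 (allL N2273 (tt N1493 F13946) (tt N3724 D11552) (tt N1492 (iv D9332)) (tt N3725 D11553) (tt N1523 F13947) (tt N3694 (iv F20415)) (tt N3726 D11554))
theorem Q2275 : ∀ i, i < 2275 → P i := stepQ 2274 Q2274 (allL N2274 (tt N1494 F13948) (tt N3727 D11555) (tt N3726 (iv F20478)) (tt N3711 (iv F20443)) (tt N1524 F13949) (tt N2260 F13950) (tt N1492 (iv D9333)))
theorem Q2276 : ∀ i, i < 2276 → P i := stepQ 2275 Q2275 (allL N2275 (tt N3725 (iv F20476)) (tt N1500 F13951) (tt N3728 D11556) (tt N1493 (iv D9334)) (tt N3729 D11557) (tt N3695 (iv F20416)) (tt N3730 D11558))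
theorem Q2277 : ∀ i, i < 2277 → P i := stepQ 2276 Q2276 (allL N2276 (tt N3726 (iv F20477)) (tt N3731 D11559) (tt N1494 F13952) (tt N3730 (iv F20484)) (tt N1526 F13953) (tt N3732 D11560) (tt N1493 (iv D9335)))
theorem Q2278 : ∀ i, i < 2278 → P i := stepQ 2277 Q2277 (allL N2277 (tt N2260 F13954) (tt N3733 D11561) (tt N3732 (iv F20488)) (tt N3714 (iv F20450)) (tt N1527 F13955) (tt N1494 (iv D9336)) (tt N2258 F13956))
theorem Q2279 : ∀ i, i < 2279 → P i := stepQ 2278 Q2278 (allL N2278 (tt N3734 D11562) (tt N1495 (iv D9337)) (tt N3734 (iv F23430)) (tt N3715 (iv F20453)) (tt N1528 F13957) (tt N3735 D11564) (tt N3736 D11565))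
theorem Q2280 : ∀ i, i < 2280 → P i := stepQ 2279 Q2279 (allL N2279 (tt N1496 F13958) (tt N3737 D11566) (tt N1495 (iv D9338)) (tt N3738 D11567) (tt N1529 F13959) (tt N3739 D11568) (tt N3702 (iv F20428)))
theorem Q2281 : ∀ i, i < 2281 → P i := stepQ 2280 Q2280 (allL N2280 (tt N1497 F13960) (tt N3740 D11569) (tt N3739 (iv F20500)) (tt N3717 (iv F20458)) (tt N1530 F13961) (tt N1495 (iv D9339)) (tt N2264 F13962))
theorem Q2282 : ∀ i, i < 2282 → P i := stepQ 2281 Q2281 (allL N2281 (tt N3738 (iv F20498)) (tt N1504 F13963) (tt N3741 D11570) (tt N1496 (iv D9340)) (tt N3742 D11571) (tt N3743 D11572) (tt N3703 (iv F20429)))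
theorem Q2283 : ∀ i, i < 2283 → P i := stepQ 2282 Q2282 (allL N2282 (tt N3739 (iv F20499)) (tt N3744 D11573) (tt N1497 F13964) (tt N3743 (iv F20506)) (tt N1532 F13965) (tt N1496 (iv D9341)) (tt N3745 D11574))
theorem Q2284 : ∀ i, i < 2284 → P i := stepQ 2283 Q2283 (allL N2283 (tt N2264 F13966) (tt N3746 D11575) (tt N3745 (iv F20510)) (tt N3720 (iv F20465)) (tt N1533 F13967) (tt N2262 F13968) (tt N1497 (iv D9342)))
theorem Q2285 : ∀ i, i < 2285 → P i := stepQ 2284 Q2284 (allL N2284 (tt N3747 D11576) (tt N1498 (iv D9347)) (tt N2284 F16356) (tt N3748 D11577) (tt N1534 F13977) (tt N3749 D11578) (tt N3750 D11579))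
theorem Q2286 : ∀ i, i < 2286 → P i := stepQ 2285 Q2285 (allL N2285 (tt N1500 F13978) (tt N3748 (iv F20516)) (tt N2297 (iv F14058)) (tt N1498 (iv D9348)) (tt N3751 D11580) (tt N2297 (iv F16335)) (tt N2622 (iv F17903)))
theorem Q2287 : ∀ i, i < 2287 → P i := stepQ 2286 Q2286 (allL N2286 (tt N1501 F13979) (tt N3752 D11581) (tt N1499 F13980) (tt N2622 (iv F17901)) (tt N1536 F13981) (tt N1675 (iv F17178)) (tt N1498 (iv D9349)))
theorem Q2288 : ∀ i, i < 2288 → P i := stepQ 2287 Q2287 (allL N2287 (tt N3751 (iv F20521)) (tt N3729 (iv F20482)) (tt N3510 (iv F20051)) (tt N1538 F13985) (tt N1500 (iv D9352)) (tt N3510 (iv F20053)) (tt N3753 D11582))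
theorem Q2289 : ∀ i, i < 2289 → P i := stepQ 2288 Q2288 (allL N2288 (tt N2622 (iv F17900)) (tt N3754 D11583) (tt N2621 (iv F17899)) (tt N1501 F13986) (tt N3753 (iv F20525)) (tt N1676 F17237) (tt N1500 (iv D9353)))
theorem Q2290 : ∀ i, i < 2290 → P i := stepQ 2289 Q2289 (allL N2289 (tt N3755 D11584) (tt N1501 (iv D9354)) (tt N2295 (iv F17426)) (tt N3754 (iv F20527)) (tt N1540 F13987) (tt N3756 D11585) (tt N3731 (iv F20486)))
theorem Q2291 : ∀ i, i < 2291 → P i := stepQ 2290 Q2290 (allL N2290 (tt N3757 D11586) (tt N1502 (iv D9361)) (tt N2290 F17505) (tt N3758 D11587) (tt N1541 F14002) (tt N3759 D11588) (tt N3760 D11589))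
theorem Q2292 : ∀ i, i < 2292 → P i := stepQ 2291 Q2291 (allL N2291 (tt N1504 F14003) (tt N3758 (iv F20534)) (tt N2299 (iv F14115)) (tt N1502 (iv D9362)) (tt N3761 D11590) (tt N2632 (iv F17927)) (tt N2299 (iv F17481)))
theorem Q2293 : ∀ i, i < 2293 → P i := stepQ 2292 Q2292 (allL N2292 (tt N1505 F14004) (tt N3762 D11591) (tt N1503 F14005) (tt N2632 (iv F17926)) (tt N1543 F14006) (tt N1502 (iv D9363)) (tt N1681 (iv F16769)))
theorem Q2294 : ∀ i, i < 2294 → P i := stepQ 2293 Q2293 (allL N2293 (tt N3761 (iv F20539)) (tt N3742 (iv F20504)) (tt N3513 (iv F20058)) (tt N1545 F14010) (tt N1504 (iv D9366)) (tt N3763 D11592) (tt N3513 (iv F20060)))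
theorem Q2295 : ∀ i, i < 2295 → P i := stepQ 2294 Q2294 (allL N2294 (tt N2632 (iv F17925)) (tt N3764 D11593) (tt N2631 (iv F17924)) (tt N1505 F14011) (tt N3763 (iv F20543)) (tt N1504 (iv D9367)) (tt N1682 (iv F17479)))
theorem Q2296 : ∀ i, i < 2296 → P i := stepQ 2295 Q2295 (allL N2295 (tt N3765 D11594) (tt N1505 (iv D9368)) (tt N2289 F17426) (tt N3764 (iv F20545)) (tt N1547 F14012) (tt N3744 (iv F20508)) (tt N3766 D11595))
theorem Q2297 : ∀ i, i < 2297 → P i := stepQ 2296 Q2296 (allL N2296 (tt N3767 D11596) (tt N1506 (iv D9390)) (tt N1673 (iv F17215)) (tt N3768 D11597) (tt N1770 (iv F17191)) (tt N3769 D11598) (tt N3770 D11599))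
theorem Q2298 : ∀ i, i < 2298 → P i := stepQ 2297 Q2297 (allL N2297 (tt N2165 (iv F14914)) (tt N3768 (iv F20553)) (tt N2285 F14058) (tt N1506 (iv D9391)) (tt N3771 D11600) (tt N2285 F16335) (tt N1676 (iv F17236)))
theorem Q2299 : ∀ i, i < 2299 → P i := stepQ 2298 Q2298 (allL N2298 (tt N3772 D11601) (tt N1507 (iv D9421)) (tt N1679 (iv F16866)) (tt N3773 D11602) (tt N1782 F17482) (tt N3774 D11603) (tt N3775 D11604))
theorem Q2300 : ∀ i, i < 2300 → P i := stepQ 2299 Q2299 (allL N2299 (tt N2168 (iv F16765)) (tt N3773 (iv F20567)) (tt N2291 F14115) (tt N1507 (iv D9422)) (tt N3776 D11605) (tt N1682 F17480) (tt N2291 F17481))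
theorem Q2301 : ∀ i, i < 2301 → P i := stepQ 2300 Q2300 (allL N2300 (tt N1510 F14263) (tt N3777 D11606) (tt N3431 (iv F19920)) (tt N1690 F14264) (tt N3662 (iv F20340)) (tt N1508 (iv D9542)) (tt N2307 (iv F14277)))
theorem Q2302 : ∀ i, i < 2302 → P i := stepQ 2301 Q2301 (allL N2301 (tt N1511 F14265) (tt N3778 D11607) (tt N3432 (iv F19922)) (tt N1691 F14266) (tt N3663 (iv F20342)) (tt N2305 (iv F14272)) (tt N1508 (iv D9543)))
theorem Q2303 : ∀ i, i < 2303 → P i := stepQ 2302 Q2302 (allL N2302 (tt N3431 (iv F19919)) (tt N3779 D11608) (tt N1510 F14267) (tt N3442 (iv F19933)) (tt N3416 (iv F19883)) (tt N1509 (iv D9545)) (tt N3780 D11609))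
theorem Q2304 : ∀ i, i < 2304 → P i := stepQ 2303 Q2303 (allL N2303 (tt N3432 (iv F19921)) (tt N3781 D11610) (tt N1511 F14268) (tt N3443 (iv F19935)) (tt N3417 (iv F19886)) (tt N3782 D11611) (tt N1509 (iv D9546)))
theorem Q2305 : ∀ i, i < 2305 → P i := stepQ 2304 Q2304 (allL N2304 (tt N2309 (iv F16330)) (tt N1510 (iv D9547)) (tt N2308 F16331) (tt N1695 F14269) (tt N3666 (iv F20347)) (tt N1512 F14270) (tt N3783 D11612))
theorem Q2306 : ∀ i, i < 2306 → P i := stepQ 2305 Q2305 (allL N2305 (tt N2307 (iv F14275)) (tt N3784 D11613) (tt N3780 (iv F20583)) (tt N1696 F14271) (tt N3667 (iv F20349)) (tt N2301 F14272) (tt N1510 (iv D9548)))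
theorem Q2307 : ∀ i, i < 2307 → P i := stepQ 2306 Q2306 (allL N2306 (tt N2312 F34738) (tt N1511 (iv D9549)) (tt N2311 (iv F34740)) (tt N1697 F14273) (tt N3668 (iv F20351)) (tt N3785 D11616) (tt N1513 F14274))
theorem Q2308 : ∀ i, i < 2308 → P i := stepQ 2307 Q2307 (allL N2307 (tt N2305 F14275) (tt N3786 D11617) (tt N3782 (iv F20586)) (tt N1698 F14276) (tt N3669 (iv F20354)) (tt N1511 (iv D9550)) (tt N2300 F14277))
theorem Q2309 : ∀ i, i < 2309 → P i := stepQ 2308 Q2308 (allL N2308 (tt N1512 (iv D9551)) (tt N3787 D11618) (tt N2304 (iv F16331)) (tt N1699 F14278) (tt N3675 (iv F20370)) (tt N2309 F16329) (tt N3788 D11619))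
theorem Q2310 : ∀ i, i < 2310 → P i := stepQ 2309 Q2309 (allL N2309 (tt N2304 F16330) (tt N3523 (iv F20110)) (tt N1512 (iv D9552)) (tt N2653 (iv F17970)) (tt N3676 (iv F20373)) (tt N2308 (iv F16329)) (tt N3789 D11620))
theorem Q2311 : ∀ i, i < 2311 → P i := stepQ 2310 Q2310 (allL N2310 (tt N3788 (iv F20597)) (tt N2329 (iv F14300)) (tt N3789 (iv F20602)) (tt N1701 F14279) (tt N3677 (iv F20375)) (tt N3789 (iv F20604)) (tt N1512 (iv D9553)))
theorem Q2312 : ∀ i, i < 2312 → P i := stepQ 2311 Q2311 (allL N2311 (tt N1513 (iv D9554)) (tt N3790 D11621) (tt N2306 F34740) (tt N1702 F14280) (tt N3678 (iv F20376)) (tt N3791 D11623) (tt N2312 F34741))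
theorem Q2313 : ∀ i, i < 2313 → P i := stepQ 2312 Q2312 (allL N2312 (tt N2306 (iv F34738)) (tt N3526 (iv F20112)) (tt N1513 (iv D9555)) (tt N2657 (iv F34739)) (tt N3679 (iv F20377)) (tt N3792 D11625) (tt N2311 (iv F34741)))
theorem Q2314 : ∀ i, i < 2314 → P i := stepQ 2313 Q2313 (allL N2313 (tt N3791 (iv F20607)) (tt N2321 (iv F14290)) (tt N3792 (iv F20610)) (tt N1704 F14281) (tt N3680 (iv F20378)) (tt N1513 (iv D9556)) (tt N3792 F34746))
theorem Q2315 : ∀ i, i < 2315 → P i := stepQ 2314 Q2314 (allL N2314 (tt N3793 D11627) (tt N1514 (iv D9557)) (tt N3794 D11628) (tt N1705 F14282) (tt N3693 (iv F20412)) (tt N3795 D11629) (tt N3796 D11630))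
theorem Q2316 : ∀ i, i < 2316 → P i := stepQ 2315 Q2315 (allL N2315 (tt N1515 F14283) (tt N3797 D11631) (tt N1514 (iv D9558)) (tt N3798 D11632) (tt N3694 (iv F20414)) (tt N1523 F14284) (tt N2341 (iv F14316)))
theorem Q2317 : ∀ i, i < 2317 → P i := stepQ 2316 Q2316 (allL N2316 (tt N3798 (iv F20618)) (tt N3538 (iv F20126)) (tt N3799 D11633) (tt N1515 (iv D9559)) (tt N3800 D11634) (tt N1525 F14285) (tt N3801 D11635))
theorem Q2318 : ∀ i, i < 2318 → P i := stepQ 2317 Q2317 (allL N2317 (tt N2341 (iv F14314)) (tt N3802 D11636) (tt N1516 F14286) (tt N3801 (iv F20622)) (tt N3696 (iv F20418)) (tt N2335 (iv F14309)) (tt N1515 (iv D9560)))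
theorem Q2319 : ∀ i, i < 2319 → P i := stepQ 2318 Q2318 (allL N2318 (tt N3803 D11637) (tt N1516 (iv D9561)) (tt N3804 D11638) (tt N1709 F14287) (tt N3697 (iv F20419)) (tt N3805 D11639) (tt N1517 F14288))
theorem Q2320 : ∀ i, i < 2320 → P i := stepQ 2319 Q2319 (allL N2319 (tt N1517 (iv D9562)) (tt N3806 D11640) (tt N3807 D11641) (tt N1710 F14289) (tt N3698 (iv F20421)) (tt N3808 D11642) (tt N3803 (iv F20624)))
theorem Q2321 : ∀ i, i < 2321 → P i := stepQ 2320 Q2320 (allL N2320 (tt N3807 (iv F20628)) (tt N3542 (iv F20130)) (tt N1517 (iv D9563)) (tt N3809 D11643) (tt N3699 (iv F20422)) (tt N3810 D11644) (tt N3804 (iv F20625)))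
theorem Q2322 : ∀ i, i < 2322 → P i := stepQ 2321 Q2321 (allL N2321 (tt N3808 (iv F20629)) (tt N2313 F14290) (tt N3810 (iv F20634)) (tt N1712 F14291) (tt N3700 (iv F20424)) (tt N1517 (iv D9564)) (tt N3811 D11645))
theorem Q2323 : ∀ i, i < 2323 → P i := stepQ 2322 Q2322 (allL N2322 (tt N3812 D11646) (tt N1518 (iv D9565)) (tt N3813 D11647) (tt N1713 F14292) (tt N3701 (iv F20425)) (tt N3814 D11648) (tt N3815 D11649))
theorem Q2324 : ∀ i, i < 2324 → P i := stepQ 2323 Q2323 (allL N2323 (tt N1519 F14293) (tt N3816 D11650) (tt N1518 (iv D9566)) (tt N3817 D11651) (tt N3702 (iv F20427)) (tt N2354 (iv F14332)) (tt N1529 F14294))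
theorem Q2325 : ∀ i, i < 2325 → P i := stepQ 2324 Q2324 (allL N2324 (tt N3817 (iv F20642)) (tt N3546 (iv F20134)) (tt N3818 D11652) (tt N1519 (iv D9567)) (tt N3819 D11653) (tt N3820 D11654) (tt N1531 F14295))
theorem Q2326 : ∀ i, i < 2326 → P i := stepQ 2325 Q2325 (allL N2325 (tt N2354 (iv F14330)) (tt N3821 D11655) (tt N1520 F14296) (tt N3820 (iv F20646)) (tt N3704 (iv F20431)) (tt N1519 (iv D9568)) (tt N2348 (iv F14325)))
theorem Q2327 : ∀ i, i < 2327 → P i := stepQ 2326 Q2326 (allL N2326 (tt N3822 D11656) (tt N1520 (iv D9569)) (tt N3823 D11657) (tt N1717 F14297) (tt N3705 (iv F20432)) (tt N1521 F14298) (tt N3824 D11658))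
theorem Q2328 : ∀ i, i < 2328 → P i := stepQ 2327 Q2327 (allL N2327 (tt N1521 (iv D9570)) (tt N3825 D11659) (tt N3826 D11660) (tt N1718 F14299) (tt N3706 (iv F20434)) (tt N3822 (iv F20648)) (tt N3827 D11661))
theorem Q2329 : ∀ i, i < 2329 → P i := stepQ 2328 Q2328 (allL N2328 (tt N3826 (iv F20652)) (tt N3550 (iv F20138)) (tt N1521 (iv D9571)) (tt N3828 D11662) (tt N3707 (iv F20435)) (tt N3823 (iv F20649)) (tt N3829 D11663))
theorem Q2330 : ∀ i, i < 2330 → P i := stepQ 2329 Q2329 (allL N2329 (tt N3827 (iv F20653)) (tt N2310 F14300) (tt N3829 (iv F20658)) (tt N1720 F14301) (tt N3708 (iv F20437)) (tt N3830 D11664) (tt N1521 (iv D9572)))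
theorem Q2331 : ∀ i, i < 2331 → P i := stepQ 2330 Q2330 (allL N2330 (tt N1522 (iv D9573)) (tt N1721 F14302) (tt N1522 F20107) (tt N1721 F14303) (tt N3721 (iv F20469)) (tt N3831 D11665) (tt N3832 D11666))
theorem Q2332 : ∀ i, i < 2332 → P i := stepQ 2331 Q2331 (allL N2331 (tt N3831 (iv F20662)) (tt N3795 (iv F20615)) (tt N3831 (iv F20663)) (tt N1723 F14304) (tt N3722 (iv F20471)) (tt N1522 (iv D9575)) (tt N3833 D11667))
theorem Q2333 : ∀ i, i < 2333 → P i := stepQ 2332 Q2332 (allL N2332 (tt N3832 (iv F20665)) (tt N3834 D11668) (tt N3832 (iv F20666)) (tt N1724 F14305) (tt N3723 (iv F20472)) (tt N3835 D11669) (tt N1522 (iv D9576)))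
theorem Q2334 : ∀ i, i < 2334 → P i := stepQ 2333 Q2333 (allL N2333 (tt N1722 F20105) (tt N1523 (iv D9577)) (tt N1721 F20106) (tt N3836 D11670) (tt N3724 (iv F20474)) (tt N3837 D11671) (tt N3838 D11672))
theorem Q2335 : ∀ i, i < 2335 → P i := stepQ 2334 Q2334 (allL N2334 (tt N1525 F14306) (tt N3836 (iv F20677)) (tt N2731 (iv F18044)) (tt N1523 (iv D9578)) (tt N3839 D11673) (tt N3798 (iv F20619)) (tt N3840 D11674))
theorem Q2336 : ∀ i, i < 2336 → P i := stepQ 2335 Q2335 (allL N2335 (tt N1526 F14307) (tt N3841 D11675) (tt N1524 F14308) (tt N3840 (iv F20685)) (tt N3726 (iv F20479)) (tt N2317 F14309) (tt N1523 (iv D9579)))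
theorem Q2337 : ∀ i, i < 2337 → P i := stepQ 2336 Q2336 (allL N2336 (tt N3842 D11676) (tt N1524 (iv D9580)) (tt N3843 D11677) (tt N1728 F14310) (tt N3727 (iv F20481)) (tt N3844 D11678) (tt N3834 (iv F20671)))
theorem Q2338 : ∀ i, i < 2338 → P i := stepQ 2337 Q2337 (allL N2337 (tt N2731 (iv F18042)) (tt N3845 D11679) (tt N1525 (iv D9581)) (tt N2724 (iv F18036)) (tt N3846 D11680) (tt N3799 (iv F20620)) (tt N3847 D11681))
theorem Q2339 : ∀ i, i < 2339 → P i := stepQ 2338 Q2338 (allL N2338 (tt N3839 (iv F20683)) (tt N1538 F14311) (tt N3846 (iv F20692)) (tt N3729 (iv F20483)) (tt N1525 (iv D9582)) (tt N3800 (iv F20621)) (tt N3848 D11682))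
theorem Q2340 : ∀ i, i < 2340 → P i := stepQ 2339 Q2339 (allL N2339 (tt N3840 (iv F20684)) (tt N3849 D11683) (tt N3847 (iv F20693)) (tt N1526 F14312) (tt N3848 (iv F20694)) (tt N3850 D11684) (tt N1525 (iv D9583)))
theorem Q2341 : ∀ i, i < 2341 → P i := stepQ 2340 Q2340 (allL N2340 (tt N3851 D11685) (tt N1526 (iv D9584)) (tt N2383 (iv F17428)) (tt N3849 (iv F20695)) (tt N3731 (iv F20485)) (tt N3852 D11686) (tt N1540 F14313))
theorem Q2342 : ∀ i, i < 2342 → P i := stepQ 2341 Q2341 (allL N2341 (tt N2317 F14314) (tt N3853 D11687) (tt N1527 F14315) (tt N3850 (iv F20698)) (tt N3732 (iv F20489)) (tt N1526 (iv D9585)) (tt N2315 F14316))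
theorem Q2343 : ∀ i, i < 2343 → P i := stepQ 2342 Q2342 (allL N2342 (tt N3854 D11688) (tt N1527 (iv D9586)) (tt N3855 D11689) (tt N1737 F14317) (tt N3733 (iv F20491)) (tt N2812 (iv F18130)) (tt N3856 D11690))
theorem Q2344 : ∀ i, i < 2344 → P i := stepQ 2343 Q2343 (allL N2343 (tt N1528 (iv D9587)) (tt N1744 F14318) (tt N1528 (iv F23431)) (tt N1744 F14319) (tt N3734 (iv F20493)) (tt N3857 D11692) (tt N3858 D11693))
theorem Q2345 : ∀ i, i < 2345 → P i := stepQ 2344 Q2344 (allL N2344 (tt N3857 (iv F20705)) (tt N3859 D11698) (tt N3857 (iv F23432)) (tt N1746 F14320) (tt N3735 (iv F20495)) (tt N1528 (iv D9589)) (tt N3860 D11699))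
theorem Q2346 : ∀ i, i < 2346 → P i := stepQ 2345 Q2345 (allL N2345 (tt N3858 (iv F20707)) (tt N3815 (iv F20640)) (tt N3858 (iv F23433)) (tt N1747 F14321) (tt N3736 (iv F20496)) (tt N3861 D11700) (tt N1528 (iv D9590)))
theorem Q2347 : ∀ i, i < 2347 → P i := stepQ 2346 Q2346 (allL N2346 (tt N1745 (iv F23435)) (tt N1529 (iv D9591)) (tt N1744 F23434) (tt N3862 D11702) (tt N3737 (iv F20497)) (tt N3863 D11703) (tt N3864 D11704))
theorem Q2348 : ∀ i, i < 2348 → P i := stepQ 2347 Q2347 (allL N2347 (tt N1531 F14322) (tt N3862 (iv F20719)) (tt N2782 (iv F18094)) (tt N1529 (iv D9592)) (tt N3865 D11705) (tt N3866 D11706) (tt N3817 (iv F20643)))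
theorem Q2349 : ∀ i, i < 2349 → P i := stepQ 2348 Q2348 (allL N2348 (tt N1532 F14323) (tt N3867 D11707) (tt N1530 F14324) (tt N3866 (iv F20723)) (tt N3739 (iv F20501)) (tt N1529 (iv D9593)) (tt N2325 F14325))
theorem Q2350 : ∀ i, i < 2350 → P i := stepQ 2349 Q2349 (allL N2349 (tt N3868 D11708) (tt N1530 (iv D9594)) (tt N3869 D11709) (tt N1751 F14326) (tt N3740 (iv F20503)) (tt N3859 (iv F20713)) (tt N3870 D11710))
theorem Q2351 : ∀ i, i < 2351 → P i := stepQ 2350 Q2350 (allL N2350 (tt N2782 (iv F18092)) (tt N3871 D11711) (tt N1531 (iv D9595)) (tt N2775 (iv F18086)) (tt N3872 D11712) (tt N3873 D11713) (tt N3818 (iv F20644)))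
theorem Q2352 : ∀ i, i < 2352 → P i := stepQ 2351 Q2351 (allL N2351 (tt N3865 (iv F20721)) (tt N1545 F14327) (tt N3872 (iv F20730)) (tt N3742 (iv F20505)) (tt N1531 (iv D9596)) (tt N3874 D11714) (tt N3819 (iv F20645)))
theorem Q2353 : ∀ i, i < 2353 → P i := stepQ 2352 Q2352 (allL N2352 (tt N3866 (iv F20722)) (tt N3875 D11715) (tt N3873 (iv F20731)) (tt N1532 F14328) (tt N3874 (iv F20732)) (tt N1531 (iv D9597)) (tt N3876 D11716))
theorem Q2354 : ∀ i, i < 2354 → P i := stepQ 2353 Q2353 (allL N2353 (tt N3877 D11717) (tt N1532 (iv D9598)) (tt N2369 F17427) (tt N3875 (iv F20733)) (tt N3744 (iv F20507)) (tt N1547 F14329) (tt N3878 D11718))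
theorem Q2355 : ∀ i, i < 2355 → P i := stepQ 2354 Q2354 (allL N2354 (tt N2325 F14330) (tt N3879 D11719) (tt N1533 F14331) (tt N3876 (iv F20736)) (tt N3745 (iv F20511)) (tt N2323 F14332) (tt N1532 (iv D9599)))
theorem Q2356 : ∀ i, i < 2356 → P i := stepQ 2355 Q2355 (allL N2355 (tt N3880 D11720) (tt N1533 (iv D9600)) (tt N3881 D11721) (tt N1760 F14333) (tt N3746 (iv F20513)) (tt N3882 D11722) (tt N2761 (iv F18072)))
theorem Q2357 : ∀ i, i < 2357 → P i := stepQ 2356 Q2356 (allL N2356 (tt N1534 (iv D9610)) (tt N3883 D11723) (tt N2356 F16355) (tt N3884 D11724) (tt N3747 (iv F20515)) (tt N3885 D11725) (tt N3886 D11726))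
theorem Q2358 : ∀ i, i < 2358 → P i := stepQ 2357 Q2357 (allL N2357 (tt N3884 (iv F20744)) (tt N1535 F14350) (tt N3887 D11727) (tt N1534 (iv D9611)) (tt N3888 D11728) (tt N3889 D11729) (tt N3890 D11730))
theorem Q2359 : ∀ i, i < 2359 → P i := stepQ 2358 Q2358 (allL N2358 (tt N3885 (iv F20745)) (tt N2820 (iv F18140)) (tt N2358 F16357) (tt N3889 (iv F20750)) (tt N3749 (iv F20518)) (tt N1534 (iv D9612)) (tt N3891 D11731))
theorem Q2360 : ∀ i, i < 2360 → P i := stepQ 2359 Q2359 (allL N2359 (tt N3886 (iv F20747)) (tt N3892 D11732) (tt N2359 F16358) (tt N3890 (iv F20751)) (tt N3750 (iv F20520)) (tt N3893 D11733) (tt N1534 (iv D9613)))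
theorem Q2361 : ∀ i, i < 2361 → P i := stepQ 2360 Q2360 (allL N2360 (tt N1538 F14351) (tt N3888 (iv F20749)) (tt N2393 (iv F14474)) (tt N3751 (iv F20522)) (tt N1535 (iv D9614)) (tt N2822 (iv F18145)) (tt N3894 D11734))
theorem Q2362 : ∀ i, i < 2362 → P i := stepQ 2361 Q2361 (allL N2361 (tt N1539 F14352) (tt N3895 D11735) (tt N2394 (iv F14476)) (tt N1536 F14353) (tt N3894 (iv F20759)) (tt N1776 (iv F17186)) (tt N1535 (iv D9615)))
theorem Q2363 : ∀ i, i < 2363 → P i := stepQ 2362 Q2362 (allL N2362 (tt N3896 D11736) (tt N1536 (iv D9616)) (tt N3640 (iv F20240)) (tt N3895 (iv F20761)) (tt N3752 (iv F20523)) (tt N3897 D11737) (tt N3892 (iv F20754)))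
theorem Q2364 : ∀ i, i < 2364 → P i := stepQ 2363 Q2363 (allL N2363 (tt N3898 D11738) (tt N1537 (iv D9619)) (tt N3845 (iv F20691)) (tt N2385 (iv F14447)) (tt N3899 D11739) (tt N3900 D11740) (tt N3901 D11741))
theorem Q2365 : ∀ i, i < 2365 → P i := stepQ 2364 Q2364 (allL N2364 (tt N2393 (iv F14473)) (tt N3899 (iv F20763)) (tt N1538 F14358) (tt N3902 D11742) (tt N1537 (iv D9620)) (tt N3633 (iv F20229)) (tt N3903 D11743))
theorem Q2366 : ∀ i, i < 2366 → P i := stepQ 2365 Q2365 (allL N2365 (tt N2394 (iv F14475)) (tt N3904 D11744) (tt N1539 F14359) (tt N2387 (iv F14452)) (tt N3903 (iv F20765)) (tt N1777 (iv F17235)) (tt N1537 (iv D9621)))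
theorem Q2367 : ∀ i, i < 2367 → P i := stepQ 2366 Q2366 (allL N2366 (tt N3894 (iv F20758)) (tt N3905 D11745) (tt N3903 (iv F20764)) (tt N3753 (iv F20524)) (tt N1539 F14360) (tt N1778 F17408) (tt N1538 (iv D9622)))
theorem Q2368 : ∀ i, i < 2368 → P i := stepQ 2367 Q2367 (allL N2367 (tt N3906 D11746) (tt N1539 (iv D9623)) (tt N3907 D11747) (tt N1540 F14361) (tt N3905 (iv F20767)) (tt N3908 D11748) (tt N3849 (iv F20696)))
theorem Q2369 : ∀ i, i < 2369 → P i := stepQ 2368 Q2368 (allL N2368 (tt N1540 (iv D9625)) (tt N3909 D11749) (tt N2382 (iv F17425)) (tt N3906 (iv F20768)) (tt N3755 (iv F20528)) (tt N3910 D11750) (tt N3851 (iv F20700)))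
theorem Q2370 : ∀ i, i < 2370 → P i := stepQ 2369 Q2369 (allL N2369 (tt N3910 (iv F20771)) (tt N1742 F17430) (tt N2353 (iv F17427)) (tt N3908 (iv F20770)) (tt N3756 (iv F20531)) (tt N1540 (iv D9626)) (tt N3911 D11751))
theorem Q2371 : ∀ i, i < 2371 → P i := stepQ 2370 Q2370 (allL N2370 (tt N1541 (iv D9639)) (tt N3912 D11752) (tt N2370 F17504) (tt N3913 D11753) (tt N3757 (iv F20533)) (tt N3914 D11754) (tt N3915 D11755))
theorem Q2372 : ∀ i, i < 2372 → P i := stepQ 2371 Q2371 (allL N2371 (tt N3913 (iv F20777)) (tt N1542 F14385) (tt N3916 D11756) (tt N1541 (iv D9640)) (tt N3917 D11757) (tt N3918 D11758) (tt N3919 D11759))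
theorem Q2373 : ∀ i, i < 2373 → P i := stepQ 2372 Q2372 (allL N2372 (tt N3914 (iv F20778)) (tt N3920 D11760) (tt N2372 F17506) (tt N3918 (iv F20783)) (tt N3759 (iv F20536)) (tt N1541 (iv D9641)) (tt N3921 D11761))
theorem Q2374 : ∀ i, i < 2374 → P i := stepQ 2373 Q2373 (allL N2373 (tt N3915 (iv F20780)) (tt N2840 (iv F18166)) (tt N2373 F17507) (tt N3919 (iv F20784)) (tt N3760 (iv F20538)) (tt N3922 D11762) (tt N1541 (iv D9642)))
theorem Q2375 : ∀ i, i < 2375 → P i := stepQ 2374 Q2374 (allL N2374 (tt N1545 F14386) (tt N3917 (iv F20782)) (tt N2410 (iv F14586)) (tt N3761 (iv F20540)) (tt N1542 (iv D9643)) (tt N3923 D11763) (tt N2842 (iv F18172)))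
theorem Q2376 : ∀ i, i < 2376 → P i := stepQ 2375 Q2375 (allL N2375 (tt N1546 F14387) (tt N3924 D11764) (tt N2411 (iv F14588)) (tt N1543 F14388) (tt N3923 (iv F20792)) (tt N1542 (iv D9644)) (tt N1788 (iv F16841)))
theorem Q2377 : ∀ i, i < 2377 → P i := stepQ 2376 Q2376 (allL N2376 (tt N3925 D11765) (tt N1543 (iv D9645)) (tt N3634 (iv F20231)) (tt N3924 (iv F20794)) (tt N3762 (iv F20541)) (tt N3920 (iv F20785)) (tt N3926 D11766))
theorem Q2378 : ∀ i, i < 2378 → P i := stepQ 2377 Q2377 (allL N2377 (tt N3927 D11767) (tt N1544 (iv D9648)) (tt N3871 (iv F20729)) (tt N2402 (iv F14558)) (tt N3928 D11768) (tt N3929 D11769) (tt N3900 (iv F34278)))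
theorem Q2379 : ∀ i, i < 2379 → P i := stepQ 2378 Q2378 (allL N2378 (tt N2410 (iv F14585)) (tt N3928 (iv F20796)) (tt N1545 F14393) (tt N3930 D11771) (tt N1544 (iv D9649)) (tt N3931 D11772) (tt N3639 (iv F20239)))
theorem Q2380 : ∀ i, i < 2380 → P i := stepQ 2379 Q2379 (allL N2379 (tt N2411 (iv F14587)) (tt N3932 D11773) (tt N1546 F14394) (tt N2404 (iv F14563)) (tt N3931 (iv F20798)) (tt N1544 (iv D9650)) (tt N1789 (iv F17474)))
theorem Q2381 : ∀ i, i < 2381 → P i := stepQ 2380 Q2380 (allL N2380 (tt N3923 (iv F20791)) (tt N3933 D11774) (tt N3931 (iv F20797)) (tt N3763 (iv F20542)) (tt N1546 F14395) (tt N1545 (iv D9651)) (tt N1790 (iv F17475)))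
theorem Q2382 : ∀ i, i < 2382 → P i := stepQ 2381 Q2381 (allL N2381 (tt N3934 D11775) (tt N1546 (iv D9652)) (tt N3935 D11776) (tt N1547 F14396) (tt N3933 (iv F20800)) (tt N3875 (iv F20734)) (tt N3936 D11777))
theorem Q2383 : ∀ i, i < 2383 → P i := stepQ 2382 Q2382 (allL N2382 (tt N1547 (iv D9654)) (tt N3937 D11778) (tt N2368 F17425) (tt N3934 (iv F20801)) (tt N3765 (iv F20547)) (tt N3877 (iv F20738)) (tt N3938 D11779))
theorem Q2384 : ∀ i, i < 2384 → P i := stepQ 2383 Q2383 (allL N2383 (tt N3938 (iv F20804)) (tt N1765 (iv F17429)) (tt N2340 F17428) (tt N3936 (iv F20803)) (tt N3766 (iv F20550)) (tt N3939 D11780) (tt N1547 (iv D9655)))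
theorem Q2385 : ∀ i, i < 2385 → P i := stepQ 2384 Q2384 (allL N2384 (tt N2384 F16365) (tt N3940 D11781) (tt N1548 (iv D9676)) (tt N3941 D11782) (tt N2481 F32466) (tt N2384 F14440) (tt N2478 (iv F32469)))
theorem Q2386 : ∀ i, i < 2386 → P i := stepQ 2385 Q2385 (allL N2385 (tt N3026 (iv F28849)) (tt N1549 (iv D9680)) (tt N3940 (iv F20810)) (tt N2363 F14447) (tt N3018 (iv F28864)) (tt N3017 F28846) (tt N3942 D11791))
theorem Q2387 : ∀ i, i < 2387 → P i := stepQ 2386 Q2386 (allL N2386 (tt N1554 F14448) (tt N3018 F28875) (tt N1550 F14449) (tt N3020 (iv F28880)) (tt N1549 (iv D9681)) (tt N2854 (iv F18186)) (tt N2447 (iv F32470)))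
theorem Q2388 : ∀ i, i < 2388 → P i := stepQ 2387 Q2387 (allL N2387 (tt N1555 F14450) (tt N3943 D11793) (tt N1551 F14451) (tt N2365 F14452) (tt N2447 F32477) (tt N1799 (iv F17184)) (tt N1549 (iv D9682)))
theorem Q2389 : ∀ i, i < 2389 → P i := stepQ 2388 Q2388 (allL N2388 (tt N1552 (iv D9690)) (tt N3944 D11797) (tt N1574 F14467) (tt N3945 D11798) (tt N3946 D11799) (tt N3947 D11800) (tt N3948 D11801))
theorem Q2390 : ∀ i, i < 2390 → P i := stepQ 2389 Q2389 (allL N2389 (tt N3945 (iv F20844)) (tt N1553 F14468) (tt N3945 (iv F20845)) (tt N1552 (iv D9691)) (tt N3949 D11802) (tt N3950 D11803) (tt N3951 D11804))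
theorem Q2391 : ∀ i, i < 2391 → P i := stepQ 2390 Q2390 (allL N2390 (tt N3946 (iv F20848)) (tt N1554 F14469) (tt N1575 F14470) (tt N3952 D11805) (tt N1552 (iv D9692)) (tt N3953 D11806) (tt N3954 D11807))
theorem Q2392 : ∀ i, i < 2392 → P i := stepQ 2391 Q2391 (allL N2391 (tt N3947 (iv F20850)) (tt N3647 (iv F20247)) (tt N1576 F14471) (tt N3950 (iv F20855)) (tt N3953 (iv F20859)) (tt N1552 (iv D9693)) (tt N3955 D11808))
theorem Q2393 : ∀ i, i < 2393 → P i := stepQ 2392 Q2392 (allL N2392 (tt N3948 (iv F20852)) (tt N3956 D11809) (tt N1577 F14472) (tt N3951 (iv F20856)) (tt N3954 (iv F20861)) (tt N3957 D11810) (tt N1552 (iv D9694)))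
theorem Q2394 : ∀ i, i < 2394 → P i := stepQ 2393 Q2393 (allL N2393 (tt N2364 F14473) (tt N3949 (iv F20854)) (tt N2360 F14474) (tt N3958 D11811) (tt N1553 (iv D9695)) (tt N3649 (iv F20250)) (tt N3959 D11812))
theorem Q2395 : ∀ i, i < 2395 → P i := stepQ 2394 Q2394 (allL N2394 (tt N2365 F14475) (tt N3960 D11813) (tt N2361 F14476) (tt N1555 F14477) (tt N3959 (iv F20872)) (tt N1802 (iv F17234)) (tt N1553 (iv D9696)))
theorem Q2396 : ∀ i, i < 2396 → P i := stepQ 2395 Q2395 (allL N2395 (tt N3020 F28882) (tt N3952 (iv F20857)) (tt N3961 D11814) (tt N1554 (iv D9697)) (tt N3958 (iv F20869)) (tt N3650 (iv F20252)) (tt N3962 D11815))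
theorem Q2397 : ∀ i, i < 2397 → P i := stepQ 2396 Q2396 (allL N2396 (tt N2447 F32475) (tt N3963 D11816) (tt N1556 F14478) (tt N3962 (iv F20880)) (tt N1555 F14479) (tt N1803 F17407) (tt N1554 (iv D9698)))
theorem Q2398 : ∀ i, i < 2398 → P i := stepQ 2397 Q2397 (allL N2397 (tt N3964 D11817) (tt N1555 (iv D9699)) (tt N3965 D11818) (tt N3960 (iv F20874)) (tt N3963 (iv F20882)) (tt N3966 D11819) (tt N3956 (iv F20864)))
theorem Q2399 : ∀ i, i < 2399 → P i := stepQ 2398 Q2398 (allL N2398 (tt N2874 (iv F32514)) (tt N1556 (iv D9701)) (tt N3967 D11821) (tt N1570 F14483) (tt N1557 F14484) (tt N1821 (iv F32515)) (tt N1582 F14485))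
theorem Q2400 : ∀ i, i < 2400 → P i := stepQ 2399 Q2399 (allL N2399 (tt N1557 (iv D9703)) (tt N2876 (iv F32596)) (tt N3968 D11822) (tt N1558 F14490) (tt N2874 F32539) (tt N1826 (iv F17445)) (tt N1584 F14491))
theorem Q2401 : ∀ i, i < 2401 → P i := stepQ 2400 Q2400 (allL N2400 (tt N3968 (iv F20892)) (tt N3965 (iv F20883)) (tt N1557 (iv D9704)) (tt N3969 D11823) (tt N3967 (iv F20889)) (tt N1827 F17447) (tt N1585 F14492))
theorem Q2402 : ∀ i, i < 2402 → P i := stepQ 2401 Q2401 (allL N2401 (tt N2401 F17512) (tt N3970 D11824) (tt N1559 (iv D9733)) (tt N3971 D11825) (tt N2489 (iv F32958)) (tt N2486 (iv F32961)) (tt N2401 F16103))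
theorem Q2403 : ∀ i, i < 2403 → P i := stepQ 2402 Q2402 (allL N2402 (tt N3027 (iv F34223)) (tt N1560 (iv D9740)) (tt N3970 (iv F20897)) (tt N2377 F14558) (tt N3019 F34198) (tt N3972 D11833) (tt N3017 (iv F34228)))
theorem Q2404 : ∀ i, i < 2404 → P i := stepQ 2403 Q2403 (allL N2403 (tt N1565 F14559) (tt N3019 (iv F34185)) (tt N1561 F14560) (tt N3021 F34177) (tt N1560 (iv D9741)) (tt N2477 F32922) (tt N2872 (iv F18231)))
theorem Q2405 : ∀ i, i < 2405 → P i := stepQ 2404 Q2404 (allL N2404 (tt N1566 F14561) (tt N3973 D11836) (tt N1562 F14562) (tt N2379 F14563) (tt N2477 (iv F32887)) (tt N1560 (iv D9742)) (tt N1812 (iv F16636)))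
theorem Q2406 : ∀ i, i < 2406 → P i := stepQ 2405 Q2405 (allL N2405 (tt N1563 (iv D9750)) (tt N3974 D11840) (tt N1591 F14579) (tt N3975 D11841) (tt N3976 D11842) (tt N3977 D11843) (tt N3978 D11844))
theorem Q2407 : ∀ i, i < 2407 → P i := stepQ 2406 Q2406 (allL N2406 (tt N3975 (iv F20931)) (tt N1564 F14580) (tt N3975 (iv F20932)) (tt N1563 (iv D9751)) (tt N3979 D11845) (tt N3980 D11846) (tt N3981 D11847))
theorem Q2408 : ∀ i, i < 2408 → P i := stepQ 2407 Q2407 (allL N2407 (tt N3976 (iv F20935)) (tt N1565 F14581) (tt N1592 F14582) (tt N3982 D11848) (tt N1563 (iv D9752)) (tt N3983 D11849) (tt N3984 D11850))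
theorem Q2409 : ∀ i, i < 2409 → P i := stepQ 2408 Q2408 (allL N2408 (tt N3977 (iv F20937)) (tt N3985 D11851) (tt N1593 F14583) (tt N3980 (iv F20942)) (tt N3983 (iv F20946)) (tt N1563 (iv D9753)) (tt N3986 D11852))
theorem Q2410 : ∀ i, i < 2410 → P i := stepQ 2409 Q2409 (allL N2409 (tt N3978 (iv F20939)) (tt N3657 (iv F20272)) (tt N1594 F14584) (tt N3981 (iv F20943)) (tt N3984 (iv F20948)) (tt N3987 D11853) (tt N1563 (iv D9754)))
theorem Q2411 : ∀ i, i < 2411 → P i := stepQ 2410 Q2410 (allL N2410 (tt N2378 F14585) (tt N3979 (iv F20941)) (tt N2374 F14586) (tt N3988 D11854) (tt N1564 (iv D9755)) (tt N3989 D11855) (tt N3658 (iv F20276)))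
theorem Q2412 : ∀ i, i < 2412 → P i := stepQ 2411 Q2411 (allL N2411 (tt N2379 F14587) (tt N3990 D11856) (tt N2375 F14588) (tt N1566 F14589) (tt N3989 (iv F20959)) (tt N1564 (iv D9756)) (tt N1815 F17476))
theorem Q2413 : ∀ i, i < 2413 → P i := stepQ 2412 Q2412 (allL N2412 (tt N3021 (iv F34174)) (tt N3982 (iv F20944)) (tt N3991 D11857) (tt N1565 (iv D9757)) (tt N3988 (iv F20956)) (tt N3992 D11858) (tt N3659 (iv F20277)))
theorem Q2414 : ∀ i, i < 2414 → P i := stepQ 2413 Q2413 (allL N2413 (tt N2477 (iv F32886)) (tt N3993 D11859) (tt N1567 F14590) (tt N3992 (iv F20967)) (tt N1566 F14591) (tt N1565 (iv D9758)) (tt N1816 F17501))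
theorem Q2415 : ∀ i, i < 2415 → P i := stepQ 2414 Q2414 (allL N2414 (tt N3994 D11860) (tt N1566 (iv D9759)) (tt N3995 D11861) (tt N3990 (iv F20961)) (tt N3993 (iv F20969)) (tt N3985 (iv F20949)) (tt N3996 D11862))
theorem Q2416 : ∀ i, i < 2416 → P i := stepQ 2415 Q2415 (allL N2415 (tt N2856 F32742) (tt N1567 (iv D9761)) (tt N3997 D11864) (tt N1571 F14595) (tt N1568 F14596) (tt N1599 F14597) (tt N1832 F32743))
theorem Q2417 : ∀ i, i < 2417 → P i := stepQ 2416 Q2416 (allL N2416 (tt N1568 (iv D9763)) (tt N2858 (iv F32792)) (tt N3998 D11865) (tt N1569 F14602) (tt N2856 F32746) (tt N1601 F14603) (tt N1837 F17485))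
theorem Q2418 : ∀ i, i < 2418 → P i := stepQ 2417 Q2417 (allL N2417 (tt N3998 (iv F20979)) (tt N3995 (iv F20970)) (tt N1568 (iv D9764)) (tt N3999 D11866) (tt N3997 (iv F20976)) (tt N1602 F14604) (tt N1838 F17490))
theorem Q2419 : ∀ i, i < 2419 → P i := stepQ 2418 Q2418 (allL N2418 (tt N1572 (iv D9851)) (tt N4000 D11867) (tt N2418 F17524) (tt N1574 F17525) (tt N2420 F29057) (tt N2419 F29058) (tt N4001 D11870))
theorem Q2420 : ∀ i, i < 2420 → P i := stepQ 2419 Q2419 (allL N2419 (tt N2420 (iv F29055)) (tt N1573 F17526) (tt N2419 F17527) (tt N2425 F29050) (tt N1572 (iv D9852)) (tt N2418 (iv F29058)) (tt N4002 D11873))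
theorem Q2421 : ∀ i, i < 2421 → P i := stepQ 2420 Q2420 (allL N2420 (tt N2419 F29055) (tt N2484 (iv F17652)) (tt N2420 F17528) (tt N1576 F17529) (tt N2418 (iv F29057)) (tt N1572 (iv D9853)) (tt N4003 D11874))
theorem Q2422 : ∀ i, i < 2422 → P i := stepQ 2421 Q2421 (allL N2421 (tt N4001 (iv F20990)) (tt N3400 (iv F19819)) (tt N2421 F17530) (tt N1577 F17531) (tt N4002 (iv F20998)) (tt N4002 F29068) (tt N1572 (iv D9854)))
theorem Q2423 : ∀ i, i < 2423 → P i := stepQ 2422 Q2422 (allL N2422 (tt N1578 F17532) (tt N2425 F29049) (tt N2089 F17534) (tt N1573 (iv D9855)) (tt N1578 F17533) (tt N2433 (iv F17548)) (tt N3401 (iv F19824)))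
theorem Q2424 : ∀ i, i < 2424 → P i := stepQ 2423 Q2423 (allL N2423 (tt N4004 D11876) (tt N1574 (iv D9856)) (tt N4005 D11877) (tt N4000 (iv F20984)) (tt N4006 D11878) (tt N4007 D11879) (tt N4008 D11880))
theorem Q2425 : ∀ i, i < 2425 → P i := stepQ 2424 Q2424 (allL N2424 (tt N1575 F17535) (tt N4006 (iv F21006)) (tt N3946 (iv F20849)) (tt N2428 F29060) (tt N1574 (iv D9857)) (tt N2427 F29061) (tt N4009 D11883))
theorem Q2426 : ∀ i, i < 2426 → P i := stepQ 2425 Q2425 (allL N2425 (tt N1576 F17536) (tt N2422 (iv F29049)) (tt N3947 (iv F20851)) (tt N2419 (iv F29050)) (tt N2427 (iv F29051)) (tt N1574 (iv D9858)) (tt N2432 (iv F17544)))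
theorem Q2427 : ∀ i, i < 2427 → P i := stepQ 2426 Q2426 (allL N2426 (tt N1577 F17537) (tt N4010 D11885) (tt N3948 (iv F20853)) (tt N4001 (iv F20992)) (tt N4009 (iv F21011)) (tt N2430 (iv F17541)) (tt N1574 (iv D9859)))
theorem Q2428 : ∀ i, i < 2428 → P i := stepQ 2427 Q2427 (allL N2427 (tt N2428 (iv F29056)) (tt N1578 F17538) (tt N4011 D11886) (tt N1575 (iv D9860)) (tt N2425 F29051) (tt N2424 (iv F29061)) (tt N4012 D11888))
theorem Q2429 : ∀ i, i < 2429 → P i := stepQ 2428 Q2428 (allL N2428 (tt N2427 F29056) (tt N3359 (iv F19758)) (tt N3953 (iv F20858)) (tt N2424 (iv F29060)) (tt N1576 F17539) (tt N1575 (iv D9861)) (tt N4013 D11889))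
theorem Q2430 : ∀ i, i < 2430 → P i := stepQ 2429 Q2429 (allL N2429 (tt N4009 (iv F21010)) (tt N4014 D11890) (tt N3954 (iv F20860)) (tt N4012 (iv F21013)) (tt N1577 F17540) (tt N4012 F29072) (tt N1575 (iv D9862)))
theorem Q2431 : ∀ i, i < 2431 → P i := stepQ 2430 Q2430 (allL N2430 (tt N2432 (iv F17543)) (tt N4015 D11892) (tt N3955 (iv F20862)) (tt N4003 (iv F21000)) (tt N4013 (iv F21014)) (tt N2426 F17541) (tt N1576 (iv D9863)))
theorem Q2432 : ∀ i, i < 2432 → P i := stepQ 2431 Q2431 (allL N2431 (tt N4016 D11893) (tt N1577 (iv D9864)) (tt N4017 D11894) (tt N3400 (iv F19820)) (tt N4014 (iv F21016)) (tt N4018 D11895) (tt N1580 F17542))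
theorem Q2433 : ∀ i, i < 2433 → P i := stepQ 2432 Q2432 (allL N2432 (tt N2430 F17543) (tt N4019 D11896) (tt N3957 (iv F20866)) (tt N4002 (iv F29059)) (tt N4012 (iv F29063)) (tt N1577 (iv D9865)) (tt N2425 F17544))
theorem Q2434 : ∀ i, i < 2434 → P i := stepQ 2433 Q2433 (allL N2433 (tt N2089 F17545) (tt N4007 (iv F29066)) (tt N1578 (iv D9866)) (tt N1611 F17546) (tt N2089 F17547) (tt N2422 F17548) (tt N4020 D11898))
theorem Q2435 : ∀ i, i < 2435 → P i := stepQ 2434 Q2434 (allL N2434 (tt N3401 (iv F19821)) (tt N4021 D11899) (tt N4020 (iv F21026)) (tt N1579 F17549) (tt N3401 (iv F19822)) (tt N4020 (iv F21029)) (tt N1578 (iv D9867)))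
theorem Q2436 : ∀ i, i < 2436 → P i := stepQ 2435 Q2435 (allL N2435 (tt N4022 D11900) (tt N1579 (iv D9868)) (tt N4023 D11901) (tt N4021 (iv F21030)) (tt N1580 F17550) (tt N4024 D11902) (tt N4014 (iv F21017)))
theorem Q2437 : ∀ i, i < 2437 → P i := stepQ 2436 Q2436 (allL N2436 (tt N2090 F17551) (tt N4025 D11903) (tt N1583 F17552) (tt N4020 (iv F21027)) (tt N1581 F17553) (tt N1579 (iv D9869)) (tt N1611 F17554))
theorem Q2438 : ∀ i, i < 2438 → P i := stepQ 2437 Q2437 (allL N2437 (tt N1580 (iv D9870)) (tt N4026 D11904) (tt N4027 D11905) (tt N3397 (iv F19815)) (tt N4022 (iv F21031)) (tt N4028 D11906) (tt N4016 (iv F21021)))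
theorem Q2439 : ∀ i, i < 2439 → P i := stepQ 2438 Q2438 (allL N2438 (tt N4027 (iv F21036)) (tt N1585 F17555) (tt N1580 (iv D9871)) (tt N4029 D11907) (tt N4023 (iv F21033)) (tt N4030 D11908) (tt N4017 (iv F21022)))
theorem Q2440 : ∀ i, i < 2440 → P i := stepQ 2439 Q2439 (allL N2439 (tt N4028 (iv F21037)) (tt N4031 D11909) (tt N4030 (iv F21040)) (tt N3399 (iv F19818)) (tt N4024 (iv F21034)) (tt N1580 (iv D9872)) (tt N4032 D11910))
theorem Q2441 : ∀ i, i < 2441 → P i := stepQ 2440 Q2440 (allL N2440 (tt N4033 D11911) (tt N1581 (iv D9873)) (tt N4034 D11912) (tt N2091 F17556) (tt N4025 (iv F21035)) (tt N4031 (iv F21042)) (tt N4035 D11913))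
theorem Q2442 : ∀ i, i < 2442 → P i := stepQ 2441 Q2441 (allL N2441 (tt N1582 (iv D9874)) (tt N3325 (iv F32579)) (tt N4036 D11914) (tt N1606 F17557) (tt N1584 F17558) (tt N2859 (iv F32550)) (tt N2874 F32533))
theorem Q2443 : ∀ i, i < 2443 → P i := stepQ 2442 Q2442 (allL N2442 (tt N4036 (iv F21049)) (tt N4023 (iv F21032)) (tt N1582 (iv D9875)) (tt N4037 D11915) (tt N1585 F17559) (tt N2860 (iv F32558)) (tt N3967 (iv F20891)))
theorem Q2444 : ∀ i, i < 2444 → P i := stepQ 2443 Q2443 (allL N2443 (tt N3323 F32622) (tt N1584 (iv D9878)) (tt N4038 D11919) (tt N1588 F17564) (tt N3325 F32623) (tt N3325 (iv F19582)) (tt N2095 F17565))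
theorem Q2445 : ∀ i, i < 2445 → P i := stepQ 2444 Q2444 (allL N2444 (tt N1585 F17566) (tt N4039 D11920) (tt N1584 (iv D9879)) (tt N4040 D11921) (tt N4036 (iv F21050)) (tt N2904 F18452) (tt N3968 (iv F20894)))
theorem Q2446 : ∀ i, i < 2446 → P i := stepQ 2445 Q2445 (allL N2445 (tt N4040 (iv F21059)) (tt N4029 (iv F21039)) (tt N4041 D11922) (tt N1585 (iv D9880)) (tt N4042 D11923) (tt N4043 D11924) (tt N3969 (iv F20896)))
theorem Q2447 : ∀ i, i < 2447 → P i := stepQ 2446 Q2446 (allL N2446 (tt N2904 (iv F18450)) (tt N4044 D11925) (tt N1586 F17567) (tt N4043 (iv F21063)) (tt N2860 (iv F32557)) (tt N1585 (iv D9881)) (tt N2902 (iv F18449)))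
theorem Q2448 : ∀ i, i < 2448 → P i := stepQ 2447 Q2447 (allL N2447 (tt N2396 (iv F32475)) (tt N4034 (iv F21046)) (tt N1587 (iv D9882)) (tt N4045 D11926) (tt N2387 (iv F32477)) (tt N2863 (iv F32478)) (tt N2386 F32470))
theorem Q2449 : ∀ i, i < 2449 → P i := stepQ 2448 Q2448 (allL N2448 (tt N1589 (iv D9884)) (tt N4046 D11928) (tt N2448 F17571) (tt N1591 F17572) (tt N2451 F34263) (tt N4047 D11930) (tt N2449 F34264))
theorem Q2450 : ∀ i, i < 2450 → P i := stepQ 2449 Q2449 (allL N2449 (tt N2451 F34247) (tt N1590 F17573) (tt N2449 F17574) (tt N2456 F34248) (tt N1589 (iv D9885)) (tt N4048 D11933) (tt N2448 (iv F34264)))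
theorem Q2451 : ∀ i, i < 2451 → P i := stepQ 2450 Q2450 (allL N2450 (tt N4047 (iv F21069)) (tt N3375 (iv F19781)) (tt N2450 F17575) (tt N1593 F17576) (tt N4048 (iv F21078)) (tt N1589 (iv D9886)) (tt N4048 F34315))
theorem Q2452 : ∀ i, i < 2452 → P i := stepQ 2451 Q2451 (allL N2451 (tt N2449 (iv F34247)) (tt N2493 (iv F17672)) (tt N2451 F17577) (tt N1594 F17578) (tt N2448 (iv F34263)) (tt N4049 D11936) (tt N1589 (iv D9887)))
theorem Q2453 : ∀ i, i < 2453 → P i := stepQ 2452 Q2452 (allL N2452 (tt N1595 F17579) (tt N2456 F34246) (tt N2102 F17581) (tt N1590 (iv D9888)) (tt N1595 F17580) (tt N3377 (iv F19786)) (tt N2463 (iv F17595)))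
theorem Q2454 : ∀ i, i < 2454 → P i := stepQ 2453 Q2453 (allL N2453 (tt N4050 D11937) (tt N1591 (iv D9889)) (tt N4051 D11938) (tt N4046 (iv F21066)) (tt N4052 D11939) (tt N4053 D11940) (tt N4054 D11941))
theorem Q2455 : ∀ i, i < 2455 → P i := stepQ 2454 Q2454 (allL N2454 (tt N1592 F17582) (tt N4052 (iv F21088)) (tt N3976 (iv F20936)) (tt N2459 F34195) (tt N1591 (iv D9890)) (tt N4055 D11943) (tt N2457 F34196))
theorem Q2456 : ∀ i, i < 2456 → P i := stepQ 2455 Q2455 (allL N2455 (tt N1593 F17583) (tt N4056 D11945) (tt N3977 (iv F20938)) (tt N4047 (iv F21071)) (tt N4055 (iv F21091)) (tt N1591 (iv D9891)) (tt N2462 (iv F17591)))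
theorem Q2457 : ∀ i, i < 2457 → P i := stepQ 2456 Q2456 (allL N2456 (tt N1594 F17584) (tt N2452 (iv F34246)) (tt N3978 (iv F20940)) (tt N2449 (iv F34248)) (tt N2457 F34208) (tt N2461 (iv F17589)) (tt N1591 (iv D9892)))
theorem Q2458 : ∀ i, i < 2458 → P i := stepQ 2457 Q2457 (allL N2457 (tt N2459 F34191) (tt N1595 F17585) (tt N4057 D11947) (tt N1592 (iv D9893)) (tt N2456 (iv F34208)) (tt N4058 D11948) (tt N2454 (iv F34196)))
theorem Q2459 : ∀ i, i < 2459 → P i := stepQ 2458 Q2458 (allL N2458 (tt N4055 (iv F21090)) (tt N4059 D11950) (tt N3983 (iv F20945)) (tt N4058 (iv F21094)) (tt N1593 F17586) (tt N1592 (iv D9894)) (tt N4058 F34217))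
theorem Q2460 : ∀ i, i < 2460 → P i := stepQ 2459 Q2459 (allL N2459 (tt N2457 (iv F34191)) (tt N3384 (iv F19792)) (tt N3984 (iv F20947)) (tt N2454 (iv F34195)) (tt N1594 F17587) (tt N4060 D11952) (tt N1592 (iv D9895)))
theorem Q2461 : ∀ i, i < 2461 → P i := stepQ 2460 Q2460 (allL N2460 (tt N4061 D11953) (tt N1593 (iv D9896)) (tt N4062 D11954) (tt N3375 (iv F19782)) (tt N4059 (iv F21096)) (tt N1597 F17588) (tt N4063 D11955))
theorem Q2462 : ∀ i, i < 2462 → P i := stepQ 2461 Q2461 (allL N2461 (tt N2462 (iv F17590)) (tt N4064 D11956) (tt N3986 (iv F20950)) (tt N4048 (iv F34305)) (tt N4058 F34249) (tt N2456 F17589) (tt N1593 (iv D9897)))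
theorem Q2463 : ∀ i, i < 2463 → P i := stepQ 2462 Q2462 (allL N2462 (tt N2461 F17590) (tt N4065 D11957) (tt N3987 (iv F20953)) (tt N4049 (iv F21086)) (tt N4060 (iv F21101)) (tt N1594 (iv D9898)) (tt N2455 F17591))
theorem Q2464 : ∀ i, i < 2464 → P i := stepQ 2463 Q2463 (allL N2463 (tt N2102 F17592) (tt N4054 (iv F34312)) (tt N1595 (iv D9899)) (tt N1616 F17593) (tt N2102 F17594) (tt N4066 D11959) (tt N2452 F17595))
theorem Q2465 : ∀ i, i < 2465 → P i := stepQ 2464 Q2464 (allL N2464 (tt N3377 (iv F19784)) (tt N4067 D11960) (tt N4066 (iv F21108)) (tt N1596 F17596) (tt N3377 (iv F19785)) (tt N1595 (iv D9900)) (tt N4066 (iv F21111)))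
theorem Q2466 : ∀ i, i < 2466 → P i := stepQ 2465 Q2465 (allL N2465 (tt N4068 D11961) (tt N1596 (iv D9901)) (tt N4069 D11962) (tt N4067 (iv F21112)) (tt N1597 F17597) (tt N4059 (iv F21097)) (tt N4070 D11963))
theorem Q2467 : ∀ i, i < 2467 → P i := stepQ 2466 Q2466 (allL N2466 (tt N2103 F17598) (tt N4071 D11964) (tt N1600 F17599) (tt N4066 (iv F21109)) (tt N1598 F17600) (tt N1616 F17601) (tt N1596 (iv D9902)))
theorem Q2468 : ∀ i, i < 2468 → P i := stepQ 2467 Q2467 (allL N2467 (tt N1597 (iv D9903)) (tt N4072 D11965) (tt N4073 D11966) (tt N3373 (iv F19779)) (tt N4068 (iv F21113)) (tt N4061 (iv F21103)) (tt N4074 D11967))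
theorem Q2469 : ∀ i, i < 2469 → P i := stepQ 2468 Q2468 (allL N2468 (tt N4073 (iv F21118)) (tt N1602 F17602) (tt N1597 (iv D9904)) (tt N4075 D11968) (tt N4069 (iv F21115)) (tt N4062 (iv F21104)) (tt N4076 D11969))
theorem Q2470 : ∀ i, i < 2470 → P i := stepQ 2469 Q2469 (allL N2469 (tt N4074 (iv F21119)) (tt N4077 D11970) (tt N4076 (iv F21122)) (tt N3376 (iv F19783)) (tt N4070 (iv F21116)) (tt N4078 D11971) (tt N1597 (iv D9905)))
theorem Q2471 : ∀ i, i < 2471 → P i := stepQ 2470 Q2470 (allL N2470 (tt N4079 D11972) (tt N1598 (iv D9906)) (tt N4080 D11973) (tt N2104 F17603) (tt N4071 (iv F21117)) (tt N4081 D11974) (tt N4077 (iv F21124)))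
theorem Q2472 : ∀ i, i < 2472 → P i := stepQ 2471 Q2471 (allL N2471 (tt N1599 (iv D9907)) (tt N3347 (iv F32723)) (tt N4082 D11975) (tt N1607 F17604) (tt N1601 F17605) (tt N2856 (iv F32705)) (tt N2877 F32661))
theorem Q2473 : ∀ i, i < 2473 → P i := stepQ 2472 Q2472 (allL N2472 (tt N4082 (iv F21131)) (tt N4069 (iv F21114)) (tt N1599 (iv D9908)) (tt N4083 D11976) (tt N1602 F17606) (tt N3997 (iv F20977)) (tt N2878 F32731))
theorem Q2474 : ∀ i, i < 2474 → P i := stepQ 2473 Q2473 (allL N2473 (tt N3345 (iv F32816)) (tt N1601 (iv D9911)) (tt N4084 D11980) (tt N1605 F17611) (tt N3347 F32775) (tt N2108 (iv F17612)) (tt N3347 F19643))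
theorem Q2475 : ∀ i, i < 2475 → P i := stepQ 2474 Q2474 (allL N2474 (tt N1602 F17613) (tt N4085 D11981) (tt N1601 (iv D9912)) (tt N4086 D11982) (tt N4082 (iv F21132)) (tt N3998 (iv F20980)) (tt N2916 (iv F18531)))
theorem Q2476 : ∀ i, i < 2476 → P i := stepQ 2475 Q2475 (allL N2475 (tt N4086 (iv F21142)) (tt N4075 (iv F21121)) (tt N4087 D11983) (tt N1602 (iv D9913)) (tt N4088 D11984) (tt N3999 (iv F20982)) (tt N4089 D11985))
theorem Q2477 : ∀ i, i < 2477 → P i := stepQ 2476 Q2476 (allL N2476 (tt N2916 (iv F18529)) (tt N4090 D11986) (tt N1603 F17614) (tt N4089 (iv F21148)) (tt N2878 F32709) (tt N2914 (iv F18528)) (tt N1602 (iv D9914)))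
theorem Q2478 : ∀ i, i < 2478 → P i := stepQ 2477 Q2477 (allL N2477 (tt N2413 F32886) (tt N4080 (iv F21128)) (tt N1604 (iv D9915)) (tt N4091 D11987) (tt N2404 F32887) (tt N2403 (iv F32922)) (tt N2881 F32888))
theorem Q2479 : ∀ i, i < 2479 → P i := stepQ 2478 Q2478 (allL N2478 (tt N2478 F17636) (tt N4092 D11997) (tt N1608 (iv D9925)) (tt N4093 D11998) (tt N1609 F17637) (tt N2478 F17638) (tt N2384 F32469))
theorem Q2480 : ∀ i, i < 2480 → P i := stepQ 2479 Q2479 (allL N2479 (tt N4094 D12000) (tt N1609 (iv D9927)) (tt N1612 F17643) (tt N4095 D12001) (tt N4092 (iv F21171)) (tt N4096 D12002) (tt N4097 D12003))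
theorem Q2481 : ∀ i, i < 2481 → P i := stepQ 2480 Q2480 (allL N2480 (tt N2480 F17644) (tt N4095 (iv F21180)) (tt N2480 F17646) (tt N1609 (iv D9928)) (tt N4098 D12004) (tt N2480 F17645) (tt N4099 D12005))
theorem Q2482 : ∀ i, i < 2482 → P i := stepQ 2481 Q2481 (allL N2481 (tt N2481 F17647) (tt N4100 D12006) (tt N1610 F17648) (tt N4099 (iv F21189)) (tt N2384 (iv F32466)) (tt N2481 F17649) (tt N1609 (iv D9929)))
theorem Q2483 : ∀ i, i < 2483 → P i := stepQ 2482 Q2482 (allL N2482 (tt N4101 D12007) (tt N1611 (iv D9930)) (tt N4092 (iv F21170)) (tt N4007 F29081) (tt N1612 F17650) (tt N4000 F29082) (tt N4102 D12009))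
theorem Q2484 : ∀ i, i < 2484 → P i := stepQ 2483 Q2483 (allL N2483 (tt N1612 (iv D9931)) (tt N4103 D12010) (tt N4094 (iv F21179)) (tt N2085 F17651) (tt N4101 (iv F21191)) (tt N4104 D12011) (tt N4105 D12012))
theorem Q2485 : ∀ i, i < 2485 → P i := stepQ 2484 Q2484 (allL N2484 (tt N4104 (iv F21196)) (tt N2420 F17652) (tt N4096 (iv F21182)) (tt N2087 F17653) (tt N4000 (iv F29069)) (tt N1612 (iv D9932)) (tt N4106 D12013))
theorem Q2486 : ∀ i, i < 2486 → P i := stepQ 2485 Q2485 (allL N2485 (tt N4105 (iv F21198)) (tt N4035 (iv F21047)) (tt N4097 (iv F21183)) (tt N2088 F17654) (tt N4102 (iv F21194)) (tt N4107 D12014) (tt N1612 (iv D9933)))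
theorem Q2487 : ∀ i, i < 2487 → P i := stepQ 2486 Q2486 (allL N2486 (tt N2486 F17655) (tt N4108 D12015) (tt N1613 (iv D9934)) (tt N4109 D12016) (tt N1614 F17656) (tt N2401 F32961) (tt N2486 F17657))
theorem Q2488 : ∀ i, i < 2488 → P i := stepQ 2487 Q2487 (allL N2487 (tt N4110 D12018) (tt N1614 (iv D9936)) (tt N1617 F17662) (tt N4111 D12019) (tt N4108 (iv F21206)) (tt N4112 D12020) (tt N4113 D12021))
theorem Q2489 : ∀ i, i < 2489 → P i := stepQ 2488 Q2488 (allL N2488 (tt N2488 F17663) (tt N4111 (iv F21215)) (tt N2488 F17665) (tt N1614 (iv D9937)) (tt N4114 D12022) (tt N4115 D12023) (tt N2488 F17664))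
theorem Q2490 : ∀ i, i < 2490 → P i := stepQ 2489 Q2489 (allL N2489 (tt N2489 F17666) (tt N4116 D12024) (tt N1615 F17667) (tt N4115 (iv F21224)) (tt N2401 F32958) (tt N1614 (iv D9938)) (tt N2489 F17668))
theorem Q2491 : ∀ i, i < 2491 → P i := stepQ 2490 Q2490 (allL N2490 (tt N4117 D12025) (tt N1616 (iv D9939)) (tt N4108 (iv F21205)) (tt N4054 F34365) (tt N1617 F17669) (tt N4118 D12026) (tt N4046 F34366))
theorem Q2492 : ∀ i, i < 2492 → P i := stepQ 2491 Q2491 (allL N2491 (tt N1617 (iv D9940)) (tt N4119 D12028) (tt N4110 (iv F21214)) (tt N2098 F17670) (tt N4117 (iv F21226)) (tt N4120 D12029) (tt N4121 D12030))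
theorem Q2493 : ∀ i, i < 2493 → P i := stepQ 2492 Q2492 (allL N2492 (tt N4120 (iv F21231)) (tt N4081 (iv F21129)) (tt N4112 (iv F21216)) (tt N2100 F17671) (tt N4118 (iv F21227)) (tt N1617 (iv D9941)) (tt N4122 D12031))
theorem Q2494 : ∀ i, i < 2494 → P i := stepQ 2493 Q2493 (allL N2493 (tt N4121 (iv F21233)) (tt N2451 F17672) (tt N4113 (iv F21218)) (tt N2101 F17673) (tt N4046 (iv F34311)) (tt N4123 D12032) (tt N1617 (iv D9942)))
theorem Q2495 : ∀ i, i < 2495 → P i := stepQ 2494 Q2494 (allL N2494 (tt N1619 F17674) (tt N3402 F19844) (tt N1618 (iv D9943)) (tt N4124 D12033) (tt N1689 F17675) (tt N4125 D12034) (tt N4126 D12035))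
theorem Q2496 : ∀ i, i < 2496 → P i := stepQ 2495 Q2495 (allL N2495 (tt N1621 F17677) (tt N4127 D12036) (tt N4125 (iv F21245)) (tt N3114 (iv F19251)) (tt N1690 F17678) (tt N1618 (iv D9945)) (tt N2505 (iv F17696)))
theorem Q2497 : ∀ i, i < 2497 → P i := stepQ 2496 Q2496 (allL N2496 (tt N1622 F17679) (tt N4128 D12037) (tt N4126 (iv F21248)) (tt N3115 (iv F19254)) (tt N1691 F17680) (tt N2503 (iv F17691)) (tt N1618 (iv D9946)))
theorem Q2498 : ∀ i, i < 2498 → P i := stepQ 2497 Q2497 (allL N2497 (tt N4124 (iv F21240)) (tt N2497 F17681) (tt N1878 (iv F17700)) (tt N1619 (iv D9947)) (tt N4129 D12038) (tt N4130 D12039) (tt N4131 D12040))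
theorem Q2499 : ∀ i, i < 2499 → P i := stepQ 2498 Q2498 (allL N2498 (tt N4125 (iv F21244)) (tt N4132 D12041) (tt N1621 F17682) (tt N4130 (iv F21257)) (tt N1693 F17683) (tt N1619 (iv D9948)) (tt N4133 D12042))
theorem Q2500 : ∀ i, i < 2500 → P i := stepQ 2499 Q2499 (allL N2499 (tt N4126 (iv F21247)) (tt N4134 D12043) (tt N1622 F17684) (tt N4131 (iv F21259)) (tt N1694 F17685) (tt N4135 D12044) (tt N1619 (iv D9949)))
theorem Q2501 : ∀ i, i < 2501 → P i := stepQ 2500 Q2500 (allL N2500 (tt N3114 (iv F19249)) (tt N4136 D12045) (tt N3110 (iv F19242)) (tt N1621 F17686) (tt N3664 (iv F20344)) (tt N1620 (iv D9951)) (tt N4137 D12046))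
theorem Q2502 : ∀ i, i < 2502 → P i := stepQ 2501 Q2501 (allL N2501 (tt N3115 (iv F19252)) (tt N4138 D12047) (tt N3111 (iv F19245)) (tt N1622 F17687) (tt N3665 (iv F20346)) (tt N4139 D12048) (tt N1620 (iv D9952)))
theorem Q2503 : ∀ i, i < 2503 → P i := stepQ 2502 Q2502 (allL N2502 (tt N4140 D12049) (tt N1621 (iv D9953)) (tt N4141 D12050) (tt N4136 (iv F21271)) (tt N1695 F17688) (tt N1626 F17689) (tt N4142 D12051))
theorem Q2504 : ∀ i, i < 2504 → P i := stepQ 2503 Q2503 (allL N2503 (tt N2505 (iv F17694)) (tt N4143 D12052) (tt N4133 (iv F21262)) (tt N4137 (iv F21274)) (tt N1696 F17690) (tt N2496 F17691) (tt N1621 (iv D9954)))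
theorem Q2505 : ∀ i, i < 2505 → P i := stepQ 2504 Q2504 (allL N2504 (tt N4144 D12053) (tt N1622 (iv D9955)) (tt N4145 D12054) (tt N4138 (iv F21276)) (tt N1697 F17692) (tt N4146 D12055) (tt N1627 F17693))
theorem Q2506 : ∀ i, i < 2506 → P i := stepQ 2505 Q2505 (allL N2505 (tt N2503 F17694) (tt N4147 D12056) (tt N4135 (iv F21268)) (tt N4139 (iv F21280)) (tt N1698 F17695) (tt N1622 (iv D9956)) (tt N2495 F17696))
theorem Q2507 : ∀ i, i < 2507 → P i := stepQ 2506 Q2506 (allL N2506 (tt N4148 D12057) (tt N1623 (iv D9957)) (tt N3107 F19238) (tt N4149 D12058) (tt N3670 (iv F20357)) (tt N4150 D12059) (tt N4151 D12060))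
theorem Q2508 : ∀ i, i < 2508 → P i := stepQ 2507 Q2507 (allL N2507 (tt N1628 F17697) (tt N4149 (iv F21294)) (tt N1628 F17699) (tt N1623 (iv D9958)) (tt N2507 F17698) (tt N4152 D12061) (tt N4153 D12062))
theorem Q2509 : ∀ i, i < 2509 → P i := stepQ 2508 Q2508 (allL N2508 (tt N1629 F17704) (tt N4154 D12063) (tt N1624 F17705) (tt N4152 (iv F21299)) (tt N3671 (iv F20361)) (tt N1623 (iv D9959)) (tt N2523 (iv F17728)))
theorem Q2510 : ∀ i, i < 2510 → P i := stepQ 2509 Q2509 (allL N2509 (tt N1630 F17706) (tt N4155 D12064) (tt N1625 F17707) (tt N4153 (iv F21303)) (tt N3672 (iv F20365)) (tt N2521 (iv F17724)) (tt N1623 (iv D9960)))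
theorem Q2511 : ∀ i, i < 2511 → P i := stepQ 2510 Q2510 (allL N2510 (tt N4156 D12065) (tt N1624 (iv D9961)) (tt N4157 D12066) (tt N1626 F17708) (tt N3673 (iv F20367)) (tt N4136 (iv F21272)) (tt N4158 D12067))
theorem Q2512 : ∀ i, i < 2512 → P i := stepQ 2511 Q2511 (allL N2511 (tt N4159 D12068) (tt N1625 (iv D9962)) (tt N4160 D12069) (tt N1627 F17709) (tt N3674 (iv F20369)) (tt N4161 D12070) (tt N4138 (iv F21277)))
theorem Q2513 : ∀ i, i < 2513 → P i := stepQ 2512 Q2512 (allL N2512 (tt N1626 (iv D9963)) (tt N4162 D12071) (tt N4163 D12072) (tt N4156 (iv F21305)) (tt N1699 F17710) (tt N4140 (iv F21283)) (tt N4164 D12073))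
theorem Q2514 : ∀ i, i < 2514 → P i := stepQ 2513 Q2513 (allL N2513 (tt N4163 (iv F21310)) (tt N2513 F17711) (tt N1626 (iv D9964)) (tt N4165 D12074) (tt N1700 F17712) (tt N4141 (iv F21285)) (tt N4166 D12075))
theorem Q2515 : ∀ i, i < 2515 → P i := stepQ 2514 Q2514 (allL N2514 (tt N4164 (iv F21312)) (tt N2547 (iv F17767)) (tt N4166 (iv F21316)) (tt N4158 (iv F21306)) (tt N1701 F17713) (tt N4167 D12076) (tt N1626 (iv D9965)))
theorem Q2516 : ∀ i, i < 2516 → P i := stepQ 2515 Q2515 (allL N2515 (tt N1627 (iv D9966)) (tt N4168 D12077) (tt N4169 D12078) (tt N4159 (iv F21307)) (tt N1702 F17714) (tt N4170 D12079) (tt N4144 (iv F21289)))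
theorem Q2517 : ∀ i, i < 2517 → P i := stepQ 2516 Q2516 (allL N2516 (tt N4169 (iv F21322)) (tt N2516 F17715) (tt N1627 (iv D9967)) (tt N4171 D12080) (tt N1703 F17716) (tt N4172 D12081) (tt N4145 (iv F21291)))
theorem Q2518 : ∀ i, i < 2518 → P i := stepQ 2517 Q2517 (allL N2517 (tt N4170 (iv F21324)) (tt N2539 (iv F17752)) (tt N4172 (iv F21328)) (tt N4161 (iv F21308)) (tt N1704 F17717) (tt N1627 (iv D9968)) (tt N4173 D12082))
theorem Q2519 : ∀ i, i < 2519 → P i := stepQ 2518 Q2518 (allL N2518 (tt N4152 (iv F21297)) (tt N4174 D12083) (tt N4152 (iv F21298)) (tt N1629 F17718) (tt N2518 F17719) (tt N1628 (iv D9969)) (tt N4175 D12084))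
theorem Q2520 : ∀ i, i < 2520 → P i := stepQ 2519 Q2519 (allL N2519 (tt N4153 (iv F21301)) (tt N4176 D12085) (tt N4153 (iv F21302)) (tt N1630 F17720) (tt N2519 F17721) (tt N4177 D12086) (tt N1628 (iv D9970)))
theorem Q2521 : ∀ i, i < 2521 → P i := stepQ 2520 Q2520 (allL N2520 (tt N2520 F23995) (tt N1629 (iv D9971)) (tt N4178 D12088) (tt N4174 (iv F21333)) (tt N3681 (iv F20380)) (tt N2520 F17722) (tt N4179 D12089))
theorem Q2522 : ∀ i, i < 2522 → P i := stepQ 2521 Q2521 (allL N2521 (tt N2523 (iv F17726)) (tt N4180 D12090) (tt N1632 F17723) (tt N4175 (iv F21336)) (tt N3682 (iv F20384)) (tt N2509 F17724) (tt N1629 (iv D9972)))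
theorem Q2523 : ∀ i, i < 2523 → P i := stepQ 2522 Q2522 (allL N2522 (tt N2522 F34687) (tt N1630 (iv D9973)) (tt N4181 D12092) (tt N4176 (iv F21339)) (tt N3683 (iv F20387)) (tt N4182 D12093) (tt N2522 F17725))
theorem Q2524 : ∀ i, i < 2524 → P i := stepQ 2523 Q2523 (allL N2523 (tt N2521 F17726) (tt N4183 D12094) (tt N1634 F17727) (tt N4177 (iv F21344)) (tt N3684 (iv F20392)) (tt N1630 (iv D9974)) (tt N2508 F17728))
theorem Q2525 : ∀ i, i < 2525 → P i := stepQ 2524 Q2524 (allL N2524 (tt N1631 (iv D9975)) (tt N4184 D12095) (tt N4185 D12096) (tt N1635 F17729) (tt N3685 (iv F20395)) (tt N1643 F17730) (tt N2554 (iv F17780)))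
theorem Q2526 : ∀ i, i < 2526 → P i := stepQ 2525 Q2525 (allL N2525 (tt N4185 (iv F21354)) (tt N4178 (iv F21348)) (tt N1631 (iv D9976)) (tt N4186 D12097) (tt N3686 (iv F20397)) (tt N1644 F17731) (tt N4187 D12098))
theorem Q2527 : ∀ i, i < 2527 → P i := stepQ 2526 Q2526 (allL N2526 (tt N2554 (iv F17778)) (tt N4188 D12099) (tt N4187 (iv F21357)) (tt N1637 F17732) (tt N3687 (iv F20400)) (tt N2550 (iv F17773)) (tt N1631 (iv D9977)))
theorem Q2528 : ∀ i, i < 2528 → P i := stepQ 2527 Q2527 (allL N2527 (tt N4189 D12100) (tt N1632 (iv D9978)) (tt N4190 D12101) (tt N1638 F17733) (tt N3688 (iv F20402)) (tt N4191 D12102) (tt N4188 (iv F21359)))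
theorem Q2529 : ∀ i, i < 2529 → P i := stepQ 2528 Q2528 (allL N2528 (tt N1633 (iv D9979)) (tt N4192 D12103) (tt N4193 D12104) (tt N1639 F17734) (tt N3689 (iv F20404)) (tt N2564 (iv F17797)) (tt N1647 F17735))
theorem Q2530 : ∀ i, i < 2530 → P i := stepQ 2529 Q2529 (allL N2529 (tt N4193 (iv F21364)) (tt N4181 (iv F21351)) (tt N1633 (iv D9980)) (tt N4194 D12105) (tt N3690 (iv F20406)) (tt N4195 D12106) (tt N1648 F17736))
theorem Q2531 : ∀ i, i < 2531 → P i := stepQ 2530 Q2530 (allL N2530 (tt N2564 (iv F17795)) (tt N4196 D12107) (tt N4195 (iv F21367)) (tt N1641 F17737) (tt N3691 (iv F20409)) (tt N1633 (iv D9981)) (tt N2560 (iv F17789)))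
theorem Q2532 : ∀ i, i < 2532 → P i := stepQ 2531 Q2531 (allL N2531 (tt N4197 D12108) (tt N1634 (iv D9982)) (tt N4198 D12109) (tt N1642 F17738) (tt N3692 (iv F20411)) (tt N4196 (iv F21369)) (tt N4199 D12110))
theorem Q2533 : ∀ i, i < 2533 → P i := stepQ 2532 Q2532 (allL N2532 (tt N3483 F20102) (tt N1635 (iv D9983)) (tt N3482 (iv F20101)) (tt N4184 (iv F21353)) (tt N1705 F17739) (tt N4200 D12111) (tt N4201 D12112))
theorem Q2534 : ∀ i, i < 2534 → P i := stepQ 2533 Q2533 (allL N2533 (tt N1636 F17740) (tt N4202 D12113) (tt N1635 (iv D9984)) (tt N4203 D12114) (tt N1706 F17741) (tt N1652 F17742) (tt N2580 (iv F17824)))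
theorem Q2535 : ∀ i, i < 2535 → P i := stepQ 2534 Q2534 (allL N2534 (tt N4203 (iv F21377)) (tt N2534 F17743) (tt N4204 D12115) (tt N1636 (iv D9985)) (tt N4205 D12116) (tt N1654 F17744) (tt N4206 D12117))
theorem Q2536 : ∀ i, i < 2536 → P i := stepQ 2535 Q2535 (allL N2535 (tt N2580 (iv F17821)) (tt N4207 D12118) (tt N1637 F17745) (tt N4206 (iv F21383)) (tt N1708 F17746) (tt N2574 (iv F17814)) (tt N1636 (iv D9986)))
theorem Q2537 : ∀ i, i < 2537 → P i := stepQ 2536 Q2536 (allL N2536 (tt N4208 D12119) (tt N1637 (iv D9987)) (tt N4209 D12120) (tt N4188 (iv F21358)) (tt N1709 F17747) (tt N4210 D12121) (tt N1638 F17748))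
theorem Q2538 : ∀ i, i < 2538 → P i := stepQ 2537 Q2537 (allL N2537 (tt N1638 (iv D9988)) (tt N4211 D12122) (tt N4212 D12123) (tt N4189 (iv F21360)) (tt N1710 F17749) (tt N4213 D12124) (tt N4208 (iv F21387)))
theorem Q2539 : ∀ i, i < 2539 → P i := stepQ 2538 Q2538 (allL N2538 (tt N4212 (iv F21392)) (tt N2538 F17750) (tt N1638 (iv D9989)) (tt N4214 D12125) (tt N1711 F17751) (tt N4215 D12126) (tt N4209 (iv F21389)))
theorem Q2540 : ∀ i, i < 2540 → P i := stepQ 2539 Q2539 (allL N2539 (tt N4213 (iv F21394)) (tt N2517 F17752) (tt N4215 (iv F21398)) (tt N4191 (iv F21362)) (tt N1712 F17753) (tt N1638 (iv D9990)) (tt N4216 D12127))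
theorem Q2541 : ∀ i, i < 2541 → P i := stepQ 2540 Q2540 (allL N2540 (tt N3487 (iv F34700)) (tt N1639 (iv D9991)) (tt N3486 F34696) (tt N4192 (iv F21363)) (tt N1713 F17754) (tt N4217 D12130) (tt N4218 D12131))
theorem Q2542 : ∀ i, i < 2542 → P i := stepQ 2541 Q2541 (allL N2541 (tt N1640 F17755) (tt N4219 D12132) (tt N1639 (iv D9992)) (tt N4220 D12133) (tt N1714 F17756) (tt N2603 (iv F17862)) (tt N1662 F17757))
theorem Q2543 : ∀ i, i < 2543 → P i := stepQ 2542 Q2542 (allL N2542 (tt N4220 (iv F21409)) (tt N2542 F17758) (tt N4221 D12134) (tt N1640 (iv D9993)) (tt N4222 D12135) (tt N4223 D12136) (tt N1664 F17759))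
theorem Q2544 : ∀ i, i < 2544 → P i := stepQ 2543 Q2543 (allL N2543 (tt N2603 (iv F17859)) (tt N4224 D12137) (tt N1641 F17760) (tt N4223 (iv F21415)) (tt N1716 F17761) (tt N1640 (iv D9994)) (tt N2597 (iv F17852)))
theorem Q2545 : ∀ i, i < 2545 → P i := stepQ 2544 Q2544 (allL N2544 (tt N4225 D12138) (tt N1641 (iv D9995)) (tt N4226 D12139) (tt N4196 (iv F21368)) (tt N1717 F17762) (tt N1642 F17763) (tt N4227 D12140))
theorem Q2546 : ∀ i, i < 2546 → P i := stepQ 2545 Q2545 (allL N2545 (tt N1642 (iv D9996)) (tt N4228 D12141) (tt N4229 D12142) (tt N4197 (iv F21370)) (tt N1718 F17764) (tt N4225 (iv F21419)) (tt N4230 D12143))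
theorem Q2547 : ∀ i, i < 2547 → P i := stepQ 2546 Q2546 (allL N2546 (tt N4229 (iv F21424)) (tt N2546 F17765) (tt N1642 (iv D9997)) (tt N4231 D12144) (tt N1719 F17766) (tt N4226 (iv F21421)) (tt N4232 D12145))
theorem Q2548 : ∀ i, i < 2548 → P i := stepQ 2547 Q2547 (allL N2547 (tt N4230 (iv F21426)) (tt N2514 F17767) (tt N4232 (iv F21430)) (tt N4199 (iv F21372)) (tt N1720 F17768) (tt N4233 D12146) (tt N1642 (iv D9998)))
theorem Q2549 : ∀ i, i < 2549 → P i := stepQ 2548 Q2548 (allL N2548 (tt N3129 (iv F21539)) (tt N1643 (iv D9999)) (tt N3128 (iv F21541)) (tt N1651 F17769) (tt N3709 (iv F20439)) (tt N4234 D12149) (tt N4235 D12150))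
theorem Q2550 : ∀ i, i < 2550 → P i := stepQ 2549 Q2549 (allL N2549 (tt N1644 F17770) (tt N4236 D12151) (tt N1643 (iv D10000)) (tt N4237 D12152) (tt N3710 (iv F20441)) (tt N4185 (iv F21355)) (tt N4238 D12153))
theorem Q2551 : ∀ i, i < 2551 → P i := stepQ 2550 Q2550 (allL N2550 (tt N1645 F17771) (tt N4239 D12154) (tt N4238 (iv F21440)) (tt N1653 F17772) (tt N3711 (iv F20444)) (tt N2526 F17773) (tt N1643 (iv D10001)))
theorem Q2552 : ∀ i, i < 2552 → P i := stepQ 2551 Q2551 (allL N2551 (tt N4237 (iv F21438)) (tt N2551 F17774) (tt N4240 D12155) (tt N1644 (iv D10002)) (tt N4241 D12156) (tt N4186 (iv F21356)) (tt N4242 D12157))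
theorem Q2553 : ∀ i, i < 2553 → P i := stepQ 2552 Q2552 (allL N2552 (tt N4238 (iv F21439)) (tt N4243 D12158) (tt N1645 F17775) (tt N4242 (iv F21444)) (tt N3713 (iv F20448)) (tt N4244 D12159) (tt N1644 (iv D10003)))
theorem Q2554 : ∀ i, i < 2554 → P i := stepQ 2553 Q2553 (allL N2553 (tt N4245 D12160) (tt N1645 (iv D10004)) (tt N4246 D12161) (tt N1656 F17776) (tt N2567 (iv F17804)) (tt N4247 D12162) (tt N1646 F17777))
theorem Q2555 : ∀ i, i < 2555 → P i := stepQ 2554 Q2554 (allL N2554 (tt N2526 F17778) (tt N4248 D12163) (tt N4244 (iv F21447)) (tt N1657 F17779) (tt N3714 (iv F20451)) (tt N1645 (iv D10005)) (tt N2524 F17780))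
theorem Q2556 : ∀ i, i < 2556 → P i := stepQ 2555 Q2555 (allL N2555 (tt N1646 (iv D10006)) (tt N4249 D12164) (tt N4250 D12165) (tt N1658 F17781) (tt N2565 (iv F17799)) (tt N4251 D12166) (tt N4245 (iv F21450)))
theorem Q2557 : ∀ i, i < 2557 → P i := stepQ 2556 Q2556 (allL N2556 (tt N4250 (iv F21455)) (tt N2556 F17782) (tt N1646 (iv D10007)) (tt N4252 D12167) (tt N2566 (iv F17801)) (tt N4253 D12168) (tt N4246 (iv F21451)))
theorem Q2558 : ∀ i, i < 2558 → P i := stepQ 2557 Q2557 (allL N2557 (tt N4251 (iv F21456)) (tt N2271 F17783) (tt N4253 (iv F21460)) (tt N1660 F17784) (tt N2563 (iv F17793)) (tt N1646 (iv D10008)) (tt N4254 D12169))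
theorem Q2559 : ∀ i, i < 2559 → P i := stepQ 2558 Q2558 (allL N2558 (tt N3133 (iv F21628)) (tt N1647 (iv D10009)) (tt N3132 (iv F21630)) (tt N1661 F17785) (tt N3715 (iv F20454)) (tt N4255 D12172) (tt N4256 D12173))
theorem Q2560 : ∀ i, i < 2560 → P i := stepQ 2559 Q2559 (allL N2559 (tt N1648 F17786) (tt N4257 D12174) (tt N1647 (iv D10010)) (tt N4258 D12175) (tt N3716 (iv F20456)) (tt N4259 D12176) (tt N4193 (iv F21365)))
theorem Q2561 : ∀ i, i < 2561 → P i := stepQ 2560 Q2560 (allL N2560 (tt N1649 F17787) (tt N4260 D12177) (tt N4259 (iv F21469)) (tt N1663 F17788) (tt N3717 (iv F20459)) (tt N1647 (iv D10011)) (tt N2530 F17789))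
theorem Q2562 : ∀ i, i < 2562 → P i := stepQ 2561 Q2561 (allL N2561 (tt N4258 (iv F21467)) (tt N2561 F17790) (tt N4261 D12178) (tt N1648 (iv D10012)) (tt N4262 D12179) (tt N4263 D12180) (tt N4194 (iv F21366)))
theorem Q2563 : ∀ i, i < 2563 → P i := stepQ 2562 Q2562 (allL N2562 (tt N4259 (iv F21468)) (tt N4264 D12181) (tt N1649 F17791) (tt N4263 (iv F21473)) (tt N3719 (iv F20463)) (tt N1648 (iv D10013)) (tt N4265 D12182))
theorem Q2564 : ∀ i, i < 2564 → P i := stepQ 2563 Q2563 (allL N2563 (tt N4266 D12183) (tt N1649 (iv D10014)) (tt N4267 D12184) (tt N1666 F17792) (tt N2557 F17793) (tt N1650 F17794) (tt N4268 D12185))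
theorem Q2565 : ∀ i, i < 2565 → P i := stepQ 2564 Q2564 (allL N2564 (tt N2530 F17795) (tt N4269 D12186) (tt N4265 (iv F21476)) (tt N1667 F17796) (tt N3720 (iv F20466)) (tt N2528 F17797) (tt N1649 (iv D10015)))
theorem Q2566 : ∀ i, i < 2566 → P i := stepQ 2565 Q2565 (allL N2565 (tt N1650 (iv D10016)) (tt N4270 D12187) (tt N4271 D12188) (tt N1668 F17798) (tt N2555 F17799) (tt N4266 (iv F21480)) (tt N4272 D12189))
theorem Q2567 : ∀ i, i < 2567 → P i := stepQ 2566 Q2566 (allL N2566 (tt N4271 (iv F21488)) (tt N2566 F17800) (tt N1650 (iv D10017)) (tt N4273 D12190) (tt N2556 F17801) (tt N4267 (iv F21482)) (tt N4274 D12191))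
theorem Q2568 : ∀ i, i < 2568 → P i := stepQ 2567 Q2567 (allL N2567 (tt N4272 (iv F21490)) (tt N2268 F17802) (tt N4274 (iv F21495)) (tt N1670 F17803) (tt N2553 F17804) (tt N4275 D12192) (tt N1650 (iv D10018)))
theorem Q2569 : ∀ i, i < 2569 → P i := stepQ 2568 Q2568 (allL N2568 (tt N1651 (iv D10019)) (tt N3721 (iv F20468)) (tt N3724 (iv F20473)) (tt N3129 (iv F21540)) (tt N1721 F17805) (tt N4276 D12193) (tt N4277 D12194))
theorem Q2570 : ∀ i, i < 2570 → P i := stepQ 2569 Q2569 (allL N2569 (tt N3724 F20475) (tt N4278 D12195) (tt N1651 (iv D10020)) (tt N4279 D12196) (tt N1722 F17806) (tt N4280 D12197) (tt N4281 D12198))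
theorem Q2571 : ∀ i, i < 2571 → P i := stepQ 2570 Q2570 (allL N2570 (tt N4276 (iv F21501)) (tt N4200 (iv F21373)) (tt N4280 (iv F21507)) (tt N4234 (iv F21436)) (tt N1723 F17807) (tt N1651 (iv D10021)) (tt N4282 D12199))
theorem Q2572 : ∀ i, i < 2572 → P i := stepQ 2571 Q2571 (allL N2571 (tt N4277 (iv F21503)) (tt N4283 D12200) (tt N4281 (iv F21509)) (tt N4235 (iv F21437)) (tt N1724 F17808) (tt N4284 D12201) (tt N1651 (iv D10022)))
theorem Q2573 : ∀ i, i < 2573 → P i := stepQ 2572 Q2572 (allL N2572 (tt N4285 D12202) (tt N1652 (iv D10023)) (tt N4278 (iv F21505)) (tt N4286 D12203) (tt N1725 F17809) (tt N4287 D12204) (tt N4288 D12205))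
theorem Q2574 : ∀ i, i < 2574 → P i := stepQ 2573 Q2573 (allL N2573 (tt N1654 F17810) (tt N4286 (iv F21520)) (tt N4289 D12206) (tt N1652 (iv D10024)) (tt N4290 D12207) (tt N4203 (iv F21378)) (tt N4291 D12208))
theorem Q2575 : ∀ i, i < 2575 → P i := stepQ 2574 Q2574 (allL N2574 (tt N1655 F17811) (tt N4292 D12209) (tt N1653 F17812) (tt N4291 (iv F21528)) (tt N1727 F17813) (tt N2535 F17814) (tt N1652 (iv D10025)))
theorem Q2576 : ∀ i, i < 2576 → P i := stepQ 2575 Q2575 (allL N2575 (tt N4293 D12210) (tt N1653 (iv D10026)) (tt N4294 D12211) (tt N4239 (iv F21442)) (tt N1728 F17815) (tt N4295 D12212) (tt N4283 (iv F21514)))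
theorem Q2577 : ∀ i, i < 2577 → P i := stepQ 2576 Q2576 (allL N2576 (tt N4289 (iv F21523)) (tt N4296 D12213) (tt N1654 (iv D10027)) (tt N4297 D12214) (tt N4298 D12215) (tt N4204 (iv F21379)) (tt N4299 D12216))
theorem Q2578 : ∀ i, i < 2578 → P i := stepQ 2577 Q2577 (allL N2577 (tt N4290 (iv F21525)) (tt N1672 F17816) (tt N4298 (iv F21542)) (tt N1730 F17817) (tt N1654 (iv D10028)) (tt N4205 (iv F21382)) (tt N4300 D12217))
theorem Q2579 : ∀ i, i < 2579 → P i := stepQ 2578 Q2578 (allL N2578 (tt N4291 (iv F21527)) (tt N4301 D12218) (tt N4299 (iv F21543)) (tt N1655 F17818) (tt N4300 (iv F21545)) (tt N4302 D12219) (tt N1654 (iv D10029)))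
theorem Q2580 : ∀ i, i < 2580 → P i := stepQ 2579 Q2579 (allL N2579 (tt N4303 D12220) (tt N1655 (iv D10030)) (tt N3770 (iv F20558)) (tt N4301 (iv F21546)) (tt N1732 F17819) (tt N4304 D12221) (tt N1673 F17820))
theorem Q2581 : ∀ i, i < 2581 → P i := stepQ 2580 Q2580 (allL N2580 (tt N2535 F17821) (tt N4305 D12222) (tt N1657 F17822) (tt N4302 (iv F21549)) (tt N1733 F17823) (tt N1655 (iv D10031)) (tt N2533 F17824))
theorem Q2582 : ∀ i, i < 2582 → P i := stepQ 2581 Q2581 (allL N2581 (tt N1656 (iv D10032)) (tt N4306 D12223) (tt N4307 D12224) (tt N4245 (iv F21449)) (tt N1734 F17825) (tt N2590 (iv F17842)) (tt N1658 F17826))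
theorem Q2583 : ∀ i, i < 2583 → P i := stepQ 2582 Q2582 (allL N2582 (tt N4307 (iv F21556)) (tt N3770 (iv F20557)) (tt N1656 (iv D10033)) (tt N4308 D12225) (tt N1735 F17827) (tt N4309 D12226) (tt N1659 F17828))
theorem Q2584 : ∀ i, i < 2584 → P i := stepQ 2583 Q2583 (allL N2583 (tt N2590 (iv F17840)) (tt N4310 D12227) (tt N4309 (iv F21560)) (tt N4247 (iv F21452)) (tt N1736 F17829) (tt N1656 (iv D10034)) (tt N2587 (iv F17836)))
theorem Q2585 : ∀ i, i < 2585 → P i := stepQ 2584 Q2584 (allL N2584 (tt N4311 D12228) (tt N1657 (iv D10035)) (tt N4312 D12229) (tt N4248 (iv F21453)) (tt N1737 F17830) (tt N4310 (iv F21563)) (tt N4313 D12230))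
theorem Q2586 : ∀ i, i < 2586 → P i := stepQ 2585 Q2585 (allL N2585 (tt N4314 D12231) (tt N1658 (iv D10036)) (tt N4315 D12232) (tt N4249 (iv F21454)) (tt N1738 F17831) (tt N4316 D12233) (tt N4317 D12234))
theorem Q2587 : ∀ i, i < 2587 → P i := stepQ 2586 Q2586 (allL N2586 (tt N1659 F17832) (tt N4318 D12235) (tt N1658 (iv D10037)) (tt N4319 D12236) (tt N1739 F17833) (tt N4320 D12237) (tt N4307 (iv F21558)))
theorem Q2588 : ∀ i, i < 2588 → P i := stepQ 2587 Q2587 (allL N2587 (tt N1660 F17834) (tt N4321 D12238) (tt N4320 (iv F21575)) (tt N4251 (iv F21457)) (tt N1740 F17835) (tt N1658 (iv D10038)) (tt N2583 F17836))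
theorem Q2589 : ∀ i, i < 2589 → P i := stepQ 2588 Q2588 (allL N2588 (tt N4319 (iv F21573)) (tt N1676 F17837) (tt N4322 D12239) (tt N1659 (iv D10039)) (tt N4323 D12240) (tt N4324 D12241) (tt N4308 (iv F21559)))
theorem Q2590 : ∀ i, i < 2590 → P i := stepQ 2589 Q2589 (allL N2589 (tt N4320 (iv F21574)) (tt N3756 (iv F20529)) (tt N1660 F17838) (tt N4324 (iv F21581)) (tt N1742 F17839) (tt N1659 (iv D10040)) (tt N4325 D12242))
theorem Q2591 : ∀ i, i < 2591 → P i := stepQ 2590 Q2590 (allL N2590 (tt N2583 F17840) (tt N4326 D12243) (tt N4325 (iv F21583)) (tt N4254 (iv F21462)) (tt N1743 F17841) (tt N2581 F17842) (tt N1660 (iv D10041)))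
theorem Q2592 : ∀ i, i < 2592 → P i := stepQ 2591 Q2591 (allL N2591 (tt N1661 (iv D10042)) (tt N3734 (iv F20492)) (tt N3737 (iv F23438)) (tt N3133 (iv F21629)) (tt N1744 F17843) (tt N4327 D12245) (tt N4328 D12246))
theorem Q2593 : ∀ i, i < 2593 → P i := stepQ 2592 Q2592 (allL N2592 (tt N3737 (iv F23437)) (tt N4329 D12247) (tt N1661 (iv D10043)) (tt N4330 D12248) (tt N1745 F17844) (tt N4331 D12249) (tt N4332 D12250))
theorem Q2594 : ∀ i, i < 2594 → P i := stepQ 2593 Q2593 (allL N2593 (tt N4327 (iv F21590)) (tt N4333 D12251) (tt N4331 (iv F21596)) (tt N4255 (iv F21465)) (tt N1746 F17845) (tt N1661 (iv D10044)) (tt N4334 D12252))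
theorem Q2595 : ∀ i, i < 2595 → P i := stepQ 2594 Q2594 (allL N2594 (tt N4328 (iv F21592)) (tt N4218 (iv F21406)) (tt N4332 (iv F21598)) (tt N4256 (iv F21466)) (tt N1747 F17846) (tt N4335 D12253) (tt N1661 (iv D10045)))
theorem Q2596 : ∀ i, i < 2596 → P i := stepQ 2595 Q2595 (allL N2595 (tt N4336 D12254) (tt N1662 (iv D10046)) (tt N4329 (iv F21594)) (tt N4337 D12255) (tt N1748 F17847) (tt N4338 D12256) (tt N4339 D12257))
theorem Q2597 : ∀ i, i < 2597 → P i := stepQ 2596 Q2596 (allL N2596 (tt N1664 F17848) (tt N4337 (iv F21609)) (tt N4340 D12258) (tt N1662 (iv D10047)) (tt N4341 D12259) (tt N4342 D12260) (tt N4220 (iv F21410)))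
theorem Q2598 : ∀ i, i < 2598 → P i := stepQ 2597 Q2597 (allL N2597 (tt N1665 F17849) (tt N4343 D12261) (tt N1663 F17850) (tt N4342 (iv F21617)) (tt N1750 F17851) (tt N1662 (iv D10048)) (tt N2543 F17852))
theorem Q2599 : ∀ i, i < 2599 → P i := stepQ 2598 Q2598 (allL N2598 (tt N4344 D12262) (tt N1663 (iv D10049)) (tt N4345 D12263) (tt N4260 (iv F21471)) (tt N1751 F17853) (tt N4333 (iv F21601)) (tt N4346 D12264))
theorem Q2600 : ∀ i, i < 2600 → P i := stepQ 2599 Q2599 (allL N2599 (tt N4340 (iv F21612)) (tt N4347 D12265) (tt N1664 (iv D10050)) (tt N4348 D12266) (tt N4349 D12267) (tt N4350 D12268) (tt N4221 (iv F21411)))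
theorem Q2601 : ∀ i, i < 2601 → P i := stepQ 2600 Q2600 (allL N2600 (tt N4341 (iv F21614)) (tt N1678 F17854) (tt N4349 (iv F21631)) (tt N1753 F17855) (tt N1664 (iv D10051)) (tt N4351 D12269) (tt N4222 (iv F21414)))
theorem Q2602 : ∀ i, i < 2602 → P i := stepQ 2601 Q2601 (allL N2601 (tt N4342 (iv F21616)) (tt N4352 D12270) (tt N4350 (iv F21632)) (tt N1665 F17856) (tt N4351 (iv F21634)) (tt N1664 (iv D10052)) (tt N4353 D12271))
theorem Q2603 : ∀ i, i < 2603 → P i := stepQ 2602 Q2602 (allL N2602 (tt N4354 D12272) (tt N1665 (iv D10053)) (tt N3774 (iv F20569)) (tt N4352 (iv F21635)) (tt N1755 F17857) (tt N1679 F17858) (tt N4355 D12273))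
theorem Q2604 : ∀ i, i < 2604 → P i := stepQ 2603 Q2603 (allL N2603 (tt N2543 F17859) (tt N4356 D12274) (tt N1667 F17860) (tt N4353 (iv F21638)) (tt N1756 F17861) (tt N2541 F17862) (tt N1665 (iv D10054)))
theorem Q2605 : ∀ i, i < 2605 → P i := stepQ 2604 Q2604 (allL N2604 (tt N1666 (iv D10055)) (tt N4357 D12275) (tt N4358 D12276) (tt N4266 (iv F21478)) (tt N1757 F17863) (tt N1668 F17864) (tt N2613 (iv F17880)))
theorem Q2606 : ∀ i, i < 2606 → P i := stepQ 2605 Q2605 (allL N2605 (tt N4358 (iv F21645)) (tt N3774 (iv F20568)) (tt N1666 (iv D10056)) (tt N4359 D12277) (tt N1758 F17865) (tt N1669 F17866) (tt N4360 D12278))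
theorem Q2607 : ∀ i, i < 2607 → P i := stepQ 2606 Q2606 (allL N2606 (tt N2613 (iv F17878)) (tt N4361 D12279) (tt N4360 (iv F21649)) (tt N4268 (iv F21483)) (tt N1759 F17867) (tt N2610 (iv F17874)) (tt N1666 (iv D10057)))
theorem Q2608 : ∀ i, i < 2608 → P i := stepQ 2607 Q2607 (allL N2607 (tt N4362 D12280) (tt N1667 (iv D10058)) (tt N4363 D12281) (tt N4269 (iv F21485)) (tt N1760 F17868) (tt N4364 D12282) (tt N4361 (iv F21652)))
theorem Q2609 : ∀ i, i < 2609 → P i := stepQ 2608 Q2608 (allL N2608 (tt N4365 D12283) (tt N1668 (iv D10059)) (tt N4366 D12284) (tt N4270 (iv F21486)) (tt N1761 F17869) (tt N4367 D12285) (tt N4368 D12286))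
theorem Q2610 : ∀ i, i < 2610 → P i := stepQ 2609 Q2609 (allL N2609 (tt N1669 F17870) (tt N4369 D12287) (tt N1668 (iv D10060)) (tt N4370 D12288) (tt N1762 F17871) (tt N4358 (iv F21647)) (tt N4371 D12289))
theorem Q2611 : ∀ i, i < 2611 → P i := stepQ 2610 Q2610 (allL N2610 (tt N1670 F17872) (tt N4372 D12290) (tt N4371 (iv F21665)) (tt N4272 (iv F21491)) (tt N1763 F17873) (tt N2606 F17874) (tt N1668 (iv D10061)))
theorem Q2612 : ∀ i, i < 2612 → P i := stepQ 2611 Q2611 (allL N2611 (tt N4370 (iv F21663)) (tt N1682 F17875) (tt N4373 D12291) (tt N1669 (iv D10062)) (tt N4374 D12292) (tt N4359 (iv F21648)) (tt N4375 D12293))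
theorem Q2613 : ∀ i, i < 2613 → P i := stepQ 2612 Q2612 (allL N2612 (tt N4371 (iv F21664)) (tt N3766 (iv F20548)) (tt N1670 F17876) (tt N4375 (iv F21671)) (tt N1765 F17877) (tt N4376 D12294) (tt N1669 (iv D10063)))
theorem Q2614 : ∀ i, i < 2614 → P i := stepQ 2613 Q2613 (allL N2613 (tt N2606 F17878) (tt N4377 D12295) (tt N4376 (iv F21673)) (tt N4275 (iv F21498)) (tt N1766 F17879) (tt N1670 (iv D10064)) (tt N2604 F17880))
theorem Q2615 : ∀ i, i < 2615 → P i := stepQ 2614 Q2614 (allL N2614 (tt N4378 D12296) (tt N1671 (iv D10065)) (tt N4296 (iv F21535)) (tt N1673 F17881) (tt N4379 D12297) (tt N4380 D12298) (tt N4301 (iv F21547)))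
theorem Q2616 : ∀ i, i < 2616 → P i := stepQ 2615 Q2615 (allL N2615 (tt N2615 F17882) (tt N4379 (iv F21679)) (tt N1672 F17883) (tt N1767 F17884) (tt N1671 (iv D10066)) (tt N2615 F17885) (tt N1672 F17886))
theorem Q2617 : ∀ i, i < 2617 → P i := stepQ 2616 Q2616 (allL N2616 (tt N1673 (iv D10067)) (tt N4381 D12299) (tt N3767 (iv F20551)) (tt N4378 (iv F21678)) (tt N1769 F17887) (tt N4382 D12300) (tt N4303 (iv F21552)))
theorem Q2618 : ∀ i, i < 2618 → P i := stepQ 2617 Q2617 (allL N2617 (tt N4382 (iv F21684)) (tt N2617 F17888) (tt N3769 (iv F20555)) (tt N4380 (iv F21682)) (tt N1771 F17889) (tt N1673 (iv D10068)) (tt N4383 D12301))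
theorem Q2619 : ∀ i, i < 2619 → P i := stepQ 2618 Q2618 (allL N2618 (tt N1674 (iv D10069)) (tt N2628 (iv F17914)) (tt N4384 D12302) (tt N1683 F17890) (tt N1773 F17891) (tt N1674 F17893) (tt N2166 F17892))
theorem Q2620 : ∀ i, i < 2620 → P i := stepQ 2619 Q2619 (allL N2619 (tt N4384 (iv F21690)) (tt N4385 D12303) (tt N1674 (iv D10070)) (tt N4386 D12304) (tt N1774 F17894) (tt N4384 (iv F21692)) (tt N2167 F17895))
theorem Q2621 : ∀ i, i < 2621 → P i := stepQ 2620 Q2620 (allL N2620 (tt N4387 D12305) (tt N1675 (iv D10071)) (tt N4385 (iv F21694)) (tt N4388 D12306) (tt N1775 F17896) (tt N4389 D12307) (tt N4390 D12308))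
theorem Q2622 : ∀ i, i < 2622 → P i := stepQ 2621 Q2621 (allL N2621 (tt N1676 F17897) (tt N4388 (iv F21698)) (tt N2288 F17899) (tt N1675 (iv D10072)) (tt N4391 D12309) (tt N2622 (iv F17902)) (tt N2165 F17898))
theorem Q2623 : ∀ i, i < 2623 → P i := stepQ 2622 Q2622 (allL N2622 (tt N2288 F17900) (tt N4392 D12310) (tt N1676 (iv D10073)) (tt N2286 F17901) (tt N4393 D12311) (tt N2621 F17902) (tt N2285 F17903))
theorem Q2624 : ∀ i, i < 2624 → P i := stepQ 2623 Q2623 (allL N2623 (tt N4391 (iv F21702)) (tt N4323 (iv F21579)) (tt N4393 (iv F21708)) (tt N1778 F17904) (tt N1676 (iv D10074)) (tt N3753 F20526) (tt N3771 (iv F20564)))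
theorem Q2625 : ∀ i, i < 2625 → P i := stepQ 2624 Q2624 (allL N2624 (tt N4394 D12312) (tt N1677 (iv D10075)) (tt N4347 (iv F21624)) (tt N1679 F17905) (tt N4395 D12313) (tt N4352 (iv F21636)) (tt N4396 D12314))
theorem Q2626 : ∀ i, i < 2626 → P i := stepQ 2625 Q2625 (allL N2625 (tt N2625 F17906) (tt N4395 (iv F21713)) (tt N1678 F17907) (tt N1779 F17908) (tt N1677 (iv D10076)) (tt N1678 F17909) (tt N2625 F17910))
theorem Q2627 : ∀ i, i < 2627 → P i := stepQ 2626 Q2626 (allL N2626 (tt N1679 (iv D10077)) (tt N4397 D12315) (tt N3772 (iv F20565)) (tt N4394 (iv F21712)) (tt N1781 F17911) (tt N4354 (iv F21641)) (tt N4398 D12316))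
theorem Q2628 : ∀ i, i < 2628 → P i := stepQ 2627 Q2627 (allL N2627 (tt N4398 (iv F21718)) (tt N2627 F17912) (tt N3775 (iv F20572)) (tt N4396 (iv F21716)) (tt N1783 F17913) (tt N4399 D12317) (tt N1679 (iv D10078)))
theorem Q2629 : ∀ i, i < 2629 → P i := stepQ 2628 Q2628 (allL N2628 (tt N1680 (iv D10079)) (tt N2618 F17914) (tt N4400 D12318) (tt N1685 F17915) (tt N1785 F17916) (tt N2169 F17917) (tt N1680 F17918))
theorem Q2630 : ∀ i, i < 2630 → P i := stepQ 2629 Q2629 (allL N2629 (tt N4400 (iv F21724)) (tt N4401 D12319) (tt N1680 (iv D10080)) (tt N4402 D12320) (tt N1786 F17919) (tt N2170 F17920) (tt N4400 (iv F21727)))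
theorem Q2631 : ∀ i, i < 2631 → P i := stepQ 2630 Q2630 (allL N2630 (tt N4403 D12321) (tt N1681 (iv D10081)) (tt N4401 (iv F21728)) (tt N4404 D12322) (tt N1787 F17921) (tt N4405 D12323) (tt N4406 D12324))
theorem Q2632 : ∀ i, i < 2632 → P i := stepQ 2631 Q2631 (allL N2631 (tt N1682 F17922) (tt N4404 (iv F21732)) (tt N2294 F17924) (tt N1681 (iv D10082)) (tt N4407 D12325) (tt N2168 F17923) (tt N2632 (iv F17928)))
theorem Q2633 : ∀ i, i < 2633 → P i := stepQ 2632 Q2632 (allL N2632 (tt N2294 F17925) (tt N4408 D12326) (tt N1682 (iv D10083)) (tt N2292 F17926) (tt N4409 D12327) (tt N2291 F17927) (tt N2631 F17928))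
theorem Q2634 : ∀ i, i < 2634 → P i := stepQ 2633 Q2633 (allL N2633 (tt N4407 (iv F21736)) (tt N4374 (iv F21669)) (tt N4409 (iv F21742)) (tt N1790 F17929) (tt N1682 (iv D10084)) (tt N3776 (iv F20577)) (tt N3763 F20544))
theorem Q2635 : ∀ i, i < 2635 → P i := stepQ 2634 Q2634 (allL N2634 (tt N1684 F17930) (tt N4410 D12328) (tt N1683 (iv D10085)) (tt N4411 D12329) (tt N1687 F17931) (tt N1684 F17932) (tt N2171 F17933))
theorem Q2636 : ∀ i, i < 2636 → P i := stepQ 2635 Q2635 (allL N2635 (tt N4411 (iv F21748)) (tt N3518 (iv F20073)) (tt N4412 D12330) (tt N1684 (iv D10086)) (tt N3181 (iv F32940)) (tt N4411 (iv F21749)) (tt N2172 F17934))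
theorem Q2637 : ∀ i, i < 2637 → P i := stepQ 2636 Q2636 (allL N2636 (tt N1686 F17935) (tt N4413 D12332) (tt N1685 (iv D10087)) (tt N4414 D12333) (tt N1688 F17936) (tt N2173 F17937) (tt N1686 F17938))
theorem Q2638 : ∀ i, i < 2638 → P i := stepQ 2637 Q2637 (allL N2637 (tt N4414 (iv F21759)) (tt N3516 (iv F20066)) (tt N4415 D12334) (tt N1686 (iv D10088)) (tt N3187 (iv F32960)) (tt N2174 F17939) (tt N4414 (iv F21761)))
theorem Q2639 : ∀ i, i < 2639 → P i := stepQ 2638 Q2638 (allL N2638 (tt N2638 F17940) (tt N1687 (iv D10089)) (tt N2639 (iv F17947)) (tt N3190 (iv F32941)) (tt N4410 (iv F21747)) (tt N2639 (iv F17948)) (tt N2639 (iv F17949)))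
theorem Q2640 : ∀ i, i < 2640 → P i := stepQ 2639 Q2639 (allL N2639 (tt N2639 F17946) (tt N1688 (iv D10093)) (tt N2638 F17947) (tt N3191 (iv F32906)) (tt N4413 (iv F21756)) (tt N2638 F17948) (tt N2638 F17949))
theorem Q2641 : ∀ i, i < 2641 → P i := stepQ 2640 Q2640 (allL N2640 (tt N1692 F17955) (tt N3405 (iv F19854)) (tt N4416 D12344) (tt N1689 (iv D10097)) (tt N4417 D12345) (tt N4418 D12346) (tt N4419 D12347))
theorem Q2642 : ∀ i, i < 2642 → P i := stepQ 2641 Q2641 (allL N2641 (tt N1693 F17956) (tt N4420 D12348) (tt N1690 F17957) (tt N4418 (iv F21794)) (tt N4125 (iv F21246)) (tt N1689 (iv D10098)) (tt N2652 (iv F17969)))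
theorem Q2643 : ∀ i, i < 2643 → P i := stepQ 2642 Q2642 (allL N2642 (tt N1694 F17958) (tt N4421 D12349) (tt N1691 F17959) (tt N4419 (iv F21796)) (tt N4126 (iv F21249)) (tt N2650 (iv F17965)) (tt N1689 (iv D10099)))
theorem Q2644 : ∀ i, i < 2644 → P i := stepQ 2643 Q2643 (allL N2643 (tt N4422 D12350) (tt N1690 (iv D10100)) (tt N4423 D12351) (tt N3777 (iv F20579)) (tt N4127 (iv F21250)) (tt N3777 (iv F20580)) (tt N4424 D12352))
theorem Q2645 : ∀ i, i < 2645 → P i := stepQ 2644 Q2644 (allL N2644 (tt N4425 D12353) (tt N1691 (iv D10101)) (tt N4426 D12354) (tt N3778 (iv F20581)) (tt N4128 (iv F21251)) (tt N4427 D12355) (tt N3778 (iv F20582)))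
theorem Q2646 : ∀ i, i < 2646 → P i := stepQ 2645 Q2645 (allL N2645 (tt N4416 (iv F21788)) (tt N4428 D12356) (tt N1692 (iv D10102)) (tt N4429 D12357) (tt N4430 D12358) (tt N4431 D12359) (tt N4432 D12360))
theorem Q2647 : ∀ i, i < 2647 → P i := stepQ 2646 Q2646 (allL N2646 (tt N4417 (iv F21790)) (tt N2646 F17960) (tt N4430 (iv F21801)) (tt N4129 (iv F21255)) (tt N1692 (iv D10103)) (tt N4433 D12361) (tt N4434 D12362))
theorem Q2648 : ∀ i, i < 2648 → P i := stepQ 2647 Q2647 (allL N2647 (tt N4418 (iv F21793)) (tt N4435 D12363) (tt N4431 (iv F21802)) (tt N1693 F17961) (tt N4433 (iv F21804)) (tt N1692 (iv D10104)) (tt N4436 D12364))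
theorem Q2649 : ∀ i, i < 2649 → P i := stepQ 2648 Q2648 (allL N2648 (tt N4419 (iv F21795)) (tt N4437 D12365) (tt N4432 (iv F21803)) (tt N1694 F17962) (tt N4434 (iv F21805)) (tt N4438 D12366) (tt N1692 (iv D10105)))
theorem Q2650 : ∀ i, i < 2650 → P i := stepQ 2649 Q2649 (allL N2649 (tt N2649 F21829) (tt N1693 (iv D10106)) (tt N4439 D12368) (tt N4435 (iv F21806)) (tt N4132 (iv F21260)) (tt N2649 F17963) (tt N4440 D12369))
theorem Q2651 : ∀ i, i < 2651 → P i := stepQ 2650 Q2650 (allL N2650 (tt N2652 (iv F17967)) (tt N4441 D12370) (tt N1696 F17964) (tt N4436 (iv F21808)) (tt N4133 (iv F21263)) (tt N2642 F17965) (tt N1693 (iv D10107)))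
theorem Q2652 : ∀ i, i < 2652 → P i := stepQ 2651 Q2651 (allL N2651 (tt N2651 F29286) (tt N1694 (iv D10108)) (tt N4442 D12372) (tt N4437 (iv F21810)) (tt N4134 (iv F21265)) (tt N4443 D12373) (tt N2651 F17966))
theorem Q2653 : ∀ i, i < 2653 → P i := stepQ 2652 Q2652 (allL N2652 (tt N2650 F17967) (tt N4444 D12374) (tt N1698 F17968) (tt N4438 (iv F21813)) (tt N4135 (iv F21269)) (tt N1694 (iv D10109)) (tt N2641 F17969))
theorem Q2654 : ∀ i, i < 2654 → P i := stepQ 2653 Q2653 (allL N2653 (tt N1695 (iv D10110)) (tt N4445 D12375) (tt N4446 D12376) (tt N2309 F17970) (tt N4140 (iv F21282)) (tt N1699 F17971) (tt N2666 (iv F17981)))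
theorem Q2655 : ∀ i, i < 2655 → P i := stepQ 2654 Q2654 (allL N2654 (tt N4446 (iv F21825)) (tt N4439 (iv F21816)) (tt N1695 (iv D10111)) (tt N4447 D12377) (tt N4141 (iv F21284)) (tt N1700 F17972) (tt N4448 D12378))
theorem Q2656 : ∀ i, i < 2656 → P i := stepQ 2655 Q2655 (allL N2655 (tt N2666 (iv F17980)) (tt N4449 D12379) (tt N4448 (iv F21836)) (tt N3783 (iv F20588)) (tt N4142 (iv F21286)) (tt N2663 (iv F17977)) (tt N1695 (iv D10112)))
theorem Q2657 : ∀ i, i < 2657 → P i := stepQ 2656 Q2656 (allL N2656 (tt N4450 D12380) (tt N1696 (iv D10113)) (tt N4451 D12381) (tt N3784 (iv F20589)) (tt N4143 (iv F21287)) (tt N4452 D12382) (tt N4449 (iv F21837)))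
theorem Q2658 : ∀ i, i < 2658 → P i := stepQ 2657 Q2657 (allL N2657 (tt N1697 (iv D10114)) (tt N4453 D12383) (tt N4454 D12384) (tt N2312 F34739) (tt N4144 (iv F21288)) (tt N2672 (iv F17988)) (tt N1702 F17973))
theorem Q2659 : ∀ i, i < 2659 → P i := stepQ 2658 Q2658 (allL N2658 (tt N4454 (iv F21839)) (tt N4442 (iv F21819)) (tt N1697 (iv D10115)) (tt N4455 D12385) (tt N4145 (iv F21290)) (tt N4456 D12386) (tt N1703 F17974))
theorem Q2660 : ∀ i, i < 2660 → P i := stepQ 2659 Q2659 (allL N2659 (tt N2672 (iv F17987)) (tt N4457 D12387) (tt N4456 (iv F21842)) (tt N3785 (iv F20593)) (tt N4146 (iv F21292)) (tt N1697 (iv D10116)) (tt N2669 (iv F17984)))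
theorem Q2661 : ∀ i, i < 2661 → P i := stepQ 2660 Q2660 (allL N2660 (tt N4458 D12388) (tt N1698 (iv D10117)) (tt N4459 D12389) (tt N3786 (iv F20594)) (tt N4147 (iv F21293)) (tt N4457 (iv F21843)) (tt N4460 D12390))
theorem Q2662 : ∀ i, i < 2662 → P i := stepQ 2661 Q2661 (allL N2661 (tt N4461 D12391) (tt N1699 (iv D10118)) (tt N4462 D12392) (tt N3787 (iv F20596)) (tt N4162 (iv F21309)) (tt N4463 D12393) (tt N4464 D12394))
theorem Q2663 : ∀ i, i < 2663 → P i := stepQ 2662 Q2662 (allL N2662 (tt N1700 F17975) (tt N4465 D12395) (tt N1699 (iv D10119)) (tt N4466 D12396) (tt N4163 (iv F21311)) (tt N4446 (iv F21826)) (tt N4467 D12397))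
theorem Q2664 : ∀ i, i < 2664 → P i := stepQ 2663 Q2663 (allL N2663 (tt N1701 F17976) (tt N4468 D12398) (tt N4467 (iv F21853)) (tt N3788 (iv F20599)) (tt N4164 (iv F21313)) (tt N2655 F17977) (tt N1699 (iv D10120)))
theorem Q2665 : ∀ i, i < 2665 → P i := stepQ 2664 Q2664 (allL N2664 (tt N4466 (iv F21851)) (tt N2664 F17978) (tt N4447 (iv F21835)) (tt N1700 (iv D10121)) (tt N4469 D12399) (tt N4447 (iv F21834)) (tt N4470 D12400))
theorem Q2666 : ∀ i, i < 2666 → P i := stepQ 2665 Q2665 (allL N2665 (tt N4467 (iv F21852)) (tt N4471 D12401) (tt N1701 F17979) (tt N4470 (iv F21856)) (tt N4166 (iv F21317)) (tt N4472 D12402) (tt N1700 (iv D10122)))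
theorem Q2667 : ∀ i, i < 2667 → P i := stepQ 2666 Q2666 (allL N2666 (tt N2655 F17980) (tt N3880 (iv F22128)) (tt N4472 (iv F21859)) (tt N3789 (iv F20603)) (tt N4167 (iv F21319)) (tt N1701 (iv D10123)) (tt N2653 F17981))
theorem Q2668 : ∀ i, i < 2668 → P i := stepQ 2667 Q2667 (allL N2667 (tt N4473 D12404) (tt N1702 (iv D10124)) (tt N4474 D12405) (tt N3790 (iv F20605)) (tt N4168 (iv F21321)) (tt N4475 D12406) (tt N4476 D12407))
theorem Q2669 : ∀ i, i < 2669 → P i := stepQ 2668 Q2668 (allL N2668 (tt N1703 F17982) (tt N4477 D12408) (tt N1702 (iv D10125)) (tt N4478 D12409) (tt N4169 (iv F21323)) (tt N4479 D12410) (tt N4454 (iv F21840)))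
theorem Q2670 : ∀ i, i < 2670 → P i := stepQ 2669 Q2669 (allL N2669 (tt N1704 F17983) (tt N4480 D12411) (tt N4479 (iv F21864)) (tt N3791 (iv F20608)) (tt N4170 (iv F21325)) (tt N1702 (iv D10126)) (tt N2659 F17984))
theorem Q2671 : ∀ i, i < 2671 → P i := stepQ 2670 Q2670 (allL N2670 (tt N4478 (iv F21862)) (tt N2670 F17985) (tt N4455 F34791) (tt N1703 (iv D10127)) (tt N4481 D12413) (tt N4482 D12414) (tt N4455 (iv F21841)))
theorem Q2672 : ∀ i, i < 2672 → P i := stepQ 2671 Q2671 (allL N2671 (tt N4479 (iv F21863)) (tt N4483 D12415) (tt N1704 F17986) (tt N4482 (iv F21867)) (tt N4172 (iv F21329)) (tt N1703 (iv D10128)) (tt N4484 D12416))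
theorem Q2673 : ∀ i, i < 2673 → P i := stepQ 2672 Q2672 (allL N2672 (tt N2659 F17987) (tt N3854 (iv F22082)) (tt N4484 (iv F21870)) (tt N3792 F34747) (tt N4173 (iv F21331)) (tt N2657 F17988) (tt N1704 (iv D10129)))
theorem Q2674 : ∀ i, i < 2674 → P i := stepQ 2673 Q2673 (allL N2673 (tt N1705 (iv D10130)) (tt N4461 (iv F21845)) (tt N3478 F20099) (tt N3793 (iv F20614)) (tt N3483 (iv F20103)) (tt N3523 (iv F20111)) (tt N4485 D12418))
theorem Q2675 : ∀ i, i < 2675 → P i := stepQ 2674 Q2674 (allL N2674 (tt N3478 (iv F20098)) (tt N4486 D12419) (tt N1705 (iv D10131)) (tt N3560 (iv F20152)) (tt N3482 F20100) (tt N3522 (iv F20097)) (tt N4487 D12420))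
theorem Q2676 : ∀ i, i < 2676 → P i := stepQ 2675 Q2675 (allL N2675 (tt N3523 (iv F20109)) (tt N1723 F17989) (tt N3522 F20104) (tt N3795 (iv F20616)) (tt N4200 (iv F21374)) (tt N1705 (iv D10132)) (tt N4488 D12421))
theorem Q2677 : ∀ i, i < 2677 → P i := stepQ 2676 Q2676 (allL N2676 (tt N4485 (iv F21872)) (tt N2748 (iv F18062)) (tt N4487 (iv F21875)) (tt N3796 (iv F20617)) (tt N4201 (iv F21375)) (tt N4489 D12422) (tt N1705 (iv D10133)))
theorem Q2678 : ∀ i, i < 2678 → P i := stepQ 2677 Q2677 (allL N2677 (tt N4490 D12423) (tt N1706 (iv D10134)) (tt N4486 (iv F21874)) (tt N4491 D12424) (tt N4202 (iv F21376)) (tt N4492 D12425) (tt N4493 D12426))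
theorem Q2679 : ∀ i, i < 2679 → P i := stepQ 2678 Q2678 (allL N2678 (tt N1707 F17990) (tt N4491 (iv F21881)) (tt N4494 D12427) (tt N1706 (iv D10135)) (tt N4495 D12428) (tt N1726 F17991) (tt N2736 (iv F18053)))
theorem Q2680 : ∀ i, i < 2680 → P i := stepQ 2679 Q2679 (allL N2679 (tt N4494 (iv F21883)) (tt N4496 D12429) (tt N1707 (iv D10136)) (tt N4497 D12430) (tt N4498 D12431) (tt N1729 F17992) (tt N4499 D12432))
theorem Q2681 : ∀ i, i < 2681 → P i := stepQ 2680 Q2680 (allL N2680 (tt N4495 (iv F21886)) (tt N2680 F17993) (tt N4498 (iv F21893)) (tt N4205 (iv F21381)) (tt N1707 (iv D10137)) (tt N1730 F17994) (tt N4500 D12433))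
theorem Q2682 : ∀ i, i < 2682 → P i := stepQ 2681 Q2681 (allL N2681 (tt N2736 (iv F18051)) (tt N4501 D12434) (tt N4499 (iv F21895)) (tt N1708 F17995) (tt N4500 (iv F21896)) (tt N2726 (iv F18040)) (tt N1707 (iv D10138)))
theorem Q2683 : ∀ i, i < 2683 → P i := stepQ 2682 Q2682 (allL N2682 (tt N4471 (iv F29371)) (tt N1708 (iv D10139)) (tt N4502 D12436) (tt N4501 (iv F21897)) (tt N4207 (iv F21384)) (tt N4503 D12437) (tt N2682 F17996))
theorem Q2684 : ∀ i, i < 2684 → P i := stepQ 2683 Q2683 (allL N2683 (tt N1709 (iv D10140)) (tt N4504 D12438) (tt N4505 D12439) (tt N3803 (iv F20623)) (tt N4208 (iv F21386)) (tt N2691 (iv F18005)) (tt N1710 F17997))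
theorem Q2685 : ∀ i, i < 2685 → P i := stepQ 2684 Q2684 (allL N2684 (tt N4505 (iv F21902)) (tt N4502 (iv F21900)) (tt N1709 (iv D10141)) (tt N4506 D12440) (tt N4209 (iv F21388)) (tt N4507 D12441) (tt N1711 F17998))
theorem Q2686 : ∀ i, i < 2686 → P i := stepQ 2685 Q2685 (allL N2685 (tt N2691 (iv F18004)) (tt N2730 (iv F18041)) (tt N4507 (iv F21905)) (tt N3805 (iv F20626)) (tt N4210 (iv F21390)) (tt N1709 (iv D10142)) (tt N2688 (iv F18001)))
theorem Q2687 : ∀ i, i < 2687 → P i := stepQ 2686 Q2686 (allL N2686 (tt N4508 D12442) (tt N1710 (iv D10143)) (tt N4509 D12443) (tt N3806 (iv F20627)) (tt N4211 (iv F21391)) (tt N3870 F20728) (tt N4510 D12444))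
theorem Q2688 : ∀ i, i < 2688 → P i := stepQ 2687 Q2687 (allL N2687 (tt N1711 F17999) (tt N4511 D12445) (tt N1710 (iv D10144)) (tt N4512 D12446) (tt N4212 (iv F21393)) (tt N4513 D12447) (tt N4505 (iv F21903)))
theorem Q2689 : ∀ i, i < 2689 → P i := stepQ 2688 Q2688 (allL N2688 (tt N1712 F18000) (tt N3827 (iv F20656)) (tt N4513 (iv F21911)) (tt N3808 (iv F20630)) (tt N4213 (iv F21395)) (tt N1710 (iv D10145)) (tt N2685 F18001))
theorem Q2690 : ∀ i, i < 2690 → P i := stepQ 2689 Q2689 (allL N2689 (tt N4512 (iv F21909)) (tt N2689 F18002) (tt N4514 D12448) (tt N1711 (iv D10146)) (tt N4515 D12449) (tt N4516 D12450) (tt N4506 (iv F21904)))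
theorem Q2691 : ∀ i, i < 2691 → P i := stepQ 2690 Q2690 (allL N2690 (tt N4513 (iv F21910)) (tt N4517 D12451) (tt N1712 F18003) (tt N4516 (iv F21914)) (tt N4215 (iv F21399)) (tt N1711 (iv D10147)) (tt N4518 D12452))
theorem Q2692 : ∀ i, i < 2692 → P i := stepQ 2691 Q2691 (allL N2691 (tt N2685 F18004) (tt N4519 D12453) (tt N4518 (iv F21918)) (tt N3811 (iv F20636)) (tt N4216 (iv F21401)) (tt N2683 F18005) (tt N1712 (iv D10148)))
theorem Q2693 : ∀ i, i < 2693 → P i := stepQ 2692 Q2692 (allL N2692 (tt N1713 (iv D10149)) (tt N4473 (iv F21861)) (tt N3480 F34709) (tt N3812 (iv F20638)) (tt N3487 F34710) (tt N4520 D12455) (tt N3526 (iv F34726)))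
theorem Q2694 : ∀ i, i < 2694 → P i := stepQ 2693 Q2693 (allL N2693 (tt N3480 (iv F34701)) (tt N4521 D12457) (tt N1713 (iv D10150)) (tt N3564 (iv F34702)) (tt N3486 F34697) (tt N4522 D12459) (tt N3525 (iv F34704)))
theorem Q2695 : ∀ i, i < 2695 → P i := stepQ 2694 Q2694 (allL N2694 (tt N4520 (iv F21922)) (tt N2799 (iv F18114)) (tt N4522 (iv F21925)) (tt N3814 (iv F20639)) (tt N4217 (iv F21405)) (tt N1713 (iv D10151)) (tt N4523 D12461))
theorem Q2696 : ∀ i, i < 2696 → P i := stepQ 2695 Q2695 (allL N2695 (tt N3526 (iv F34725)) (tt N1747 F18006) (tt N3525 F34723) (tt N3815 (iv F20641)) (tt N4218 (iv F21407)) (tt N4524 D12462) (tt N1713 (iv D10152)))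
theorem Q2697 : ∀ i, i < 2697 → P i := stepQ 2696 Q2696 (allL N2696 (tt N4525 D12463) (tt N1714 (iv D10153)) (tt N4521 (iv F21924)) (tt N4526 D12464) (tt N4219 (iv F21408)) (tt N4527 D12465) (tt N4528 D12466))
theorem Q2698 : ∀ i, i < 2698 → P i := stepQ 2697 Q2697 (allL N2697 (tt N1715 F18007) (tt N4526 (iv F21930)) (tt N4529 D12467) (tt N1714 (iv D10154)) (tt N4530 D12468) (tt N2787 (iv F18103)) (tt N1749 F18008))
theorem Q2699 : ∀ i, i < 2699 → P i := stepQ 2698 Q2698 (allL N2698 (tt N4529 (iv F21932)) (tt N4531 D12469) (tt N1715 (iv D10155)) (tt N4532 D12470) (tt N4533 D12471) (tt N4534 D12472) (tt N1752 F18009))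
theorem Q2700 : ∀ i, i < 2700 → P i := stepQ 2699 Q2699 (allL N2699 (tt N4530 (iv F21935)) (tt N2699 F18010) (tt N4533 (iv F21942)) (tt N4222 (iv F21413)) (tt N1715 (iv D10156)) (tt N4535 D12473) (tt N1753 F18011))
theorem Q2701 : ∀ i, i < 2701 → P i := stepQ 2700 Q2700 (allL N2700 (tt N2787 (iv F18101)) (tt N4536 D12474) (tt N4534 (iv F21944)) (tt N1716 F18012) (tt N4535 (iv F21945)) (tt N1715 (iv D10157)) (tt N2777 (iv F18090)))
theorem Q2702 : ∀ i, i < 2702 → P i := stepQ 2701 Q2701 (allL N2701 (tt N4483 F34856) (tt N1716 (iv D10158)) (tt N4537 D12476) (tt N4536 (iv F21946)) (tt N4224 (iv F21416)) (tt N2701 F18013) (tt N4538 D12477))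
theorem Q2703 : ∀ i, i < 2703 → P i := stepQ 2702 Q2702 (allL N2702 (tt N1717 (iv D10159)) (tt N4539 D12478) (tt N4540 D12479) (tt N3822 (iv F20647)) (tt N4225 (iv F21418)) (tt N1718 F18014) (tt N2710 (iv F18022)))
theorem Q2704 : ∀ i, i < 2704 → P i := stepQ 2703 Q2703 (allL N2703 (tt N4540 (iv F21951)) (tt N4537 (iv F21949)) (tt N1717 (iv D10160)) (tt N4541 D12480) (tt N4226 (iv F21420)) (tt N1719 F18015) (tt N4542 D12481))
theorem Q2705 : ∀ i, i < 2705 → P i := stepQ 2704 Q2704 (allL N2704 (tt N2710 (iv F18021)) (tt N2781 (iv F18091)) (tt N4542 (iv F21954)) (tt N3824 (iv F20650)) (tt N4227 (iv F21422)) (tt N2707 (iv F18018)) (tt N1717 (iv D10161)))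
theorem Q2706 : ∀ i, i < 2706 → P i := stepQ 2705 Q2705 (allL N2705 (tt N4543 D12482) (tt N1718 (iv D10162)) (tt N4544 D12483) (tt N3825 (iv F20651)) (tt N4228 (iv F21423)) (tt N4545 D12484) (tt N3844 F20690))
theorem Q2707 : ∀ i, i < 2707 → P i := stepQ 2706 Q2706 (allL N2706 (tt N1719 F18016) (tt N4546 D12485) (tt N1718 (iv D10163)) (tt N4547 D12486) (tt N4229 (iv F21425)) (tt N4540 (iv F21952)) (tt N4548 D12487))
theorem Q2708 : ∀ i, i < 2708 → P i := stepQ 2707 Q2707 (allL N2707 (tt N1720 F18017) (tt N3808 F20632) (tt N4548 (iv F21961)) (tt N3827 (iv F20654)) (tt N4230 (iv F21427)) (tt N2704 F18018) (tt N1718 (iv D10164)))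
theorem Q2709 : ∀ i, i < 2709 → P i := stepQ 2708 Q2708 (allL N2708 (tt N4547 (iv F21959)) (tt N2708 F18019) (tt N4549 D12488) (tt N1719 (iv D10165)) (tt N4550 D12489) (tt N4541 (iv F21953)) (tt N4551 D12490))
theorem Q2710 : ∀ i, i < 2710 → P i := stepQ 2709 Q2709 (allL N2709 (tt N4548 (iv F21960)) (tt N4552 D12491) (tt N1720 F18020) (tt N4551 (iv F21964)) (tt N4232 (iv F21431)) (tt N4553 D12492) (tt N1719 (iv D10166)))
theorem Q2711 : ∀ i, i < 2711 → P i := stepQ 2710 Q2710 (allL N2710 (tt N2704 F18021) (tt N4554 D12493) (tt N4553 (iv F21968)) (tt N3830 (iv F20660)) (tt N4233 (iv F21433)) (tt N1720 (iv D10167)) (tt N2702 F18022))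
theorem Q2712 : ∀ i, i < 2712 → P i := stepQ 2711 Q2711 (allL N2711 (tt N1723 F18024) (tt N4555 D12494) (tt N3837 (iv F20680)) (tt N3831 (iv F20664)) (tt N4276 (iv F21502)) (tt N1721 (iv D10169)) (tt N2719 (iv F18032)))
theorem Q2713 : ∀ i, i < 2713 → P i := stepQ 2712 Q2712 (allL N2712 (tt N1724 F18025) (tt N4556 D12495) (tt N3838 (iv F20682)) (tt N3832 (iv F20667)) (tt N4277 (iv F21504)) (tt N2717 (iv F18029)) (tt N1721 (iv D10170)))
theorem Q2714 : ∀ i, i < 2714 → P i := stepQ 2713 Q2713 (allL N2713 (tt N3883 (iv F20742)) (tt N1722 (iv D10171)) (tt N1725 F18026) (tt N3268 F28996) (tt N4278 (iv F21506)) (tt N3267 (iv F28997)) (tt N4557 D12498))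
theorem Q2715 : ∀ i, i < 2715 → P i := stepQ 2714 Q2714 (allL N2714 (tt N3836 (iv F20676)) (tt N3268 (iv F28991)) (tt N2714 F20108) (tt N1722 (iv D10172)) (tt N4558 D12499) (tt N3072 F28990) (tt N4559 D12501))
theorem Q2716 : ∀ i, i < 2716 → P i := stepQ 2715 Q2715 (allL N2715 (tt N3837 (iv F20679)) (tt N3073 F28984) (tt N1723 F18027) (tt N3072 (iv F28987)) (tt N4280 (iv F21508)) (tt N1722 (iv D10173)) (tt N4560 D12503))
theorem Q2717 : ∀ i, i < 2717 → P i := stepQ 2716 Q2716 (allL N2716 (tt N3838 (iv F20681)) (tt N4561 D12504) (tt N1724 F18028) (tt N4559 (iv F21981)) (tt N4281 (iv F21510)) (tt N4562 D12505) (tt N1722 (iv D10174)))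
theorem Q2718 : ∀ i, i < 2718 → P i := stepQ 2717 Q2717 (allL N2717 (tt N2719 (iv F18031)) (tt N4563 D12506) (tt N4560 (iv F21982)) (tt N3833 (iv F20668)) (tt N4282 (iv F21511)) (tt N2712 F18029) (tt N1723 (iv D10175)))
theorem Q2719 : ∀ i, i < 2719 → P i := stepQ 2718 Q2718 (allL N2718 (tt N4564 D12507) (tt N1724 (iv D10176)) (tt N4565 D12508) (tt N3834 (iv F20670)) (tt N4283 (iv F21513)) (tt N4566 D12509) (tt N1728 F18030))
theorem Q2720 : ∀ i, i < 2720 → P i := stepQ 2719 Q2719 (allL N2719 (tt N2717 F18031) (tt N4567 D12510) (tt N4562 (iv F21985)) (tt N3835 (iv F20674)) (tt N4284 (iv F21516)) (tt N1724 (iv D10177)) (tt N2711 F18032))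
theorem Q2721 : ∀ i, i < 2721 → P i := stepQ 2720 Q2720 (allL N2720 (tt N1725 (iv D10178)) (tt N2720 F18033) (tt N3883 F20743) (tt N4568 D12511) (tt N4285 (iv F21519)) (tt N4569 D12512) (tt N4570 D12513))
theorem Q2722 : ∀ i, i < 2722 → P i := stepQ 2721 Q2721 (allL N2721 (tt N4568 (iv F21993)) (tt N1726 F18034) (tt N4571 D12514) (tt N1725 (iv D10179)) (tt N4572 D12515) (tt N4573 D12516) (tt N4574 D12517))
theorem Q2723 : ∀ i, i < 2723 → P i := stepQ 2722 Q2722 (allL N2722 (tt N4569 (iv F21995)) (tt N4492 (iv F21882)) (tt N3267 F29000) (tt N4573 (iv F21998)) (tt N4287 (iv F21521)) (tt N1725 (iv D10180)) (tt N4575 D12518))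
theorem Q2724 : ∀ i, i < 2724 → P i := stepQ 2723 Q2723 (allL N2723 (tt N4570 (iv F21996)) (tt N4576 D12519) (tt N4557 (iv F21976)) (tt N4574 (iv F21999)) (tt N4288 (iv F21522)) (tt N4577 D12520) (tt N1725 (iv D10181)))
theorem Q2725 : ∀ i, i < 2725 → P i := stepQ 2724 Q2724 (allL N2724 (tt N1729 F18035) (tt N4578 D12521) (tt N1726 (iv D10182)) (tt N2337 F18036) (tt N4579 D12522) (tt N4494 (iv F21884)) (tt N4580 D12523))
theorem Q2726 : ∀ i, i < 2726 → P i := stepQ 2725 Q2725 (allL N2725 (tt N1730 F18037) (tt N4572 (iv F21997)) (tt N4579 (iv F22006)) (tt N4290 (iv F21526)) (tt N1726 (iv D10183)) (tt N4495 (iv F21887)) (tt N4581 D12524))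
theorem Q2727 : ∀ i, i < 2727 → P i := stepQ 2726 Q2726 (allL N2726 (tt N1731 F18038) (tt N4582 D12525) (tt N4580 (iv F22008)) (tt N1727 F18039) (tt N4581 (iv F22012)) (tt N2681 F18040) (tt N1726 (iv D10184)))
theorem Q2728 : ∀ i, i < 2728 → P i := stepQ 2727 Q2727 (allL N2727 (tt N4583 D12526) (tt N1727 (iv D10185)) (tt N4584 D12527) (tt N4582 (iv F22014)) (tt N4292 (iv F21530)) (tt N4585 D12528) (tt N4576 (iv F22001)))
theorem Q2729 : ∀ i, i < 2729 → P i := stepQ 2728 Q2728 (allL N2728 (tt N1728 (iv D10186)) (tt N4586 D12529) (tt N4587 D12530) (tt N3842 (iv F20687)) (tt N4293 (iv F21531)) (tt N4588 D12531) (tt N4564 (iv F21988)))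
theorem Q2730 : ∀ i, i < 2730 → P i := stepQ 2729 Q2729 (allL N2729 (tt N4587 (iv F22017)) (tt N4584 (iv F22015)) (tt N1728 (iv D10187)) (tt N4589 D12532) (tt N4294 (iv F21532)) (tt N4590 D12533) (tt N4565 (iv F21990)))
theorem Q2731 : ∀ i, i < 2731 → P i := stepQ 2730 Q2730 (allL N2730 (tt N4588 (iv F22018)) (tt N2685 F18041) (tt N4590 (iv F22021)) (tt N3844 (iv F20689)) (tt N4295 (iv F21534)) (tt N1728 (iv D10188)) (tt N3825 F20657))
theorem Q2732 : ∀ i, i < 2732 → P i := stepQ 2731 Q2731 (allL N2731 (tt N2337 F18042) (tt N2731 F18043) (tt N2334 F18044) (tt N1729 (iv D10189)) (tt N4591 D12534) (tt N4497 (iv F21892)) (tt N4592 D12535))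
theorem Q2733 : ∀ i, i < 2733 → P i := stepQ 2732 Q2732 (allL N2732 (tt N4579 (iv F22005)) (tt N2732 F18045) (tt N1730 F18046) (tt N4593 D12536) (tt N1729 (iv D10190)) (tt N4498 (iv F21894)) (tt N4594 D12537))
theorem Q2734 : ∀ i, i < 2734 → P i := stepQ 2733 Q2733 (allL N2733 (tt N4580 (iv F22007)) (tt N4595 D12538) (tt N1731 F18047) (tt N4592 (iv F22027)) (tt N4594 (iv F22030)) (tt N4596 D12539) (tt N1729 (iv D10191)))
theorem Q2735 : ∀ i, i < 2735 → P i := stepQ 2734 Q2734 (allL N2734 (tt N4581 (iv F22011)) (tt N4597 D12540) (tt N4594 (iv F22029)) (tt N4300 (iv F21544)) (tt N1731 F18048) (tt N4598 D12541) (tt N1730 (iv D10192)))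
theorem Q2736 : ∀ i, i < 2736 → P i := stepQ 2735 Q2735 (allL N2735 (tt N4599 D12542) (tt N1731 (iv D10193)) (tt N4600 D12543) (tt N1732 F18049) (tt N4597 (iv F22035)) (tt N4601 D12544) (tt N1768 F18050))
theorem Q2737 : ∀ i, i < 2737 → P i := stepQ 2736 Q2736 (allL N2736 (tt N2681 F18051) (tt N4602 D12545) (tt N4596 (iv F22033)) (tt N1733 F18052) (tt N4598 (iv F22038)) (tt N1731 (iv D10194)) (tt N2678 F18053))
theorem Q2738 : ∀ i, i < 2738 → P i := stepQ 2737 Q2737 (allL N2737 (tt N1732 (iv D10195)) (tt N4603 D12546) (tt N4604 D12547) (tt N4599 (iv F22040)) (tt N4303 (iv F21551)) (tt N2821 (iv F18143)) (tt N1769 F18054))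
theorem Q2739 : ∀ i, i < 2739 → P i := stepQ 2738 Q2738 (allL N2738 (tt N4604 (iv F22045)) (tt N1735 F18055) (tt N1732 (iv D10196)) (tt N4605 D12548) (tt N3770 (iv F20559)) (tt N4606 D12549) (tt N1770 F18056))
theorem Q2740 : ∀ i, i < 2740 → P i := stepQ 2739 Q2739 (allL N2739 (tt N2821 (iv F18142)) (tt N4607 D12550) (tt N4606 (iv F22049)) (tt N4601 (iv F22043)) (tt N4304 (iv F21553)) (tt N1732 (iv D10197)) (tt N2818 (iv F18138)))
theorem Q2741 : ∀ i, i < 2741 → P i := stepQ 2740 Q2740 (allL N2740 (tt N4608 D12551) (tt N1733 (iv D10198)) (tt N4609 D12552) (tt N4602 (iv F22044)) (tt N4305 (iv F21554)) (tt N4607 (iv F22050)) (tt N4610 D12553))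
theorem Q2742 : ∀ i, i < 2742 → P i := stepQ 2741 Q2741 (allL N2741 (tt N4611 D12554) (tt N1734 (iv D10199)) (tt N4612 D12555) (tt N2807 (iv F18123)) (tt N4306 (iv F21555)) (tt N4613 D12556) (tt N4614 D12557))
theorem Q2743 : ∀ i, i < 2743 → P i := stepQ 2742 Q2742 (allL N2742 (tt N1735 F18057) (tt N4615 D12558) (tt N1734 (iv D10200)) (tt N4616 D12559) (tt N4307 (iv F21557)) (tt N2760 (iv F18071)) (tt N1739 F18058))
theorem Q2744 : ∀ i, i < 2744 → P i := stepQ 2743 Q2743 (allL N2743 (tt N4616 (iv F22054)) (tt N4605 (iv F22047)) (tt N4617 D12560) (tt N1735 (iv D10201)) (tt N4618 D12561) (tt N4619 D12562) (tt N1741 F18059))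
theorem Q2745 : ∀ i, i < 2745 → P i := stepQ 2744 Q2744 (allL N2744 (tt N2760 (iv F18069)) (tt N4620 D12563) (tt N1736 F18060) (tt N4619 (iv F22058)) (tt N4309 (iv F21561)) (tt N1735 (iv D10202)) (tt N2755 (iv F18066)))
theorem Q2746 : ∀ i, i < 2746 → P i := stepQ 2745 Q2745 (allL N2745 (tt N4621 D12564) (tt N1736 (iv D10203)) (tt N4622 D12565) (tt N2812 (iv F18129)) (tt N4310 (iv F21562)) (tt N1737 F18061) (tt N4623 D12566))
theorem Q2747 : ∀ i, i < 2747 → P i := stepQ 2746 Q2746 (allL N2746 (tt N1737 (iv D10204)) (tt N3792 F34748) (tt N4624 D12568) (tt N3854 (iv F20701)) (tt N4311 (iv F21564)) (tt N4621 (iv F22059)) (tt N4625 D12569))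
theorem Q2748 : ∀ i, i < 2748 → P i := stepQ 2747 Q2747 (allL N2747 (tt N4624 (iv F22061)) (tt N4609 (iv F22051)) (tt N1737 (iv D10205)) (tt N4626 D12570) (tt N4312 (iv F21565)) (tt N4622 (iv F22060)) (tt N4627 D12571))
theorem Q2749 : ∀ i, i < 2749 → P i := stepQ 2748 Q2748 (allL N2748 (tt N4625 (iv F22062)) (tt N2676 F18062) (tt N4627 (iv F22085)) (tt N3856 (iv F20703)) (tt N4313 (iv F21567)) (tt N4628 D12572) (tt N1737 (iv D10206)))
theorem Q2750 : ∀ i, i < 2750 → P i := stepQ 2749 Q2749 (allL N2749 (tt N1738 (iv D10207)) (tt N2800 (iv F18115)) (tt N4629 D12573) (tt N2800 (iv F18116)) (tt N4314 (iv F21568)) (tt N4630 D12574) (tt N4631 D12575))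
theorem Q2751 : ∀ i, i < 2751 → P i := stepQ 2750 Q2750 (allL N2750 (tt N4629 (iv F22088)) (tt N4632 D12576) (tt N1738 (iv D10208)) (tt N4633 D12577) (tt N4315 (iv F21569)) (tt N4634 D12578) (tt N4635 D12579))
theorem Q2752 : ∀ i, i < 2752 → P i := stepQ 2751 Q2751 (allL N2751 (tt N4630 (iv F22089)) (tt N4636 D12580) (tt N4634 (iv F22092)) (tt N2802 (iv F18117)) (tt N4316 (iv F21570)) (tt N1738 (iv D10209)) (tt N4480 F22099))
theorem Q2753 : ∀ i, i < 2753 → P i := stepQ 2752 Q2752 (allL N2752 (tt N4631 (iv F22090)) (tt N4614 (iv F22053)) (tt N4635 (iv F22093)) (tt N2803 (iv F18118)) (tt N4317 (iv F21571)) (tt N4637 D12581) (tt N1738 (iv D10210)))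
theorem Q2754 : ∀ i, i < 2754 → P i := stepQ 2753 Q2753 (allL N2753 (tt N4638 D12582) (tt N1739 (iv D10211)) (tt N4632 (iv F22091)) (tt N4639 D12583) (tt N4318 (iv F21572)) (tt N4640 D12584) (tt N4641 D12585))
theorem Q2755 : ∀ i, i < 2755 → P i := stepQ 2754 Q2754 (allL N2754 (tt N1741 F18063) (tt N4639 (iv F22107)) (tt N4642 D12586) (tt N1739 (iv D10212)) (tt N4643 D12587) (tt N4644 D12588) (tt N4616 (iv F22055)))
theorem Q2756 : ∀ i, i < 2756 → P i := stepQ 2755 Q2755 (allL N2755 (tt N1742 F18064) (tt N4645 D12589) (tt N1740 F18065) (tt N4644 (iv F22112)) (tt N4320 (iv F21576)) (tt N1739 (iv D10213)) (tt N2744 F18066))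
theorem Q2757 : ∀ i, i < 2757 → P i := stepQ 2756 Q2756 (allL N2756 (tt N4460 (iv F22096)) (tt N1740 (iv D10214)) (tt N4646 D12590) (tt N2792 (iv F18107)) (tt N4321 (iv F21578)) (tt N4636 (iv F22094)) (tt N4458 F22097))
theorem Q2758 : ∀ i, i < 2758 → P i := stepQ 2757 Q2757 (allL N2757 (tt N4642 (iv F22108)) (tt N4647 D12591) (tt N1741 (iv D10215)) (tt N4648 D12592) (tt N4649 D12593) (tt N4650 D12594) (tt N4617 (iv F22056)))
theorem Q2759 : ∀ i, i < 2759 → P i := stepQ 2758 Q2758 (allL N2758 (tt N4643 (iv F22110)) (tt N1778 F18067) (tt N4649 (iv F22117)) (tt N4323 (iv F21580)) (tt N1741 (iv D10216)) (tt N4651 D12595) (tt N4618 (iv F22057)))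
theorem Q2760 : ∀ i, i < 2760 → P i := stepQ 2759 Q2759 (allL N2759 (tt N4644 (iv F22111)) (tt N3908 (iv F20769)) (tt N4650 (iv F22118)) (tt N1742 F18068) (tt N4651 (iv F22119)) (tt N1741 (iv D10217)) (tt N4652 D12596))
theorem Q2761 : ∀ i, i < 2761 → P i := stepQ 2760 Q2760 (allL N2760 (tt N2744 F18069) (tt N4653 D12597) (tt N1743 F18070) (tt N4652 (iv F22121)) (tt N4325 (iv F21584)) (tt N2742 F18071) (tt N1742 (iv D10218)))
theorem Q2762 : ∀ i, i < 2762 → P i := stepQ 2761 Q2761 (allL N2761 (tt N4654 D12598) (tt N1743 (iv D10219)) (tt N4655 D12599) (tt N2796 (iv F18112)) (tt N4326 (iv F21586)) (tt N4656 D12600) (tt N2355 F18072))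
theorem Q2763 : ∀ i, i < 2763 → P i := stepQ 2762 Q2762 (allL N2762 (tt N1746 F18074) (tt N4657 D12605) (tt N3863 (iv F23440)) (tt N3857 (iv F20706)) (tt N4327 (iv F21591)) (tt N1744 (iv D10221)) (tt N2770 (iv F18082)))
theorem Q2764 : ∀ i, i < 2764 → P i := stepQ 2763 Q2763 (allL N2763 (tt N1747 F18075) (tt N4658 D12606) (tt N3864 (iv F23443)) (tt N3858 (iv F20708)) (tt N4328 (iv F21593)) (tt N2769 (iv F18080)) (tt N1744 (iv D10222)))
theorem Q2765 : ∀ i, i < 2765 → P i := stepQ 2764 Q2764 (allL N2764 (tt N3912 (iv F23449)) (tt N1745 (iv D10223)) (tt N1748 F18076) (tt N3292 (iv F34767)) (tt N4329 (iv F21595)) (tt N4659 D12609) (tt N3290 F34758))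
theorem Q2766 : ∀ i, i < 2766 → P i := stepQ 2765 Q2765 (allL N2765 (tt N3862 (iv F23436)) (tt N3292 (iv F34766)) (tt N2765 F23446) (tt N1745 (iv D10224)) (tt N4660 D12612) (tt N4661 D12613) (tt N3079 F34761))
theorem Q2767 : ∀ i, i < 2767 → P i := stepQ 2766 Q2766 (allL N2766 (tt N3863 (iv F23439)) (tt N4662 D12615) (tt N1746 F18077) (tt N4661 (iv F22149)) (tt N4331 (iv F21597)) (tt N1745 (iv D10225)) (tt N4663 D12616))
theorem Q2768 : ∀ i, i < 2768 → P i := stepQ 2767 Q2767 (allL N2767 (tt N3864 (iv F23442)) (tt N3080 F34737) (tt N1747 F18078) (tt N3079 (iv F34743)) (tt N4332 (iv F21599)) (tt N4664 D12618) (tt N1745 (iv D10226)))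
theorem Q2769 : ∀ i, i < 2769 → P i := stepQ 2768 Q2768 (allL N2768 (tt N4665 D12619) (tt N1746 (iv D10227)) (tt N4666 D12620) (tt N3859 (iv F20712)) (tt N4333 (iv F21600)) (tt N1751 F18079) (tt N4667 D12621))
theorem Q2770 : ∀ i, i < 2770 → P i := stepQ 2769 Q2769 (allL N2769 (tt N2770 (iv F18081)) (tt N4588 F22020) (tt N4663 (iv F22151)) (tt N3860 (iv F20714)) (tt N4334 (iv F21602)) (tt N2763 F18080) (tt N1746 (iv D10228)))
theorem Q2771 : ∀ i, i < 2771 → P i := stepQ 2770 Q2770 (allL N2770 (tt N2769 F18081) (tt N4668 D12622) (tt N4664 (iv F22154)) (tt N3861 (iv F20717)) (tt N4335 (iv F21605)) (tt N1747 (iv D10229)) (tt N2762 F18082))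
theorem Q2772 : ∀ i, i < 2772 → P i := stepQ 2771 Q2771 (allL N2771 (tt N1748 (iv D10230)) (tt N2771 F18083) (tt N3912 (iv F23450)) (tt N4669 D12623) (tt N4336 (iv F21608)) (tt N4670 D12624) (tt N4671 D12625))
theorem Q2773 : ∀ i, i < 2773 → P i := stepQ 2772 Q2772 (allL N2772 (tt N4669 (iv F22167)) (tt N1749 F18084) (tt N4672 D12626) (tt N1748 (iv D10231)) (tt N4673 D12627) (tt N4674 D12628) (tt N4675 D12629))
theorem Q2774 : ∀ i, i < 2774 → P i := stepQ 2773 Q2773 (allL N2773 (tt N4670 (iv F22169)) (tt N4676 D12630) (tt N4659 (iv F22147)) (tt N4674 (iv F22172)) (tt N4338 (iv F21610)) (tt N1748 (iv D10232)) (tt N4677 D12631))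
theorem Q2775 : ∀ i, i < 2775 → P i := stepQ 2774 Q2774 (allL N2774 (tt N4671 (iv F22170)) (tt N4528 (iv F21931)) (tt N3290 (iv F34742)) (tt N4675 (iv F22173)) (tt N4339 (iv F21611)) (tt N4678 D12632) (tt N1748 (iv D10233)))
theorem Q2776 : ∀ i, i < 2776 → P i := stepQ 2775 Q2775 (allL N2775 (tt N1752 F18085) (tt N4679 D12633) (tt N1749 (iv D10234)) (tt N2350 F18086) (tt N4680 D12634) (tt N4681 D12635) (tt N4529 (iv F21933)))
theorem Q2777 : ∀ i, i < 2777 → P i := stepQ 2776 Q2776 (allL N2776 (tt N1753 F18087) (tt N4673 (iv F22171)) (tt N4680 (iv F22180)) (tt N4341 (iv F21615)) (tt N1749 (iv D10235)) (tt N4682 D12636) (tt N4530 (iv F21936)))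
theorem Q2778 : ∀ i, i < 2778 → P i := stepQ 2777 Q2777 (allL N2777 (tt N1754 F18088) (tt N4683 D12637) (tt N4681 (iv F22182)) (tt N1750 F18089) (tt N4682 (iv F22186)) (tt N1749 (iv D10236)) (tt N2700 F18090))
theorem Q2779 : ∀ i, i < 2779 → P i := stepQ 2778 Q2778 (allL N2778 (tt N4684 D12638) (tt N1750 (iv D10237)) (tt N4685 D12639) (tt N4683 (iv F22188)) (tt N4343 (iv F21619)) (tt N4676 (iv F22174)) (tt N4686 D12640))
theorem Q2780 : ∀ i, i < 2780 → P i := stepQ 2779 Q2779 (allL N2779 (tt N1751 (iv D10238)) (tt N4687 D12641) (tt N4688 D12642) (tt N3868 (iv F20725)) (tt N4344 (iv F21620)) (tt N4665 (iv F22157)) (tt N4567 F22132))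
theorem Q2781 : ∀ i, i < 2781 → P i := stepQ 2780 Q2780 (allL N2780 (tt N4688 (iv F22193)) (tt N4685 (iv F22189)) (tt N1751 (iv D10239)) (tt N4689 D12643) (tt N4345 (iv F21621)) (tt N4666 (iv F22159)) (tt N4690 D12644))
theorem Q2782 : ∀ i, i < 2782 → P i := stepQ 2781 Q2781 (allL N2781 (tt N4567 (iv F22131)) (tt N2704 F18091) (tt N4690 (iv F22194)) (tt N3870 (iv F20727)) (tt N4346 (iv F21623)) (tt N3806 (iv F20633)) (tt N1751 (iv D10240)))
theorem Q2783 : ∀ i, i < 2783 → P i := stepQ 2782 Q2782 (allL N2782 (tt N2350 F18092) (tt N2782 F18093) (tt N2347 F18094) (tt N1752 (iv D10241)) (tt N4691 D12645) (tt N4692 D12646) (tt N4532 (iv F21941)))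
theorem Q2784 : ∀ i, i < 2784 → P i := stepQ 2783 Q2783 (allL N2783 (tt N4680 (iv F22179)) (tt N2783 F18095) (tt N1753 F18096) (tt N4693 D12647) (tt N1752 (iv D10242)) (tt N4694 D12648) (tt N4533 (iv F21943)))
theorem Q2785 : ∀ i, i < 2785 → P i := stepQ 2784 Q2784 (allL N2784 (tt N4681 (iv F22181)) (tt N4695 D12649) (tt N1754 F18097) (tt N4692 (iv F22200)) (tt N4694 (iv F22203)) (tt N1752 (iv D10243)) (tt N4696 D12650))
theorem Q2786 : ∀ i, i < 2786 → P i := stepQ 2785 Q2785 (allL N2785 (tt N4682 (iv F22185)) (tt N4697 D12651) (tt N4694 (iv F22202)) (tt N4351 (iv F21633)) (tt N1754 F18098) (tt N1753 (iv D10244)) (tt N4698 D12652))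
theorem Q2787 : ∀ i, i < 2787 → P i := stepQ 2786 Q2786 (allL N2786 (tt N4699 D12653) (tt N1754 (iv D10245)) (tt N4700 D12654) (tt N1755 F18099) (tt N4697 (iv F22208)) (tt N1780 F18100) (tt N4701 D12655))
theorem Q2788 : ∀ i, i < 2788 → P i := stepQ 2787 Q2787 (allL N2787 (tt N2700 F18101) (tt N4702 D12656) (tt N4696 (iv F22206)) (tt N1756 F18102) (tt N4698 (iv F22211)) (tt N2697 F18103) (tt N1754 (iv D10246)))
theorem Q2789 : ∀ i, i < 2789 → P i := stepQ 2788 Q2788 (allL N2788 (tt N1755 (iv D10247)) (tt N4703 D12657) (tt N4704 D12658) (tt N4699 (iv F22213)) (tt N4354 (iv F21640)) (tt N1781 F18104) (tt N2841 (iv F18169)))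
theorem Q2790 : ∀ i, i < 2790 → P i := stepQ 2789 Q2789 (allL N2789 (tt N4704 (iv F22218)) (tt N1758 F18105) (tt N1755 (iv D10248)) (tt N4705 D12659) (tt N3774 (iv F20570)) (tt N1782 F18106) (tt N4706 D12660))
theorem Q2791 : ∀ i, i < 2791 → P i := stepQ 2790 Q2790 (allL N2790 (tt N2841 (iv F18168)) (tt N4707 D12661) (tt N4706 (iv F22222)) (tt N4701 (iv F22216)) (tt N4355 (iv F21642)) (tt N2838 (iv F18164)) (tt N1755 (iv D10249)))
theorem Q2792 : ∀ i, i < 2792 → P i := stepQ 2791 Q2791 (allL N2791 (tt N4708 D12662) (tt N1756 (iv D10250)) (tt N4709 D12663) (tt N4702 (iv F22217)) (tt N4356 (iv F21643)) (tt N4710 D12664) (tt N4707 (iv F22223)))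
theorem Q2793 : ∀ i, i < 2793 → P i := stepQ 2792 Q2792 (allL N2792 (tt N4711 D12665) (tt N1757 (iv D10251)) (tt N4712 D12666) (tt N2756 F18107) (tt N4357 (iv F21644)) (tt N4713 D12667) (tt N4714 D12668))
theorem Q2794 : ∀ i, i < 2794 → P i := stepQ 2793 Q2793 (allL N2793 (tt N1758 F18108) (tt N4715 D12669) (tt N1757 (iv D10252)) (tt N4716 D12670) (tt N4358 (iv F21646)) (tt N1762 F18109) (tt N2811 (iv F18128)))
theorem Q2795 : ∀ i, i < 2795 → P i := stepQ 2794 Q2794 (allL N2794 (tt N4716 (iv F22232)) (tt N4705 (iv F22220)) (tt N4717 D12671) (tt N1758 (iv D10253)) (tt N4718 D12672) (tt N1764 F18110) (tt N4719 D12673))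
theorem Q2796 : ∀ i, i < 2796 → P i := stepQ 2795 Q2795 (allL N2795 (tt N2811 (iv F18126)) (tt N4720 D12674) (tt N1759 F18111) (tt N4719 (iv F22236)) (tt N4360 (iv F21650)) (tt N2806 (iv F18122)) (tt N1758 (iv D10254)))
theorem Q2797 : ∀ i, i < 2797 → P i := stepQ 2796 Q2796 (allL N2796 (tt N4721 D12675) (tt N1759 (iv D10255)) (tt N4722 D12676) (tt N2761 F18112) (tt N4361 (iv F21651)) (tt N4723 D12677) (tt N1760 F18113))
theorem Q2798 : ∀ i, i < 2798 → P i := stepQ 2797 Q2797 (allL N2797 (tt N1760 (iv D10256)) (tt N3789 (iv F22133)) (tt N4724 D12678) (tt N3880 (iv F20739)) (tt N4362 (iv F21653)) (tt N4725 D12679) (tt N4721 (iv F22238)))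
theorem Q2799 : ∀ i, i < 2799 → P i := stepQ 2798 Q2798 (allL N2798 (tt N4724 (iv F22242)) (tt N4709 (iv F22224)) (tt N1760 (iv D10257)) (tt N4726 D12680) (tt N4363 (iv F21654)) (tt N4727 D12681) (tt N4722 (iv F22240)))
theorem Q2800 : ∀ i, i < 2800 → P i := stepQ 2799 Q2799 (allL N2799 (tt N4725 (iv F22244)) (tt N2694 F18114) (tt N4727 (iv F22248)) (tt N3882 (iv F20741)) (tt N4364 (iv F21656)) (tt N1760 (iv D10258)) (tt N4728 D12682))
theorem Q2801 : ∀ i, i < 2801 → P i := stepQ 2800 Q2800 (allL N2800 (tt N1761 (iv D10259)) (tt N2749 F18115) (tt N4729 D12683) (tt N2749 F18116) (tt N4365 (iv F21658)) (tt N4730 D12684) (tt N4731 D12685))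
theorem Q2802 : ∀ i, i < 2802 → P i := stepQ 2801 Q2801 (allL N2801 (tt N4729 (iv F22259)) (tt N4732 D12686) (tt N1761 (iv D10260)) (tt N4733 D12687) (tt N4366 (iv F21659)) (tt N4734 D12688) (tt N4735 D12689))
theorem Q2803 : ∀ i, i < 2803 → P i := stepQ 2802 Q2802 (allL N2802 (tt N4730 (iv F22260)) (tt N4713 (iv F22228)) (tt N4734 (iv F22267)) (tt N2751 F18117) (tt N4367 (iv F21660)) (tt N1761 (iv D10261)) (tt N4736 D12690))
theorem Q2804 : ∀ i, i < 2804 → P i := stepQ 2803 Q2803 (allL N2803 (tt N4731 (iv F22264)) (tt N4737 D12691) (tt N4735 (iv F22268)) (tt N2752 F18118) (tt N4368 (iv F21661)) (tt N4468 F22106) (tt N1761 (iv D10262)))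
theorem Q2805 : ∀ i, i < 2805 → P i := stepQ 2804 Q2804 (allL N2804 (tt N4738 D12692) (tt N1762 (iv D10263)) (tt N4732 (iv F22266)) (tt N4739 D12693) (tt N4369 (iv F21662)) (tt N4740 D12694) (tt N4741 D12695))
theorem Q2806 : ∀ i, i < 2806 → P i := stepQ 2805 Q2805 (allL N2805 (tt N1764 F18119) (tt N4739 (iv F22276)) (tt N4648 (iv F22116)) (tt N1762 (iv D10264)) (tt N4742 D12696) (tt N4716 (iv F22233)) (tt N4743 D12697))
theorem Q2807 : ∀ i, i < 2807 → P i := stepQ 2806 Q2806 (allL N2806 (tt N1765 F18120) (tt N4744 D12698) (tt N1763 F18121) (tt N4743 (iv F22279)) (tt N4371 (iv F21666)) (tt N2795 F18122) (tt N1762 (iv D10265)))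
theorem Q2808 : ∀ i, i < 2808 → P i := stepQ 2807 Q2807 (allL N2807 (tt N4452 (iv F22255)) (tt N1763 (iv D10266)) (tt N4745 D12699) (tt N2741 F18123) (tt N4372 (iv F21668)) (tt N4450 F22254) (tt N4737 (iv F22275)))
theorem Q2809 : ∀ i, i < 2809 → P i := stepQ 2808 Q2808 (allL N2808 (tt N4648 (iv F22115)) (tt N4746 D12700) (tt N1764 (iv D10267)) (tt N4642 (iv F22109)) (tt N4747 D12701) (tt N4717 (iv F22234)) (tt N4748 D12702))
theorem Q2810 : ∀ i, i < 2810 → P i := stepQ 2809 Q2809 (allL N2809 (tt N4742 (iv F22277)) (tt N1790 F18124) (tt N4747 (iv F22282)) (tt N4374 (iv F21670)) (tt N1764 (iv D10268)) (tt N4718 (iv F22235)) (tt N4749 D12703))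
theorem Q2811 : ∀ i, i < 2811 → P i := stepQ 2810 Q2810 (allL N2810 (tt N4743 (iv F22278)) (tt N3936 (iv F20802)) (tt N4748 (iv F22283)) (tt N1765 F18125) (tt N4749 (iv F22284)) (tt N4750 D12704) (tt N1764 (iv D10269)))
theorem Q2812 : ∀ i, i < 2812 → P i := stepQ 2811 Q2811 (allL N2811 (tt N2795 F18126) (tt N4751 D12705) (tt N1766 F18127) (tt N4750 (iv F22286)) (tt N4376 (iv F21674)) (tt N1765 (iv D10270)) (tt N2793 F18128))
theorem Q2813 : ∀ i, i < 2813 → P i := stepQ 2812 Q2812 (allL N2812 (tt N4752 D12706) (tt N1766 (iv D10271)) (tt N4753 D12707) (tt N2745 F18129) (tt N4377 (iv F21676)) (tt N2342 F18130) (tt N4754 D12708))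
theorem Q2814 : ∀ i, i < 2814 → P i := stepQ 2813 Q2813 (allL N2813 (tt N4755 D12709) (tt N1767 (iv D10272)) (tt N4756 D12710) (tt N4379 (iv F21680)) (tt N1768 F18131) (tt N4756 (iv F28522)) (tt N4597 (iv F22036)))
theorem Q2815 : ∀ i, i < 2815 → P i := stepQ 2814 Q2814 (allL N2814 (tt N1768 (iv D10273)) (tt N4757 D12712) (tt N4758 D12713) (tt N1769 F18132) (tt N4755 (iv F22295)) (tt N4758 (iv F28524)) (tt N4599 (iv F22041)))
theorem Q2816 : ∀ i, i < 2816 → P i := stepQ 2815 Q2815 (allL N2815 (tt N4758 (iv F22301)) (tt N2815 F18133) (tt N1768 (iv D10274)) (tt N1771 (iv F28527)) (tt N4756 (iv F22297)) (tt N1768 (iv F28526)) (tt N4600 (iv F22042)))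
theorem Q2817 : ∀ i, i < 2817 → P i := stepQ 2816 Q2816 (allL N2816 (tt N4759 D12718) (tt N1769 (iv D10276)) (tt N4760 D12719) (tt N4757 (iv F22300)) (tt N4381 (iv F21683)) (tt N4465 (iv F21850)) (tt N4761 D12720))
theorem Q2818 : ∀ i, i < 2818 → P i := stepQ 2817 Q2817 (allL N2817 (tt N1770 F18136) (tt N4762 D12721) (tt N1769 (iv D10277)) (tt N4763 D12722) (tt N3767 (iv F20552)) (tt N4764 D12723) (tt N4604 (iv F22046)))
theorem Q2819 : ∀ i, i < 2819 → P i := stepQ 2818 Q2818 (allL N2818 (tt N1771 F18137) (tt N4446 (iv F21827)) (tt N4764 (iv F22313)) (tt N4758 (iv F28523)) (tt N4382 (iv F21685)) (tt N1769 (iv D10278)) (tt N2739 F18138))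
theorem Q2820 : ∀ i, i < 2820 → P i := stepQ 2819 Q2819 (allL N2819 (tt N4763 (iv F22311)) (tt N1772 F18139) (tt N4765 D12724) (tt N1770 (iv D10279)) (tt N4766 D12725) (tt N4767 D12726) (tt N4605 (iv F22048)))
theorem Q2821 : ∀ i, i < 2821 → P i := stepQ 2820 Q2820 (allL N2820 (tt N4764 (iv F22312)) (tt N2358 F18140) (tt N1771 F18141) (tt N4767 (iv F22317)) (tt N3769 (iv F20556)) (tt N1770 (iv D10280)) (tt N4768 D12727))
theorem Q2822 : ∀ i, i < 2822 → P i := stepQ 2821 Q2821 (allL N2821 (tt N2739 F18142) (tt N4769 D12728) (tt N4768 (iv F22319)) (tt N4600 (iv F28529)) (tt N4383 (iv F21688)) (tt N2737 F18143) (tt N1771 (iv D10281)))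
theorem Q2823 : ∀ i, i < 2823 → P i := stepQ 2822 Q2822 (allL N2822 (tt N2228 F18144) (tt N4766 (iv F22315)) (tt N3649 (iv F20249)) (tt N3771 (iv F20562)) (tt N1772 (iv D10282)) (tt N2360 F18145) (tt N1778 F18146))
theorem Q2824 : ∀ i, i < 2824 → P i := stepQ 2823 Q2823 (allL N2823 (tt N1774 F18147) (tt N4770 D12729) (tt N1773 (iv D10283)) (tt N4771 D12730) (tt N4384 (iv F21691)) (tt N1774 F18148) (tt N2229 F18149))
theorem Q2825 : ∀ i, i < 2825 → P i := stepQ 2824 Q2824 (allL N2824 (tt N4772 D12731) (tt N1774 (iv D10284)) (tt N1775 F18150) (tt N4773 D12732) (tt N4385 (iv F21695)) (tt N4774 D12733) (tt N4775 D12734))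
theorem Q2826 : ∀ i, i < 2826 → P i := stepQ 2825 Q2825 (allL N2825 (tt N4771 (iv F22322)) (tt N4773 (iv F22326)) (tt N4776 D12735) (tt N1774 (iv D10285)) (tt N4777 D12736) (tt N4771 (iv F22323)) (tt N2230 F18151))
theorem Q2827 : ∀ i, i < 2827 → P i := stepQ 2826 Q2826 (allL N2826 (tt N1775 (iv D10286)) (tt N4778 D12737) (tt N4772 (iv F22325)) (tt N4779 D12738) (tt N4387 (iv F21697)) (tt N4780 D12739) (tt N4781 D12740))
theorem Q2828 : ∀ i, i < 2828 → P i := stepQ 2827 Q2827 (allL N2827 (tt N4779 (iv F22332)) (tt N1776 F18152) (tt N4782 D12741) (tt N1775 (iv D10287)) (tt N4783 D12742) (tt N4784 D12743) (tt N4785 D12744))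
theorem Q2829 : ∀ i, i < 2829 → P i := stepQ 2828 Q2828 (allL N2828 (tt N4780 (iv F22333)) (tt N3897 (iv F20762)) (tt N4774 (iv F22327)) (tt N4784 (iv F22336)) (tt N4389 (iv F21699)) (tt N1775 (iv D10288)) (tt N4786 D12745))
theorem Q2830 : ∀ i, i < 2830 → P i := stepQ 2829 Q2829 (allL N2829 (tt N4781 (iv F22334)) (tt N2211 F18153) (tt N4775 (iv F22329)) (tt N4785 (iv F22338)) (tt N4390 (iv F21701)) (tt N4787 D12746) (tt N1775 (iv D10289)))
theorem Q2831 : ∀ i, i < 2831 → P i := stepQ 2830 Q2830 (allL N2830 (tt N1778 F18154) (tt N4783 (iv F22335)) (tt N2869 (iv F18226)) (tt N4391 (iv F21704)) (tt N1776 (iv D10290)) (tt N3894 (iv F20760)) (tt N2228 F18155))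
theorem Q2832 : ∀ i, i < 2832 → P i := stepQ 2831 Q2831 (allL N2831 (tt N4788 D12747) (tt N1777 (iv D10291)) (tt N4647 (iv F22114)) (tt N2862 (iv F18215)) (tt N4789 D12748) (tt N4790 D12749) (tt N4791 D12750))
theorem Q2833 : ∀ i, i < 2833 → P i := stepQ 2832 Q2832 (allL N2832 (tt N2869 (iv F18225)) (tt N4789 (iv F22342)) (tt N1778 F18156) (tt N4792 D12751) (tt N1777 (iv D10292)) (tt N3903 (iv F20766)) (tt N3649 (iv F20251)))
theorem Q2834 : ∀ i, i < 2834 → P i := stepQ 2833 Q2833 (allL N2833 (tt N4793 D12752) (tt N1779 (iv D10293)) (tt N4794 D12753) (tt N4395 (iv F21714)) (tt N1780 F18157) (tt N4697 (iv F22209)) (tt N4794 F34623))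
theorem Q2835 : ∀ i, i < 2835 → P i := stepQ 2834 Q2834 (allL N2834 (tt N1780 (iv D10294)) (tt N4795 D12755) (tt N4796 D12756) (tt N1781 F18158) (tt N4793 (iv F22343)) (tt N4699 (iv F22214)) (tt N4796 F34618))
theorem Q2836 : ∀ i, i < 2836 → P i := stepQ 2835 Q2835 (allL N2835 (tt N4796 (iv F22349)) (tt N2835 F18159) (tt N1780 (iv D10295)) (tt N1783 F34613) (tt N4794 (iv F22345)) (tt N4700 (iv F22215)) (tt N1780 (iv F34615)))
theorem Q2837 : ∀ i, i < 2837 → P i := stepQ 2836 Q2836 (allL N2836 (tt N4797 D12761) (tt N1781 (iv D10297)) (tt N4798 D12762) (tt N4795 (iv F22348)) (tt N4397 (iv F21717)) (tt N4799 D12763) (tt N4477 F34849))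
theorem Q2838 : ∀ i, i < 2838 → P i := stepQ 2837 Q2837 (allL N2837 (tt N1782 F18162) (tt N4800 D12765) (tt N1781 (iv D10298)) (tt N4801 D12766) (tt N3772 (iv F20566)) (tt N4704 (iv F22219)) (tt N4802 D12767))
theorem Q2839 : ∀ i, i < 2839 → P i := stepQ 2838 Q2838 (allL N2838 (tt N1783 F18163) (tt N4454 F34850) (tt N4802 (iv F22361)) (tt N4796 (iv F34614)) (tt N4398 (iv F21719)) (tt N2790 F18164) (tt N1781 (iv D10299)))
theorem Q2840 : ∀ i, i < 2840 → P i := stepQ 2839 Q2839 (allL N2839 (tt N4801 (iv F22359)) (tt N1784 F18165) (tt N4803 D12769) (tt N1782 (iv D10300)) (tt N4804 D12770) (tt N4705 (iv F22221)) (tt N4805 D12771))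
theorem Q2841 : ∀ i, i < 2841 → P i := stepQ 2840 Q2840 (allL N2840 (tt N4802 (iv F22360)) (tt N2373 F18166) (tt N1783 F18167) (tt N4805 (iv F22365)) (tt N3775 (iv F20573)) (tt N4806 D12772) (tt N1782 (iv D10301)))
theorem Q2842 : ∀ i, i < 2842 → P i := stepQ 2841 Q2841 (allL N2841 (tt N2790 F18168) (tt N4807 D12773) (tt N4806 (iv F22367)) (tt N4700 (iv F34616)) (tt N4399 (iv F21722)) (tt N1783 (iv D10302)) (tt N2788 F18169))
theorem Q2843 : ∀ i, i < 2843 → P i := stepQ 2842 Q2842 (allL N2842 (tt N2232 F18170) (tt N4804 (iv F22363)) (tt N3658 (iv F20274)) (tt N3776 (iv F20576)) (tt N1784 (iv D10303)) (tt N1790 F18171) (tt N2374 F18172))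
theorem Q2844 : ∀ i, i < 2844 → P i := stepQ 2843 Q2843 (allL N2843 (tt N1786 F18173) (tt N4808 D12774) (tt N1785 (iv D10304)) (tt N4809 D12775) (tt N4400 (iv F21725)) (tt N2233 F18174) (tt N1786 F18175))
theorem Q2845 : ∀ i, i < 2845 → P i := stepQ 2844 Q2844 (allL N2844 (tt N4810 D12776) (tt N1786 (iv D10305)) (tt N1787 F18176) (tt N4811 D12777) (tt N4401 (iv F21729)) (tt N4812 D12778) (tt N4813 D12779))
theorem Q2846 : ∀ i, i < 2846 → P i := stepQ 2845 Q2845 (allL N2845 (tt N4809 (iv F22371)) (tt N4811 (iv F22375)) (tt N4814 D12780) (tt N1786 (iv D10306)) (tt N4815 D12781) (tt N2234 F18177) (tt N4809 (iv F22373)))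
theorem Q2847 : ∀ i, i < 2847 → P i := stepQ 2846 Q2846 (allL N2846 (tt N1787 (iv D10307)) (tt N4816 D12782) (tt N4810 (iv F22374)) (tt N4817 D12783) (tt N4403 (iv F21731)) (tt N4818 D12784) (tt N4819 D12785))
theorem Q2848 : ∀ i, i < 2848 → P i := stepQ 2847 Q2847 (allL N2847 (tt N4817 (iv F22381)) (tt N1788 F18178) (tt N4820 D12786) (tt N1787 (iv D10308)) (tt N4821 D12787) (tt N4822 D12788) (tt N4823 D12789))
theorem Q2849 : ∀ i, i < 2849 → P i := stepQ 2848 Q2848 (allL N2848 (tt N4818 (iv F22382)) (tt N2221 F18179) (tt N4812 (iv F22377)) (tt N4822 (iv F22386)) (tt N4405 (iv F21734)) (tt N1787 (iv D10309)) (tt N4824 D12790))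
theorem Q2850 : ∀ i, i < 2850 → P i := stepQ 2849 Q2849 (allL N2849 (tt N4819 (iv F22383)) (tt N3926 (iv F20795)) (tt N4813 (iv F22378)) (tt N4823 (iv F22387)) (tt N4406 (iv F21735)) (tt N4825 D12791) (tt N1787 (iv D10310)))
theorem Q2851 : ∀ i, i < 2851 → P i := stepQ 2850 Q2850 (allL N2850 (tt N1790 F18180) (tt N4821 (iv F22384)) (tt N2887 (iv F18262)) (tt N4407 (iv F21738)) (tt N1788 (iv D10311)) (tt N2232 F18181) (tt N3923 (iv F20793)))
theorem Q2852 : ∀ i, i < 2852 → P i := stepQ 2851 Q2851 (allL N2851 (tt N4826 D12792) (tt N1789 (iv D10312)) (tt N4746 (iv F22281)) (tt N2880 (iv F18251)) (tt N4827 D12793) (tt N4828 D12794) (tt N4829 D12795))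
theorem Q2853 : ∀ i, i < 2853 → P i := stepQ 2852 Q2852 (allL N2852 (tt N2887 (iv F18261)) (tt N4827 (iv F22391)) (tt N1790 F18182) (tt N4830 D12796) (tt N1789 (iv D10313)) (tt N3658 (iv F20275)) (tt N3931 (iv F20799)))
theorem Q2854 : ∀ i, i < 2854 → P i := stepQ 2853 Q2853 (allL N2853 (tt N4831 D12797) (tt N1791 (iv D10314)) (tt N2853 F18183) (tt N3632 (iv F20227)) (tt N4831 (iv F28891)) (tt N4832 D12799) (tt N4833 D12800))
theorem Q2855 : ∀ i, i < 2855 → P i := stepQ 2854 Q2854 (allL N2854 (tt N2237 F18184) (tt N4831 (iv F28890)) (tt N1792 F18185) (tt N3961 (iv F20876)) (tt N1791 (iv D10315)) (tt N2386 F18186) (tt N1803 F18187))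
theorem Q2856 : ∀ i, i < 2856 → P i := stepQ 2855 Q2855 (allL N2855 (tt N1795 F18188) (tt N2106 F18189) (tt N4834 D12801) (tt N1793 (iv D10316)) (tt N2065 (iv F32820)) (tt N1795 F18190) (tt N2068 (iv F32854)))
theorem Q2857 : ∀ i, i < 2857 → P i := stepQ 2856 Q2856 (allL N2856 (tt N2415 (iv F32742)) (tt N1795 F18192) (tt N4835 D12803) (tt N1794 (iv D10317)) (tt N2416 (iv F32746)) (tt N2471 F32705) (tt N2879 F18249))
theorem Q2858 : ∀ i, i < 2858 → P i := stepQ 2857 Q2857 (allL N2857 (tt N4834 (iv F22399)) (tt N4836 D12806) (tt N1795 (iv D10319)) (tt N4837 D12807) (tt N4838 D12808) (tt N4834 (iv F22400)) (tt N2238 F18198))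
theorem Q2859 : ∀ i, i < 2859 → P i := stepQ 2858 Q2858 (allL N2858 (tt N2065 (iv F32819)) (tt N2416 F32792) (tt N4838 (iv F22418)) (tt N1817 F18199) (tt N1795 (iv D10320)) (tt N2065 (iv F32821)) (tt N2066 (iv F32856)))
theorem Q2860 : ∀ i, i < 2860 → P i := stepQ 2859 Q2859 (allL N2859 (tt N1797 F18201) (tt N1828 F18202) (tt N4839 D12809) (tt N1796 (iv D10321)) (tt N1828 F32549) (tt N2441 F32550) (tt N1821 F18203))
theorem Q2861 : ∀ i, i < 2861 → P i := stepQ 2860 Q2860 (allL N2860 (tt N4839 (iv F22420)) (tt N4840 D12812) (tt N1797 (iv D10323)) (tt N4841 D12813) (tt N2446 F32557) (tt N2442 F32558) (tt N4842 D12816))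
theorem Q2862 : ∀ i, i < 2862 → P i := stepQ 2861 Q2861 (allL N2861 (tt N1821 F18212) (tt N1931 F18213) (tt N4842 (iv F22434)) (tt N1798 F18214) (tt N1826 F32546) (tt N2874 (iv F18237)) (tt N1797 (iv D10326)))
theorem Q2863 : ∀ i, i < 2863 → P i := stepQ 2862 Q2862 (allL N2862 (tt N4843 D12819) (tt N1799 (iv D10327)) (tt N4840 (iv F22430)) (tt N2831 F18215) (tt N4844 D12820) (tt N4845 D12821) (tt N4846 D12822))
theorem Q2864 : ∀ i, i < 2864 → P i := stepQ 2863 Q2863 (allL N2863 (tt N1803 F18216) (tt N4844 (iv F22442)) (tt N1800 F18217) (tt N4847 D12823) (tt N1799 (iv D10328)) (tt N2447 F32478) (tt N2237 F18218))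
theorem Q2865 : ∀ i, i < 2865 → P i := stepQ 2864 Q2864 (allL N2864 (tt N1801 (iv D10329)) (tt N4848 D12824) (tt N1822 F18219) (tt N4849 D12825) (tt N4850 D12826) (tt N4851 D12827) (tt N4852 D12828))
theorem Q2866 : ∀ i, i < 2866 → P i := stepQ 2865 Q2865 (allL N2865 (tt N4849 (iv F22449)) (tt N1802 F18220) (tt N4853 D12829) (tt N1801 (iv D10330)) (tt N4854 D12830) (tt N4855 D12831) (tt N4856 D12832))
theorem Q2867 : ∀ i, i < 2867 → P i := stepQ 2866 Q2866 (allL N2866 (tt N4850 (iv F22450)) (tt N1803 F18221) (tt N1819 (iv F32506)) (tt N4857 D12833) (tt N1801 (iv D10331)) (tt N4858 D12834) (tt N2885 F34337))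
theorem Q2868 : ∀ i, i < 2868 → P i := stepQ 2867 Q2867 (allL N2867 (tt N4851 (iv F22452)) (tt N3966 (iv F20884)) (tt N1823 F18223) (tt N4855 (iv F22458)) (tt N4858 (iv F22462)) (tt N1801 (iv D10332)) (tt N4859 D12836))
theorem Q2869 : ∀ i, i < 2869 → P i := stepQ 2868 Q2868 (allL N2868 (tt N4852 (iv F22454)) (tt N4833 (iv F22397)) (tt N1824 F18224) (tt N4856 (iv F22459)) (tt N2885 (iv F34294)) (tt N2884 F34240) (tt N1801 (iv D10333)))
theorem Q2870 : ∀ i, i < 2870 → P i := stepQ 2869 Q2869 (allL N2869 (tt N2832 F18225) (tt N4854 (iv F22457)) (tt N2830 F18226) (tt N4860 D12838) (tt N1802 (iv D10334)) (tt N3959 (iv F20873)) (tt N3633 (iv F20230)))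
theorem Q2871 : ∀ i, i < 2871 → P i := stepQ 2870 Q2870 (allL N2870 (tt N4847 (iv F22446)) (tt N4857 (iv F22460)) (tt N3962 (iv F20879)) (tt N1803 (iv D10335)) (tt N4860 (iv F22471)) (tt N3962 (iv F20881)) (tt N3961 F20878))
theorem Q2872 : ∀ i, i < 2872 → P i := stepQ 2871 Q2871 (allL N2871 (tt N4861 D12839) (tt N1804 (iv D10336)) (tt N2871 F18227) (tt N3638 (iv F20236)) (tt N4861 (iv F34237)) (tt N4862 D12841) (tt N4832 (iv F34239)))
theorem Q2873 : ∀ i, i < 2873 → P i := stepQ 2872 Q2872 (allL N2872 (tt N2241 F18228) (tt N4861 F34282) (tt N1805 F18229) (tt N3991 (iv F20963)) (tt N1804 (iv D10337)) (tt N1816 F18230) (tt N2403 F18231))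
theorem Q2874 : ∀ i, i < 2874 → P i := stepQ 2873 Q2873 (allL N2873 (tt N1808 F18232) (tt N2093 F18233) (tt N4863 D12843) (tt N1806 (iv D10338)) (tt N2081 F32573) (tt N2084 F32574) (tt N1808 F18235))
theorem Q2875 : ∀ i, i < 2875 → P i := stepQ 2874 Q2874 (allL N2874 (tt N2398 F32514) (tt N1808 F18236) (tt N4864 D12845) (tt N1807 (iv D10339)) (tt N2399 (iv F32539)) (tt N2861 F18237) (tt N2441 (iv F32533)))
theorem Q2876 : ∀ i, i < 2876 → P i := stepQ 2875 Q2875 (allL N2875 (tt N4863 (iv F22479)) (tt N4865 D12847) (tt N1808 (iv D10340)) (tt N4866 D12848) (tt N4867 D12849) (tt N2242 F18238) (tt N4863 (iv F22481)))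
theorem Q2877 : ∀ i, i < 2877 → P i := stepQ 2876 Q2876 (allL N2876 (tt N2081 F32595) (tt N2399 F32596) (tt N4867 (iv F22496)) (tt N1818 F18239) (tt N1808 (iv D10341)) (tt N2082 F32597) (tt N2081 F32598))
theorem Q2878 : ∀ i, i < 2878 → P i := stepQ 2877 Q2877 (allL N2877 (tt N1810 F18241) (tt N1839 F18242) (tt N4868 D12850) (tt N1809 (iv D10342)) (tt N1839 (iv F32615)) (tt N1832 F18243) (tt N2471 (iv F32661)))
theorem Q2879 : ∀ i, i < 2879 → P i := stepQ 2878 Q2878 (allL N2878 (tt N4868 (iv F22498)) (tt N4869 D12852) (tt N1810 (iv D10343)) (tt N4870 D12853) (tt N2476 (iv F32709)) (tt N4871 D12855) (tt N2472 (iv F32731)))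
theorem Q2880 : ∀ i, i < 2880 → P i := stepQ 2879 Q2879 (allL N2879 (tt N1832 F18246) (tt N1937 F18247) (tt N4871 (iv F22507)) (tt N1811 F18248) (tt N1837 (iv F32768)) (tt N1810 (iv D10345)) (tt N2856 (iv F18249)))
theorem Q2881 : ∀ i, i < 2881 → P i := stepQ 2880 Q2880 (allL N2880 (tt N4872 D12859) (tt N1812 (iv D10347)) (tt N4869 (iv F22504)) (tt N2851 F18251) (tt N4873 D12860) (tt N4874 D12861) (tt N4875 D12862))
theorem Q2882 : ∀ i, i < 2882 → P i := stepQ 2881 Q2881 (allL N2881 (tt N1816 F18252) (tt N4873 (iv F22518)) (tt N1813 F18253) (tt N4876 D12863) (tt N1812 (iv D10348)) (tt N2241 F18254) (tt N2477 (iv F32888)))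
theorem Q2883 : ∀ i, i < 2883 → P i := stepQ 2882 Q2882 (allL N2882 (tt N1814 (iv D10349)) (tt N4877 D12864) (tt N1833 F18255) (tt N4878 D12865) (tt N4859 F34298) (tt N4879 D12867) (tt N4858 (iv F34342)))
theorem Q2884 : ∀ i, i < 2884 → P i := stepQ 2883 Q2883 (allL N2883 (tt N4878 (iv F22525)) (tt N1815 F18256) (tt N4880 D12869) (tt N1814 (iv D10350)) (tt N4881 D12870) (tt N4882 D12871) (tt N4883 D12872))
theorem Q2885 : ∀ i, i < 2885 → P i := stepQ 2884 Q2884 (allL N2884 (tt N4859 (iv F34244)) (tt N1816 F18257) (tt N1830 F32917) (tt N4884 D12873) (tt N1814 (iv D10351)) (tt N2868 (iv F34240)) (tt N4851 (iv F34245)))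
theorem Q2886 : ∀ i, i < 2886 → P i := stepQ 2885 Q2885 (allL N2885 (tt N4879 (iv F22528)) (tt N4862 (iv F22475)) (tt N1834 F18259) (tt N4882 (iv F22534)) (tt N2868 F34294) (tt N1814 (iv D10352)) (tt N2866 (iv F34337)))
theorem Q2887 : ∀ i, i < 2887 → P i := stepQ 2886 Q2886 (allL N2886 (tt N4858 (iv F34341)) (tt N3996 (iv F20971)) (tt N1835 F18260) (tt N4883 (iv F22535)) (tt N4851 F34300) (tt N4850 (iv F34345)) (tt N1814 (iv D10353)))
theorem Q2888 : ∀ i, i < 2888 → P i := stepQ 2887 Q2887 (allL N2887 (tt N2852 F18261) (tt N4881 (iv F22533)) (tt N2850 F18262) (tt N4885 D12878) (tt N1815 (iv D10354)) (tt N3639 (iv F20238)) (tt N3989 (iv F20960)))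
theorem Q2889 : ∀ i, i < 2889 → P i := stepQ 2888 Q2888 (allL N2888 (tt N4876 (iv F22522)) (tt N4884 (iv F22536)) (tt N3992 (iv F20966)) (tt N1816 (iv D10355)) (tt N4885 (iv F22547)) (tt N3991 F20965) (tt N3992 (iv F20968)))
theorem Q2890 : ∀ i, i < 2890 → P i := stepQ 2889 Q2889 (allL N2889 (tt N1819 (iv D10404)) (tt N4886 D12932) (tt N4850 F32531) (tt N1822 F18408) (tt N1822 (iv F32563)) (tt N1835 F34414) (tt N2908 F34415))
theorem Q2891 : ∀ i, i < 2891 → P i := stepQ 2890 Q2890 (allL N2890 (tt N1835 F34407) (tt N4887 D12939) (tt N4858 F32532) (tt N1823 F18410) (tt N1823 (iv F32564)) (tt N1819 (iv D10406)) (tt N1833 F34408))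
theorem Q2892 : ∀ i, i < 2892 → P i := stepQ 2891 Q2891 (allL N2891 (tt N4888 D12944) (tt N1820 (iv D10410)) (tt N4889 D12945) (tt N1825 F18420) (tt N1825 (iv F32706)) (tt N4887 (iv F22702)) (tt N4890 D12946))
theorem Q2893 : ∀ i, i < 2893 → P i := stepQ 2892 Q2892 (allL N2892 (tt N4842 (iv F22433)) (tt N4889 (iv F22714)) (tt N1821 (iv D10412)) (tt N4891 D12948) (tt N1827 (iv F32600)) (tt N3967 F32548) (tt N4839 (iv F22421)))
theorem Q2894 : ∀ i, i < 2894 → P i := stepQ 2893 Q2893 (allL N2893 (tt N2900 (iv F35401)) (tt N1822 (iv D10413)) (tt N4892 D12950) (tt N4886 (iv F22690)) (tt N4886 F32625) (tt N4893 D12952) (tt N2898 (iv F35402)))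
theorem Q2895 : ∀ i, i < 2895 → P i := stepQ 2894 Q2894 (allL N2894 (tt N1823 F18424) (tt N4894 D12957) (tt N4851 (iv F22453)) (tt N1835 (iv F34343)) (tt N1835 (iv F34344)) (tt N1822 (iv D10415)) (tt N1830 F34299))
theorem Q2896 : ∀ i, i < 2896 → P i := stepQ 2895 Q2895 (allL N2895 (tt N1824 F18425) (tt N4895 D12958) (tt N4852 (iv F22455)) (tt N2908 (iv F34387)) (tt N2908 (iv F34388)) (tt N2897 (iv F18431)) (tt N1822 (iv D10416)))
theorem Q2897 : ∀ i, i < 2897 → P i := stepQ 2896 Q2896 (allL N2896 (tt N4896 D12965) (tt N1823 (iv D10420)) (tt N4897 D12966) (tt N4887 (iv F22701)) (tt N4887 F32628) (tt N1825 F18430) (tt N4893 F35395))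
theorem Q2898 : ∀ i, i < 2898 → P i := stepQ 2897 Q2897 (allL N2897 (tt N1830 F34297) (tt N4898 D12968) (tt N4859 (iv F22465)) (tt N1833 (iv F34339)) (tt N1833 (iv F34340)) (tt N2895 F18431) (tt N1823 (iv D10421)))
theorem Q2899 : ∀ i, i < 2899 → P i := stepQ 2898 Q2898 (allL N2898 (tt N1825 (iv D10426)) (tt N4899 D12976) (tt N4900 D12977) (tt N4888 (iv F22713)) (tt N4888 F32777) (tt N4896 (iv F22734)) (tt N2893 F35402))
theorem Q2900 : ∀ i, i < 2900 → P i := stepQ 2899 Q2899 (allL N2899 (tt N4900 (iv F22745)) (tt N1827 F18438) (tt N1825 (iv D10427)) (tt N4901 D12979) (tt N4889 F32686) (tt N4897 (iv F22735)) (tt N4902 D12980))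
theorem Q2901 : ∀ i, i < 2901 → P i := stepQ 2900 Q2900 (allL N2900 (tt N2893 F35401) (tt N4890 (iv F22715)) (tt N4902 (iv F22749)) (tt N4890 (iv F22716)) (tt N4890 F32778) (tt N4903 D12981) (tt N1825 (iv D10428)))
theorem Q2902 : ∀ i, i < 2902 → P i := stepQ 2901 Q2901 (allL N2901 (tt N3324 (iv F32542)) (tt N1826 (iv D10432)) (tt N4904 D12986) (tt N1829 F18447) (tt N1931 (iv F32538)) (tt N3105 (iv F32544)) (tt N1930 F32513))
theorem Q2903 : ∀ i, i < 2903 → P i := stepQ 2902 Q2902 (allL N2902 (tt N1827 F18448) (tt N4905 D12987) (tt N1826 (iv D10433)) (tt N4087 (iv F21145)) (tt N4842 (iv F32604)) (tt N3968 (iv F20893)) (tt N2446 F18449))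
theorem Q2904 : ∀ i, i < 2904 → P i := stepQ 2903 Q2903 (allL N2903 (tt N4087 (iv F21144)) (tt N4901 (iv F22748)) (tt N4086 (iv F21143)) (tt N1827 (iv D10434)) (tt N4906 D12988) (tt N3969 (iv F20895)) (tt N4907 D12989))
theorem Q2905 : ∀ i, i < 2905 → P i := stepQ 2904 Q2904 (allL N2904 (tt N2446 F18450) (tt N4908 D12990) (tt N1828 F18451) (tt N4907 (iv F22762)) (tt N4839 (iv F32607)) (tt N2444 (iv F18452)) (tt N1827 (iv D10435)))
theorem Q2906 : ∀ i, i < 2906 → P i := stepQ 2905 Q2905 (allL N2905 (tt N4909 D13029) (tt N1831 (iv D10457)) (tt N4910 D13030) (tt N1836 F18499) (tt N1836 (iv F32876)) (tt N4911 D13031) (tt N4894 F34411))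
theorem Q2907 : ∀ i, i < 2907 → P i := stepQ 2906 Q2906 (allL N2906 (tt N4871 (iv F22506)) (tt N4910 (iv F22843)) (tt N1832 (iv D10459)) (tt N4912 D13033) (tt N1838 (iv F32769)) (tt N4868 (iv F22499)) (tt N3997 (iv F32780)))
theorem Q2908 : ∀ i, i < 2908 → P i := stepQ 2907 Q2907 (allL N2907 (tt N2912 (iv F35398)) (tt N1833 (iv D10460)) (tt N4913 D13035) (tt N4898 F34401) (tt N4898 F34402) (tt N2910 (iv F35400)) (tt N4914 D13038))
theorem Q2909 : ∀ i, i < 2909 → P i := stepQ 2908 Q2908 (allL N2908 (tt N1834 F18503) (tt N4915 D13042) (tt N4879 (iv F22529)) (tt N2895 F34387) (tt N2895 F34388) (tt N1833 (iv D10462)) (tt N2889 (iv F34415)))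
theorem Q2910 : ∀ i, i < 2910 → P i := stepQ 2909 Q2909 (allL N2909 (tt N4916 D13051) (tt N1835 (iv D10468)) (tt N4917 D13052) (tt N4894 F34412) (tt N4894 F34413) (tt N4914 F35391) (tt N1836 F18510))
theorem Q2911 : ∀ i, i < 2911 → P i := stepQ 2910 Q2910 (allL N2910 (tt N1836 (iv D10473)) (tt N4918 D13061) (tt N4919 D13062) (tt N4909 (iv F22842)) (tt N4909 F32909) (tt N2907 F35400) (tt N4916 (iv F22864)))
theorem Q2912 : ∀ i, i < 2912 → P i := stepQ 2911 Q2911 (allL N2911 (tt N4919 (iv F22874)) (tt N1838 F18517) (tt N1836 (iv D10474)) (tt N4920 D13064) (tt N4910 F32834) (tt N4921 D13065) (tt N4917 (iv F22865)))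
theorem Q2913 : ∀ i, i < 2913 → P i := stepQ 2912 Q2912 (allL N2912 (tt N2907 F35398) (tt N4911 (iv F22844)) (tt N4921 (iv F22878)) (tt N4911 (iv F22845)) (tt N4911 F32910) (tt N1836 (iv D10475)) (tt N4922 D13066))
theorem Q2914 : ∀ i, i < 2914 → P i := stepQ 2913 Q2913 (allL N2913 (tt N3346 (iv F32878)) (tt N1837 (iv D10479)) (tt N4923 D13071) (tt N1840 F18526) (tt N1937 F32829) (tt N1936 (iv F32883)) (tt N3095 (iv F32885)))
theorem Q2915 : ∀ i, i < 2915 → P i := stepQ 2914 Q2914 (allL N2914 (tt N1838 F18527) (tt N4924 D13072) (tt N1837 (iv D10480)) (tt N4041 (iv F21062)) (tt N4871 F32783) (tt N2476 F18528) (tt N3998 (iv F20981)))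
theorem Q2916 : ∀ i, i < 2916 → P i := stepQ 2915 Q2915 (allL N2915 (tt N4041 (iv F21061)) (tt N4920 (iv F22877)) (tt N4040 (iv F21060)) (tt N1838 (iv D10481)) (tt N4925 D13073) (tt N4926 D13074) (tt N3999 (iv F20983)))
theorem Q2917 : ∀ i, i < 2917 → P i := stepQ 2916 Q2916 (allL N2916 (tt N2476 F18529) (tt N4927 D13075) (tt N1839 F18530) (tt N4926 (iv F22892)) (tt N4868 F32704) (tt N1838 (iv D10482)) (tt N2474 F18531))
theorem Q2918 : ∀ i, i < 2918 → P i := stepQ 2917 Q2917 (allL N2917 (tt N1841 (iv D10633)) (tt N4124 (iv F21241)) (tt N1846 F18869) (tt N3402 (iv F19842)) (tt N1842 F18870) (tt N4928 D13283) (tt N4929 D13284))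
theorem Q2919 : ∀ i, i < 2919 → P i := stepQ 2918 Q2918 (allL N2918 (tt N4928 (iv F23333)) (tt N2918 F18871) (tt N1848 F18872) (tt N3403 (iv F19847)) (tt N1844 F18873) (tt N1841 (iv D10634)) (tt N4930 D13285))
theorem Q2920 : ∀ i, i < 2920 → P i := stepQ 2919 Q2919 (allL N2919 (tt N4929 (iv F23336)) (tt N2919 F18874) (tt N1849 F18875) (tt N3404 (iv F19851)) (tt N1845 F18876) (tt N4931 D13286) (tt N1841 (iv D10635)))
theorem Q2921 : ∀ i, i < 2921 → P i := stepQ 2920 Q2920 (allL N2920 (tt N4129 (iv F21252)) (tt N1842 (iv D10636)) (tt N3900 F28837) (tt N4417 (iv F21792)) (tt N4124 F21243) (tt N3845 (iv F28844)) (tt N3871 F34330))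
theorem Q2922 : ∀ i, i < 2922 → P i := stepQ 2921 Q2921 (allL N2921 (tt N1843 F18877) (tt N4417 (iv F21791)) (tt N3022 (iv F19082)) (tt N1842 (iv D10637)) (tt N3405 (iv F19855)) (tt N4932 D13290) (tt N4933 D13291))
theorem Q2923 : ∀ i, i < 2923 → P i := stepQ 2922 Q2922 (allL N2922 (tt N1844 F18878) (tt N3799 F29022) (tt N1855 F18879) (tt N4932 (iv F23351)) (tt N4928 (iv F23335)) (tt N1842 (iv D10638)) (tt N2928 (iv F18891)))
theorem Q2924 : ∀ i, i < 2924 → P i := stepQ 2923 Q2923 (allL N2923 (tt N1845 F18880) (tt N3818 F34439) (tt N1856 F18881) (tt N4933 (iv F23353)) (tt N4929 (iv F23338)) (tt N2927 (iv F18888)) (tt N1842 (iv D10639)))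
theorem Q2925 : ∀ i, i < 2925 → P i := stepQ 2924 Q2924 (allL N2924 (tt N3022 (iv F19081)) (tt N2924 F18882) (tt N1843 (iv D10640)) (tt N3016 (iv F19069)) (tt N3408 (iv F19861)) (tt N4934 D13294) (tt N4935 D13295))
theorem Q2926 : ∀ i, i < 2926 → P i := stepQ 2925 Q2925 (allL N2925 (tt N4932 (iv F23350)) (tt N2925 F18883) (tt N4934 (iv F23354)) (tt N1844 F18884) (tt N3409 (iv F19864)) (tt N1843 (iv D10641)) (tt N4936 D13296))
theorem Q2927 : ∀ i, i < 2927 → P i := stepQ 2926 Q2926 (allL N2926 (tt N4933 (iv F23352)) (tt N2926 F18885) (tt N4935 (iv F23355)) (tt N1845 F18886) (tt N3410 (iv F19867)) (tt N4937 D13297) (tt N1843 (iv D10642)))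
theorem Q2928 : ∀ i, i < 2928 → P i := stepQ 2927 Q2927 (allL N2927 (tt N2928 (iv F18889)) (tt N4938 D13298) (tt N1858 F18887) (tt N4936 (iv F23356)) (tt N4930 (iv F23340)) (tt N2923 F18888) (tt N1844 (iv D10643)))
theorem Q2929 : ∀ i, i < 2929 → P i := stepQ 2928 Q2928 (allL N2928 (tt N2927 F18889) (tt N4939 D13299) (tt N1860 F18890) (tt N4937 (iv F23359)) (tt N4931 (iv F23344)) (tt N1845 (iv D10644)) (tt N2922 F18891))
theorem Q2930 : ∀ i, i < 2930 → P i := stepQ 2929 Q2929 (allL N2929 (tt N4940 D13300) (tt N1846 (iv D10645)) (tt N4941 D13301) (tt N4942 D13302) (tt N1854 F18892) (tt N4943 D13303) (tt N4944 D13304))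
theorem Q2931 : ∀ i, i < 2931 → P i := stepQ 2930 Q2930 (allL N2930 (tt N1847 F18893) (tt N4942 (iv F23370)) (tt N2244 F18895) (tt N1846 (iv D10646)) (tt N1946 F18894) (tt N4945 D13305) (tt N4946 D13306))
theorem Q2932 : ∀ i, i < 2932 → P i := stepQ 2931 Q2931 (allL N2931 (tt N1848 F18896) (tt N4947 D13307) (tt N4928 (iv F23334)) (tt N4945 (iv F23377)) (tt N1855 F18897) (tt N1846 (iv D10647)) (tt N2939 (iv F18918)))
theorem Q2933 : ∀ i, i < 2933 → P i := stepQ 2932 Q2932 (allL N2932 (tt N1849 F18898) (tt N4948 D13308) (tt N4929 (iv F23337)) (tt N4946 (iv F23381)) (tt N1856 F18899) (tt N2937 (iv F18912)) (tt N1846 (iv D10648)))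
theorem Q2934 : ∀ i, i < 2934 → P i := stepQ 2933 Q2933 (allL N2933 (tt N2244 F18900) (tt N1949 F18901) (tt N1847 (iv D10649)) (tt N2243 F18903) (tt N1949 F18902) (tt N4949 D13309) (tt N4950 D13310))
theorem Q2935 : ∀ i, i < 2935 → P i := stepQ 2934 Q2934 (allL N2934 (tt N4945 (iv F23375)) (tt N4951 D13311) (tt N4949 (iv F23386)) (tt N1848 F18904) (tt N1950 F18905) (tt N1847 (iv D10650)) (tt N4952 D13312))
theorem Q2936 : ∀ i, i < 2936 → P i := stepQ 2935 Q2935 (allL N2935 (tt N4946 (iv F23379)) (tt N4953 D13313) (tt N4950 (iv F23390)) (tt N1849 F18906) (tt N1951 F18907) (tt N4954 D13314) (tt N1847 (iv D10651)))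
theorem Q2937 : ∀ i, i < 2937 → P i := stepQ 2936 Q2936 (allL N2936 (tt N4955 D13315) (tt N1848 (iv D10652)) (tt N2936 F18908) (tt N4951 (iv F23393)) (tt N1857 F18909) (tt N1852 F18910) (tt N4956 D13316))
theorem Q2938 : ∀ i, i < 2938 → P i := stepQ 2937 Q2937 (allL N2937 (tt N2939 (iv F18916)) (tt N4957 D13317) (tt N4930 (iv F23339)) (tt N4952 (iv F23396)) (tt N1858 F18911) (tt N2932 F18912) (tt N1848 (iv D10653)))
theorem Q2939 : ∀ i, i < 2939 → P i := stepQ 2938 Q2938 (allL N2938 (tt N4958 D13318) (tt N1849 (iv D10654)) (tt N2938 F18913) (tt N4953 (iv F23399)) (tt N1859 F18914) (tt N4959 D13319) (tt N1853 F18915))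
theorem Q2940 : ∀ i, i < 2940 → P i := stepQ 2939 Q2939 (allL N2939 (tt N2937 F18916) (tt N4960 D13320) (tt N4931 (iv F23343)) (tt N4954 (iv F23403)) (tt N1860 F18917) (tt N1849 (iv D10655)) (tt N2931 F18918))
theorem Q2941 : ∀ i, i < 2941 → P i := stepQ 2940 Q2940 (allL N2940 (tt N4961 D13321) (tt N1850 (iv D10656)) (tt N4962 D13322) (tt N1852 F18919) (tt N1956 F18920) (tt N4951 (iv F23395)) (tt N4963 D13323))
theorem Q2942 : ∀ i, i < 2942 → P i := stepQ 2941 Q2941 (allL N2941 (tt N4964 D13324) (tt N1851 (iv D10657)) (tt N4965 D13325) (tt N1853 F18921) (tt N1958 F18922) (tt N4966 D13326) (tt N4953 (iv F23401)))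
theorem Q2943 : ∀ i, i < 2943 → P i := stepQ 2942 Q2942 (allL N2942 (tt N1852 (iv D10658)) (tt N4204 F27823) (tt N2942 F18923) (tt N4961 (iv F23418)) (tt N1861 F18924) (tt N4955 (iv F23408)) (tt N4967 D13328))
theorem Q2944 : ∀ i, i < 2944 → P i := stepQ 2943 Q2943 (allL N2943 (tt N4967 (iv F23459)) (tt N3155 (iv F19319)) (tt N2943 F18925) (tt N4963 (iv F23425)) (tt N1862 F18926) (tt N4968 D13329) (tt N1852 (iv D10659)))
theorem Q2945 : ∀ i, i < 2945 → P i := stepQ 2944 Q2944 (allL N2944 (tt N1853 (iv D10660)) (tt N4221 F34653) (tt N2944 F18927) (tt N4964 (iv F23427)) (tt N1863 F18928) (tt N4969 D13331) (tt N4958 (iv F23414)))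
theorem Q2946 : ∀ i, i < 2946 → P i := stepQ 2945 Q2945 (allL N2945 (tt N4969 (iv F23468)) (tt N3145 (iv F19300)) (tt N2945 F18929) (tt N4966 (iv F23456)) (tt N1864 F18930) (tt N1853 (iv D10661)) (tt N4970 D13332))
theorem Q2947 : ∀ i, i < 2947 → P i := stepQ 2946 Q2946 (allL N2946 (tt N1854 (iv D10662)) (tt N1996 F18931) (tt N1893 F19073) (tt N1996 F18932) (tt N4940 (iv F23364)) (tt N4971 D13333) (tt N4972 D13334))
theorem Q2948 : ∀ i, i < 2948 → P i := stepQ 2947 Q2947 (allL N2947 (tt N1893 F19075) (tt N3900 (iv F28832)) (tt N1854 (iv D10663)) (tt N4832 (iv F28834)) (tt N4941 (iv F23368)) (tt N3632 F28826) (tt N3638 F34293))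
theorem Q2949 : ∀ i, i < 2949 → P i := stepQ 2948 Q2948 (allL N2948 (tt N4971 (iv F23476)) (tt N3596 F28821) (tt N3632 (iv F28823)) (tt N1997 F18933) (tt N4943 (iv F23373)) (tt N1854 (iv D10664)) (tt N4973 D13339))
theorem Q2950 : ∀ i, i < 2950 → P i := stepQ 2949 Q2949 (allL N2949 (tt N4972 (iv F23479)) (tt N3618 (iv F34332)) (tt N3638 F34285) (tt N1998 F18934) (tt N4944 (iv F23374)) (tt N4974 D13341) (tt N1854 (iv D10665)))
theorem Q2951 : ∀ i, i < 2951 → P i := stepQ 2950 Q2950 (allL N2950 (tt N4975 D13342) (tt N1855 (iv D10666)) (tt N3538 (iv F28824)) (tt N1999 F18935) (tt N4947 (iv F23383)) (tt N3596 F28822) (tt N4976 D13344))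
theorem Q2952 : ∀ i, i < 2952 → P i := stepQ 2951 Q2951 (allL N2951 (tt N4977 D13345) (tt N1856 (iv D10667)) (tt N3546 (iv F34444)) (tt N2000 F18936) (tt N4948 (iv F23384)) (tt N4978 D13347) (tt N3618 F34385))
theorem Q2953 : ∀ i, i < 2953 → P i := stepQ 2952 Q2952 (allL N2952 (tt N1857 (iv D10668)) (tt N4979 D13348) (tt N2952 F18937) (tt N2001 F18938) (tt N4955 (iv F23407)) (tt N1861 F18939) (tt N2960 (iv F18957)))
theorem Q2954 : ∀ i, i < 2954 → P i := stepQ 2953 Q2953 (allL N2953 (tt N2960 (iv F18954)) (tt N4980 D13349) (tt N2953 F18940) (tt N2003 F18941) (tt N4956 (iv F23410)) (tt N2959 (iv F18953)) (tt N1857 (iv D10669)))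
theorem Q2955 : ∀ i, i < 2955 → P i := stepQ 2954 Q2954 (allL N2954 (tt N4981 D13350) (tt N1858 (iv D10670)) (tt N4982 D13351) (tt N2004 F18942) (tt N4957 (iv F23411)) (tt N4983 D13352) (tt N4980 (iv F23505)))
theorem Q2956 : ∀ i, i < 2956 → P i := stepQ 2955 Q2955 (allL N2955 (tt N1859 (iv D10671)) (tt N4984 D13353) (tt N2955 F18943) (tt N2005 F18944) (tt N4958 (iv F23413)) (tt N2963 (iv F18966)) (tt N1863 F18945))
theorem Q2957 : ∀ i, i < 2957 → P i := stepQ 2956 Q2956 (allL N2956 (tt N2963 (iv F18963)) (tt N4985 D13354) (tt N2956 F18946) (tt N2007 F18947) (tt N4959 (iv F23416)) (tt N1859 (iv D10672)) (tt N2962 (iv F18962)))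
theorem Q2958 : ∀ i, i < 2958 → P i := stepQ 2957 Q2957 (allL N2957 (tt N4986 D13355) (tt N1860 (iv D10673)) (tt N4987 D13356) (tt N2008 F18948) (tt N4960 (iv F23417)) (tt N4985 (iv F23511)) (tt N4988 D13357))
theorem Q2959 : ∀ i, i < 2959 → P i := stepQ 2958 Q2958 (allL N2958 (tt N4989 D13358) (tt N1861 (iv D10674)) (tt N4205 (iv F27827)) (tt N2009 F18949) (tt N4204 (iv F27822)) (tt N4298 (iv F27835)) (tt N4990 D13361))
theorem Q2960 : ∀ i, i < 2960 → P i := stepQ 2959 Q2959 (allL N2959 (tt N1862 F18950) (tt N4991 D13362) (tt N2959 F18951) (tt N2011 F18952) (tt N4967 (iv F23461)) (tt N2953 F18953) (tt N1861 (iv D10675)))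
theorem Q2961 : ∀ i, i < 2961 → P i := stepQ 2960 Q2960 (allL N2960 (tt N2953 F18954) (tt N4992 D13363) (tt N2960 F18955) (tt N2015 F18956) (tt N4968 (iv F23465)) (tt N1862 (iv D10676)) (tt N2952 F18957))
theorem Q2962 : ∀ i, i < 2962 → P i := stepQ 2961 Q2961 (allL N2961 (tt N4993 D13364) (tt N1863 (iv D10677)) (tt N4222 (iv F34646)) (tt N2019 F18958) (tt N4221 (iv F34647)) (tt N4994 D13366) (tt N4349 F34645))
theorem Q2963 : ∀ i, i < 2963 → P i := stepQ 2962 Q2962 (allL N2962 (tt N1864 F18959) (tt N4995 D13368) (tt N2962 F18960) (tt N2021 F18961) (tt N4969 (iv F23470)) (tt N1863 (iv D10678)) (tt N2956 F18962))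
theorem Q2964 : ∀ i, i < 2964 → P i := stepQ 2963 Q2963 (allL N2963 (tt N2956 F18963) (tt N4996 D13369) (tt N2963 F18964) (tt N2025 F18965) (tt N4970 (iv F23474)) (tt N2955 F18966) (tt N1864 (iv D10679)))
theorem Q2965 : ∀ i, i < 2965 → P i := stepQ 2964 Q2964 (allL N2964 (tt N1881 F18967) (tt N4997 D13370) (tt N2964 F18968) (tt N1866 F18969) (tt N1871 F18970) (tt N1865 (iv D10680)) (tt N2998 (iv F19039)))
theorem Q2966 : ∀ i, i < 2966 → P i := stepQ 2965 Q2965 (allL N2965 (tt N1882 F18971) (tt N4998 D13371) (tt N2965 F18972) (tt N1867 F18973) (tt N1872 F18974) (tt N2996 (iv F19033)) (tt N1865 (iv D10681)))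
theorem Q2967 : ∀ i, i < 2967 → P i := stepQ 2966 Q2966 (allL N2966 (tt N4999 D13372) (tt N1866 (iv D10682)) (tt N5000 D13373) (tt N4997 (iv F23529)) (tt N1873 F18975) (tt N4997 (iv F23531)) (tt N5001 D13374))
theorem Q2968 : ∀ i, i < 2968 → P i := stepQ 2967 Q2967 (allL N2967 (tt N5002 D13375) (tt N1867 (iv D10683)) (tt N5003 D13376) (tt N4998 (iv F23532)) (tt N1874 F18976) (tt N5004 D13377) (tt N4998 (iv F23534)))
theorem Q2969 : ∀ i, i < 2969 → P i := stepQ 2968 Q2968 (allL N2968 (tt N2968 F18977) (tt N5000 (iv F23536)) (tt N1868 (iv D10684)) (tt N5005 D13378) (tt N1875 F18978) (tt N2968 F18979) (tt N3156 (iv F19324)))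
theorem Q2970 : ∀ i, i < 2970 → P i := stepQ 2969 Q2969 (allL N2969 (tt N2969 F18980) (tt N5003 (iv F23540)) (tt N1869 (iv D10685)) (tt N5006 D13379) (tt N1876 F18981) (tt N3167 (iv F19346)) (tt N2969 F18982))
theorem Q2971 : ∀ i, i < 2971 → P i := stepQ 2970 Q2970 (allL N2970 (tt N3900 F28836) (tt N1870 (iv D10686)) (tt N4129 (iv F21254)) (tt N1898 F18983) (tt N1878 F18984) (tt N3898 (iv F28841)) (tt N3927 F34324))
theorem Q2972 : ∀ i, i < 2972 → P i := stepQ 2971 Q2971 (allL N2971 (tt N1871 F18985) (tt N5007 D13382) (tt N2971 F18986) (tt N1905 F18987) (tt N1881 F18988) (tt N1870 (iv D10687)) (tt N2976 (iv F18999)))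
theorem Q2973 : ∀ i, i < 2973 → P i := stepQ 2972 Q2972 (allL N2972 (tt N1872 F18989) (tt N5008 D13383) (tt N2972 F18990) (tt N1906 F18991) (tt N1882 F18992) (tt N2974 (iv F18995)) (tt N1870 (iv D10688)))
theorem Q2974 : ∀ i, i < 2974 → P i := stepQ 2973 Q2973 (allL N2973 (tt N5009 D13384) (tt N1871 (iv D10689)) (tt N5010 D13385) (tt N3552 (iv F20140)) (tt N4997 (iv F23530)) (tt N1873 F18993) (tt N5011 D13386))
theorem Q2975 : ∀ i, i < 2975 → P i := stepQ 2974 Q2974 (allL N2974 (tt N2976 (iv F18997)) (tt N4514 F39530) (tt N2974 F18994) (tt N3043 (iv F19111)) (tt N2998 (iv F19038)) (tt N2972 F18995) (tt N1871 (iv D10690)))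
theorem Q2976 : ∀ i, i < 2976 → P i := stepQ 2975 Q2975 (allL N2975 (tt N5012 D13388) (tt N1872 (iv D10691)) (tt N5013 D13389) (tt N3553 (iv F20143)) (tt N4998 (iv F23533)) (tt N5014 D13390) (tt N1874 F18996))
theorem Q2977 : ∀ i, i < 2977 → P i := stepQ 2976 Q2976 (allL N2976 (tt N2974 F18997) (tt N4549 F39658) (tt N2976 F18998) (tt N3041 (iv F19105)) (tt N2996 (iv F19032)) (tt N1872 (iv D10692)) (tt N2971 F18999))
theorem Q2978 : ∀ i, i < 2978 → P i := stepQ 2977 Q2977 (allL N2977 (tt N1873 (iv D10693)) (tt N5015 D13392) (tt N5016 D13393) (tt N3554 (iv F20146)) (tt N4999 (iv F23535)) (tt N5009 (iv F23555)) (tt N5017 D13394))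
theorem Q2979 : ∀ i, i < 2979 → P i := stepQ 2978 Q2978 (allL N2978 (tt N5016 (iv F23561)) (tt N1875 F19000) (tt N1873 (iv D10694)) (tt N5018 D13395) (tt N5000 (iv F23537)) (tt N5010 (iv F23557)) (tt N5019 D13396))
theorem Q2980 : ∀ i, i < 2980 → P i := stepQ 2979 Q2979 (allL N2979 (tt N5017 (iv F23562)) (tt N3071 (iv F19139)) (tt N5019 (iv F23565)) (tt N3556 (iv F20148)) (tt N5001 (iv F23538)) (tt N5020 D13397) (tt N1873 (iv D10695)))
theorem Q2981 : ∀ i, i < 2981 → P i := stepQ 2980 Q2980 (allL N2980 (tt N1874 (iv D10696)) (tt N5021 D13398) (tt N5022 D13399) (tt N3557 (iv F20149)) (tt N5002 (iv F23539)) (tt N5023 D13400) (tt N5012 (iv F23558)))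
theorem Q2982 : ∀ i, i < 2982 → P i := stepQ 2981 Q2981 (allL N2981 (tt N5022 (iv F23568)) (tt N1876 F19001) (tt N1874 (iv D10697)) (tt N5024 D13401) (tt N5003 (iv F23541)) (tt N5025 D13402) (tt N5013 (iv F23560)))
theorem Q2983 : ∀ i, i < 2983 → P i := stepQ 2982 Q2982 (allL N2982 (tt N5023 (iv F23569)) (tt N3061 (iv F19129)) (tt N5025 (iv F23572)) (tt N3559 (iv F20151)) (tt N5004 (iv F23542)) (tt N1874 (iv D10698)) (tt N5026 D13403))
theorem Q2984 : ∀ i, i < 2984 → P i := stepQ 2983 Q2983 (allL N2983 (tt N2983 F19002) (tt N5018 (iv F23564)) (tt N2983 F19004) (tt N1875 (iv D10699)) (tt N5027 D13404) (tt N2983 F19003) (tt N3265 (iv F19506)))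
theorem Q2985 : ∀ i, i < 2985 → P i := stepQ 2984 Q2984 (allL N2984 (tt N2984 F19005) (tt N5024 (iv F23571)) (tt N2984 F19007) (tt N1876 (iv D10700)) (tt N5028 D13405) (tt N3288 (iv F19529)) (tt N2984 F19006))
theorem Q2986 : ∀ i, i < 2986 → P i := stepQ 2985 Q2985 (allL N2985 (tt N4941 (iv F23366)) (tt N1877 (iv D10701)) (tt N4940 F23365) (tt N4941 F23369) (tt N1893 F19008) (tt N5029 D13406) (tt N5030 D13407))
theorem Q2987 : ∀ i, i < 2987 → P i := stepQ 2986 Q2986 (allL N2986 (tt N1878 F19009) (tt N4941 (iv F23367)) (tt N4124 (iv F21242)) (tt N1877 (iv D10702)) (tt N3900 F28840) (tt N3899 (iv F28848)) (tt N3928 F34236))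
theorem Q2988 : ∀ i, i < 2988 → P i := stepQ 2987 Q2987 (allL N2987 (tt N1879 F19010) (tt N3902 (iv F28879)) (tt N1947 F19011) (tt N3899 F28868) (tt N1895 F19012) (tt N1877 (iv D10703)) (tt N2994 (iv F19028)))
theorem Q2989 : ∀ i, i < 2989 → P i := stepQ 2988 Q2988 (allL N2988 (tt N1880 F19013) (tt N3930 F34186) (tt N1948 F19014) (tt N3928 (iv F34199)) (tt N1896 F19015) (tt N2992 (iv F19022)) (tt N1877 (iv D10704)))
theorem Q2990 : ∀ i, i < 2990 → P i := stepQ 2989 Q2989 (allL N2989 (tt N3899 F28854) (tt N5031 D13412) (tt N4130 (iv F21256)) (tt N1879 F19016) (tt N3898 F28855) (tt N1878 (iv D10705)) (tt N5032 D13413))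
theorem Q2991 : ∀ i, i < 2991 → P i := stepQ 2990 Q2990 (allL N2990 (tt N3928 F34230) (tt N5033 D13414) (tt N4131 (iv F21258)) (tt N1880 F19017) (tt N3927 (iv F34269)) (tt N5034 D13415) (tt N1878 (iv D10706)))
theorem Q2992 : ∀ i, i < 2992 → P i := stepQ 2991 Q2991 (allL N2991 (tt N5035 D13416) (tt N1879 (iv D10707)) (tt N5036 D13417) (tt N5031 (iv F23589)) (tt N1901 F19018) (tt N1883 F19019) (tt N5037 D13418))
theorem Q2993 : ∀ i, i < 2993 → P i := stepQ 2992 Q2992 (allL N2992 (tt N2994 (iv F19025)) (tt N5038 D13419) (tt N1953 F19020) (tt N5032 (iv F23591)) (tt N1902 F19021) (tt N2988 F19022) (tt N1879 (iv D10708)))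
theorem Q2994 : ∀ i, i < 2994 → P i := stepQ 2993 Q2993 (allL N2993 (tt N5039 D13420) (tt N1880 (iv D10709)) (tt N5040 D13421) (tt N5033 (iv F23593)) (tt N1903 F19023) (tt N5041 D13422) (tt N1885 F19024))
theorem Q2995 : ∀ i, i < 2995 → P i := stepQ 2994 Q2994 (allL N2994 (tt N2992 F19025) (tt N5042 D13423) (tt N1955 F19026) (tt N5034 (iv F23596)) (tt N1904 F19027) (tt N1880 (iv D10710)) (tt N2987 F19028))
theorem Q2996 : ∀ i, i < 2996 → P i := stepQ 2995 Q2995 (allL N2995 (tt N5043 D13424) (tt N1881 (iv D10711)) (tt N5044 D13425) (tt N1883 F19029) (tt N5007 (iv F23552)) (tt N5031 (iv F23590)) (tt N5045 D13426))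
theorem Q2997 : ∀ i, i < 2997 → P i := stepQ 2996 Q2996 (allL N2996 (tt N2998 (iv F19035)) (tt N5046 D13427) (tt N2996 F19030) (tt N1884 F19031) (tt N2976 F19032) (tt N2965 F19033) (tt N1881 (iv D10712)))
theorem Q2998 : ∀ i, i < 2998 → P i := stepQ 2997 Q2997 (allL N2997 (tt N5047 D13428) (tt N1882 (iv D10713)) (tt N5048 D13429) (tt N1885 F19034) (tt N5008 (iv F23554)) (tt N5049 D13430) (tt N5033 (iv F23594)))
theorem Q2999 : ∀ i, i < 2999 → P i := stepQ 2998 Q2998 (allL N2998 (tt N2996 F19035) (tt N5050 D13431) (tt N2998 F19036) (tt N1886 F19037) (tt N2974 F19038) (tt N1882 (iv D10714)) (tt N2964 F19039))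
theorem Q3000 : ∀ i, i < 3000 → P i := stepQ 2999 Q2999 (allL N2999 (tt N1883 (iv D10715)) (tt N5051 D13432) (tt N5052 D13433) (tt N5043 (iv F23612)) (tt N1911 F19040) (tt N5035 (iv F23599)) (tt N5053 D13434))
theorem Q3001 : ∀ i, i < 3001 → P i := stepQ 3000 Q3000 (allL N3000 (tt N5052 (iv F23623)) (tt N1887 F19041) (tt N1883 (iv D10716)) (tt N5054 D13435) (tt N1912 F19042) (tt N5036 (iv F23602)) (tt N5055 D13436))
theorem Q3002 : ∀ i, i < 3002 → P i := stepQ 3001 Q3001 (allL N3001 (tt N5053 (iv F23625)) (tt N5056 D13437) (tt N5055 (iv F23629)) (tt N5045 (iv F23614)) (tt N1913 F19043) (tt N5057 D13438) (tt N1883 (iv D10717)))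
theorem Q3003 : ∀ i, i < 3003 → P i := stepQ 3002 Q3002 (allL N3002 (tt N5058 D13439) (tt N1884 (iv D10718)) (tt N5059 D13440) (tt N5046 (iv F23615)) (tt N1914 F19044) (tt N5060 D13441) (tt N5056 (iv F23632)))
theorem Q3004 : ∀ i, i < 3004 → P i := stepQ 3003 Q3003 (allL N3003 (tt N1885 (iv D10719)) (tt N5061 D13442) (tt N5062 D13443) (tt N5047 (iv F23617)) (tt N1915 F19045) (tt N5063 D13444) (tt N5039 (iv F23606)))
theorem Q3005 : ∀ i, i < 3005 → P i := stepQ 3004 Q3004 (allL N3004 (tt N5062 (iv F23642)) (tt N1890 F19046) (tt N1885 (iv D10720)) (tt N5064 D13445) (tt N1916 F19047) (tt N5065 D13446) (tt N5040 (iv F23609)))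
theorem Q3006 : ∀ i, i < 3006 → P i := stepQ 3005 Q3005 (allL N3005 (tt N5063 (iv F23644)) (tt N5066 D13447) (tt N5065 (iv F23648)) (tt N5049 (iv F23619)) (tt N1917 F19048) (tt N1885 (iv D10721)) (tt N5067 D13448))
theorem Q3007 : ∀ i, i < 3007 → P i := stepQ 3006 Q3006 (allL N3006 (tt N5068 D13449) (tt N1886 (iv D10722)) (tt N5069 D13450) (tt N5050 (iv F23620)) (tt N1918 F19049) (tt N5066 (iv F23651)) (tt N5070 D13451))
theorem Q3008 : ∀ i, i < 3008 → P i := stepQ 3007 Q3007 (allL N3007 (tt N3179 (iv F19370)) (tt N5054 (iv F23628)) (tt N1970 F19051) (tt N1887 (iv D10723)) (tt N5071 D13452) (tt N1970 F19050) (tt N5072 D13453))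
theorem Q3009 : ∀ i, i < 3009 → P i := stepQ 3008 Q3008 (allL N3008 (tt N3162 (iv F19330)) (tt N5073 D13454) (tt N1888 F19052) (tt N5072 (iv F23664)) (tt N1921 F19053) (tt N3012 (iv F19064)) (tt N1887 (iv D10724)))
theorem Q3010 : ∀ i, i < 3010 → P i := stepQ 3009 Q3009 (allL N3009 (tt N1979 F19054) (tt N5059 (iv F23637)) (tt N1889 (iv D10725)) (tt N5074 D13455) (tt N1922 F19055) (tt N1977 F19056) (tt N3011 (iv F19061)))
theorem Q3011 : ∀ i, i < 3011 → P i := stepQ 3010 Q3010 (allL N3010 (tt N3185 (iv F19386)) (tt N5064 (iv F23647)) (tt N1978 F19058) (tt N1890 (iv D10726)) (tt N5075 D13456) (tt N5076 D13457) (tt N1978 F19057))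
theorem Q3012 : ∀ i, i < 3012 → P i := stepQ 3011 Q3011 (allL N3011 (tt N3173 (iv F19353)) (tt N5077 D13458) (tt N1891 F19059) (tt N5076 (iv F23672)) (tt N1925 F19060) (tt N1890 (iv D10727)) (tt N3009 F19061))
theorem Q3013 : ∀ i, i < 3013 → P i := stepQ 3012 Q3012 (allL N3012 (tt N1971 F19062) (tt N5069 (iv F23656)) (tt N1892 (iv D10728)) (tt N5078 D13459) (tt N1926 F19063) (tt N3008 F19064) (tt N1969 F19065))
theorem Q3014 : ∀ i, i < 3014 → P i := stepQ 3013 Q3013 (allL N3013 (tt N4832 (iv F28833)) (tt N1894 F19067) (tt N3013 F19072) (tt N1893 (iv D10731)) (tt N4832 (iv F28835)) (tt N4831 (iv F28831)) (tt N4861 F34243))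
theorem Q3015 : ∀ i, i < 3015 → P i := stepQ 3014 Q3014 (allL N3014 (tt N3632 F28825) (tt N3961 F28888) (tt N4971 (iv F23477)) (tt N4831 (iv F28830)) (tt N5029 (iv F23581)) (tt N1893 (iv D10732)) (tt N5079 D13463))
theorem Q3016 : ∀ i, i < 3016 → P i := stepQ 3015 Q3015 (allL N3015 (tt N3638 F34283) (tt N3991 F34180) (tt N4972 (iv F23480)) (tt N4861 F34284) (tt N5030 (iv F23582)) (tt N5080 D13465) (tt N1893 (iv D10733)))
theorem Q3017 : ∀ i, i < 3017 → P i := stepQ 3016 Q3016 (allL N3016 (tt N1897 F19068) (tt N3016 F19071) (tt N1894 (iv D10734)) (tt N2924 F19069) (tt N5081 D13466) (tt N4100 F32464) (tt N4116 F34226))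
theorem Q3018 : ∀ i, i < 3018 → P i := stepQ 3017 Q3017 (allL N3017 (tt N1898 F19076) (tt N4832 F28838) (tt N5081 (iv F23692)) (tt N3900 F28839) (tt N1894 (iv D10735)) (tt N2385 (iv F28846)) (tt N2402 F34228))
theorem Q3019 : ∀ i, i < 3019 → P i := stepQ 3018 Q3018 (allL N3018 (tt N1899 F19077) (tt N2386 (iv F28875)) (tt N4100 F32461) (tt N1895 F19078) (tt N2385 F28864) (tt N1894 (iv D10736)) (tt N3031 (iv F19096)))
theorem Q3020 : ∀ i, i < 3020 → P i := stepQ 3019 Q3019 (allL N3019 (tt N1900 F19079) (tt N2403 F34185) (tt N4116 (iv F34197)) (tt N1896 F19080) (tt N2402 (iv F34198)) (tt N3029 (iv F19091)) (tt N1894 (iv D10737)))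
theorem Q3021 : ∀ i, i < 3021 → P i := stepQ 3020 Q3020 (allL N3020 (tt N2395 (iv F28882)) (tt N1895 (iv D10738)) (tt N3650 (iv F28883)) (tt N2386 F28880) (tt N3902 F28881) (tt N3961 (iv F28884)) (tt N4045 (iv F32476)))
theorem Q3022 : ∀ i, i < 3022 → P i := stepQ 3021 Q3021 (allL N3021 (tt N2412 F34174) (tt N1896 (iv D10739)) (tt N3659 (iv F34176)) (tt N2403 (iv F34177)) (tt N3930 (iv F34178)) (tt N4091 (iv F34179)) (tt N3991 (iv F34175)))
theorem Q3023 : ∀ i, i < 3023 → P i := stepQ 3022 Q3022 (allL N3022 (tt N2924 F19081) (tt N3438 (iv F19928)) (tt N2921 F19082) (tt N1897 (iv D10740)) (tt N5082 D13479) (tt N5083 D13480) (tt N5084 D13481))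
theorem Q3024 : ∀ i, i < 3024 → P i := stepQ 3023 Q3023 (allL N3023 (tt N5081 (iv F23690)) (tt N3439 (iv F19929)) (tt N1898 F19083) (tt N5085 D13482) (tt N1897 (iv D10741)) (tt N5086 D13483) (tt N5087 D13484))
theorem Q3025 : ∀ i, i < 3025 → P i := stepQ 3024 Q3024 (allL N3024 (tt N4100 F32460) (tt N5088 D13485) (tt N1899 F19084) (tt N5083 (iv F23714)) (tt N5086 (iv F23720)) (tt N1897 (iv D10742)) (tt N5089 D13486))
theorem Q3026 : ∀ i, i < 3026 → P i := stepQ 3025 Q3025 (allL N3025 (tt N4116 F34222) (tt N5090 D13487) (tt N1900 F19085) (tt N5084 (iv F23717)) (tt N5087 (iv F23722)) (tt N5091 D13488) (tt N1897 (iv D10743)))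
theorem Q3027 : ∀ i, i < 3027 → P i := stepQ 3026 Q3026 (allL N3026 (tt N2385 F28849) (tt N5092 D13489) (tt N5086 (iv F23719)) (tt N3898 F28850) (tt N1899 F19086) (tt N1898 (iv D10744)) (tt N3972 F34280))
theorem Q3028 : ∀ i, i < 3028 → P i := stepQ 3027 Q3027 (allL N3027 (tt N2402 F34223) (tt N5093 D13491) (tt N5087 (iv F23721)) (tt N3927 (iv F34268)) (tt N1900 F19087) (tt N3942 (iv F28865)) (tt N1898 (iv D10745)))
theorem Q3029 : ∀ i, i < 3029 → P i := stepQ 3028 Q3028 (allL N3028 (tt N5094 D13493) (tt N1899 (iv D10746)) (tt N5095 D13494) (tt N1901 F19088) (tt N5092 (iv F23728)) (tt N1907 F19089) (tt N5096 D13495))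
theorem Q3030 : ∀ i, i < 3030 → P i := stepQ 3029 Q3029 (allL N3029 (tt N3031 (iv F19094)) (tt N5097 D13496) (tt N5089 (iv F23723)) (tt N1902 F19090) (tt N3972 (iv F34227)) (tt N3019 F19091) (tt N1899 (iv D10747)))
theorem Q3031 : ∀ i, i < 3031 → P i := stepQ 3030 Q3030 (allL N3030 (tt N5098 D13497) (tt N1900 (iv D10748)) (tt N5099 D13498) (tt N1903 F19092) (tt N5093 (iv F23732)) (tt N5100 D13499) (tt N1909 F19093))
theorem Q3032 : ∀ i, i < 3032 → P i := stepQ 3031 Q3031 (allL N3031 (tt N3029 F19094) (tt N5101 D13500) (tt N5091 (iv F23726)) (tt N1904 F19095) (tt N3942 F28878) (tt N1900 (iv D10749)) (tt N3018 F19096))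
theorem Q3033 : ∀ i, i < 3033 → P i := stepQ 3032 Q3032 (allL N3032 (tt N1901 (iv D10750)) (tt N5102 D13501) (tt N5103 D13502) (tt N5094 (iv F23737)) (tt N5035 (iv F23598)) (tt N1911 F19097) (tt N3058 (iv F19127)))
theorem Q3034 : ∀ i, i < 3034 → P i := stepQ 3033 Q3033 (allL N3033 (tt N5103 (iv F23747)) (tt N2002 F19098) (tt N1901 (iv D10751)) (tt N3589 F28899) (tt N5036 (iv F23601)) (tt N1912 F19099) (tt N5104 D13504))
theorem Q3035 : ∀ i, i < 3035 → P i := stepQ 3034 Q3034 (allL N3034 (tt N3058 (iv F19126)) (tt N5105 D13505) (tt N5104 (iv F23751)) (tt N5096 (iv F23740)) (tt N5037 (iv F23603)) (tt N3054 (iv F19122)) (tt N1901 (iv D10752)))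
theorem Q3036 : ∀ i, i < 3036 → P i := stepQ 3035 Q3035 (allL N3035 (tt N5106 D13506) (tt N1902 (iv D10753)) (tt N5107 D13507) (tt N5097 (iv F23741)) (tt N5038 (iv F23604)) (tt N5108 D13508) (tt N5105 (iv F23752)))
theorem Q3037 : ∀ i, i < 3037 → P i := stepQ 3036 Q3036 (allL N3036 (tt N1903 (iv D10754)) (tt N5109 D13509) (tt N5110 D13510) (tt N5098 (iv F23742)) (tt N5039 (iv F23605)) (tt N3068 (iv F19137)) (tt N1915 F19100))
theorem Q3038 : ∀ i, i < 3038 → P i := stepQ 3037 Q3037 (allL N3037 (tt N5110 (iv F23755)) (tt N2006 F19101) (tt N1903 (iv D10755)) (tt N3611 F34521) (tt N5040 (iv F23608)) (tt N5111 D13512) (tt N1916 F19102))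
theorem Q3039 : ∀ i, i < 3039 → P i := stepQ 3038 Q3038 (allL N3038 (tt N3068 (iv F19136)) (tt N5112 D13513) (tt N5111 (iv F23759)) (tt N5100 (iv F23745)) (tt N5041 (iv F23610)) (tt N1903 (iv D10756)) (tt N3064 (iv F19132)))
theorem Q3040 : ∀ i, i < 3040 → P i := stepQ 3039 Q3039 (allL N3039 (tt N5113 D13514) (tt N1904 (iv D10757)) (tt N5114 D13515) (tt N5101 (iv F23746)) (tt N5042 (iv F23611)) (tt N5112 (iv F23760)) (tt N5115 D13516))
theorem Q3041 : ∀ i, i < 3041 → P i := stepQ 3040 Q3040 (allL N3040 (tt N5116 D13517) (tt N1905 (iv D10758)) (tt N5117 D13518) (tt N5007 (iv F23551)) (tt N1907 F19103) (tt N5092 (iv F23729)) (tt N5118 D13519))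
theorem Q3042 : ∀ i, i < 3042 → P i := stepQ 3041 Q3041 (allL N3041 (tt N3043 (iv F19109)) (tt N5119 D13520) (tt N2198 F19104) (tt N2976 F19105) (tt N1908 F19106) (tt N2192 F19107) (tt N1905 (iv D10759)))
theorem Q3043 : ∀ i, i < 3043 → P i := stepQ 3042 Q3042 (allL N3042 (tt N5120 D13521) (tt N1906 (iv D10760)) (tt N5121 D13522) (tt N5008 (iv F23553)) (tt N1909 F19108) (tt N5122 D13523) (tt N5093 (iv F23733)))
theorem Q3044 : ∀ i, i < 3044 → P i := stepQ 3043 Q3043 (allL N3043 (tt N3041 F19109) (tt N5123 D13524) (tt N2196 F19110) (tt N2974 F19111) (tt N1910 F19112) (tt N1906 (iv D10761)) (tt N2191 F19113))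
theorem Q3045 : ∀ i, i < 3045 → P i := stepQ 3044 Q3044 (allL N3044 (tt N1907 (iv D10762)) (tt N3947 F28935) (tt N3358 F29041) (tt N1911 F19114) (tt N5116 (iv F23763)) (tt N5094 (iv F23738)) (tt N5124 D13527))
theorem Q3046 : ∀ i, i < 3046 → P i := stepQ 3045 Q3045 (allL N3045 (tt N3358 F29040) (tt N3457 (iv F19955)) (tt N1907 (iv D10763)) (tt N3355 (iv F29042)) (tt N5117 (iv F23764)) (tt N5095 (iv F23739)) (tt N5125 D13529))
theorem Q3047 : ∀ i, i < 3047 → P i := stepQ 3046 Q3046 (allL N3046 (tt N5124 (iv F23775)) (tt N5126 D13530) (tt N5125 (iv F23778)) (tt N1913 F19115) (tt N5118 (iv F23765)) (tt N5127 D13531) (tt N1907 (iv D10764)))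
theorem Q3048 : ∀ i, i < 3048 → P i := stepQ 3047 Q3047 (allL N3047 (tt N5128 D13532) (tt N1908 (iv D10765)) (tt N5129 D13533) (tt N1914 F19116) (tt N5119 (iv F23767)) (tt N5130 D13534) (tt N5126 (iv F23780)))
theorem Q3049 : ∀ i, i < 3049 → P i := stepQ 3048 Q3048 (allL N3048 (tt N1909 (iv D10766)) (tt N3978 F34211) (tt N3382 (iv F32085)) (tt N1915 F19117) (tt N5120 (iv F23768)) (tt N5131 D13537) (tt N5098 (iv F23743)))
theorem Q3050 : ∀ i, i < 3050 → P i := stepQ 3049 Q3049 (allL N3049 (tt N3382 F32086) (tt N3460 (iv F19958)) (tt N1909 (iv D10767)) (tt N3379 (iv F32087)) (tt N5121 (iv F23769)) (tt N5132 D13539) (tt N5099 (iv F23744)))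
theorem Q3051 : ∀ i, i < 3051 → P i := stepQ 3050 Q3050 (allL N3050 (tt N5131 (iv F23790)) (tt N5133 D13540) (tt N5132 (iv F23793)) (tt N1917 F19118) (tt N5122 (iv F23770)) (tt N1909 (iv D10768)) (tt N5134 D13541))
theorem Q3052 : ∀ i, i < 3052 → P i := stepQ 3051 Q3051 (allL N3051 (tt N5135 D13542) (tt N1910 (iv D10769)) (tt N5136 D13543) (tt N1918 F19119) (tt N5123 (iv F23772)) (tt N5133 (iv F23795)) (tt N5137 D13544))
theorem Q3053 : ∀ i, i < 3053 → P i := stepQ 3052 Q3052 (allL N3052 (tt N3950 (iv F28927)) (tt N1911 (iv D10770)) (tt N3950 (iv F28928)) (tt N3947 (iv F28929)) (tt N5051 (iv F23622)) (tt N3945 (iv F28930)) (tt N5138 D13548))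
theorem Q3054 : ∀ i, i < 3054 → P i := stepQ 3053 Q3053 (allL N3053 (tt N1912 F19120) (tt N5139 D13549) (tt N1911 (iv D10771)) (tt N5140 D13550) (tt N5052 (iv F23624)) (tt N5103 (iv F23748)) (tt N5141 D13551))
theorem Q3055 : ∀ i, i < 3055 → P i := stepQ 3054 Q3054 (allL N3054 (tt N1913 F19121) (tt N5142 D13552) (tt N5141 (iv F23805)) (tt N5124 (iv F23776)) (tt N5053 (iv F23626)) (tt N3034 F19122) (tt N1911 (iv D10772)))
theorem Q3056 : ∀ i, i < 3056 → P i := stepQ 3055 Q3055 (allL N3055 (tt N5140 (iv F23803)) (tt N1920 F19123) (tt N3590 (iv F28901)) (tt N1912 (iv D10773)) (tt N5143 D13554) (tt N3589 F28900) (tt N5144 D13555))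
theorem Q3057 : ∀ i, i < 3057 → P i := stepQ 3056 Q3056 (allL N3056 (tt N5141 (iv F23804)) (tt N5145 D13556) (tt N1913 F19124) (tt N5144 (iv F23808)) (tt N5055 (iv F23630)) (tt N5146 D13557) (tt N1912 (iv D10774)))
theorem Q3058 : ∀ i, i < 3058 → P i := stepQ 3057 Q3057 (allL N3057 (tt N5147 D13558) (tt N1913 (iv D10775)) (tt N5148 D13559) (tt N5126 (iv F23779)) (tt N5056 (iv F23631)) (tt N5149 D13560) (tt N1914 F19125))
theorem Q3059 : ∀ i, i < 3059 → P i := stepQ 3058 Q3058 (allL N3058 (tt N3034 F19126) (tt N5150 D13561) (tt N5146 (iv F23811)) (tt N5127 (iv F23782)) (tt N5057 (iv F23634)) (tt N1913 (iv D10776)) (tt N3032 F19127))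
theorem Q3060 : ∀ i, i < 3060 → P i := stepQ 3059 Q3059 (allL N3059 (tt N1914 (iv D10777)) (tt N5151 D13562) (tt N5152 D13563) (tt N5128 (iv F23784)) (tt N5058 (iv F23636)) (tt N5153 D13564) (tt N5147 (iv F23813)))
theorem Q3061 : ∀ i, i < 3061 → P i := stepQ 3060 Q3060 (allL N3060 (tt N5152 (iv F23815)) (tt N1922 F19128) (tt N1914 (iv D10778)) (tt N5154 D13565) (tt N5059 (iv F23638)) (tt N5155 D13566) (tt N5148 (iv F23814)))
theorem Q3062 : ∀ i, i < 3062 → P i := stepQ 3061 Q3061 (allL N3061 (tt N5153 (iv F23816)) (tt N2982 F19129) (tt N5155 (iv F23820)) (tt N5130 (iv F23787)) (tt N5060 (iv F23640)) (tt N1914 (iv D10779)) (tt N5156 D13567))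
theorem Q3063 : ∀ i, i < 3063 → P i := stepQ 3062 Q3062 (allL N3062 (tt N3981 F34212) (tt N1915 (iv D10780)) (tt N3981 F34213) (tt N3978 F34214) (tt N5061 (iv F23641)) (tt N5157 D13570) (tt N3975 (iv F34254)))
theorem Q3064 : ∀ i, i < 3064 → P i := stepQ 3063 Q3063 (allL N3063 (tt N1916 F19130) (tt N5158 D13572) (tt N1915 (iv D10781)) (tt N5159 D13573) (tt N5062 (iv F23643)) (tt N5160 D13574) (tt N5110 (iv F23756)))
theorem Q3065 : ∀ i, i < 3065 → P i := stepQ 3064 Q3064 (allL N3064 (tt N1917 F19131) (tt N5161 D13575) (tt N5160 (iv F23825)) (tt N5131 (iv F23791)) (tt N5063 (iv F23645)) (tt N1915 (iv D10782)) (tt N3038 F19132))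
theorem Q3066 : ∀ i, i < 3066 → P i := stepQ 3065 Q3065 (allL N3065 (tt N5159 (iv F23823)) (tt N1924 F19133) (tt N3613 F34526) (tt N1916 (iv D10783)) (tt N5162 D13577) (tt N5163 D13578) (tt N3611 F34527))
theorem Q3067 : ∀ i, i < 3067 → P i := stepQ 3066 Q3066 (allL N3066 (tt N5160 (iv F23824)) (tt N5164 D13579) (tt N1917 F19134) (tt N5163 (iv F23828)) (tt N5065 (iv F23649)) (tt N1916 (iv D10784)) (tt N5165 D13580))
theorem Q3068 : ∀ i, i < 3068 → P i := stepQ 3067 Q3067 (allL N3067 (tt N5166 D13581) (tt N1917 (iv D10785)) (tt N5167 D13582) (tt N5133 (iv F23794)) (tt N5066 (iv F23650)) (tt N1918 F19135) (tt N5168 D13583))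
theorem Q3069 : ∀ i, i < 3069 → P i := stepQ 3068 Q3068 (allL N3068 (tt N3038 F19136) (tt N5169 D13584) (tt N5165 (iv F23831)) (tt N5134 (iv F23797)) (tt N5067 (iv F23653)) (tt N3036 F19137) (tt N1917 (iv D10786)))
theorem Q3070 : ∀ i, i < 3070 → P i := stepQ 3069 Q3069 (allL N3069 (tt N1918 (iv D10787)) (tt N5170 D13585) (tt N5171 D13586) (tt N5135 (iv F23799)) (tt N5068 (iv F23655)) (tt N5166 (iv F23833)) (tt N5172 D13587))
theorem Q3071 : ∀ i, i < 3071 → P i := stepQ 3070 Q3070 (allL N3070 (tt N5171 (iv F23835)) (tt N1926 F19138) (tt N1918 (iv D10788)) (tt N5173 D13588) (tt N5069 (iv F23657)) (tt N5167 (iv F23834)) (tt N5174 D13589))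
theorem Q3072 : ∀ i, i < 3072 → P i := stepQ 3071 Q3071 (allL N3071 (tt N5172 (iv F23836)) (tt N2979 F19139) (tt N5174 (iv F23840)) (tt N5137 (iv F23802)) (tt N5070 (iv F23659)) (tt N5175 D13590) (tt N1918 (iv D10789)))
theorem Q3073 : ∀ i, i < 3073 → P i := stepQ 3072 Q3072 (allL N3072 (tt N5176 D13591) (tt N1919 (iv D10790)) (tt N3072 F19140) (tt N2715 F28987) (tt N3178 (iv F19369)) (tt N2714 (iv F28990)) (tt N5177 D13594))
theorem Q3074 : ∀ i, i < 3074 → P i := stepQ 3073 Q3073 (allL N3073 (tt N1920 F19141) (tt N2715 (iv F28984)) (tt N3091 (iv F19174)) (tt N1919 (iv D10791)) (tt N5178 D13595) (tt N2031 F19142) (tt N3276 (iv F19517)))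
theorem Q3075 : ∀ i, i < 3075 → P i := stepQ 3074 Q3074 (allL N3074 (tt N3091 (iv F19173)) (tt N5179 D13596) (tt N1920 (iv D10792)) (tt N3088 (iv F19168)) (tt N5180 D13597) (tt N2032 F19143) (tt N5181 D13598))
theorem Q3076 : ∀ i, i < 3076 → P i := stepQ 3075 Q3075 (allL N3075 (tt N5178 (iv F23848)) (tt N5143 (iv F23807)) (tt N5180 (iv F23850)) (tt N5071 (iv F23661)) (tt N1920 (iv D10793)) (tt N2033 F19144) (tt N5182 D13599))
theorem Q3077 : ∀ i, i < 3077 → P i := stepQ 3076 Q3076 (allL N3076 (tt N3276 (iv F19515)) (tt N5183 D13600) (tt N5181 (iv F23852)) (tt N1921 F19145) (tt N5182 (iv F23855)) (tt N3085 (iv F19157)) (tt N1920 (iv D10794)))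
theorem Q3078 : ∀ i, i < 3078 → P i := stepQ 3077 Q3077 (allL N3077 (tt N5184 D13601) (tt N1921 (iv D10795)) (tt N3084 (iv F19155)) (tt N5183 (iv F23856)) (tt N5073 (iv F23665)) (tt N5185 D13602) (tt N5145 (iv F23809)))
theorem Q3079 : ∀ i, i < 3079 → P i := stepQ 3078 Q3078 (allL N3078 (tt N2046 F19146) (tt N5154 (iv F23818)) (tt N3340 (iv F19627)) (tt N1922 (iv D10796)) (tt N5186 D13603) (tt N2043 F19147) (tt N3083 (iv F19154)))
theorem Q3080 : ∀ i, i < 3080 → P i := stepQ 3079 Q3079 (allL N3079 (tt N5187 D13604) (tt N1923 (iv D10797)) (tt N3079 F19148) (tt N2767 F34743) (tt N3184 (iv F19385)) (tt N5188 D13606) (tt N2765 (iv F34761)))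
theorem Q3081 : ∀ i, i < 3081 → P i := stepQ 3080 Q3080 (allL N3080 (tt N1924 F19149) (tt N2767 (iv F34737)) (tt N3101 (iv F19202)) (tt N1923 (iv D10798)) (tt N5189 D13608) (tt N3299 (iv F19541)) (tt N2043 F19150))
theorem Q3082 : ∀ i, i < 3082 → P i := stepQ 3081 Q3081 (allL N3081 (tt N3101 (iv F19201)) (tt N5190 D13609) (tt N1924 (iv D10799)) (tt N3098 (iv F19196)) (tt N5191 D13610) (tt N5192 D13611) (tt N2044 F19151))
theorem Q3083 : ∀ i, i < 3083 → P i := stepQ 3082 Q3082 (allL N3082 (tt N5189 (iv F23866)) (tt N5162 (iv F23827)) (tt N5191 (iv F23868)) (tt N5075 (iv F23669)) (tt N1924 (iv D10800)) (tt N5193 D13612) (tt N2045 F19152))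
theorem Q3084 : ∀ i, i < 3084 → P i := stepQ 3083 Q3083 (allL N3083 (tt N3299 (iv F19539)) (tt N5194 D13613) (tt N5192 (iv F23870)) (tt N1925 F19153) (tt N5193 (iv F23873)) (tt N1924 (iv D10801)) (tt N3078 F19154))
theorem Q3085 : ∀ i, i < 3085 → P i := stepQ 3084 Q3084 (allL N3084 (tt N5195 D13614) (tt N1925 (iv D10802)) (tt N3077 F19155) (tt N5194 (iv F23875)) (tt N5077 (iv F23675)) (tt N5164 (iv F23829)) (tt N5196 D13615))
theorem Q3086 : ∀ i, i < 3086 → P i := stepQ 3085 Q3085 (allL N3085 (tt N2034 F19156) (tt N5173 (iv F23838)) (tt N3318 (iv F19566)) (tt N1926 (iv D10803)) (tt N5197 D13616) (tt N3076 F19157) (tt N2031 F19158))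
theorem Q3087 : ∀ i, i < 3087 → P i := stepQ 3086 Q3086 (allL N3086 (tt N3086 F19159) (tt N1928 F19160) (tt N5198 D13617) (tt N1927 (iv D10804)) (tt N5198 (iv F29119)) (tt N3086 F19161) (tt N5198 (iv F32541)))
theorem Q3088 : ∀ i, i < 3088 → P i := stepQ 3087 Q3087 (allL N3087 (tt N3087 F19162) (tt N1940 F32581) (tt N3087 F19163) (tt N5198 F32582) (tt N1939 (iv F32666)) (tt N3087 F19165) (tt N1927 (iv D10805)))
theorem Q3089 : ∀ i, i < 3089 → P i := stepQ 3088 Q3088 (allL N3088 (tt N1929 F19166) (tt N5199 D13620) (tt N1928 (iv D10806)) (tt N3074 F19168) (tt N5199 (iv F28975)) (tt N2053 F19167) (tt N3322 (iv F19572)))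
theorem Q3090 : ∀ i, i < 3090 → P i := stepQ 3089 Q3089 (allL N3089 (tt N1930 F19169) (tt N5198 (iv F29117)) (tt N5199 (iv F28974)) (tt N1940 F19170) (tt N1928 (iv D10807)) (tt N2054 F19171) (tt N3324 (iv F19579)))
theorem Q3091 : ∀ i, i < 3091 → P i := stepQ 3090 Q3090 (allL N3090 (tt N3520 F28952) (tt N1929 (iv D10808)) (tt N2235 F19172) (tt N3522 (iv F28960)) (tt N3528 F28953) (tt N3560 (iv F28962)) (tt N5200 D13626))
theorem Q3092 : ∀ i, i < 3092 → P i := stepQ 3091 Q3091 (allL N3091 (tt N3074 F19173) (tt N3522 F28971) (tt N3073 F19174) (tt N1929 (iv D10809)) (tt N5201 D13627) (tt N2056 F19175) (tt N5202 D13628))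
theorem Q3093 : ∀ i, i < 3093 → P i := stepQ 3092 Q3092 (allL N3092 (tt N5199 (iv F28973)) (tt N3528 F28951) (tt N1930 F19176) (tt N3536 (iv F28959)) (tt N1929 (iv D10810)) (tt N2057 F19177) (tt N4904 (iv F32543)))
theorem Q3094 : ∀ i, i < 3094 → P i := stepQ 3093 Q3093 (allL N3093 (tt N3322 (iv F19570)) (tt N5203 D13631) (tt N1931 F19178) (tt N5202 (iv F23907)) (tt N4904 F32594) (tt N3104 (iv F19212)) (tt N1929 (iv D10811)))
theorem Q3095 : ∀ i, i < 3095 → P i := stepQ 3094 Q3094 (allL N3094 (tt N2074 F19181) (tt N5204 D13632) (tt N1932 (iv D10813)) (tt N3296 (iv F19536)) (tt N5205 D13633) (tt N2069 F19182) (tt N3103 (iv F19207)))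
theorem Q3096 : ∀ i, i < 3096 → P i := stepQ 3095 Q3095 (allL N3095 (tt N2075 F19183) (tt N2066 F32884) (tt N5205 (iv F23914)) (tt N1941 F19185) (tt N1932 (iv D10814)) (tt N2070 F19186) (tt N2913 F32885))
theorem Q3097 : ∀ i, i < 3097 → P i := stepQ 3096 Q3096 (allL N3096 (tt N3096 F19187) (tt N1934 F19188) (tt N5206 D13634) (tt N1933 (iv D10815)) (tt N5206 (iv F32106)) (tt N5206 (iv F32949)) (tt N3096 F19189))
theorem Q3098 : ∀ i, i < 3098 → P i := stepQ 3097 Q3097 (allL N3097 (tt N3097 F19190) (tt N1943 F32914) (tt N3097 F19191) (tt N5206 (iv F32948)) (tt N1942 (iv F32943)) (tt N1933 (iv D10816)) (tt N3097 F19193))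
theorem Q3099 : ∀ i, i < 3099 → P i := stepQ 3098 Q3098 (allL N3098 (tt N1935 F19194) (tt N5207 D13637) (tt N1934 (iv D10817)) (tt N3081 F19196) (tt N5207 (iv F32098)) (tt N3344 (iv F19633)) (tt N2069 F19195))
theorem Q3100 : ∀ i, i < 3100 → P i := stepQ 3099 Q3099 (allL N3099 (tt N1936 F19197) (tt N5206 (iv F32104)) (tt N5207 (iv F32097)) (tt N1943 F19198) (tt N1934 (iv D10818)) (tt N3346 (iv F19640)) (tt N2070 F19199))
theorem Q3101 : ∀ i, i < 3101 → P i := stepQ 3100 Q3100 (allL N3100 (tt N3521 (iv F34506)) (tt N1935 (iv D10819)) (tt N2239 F19200) (tt N3525 (iv F34513)) (tt N3532 F34500) (tt N5208 D13642) (tt N3564 F34501))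
theorem Q3102 : ∀ i, i < 3102 → P i := stepQ 3101 Q3101 (allL N3101 (tt N3081 F19201) (tt N3525 F34535) (tt N3080 F19202) (tt N1935 (iv D10820)) (tt N5209 D13644) (tt N5210 D13645) (tt N2072 F19203))
theorem Q3103 : ∀ i, i < 3103 → P i := stepQ 3102 Q3102 (allL N3102 (tt N5207 (iv F32096)) (tt N3532 F34502) (tt N1936 F19204) (tt N3544 (iv F34518)) (tt N1935 (iv D10821)) (tt N4923 F32915) (tt N2073 F19205))
theorem Q3104 : ∀ i, i < 3104 → P i := stepQ 3103 Q3103 (allL N3103 (tt N3344 (iv F19631)) (tt N5211 D13648) (tt N1937 F19206) (tt N5210 (iv F23941)) (tt N4923 (iv F32882)) (tt N1935 (iv D10822)) (tt N3094 F19207))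
theorem Q3105 : ∀ i, i < 3105 → P i := stepQ 3104 Q3104 (allL N3104 (tt N2058 F19211) (tt N5212 D13649) (tt N1938 (iv D10824)) (tt N3273 (iv F19512)) (tt N5213 D13650) (tt N3093 F19212) (tt N2053 F19213))
theorem Q3106 : ∀ i, i < 3106 → P i := stepQ 3105 Q3105 (allL N3105 (tt N2059 F19214) (tt N2082 (iv F32562)) (tt N5213 (iv F23949)) (tt N1944 F19216) (tt N1938 (iv D10825)) (tt N2901 F32544) (tt N2054 F19218))
theorem Q3107 : ∀ i, i < 3107 → P i := stepQ 3106 Q3106 (allL N3106 (tt N1945 (iv D10830)) (tt N4940 (iv F23363)) (tt N1945 (iv F19236)) (tt N5214 D13653) (tt N1996 F19235) (tt N5215 D13654) (tt N5216 D13655))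
theorem Q3108 : ∀ i, i < 3108 → P i := stepQ 3107 Q3107 (allL N3107 (tt N5214 (iv F23960)) (tt N1946 F19237) (tt N2506 (iv F19238)) (tt N1945 (iv D10831)) (tt N4942 (iv F23371)) (tt N5217 D13656) (tt N5218 D13657))
theorem Q3109 : ∀ i, i < 3109 → P i := stepQ 3108 Q3108 (allL N3108 (tt N5215 (iv F23962)) (tt N5219 D13658) (tt N5215 (iv F23963)) (tt N5217 (iv F23969)) (tt N1997 F19239) (tt N1945 (iv D10832)) (tt N5220 D13659))
theorem Q3110 : ∀ i, i < 3110 → P i := stepQ 3109 Q3109 (allL N3109 (tt N5216 (iv F23965)) (tt N5221 D13660) (tt N5216 (iv F23966)) (tt N5218 (iv F23971)) (tt N1998 F19240) (tt N5222 D13661) (tt N1945 (iv D10833)))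
theorem Q3111 : ∀ i, i < 3111 → P i := stepQ 3110 Q3110 (allL N3110 (tt N1950 F19241) (tt N5223 D13662) (tt N2500 F19242) (tt N1947 F19243) (tt N4945 (iv F23378)) (tt N1946 (iv D10834)) (tt N3119 (iv F19263)))
theorem Q3112 : ∀ i, i < 3112 → P i := stepQ 3111 Q3111 (allL N3111 (tt N1951 F19244) (tt N5224 D13663) (tt N2501 F19245) (tt N1948 F19246) (tt N4946 (iv F23382)) (tt N3117 (iv F19258)) (tt N1946 (iv D10835)))
theorem Q3113 : ∀ i, i < 3113 → P i := stepQ 3112 Q3112 (allL N3112 (tt N5225 D13664) (tt N1947 (iv D10836)) (tt N5226 D13665) (tt N5223 (iv F23982)) (tt N1999 F19247) (tt N5219 (iv F23973)) (tt N5227 D13666))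
theorem Q3114 : ∀ i, i < 3114 → P i := stepQ 3113 Q3113 (allL N3113 (tt N5228 D13667) (tt N1948 (iv D10837)) (tt N5229 D13668) (tt N5224 (iv F23983)) (tt N2000 F19248) (tt N5230 D13669) (tt N5221 (iv F23977)))
theorem Q3115 : ∀ i, i < 3115 → P i := stepQ 3114 Q3114 (allL N3114 (tt N2500 F19249) (tt N5231 D13670) (tt N1950 F19250) (tt N2495 F19251) (tt N4949 (iv F23388)) (tt N1949 (iv D10838)) (tt N4139 (iv F21281)))
theorem Q3116 : ∀ i, i < 3116 → P i := stepQ 3115 Q3115 (allL N3115 (tt N2501 F19252) (tt N5232 D13671) (tt N1951 F19253) (tt N2496 F19254) (tt N4950 (iv F23392)) (tt N4137 (iv F21275)) (tt N1949 (iv D10839)))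
theorem Q3117 : ∀ i, i < 3117 → P i := stepQ 3116 Q3116 (allL N3116 (tt N5233 D13672) (tt N1950 (iv D10840)) (tt N5234 D13673) (tt N1952 F19255) (tt N4951 (iv F23394)) (tt N1956 F19256) (tt N5235 D13674))
theorem Q3118 : ∀ i, i < 3118 → P i := stepQ 3117 Q3117 (allL N3117 (tt N3119 (iv F19261)) (tt N5236 D13675) (tt N4139 (iv F21279)) (tt N1953 F19257) (tt N4952 (iv F23397)) (tt N3111 F19258) (tt N1950 (iv D10841)))
theorem Q3119 : ∀ i, i < 3119 → P i := stepQ 3118 Q3118 (allL N3118 (tt N5237 D13676) (tt N1951 (iv D10842)) (tt N5238 D13677) (tt N1954 F19259) (tt N4953 (iv F23400)) (tt N5239 D13678) (tt N1958 F19260))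
theorem Q3120 : ∀ i, i < 3120 → P i := stepQ 3119 Q3119 (allL N3119 (tt N3117 F19261) (tt N5240 D13679) (tt N4137 (iv F21273)) (tt N1955 F19262) (tt N4954 (iv F23404)) (tt N1951 (iv D10843)) (tt N3110 F19263))
theorem Q3121 : ∀ i, i < 3121 → P i := stepQ 3120 Q3120 (allL N3120 (tt N1952 (iv D10844)) (tt N5241 D13680) (tt N5242 D13681) (tt N5233 (iv F23992)) (tt N2001 F19264) (tt N1960 F19265) (tt N3142 (iv F19296)))
theorem Q3122 : ∀ i, i < 3122 → P i := stepQ 3121 Q3121 (allL N3121 (tt N5242 (iv F24015)) (tt N5036 (iv F23600)) (tt N1952 (iv D10845)) (tt N5243 D13682) (tt N2002 F19266) (tt N1961 F19267) (tt N5244 D13683))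
theorem Q3123 : ∀ i, i < 3123 → P i := stepQ 3122 Q3122 (allL N3122 (tt N3142 (iv F19294)) (tt N5245 D13684) (tt N5244 (iv F24019)) (tt N5235 (iv F24004)) (tt N2003 F19268) (tt N3138 (iv F19288)) (tt N1952 (iv D10846)))
theorem Q3124 : ∀ i, i < 3124 → P i := stepQ 3123 Q3123 (allL N3123 (tt N5246 D13685) (tt N1953 (iv D10847)) (tt N5247 D13686) (tt N5236 (iv F24005)) (tt N2004 F19269) (tt N5248 D13687) (tt N5245 (iv F24022)))
theorem Q3125 : ∀ i, i < 3125 → P i := stepQ 3124 Q3124 (allL N3124 (tt N1954 (iv D10848)) (tt N5249 D13688) (tt N5250 D13689) (tt N5237 (iv F24006)) (tt N2005 F19270) (tt N3152 (iv F19315)) (tt N1964 F19271))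
theorem Q3126 : ∀ i, i < 3126 → P i := stepQ 3125 Q3125 (allL N3125 (tt N5250 (iv F24028)) (tt N5040 (iv F23607)) (tt N1954 (iv D10849)) (tt N5251 D13690) (tt N2006 F19272) (tt N5252 D13691) (tt N1965 F19273))
theorem Q3127 : ∀ i, i < 3127 → P i := stepQ 3126 Q3126 (allL N3126 (tt N3152 (iv F19313)) (tt N5253 D13692) (tt N5252 (iv F24032)) (tt N5239 (iv F24012)) (tt N2007 F19274) (tt N1954 (iv D10850)) (tt N3148 (iv F19307)))
theorem Q3128 : ∀ i, i < 3128 → P i := stepQ 3127 Q3127 (allL N3127 (tt N5254 D13693) (tt N1955 (iv D10851)) (tt N5255 D13694) (tt N5240 (iv F24013)) (tt N2008 F19275) (tt N5253 (iv F24035)) (tt N5256 D13695))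
theorem Q3129 : ∀ i, i < 3129 → P i := stepQ 3128 Q3128 (allL N3128 (tt N1956 (iv D10852)) (tt N5257 D13696) (tt N2548 F21541) (tt N1960 F19276) (tt N4961 (iv F23419)) (tt N5233 (iv F23993)) (tt N5258 D13697))
theorem Q3130 : ∀ i, i < 3130 → P i := stepQ 3129 Q3129 (allL N3129 (tt N2548 F21539) (tt N4962 (iv F23422)) (tt N1956 (iv D10853)) (tt N2568 F21540) (tt N4962 (iv F23423)) (tt N5234 (iv F24002)) (tt N5259 D13698))
theorem Q3131 : ∀ i, i < 3131 → P i := stepQ 3130 Q3130 (allL N3130 (tt N5258 (iv F24042)) (tt N5260 D13699) (tt N5259 (iv F24047)) (tt N1962 F19277) (tt N4963 (iv F23426)) (tt N5261 D13700) (tt N1956 (iv D10854)))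
theorem Q3132 : ∀ i, i < 3132 → P i := stepQ 3131 Q3131 (allL N3131 (tt N5262 D13701) (tt N1957 (iv D10855)) (tt N5263 D13702) (tt N1963 F19278) (tt N3135 (iv F19282)) (tt N5264 D13703) (tt N5260 (iv F24050)))
theorem Q3133 : ∀ i, i < 3133 → P i := stepQ 3132 Q3132 (allL N3132 (tt N1958 (iv D10856)) (tt N5265 D13704) (tt N2558 F21630) (tt N1964 F19279) (tt N4964 (iv F23428)) (tt N5266 D13705) (tt N5237 (iv F24007)))
theorem Q3134 : ∀ i, i < 3134 → P i := stepQ 3133 Q3133 (allL N3133 (tt N2558 F21628) (tt N4965 (iv F23453)) (tt N1958 (iv D10857)) (tt N2591 F21629) (tt N4965 (iv F23454)) (tt N5267 D13706) (tt N5238 (iv F24010)))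
theorem Q3135 : ∀ i, i < 3135 → P i := stepQ 3134 Q3134 (allL N3134 (tt N5266 (iv F24059)) (tt N5268 D13707) (tt N5267 (iv F24064)) (tt N1966 F19280) (tt N4966 (iv F23457)) (tt N1958 (iv D10858)) (tt N5269 D13708))
theorem Q3136 : ∀ i, i < 3136 → P i := stepQ 3135 Q3135 (allL N3135 (tt N5270 D13709) (tt N1959 (iv D10859)) (tt N5271 D13710) (tt N1967 F19281) (tt N3131 F19282) (tt N5268 (iv F24068)) (tt N5272 D13711))
theorem Q3137 : ∀ i, i < 3137 → P i := stepQ 3136 Q3136 (allL N3136 (tt N5273 D13712) (tt N1960 (iv D10860)) (tt N5274 D13713) (tt N5257 (iv F24041)) (tt N2009 F19283) (tt N5275 D13714) (tt N5276 D13715))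
theorem Q3138 : ∀ i, i < 3138 → P i := stepQ 3137 Q3137 (allL N3137 (tt N1961 F19284) (tt N5277 D13716) (tt N1960 (iv D10861)) (tt N5278 D13717) (tt N2010 F19285) (tt N5242 (iv F24017)) (tt N5279 D13718))
theorem Q3139 : ∀ i, i < 3139 → P i := stepQ 3138 Q3138 (allL N3138 (tt N1962 F19286) (tt N5280 D13719) (tt N5279 (iv F24086)) (tt N5258 (iv F24044)) (tt N2011 F19287) (tt N3122 F19288) (tt N1960 (iv D10862)))
theorem Q3140 : ∀ i, i < 3140 → P i := stepQ 3139 Q3139 (allL N3139 (tt N5278 (iv F24084)) (tt N1970 F19289) (tt N4279 (iv F21538)) (tt N1961 (iv D10863)) (tt N5281 D13720) (tt N5243 (iv F24018)) (tt N5282 D13721))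
theorem Q3141 : ∀ i, i < 3141 → P i := stepQ 3140 Q3140 (allL N3140 (tt N5279 (iv F24085)) (tt N5283 D13722) (tt N1962 F19290) (tt N5282 (iv F24092)) (tt N2013 F19291) (tt N5284 D13723) (tt N1961 (iv D10864)))
theorem Q3142 : ∀ i, i < 3142 → P i := stepQ 3141 Q3141 (allL N3141 (tt N5285 D13724) (tt N1962 (iv D10865)) (tt N5286 D13725) (tt N5260 (iv F24049)) (tt N2014 F19292) (tt N5287 D13726) (tt N1963 F19293))
theorem Q3143 : ∀ i, i < 3143 → P i := stepQ 3142 Q3142 (allL N3142 (tt N3122 F19294) (tt N5288 D13727) (tt N5284 (iv F24096)) (tt N5261 (iv F24052)) (tt N2015 F19295) (tt N1962 (iv D10866)) (tt N3120 F19296))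
theorem Q3144 : ∀ i, i < 3144 → P i := stepQ 3143 Q3143 (allL N3143 (tt N1963 (iv D10867)) (tt N5289 D13728) (tt N5290 D13729) (tt N5262 (iv F24054)) (tt N2016 F19297) (tt N5291 D13730) (tt N5285 (iv F24100)))
theorem Q3145 : ∀ i, i < 3145 → P i := stepQ 3144 Q3144 (allL N3144 (tt N5290 (iv F24106)) (tt N1975 F19298) (tt N1963 (iv D10868)) (tt N5292 D13731) (tt N2017 F19299) (tt N5293 D13732) (tt N5286 (iv F24102)))
theorem Q3146 : ∀ i, i < 3146 → P i := stepQ 3145 Q3145 (allL N3145 (tt N5291 (iv F24108)) (tt N2945 F19300) (tt N5293 (iv F24113)) (tt N5264 (iv F24056)) (tt N2018 F19301) (tt N1963 (iv D10869)) (tt N5294 D13733))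
theorem Q3147 : ∀ i, i < 3147 → P i := stepQ 3146 Q3146 (allL N3146 (tt N5295 D13734) (tt N1964 (iv D10870)) (tt N5296 D13735) (tt N5265 (iv F24058)) (tt N2019 F19302) (tt N5297 D13736) (tt N5298 D13737))
theorem Q3148 : ∀ i, i < 3148 → P i := stepQ 3147 Q3147 (allL N3147 (tt N1965 F19303) (tt N5299 D13738) (tt N1964 (iv D10871)) (tt N5300 D13739) (tt N2020 F19304) (tt N5301 D13740) (tt N5250 (iv F24030)))
theorem Q3149 : ∀ i, i < 3149 → P i := stepQ 3148 Q3148 (allL N3148 (tt N1966 F19305) (tt N5302 D13741) (tt N5301 (iv F24125)) (tt N5266 (iv F24061)) (tt N2021 F19306) (tt N1964 (iv D10872)) (tt N3126 F19307))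
theorem Q3150 : ∀ i, i < 3150 → P i := stepQ 3149 Q3149 (allL N3149 (tt N5300 (iv F24123)) (tt N1978 F19308) (tt N4330 (iv F21627)) (tt N1965 (iv D10873)) (tt N5303 D13742) (tt N5304 D13743) (tt N5251 (iv F24031)))
theorem Q3151 : ∀ i, i < 3151 → P i := stepQ 3150 Q3150 (allL N3150 (tt N5301 (iv F24124)) (tt N5305 D13744) (tt N1966 F19309) (tt N5304 (iv F24131)) (tt N2023 F19310) (tt N1965 (iv D10874)) (tt N5306 D13745))
theorem Q3152 : ∀ i, i < 3152 → P i := stepQ 3151 Q3151 (allL N3151 (tt N5307 D13746) (tt N1966 (iv D10875)) (tt N5308 D13747) (tt N5268 (iv F24066)) (tt N2024 F19311) (tt N1967 F19312) (tt N5309 D13748))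
theorem Q3153 : ∀ i, i < 3153 → P i := stepQ 3152 Q3152 (allL N3152 (tt N3126 F19313) (tt N5310 D13749) (tt N5306 (iv F24135)) (tt N5269 (iv F24070)) (tt N2025 F19314) (tt N3124 F19315) (tt N1966 (iv D10876)))
theorem Q3154 : ∀ i, i < 3154 → P i := stepQ 3153 Q3153 (allL N3153 (tt N1967 (iv D10877)) (tt N5311 D13750) (tt N5312 D13751) (tt N5270 (iv F24072)) (tt N2026 F19316) (tt N5307 (iv F24139)) (tt N5313 D13752))
theorem Q3155 : ∀ i, i < 3155 → P i := stepQ 3154 Q3154 (allL N3154 (tt N5312 (iv F24145)) (tt N1983 F19317) (tt N1967 (iv D10878)) (tt N5314 D13753) (tt N2027 F19318) (tt N5308 (iv F24141)) (tt N5315 D13754))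
theorem Q3156 : ∀ i, i < 3156 → P i := stepQ 3155 Q3155 (allL N3155 (tt N5313 (iv F24147)) (tt N2943 F19319) (tt N5315 (iv F24152)) (tt N5272 (iv F24077)) (tt N2028 F19320) (tt N5316 D13755) (tt N1967 (iv D10879)))
theorem Q3157 : ∀ i, i < 3157 → P i := stepQ 3156 Q3156 (allL N3156 (tt N3156 F19321) (tt N5317 D13756) (tt N1968 (iv D10880)) (tt N5318 D13757) (tt N2029 F19322) (tt N3156 F19323) (tt N2968 F19324))
theorem Q3158 : ∀ i, i < 3158 → P i := stepQ 3157 Q3157 (allL N3157 (tt N5319 D13758) (tt N1969 (iv D10881)) (tt N5317 (iv F24157)) (tt N5320 D13759) (tt N2030 F19325) (tt N5321 D13760) (tt N5322 D13761))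
theorem Q3159 : ∀ i, i < 3159 → P i := stepQ 3158 Q3158 (allL N3158 (tt N1970 F19326) (tt N5320 (iv F24164)) (tt N3179 (iv F19371)) (tt N1969 (iv D10882)) (tt N5323 D13762) (tt N3179 (iv F19372)) (tt N5078 (iv F23678)))
theorem Q3160 : ∀ i, i < 3160 → P i := stepQ 3159 Q3159 (allL N3159 (tt N5323 (iv F24167)) (tt N5281 (iv F24090)) (tt N5071 (iv F23660)) (tt N2033 F19327) (tt N1970 (iv D10883)) (tt N5071 (iv F23662)) (tt N5324 D13763))
theorem Q3161 : ∀ i, i < 3161 → P i := stepQ 3160 Q3160 (allL N3160 (tt N5078 (iv F23676)) (tt N5325 D13764) (tt N5072 (iv F23663)) (tt N1971 F19328) (tt N5324 (iv F24170)) (tt N5326 D13765) (tt N1970 (iv D10884)))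
theorem Q3162 : ∀ i, i < 3162 → P i := stepQ 3161 Q3161 (allL N3161 (tt N5327 D13766) (tt N1971 (iv D10885)) (tt N5328 D13767) (tt N5325 (iv F24171)) (tt N2035 F19329) (tt N5329 D13768) (tt N5283 (iv F24094)))
theorem Q3163 : ∀ i, i < 3163 → P i := stepQ 3162 Q3162 (allL N3162 (tt N3008 F19330) (tt N5330 D13769) (tt N1973 F19331) (tt N5326 (iv F24174)) (tt N2036 F19332) (tt N1971 (iv D10886)) (tt N1984 F19333))
theorem Q3164 : ∀ i, i < 3164 → P i := stepQ 3163 Q3163 (allL N3163 (tt N1972 (iv D10887)) (tt N3174 (iv F19357)) (tt N5331 D13770) (tt N1985 F19334) (tt N2037 F19335) (tt N1972 F19337) (tt N1974 F19336))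
theorem Q3165 : ∀ i, i < 3165 → P i := stepQ 3164 Q3164 (allL N3164 (tt N5331 (iv F24181)) (tt N5328 (iv F24177)) (tt N1972 (iv D10888)) (tt N5332 D13771) (tt N2038 F19338) (tt N5331 (iv F24183)) (tt N1975 F19339))
theorem Q3166 : ∀ i, i < 3166 → P i := stepQ 3165 Q3165 (allL N3165 (tt N1975 F19340) (tt N5333 D13772) (tt N1974 (iv D10889)) (tt N5334 D13773) (tt N2039 F19341) (tt N3165 F19342) (tt N5331 (iv F24184)))
theorem Q3167 : ∀ i, i < 3167 → P i := stepQ 3166 Q3166 (allL N3166 (tt N5334 (iv F24187)) (tt N5292 (iv F24111)) (tt N5335 D13774) (tt N1975 (iv D10890)) (tt N5336 D13775) (tt N3166 F19343) (tt N5332 (iv F24185)))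
theorem Q3168 : ∀ i, i < 3168 → P i := stepQ 3167 Q3167 (allL N3167 (tt N3167 F19344) (tt N5337 D13776) (tt N1976 (iv D10891)) (tt N5338 D13777) (tt N2041 F19345) (tt N2969 F19346) (tt N3167 F19347))
theorem Q3169 : ∀ i, i < 3169 → P i := stepQ 3168 Q3168 (allL N3168 (tt N5339 D13778) (tt N1977 (iv D10892)) (tt N5337 (iv F24192)) (tt N5340 D13779) (tt N2042 F19348) (tt N5341 D13780) (tt N5342 D13781))
theorem Q3170 : ∀ i, i < 3170 → P i := stepQ 3169 Q3169 (allL N3169 (tt N1978 F19349) (tt N5340 (iv F24199)) (tt N3185 (iv F19387)) (tt N1977 (iv D10893)) (tt N5343 D13782) (tt N5074 (iv F23667)) (tt N3185 (iv F19388)))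
theorem Q3171 : ∀ i, i < 3171 → P i := stepQ 3170 Q3170 (allL N3170 (tt N5343 (iv F24202)) (tt N5303 (iv F24129)) (tt N5075 (iv F23668)) (tt N2045 F19350) (tt N1978 (iv D10894)) (tt N5344 D13783) (tt N5075 (iv F23670)))
theorem Q3172 : ∀ i, i < 3172 → P i := stepQ 3171 Q3171 (allL N3171 (tt N5074 (iv F23666)) (tt N5345 D13784) (tt N5076 (iv F23671)) (tt N1979 F19351) (tt N5344 (iv F24205)) (tt N1978 (iv D10895)) (tt N5346 D13785))
theorem Q3173 : ∀ i, i < 3173 → P i := stepQ 3172 Q3172 (allL N3172 (tt N5347 D13786) (tt N1979 (iv D10896)) (tt N5348 D13787) (tt N5345 (iv F24206)) (tt N2047 F19352) (tt N5305 (iv F24133)) (tt N5349 D13788))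
theorem Q3174 : ∀ i, i < 3174 → P i := stepQ 3173 Q3173 (allL N3173 (tt N3011 F19353) (tt N5350 D13789) (tt N1981 F19354) (tt N5346 (iv F24209)) (tt N2048 F19355) (tt N1989 F19356) (tt N1979 (iv D10897)))
theorem Q3175 : ∀ i, i < 3175 → P i := stepQ 3174 Q3174 (allL N3174 (tt N1980 (iv D10898)) (tt N3163 F19357) (tt N5351 D13790) (tt N1990 F19358) (tt N2049 F19359) (tt N1982 F19360) (tt N1980 F19361))
theorem Q3176 : ∀ i, i < 3176 → P i := stepQ 3175 Q3175 (allL N3175 (tt N5351 (iv F24217)) (tt N5348 (iv F24212)) (tt N1980 (iv D10899)) (tt N5352 D13791) (tt N2050 F19362) (tt N1983 F19363) (tt N5351 (iv F24220)))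
theorem Q3177 : ∀ i, i < 3177 → P i := stepQ 3176 Q3176 (allL N3176 (tt N1983 F19364) (tt N5353 D13792) (tt N1982 (iv D10900)) (tt N5354 D13793) (tt N2051 F19365) (tt N5351 (iv F24219)) (tt N3176 F19366))
theorem Q3178 : ∀ i, i < 3178 → P i := stepQ 3177 Q3177 (allL N3177 (tt N5354 (iv F24224)) (tt N5314 (iv F24150)) (tt N5355 D13794) (tt N1983 (iv D10901)) (tt N5356 D13795) (tt N5352 (iv F24221)) (tt N3177 F19367))
theorem Q3179 : ∀ i, i < 3179 → P i := stepQ 3178 Q3178 (allL N3178 (tt N5357 D13796) (tt N1984 (iv D10902)) (tt N3178 F19368) (tt N5358 D13797) (tt N3072 F19369) (tt N4558 (iv F28993)) (tt N5359 D13799))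
theorem Q3180 : ∀ i, i < 3180 → P i := stepQ 3179 Q3179 (allL N3179 (tt N3007 F19370) (tt N5358 (iv F24231)) (tt N3158 F19371) (tt N1984 (iv D10903)) (tt N5360 D13800) (tt N3158 F19372) (tt N5326 (iv F24175)))
theorem Q3181 : ∀ i, i < 3181 → P i := stepQ 3180 Q3180 (allL N3180 (tt N1986 F19373) (tt N5361 D13801) (tt N1985 (iv D10904)) (tt N5362 D13802) (tt N1994 F19374) (tt N1986 F19375) (tt N1987 F19376))
theorem Q3182 : ∀ i, i < 3182 → P i := stepQ 3181 Q3181 (allL N3181 (tt N5362 (iv F24243)) (tt N3188 (iv F19396)) (tt N5363 D13803) (tt N1986 (iv D10905)) (tt N2635 F32940) (tt N5362 (iv F24244)) (tt N1988 F19377))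
theorem Q3183 : ∀ i, i < 3183 → P i := stepQ 3182 Q3182 (allL N3182 (tt N1988 F19378) (tt N3187 (iv F19393)) (tt N5364 D13805) (tt N1987 (iv D10906)) (tt N3516 F32980) (tt N3182 F19379) (tt N5362 (iv F24245)))
theorem Q3184 : ∀ i, i < 3184 → P i := stepQ 3183 Q3183 (allL N3183 (tt N5364 (iv F24249)) (tt N5365 D13807) (tt N1988 (iv D10907)) (tt N5366 D13808) (tt N3517 F32990) (tt N3183 F19380) (tt N5363 (iv F24246)))
theorem Q3185 : ∀ i, i < 3185 → P i := stepQ 3184 Q3184 (allL N3184 (tt N5367 D13810) (tt N1989 (iv D10909)) (tt N3184 F19384) (tt N5368 D13811) (tt N3079 F19385) (tt N5369 D13812) (tt N4660 (iv F34772)))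
theorem Q3186 : ∀ i, i < 3186 → P i := stepQ 3185 Q3185 (allL N3185 (tt N3010 F19386) (tt N5368 (iv F24263)) (tt N3169 F19387) (tt N1989 (iv D10910)) (tt N5370 D13814) (tt N5346 (iv F24210)) (tt N3169 F19388))
theorem Q3187 : ∀ i, i < 3187 → P i := stepQ 3186 Q3186 (allL N3186 (tt N1991 F19389) (tt N5371 D13815) (tt N1990 (iv D10911)) (tt N5372 D13816) (tt N1995 F19390) (tt N1992 F19391) (tt N1991 F19392))
theorem Q3188 : ∀ i, i < 3188 → P i := stepQ 3187 Q3187 (allL N3187 (tt N5372 (iv F24278)) (tt N3182 F19393) (tt N5373 D13817) (tt N1991 (iv D10912)) (tt N2637 F32960) (tt N1993 F19394) (tt N5372 (iv F24280)))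
theorem Q3189 : ∀ i, i < 3189 → P i := stepQ 3188 Q3188 (allL N3188 (tt N1993 F19395) (tt N3181 F19396) (tt N5374 D13819) (tt N1992 (iv D10913)) (tt N3518 F32905) (tt N5372 (iv F24279)) (tt N3188 F19397))
theorem Q3190 : ∀ i, i < 3190 → P i := stepQ 3189 Q3189 (allL N3189 (tt N5374 (iv F24285)) (tt N5375 D13821) (tt N1993 (iv D10914)) (tt N5376 D13822) (tt N3519 F32959) (tt N5373 (iv F24281)) (tt N3189 F19398))
theorem Q3191 : ∀ i, i < 3191 → P i := stepQ 3190 Q3190 (allL N3190 (tt N3190 F19402) (tt N1994 (iv D10916)) (tt N3191 (iv F19416)) (tt N2638 F32941) (tt N5361 (iv F24242)) (tt N3191 (iv F19417)) (tt N3191 (iv F19418)))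
theorem Q3192 : ∀ i, i < 3192 → P i := stepQ 3191 Q3191 (allL N3191 (tt N3191 F19415) (tt N1995 (iv D10923)) (tt N3190 F19416) (tt N2639 F32906) (tt N5371 (iv F24275)) (tt N3190 F19417) (tt N3190 F19418))
theorem Q3193 : ∀ i, i < 3193 → P i := stepQ 3192 Q3192 (allL N3192 (tt N1997 F19434) (tt N5377 D13838) (tt N1997 F19435) (tt N4971 (iv F23478)) (tt N5215 (iv F23964)) (tt N1996 (iv D10930)) (tt N3197 (iv F19443)))
theorem Q3194 : ∀ i, i < 3194 → P i := stepQ 3193 Q3193 (allL N3193 (tt N1998 F19436) (tt N5378 D13839) (tt N1998 F19437) (tt N4972 (iv F23481)) (tt N5216 (iv F23967)) (tt N3195 (iv F19439)) (tt N1996 (iv D10931)))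
theorem Q3195 : ∀ i, i < 3195 → P i := stepQ 3194 Q3194 (allL N3194 (tt N5379 D13840) (tt N1997 (iv D10932)) (tt N5380 D13841) (tt N3596 (iv F28820)) (tt N5219 (iv F23972)) (tt N1999 F19438) (tt N5381 D13842))
theorem Q3196 : ∀ i, i < 3196 → P i := stepQ 3195 Q3195 (allL N3195 (tt N3197 (iv F19441)) (tt N5382 D13843) (tt N3197 (iv F19442)) (tt N4973 (iv F23492)) (tt N5220 (iv F23974)) (tt N3193 F19439) (tt N1997 (iv D10933)))
theorem Q3197 : ∀ i, i < 3197 → P i := stepQ 3196 Q3196 (allL N3196 (tt N5383 D13844) (tt N1998 (iv D10934)) (tt N5384 D13845) (tt N3618 F34379) (tt N5221 (iv F23976)) (tt N5385 D13846) (tt N2000 F19440))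
theorem Q3198 : ∀ i, i < 3198 → P i := stepQ 3197 Q3197 (allL N3197 (tt N3195 F19441) (tt N5386 D13847) (tt N3195 F19442) (tt N4974 (iv F23497)) (tt N5222 (iv F23980)) (tt N1998 (iv D10935)) (tt N3192 F19443))
theorem Q3199 : ∀ i, i < 3199 → P i := stepQ 3198 Q3198 (allL N3198 (tt N1999 (iv D10936)) (tt N5387 D13848) (tt N5388 D13849) (tt N4975 (iv F23499)) (tt N5225 (iv F23984)) (tt N5379 (iv F24336)) (tt N5389 D13850))
theorem Q3200 : ∀ i, i < 3200 → P i := stepQ 3199 Q3199 (allL N3199 (tt N5388 (iv F24340)) (tt N3650 F28887) (tt N1999 (iv D10937)) (tt N3646 (iv F28889)) (tt N5226 (iv F23985)) (tt N5380 (iv F24337)) (tt N5390 D13852))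
theorem Q3201 : ∀ i, i < 3201 → P i := stepQ 3200 Q3200 (allL N3200 (tt N5389 (iv F24341)) (tt N3219 (iv F19455)) (tt N5390 (iv F24343)) (tt N4976 (iv F23500)) (tt N5227 (iv F23986)) (tt N5391 D13853) (tt N1999 (iv D10938)))
theorem Q3202 : ∀ i, i < 3202 → P i := stepQ 3201 Q3201 (allL N3201 (tt N2000 (iv D10939)) (tt N5392 D13854) (tt N5393 D13855) (tt N4977 (iv F23501)) (tt N5228 (iv F23987)) (tt N5394 D13856) (tt N5383 (iv F24338)))
theorem Q3203 : ∀ i, i < 3203 → P i := stepQ 3202 Q3202 (allL N3202 (tt N5393 (iv F24346)) (tt N3659 F34183) (tt N2000 (iv D10940)) (tt N3655 (iv F34190)) (tt N5229 (iv F23988)) (tt N5395 D13858) (tt N5384 (iv F24339)))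
theorem Q3204 : ∀ i, i < 3204 → P i := stepQ 3203 Q3203 (allL N3203 (tt N5394 (iv F24347)) (tt N3211 (iv F19449)) (tt N5395 (iv F24349)) (tt N4978 (iv F23502)) (tt N5230 (iv F23989)) (tt N2000 (iv D10941)) (tt N5396 D13859))
theorem Q3205 : ∀ i, i < 3205 → P i := stepQ 3204 Q3204 (allL N3204 (tt N5397 D13860) (tt N2001 (iv D10942)) (tt N5398 D13861) (tt N4979 (iv F23503)) (tt N5241 (iv F24014)) (tt N5399 D13862) (tt N5400 D13863))
theorem Q3206 : ∀ i, i < 3206 → P i := stepQ 3205 Q3205 (allL N3205 (tt N2002 F19444) (tt N3593 (iv F28898)) (tt N2001 (iv D10943)) (tt N3592 F28894) (tt N5242 (iv F24016)) (tt N2010 F19445) (tt N3231 (iv F19466)))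
theorem Q3207 : ∀ i, i < 3207 → P i := stepQ 3206 Q3206 (allL N3206 (tt N3592 F28892) (tt N3589 (iv F28897)) (tt N3592 F28893) (tt N2002 (iv D10944)) (tt N5401 D13866) (tt N2012 F19446) (tt N5402 D13867))
theorem Q3208 : ∀ i, i < 3208 → P i := stepQ 3207 Q3207 (allL N3207 (tt N3231 (iv F19464)) (tt N5403 D13868) (tt N2003 F19447) (tt N5402 (iv F24360)) (tt N5244 (iv F24020)) (tt N3226 (iv F19460)) (tt N2002 (iv D10945)))
theorem Q3209 : ∀ i, i < 3209 → P i := stepQ 3208 Q3208 (allL N3208 (tt N5404 D13869) (tt N2003 (iv D10946)) (tt N5405 D13870) (tt N4980 (iv F23504)) (tt N5245 (iv F24021)) (tt N5406 D13871) (tt N2004 F19448))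
theorem Q3210 : ∀ i, i < 3210 → P i := stepQ 3209 Q3209 (allL N3209 (tt N2004 (iv D10947)) (tt N5407 D13872) (tt N5408 D13873) (tt N4981 (iv F23506)) (tt N5246 (iv F24023)) (tt N5409 D13874) (tt N5404 (iv F24361)))
theorem Q3211 : ∀ i, i < 3211 → P i := stepQ 3210 Q3210 (allL N3210 (tt N5408 (iv F24363)) (tt N5107 (iv F23753)) (tt N2004 (iv D10948)) (tt N5410 D13875) (tt N5247 (iv F24024)) (tt N5411 D13876) (tt N5405 (iv F24362)))
theorem Q3212 : ∀ i, i < 3212 → P i := stepQ 3211 Q3211 (allL N3211 (tt N5409 (iv F24364)) (tt N3203 F19449) (tt N5411 (iv F24366)) (tt N4983 (iv F23508)) (tt N5248 (iv F24026)) (tt N2004 (iv D10949)) (tt N5412 D13877))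
theorem Q3213 : ∀ i, i < 3213 → P i := stepQ 3212 Q3212 (allL N3212 (tt N5413 D13878) (tt N2005 (iv D10950)) (tt N5414 D13879) (tt N4984 (iv F23509)) (tt N5249 (iv F24027)) (tt N5415 D13880) (tt N5416 D13881))
theorem Q3214 : ∀ i, i < 3214 → P i := stepQ 3213 Q3213 (allL N3213 (tt N2006 F19450) (tt N3615 (iv F34560)) (tt N2005 (iv D10951)) (tt N3614 F34557) (tt N5250 (iv F24029)) (tt N3253 (iv F19487)) (tt N2020 F19451))
theorem Q3215 : ∀ i, i < 3215 → P i := stepQ 3214 Q3214 (allL N3214 (tt N3614 (iv F34554)) (tt N3611 F34520) (tt N3614 (iv F34555)) (tt N2006 (iv D10952)) (tt N5417 D13884) (tt N5418 D13885) (tt N2022 F19452))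
theorem Q3216 : ∀ i, i < 3216 → P i := stepQ 3215 Q3215 (allL N3215 (tt N3253 (iv F19485)) (tt N5419 D13886) (tt N2007 F19453) (tt N5418 (iv F24374)) (tt N5252 (iv F24033)) (tt N2006 (iv D10953)) (tt N3248 (iv F19481)))
theorem Q3217 : ∀ i, i < 3217 → P i := stepQ 3216 Q3216 (allL N3216 (tt N5420 D13887) (tt N2007 (iv D10954)) (tt N5421 D13888) (tt N4985 (iv F23510)) (tt N5253 (iv F24034)) (tt N2008 F19454) (tt N5422 D13889))
theorem Q3218 : ∀ i, i < 3218 → P i := stepQ 3217 Q3217 (allL N3217 (tt N2008 (iv D10955)) (tt N5423 D13890) (tt N5424 D13891) (tt N4986 (iv F23512)) (tt N5254 (iv F24036)) (tt N5420 (iv F24375)) (tt N5425 D13892))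
theorem Q3219 : ∀ i, i < 3219 → P i := stepQ 3218 Q3218 (allL N3218 (tt N5424 (iv F24377)) (tt N5114 (iv F23761)) (tt N2008 (iv D10956)) (tt N5426 D13893) (tt N5255 (iv F24037)) (tt N5421 (iv F24376)) (tt N5427 D13894))
theorem Q3220 : ∀ i, i < 3220 → P i := stepQ 3219 Q3219 (allL N3219 (tt N5425 (iv F24378)) (tt N3200 F19455) (tt N5427 (iv F24380)) (tt N4988 (iv F23514)) (tt N5256 (iv F24039)) (tt N5428 D13895) (tt N2008 (iv D10957)))
theorem Q3221 : ∀ i, i < 3221 → P i := stepQ 3220 Q3220 (allL N3220 (tt N2009 (iv D10958)) (tt N4989 (iv F23515)) (tt N5429 D13896) (tt N4989 (iv F23516)) (tt N5273 (iv F24079)) (tt N5430 D13897) (tt N5431 D13898))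
theorem Q3222 : ∀ i, i < 3222 → P i := stepQ 3221 Q3221 (allL N3221 (tt N5429 (iv F24383)) (tt N5432 D13899) (tt N2009 (iv D10959)) (tt N5433 D13900) (tt N5274 (iv F24080)) (tt N5434 D13901) (tt N5435 D13902))
theorem Q3223 : ∀ i, i < 3223 → P i := stepQ 3222 Q3222 (allL N3222 (tt N5430 (iv F24384)) (tt N5399 (iv F24354)) (tt N5434 (iv F24387)) (tt N4298 (iv F27834)) (tt N5275 (iv F24081)) (tt N2009 (iv D10960)) (tt N5436 D13903))
theorem Q3224 : ∀ i, i < 3224 → P i := stepQ 3223 Q3223 (allL N3223 (tt N5431 (iv F24385)) (tt N5437 D13904) (tt N5435 (iv F24388)) (tt N4990 (iv F23519)) (tt N5276 (iv F24082)) (tt N5438 D13905) (tt N2009 (iv D10961)))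
theorem Q3225 : ∀ i, i < 3225 → P i := stepQ 3224 Q3224 (allL N3224 (tt N5432 (iv F24395)) (tt N2010 (iv D10962)) (tt N5432 (iv F24386)) (tt N5439 D13907) (tt N5277 (iv F24083)) (tt N5440 D13908) (tt N5441 D13909))
theorem Q3226 : ∀ i, i < 3226 → P i := stepQ 3225 Q3225 (allL N3225 (tt N2012 F19456) (tt N5439 (iv F24393)) (tt N2012 F19457) (tt N2010 (iv D10963)) (tt N5442 D13910) (tt N3592 F28895) (tt N5443 D13911))
theorem Q3227 : ∀ i, i < 3227 → P i := stepQ 3226 Q3226 (allL N3226 (tt N2013 F19458) (tt N5444 D13912) (tt N2011 F19459) (tt N5443 (iv F24401)) (tt N5279 (iv F24087)) (tt N3207 F19460) (tt N2010 (iv D10964)))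
theorem Q3228 : ∀ i, i < 3228 → P i := stepQ 3227 Q3227 (allL N3227 (tt N5445 D13913) (tt N2011 (iv D10965)) (tt N5446 D13914) (tt N4991 (iv F23520)) (tt N5280 (iv F24089)) (tt N5447 D13915) (tt N5437 (iv F24390)))
theorem Q3229 : ∀ i, i < 3229 → P i := stepQ 3228 Q3228 (allL N3228 (tt N5442 (iv F24397)) (tt N2033 F19461) (tt N5442 (iv F24398)) (tt N5281 (iv F24091)) (tt N2012 (iv D10966)) (tt N5401 (iv F24359)) (tt N5448 D13916))
theorem Q3230 : ∀ i, i < 3230 → P i := stepQ 3229 Q3229 (allL N3229 (tt N5443 (iv F24399)) (tt N5449 D13917) (tt N5443 (iv F24400)) (tt N2013 F19462) (tt N5448 (iv F24404)) (tt N5450 D13918) (tt N2012 (iv D10967)))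
theorem Q3231 : ∀ i, i < 3231 → P i := stepQ 3230 Q3230 (allL N3230 (tt N5451 D13919) (tt N2013 (iv D10968)) (tt N5452 D13920) (tt N5449 (iv F24405)) (tt N5283 (iv F24093)) (tt N5453 D13921) (tt N2035 F19463))
theorem Q3232 : ∀ i, i < 3232 → P i := stepQ 3231 Q3231 (allL N3231 (tt N3207 F19464) (tt N5454 D13922) (tt N2015 F19465) (tt N5450 (iv F24409)) (tt N5284 (iv F24097)) (tt N2013 (iv D10969)) (tt N3205 F19466))
theorem Q3233 : ∀ i, i < 3233 → P i := stepQ 3232 Q3232 (allL N3232 (tt N2014 (iv D10970)) (tt N5455 D13923) (tt N5456 D13924) (tt N3260 (iv F19495)) (tt N5285 (iv F24099)) (tt N3241 (iv F19476)) (tt N2016 F19467))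
theorem Q3234 : ∀ i, i < 3234 → P i := stepQ 3233 Q3233 (allL N3233 (tt N5456 (iv F24414)) (tt N5452 (iv F24412)) (tt N2014 (iv D10971)) (tt N5457 D13925) (tt N5286 (iv F24101)) (tt N5458 D13926) (tt N2017 F19468))
theorem Q3235 : ∀ i, i < 3235 → P i := stepQ 3234 Q3234 (allL N3234 (tt N3241 (iv F19475)) (tt N5459 D13927) (tt N5458 (iv F24417)) (tt N3263 (iv F19501)) (tt N5287 (iv F24103)) (tt N2014 (iv D10972)) (tt N3238 (iv F19471)))
theorem Q3236 : ∀ i, i < 3236 → P i := stepQ 3235 Q3235 (allL N3235 (tt N5460 D13928) (tt N2015 (iv D10973)) (tt N5461 D13929) (tt N4992 (iv F23521)) (tt N5288 (iv F24104)) (tt N5459 (iv F24418)) (tt N5462 D13930))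
theorem Q3237 : ∀ i, i < 3237 → P i := stepQ 3236 Q3236 (allL N3236 (tt N5463 D13931) (tt N2016 (iv D10974)) (tt N5464 D13932) (tt N3258 (iv F19492)) (tt N5289 (iv F24105)) (tt N5465 D13933) (tt N5466 D13934))
theorem Q3238 : ∀ i, i < 3238 → P i := stepQ 3237 Q3237 (allL N3237 (tt N2017 F19469) (tt N5467 D13935) (tt N2016 (iv D10975)) (tt N5468 D13936) (tt N5290 (iv F24107)) (tt N5469 D13937) (tt N5456 (iv F24415)))
theorem Q3239 : ∀ i, i < 3239 → P i := stepQ 3238 Q3238 (allL N3238 (tt N2018 F19470) (tt N5470 D13938) (tt N5469 (iv F24422)) (tt N3254 (iv F19488)) (tt N5291 (iv F24109)) (tt N2016 (iv D10976)) (tt N3234 F19471))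
theorem Q3240 : ∀ i, i < 3240 → P i := stepQ 3239 Q3239 (allL N3239 (tt N5468 (iv F24420)) (tt N2040 F19472) (tt N3263 (iv F35456)) (tt N2017 (iv D10977)) (tt N5471 D13940) (tt N3262 F35450) (tt N5457 (iv F24416)))
theorem Q3241 : ∀ i, i < 3241 → P i := stepQ 3240 Q3240 (allL N3240 (tt N5469 (iv F24421)) (tt N3240 F19473) (tt N2018 F19474) (tt N3262 F35449) (tt N5293 (iv F24114)) (tt N2017 (iv D10978)) (tt N3261 (iv F35451)))
theorem Q3242 : ∀ i, i < 3242 → P i := stepQ 3241 Q3241 (allL N3241 (tt N3234 F19475) (tt N5472 D13943) (tt N3261 F35467) (tt N3256 (iv F19491)) (tt N5294 (iv F24116)) (tt N3232 F19476) (tt N2018 (iv D10979)))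
theorem Q3243 : ∀ i, i < 3243 → P i := stepQ 3242 Q3242 (allL N3242 (tt N2019 (iv D10980)) (tt N4993 (iv F23522)) (tt N5473 D13944) (tt N4993 (iv F23523)) (tt N5295 (iv F24118)) (tt N5474 D13945) (tt N5475 D13946))
theorem Q3244 : ∀ i, i < 3244 → P i := stepQ 3243 Q3243 (allL N3243 (tt N5473 (iv F24431)) (tt N5476 D13947) (tt N2019 (iv D10981)) (tt N5477 D13948) (tt N5296 (iv F24119)) (tt N5478 D13949) (tt N5479 D13950))
theorem Q3245 : ∀ i, i < 3245 → P i := stepQ 3244 Q3244 (allL N3244 (tt N5474 (iv F24432)) (tt N5480 D13951) (tt N5478 (iv F24435)) (tt N4994 (iv F23525)) (tt N5297 (iv F24120)) (tt N2019 (iv D10982)) (tt N5481 D13952))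
theorem Q3246 : ∀ i, i < 3246 → P i := stepQ 3245 Q3245 (allL N3245 (tt N5475 (iv F24433)) (tt N5416 (iv F24369)) (tt N5479 (iv F24436)) (tt N4349 F34641) (tt N5298 (iv F24121)) (tt N5482 D13953) (tt N2019 (iv D10983)))
theorem Q3247 : ∀ i, i < 3247 → P i := stepQ 3246 Q3246 (allL N3246 (tt N5476 (iv F24443)) (tt N2020 (iv D10984)) (tt N5476 (iv F24434)) (tt N5483 D13955) (tt N5299 (iv F24122)) (tt N5484 D13956) (tt N5485 D13957))
theorem Q3248 : ∀ i, i < 3248 → P i := stepQ 3247 Q3247 (allL N3247 (tt N2022 F19477) (tt N5483 (iv F24441)) (tt N2022 F19478) (tt N2020 (iv D10985)) (tt N5486 D13958) (tt N5487 D13959) (tt N3614 F34559))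
theorem Q3249 : ∀ i, i < 3249 → P i := stepQ 3248 Q3248 (allL N3248 (tt N2023 F19479) (tt N5488 D13960) (tt N2021 F19480) (tt N5487 (iv F24449)) (tt N5301 (iv F24126)) (tt N2020 (iv D10986)) (tt N3215 F19481))
theorem Q3250 : ∀ i, i < 3250 → P i := stepQ 3249 Q3249 (allL N3249 (tt N5489 D13961) (tt N2021 (iv D10987)) (tt N5490 D13962) (tt N4995 (iv F23527)) (tt N5302 (iv F24128)) (tt N5480 (iv F24437)) (tt N5491 D13963))
theorem Q3251 : ∀ i, i < 3251 → P i := stepQ 3250 Q3250 (allL N3250 (tt N5486 (iv F24445)) (tt N2045 F19482) (tt N5486 (iv F24446)) (tt N5303 (iv F24130)) (tt N2022 (iv D10988)) (tt N5492 D13964) (tt N5417 (iv F24373)))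
theorem Q3252 : ∀ i, i < 3252 → P i := stepQ 3251 Q3251 (allL N3251 (tt N5487 (iv F24447)) (tt N5493 D13965) (tt N5487 (iv F24448)) (tt N2023 F19483) (tt N5492 (iv F24452)) (tt N2022 (iv D10989)) (tt N5494 D13966))
theorem Q3253 : ∀ i, i < 3253 → P i := stepQ 3252 Q3252 (allL N3252 (tt N5495 D13967) (tt N2023 (iv D10990)) (tt N5496 D13968) (tt N5493 (iv F24453)) (tt N5305 (iv F24132)) (tt N2047 F19484) (tt N5497 D13969))
theorem Q3254 : ∀ i, i < 3254 → P i := stepQ 3253 Q3253 (allL N3253 (tt N3215 F19485) (tt N5498 D13970) (tt N2025 F19486) (tt N5494 (iv F24457)) (tt N5306 (iv F24136)) (tt N3213 F19487) (tt N2023 (iv D10991)))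
theorem Q3255 : ∀ i, i < 3255 → P i := stepQ 3254 Q3254 (allL N3254 (tt N2024 (iv D10992)) (tt N5499 D13971) (tt N5457 (iv F35462)) (tt N3238 F19488) (tt N5307 (iv F24138)) (tt N2026 F19489) (tt N3263 (iv F19502)))
theorem Q3256 : ∀ i, i < 3256 → P i := stepQ 3255 Q3255 (allL N3255 (tt N5457 (iv F35461)) (tt N5496 (iv F24460)) (tt N2024 (iv D10993)) (tt N5456 (iv F35472)) (tt N5308 (iv F24140)) (tt N2027 F19490) (tt N5468 (iv F35455)))
theorem Q3257 : ∀ i, i < 3257 → P i := stepQ 3256 Q3256 (allL N3256 (tt N3263 (iv F19500)) (tt N5500 D13975) (tt N5468 (iv F35452)) (tt N3241 F19491) (tt N5309 (iv F24142)) (tt N3260 (iv F19496)) (tt N2024 (iv D10994)))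
theorem Q3258 : ∀ i, i < 3258 → P i := stepQ 3257 Q3257 (allL N3257 (tt N5501 D13976) (tt N2025 (iv D10995)) (tt N5502 D13977) (tt N4996 (iv F23528)) (tt N5310 (iv F24143)) (tt N5503 D13978) (tt N5500 (iv F24468)))
theorem Q3259 : ∀ i, i < 3259 → P i := stepQ 3258 Q3258 (allL N3258 (tt N5504 D13979) (tt N2026 (iv D10996)) (tt N5505 D13980) (tt N3236 F19492) (tt N5311 (iv F24144)) (tt N5506 D13981) (tt N5507 D13982))
theorem Q3260 : ∀ i, i < 3260 → P i := stepQ 3259 Q3259 (allL N3259 (tt N2027 F19493) (tt N5508 D13983) (tt N2026 (iv D10997)) (tt N5458 (iv F35466)) (tt N5312 (iv F24146)) (tt N5457 (iv F35464)) (tt N5509 D13985))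
theorem Q3261 : ∀ i, i < 3261 → P i := stepQ 3260 Q3260 (allL N3260 (tt N2028 F19494) (tt N5510 D13986) (tt N5509 (iv F24476)) (tt N3232 F19495) (tt N5313 (iv F24148)) (tt N3256 F19496) (tt N2026 (iv D10998)))
theorem Q3262 : ∀ i, i < 3262 → P i := stepQ 3261 Q3261 (allL N3261 (tt N5458 (iv F35465)) (tt N2052 F19497) (tt N3241 (iv F35467)) (tt N2027 (iv D10999)) (tt N5511 D13988) (tt N5456 (iv F35473)) (tt N3240 F35451))
theorem Q3263 : ∀ i, i < 3263 → P i := stepQ 3262 Q3262 (allL N3262 (tt N5509 (iv F24475)) (tt N3262 F19498) (tt N2028 F19499) (tt N3240 (iv F35449)) (tt N5315 (iv F24153)) (tt N3239 (iv F35450)) (tt N2027 (iv D11000)))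
theorem Q3264 : ∀ i, i < 3264 → P i := stepQ 3263 Q3263 (allL N3263 (tt N3256 F19500) (tt N5512 D13991) (tt N3239 F35456) (tt N3234 F19501) (tt N5316 (iv F24155)) (tt N2028 (iv D11001)) (tt N3254 F19502))
theorem Q3265 : ∀ i, i < 3265 → P i := stepQ 3264 Q3264 (allL N3264 (tt N5513 D13992) (tt N2029 (iv D11002)) (tt N2030 F19503) (tt N5514 D13993) (tt N5317 (iv F24158)) (tt N5515 D13994) (tt N5516 D13995))
theorem Q3266 : ∀ i, i < 3266 → P i := stepQ 3265 Q3265 (allL N3265 (tt N3265 F19504) (tt N5514 (iv F24488)) (tt N3265 F19507) (tt N2029 (iv D11003)) (tt N5517 D13996) (tt N3265 F19505) (tt N2983 F19506))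
theorem Q3267 : ∀ i, i < 3267 → P i := stepQ 3266 Q3266 (allL N3266 (tt N2030 (iv D11004)) (tt N5429 F24396) (tt N5513 (iv F24487)) (tt N5518 D13997) (tt N5319 (iv F24163)) (tt N5519 D13998) (tt N5520 D13999))
theorem Q3268 : ∀ i, i < 3268 → P i := stepQ 3267 Q3267 (allL N3267 (tt N5518 (iv F24497)) (tt N2031 F19508) (tt N2722 (iv F29000)) (tt N2030 (iv D11005)) (tt N5521 D14001) (tt N2713 F28997) (tt N5522 D14003))
theorem Q3269 : ∀ i, i < 3269 → P i := stepQ 3268 Q3268 (allL N3268 (tt N5519 (iv F24498)) (tt N2714 F28991) (tt N5515 (iv F24490)) (tt N2713 (iv F28996)) (tt N5321 (iv F24165)) (tt N2030 (iv D11006)) (tt N5523 D14004))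
theorem Q3270 : ∀ i, i < 3270 → P i := stepQ 3269 Q3269 (allL N3269 (tt N5520 (iv F24499)) (tt N5174 (iv F23839)) (tt N5516 (iv F24492)) (tt N5522 (iv F24502)) (tt N5322 (iv F24166)) (tt N5524 D14005) (tt N2030 (iv D11007)))
theorem Q3271 : ∀ i, i < 3271 → P i := stepQ 3270 Q3270 (allL N3270 (tt N2033 F19509) (tt N5521 (iv F24500)) (tt N3317 (iv F19564)) (tt N5323 (iv F24168)) (tt N2031 (iv D11008)) (tt N5178 (iv F23849)) (tt N5197 (iv F23881)))
theorem Q3272 : ∀ i, i < 3272 → P i := stepQ 3271 Q3271 (allL N3271 (tt N3436 (iv F29139)) (tt N2032 (iv D11009)) (tt N5439 F24394) (tt N3310 (iv F19554)) (tt N5525 D14007) (tt N5526 D14008) (tt N5527 D14009))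
theorem Q3273 : ∀ i, i < 3273 → P i := stepQ 3272 Q3272 (allL N3272 (tt N3317 (iv F19563)) (tt N5525 (iv F24506)) (tt N2033 F19510) (tt N5528 D14010) (tt N2032 (iv D11010)) (tt N5180 (iv F23851)) (tt N5529 D14011))
theorem Q3274 : ∀ i, i < 3274 → P i := stepQ 3273 Q3273 (allL N3273 (tt N3318 (iv F19565)) (tt N5530 D14012) (tt N2034 F19511) (tt N3104 F19512) (tt N5529 (iv F24508)) (tt N5202 (iv F23908)) (tt N2032 (iv D11011)))
theorem Q3275 : ∀ i, i < 3275 → P i := stepQ 3274 Q3274 (allL N3274 (tt N5197 (iv F23879)) (tt N5531 D14013) (tt N5529 (iv F24507)) (tt N5324 (iv F24169)) (tt N2034 F19513) (tt N5532 D14014) (tt N2033 (iv D11012)))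
theorem Q3276 : ∀ i, i < 3276 → P i := stepQ 3275 Q3275 (allL N3275 (tt N5533 D14015) (tt N2034 (iv D11013)) (tt N5534 D14016) (tt N2035 F19514) (tt N5531 (iv F24510)) (tt N5535 D14017) (tt N5449 (iv F24406)))
theorem Q3277 : ∀ i, i < 3277 → P i := stepQ 3276 Q3276 (allL N3276 (tt N3076 F19515) (tt N5536 D14018) (tt N5202 (iv F23906)) (tt N2036 F19516) (tt N5532 (iv F24512)) (tt N2034 (iv D11014)) (tt N3073 F19517))
theorem Q3278 : ∀ i, i < 3278 → P i := stepQ 3277 Q3277 (allL N3277 (tt N2035 (iv D11015)) (tt N5537 D14019) (tt N5538 D14020) (tt N5533 (iv F24514)) (tt N5327 (iv F24176)) (tt N5539 D14021) (tt N5451 (iv F24411)))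
theorem Q3279 : ∀ i, i < 3279 → P i := stepQ 3278 Q3278 (allL N3278 (tt N5538 (iv F24517)) (tt N2038 F19518) (tt N2035 (iv D11016)) (tt N5540 D14022) (tt N5328 (iv F24178)) (tt N5541 D14023) (tt N5452 (iv F24413)))
theorem Q3280 : ∀ i, i < 3280 → P i := stepQ 3279 Q3279 (allL N3279 (tt N5539 (iv F24518)) (tt N5542 D14024) (tt N5541 (iv F24521)) (tt N5535 (iv F24515)) (tt N5329 (iv F24179)) (tt N2035 (iv D11017)) (tt N5543 D14025))
theorem Q3281 : ∀ i, i < 3281 → P i := stepQ 3280 Q3280 (allL N3280 (tt N5544 D14026) (tt N2036 (iv D11018)) (tt N3306 (iv F19548)) (tt N5536 (iv F24516)) (tt N5330 (iv F24180)) (tt N5542 (iv F24522)) (tt N5545 D14027))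
theorem Q3282 : ∀ i, i < 3282 → P i := stepQ 3281 Q3281 (allL N3281 (tt N2038 F19519) (tt N5546 D14028) (tt N2037 (iv D11019)) (tt N5547 D14029) (tt N5331 (iv F24182)) (tt N2038 F19520) (tt N2039 F19521))
theorem Q3283 : ∀ i, i < 3283 → P i := stepQ 3282 Q3282 (allL N3282 (tt N5547 (iv F24526)) (tt N5540 (iv F24520)) (tt N5548 D14030) (tt N2038 (iv D11020)) (tt N5549 D14031) (tt N5547 (iv F24527)) (tt N2040 F19522))
theorem Q3284 : ∀ i, i < 3284 → P i := stepQ 3283 Q3283 (allL N3283 (tt N5550 D14032) (tt N2039 (iv D11021)) (tt N3303 (iv F19543)) (tt N5551 D14033) (tt N5333 (iv F24186)) (tt N5552 D14034) (tt N5553 D14035))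
theorem Q3285 : ∀ i, i < 3285 → P i := stepQ 3284 Q3284 (allL N3284 (tt N2040 F19523) (tt N5551 (iv F24531)) (tt N3330 (iv F19610)) (tt N2039 (iv D11022)) (tt N5554 D14036) (tt N3284 F19524) (tt N5547 (iv F24528)))
theorem Q3286 : ∀ i, i < 3286 → P i := stepQ 3285 Q3285 (allL N3285 (tt N3330 (iv F19609)) (tt N5555 D14037) (tt N2040 (iv D11023)) (tt N3328 (iv F19604)) (tt N5556 D14038) (tt N3285 F19525) (tt N5548 (iv F24529)))
theorem Q3287 : ∀ i, i < 3287 → P i := stepQ 3286 Q3286 (allL N3286 (tt N5554 (iv F24533)) (tt N5471 (iv F24424)) (tt N5556 (iv F24535)) (tt N5336 (iv F24190)) (tt N2040 (iv D11024)) (tt N3286 F19526) (tt N5549 (iv F24530)))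
theorem Q3288 : ∀ i, i < 3288 → P i := stepQ 3287 Q3287 (allL N3287 (tt N5557 D14039) (tt N2041 (iv D11025)) (tt N2042 F19527) (tt N5558 D14040) (tt N5337 (iv F24193)) (tt N5559 D14041) (tt N5560 D14042))
theorem Q3289 : ∀ i, i < 3289 → P i := stepQ 3288 Q3288 (allL N3288 (tt N3288 F19528) (tt N5558 (iv F24538)) (tt N3288 F19531) (tt N2041 (iv D11026)) (tt N5561 D14043) (tt N2984 F19529) (tt N3288 F19530))
theorem Q3290 : ∀ i, i < 3290 → P i := stepQ 3289 Q3289 (allL N3289 (tt N2042 (iv D11027)) (tt N5473 F24444) (tt N5557 (iv F24537)) (tt N5562 D14044) (tt N5339 (iv F24198)) (tt N5563 D14045) (tt N5564 D14046))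
theorem Q3291 : ∀ i, i < 3291 → P i := stepQ 3290 Q3290 (allL N3290 (tt N5562 (iv F24547)) (tt N2043 F19532) (tt N2774 F34742) (tt N2042 (iv D11028)) (tt N5565 D14048) (tt N5566 D14049) (tt N2764 (iv F34758)))
theorem Q3292 : ∀ i, i < 3292 → P i := stepQ 3291 Q3291 (allL N3291 (tt N5563 (iv F24548)) (tt N5155 (iv F23819)) (tt N5559 (iv F24540)) (tt N5566 (iv F24551)) (tt N5341 (iv F24200)) (tt N2042 (iv D11029)) (tt N5567 D14051))
theorem Q3293 : ∀ i, i < 3293 → P i := stepQ 3292 Q3292 (allL N3292 (tt N5564 (iv F24549)) (tt N2765 F34766) (tt N5560 (iv F24542)) (tt N2764 F34767) (tt N5342 (iv F24201)) (tt N5568 D14052) (tt N2042 (iv D11030)))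
theorem Q3294 : ∀ i, i < 3294 → P i := stepQ 3293 Q3293 (allL N3293 (tt N2045 F19533) (tt N5565 (iv F24550)) (tt N3339 (iv F19625)) (tt N5343 (iv F24203)) (tt N2043 (iv D11031)) (tt N5186 (iv F23860)) (tt N5189 (iv F23867)))
theorem Q3295 : ∀ i, i < 3295 → P i := stepQ 3294 Q3294 (allL N3294 (tt N3437 (iv F34864)) (tt N2044 (iv D11032)) (tt N5483 F24442) (tt N3332 (iv F19615)) (tt N5569 D14054) (tt N5570 D14055) (tt N5571 D14056))
theorem Q3296 : ∀ i, i < 3296 → P i := stepQ 3295 Q3295 (allL N3295 (tt N3339 (iv F19624)) (tt N5569 (iv F24556)) (tt N2045 F19534) (tt N5572 D14057) (tt N2044 (iv D11033)) (tt N5573 D14058) (tt N5191 (iv F23869)))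
theorem Q3297 : ∀ i, i < 3297 → P i := stepQ 3296 Q3296 (allL N3296 (tt N3340 (iv F19626)) (tt N5574 D14059) (tt N2046 F19535) (tt N3094 F19536) (tt N5573 (iv F24558)) (tt N2044 (iv D11034)) (tt N5210 (iv F23942)))
theorem Q3298 : ∀ i, i < 3298 → P i := stepQ 3297 Q3297 (allL N3297 (tt N5186 (iv F23859)) (tt N5575 D14060) (tt N5573 (iv F24557)) (tt N5344 (iv F24204)) (tt N2046 F19537) (tt N2045 (iv D11035)) (tt N5576 D14061))
theorem Q3299 : ∀ i, i < 3299 → P i := stepQ 3298 Q3298 (allL N3298 (tt N5577 D14062) (tt N2046 (iv D11036)) (tt N5578 D14063) (tt N2047 F19538) (tt N5575 (iv F24560)) (tt N5493 (iv F24454)) (tt N5579 D14064))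
theorem Q3300 : ∀ i, i < 3300 → P i := stepQ 3299 Q3299 (allL N3299 (tt N3083 F19539) (tt N5580 D14065) (tt N5210 (iv F23940)) (tt N2048 F19540) (tt N5576 (iv F24562)) (tt N3080 F19541) (tt N2046 (iv D11037)))
theorem Q3301 : ∀ i, i < 3301 → P i := stepQ 3300 Q3300 (allL N3300 (tt N2047 (iv D11038)) (tt N5581 D14066) (tt N5582 D14067) (tt N5577 (iv F24564)) (tt N5347 (iv F24211)) (tt N5495 (iv F24459)) (tt N5583 D14068))
theorem Q3302 : ∀ i, i < 3302 → P i := stepQ 3301 Q3301 (allL N3301 (tt N5582 (iv F24567)) (tt N2050 F19542) (tt N2047 (iv D11039)) (tt N5584 D14069) (tt N5348 (iv F24213)) (tt N5496 (iv F24461)) (tt N5585 D14070))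
theorem Q3303 : ∀ i, i < 3303 → P i := stepQ 3302 Q3302 (allL N3302 (tt N5583 (iv F24568)) (tt N5586 D14071) (tt N5585 (iv F24571)) (tt N5579 (iv F24565)) (tt N5349 (iv F24214)) (tt N5587 D14072) (tt N2047 (iv D11040)))
theorem Q3304 : ∀ i, i < 3304 → P i := stepQ 3303 Q3303 (allL N3303 (tt N5588 D14073) (tt N2048 (iv D11041)) (tt N3283 F19543) (tt N5580 (iv F24566)) (tt N5350 (iv F24216)) (tt N5589 D14074) (tt N5586 (iv F24572)))
theorem Q3305 : ∀ i, i < 3305 → P i := stepQ 3304 Q3304 (allL N3304 (tt N2050 F19544) (tt N5590 D14075) (tt N2049 (iv D11042)) (tt N5591 D14076) (tt N5351 (iv F24218)) (tt N2051 F19545) (tt N2050 F19546))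
theorem Q3306 : ∀ i, i < 3306 → P i := stepQ 3305 Q3305 (allL N3305 (tt N5591 (iv F24580)) (tt N5584 (iv F24570)) (tt N5592 D14077) (tt N2050 (iv D11043)) (tt N5593 D14078) (tt N2052 F19547) (tt N5591 (iv F24582)))
theorem Q3307 : ∀ i, i < 3307 → P i := stepQ 3306 Q3306 (allL N3306 (tt N5594 D14079) (tt N2051 (iv D11044)) (tt N3280 F19548) (tt N5595 D14080) (tt N5353 (iv F24223)) (tt N5596 D14081) (tt N5597 D14082))
theorem Q3308 : ∀ i, i < 3308 → P i := stepQ 3307 Q3307 (allL N3307 (tt N2052 F19549) (tt N5595 (iv F24586)) (tt N3352 (iv F19675)) (tt N2051 (iv D11045)) (tt N5598 D14083) (tt N5591 (iv F24581)) (tt N3307 F19550))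
theorem Q3309 : ∀ i, i < 3309 → P i := stepQ 3308 Q3308 (allL N3308 (tt N3352 (iv F19674)) (tt N5599 D14084) (tt N2052 (iv D11046)) (tt N3350 (iv F19669)) (tt N5600 D14085) (tt N5592 (iv F24583)) (tt N3308 F19551))
theorem Q3310 : ∀ i, i < 3310 → P i := stepQ 3309 Q3309 (allL N3309 (tt N5598 (iv F24590)) (tt N5511 (iv F24479)) (tt N5600 (iv F24592)) (tt N5356 (iv F24227)) (tt N2052 (iv D11047)) (tt N5593 (iv F24584)) (tt N3309 F19552))
theorem Q3311 : ∀ i, i < 3311 → P i := stepQ 3310 Q3310 (allL N3310 (tt N5601 D14086) (tt N2053 (iv D11048)) (tt N3310 F19553) (tt N3271 F19554) (tt N5602 D14087) (tt N5602 (iv F29158)) (tt N5603 D14089))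
theorem Q3312 : ∀ i, i < 3312 → P i := stepQ 3311 Q3311 (allL N3311 (tt N2057 F19555) (tt N5602 (iv F24596)) (tt N2054 F19556) (tt N5604 D14090) (tt N2053 (iv D11049)) (tt N5199 (iv F28976)) (tt N5213 (iv F23951)))
theorem Q3313 : ∀ i, i < 3313 → P i := stepQ 3312 Q3312 (allL N3312 (tt N2055 (iv D11050)) (tt N5605 D14091) (tt N2085 F19557) (tt N5606 D14092) (tt N5607 D14093) (tt N5608 D14094) (tt N5609 D14095))
theorem Q3314 : ∀ i, i < 3314 → P i := stepQ 3313 Q3313 (allL N3313 (tt N5606 (iv F24605)) (tt N2056 F19558) (tt N4492 (iv F29003)) (tt N2055 (iv D11051)) (tt N5610 D14097) (tt N4486 (iv F28980)) (tt N5611 D14099))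
theorem Q3315 : ∀ i, i < 3315 → P i := stepQ 3314 Q3314 (allL N3314 (tt N5607 (iv F24606)) (tt N2057 F19559) (tt N2086 F19560) (tt N3590 F28982) (tt N2055 (iv D11052)) (tt N3568 F28983) (tt N5612 D14102))
theorem Q3316 : ∀ i, i < 3316 → P i := stepQ 3315 Q3315 (allL N3315 (tt N5608 (iv F24608)) (tt N3560 F28972) (tt N2087 F19561) (tt N4486 (iv F28979)) (tt N3568 (iv F28981)) (tt N2055 (iv D11053)) (tt N5613 D14103))
theorem Q3317 : ∀ i, i < 3317 → P i := stepQ 3316 Q3316 (allL N3316 (tt N5609 (iv F24610)) (tt N5614 D14104) (tt N2088 F19562) (tt N5611 (iv F24615)) (tt N5612 (iv F24620)) (tt N5615 D14105) (tt N2055 (iv D11054)))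
theorem Q3318 : ∀ i, i < 3318 → P i := stepQ 3317 Q3317 (allL N3317 (tt N3272 F19563) (tt N5610 (iv F24613)) (tt N3270 F19564) (tt N5616 D14106) (tt N2056 (iv D11055)) (tt N5201 (iv F23904)) (tt N5617 D14107))
theorem Q3319 : ∀ i, i < 3319 → P i := stepQ 3318 Q3318 (allL N3318 (tt N3273 F19565) (tt N5618 D14108) (tt N3085 F19566) (tt N2058 F19567) (tt N5617 (iv F24631)) (tt N5181 (iv F23854)) (tt N2056 (iv D11056)))
theorem Q3320 : ∀ i, i < 3320 → P i := stepQ 3319 Q3319 (allL N3319 (tt N5604 (iv F24602)) (tt N3590 (iv F28978)) (tt N5179 F28969) (tt N2057 (iv D11057)) (tt N5616 (iv F24628)) (tt N3536 F28970) (tt N5619 D14110))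
theorem Q3321 : ∀ i, i < 3321 → P i := stepQ 3320 Q3320 (allL N3320 (tt N5213 (iv F23948)) (tt N5620 D14111) (tt N2059 F19568) (tt N5619 (iv F24636)) (tt N2058 F19569) (tt N5621 D14112) (tt N2057 (iv D11058)))
theorem Q3322 : ∀ i, i < 3322 → P i := stepQ 3321 Q3321 (allL N3321 (tt N5622 D14113) (tt N2058 (iv D11059)) (tt N5623 D14114) (tt N5618 (iv F24632)) (tt N5620 (iv F24637)) (tt N5624 D14115) (tt N5614 (iv F24623)))
theorem Q3323 : ∀ i, i < 3323 → P i := stepQ 3322 Q3322 (allL N3322 (tt N3093 F19570) (tt N5625 D14116) (tt N2061 F19571) (tt N5181 (iv F23853)) (tt N5621 (iv F24640)) (tt N2058 (iv D11060)) (tt N3088 F19572))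
theorem Q3324 : ∀ i, i < 3324 → P i := stepQ 3323 Q3323 (allL N3323 (tt N2443 (iv F32622)) (tt N2059 (iv D11061)) (tt N5626 D14118) (tt N2063 (iv F32653)) (tt N2060 F19574) (tt N2060 F32578) (tt N2092 F19575))
theorem Q3325 : ∀ i, i < 3325 → P i := stepQ 3324 Q3324 (allL N3324 (tt N2901 F32542) (tt N2061 (iv F32593)) (tt N5621 (iv F24639)) (tt N2064 (iv F32583)) (tt N2061 F19578) (tt N2059 (iv D11062)) (tt N3089 F19579))
theorem Q3326 : ∀ i, i < 3326 → P i := stepQ 3325 Q3325 (allL N3325 (tt N2060 (iv D11063)) (tt N2441 F32579) (tt N5627 D14121) (tt N2062 F19580) (tt N2443 (iv F32623)) (tt N2443 F19582) (tt N2093 F19581))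
theorem Q3327 : ∀ i, i < 3327 → P i := stepQ 3326 Q3326 (allL N3326 (tt N5627 (iv F24655)) (tt N5623 (iv F24642)) (tt N2060 (iv D11064)) (tt N5628 D14122) (tt N5626 (iv F24647)) (tt N5626 (iv F32663)) (tt N2094 F19583))
theorem Q3328 : ∀ i, i < 3328 → P i := stepQ 3327 Q3327 (allL N3327 (tt N4838 F32873) (tt N5629 D14128) (tt N2065 (iv D11069)) (tt N5630 D14129) (tt N4834 F32874) (tt N4838 F32875) (tt N2067 F19595))
theorem Q3329 : ∀ i, i < 3329 → P i := stepQ 3328 Q3328 (allL N3328 (tt N2067 F19602) (tt N5631 D14134) (tt N2066 (iv D11073)) (tt N3285 F19604) (tt N2238 F32899) (tt N3328 F19603) (tt N4838 F32900))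
theorem Q3330 : ∀ i, i < 3330 → P i := stepQ 3329 Q3329 (allL N3329 (tt N5632 D14136) (tt N2067 (iv D11075)) (tt N2096 F19608) (tt N5633 D14137) (tt N5634 D14138) (tt N5635 D14139) (tt N5636 D14140))
theorem Q3331 : ∀ i, i < 3331 → P i := stepQ 3330 Q3330 (allL N3330 (tt N3285 F19609) (tt N5633 (iv F24691)) (tt N3284 F19610) (tt N2067 (iv D11076)) (tt N5637 D14141) (tt N3330 F19611) (tt N5630 (iv F24677)))
theorem Q3332 : ∀ i, i < 3332 → P i := stepQ 3331 Q3331 (allL N3331 (tt N2238 F32896) (tt N5634 (iv F24692)) (tt N2068 F19612) (tt N3636 (iv F32938)) (tt N2067 (iv D11077)) (tt N3331 F19613) (tt N4834 F32897))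
theorem Q3333 : ∀ i, i < 3333 → P i := stepQ 3332 Q3332 (allL N3332 (tt N5638 D14143) (tt N2069 (iv D11078)) (tt N3332 F19614) (tt N3294 F19615) (tt N5639 D14144) (tt N5640 D14145) (tt N5639 (iv F32102)))
theorem Q3334 : ∀ i, i < 3334 → P i := stepQ 3333 Q3333 (allL N3333 (tt N2073 F19616) (tt N5639 (iv F24703)) (tt N2070 F19617) (tt N5641 D14147) (tt N2069 (iv D11079)) (tt N5205 (iv F23915)) (tt N5207 (iv F32100)))
theorem Q3335 : ∀ i, i < 3335 → P i := stepQ 3334 Q3334 (allL N3334 (tt N2071 (iv D11080)) (tt N5642 D14148) (tt N2098 F19618) (tt N5643 D14149) (tt N5644 D14150) (tt N5645 D14151) (tt N5646 D14152))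
theorem Q3336 : ∀ i, i < 3336 → P i := stepQ 3335 Q3335 (allL N3335 (tt N5643 (iv F24712)) (tt N2072 F19619) (tt N4528 (iv F34727)) (tt N2071 (iv D11081)) (tt N5647 D14154) (tt N5648 D14155) (tt N4521 F34720))
theorem Q3337 : ∀ i, i < 3337 → P i := stepQ 3336 Q3336 (allL N3336 (tt N5644 (iv F24713)) (tt N2073 F19620) (tt N2099 F19621) (tt N3613 (iv F34509)) (tt N2071 (iv D11082)) (tt N5614 (iv F34512)) (tt N3578 F34497))
theorem Q3338 : ∀ i, i < 3338 → P i := stepQ 3337 Q3337 (allL N3337 (tt N5645 (iv F24715)) (tt N5612 (iv F34875)) (tt N2100 F19622) (tt N5648 (iv F24721)) (tt N5614 (iv F34511)) (tt N2071 (iv D11083)) (tt N5620 (iv F34874)))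
theorem Q3339 : ∀ i, i < 3339 → P i := stepQ 3338 Q3338 (allL N3338 (tt N5646 (iv F24717)) (tt N3564 F34495) (tt N2101 F19623) (tt N4521 F34719) (tt N3578 F34496) (tt N5649 D14162) (tt N2071 (iv D11084)))
theorem Q3340 : ∀ i, i < 3340 → P i := stepQ 3339 Q3339 (allL N3339 (tt N3295 F19624) (tt N5647 (iv F24720)) (tt N3293 F19625) (tt N5650 D14163) (tt N2072 (iv D11085)) (tt N5651 D14164) (tt N5209 (iv F23938)))
theorem Q3341 : ∀ i, i < 3341 → P i := stepQ 3340 Q3340 (allL N3340 (tt N3296 F19626) (tt N5652 D14165) (tt N3078 F19627) (tt N2074 F19628) (tt N5651 (iv F24738)) (tt N2072 (iv D11086)) (tt N5192 (iv F23872)))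
theorem Q3342 : ∀ i, i < 3342 → P i := stepQ 3341 Q3341 (allL N3341 (tt N5641 (iv F24709)) (tt N3613 F34529) (tt N5190 (iv F32094)) (tt N2073 (iv D11087)) (tt N5650 (iv F24735)) (tt N5653 D14167) (tt N3544 F34530))
theorem Q3343 : ∀ i, i < 3343 → P i := stepQ 3342 Q3342 (allL N3342 (tt N5205 (iv F23913)) (tt N5615 (iv F34889)) (tt N2075 F19629) (tt N5653 (iv F24743)) (tt N2074 F19630) (tt N2073 (iv D11088)) (tt N5654 D14169))
theorem Q3344 : ∀ i, i < 3344 → P i := stepQ 3343 Q3343 (allL N3343 (tt N5655 D14170) (tt N2074 (iv D11089)) (tt N5656 D14171) (tt N5652 (iv F24739)) (tt N5615 (iv F34890)) (tt N5612 (iv F34876)) (tt N5657 D14172))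
theorem Q3345 : ∀ i, i < 3345 → P i := stepQ 3344 Q3344 (allL N3344 (tt N3103 F19631) (tt N5658 D14173) (tt N2077 F19632) (tt N5192 (iv F23871)) (tt N5654 (iv F24747)) (tt N3098 F19633) (tt N2074 (iv D11090)))
theorem Q3346 : ∀ i, i < 3346 → P i := stepQ 3345 Q3345 (allL N3345 (tt N2473 F32816) (tt N2075 (iv D11091)) (tt N5659 D14175) (tt N2079 F32817) (tt N2076 F19635) (tt N2105 F19636) (tt N2076 F32818))
theorem Q3347 : ∀ i, i < 3347 → P i := stepQ 3346 Q3346 (allL N3346 (tt N2913 F32878) (tt N2077 F32879) (tt N5654 (iv F24746)) (tt N2080 F32880) (tt N2077 F19639) (tt N3099 F19640) (tt N2075 (iv D11092)))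
theorem Q3348 : ∀ i, i < 3348 → P i := stepQ 3347 Q3347 (allL N3347 (tt N2076 (iv D11093)) (tt N2471 F32723) (tt N5660 D14178) (tt N2078 F19641) (tt N2473 (iv F32775)) (tt N2106 F19642) (tt N2473 (iv F19643)))
theorem Q3349 : ∀ i, i < 3349 → P i := stepQ 3348 Q3348 (allL N3348 (tt N5660 (iv F24762)) (tt N5656 (iv F24749)) (tt N2076 (iv D11094)) (tt N5661 D14179) (tt N5659 (iv F24754)) (tt N2107 F19644) (tt N5659 (iv F32872)))
theorem Q3350 : ∀ i, i < 3350 → P i := stepQ 3349 Q3349 (allL N3349 (tt N4867 (iv F32683)) (tt N5662 D14185) (tt N2081 (iv D11099)) (tt N5663 D14186) (tt N4863 (iv F32649)) (tt N2083 F19658) (tt N4867 (iv F32685)))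
theorem Q3351 : ∀ i, i < 3351 → P i := stepQ 3350 Q3350 (allL N3350 (tt N2083 F19667) (tt N5664 D14191) (tt N2082 (iv D11103)) (tt N3308 F19669) (tt N2242 (iv F32646)) (tt N4867 (iv F32684)) (tt N3350 F19668))
theorem Q3352 : ∀ i, i < 3352 → P i := stepQ 3351 Q3351 (allL N3351 (tt N5665 D14193) (tt N2083 (iv D11105)) (tt N2109 F19673) (tt N5666 D14194) (tt N5667 D14195) (tt N5668 D14196) (tt N5669 D14197))
theorem Q3353 : ∀ i, i < 3353 → P i := stepQ 3352 Q3352 (allL N3352 (tt N3308 F19674) (tt N5666 (iv F24800)) (tt N3307 F19675) (tt N2083 (iv D11106)) (tt N5670 D14198) (tt N5663 (iv F24784)) (tt N3352 F19676))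
theorem Q3354 : ∀ i, i < 3354 → P i := stepQ 3353 Q3353 (allL N3353 (tt N2242 (iv F32645)) (tt N5667 (iv F24801)) (tt N2084 F19677) (tt N3642 (iv F32648)) (tt N2083 (iv D11107)) (tt N4863 (iv F32650)) (tt N3353 F19678))
theorem Q3355 : ∀ i, i < 3355 → P i := stepQ 3354 Q3354 (allL N3354 (tt N5671 D14226) (tt N2085 (iv D11136)) (tt N5671 (iv F29131)) (tt N4103 (iv F21195)) (tt N5672 D14228) (tt N5672 (iv F29114)) (tt N5673 D14230))
theorem Q3356 : ∀ i, i < 3356 → P i := stepQ 3355 Q3355 (allL N3355 (tt N2086 F19754) (tt N5672 (iv F24874)) (tt N5607 (iv F24607)) (tt N3045 F29042) (tt N2085 (iv D11137)) (tt N5674 D14232) (tt N5675 D14233))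
theorem Q3357 : ∀ i, i < 3357 → P i := stepQ 3356 Q3356 (allL N3356 (tt N2087 F19755) (tt N5674 (iv F29113)) (tt N5608 (iv F24609)) (tt N4104 (iv F21197)) (tt N5674 (iv F24877)) (tt N2085 (iv D11138)) (tt N3363 (iv F19764)))
theorem Q3358 : ∀ i, i < 3358 → P i := stepQ 3357 Q3357 (allL N3357 (tt N2088 F19756) (tt N5676 D14235) (tt N5609 (iv F24611)) (tt N4105 (iv F21199)) (tt N5675 (iv F24879)) (tt N3361 (iv F19761)) (tt N2085 (iv D11139)))
theorem Q3359 : ∀ i, i < 3359 → P i := stepQ 3358 Q3358 (allL N3358 (tt N3045 (iv F29040)) (tt N2089 F19757) (tt N3044 (iv F29041)) (tt N2086 (iv D11140)) (tt N4007 F29083) (tt N4006 F29084) (tt N5677 D14238))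
theorem Q3360 : ∀ i, i < 3360 → P i := stepQ 3359 Q3359 (allL N3359 (tt N5674 (iv F24876)) (tt N2428 F19758) (tt N3568 F28986) (tt N4006 (iv F29073)) (tt N2087 F19759) (tt N2086 (iv D11141)) (tt N5678 D14239))
theorem Q3361 : ∀ i, i < 3361 → P i := stepQ 3360 Q3360 (allL N3360 (tt N5675 (iv F24878)) (tt N5679 D14240) (tt N5612 (iv F24619)) (tt N5677 (iv F24882)) (tt N2088 F19760) (tt N5656 (iv F34898)) (tt N2086 (iv D11142)))
theorem Q3362 : ∀ i, i < 3362 → P i := stepQ 3361 Q3361 (allL N3361 (tt N3363 (iv F19763)) (tt N5680 D14242) (tt N5613 (iv F24621)) (tt N4106 (iv F21200)) (tt N5678 (iv F24883)) (tt N3357 F19761) (tt N2087 (iv D11143)))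
theorem Q3363 : ∀ i, i < 3363 → P i := stepQ 3362 Q3362 (allL N3362 (tt N5681 D14243) (tt N2088 (iv D11144)) (tt N5682 D14244) (tt N4035 (iv F21048)) (tt N5679 (iv F24885)) (tt N5683 D14245) (tt N2091 F19762))
theorem Q3364 : ∀ i, i < 3364 → P i := stepQ 3363 Q3363 (allL N3363 (tt N3361 F19763) (tt N5659 (iv F34922)) (tt N5615 (iv F24625)) (tt N4107 (iv F21203)) (tt N5656 (iv F34897)) (tt N2088 (iv D11145)) (tt N3356 F19764))
theorem Q3365 : ∀ i, i < 3365 → P i := stepQ 3364 Q3364 (allL N3364 (tt N4020 (iv F21025)) (tt N5684 D14247) (tt N3401 (iv F19825)) (tt N2090 F19765) (tt N4020 (iv F21028)) (tt N3401 (iv F19823)) (tt N2089 (iv D11146)))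
theorem Q3366 : ∀ i, i < 3366 → P i := stepQ 3365 Q3365 (allL N3365 (tt N5685 D14248) (tt N2090 (iv D11147)) (tt N5686 D14249) (tt N5684 (iv F24893)) (tt N2091 F19766) (tt N5687 D14250) (tt N5679 (iv F24886)))
theorem Q3367 : ∀ i, i < 3367 → P i := stepQ 3366 Q3366 (allL N3366 (tt N2091 (iv D11148)) (tt N5688 D14251) (tt N5689 D14252) (tt N4033 (iv F21045)) (tt N5685 (iv F24894)) (tt N5690 D14253) (tt N5681 (iv F24891)))
theorem Q3368 : ∀ i, i < 3368 → P i := stepQ 3367 Q3367 (allL N3367 (tt N5689 (iv F24898)) (tt N2094 F19767) (tt N2091 (iv D11149)) (tt N5691 D14254) (tt N5686 (iv F24896)) (tt N5692 D14255) (tt N5682 (iv F24892)))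
theorem Q3369 : ∀ i, i < 3369 → P i := stepQ 3368 Q3368 (allL N3368 (tt N5690 (iv F24899)) (tt N3399 (iv F19817)) (tt N5692 (iv F24902)) (tt N4031 (iv F21041)) (tt N5687 (iv F24897)) (tt N2091 (iv D11150)) (tt N5693 D14256))
theorem Q3370 : ∀ i, i < 3370 → P i := stepQ 3369 Q3369 (allL N3369 (tt N3372 (iv F32620)) (tt N5686 (iv F24895)) (tt N2092 (iv D11152)) (tt N5694 D14259) (tt N2094 F19770) (tt N3370 (iv F32619)) (tt N5626 (iv F24648)))
theorem Q3371 : ∀ i, i < 3371 → P i := stepQ 3370 Q3370 (allL N3370 (tt N2094 F19774) (tt N5695 D14261) (tt N2093 (iv D11154)) (tt N5696 D14262) (tt N3372 (iv F32621)) (tt N3369 F32619) (tt N5627 (iv F24657)))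
theorem Q3372 : ∀ i, i < 3372 → P i := stepQ 3371 Q3371 (allL N3371 (tt N5696 (iv F24914)) (tt N5691 (iv F24901)) (tt N5697 D14264) (tt N2094 (iv D11156)) (tt N5698 D14265) (tt N5699 D14266) (tt N5628 (iv F24658)))
theorem Q3373 : ∀ i, i < 3373 → P i := stepQ 3372 Q3372 (allL N3372 (tt N3369 F32620) (tt N5700 D14267) (tt N2095 F19778) (tt N5699 (iv F24921)) (tt N3370 F32621) (tt N2094 (iv D11157)) (tt N4038 (iv F21058)))
theorem Q3374 : ∀ i, i < 3374 → P i := stepQ 3373 Q3373 (allL N3373 (tt N2096 (iv D11158)) (tt N5701 D14268) (tt N5632 (iv F24690)) (tt N2467 F19779) (tt N5702 D14269) (tt N5703 D14270) (tt N5704 D14271))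
theorem Q3375 : ∀ i, i < 3375 → P i := stepQ 3374 Q3374 (allL N3374 (tt N5702 (iv F24924)) (tt N2097 F19780) (tt N5634 (iv F24693)) (tt N5705 D14272) (tt N2096 (iv D11159)) (tt N5706 D14273) (tt N5707 D14274))
theorem Q3376 : ∀ i, i < 3376 → P i := stepQ 3375 Q3375 (allL N3375 (tt N5703 (iv F24925)) (tt N2450 F19781) (tt N5635 (iv F24695)) (tt N2460 F19782) (tt N5706 (iv F24932)) (tt N2096 (iv D11160)) (tt N5708 D14275))
theorem Q3377 : ∀ i, i < 3377 → P i := stepQ 3376 Q3376 (allL N3376 (tt N5704 (iv F24927)) (tt N3392 (iv F19803)) (tt N5636 (iv F24696)) (tt N2469 F19783) (tt N5707 (iv F24933)) (tt N5709 D14276) (tt N2096 (iv D11161)))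
theorem Q3378 : ∀ i, i < 3378 → P i := stepQ 3377 Q3377 (allL N3377 (tt N2464 F19784) (tt N5705 (iv F24929)) (tt N3388 (iv F19798)) (tt N2097 (iv D11162)) (tt N2464 F19785) (tt N2452 F19786) (tt N3388 (iv F19800)))
theorem Q3379 : ∀ i, i < 3379 → P i := stepQ 3378 Q3378 (allL N3378 (tt N5710 D14277) (tt N2098 (iv D11163)) (tt N5710 (iv F35095)) (tt N4119 (iv F21230)) (tt N5711 D14279) (tt N5712 D14280) (tt N5711 (iv F35088)))
theorem Q3380 : ∀ i, i < 3380 → P i := stepQ 3379 Q3379 (allL N3379 (tt N2099 F19787) (tt N5711 (iv F24939)) (tt N5644 (iv F24714)) (tt N3049 F32087) (tt N2098 (iv D11164)) (tt N5713 D14283) (tt N5714 D14284))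
theorem Q3381 : ∀ i, i < 3381 → P i := stepQ 3380 Q3380 (allL N3380 (tt N2100 F19788) (tt N5715 D14285) (tt N5645 (iv F24716)) (tt N4120 (iv F21232)) (tt N5713 (iv F24942)) (tt N2098 (iv D11165)) (tt N3387 (iv F19797)))
theorem Q3382 : ∀ i, i < 3382 → P i := stepQ 3381 Q3381 (allL N3381 (tt N2101 F19789) (tt N5714 (iv F34461)) (tt N5646 (iv F24718)) (tt N4121 (iv F21234)) (tt N5714 (iv F24944)) (tt N3386 (iv F19795)) (tt N2098 (iv D11166)))
theorem Q3383 : ∀ i, i < 3383 → P i := stepQ 3382 Q3382 (allL N3382 (tt N3049 (iv F32086)) (tt N2102 F19790) (tt N3048 F32085) (tt N2099 (iv D11167)) (tt N4054 (iv F34313)) (tt N5716 D14288) (tt N4052 F34262))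
theorem Q3384 : ∀ i, i < 3384 → P i := stepQ 3383 Q3383 (allL N3383 (tt N5713 (iv F24941)) (tt N5682 (iv F34953)) (tt N5614 (iv F34510)) (tt N5716 (iv F24945)) (tt N2100 F19791) (tt N2099 (iv D11168)) (tt N5623 (iv F34965)))
theorem Q3385 : ∀ i, i < 3385 → P i := stepQ 3384 Q3384 (allL N3384 (tt N5714 (iv F24943)) (tt N2459 F19792) (tt N3578 F34494) (tt N4052 (iv F34215)) (tt N2101 F19793) (tt N5717 D14292) (tt N2099 (iv D11169)))
theorem Q3386 : ∀ i, i < 3386 → P i := stepQ 3385 Q3385 (allL N3385 (tt N5718 D14293) (tt N2100 (iv D11170)) (tt N5679 (iv F34938)) (tt N4081 (iv F21130)) (tt N5682 (iv F34954)) (tt N2104 F19794) (tt N5686 (iv F34949)))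
theorem Q3387 : ∀ i, i < 3387 → P i := stepQ 3386 Q3386 (allL N3386 (tt N3387 (iv F19796)) (tt N5626 (iv F34972)) (tt N5620 (iv F34872)) (tt N4122 (iv F21235)) (tt N5623 (iv F34963)) (tt N3381 F19795) (tt N2100 (iv D11171)))
theorem Q3388 : ∀ i, i < 3388 → P i := stepQ 3387 Q3387 (allL N3387 (tt N3386 F19796) (tt N5719 D14297) (tt N5649 (iv F24732)) (tt N4123 (iv F21238)) (tt N5717 (iv F24953)) (tt N2101 (iv D11172)) (tt N3380 F19797))
theorem Q3389 : ∀ i, i < 3389 → P i := stepQ 3388 Q3388 (allL N3388 (tt N4066 (iv F21107)) (tt N5720 D14298) (tt N3377 F19798) (tt N2103 F19799) (tt N4066 (iv F21110)) (tt N2102 (iv D11173)) (tt N3377 F19800))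
theorem Q3390 : ∀ i, i < 3390 → P i := stepQ 3389 Q3389 (allL N3389 (tt N5721 D14299) (tt N2103 (iv D11174)) (tt N5683 (iv F34935)) (tt N5720 (iv F24958)) (tt N2104 F19801) (tt N5682 (iv F34955)) (tt N5722 D14301))
theorem Q3391 : ∀ i, i < 3391 → P i := stepQ 3390 Q3390 (allL N3390 (tt N2104 (iv D11175)) (tt N5723 D14302) (tt N5724 D14303) (tt N4079 (iv F21127)) (tt N5721 (iv F24959)) (tt N5718 (iv F24955)) (tt N5725 D14304))
theorem Q3392 : ∀ i, i < 3392 → P i := stepQ 3391 Q3391 (allL N3391 (tt N5724 (iv F24964)) (tt N2107 F19802) (tt N2104 (iv D11176)) (tt N5726 D14305) (tt N5683 (iv F34936)) (tt N5679 (iv F34939)) (tt N5727 D14306))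
theorem Q3393 : ∀ i, i < 3393 → P i := stepQ 3392 Q3392 (allL N3392 (tt N5725 (iv F24965)) (tt N3376 F19803) (tt N5727 (iv F24968)) (tt N4077 (iv F21123)) (tt N5722 (iv F24963)) (tt N5728 D14307) (tt N2104 (iv D11177)))
theorem Q3394 : ∀ i, i < 3394 → P i := stepQ 3393 Q3393 (allL N3393 (tt N3396 (iv F32822)) (tt N5683 (iv F34934)) (tt N2105 (iv D11179)) (tt N5729 D14310) (tt N2107 F19806) (tt N5659 (iv F24755)) (tt N3394 F32815))
theorem Q3395 : ∀ i, i < 3395 → P i := stepQ 3394 Q3394 (allL N3394 (tt N2107 F19810) (tt N5730 D14312) (tt N2106 (iv D11181)) (tt N5697 (iv F24920)) (tt N3396 (iv F32823)) (tt N5660 (iv F24763)) (tt N3393 (iv F32815)))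
theorem Q3396 : ∀ i, i < 3396 → P i := stepQ 3395 Q3395 (allL N3395 (tt N5697 (iv F24919)) (tt N5726 (iv F24967)) (tt N5696 (iv F24915)) (tt N2107 (iv D11183)) (tt N5731 D14314) (tt N5661 (iv F24765)) (tt N5732 D14315))
theorem Q3397 : ∀ i, i < 3397 → P i := stepQ 3396 Q3396 (allL N3396 (tt N3393 F32822) (tt N5733 D14316) (tt N2108 F19814) (tt N5732 (iv F24983)) (tt N3394 F32823) (tt N4084 (iv F21141)) (tt N2107 (iv D11184)))
theorem Q3398 : ∀ i, i < 3398 → P i := stepQ 3397 Q3397 (allL N3397 (tt N2109 (iv D11185)) (tt N5734 D14317) (tt N5665 (iv F24799)) (tt N2437 F19815) (tt N5735 D14318) (tt N5736 D14319) (tt N5737 D14320))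
theorem Q3399 : ∀ i, i < 3399 → P i := stepQ 3398 Q3398 (allL N3398 (tt N5735 (iv F24986)) (tt N2110 F19816) (tt N5667 (iv F24802)) (tt N5738 D14321) (tt N2109 (iv D11186)) (tt N5739 D14322) (tt N5740 D14323))
theorem Q3400 : ∀ i, i < 3400 → P i := stepQ 3399 Q3399 (allL N3399 (tt N5736 (iv F24987)) (tt N3368 F19817) (tt N5668 (iv F24803)) (tt N2439 F19818) (tt N5739 (iv F24994)) (tt N2109 (iv D11187)) (tt N5741 D14324))
theorem Q3401 : ∀ i, i < 3401 → P i := stepQ 3400 Q3400 (allL N3400 (tt N5737 (iv F24989)) (tt N2421 F19819) (tt N5669 (iv F24805)) (tt N2431 F19820) (tt N5740 (iv F24996)) (tt N5742 D14325) (tt N2109 (iv D11188)))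
theorem Q3402 : ∀ i, i < 3402 → P i := stepQ 3401 Q3401 (allL N3401 (tt N2434 F19821) (tt N5738 (iv F24991)) (tt N3364 F19825) (tt N2110 (iv D11189)) (tt N2434 F19822) (tt N3364 F19823) (tt N2422 F19824))
theorem Q3403 : ∀ i, i < 3403 → P i := stepQ 3402 Q3402 (allL N3402 (tt N2111 (iv D11194)) (tt N2494 (iv F19844)) (tt N2116 F19841) (tt N2917 F19842) (tt N2112 F19843) (tt N5743 D14328) (tt N5744 D14329))
theorem Q3404 : ∀ i, i < 3404 → P i := stepQ 3403 Q3403 (allL N3403 (tt N5743 (iv F25006)) (tt N3403 F19845) (tt N2118 F19846) (tt N2918 F19847) (tt N2114 F19848) (tt N2111 (iv D11195)) (tt N5745 D14330))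
theorem Q3405 : ∀ i, i < 3405 → P i := stepQ 3404 Q3404 (allL N3404 (tt N5744 (iv F25010)) (tt N3404 F19849) (tt N2119 F19850) (tt N2919 F19851) (tt N2115 F19852) (tt N5746 D14331) (tt N2111 (iv D11196)))
theorem Q3406 : ∀ i, i < 3406 → P i := stepQ 3405 Q3405 (allL N3405 (tt N2113 F19853) (tt N2640 F19854) (tt N5082 (iv F23711)) (tt N2112 (iv D11197)) (tt N2921 F19855) (tt N5747 D14332) (tt N5748 D14333))
theorem Q3407 : ∀ i, i < 3407 → P i := stepQ 3406 Q3406 (allL N3406 (tt N2114 F19856) (tt N5749 D14334) (tt N2127 F19857) (tt N5747 (iv F25024)) (tt N5743 (iv F25009)) (tt N2112 (iv D11198)) (tt N3412 (iv F19872)))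
theorem Q3408 : ∀ i, i < 3408 → P i := stepQ 3407 Q3407 (allL N3407 (tt N2115 F19858) (tt N5750 D14335) (tt N2128 F19859) (tt N5748 (iv F25027)) (tt N5744 (iv F25013)) (tt N3411 (iv F19869)) (tt N2112 (iv D11199)))
theorem Q3409 : ∀ i, i < 3409 → P i := stepQ 3408 Q3408 (allL N3408 (tt N5082 (iv F23710)) (tt N3408 F19860) (tt N2113 (iv D11200)) (tt N5751 D14336) (tt N2924 F19861) (tt N5752 D14337) (tt N5753 D14338))
theorem Q3410 : ∀ i, i < 3410 → P i := stepQ 3409 Q3409 (allL N3409 (tt N5747 (iv F25023)) (tt N3409 F19862) (tt N5752 (iv F25032)) (tt N2114 F19863) (tt N2925 F19864) (tt N2113 (iv D11201)) (tt N5754 D14339))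
theorem Q3411 : ∀ i, i < 3411 → P i := stepQ 3410 Q3410 (allL N3410 (tt N5748 (iv F25026)) (tt N3410 F19865) (tt N5753 (iv F25034)) (tt N2115 F19866) (tt N2926 F19867) (tt N5755 D14340) (tt N2113 (iv D11202)))
theorem Q3412 : ∀ i, i < 3412 → P i := stepQ 3411 Q3411 (allL N3411 (tt N3412 (iv F19870)) (tt N5756 D14341) (tt N2134 F19868) (tt N5754 (iv F25036)) (tt N5745 (iv F25016)) (tt N3407 F19869) (tt N2114 (iv D11203)))
theorem Q3413 : ∀ i, i < 3413 → P i := stepQ 3412 Q3412 (allL N3412 (tt N3411 F19870) (tt N5757 D14342) (tt N2136 F19871) (tt N5755 (iv F25040)) (tt N5746 (iv F25021)) (tt N2115 (iv D11204)) (tt N3406 F19872))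
theorem Q3414 : ∀ i, i < 3414 → P i := stepQ 3413 Q3413 (allL N3413 (tt N2117 F19873) (tt N2116 (iv D11205)) (tt N2243 F19874) (tt N2116 (iv F19876)) (tt N2125 F19875) (tt N5758 D14343) (tt N5759 D14344))
theorem Q3415 : ∀ i, i < 3415 → P i := stepQ 3414 Q3414 (allL N3414 (tt N2118 F19877) (tt N5760 D14345) (tt N5743 (iv F25007)) (tt N5758 (iv F25047)) (tt N2127 F19878) (tt N2116 (iv D11206)) (tt N3421 (iv F19897)))
theorem Q3416 : ∀ i, i < 3416 → P i := stepQ 3415 Q3415 (allL N3415 (tt N2119 F19879) (tt N5761 D14346) (tt N5744 (iv F25011)) (tt N5759 (iv F25051)) (tt N2128 F19880) (tt N3419 (iv F19891)) (tt N2116 (iv D11207)))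
theorem Q3417 : ∀ i, i < 3417 → P i := stepQ 3416 Q3416 (allL N3416 (tt N5758 (iv F25045)) (tt N5762 D14347) (tt N2245 F19881) (tt N2118 F19882) (tt N2302 F19883) (tt N2117 (iv D11208)) (tt N5763 D14348))
theorem Q3418 : ∀ i, i < 3418 → P i := stepQ 3417 Q3417 (allL N3417 (tt N5759 (iv F25049)) (tt N5764 D14349) (tt N2246 F19884) (tt N2119 F19885) (tt N2303 F19886) (tt N5765 D14350) (tt N2117 (iv D11209)))
theorem Q3419 : ∀ i, i < 3419 → P i := stepQ 3418 Q3418 (allL N3418 (tt N5766 D14351) (tt N2118 (iv D11210)) (tt N3418 F19887) (tt N5762 (iv F25055)) (tt N2133 F19888) (tt N2123 F19889) (tt N5767 D14352))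
theorem Q3420 : ∀ i, i < 3420 → P i := stepQ 3419 Q3419 (allL N3419 (tt N3421 (iv F19895)) (tt N5768 D14353) (tt N5745 (iv F25014)) (tt N5763 (iv F25059)) (tt N2134 F19890) (tt N3415 F19891) (tt N2118 (iv D11211)))
theorem Q3421 : ∀ i, i < 3421 → P i := stepQ 3420 Q3420 (allL N3420 (tt N5769 D14354) (tt N2119 (iv D11212)) (tt N3420 F19892) (tt N5764 (iv F25062)) (tt N2135 F19893) (tt N5770 D14355) (tt N2124 F19894))
theorem Q3422 : ∀ i, i < 3422 → P i := stepQ 3421 Q3421 (allL N3421 (tt N3419 F19895) (tt N5771 D14356) (tt N5746 (iv F25019)) (tt N5765 (iv F25067)) (tt N2136 F19896) (tt N2119 (iv D11213)) (tt N3414 F19897))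
theorem Q3423 : ∀ i, i < 3423 → P i := stepQ 3422 Q3422 (allL N3422 (tt N2151 F19898) (tt N5772 D14357) (tt N2151 F19899) (tt N2137 F19900) (tt N2121 F19901) (tt N2120 (iv D11214)) (tt N3481 (iv F20006)))
theorem Q3424 : ∀ i, i < 3424 → P i := stepQ 3423 Q3423 (allL N3423 (tt N2152 F19902) (tt N5773 D14358) (tt N2152 F19903) (tt N2138 F19904) (tt N2122 F19905) (tt N3479 (iv F19998)) (tt N2120 (iv D11215)))
theorem Q3425 : ∀ i, i < 3425 → P i := stepQ 3424 Q3424 (allL N3424 (tt N5774 D14359) (tt N2121 (iv D11216)) (tt N5775 D14360) (tt N2123 F19906) (tt N5772 (iv F25084)) (tt N5762 (iv F25057)) (tt N5776 D14361))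
theorem Q3426 : ∀ i, i < 3426 → P i := stepQ 3425 Q3425 (allL N3425 (tt N5777 D14362) (tt N2122 (iv D11217)) (tt N5778 D14363) (tt N2124 F19907) (tt N5773 (iv F25088)) (tt N5779 D14364) (tt N5764 (iv F25064)))
theorem Q3427 : ∀ i, i < 3427 → P i := stepQ 3426 Q3426 (allL N3426 (tt N2123 (iv D11218)) (tt N5780 D14365) (tt N3426 F19908) (tt N5774 (iv F25090)) (tt N2141 F19909) (tt N5766 (iv F25072)) (tt N5781 D14366))
theorem Q3428 : ∀ i, i < 3428 → P i := stepQ 3427 Q3427 (allL N3427 (tt N5781 (iv F25101)) (tt N3509 (iv F20049)) (tt N3427 F19910) (tt N5776 (iv F25096)) (tt N2142 F19911) (tt N5782 D14367) (tt N2123 (iv D11219)))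
theorem Q3429 : ∀ i, i < 3429 → P i := stepQ 3428 Q3428 (allL N3428 (tt N2124 (iv D11220)) (tt N5783 D14368) (tt N3428 F19912) (tt N5777 (iv F25097)) (tt N2143 F19913) (tt N5784 D14369) (tt N5769 (iv F25078)))
theorem Q3430 : ∀ i, i < 3430 → P i := stepQ 3429 Q3429 (allL N3429 (tt N5784 (iv F25110)) (tt N3499 (iv F20030)) (tt N3429 F19914) (tt N5779 (iv F25099)) (tt N2144 F19915) (tt N2124 (iv D11221)) (tt N5785 D14370))
theorem Q3431 : ∀ i, i < 3431 → P i := stepQ 3430 Q3430 (allL N3430 (tt N2130 F19916) (tt N2126 F19917) (tt N4429 (iv F21799)) (tt N2125 (iv D11222)) (tt N2126 F19918) (tt N5786 D14371) (tt N5787 D14372))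
theorem Q3432 : ∀ i, i < 3432 → P i := stepQ 3431 Q3431 (allL N3431 (tt N2302 F19919) (tt N5788 D14373) (tt N2300 F19920) (tt N5786 (iv F25119)) (tt N5758 (iv F25048)) (tt N2125 (iv D11223)) (tt N3782 (iv F20587)))
theorem Q3433 : ∀ i, i < 3433 → P i := stepQ 3432 Q3432 (allL N3432 (tt N2303 F19921) (tt N5789 D14374) (tt N2301 F19922) (tt N5787 (iv F25122)) (tt N5759 (iv F25052)) (tt N3780 (iv F20584)) (tt N2125 (iv D11224)))
theorem Q3434 : ∀ i, i < 3434 → P i := stepQ 3433 Q3433 (allL N3433 (tt N2129 F19923) (tt N5790 D14375) (tt N2126 (iv D11225)) (tt N5791 D14376) (tt N4429 F21800) (tt N5792 D14377) (tt N5793 D14378))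
theorem Q3435 : ∀ i, i < 3435 → P i := stepQ 3434 Q3434 (allL N3434 (tt N2131 F19924) (tt N5601 (iv F29140)) (tt N5792 (iv F25130)) (tt N2127 F19925) (tt N5786 (iv F25120)) (tt N2126 (iv D11226)) (tt N3447 (iv F19945)))
theorem Q3436 : ∀ i, i < 3436 → P i := stepQ 3435 Q3435 (allL N3435 (tt N2132 F19926) (tt N5638 (iv F34865)) (tt N5793 (iv F25132)) (tt N2128 F19927) (tt N5787 (iv F25123)) (tt N3445 (iv F19940)) (tt N2126 (iv D11227)))
theorem Q3437 : ∀ i, i < 3437 → P i := stepQ 3436 Q3436 (allL N3436 (tt N3271 F29139) (tt N2127 (iv D11228)) (tt N5794 D14382) (tt N5601 (iv F29141)) (tt N5760 (iv F25053)) (tt N5788 (iv F25124)) (tt N5795 D14383))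
theorem Q3438 : ∀ i, i < 3438 → P i := stepQ 3437 Q3437 (allL N3437 (tt N3294 F34864) (tt N2128 (iv D11229)) (tt N5796 D14385) (tt N5638 (iv F34866)) (tt N5761 (iv F25054)) (tt N5797 D14386) (tt N5789 (iv F25125)))
theorem Q3439 : ∀ i, i < 3439 → P i := stepQ 3438 Q3438 (allL N3438 (tt N5791 (iv F25127)) (tt N3022 F19928) (tt N5798 D14387) (tt N2129 (iv D11230)) (tt N5799 D14388) (tt N5800 D14389) (tt N5801 D14390))
theorem Q3440 : ∀ i, i < 3440 → P i := stepQ 3439 Q3439 (allL N3439 (tt N4429 (iv F21798)) (tt N3023 F19929) (tt N2130 F19930) (tt N4416 (iv F21789)) (tt N2129 (iv D11231)) (tt N5802 D14391) (tt N5803 D14392))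
theorem Q3441 : ∀ i, i < 3441 → P i := stepQ 3440 Q3440 (allL N3440 (tt N5792 (iv F25129)) (tt N4094 (iv F29124)) (tt N2131 F19931) (tt N5800 (iv F25140)) (tt N5802 (iv F25143)) (tt N2129 (iv D11232)) (tt N5804 D14394))
theorem Q3442 : ∀ i, i < 3442 → P i := stepQ 3441 Q3441 (allL N3441 (tt N5793 (iv F25131)) (tt N4110 F34448) (tt N2132 F19932) (tt N5801 (iv F25141)) (tt N5803 (iv F25145)) (tt N5805 D14396) (tt N2129 (iv D11233)))
theorem Q3443 : ∀ i, i < 3443 → P i := stepQ 3442 Q3442 (allL N3442 (tt N5786 (iv F25118)) (tt N5806 D14397) (tt N5802 (iv F25142)) (tt N2302 F19933) (tt N2131 F19934) (tt N2130 (iv D11234)) (tt N5807 D14398))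
theorem Q3444 : ∀ i, i < 3444 → P i := stepQ 3443 Q3443 (allL N3443 (tt N5787 (iv F25121)) (tt N5808 D14399) (tt N5803 (iv F25144)) (tt N2303 F19935) (tt N2132 F19936) (tt N5809 D14400) (tt N2130 (iv D11235)))
theorem Q3445 : ∀ i, i < 3445 → P i := stepQ 3444 Q3444 (allL N3444 (tt N5605 (iv F29132)) (tt N2131 (iv D11236)) (tt N4103 F29116) (tt N2133 F19937) (tt N5806 (iv F25154)) (tt N2139 F19938) (tt N5810 D14403))
theorem Q3446 : ∀ i, i < 3446 → P i := stepQ 3445 Q3445 (allL N3445 (tt N3447 (iv F19943)) (tt N5811 D14404) (tt N5804 (iv F25147)) (tt N2134 F19939) (tt N5807 (iv F25157)) (tt N3435 F19940) (tt N2131 (iv D11237)))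
theorem Q3447 : ∀ i, i < 3447 → P i := stepQ 3446 Q3446 (allL N3446 (tt N5642 (iv F34867)) (tt N2132 (iv D11238)) (tt N4119 (iv F35086)) (tt N2135 F19941) (tt N5808 (iv F25160)) (tt N5812 D14407) (tt N2140 F19942))
theorem Q3448 : ∀ i, i < 3448 → P i := stepQ 3447 Q3447 (allL N3447 (tt N3445 F19943) (tt N5813 D14408) (tt N5805 (iv F25151)) (tt N2136 F19944) (tt N5809 (iv F25164)) (tt N2132 (iv D11239)) (tt N3434 F19945))
theorem Q3449 : ∀ i, i < 3449 → P i := stepQ 3448 Q3448 (allL N3448 (tt N2133 (iv D11240)) (tt N5606 (iv F29138)) (tt N3448 F19946) (tt N5605 (iv F29134)) (tt N5766 (iv F25071)) (tt N2141 F19947) (tt N3464 (iv F19965)))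
theorem Q3450 : ∀ i, i < 3450 → P i := stepQ 3449 Q3449 (allL N3449 (tt N3464 (iv F19963)) (tt N5814 D14410) (tt N3449 F19948) (tt N5810 (iv F25169)) (tt N5767 (iv F25074)) (tt N3463 (iv F19962)) (tt N2133 (iv D11241)))
theorem Q3451 : ∀ i, i < 3451 → P i := stepQ 3450 Q3450 (allL N3450 (tt N5815 D14411) (tt N2134 (iv D11242)) (tt N5816 D14412) (tt N5811 (iv F25170)) (tt N5768 (iv F25075)) (tt N5817 D14413) (tt N5814 (iv F25176)))
theorem Q3452 : ∀ i, i < 3452 → P i := stepQ 3451 Q3451 (allL N3451 (tt N2135 (iv D11243)) (tt N5643 (iv F34863)) (tt N3451 F19949) (tt N5642 (iv F34868)) (tt N5769 (iv F25077)) (tt N3467 (iv F19971)) (tt N2143 F19950))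
theorem Q3453 : ∀ i, i < 3453 → P i := stepQ 3452 Q3452 (allL N3452 (tt N3467 (iv F19969)) (tt N5818 D14415) (tt N3452 F19951) (tt N5812 (iv F25174)) (tt N5770 (iv F25080)) (tt N2135 (iv D11244)) (tt N3466 (iv F19968)))
theorem Q3454 : ∀ i, i < 3454 → P i := stepQ 3453 Q3453 (allL N3453 (tt N5819 D14416) (tt N2136 (iv D11245)) (tt N5820 D14417) (tt N5813 (iv F25175)) (tt N5771 (iv F25081)) (tt N5818 (iv F25178)) (tt N5821 D14418))
theorem Q3455 : ∀ i, i < 3455 → P i := stepQ 3454 Q3454 (allL N3454 (tt N5822 D14419) (tt N2137 (iv D11246)) (tt N5823 D14420) (tt N5772 (iv F25083)) (tt N2139 F19952) (tt N5806 (iv F25155)) (tt N5824 D14421))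
theorem Q3456 : ∀ i, i < 3456 → P i := stepQ 3455 Q3455 (allL N3455 (tt N5825 D14422) (tt N2138 (iv D11247)) (tt N5826 D14423) (tt N5773 (iv F25087)) (tt N2140 F19953) (tt N5827 D14424) (tt N5808 (iv F25161)))
theorem Q3457 : ∀ i, i < 3457 → P i := stepQ 3456 Q3456 (allL N3456 (tt N2139 (iv D11248)) (tt N5828 D14425) (tt N5829 D14426) (tt N2141 F19954) (tt N5822 (iv F25181)) (tt N5605 (iv F29135)) (tt N5830 D14427))
theorem Q3458 : ∀ i, i < 3458 → P i := stepQ 3457 Q3457 (allL N3457 (tt N5829 (iv F25190)) (tt N3045 F19955) (tt N2139 (iv D11249)) (tt N5672 (iv F29047)) (tt N5823 (iv F25183)) (tt N4103 (iv F29115)) (tt N5831 D14429))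
theorem Q3459 : ∀ i, i < 3459 → P i := stepQ 3458 Q3458 (allL N3458 (tt N5830 (iv F25191)) (tt N3587 (iv F20187)) (tt N5831 (iv F25195)) (tt N2142 F19956) (tt N5824 (iv F25184)) (tt N5832 D14430) (tt N2139 (iv D11250)))
theorem Q3460 : ∀ i, i < 3460 → P i := stepQ 3459 Q3459 (allL N3459 (tt N2140 (iv D11251)) (tt N5833 D14431) (tt N5834 D14432) (tt N2143 F19957) (tt N5825 (iv F25185)) (tt N5835 D14433) (tt N5642 (iv F34870)))
theorem Q3461 : ∀ i, i < 3461 → P i := stepQ 3460 Q3460 (allL N3460 (tt N5834 (iv F25200)) (tt N3049 F19958) (tt N2140 (iv D11252)) (tt N5711 (iv F32090)) (tt N5826 (iv F25187)) (tt N5836 D14435) (tt N4119 F35087))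
theorem Q3462 : ∀ i, i < 3462 → P i := stepQ 3461 Q3461 (allL N3461 (tt N5835 (iv F25201)) (tt N3577 (iv F20173)) (tt N5836 (iv F25205)) (tt N2144 F19959) (tt N5827 (iv F25188)) (tt N2140 (iv D11253)) (tt N5837 D14436))
theorem Q3463 : ∀ i, i < 3463 → P i := stepQ 3462 Q3462 (allL N3462 (tt N4760 (iv F28917)) (tt N2141 (iv D11254)) (tt N4759 (iv F29244)) (tt N5828 (iv F25189)) (tt N5780 (iv F25100)) (tt N5838 D14439) (tt N5839 D14440))
theorem Q3464 : ∀ i, i < 3464 → P i := stepQ 3463 Q3463 (allL N3463 (tt N2142 F19960) (tt N5840 D14441) (tt N3463 F19961) (tt N5830 (iv F25192)) (tt N5781 (iv F25103)) (tt N3449 F19962) (tt N2141 (iv D11255)))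
theorem Q3465 : ∀ i, i < 3465 → P i := stepQ 3464 Q3464 (allL N3464 (tt N3449 F19963) (tt N5841 D14442) (tt N3464 F19964) (tt N5832 (iv F25197)) (tt N5782 (iv F25107)) (tt N2142 (iv D11256)) (tt N3448 F19965))
theorem Q3466 : ∀ i, i < 3466 → P i := stepQ 3465 Q3465 (allL N3465 (tt N4798 (iv F26622)) (tt N2143 (iv D11257)) (tt N4797 (iv F26626)) (tt N5833 (iv F25199)) (tt N5783 (iv F25109)) (tt N5842 D14445) (tt N5843 D14446))
theorem Q3467 : ∀ i, i < 3467 → P i := stepQ 3466 Q3466 (allL N3466 (tt N2144 F19966) (tt N5844 D14447) (tt N3466 F19967) (tt N5835 (iv F25202)) (tt N5784 (iv F25112)) (tt N2143 (iv D11258)) (tt N3452 F19968))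
theorem Q3468 : ∀ i, i < 3468 → P i := stepQ 3467 Q3467 (allL N3467 (tt N3452 F19969) (tt N5845 D14448) (tt N3467 F19970) (tt N5837 (iv F25207)) (tt N5785 (iv F25116)) (tt N3451 F19971) (tt N2144 (iv D11259)))
theorem Q3469 : ∀ i, i < 3469 → P i := stepQ 3468 Q3468 (allL N3468 (tt N5846 D14449) (tt N2145 (iv D11260)) (tt N5847 D14450) (tt N2147 F19972) (tt N2177 F19973) (tt N2153 F19974) (tt N5848 D14451))
theorem Q3470 : ∀ i, i < 3470 → P i := stepQ 3469 Q3469 (allL N3469 (tt N5849 D14452) (tt N2146 (iv D11261)) (tt N5850 D14453) (tt N2149 F19975) (tt N2178 F19976) (tt N5851 D14454) (tt N2155 F19977))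
theorem Q3471 : ∀ i, i < 3471 → P i := stepQ 3470 Q3470 (allL N3470 (tt N2147 (iv D11262)) (tt N5852 D14455) (tt N5853 D14456) (tt N5846 (iv F25213)) (tt N2183 F19978) (tt N2157 F19979) (tt N3496 (iv F20026)))
theorem Q3472 : ∀ i, i < 3472 → P i := stepQ 3471 Q3471 (allL N3471 (tt N5853 (iv F25232)) (tt N2259 F19980) (tt N2147 (iv D11263)) (tt N5854 D14457) (tt N2184 F19981) (tt N2158 F19982) (tt N5855 D14458))
theorem Q3473 : ∀ i, i < 3473 → P i := stepQ 3472 Q3472 (allL N3472 (tt N3496 (iv F20024)) (tt N5856 D14459) (tt N5855 (iv F25237)) (tt N5848 (iv F25221)) (tt N2185 F19983) (tt N3492 (iv F20018)) (tt N2147 (iv D11264)))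
theorem Q3474 : ∀ i, i < 3474 → P i := stepQ 3473 Q3473 (allL N3473 (tt N5857 D14460) (tt N2148 (iv D11265)) (tt N5858 D14461) (tt N3477 (iv F19991)) (tt N2186 F19984) (tt N5859 D14462) (tt N5856 (iv F25240)))
theorem Q3475 : ∀ i, i < 3475 → P i := stepQ 3474 Q3474 (allL N3474 (tt N2149 (iv D11266)) (tt N5860 D14463) (tt N5861 D14464) (tt N5849 (iv F25223)) (tt N2187 F19985) (tt N3506 (iv F20045)) (tt N2161 F19986))
theorem Q3476 : ∀ i, i < 3476 → P i := stepQ 3475 Q3475 (allL N3475 (tt N5861 (iv F25247)) (tt N2263 F19987) (tt N2149 (iv D11267)) (tt N5862 D14465) (tt N2188 F19988) (tt N5863 D14466) (tt N2162 F19989))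
theorem Q3477 : ∀ i, i < 3477 → P i := stepQ 3476 Q3476 (allL N3476 (tt N3506 (iv F20043)) (tt N5864 D14467) (tt N5863 (iv F25252)) (tt N5851 (iv F25229)) (tt N2189 F19990) (tt N2149 (iv D11268)) (tt N3502 (iv F20037)))
theorem Q3478 : ∀ i, i < 3478 → P i := stepQ 3477 Q3477 (allL N3477 (tt N5865 D14468) (tt N2150 (iv D11269)) (tt N5866 D14469) (tt N3473 F19991) (tt N2190 F19992) (tt N5864 (iv F25256)) (tt N5867 D14470))
theorem Q3479 : ∀ i, i < 3479 → P i := stepQ 3478 Q3478 (allL N3478 (tt N2674 F20098) (tt N2151 (iv D11270)) (tt N2673 (iv F20099)) (tt N2195 F19993) (tt N2153 F19994) (tt N2177 F19995) (tt N5868 D14471))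
theorem Q3480 : ∀ i, i < 3480 → P i := stepQ 3479 Q3479 (allL N3479 (tt N3481 (iv F20002)) (tt N5869 D14472) (tt N3481 (iv F20003)) (tt N2196 F19996) (tt N2154 F19997) (tt N3423 F19998) (tt N2151 (iv D11271)))
theorem Q3481 : ∀ i, i < 3481 → P i := stepQ 3480 Q3480 (allL N3480 (tt N2693 F34701) (tt N2152 (iv D11272)) (tt N2692 (iv F34709)) (tt N2197 F19999) (tt N2155 F20000) (tt N5870 D14475) (tt N2178 F20001))
theorem Q3482 : ∀ i, i < 3482 → P i := stepQ 3481 Q3481 (allL N3481 (tt N3479 F20002) (tt N5871 D14476) (tt N3479 F20003) (tt N2198 F20004) (tt N2156 F20005) (tt N2152 (iv D11273)) (tt N3422 F20006))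
theorem Q3483 : ∀ i, i < 3483 → P i := stepQ 3482 Q3482 (allL N3482 (tt N2153 (iv D11274)) (tt N5872 D14477) (tt N2532 F20101) (tt N2157 F20007) (tt N2674 (iv F20100)) (tt N5846 (iv F25215)) (tt N5873 D14478))
theorem Q3484 : ∀ i, i < 3484 → P i := stepQ 3483 Q3483 (allL N3483 (tt N2532 (iv F20102)) (tt N5775 (iv F25094)) (tt N2153 (iv D11275)) (tt N5874 D14479) (tt N2673 F20103) (tt N5847 (iv F25220)) (tt N5875 D14480))
theorem Q3485 : ∀ i, i < 3485 → P i := stepQ 3484 Q3484 (allL N3484 (tt N5873 (iv F25282)) (tt N5876 D14481) (tt N5875 (iv F25289)) (tt N2159 F20008) (tt N5868 (iv F25267)) (tt N5877 D14482) (tt N2153 (iv D11276)))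
theorem Q3486 : ∀ i, i < 3486 → P i := stepQ 3485 Q3485 (allL N3485 (tt N5878 D14483) (tt N2154 (iv D11277)) (tt N5879 D14484) (tt N2160 F20009) (tt N5869 (iv F25269)) (tt N5880 D14485) (tt N5876 (iv F25292)))
theorem Q3487 : ∀ i, i < 3487 → P i := stepQ 3486 Q3486 (allL N3486 (tt N2155 (iv D11278)) (tt N5881 D14486) (tt N2540 (iv F34696)) (tt N2161 F20010) (tt N2693 (iv F34697)) (tt N5882 D14488) (tt N5849 (iv F25225)))
theorem Q3488 : ∀ i, i < 3488 → P i := stepQ 3487 Q3487 (allL N3487 (tt N2540 F34700) (tt N5778 (iv F25098)) (tt N2155 (iv D11279)) (tt N5883 D14489) (tt N2692 (iv F34710)) (tt N5884 D14490) (tt N5850 (iv F25228)))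
theorem Q3489 : ∀ i, i < 3489 → P i := stepQ 3488 Q3488 (allL N3488 (tt N5882 (iv F25301)) (tt N5885 D14491) (tt N5884 (iv F25304)) (tt N2163 F20011) (tt N5870 (iv F25276)) (tt N2155 (iv D11280)) (tt N5886 D14492))
theorem Q3490 : ∀ i, i < 3490 → P i := stepQ 3489 Q3489 (allL N3489 (tt N5887 D14493) (tt N2156 (iv D11281)) (tt N5888 D14494) (tt N2164 F20012) (tt N5871 (iv F25278)) (tt N5885 (iv F25306)) (tt N5889 D14495))
theorem Q3491 : ∀ i, i < 3491 → P i := stepQ 3490 Q3490 (allL N3490 (tt N5890 D14496) (tt N2157 (iv D11282)) (tt N5891 D14497) (tt N5872 (iv F25280)) (tt N2207 F20013) (tt N5892 D14498) (tt N5893 D14499))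
theorem Q3492 : ∀ i, i < 3492 → P i := stepQ 3491 Q3491 (allL N3491 (tt N2158 F20014) (tt N5894 D14500) (tt N2157 (iv D11283)) (tt N5895 D14501) (tt N2208 F20015) (tt N5853 (iv F25234)) (tt N5896 D14502))
theorem Q3493 : ∀ i, i < 3493 → P i := stepQ 3492 Q3492 (allL N3492 (tt N2159 F20016) (tt N5897 D14503) (tt N5896 (iv F25321)) (tt N5873 (iv F25284)) (tt N2209 F20017) (tt N3472 F20018) (tt N2157 (iv D11284)))
theorem Q3494 : ∀ i, i < 3494 → P i := stepQ 3493 Q3493 (allL N3493 (tt N5895 (iv F25319)) (tt N2165 F20019) (tt N5898 D14504) (tt N2158 (iv D11285)) (tt N5899 D14505) (tt N5854 (iv F25236)) (tt N5900 D14506))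
theorem Q3495 : ∀ i, i < 3495 → P i := stepQ 3494 Q3494 (allL N3494 (tt N5896 (iv F25320)) (tt N4390 (iv F21700)) (tt N2159 F20020) (tt N5900 (iv F25328)) (tt N2211 F20021) (tt N5901 D14507) (tt N2158 (iv D11286)))
theorem Q3496 : ∀ i, i < 3496 → P i := stepQ 3495 Q3495 (allL N3495 (tt N5902 D14508) (tt N2159 (iv D11287)) (tt N5903 D14509) (tt N5876 (iv F25291)) (tt N2212 F20022) (tt N5904 D14510) (tt N2160 F20023))
theorem Q3497 : ∀ i, i < 3497 → P i := stepQ 3496 Q3496 (allL N3496 (tt N3472 F20024) (tt N5905 D14511) (tt N5901 (iv F25330)) (tt N5877 (iv F25294)) (tt N2213 F20025) (tt N2159 (iv D11288)) (tt N3470 F20026))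
theorem Q3498 : ∀ i, i < 3498 → P i := stepQ 3497 Q3497 (allL N3497 (tt N2160 (iv D11289)) (tt N5906 D14512) (tt N5907 D14513) (tt N5878 (iv F25296)) (tt N2214 F20027) (tt N5908 D14514) (tt N5902 (iv F25334)))
theorem Q3499 : ∀ i, i < 3499 → P i := stepQ 3498 Q3498 (allL N3498 (tt N5907 (iv F25340)) (tt N2167 F20028) (tt N2160 (iv D11290)) (tt N5909 D14515) (tt N2215 F20029) (tt N5910 D14516) (tt N5903 (iv F25336)))
theorem Q3500 : ∀ i, i < 3500 → P i := stepQ 3499 Q3499 (allL N3499 (tt N5908 (iv F25342)) (tt N3429 F20030) (tt N5910 (iv F25347)) (tt N5880 (iv F25298)) (tt N2216 F20031) (tt N2160 (iv D11291)) (tt N5911 D14517))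
theorem Q3501 : ∀ i, i < 3501 → P i := stepQ 3500 Q3500 (allL N3500 (tt N5912 D14518) (tt N2161 (iv D11292)) (tt N5913 D14519) (tt N5881 (iv F25299)) (tt N2217 F20032) (tt N5914 D14520) (tt N5915 D14521))
theorem Q3502 : ∀ i, i < 3502 → P i := stepQ 3501 Q3501 (allL N3501 (tt N2162 F20033) (tt N5916 D14522) (tt N2161 (iv D11293)) (tt N5917 D14523) (tt N2218 F20034) (tt N5918 D14524) (tt N5861 (iv F25249)))
theorem Q3503 : ∀ i, i < 3503 → P i := stepQ 3502 Q3502 (allL N3502 (tt N2163 F20035) (tt N5919 D14525) (tt N5918 (iv F25359)) (tt N5882 (iv F25302)) (tt N2219 F20036) (tt N2161 (iv D11294)) (tt N3476 F20037))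
theorem Q3504 : ∀ i, i < 3504 → P i := stepQ 3503 Q3503 (allL N3503 (tt N5917 (iv F25357)) (tt N2168 F20038) (tt N5920 D14526) (tt N2162 (iv D11295)) (tt N5921 D14527) (tt N5922 D14528) (tt N5862 (iv F25251)))
theorem Q3505 : ∀ i, i < 3505 → P i := stepQ 3504 Q3504 (allL N3504 (tt N5918 (iv F25358)) (tt N4405 (iv F21733)) (tt N2163 F20039) (tt N5922 (iv F25366)) (tt N2221 F20040) (tt N2162 (iv D11296)) (tt N5923 D14529))
theorem Q3506 : ∀ i, i < 3506 → P i := stepQ 3505 Q3505 (allL N3505 (tt N5924 D14530) (tt N2163 (iv D11297)) (tt N5925 D14531) (tt N5885 (iv F25305)) (tt N2222 F20041) (tt N2164 F20042) (tt N5926 D14532))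
theorem Q3507 : ∀ i, i < 3507 → P i := stepQ 3506 Q3506 (allL N3506 (tt N3476 F20043) (tt N5927 D14533) (tt N5923 (iv F25368)) (tt N5886 (iv F25308)) (tt N2223 F20044) (tt N3474 F20045) (tt N2163 (iv D11298)))
theorem Q3508 : ∀ i, i < 3508 → P i := stepQ 3507 Q3507 (allL N3507 (tt N2164 (iv D11299)) (tt N5928 D14534) (tt N5929 D14535) (tt N5887 (iv F25310)) (tt N2224 F20046) (tt N5924 (iv F25372)) (tt N5930 D14536))
theorem Q3509 : ∀ i, i < 3509 → P i := stepQ 3508 Q3508 (allL N3508 (tt N5929 (iv F25378)) (tt N2170 F20047) (tt N2164 (iv D11300)) (tt N5931 D14537) (tt N2225 F20048) (tt N5925 (iv F25374)) (tt N5932 D14538))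
theorem Q3510 : ∀ i, i < 3510 → P i := stepQ 3509 Q3509 (allL N3509 (tt N5930 (iv F25380)) (tt N3427 F20049) (tt N5932 (iv F25385)) (tt N5889 (iv F25313)) (tt N2226 F20050) (tt N5933 D14539) (tt N2164 (iv D11301)))
theorem Q3511 : ∀ i, i < 3511 → P i := stepQ 3510 Q3510 (allL N3510 (tt N3771 (iv F20560)) (tt N5899 (iv F25326)) (tt N2287 F20051) (tt N2228 F20052) (tt N2165 (iv D11302)) (tt N2287 F20053) (tt N4391 (iv F21705)))
theorem Q3512 : ∀ i, i < 3512 → P i := stepQ 3511 Q3511 (allL N3511 (tt N2167 F20054) (tt N5934 D14540) (tt N2166 (iv D11303)) (tt N5935 D14541) (tt N2229 F20055) (tt N3511 F20056) (tt N4384 (iv F21693)))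
theorem Q3513 : ∀ i, i < 3513 → P i := stepQ 3512 Q3512 (allL N3512 (tt N5935 (iv F25392)) (tt N5909 (iv F25345)) (tt N5936 D14542) (tt N2167 (iv D11304)) (tt N5937 D14543) (tt N3512 F20057) (tt N4386 (iv F21696)))
theorem Q3514 : ∀ i, i < 3514 → P i := stepQ 3513 Q3513 (allL N3513 (tt N3776 (iv F20574)) (tt N5921 (iv F25364)) (tt N2293 F20058) (tt N2232 F20059) (tt N2168 (iv D11305)) (tt N4407 (iv F21739)) (tt N2293 F20060))
theorem Q3515 : ∀ i, i < 3515 → P i := stepQ 3514 Q3514 (allL N3514 (tt N2170 F20061) (tt N5938 D14544) (tt N2169 (iv D11306)) (tt N5939 D14545) (tt N2233 F20062) (tt N4400 (iv F21726)) (tt N3514 F20063))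
theorem Q3516 : ∀ i, i < 3516 → P i := stepQ 3515 Q3515 (allL N3515 (tt N5939 (iv F25399)) (tt N5931 (iv F25383)) (tt N5940 D14546) (tt N2170 (iv D11307)) (tt N5941 D14547) (tt N4402 (iv F21730)) (tt N3515 F20064))
theorem Q3517 : ∀ i, i < 3517 → P i := stepQ 3516 Q3516 (allL N3516 (tt N2172 F20065) (tt N2637 F20066) (tt N5942 D14548) (tt N2171 (iv D11308)) (tt N3182 (iv F32980)) (tt N3516 F20067) (tt N4411 (iv F21750)))
theorem Q3518 : ∀ i, i < 3518 → P i := stepQ 3517 Q3517 (allL N3517 (tt N5942 (iv F25404)) (tt N5943 D14550) (tt N2172 (iv D11309)) (tt N5944 D14551) (tt N3183 (iv F32990)) (tt N3517 F20068) (tt N4412 (iv F21751)))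
theorem Q3519 : ∀ i, i < 3519 → P i := stepQ 3518 Q3518 (allL N3518 (tt N2174 F20072) (tt N2635 F20073) (tt N5945 D14553) (tt N2173 (iv D11311)) (tt N3188 (iv F32905)) (tt N4414 (iv F21760)) (tt N3518 F20074))
theorem Q3520 : ∀ i, i < 3520 → P i := stepQ 3519 Q3519 (allL N3519 (tt N5945 (iv F25417)) (tt N5946 D14555) (tt N2174 (iv D11312)) (tt N5947 D14556) (tt N3189 (iv F32959)) (tt N4415 (iv F21762)) (tt N3519 F20075))
theorem Q3521 : ∀ i, i < 3521 → P i := stepQ 3520 Q3520 (allL N3520 (tt N3090 (iv F28952)) (tt N2175 (iv D11320)) (tt N3644 F28949) (tt N2177 F20091) (tt N2179 F20092) (tt N2195 F20093) (tt N5948 D14568))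
theorem Q3522 : ∀ i, i < 3522 → P i := stepQ 3521 Q3521 (allL N3521 (tt N3100 F34506) (tt N2176 (iv D11321)) (tt N3653 F34507) (tt N2178 F20094) (tt N2181 F20095) (tt N5949 D14571) (tt N2197 F20096))
theorem Q3523 : ∀ i, i < 3523 → P i := stepQ 3522 Q3522 (allL N3522 (tt N2177 (iv D11322)) (tt N3091 (iv F28971)) (tt N2675 (iv F20104)) (tt N3090 F28960) (tt N5846 (iv F25214)) (tt N2674 F20097) (tt N5950 D14573))
theorem Q3524 : ∀ i, i < 3524 → P i := stepQ 3523 Q3523 (allL N3523 (tt N2675 F20109) (tt N2309 F20110) (tt N2177 (iv D11323)) (tt N4445 (iv F21821)) (tt N5847 (iv F25219)) (tt N2673 F20111) (tt N4489 (iv F21880)))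
theorem Q3525 : ∀ i, i < 3525 → P i := stepQ 3524 Q3524 (allL N3524 (tt N5950 (iv F25464)) (tt N3551 (iv F20139)) (tt N4489 (iv F21879)) (tt N5948 (iv F25453)) (tt N5848 (iv F25222)) (tt N4487 (iv F21876)) (tt N2177 (iv D11324)))
theorem Q3526 : ∀ i, i < 3526 → P i := stepQ 3525 Q3525 (allL N3525 (tt N2178 (iv D11325)) (tt N3101 (iv F34535)) (tt N2695 (iv F34723)) (tt N3100 F34513) (tt N5849 (iv F25224)) (tt N5951 D14576) (tt N2693 F34704))
theorem Q3527 : ∀ i, i < 3527 → P i := stepQ 3526 Q3526 (allL N3526 (tt N2695 F34725) (tt N2312 F20112) (tt N2178 (iv D11326)) (tt N4453 (iv F34730)) (tt N5850 (iv F25227)) (tt N4523 (iv F34729)) (tt N2692 F34726))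
theorem Q3528 : ∀ i, i < 3528 → P i := stepQ 3527 Q3527 (allL N3527 (tt N5951 (iv F25469)) (tt N3543 (iv F20131)) (tt N4523 (iv F34728)) (tt N5949 (iv F25461)) (tt N5851 (iv F25230)) (tt N2178 (iv D11327)) (tt N4522 F34722))
theorem Q3529 : ∀ i, i < 3529 → P i := stepQ 3528 Q3528 (allL N3528 (tt N2179 (iv D11328)) (tt N3092 (iv F28951)) (tt N3646 F28945) (tt N2183 F20113) (tt N3090 (iv F28953)) (tt N2199 F20114) (tt N3574 (iv F20171)))
theorem Q3530 : ∀ i, i < 3530 → P i := stepQ 3529 Q3529 (allL N3529 (tt N3646 (iv F28940)) (tt N3644 (iv F28941)) (tt N2179 (iv D11329)) (tt N5388 (iv F28943)) (tt N3644 (iv F28942)) (tt N2200 F20115) (tt N5952 D14583))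
theorem Q3531 : ∀ i, i < 3531 → P i := stepQ 3530 Q3530 (allL N3530 (tt N3574 (iv F20169)) (tt N5953 D14584) (tt N5952 (iv F25481)) (tt N2185 F20116) (tt N5948 (iv F25454)) (tt N3570 (iv F20165)) (tt N2179 (iv D11330)))
theorem Q3532 : ∀ i, i < 3532 → P i := stepQ 3531 Q3531 (allL N3531 (tt N5954 D14585) (tt N2180 (iv D11331)) (tt N5955 D14586) (tt N2186 F20117) (tt N3535 (iv F20123)) (tt N5956 D14587) (tt N5953 (iv F25483)))
theorem Q3533 : ∀ i, i < 3533 → P i := stepQ 3532 Q3532 (allL N3532 (tt N2181 (iv D11332)) (tt N3102 (iv F34502)) (tt N3655 F34478) (tt N2187 F20118) (tt N3100 (iv F34500)) (tt N3584 (iv F20185)) (tt N2203 F20119))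
theorem Q3534 : ∀ i, i < 3534 → P i := stepQ 3533 Q3533 (allL N3533 (tt N3655 F34475) (tt N3653 F34508) (tt N2181 (iv D11333)) (tt N5393 F34476) (tt N3653 (iv F34492)) (tt N5957 D14591) (tt N2204 F20120))
theorem Q3535 : ∀ i, i < 3535 → P i := stepQ 3534 Q3534 (allL N3534 (tt N3584 (iv F20183)) (tt N5958 D14592) (tt N5957 (iv F25491)) (tt N2189 F20121) (tt N5949 (iv F25462)) (tt N2181 (iv D11334)) (tt N3580 (iv F20179)))
theorem Q3536 : ∀ i, i < 3536 → P i := stepQ 3535 Q3535 (allL N3535 (tt N5959 D14593) (tt N2182 (iv D11335)) (tt N5960 D14594) (tt N2190 F20122) (tt N3531 F20123) (tt N5958 (iv F25494)) (tt N5961 D14595))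
theorem Q3537 : ∀ i, i < 3537 → P i := stepQ 3536 Q3536 (allL N3536 (tt N5179 (iv F28903)) (tt N2183 (iv D11336)) (tt N5604 (iv F28967)) (tt N3092 F28959) (tt N5852 (iv F25231)) (tt N3319 (iv F28970)) (tt N5962 D14599))
theorem Q3538 : ∀ i, i < 3538 → P i := stepQ 3537 Q3537 (allL N3537 (tt N2184 F20124) (tt N5963 D14600) (tt N2183 (iv D11337)) (tt N5964 D14601) (tt N5853 (iv F25233)) (tt N2208 F20125) (tt N3599 (iv F20197)))
theorem Q3539 : ∀ i, i < 3539 → P i := stepQ 3538 Q3538 (allL N3538 (tt N5964 (iv F25506)) (tt N2316 F20126) (tt N2950 F28824) (tt N2184 (iv D11338)) (tt N5965 D14603) (tt N2210 F20127) (tt N5966 D14604))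
theorem Q3540 : ∀ i, i < 3540 → P i := stepQ 3539 Q3539 (allL N3539 (tt N3599 (iv F20195)) (tt N5967 D14605) (tt N2185 F20128) (tt N5966 (iv F25511)) (tt N5855 (iv F25238)) (tt N3594 (iv F20192)) (tt N2184 (iv D11339)))
theorem Q3541 : ∀ i, i < 3541 → P i := stepQ 3540 Q3540 (allL N3540 (tt N5968 D14606) (tt N2185 (iv D11340)) (tt N5969 D14607) (tt N5953 (iv F25482)) (tt N5856 (iv F25239)) (tt N5970 D14608) (tt N2186 F20129))
theorem Q3542 : ∀ i, i < 3542 → P i := stepQ 3541 Q3541 (allL N3541 (tt N2186 (iv D11341)) (tt N5971 D14609) (tt N5972 D14610) (tt N5954 (iv F25484)) (tt N5857 (iv F25241)) (tt N5973 D14611) (tt N5968 (iv F25513)))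
theorem Q3543 : ∀ i, i < 3543 → P i := stepQ 3542 Q3542 (allL N3542 (tt N5972 (iv F25515)) (tt N2320 F20130) (tt N2186 (iv D11342)) (tt N5974 D14612) (tt N5858 (iv F25243)) (tt N5975 D14613) (tt N5969 (iv F25514)))
theorem Q3544 : ∀ i, i < 3544 → P i := stepQ 3543 Q3543 (allL N3543 (tt N5973 (iv F25516)) (tt N3527 F20131) (tt N5975 (iv F25519)) (tt N5956 (iv F25486)) (tt N5859 (iv F25245)) (tt N2186 (iv D11343)) (tt N5976 D14614))
theorem Q3545 : ∀ i, i < 3545 → P i := stepQ 3544 Q3544 (allL N3544 (tt N5190 (iv F34539)) (tt N2187 (iv D11344)) (tt N5641 (iv F34540)) (tt N3102 F34518) (tt N5860 (iv F25246)) (tt N5977 D14617) (tt N3341 (iv F34530)))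
theorem Q3546 : ∀ i, i < 3546 → P i := stepQ 3545 Q3545 (allL N3545 (tt N2188 F20132) (tt N5978 D14619) (tt N2187 (iv D11345)) (tt N5979 D14620) (tt N5861 (iv F25248)) (tt N3621 (iv F20216)) (tt N2218 F20133))
theorem Q3547 : ∀ i, i < 3547 → P i := stepQ 3546 Q3546 (allL N3546 (tt N5979 (iv F25523)) (tt N2324 F20134) (tt N2951 F34444) (tt N2188 (iv D11346)) (tt N5980 D14622) (tt N5981 D14623) (tt N2220 F20135))
theorem Q3548 : ∀ i, i < 3548 → P i := stepQ 3547 Q3547 (allL N3547 (tt N3621 (iv F20214)) (tt N5982 D14624) (tt N2189 F20136) (tt N5981 (iv F25528)) (tt N5863 (iv F25253)) (tt N2188 (iv D11347)) (tt N3616 (iv F20211)))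
theorem Q3549 : ∀ i, i < 3549 → P i := stepQ 3548 Q3548 (allL N3548 (tt N5983 D14625) (tt N2189 (iv D11348)) (tt N5984 D14626) (tt N5958 (iv F25492)) (tt N5864 (iv F25255)) (tt N2190 F20137) (tt N5985 D14627))
theorem Q3550 : ∀ i, i < 3550 → P i := stepQ 3549 Q3549 (allL N3549 (tt N2190 (iv D11349)) (tt N5986 D14628) (tt N5987 D14629) (tt N5959 (iv F25495)) (tt N5865 (iv F25258)) (tt N5983 (iv F25530)) (tt N5988 D14630))
theorem Q3551 : ∀ i, i < 3551 → P i := stepQ 3550 Q3550 (allL N3550 (tt N5987 (iv F25532)) (tt N2328 F20138) (tt N2190 (iv D11350)) (tt N5989 D14631) (tt N5866 (iv F25260)) (tt N5984 (iv F25531)) (tt N5990 D14632))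
theorem Q3552 : ∀ i, i < 3552 → P i := stepQ 3551 Q3551 (allL N3551 (tt N5988 (iv F25533)) (tt N3524 F20139) (tt N5990 (iv F25536)) (tt N5961 (iv F25500)) (tt N5867 (iv F25263)) (tt N5991 D14633) (tt N2190 (iv D11351)))
theorem Q3553 : ∀ i, i < 3553 → P i := stepQ 3552 Q3552 (allL N3552 (tt N3555 F28802) (tt N2191 (iv D11352)) (tt N3554 (iv F28805)) (tt N2973 F20140) (tt N2193 F20141) (tt N2193 F20142) (tt N5992 D14636))
theorem Q3554 : ∀ i, i < 3554 → P i := stepQ 3553 Q3553 (allL N3553 (tt N3558 F34483) (tt N2192 (iv D11353)) (tt N3557 (iv F34484)) (tt N2975 F20143) (tt N2194 F20144) (tt N5993 D14639) (tt N2194 F20145))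
theorem Q3555 : ∀ i, i < 3555 → P i := stepQ 3554 Q3554 (allL N3554 (tt N2193 (iv D11354)) (tt N3561 (iv F28812)) (tt N3552 F28805) (tt N2977 F20146) (tt N3555 F28806) (tt N3555 F28807) (tt N5994 D14642))
theorem Q3556 : ∀ i, i < 3556 → P i := stepQ 3555 Q3555 (allL N3555 (tt N3552 (iv F28802)) (tt N2200 F20147) (tt N2193 (iv D11355)) (tt N5009 (iv F28804)) (tt N3554 (iv F28806)) (tt N3554 (iv F28807)) (tt N5995 D14644))
theorem Q3557 : ∀ i, i < 3557 → P i := stepQ 3556 Q3556 (allL N3556 (tt N5994 (iv F25557)) (tt N5137 (iv F23801)) (tt N5995 (iv F25561)) (tt N2979 F20148) (tt N5992 (iv F25546)) (tt N5995 (iv F28811)) (tt N2193 (iv D11356)))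
theorem Q3558 : ∀ i, i < 3558 → P i := stepQ 3557 Q3557 (allL N3557 (tt N2194 (iv D11357)) (tt N3565 (iv F34505)) (tt N3553 F34484) (tt N2980 F20149) (tt N3558 F34485) (tt N5996 D14648) (tt N3558 F34486))
theorem Q3559 : ∀ i, i < 3559 → P i := stepQ 3558 Q3558 (allL N3558 (tt N3553 (iv F34483)) (tt N2204 F20150) (tt N2194 (iv D11358)) (tt N5012 F34474) (tt N3557 (iv F34485)) (tt N5997 D14650) (tt N3557 (iv F34486)))
theorem Q3560 : ∀ i, i < 3560 → P i := stepQ 3559 Q3559 (allL N3559 (tt N5996 (iv F25568)) (tt N5130 (iv F23786)) (tt N5997 (iv F25572)) (tt N2982 F20151) (tt N5993 (iv F25554)) (tt N2194 (iv D11359)) (tt N5997 (iv F34491)))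
theorem Q3561 : ∀ i, i < 3561 → P i := stepQ 3560 Q3560 (allL N3560 (tt N2195 (iv D11360)) (tt N3315 (iv F28972)) (tt N3647 F28961) (tt N2674 F20152) (tt N2199 F20153) (tt N3090 F28962) (tt N5998 D14654))
theorem Q3562 : ∀ i, i < 3562 → P i := stepQ 3561 Q3561 (allL N3561 (tt N3647 (iv F28955)) (tt N3554 F28812) (tt N2195 (iv D11361)) (tt N5015 (iv F28814)) (tt N2200 F20154) (tt N3644 F28950) (tt N5999 D14656))
theorem Q3563 : ∀ i, i < 3563 → P i := stepQ 3562 Q3562 (allL N3562 (tt N5998 (iv F25581)) (tt N6000 D14657) (tt N5999 (iv F25585)) (tt N5868 (iv F25266)) (tt N2201 F20155) (tt N5200 (iv F28966)) (tt N2195 (iv D11362)))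
theorem Q3564 : ∀ i, i < 3564 → P i := stepQ 3563 Q3563 (allL N3563 (tt N6001 D14659) (tt N2196 (iv D11363)) (tt N6002 D14660) (tt N5869 (iv F25268)) (tt N2202 F20156) (tt N6003 D14661) (tt N6000 (iv F25588)))
theorem Q3565 : ∀ i, i < 3565 → P i := stepQ 3564 Q3564 (allL N3564 (tt N2197 (iv D11364)) (tt N3338 (iv F34495)) (tt N3657 F34477) (tt N2693 F34702) (tt N2203 F20157) (tt N6004 D14664) (tt N3100 (iv F34501)))
theorem Q3566 : ∀ i, i < 3566 → P i := stepQ 3565 Q3565 (allL N3565 (tt N3657 F34479) (tt N3557 F34505) (tt N2197 (iv D11365)) (tt N5021 (iv F34519)) (tt N2204 F20158) (tt N6005 D14666) (tt N3653 (iv F34493)))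
theorem Q3567 : ∀ i, i < 3567 → P i := stepQ 3566 Q3566 (allL N3566 (tt N6004 (iv F25600)) (tt N6006 D14667) (tt N6005 (iv F25604)) (tt N5870 (iv F25275)) (tt N2205 F20159) (tt N2197 (iv D11366)) (tt N5208 (iv F34517)))
theorem Q3568 : ∀ i, i < 3568 → P i := stepQ 3567 Q3567 (allL N3567 (tt N6007 D14669) (tt N2198 (iv D11367)) (tt N6008 D14670) (tt N5871 (iv F25277)) (tt N2206 F20160) (tt N6006 (iv F25607)) (tt N6009 D14671))
theorem Q3569 : ∀ i, i < 3569 → P i := stepQ 3568 Q3568 (allL N3568 (tt N5657 (iv F34900)) (tt N2199 (iv D11368)) (tt N3359 (iv F28986)) (tt N2207 F20161) (tt N3315 F28981) (tt N3314 (iv F28983)) (tt N5655 (iv F34894)))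
theorem Q3570 : ∀ i, i < 3570 → P i := stepQ 3569 Q3569 (allL N3569 (tt N2200 F20162) (tt N3953 (iv F28954)) (tt N2199 (iv D11369)) (tt N5380 (iv F28819)) (tt N3647 (iv F28956)) (tt N3646 F28946) (tt N6010 D14678))
theorem Q3571 : ∀ i, i < 3571 → P i := stepQ 3570 Q3570 (allL N3570 (tt N2201 F20163) (tt N6011 D14679) (tt N6010 (iv F25621)) (tt N2209 F20164) (tt N5998 (iv F25583)) (tt N3530 F20165) (tt N2199 (iv D11370)))
theorem Q3572 : ∀ i, i < 3572 → P i := stepQ 3571 Q3571 (allL N3571 (tt N5380 (iv F28818)) (tt N5009 (iv F28803)) (tt N5379 (iv F28816)) (tt N2200 (iv D11371)) (tt N6012 D14681) (tt N5388 (iv F28944)) (tt N6013 D14682))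
theorem Q3573 : ∀ i, i < 3573 → P i := stepQ 3572 Q3572 (allL N3572 (tt N6010 (iv F25620)) (tt N6014 D14683) (tt N2201 F20166) (tt N6013 (iv F25624)) (tt N5999 (iv F25586)) (tt N6015 D14684) (tt N2200 (iv D11372)))
theorem Q3574 : ∀ i, i < 3574 → P i := stepQ 3573 Q3573 (allL N3573 (tt N6016 D14685) (tt N2201 (iv D11373)) (tt N6017 D14686) (tt N2212 F20167) (tt N6000 (iv F25587)) (tt N6018 D14687) (tt N2202 F20168))
theorem Q3575 : ∀ i, i < 3575 → P i := stepQ 3574 Q3574 (allL N3574 (tt N3530 F20169) (tt N6019 D14688) (tt N6015 (iv F25626)) (tt N2213 F20170) (tt N5200 (iv F28965)) (tt N2201 (iv D11374)) (tt N3528 F20171))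
theorem Q3576 : ∀ i, i < 3576 → P i := stepQ 3575 Q3575 (allL N3575 (tt N2202 (iv D11375)) (tt N6020 D14689) (tt N6021 D14690) (tt N2214 F20172) (tt N6001 (iv F25593)) (tt N6022 D14691) (tt N6016 (iv F25629)))
theorem Q3577 : ∀ i, i < 3577 → P i := stepQ 3576 Q3576 (allL N3576 (tt N6021 (iv F25634)) (tt N5136 (iv F23800)) (tt N2202 (iv D11376)) (tt N6023 D14692) (tt N6002 (iv F25594)) (tt N6024 D14693) (tt N6017 (iv F25630)))
theorem Q3578 : ∀ i, i < 3578 → P i := stepQ 3577 Q3577 (allL N3577 (tt N6022 (iv F25635)) (tt N3461 F20173) (tt N6024 (iv F25638)) (tt N2216 F20174) (tt N6003 (iv F25596)) (tt N2202 (iv D11377)) (tt N6025 D14694))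
theorem Q3579 : ∀ i, i < 3579 → P i := stepQ 3578 Q3578 (allL N3578 (tt N5624 (iv F29194)) (tt N2203 (iv D11378)) (tt N3384 (iv F34494)) (tt N2217 F20175) (tt N3338 (iv F34496)) (tt N5622 (iv F29197)) (tt N3336 (iv F34497)))
theorem Q3580 : ∀ i, i < 3580 → P i := stepQ 3579 Q3579 (allL N3579 (tt N2204 F20176) (tt N3984 (iv F34467)) (tt N2203 (iv D11379)) (tt N5384 F34457) (tt N3657 (iv F34468)) (tt N6026 D14701) (tt N3655 (iv F34471)))
theorem Q3581 : ∀ i, i < 3581 → P i := stepQ 3580 Q3580 (allL N3580 (tt N2205 F20177) (tt N6027 D14702) (tt N6026 (iv F25647)) (tt N2219 F20178) (tt N6004 (iv F25602)) (tt N2203 (iv D11380)) (tt N3534 F20179))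
theorem Q3582 : ∀ i, i < 3582 → P i := stepQ 3581 Q3581 (allL N3581 (tt N5384 F34452) (tt N5012 (iv F34465)) (tt N5383 F34453) (tt N2204 (iv D11381)) (tt N6028 D14704) (tt N6029 D14705) (tt N5393 (iv F34466)))
theorem Q3583 : ∀ i, i < 3583 → P i := stepQ 3582 Q3582 (allL N3582 (tt N6026 (iv F25646)) (tt N6030 D14706) (tt N2205 F20180) (tt N6029 (iv F25650)) (tt N6005 (iv F25605)) (tt N2204 (iv D11382)) (tt N6031 D14707))
theorem Q3584 : ∀ i, i < 3584 → P i := stepQ 3583 Q3583 (allL N3583 (tt N6032 D14708) (tt N2205 (iv D11383)) (tt N6033 D14709) (tt N2222 F20181) (tt N6006 (iv F25606)) (tt N2206 F20182) (tt N6034 D14710))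
theorem Q3585 : ∀ i, i < 3585 → P i := stepQ 3584 Q3584 (allL N3584 (tt N3534 F20183) (tt N6035 D14711) (tt N6031 (iv F25652)) (tt N2223 F20184) (tt N5208 (iv F34516)) (tt N3532 F20185) (tt N2205 (iv D11384)))
theorem Q3586 : ∀ i, i < 3586 → P i := stepQ 3585 Q3585 (allL N3585 (tt N2206 (iv D11385)) (tt N6036 D14712) (tt N6037 D14713) (tt N2224 F20186) (tt N6007 (iv F25612)) (tt N6032 (iv F25655)) (tt N6038 D14714))
theorem Q3587 : ∀ i, i < 3587 → P i := stepQ 3586 Q3586 (allL N3586 (tt N6037 (iv F25660)) (tt N5129 (iv F23785)) (tt N2206 (iv D11386)) (tt N6039 D14715) (tt N6008 (iv F25613)) (tt N6033 (iv F25656)) (tt N6040 D14716))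
theorem Q3588 : ∀ i, i < 3588 → P i := stepQ 3587 Q3587 (allL N3587 (tt N6038 (iv F25661)) (tt N3458 F20187) (tt N6040 (iv F25664)) (tt N2226 F20188) (tt N6009 (iv F25615)) (tt N6041 D14717) (tt N2206 (iv D11387)))
theorem Q3589 : ∀ i, i < 3589 → P i := stepQ 3588 Q3588 (allL N3588 (tt N2207 (iv D11388)) (tt N4760 (iv F28918)) (tt N4762 (iv F28916)) (tt N5657 (iv F34903)) (tt N5890 (iv F25314)) (tt N6042 D14719) (tt N5652 (iv F34909)))
theorem Q3590 : ∀ i, i < 3590 → P i := stepQ 3589 Q3589 (allL N3589 (tt N4762 (iv F28915)) (tt N3206 F28897) (tt N2207 (iv D11389)) (tt N3033 (iv F28899)) (tt N5891 (iv F25315)) (tt N3055 (iv F28900)) (tt N6043 D14724))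
theorem Q3591 : ∀ i, i < 3591 → P i := stepQ 3590 Q3590 (allL N3590 (tt N6042 (iv F25669)) (tt N3319 F28978) (tt N3055 F28901) (tt N3314 (iv F28982)) (tt N5892 (iv F25316)) (tt N2207 (iv D11390)) (tt N6044 D14725))
theorem Q3592 : ∀ i, i < 3592 → P i := stepQ 3591 Q3591 (allL N3591 (tt N5652 (iv F34906)) (tt N6045 D14726) (tt N6043 (iv F25673)) (tt N5655 (iv F34892)) (tt N5893 (iv F25317)) (tt N6046 D14727) (tt N2207 (iv D11391)))
theorem Q3593 : ∀ i, i < 3593 → P i := stepQ 3592 Q3592 (allL N3592 (tt N3206 (iv F28892)) (tt N2208 (iv D11392)) (tt N3206 (iv F28893)) (tt N3205 (iv F28894)) (tt N5894 (iv F25318)) (tt N3225 (iv F28895)) (tt N5450 (iv F28896)))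
theorem Q3594 : ∀ i, i < 3594 → P i := stepQ 3593 Q3593 (allL N3593 (tt N2210 F20189) (tt N3205 F28898) (tt N6047 D14732) (tt N2208 (iv D11393)) (tt N6048 D14733) (tt N5964 (iv F25507)) (tt N6049 D14734))
theorem Q3595 : ∀ i, i < 3595 → P i := stepQ 3594 Q3594 (allL N3594 (tt N2211 F20190) (tt N6050 D14735) (tt N2209 F20191) (tt N6049 (iv F25683)) (tt N5896 (iv F25322)) (tt N3539 F20192) (tt N2208 (iv D11394)))
theorem Q3596 : ∀ i, i < 3596 → P i := stepQ 3595 Q3595 (allL N3595 (tt N6051 D14736) (tt N2209 (iv D11395)) (tt N6052 D14737) (tt N6011 (iv F25623)) (tt N5897 (iv F25324)) (tt N6053 D14738) (tt N6045 (iv F25675)))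
theorem Q3597 : ∀ i, i < 3597 → P i := stepQ 3596 Q3596 (allL N3596 (tt N6047 (iv F25679)) (tt N2948 (iv F28821)) (tt N2210 (iv D11396)) (tt N3194 F28820) (tt N6054 D14741) (tt N2950 (iv F28822)) (tt N6055 D14742))
theorem Q3598 : ∀ i, i < 3598 → P i := stepQ 3597 Q3597 (allL N3597 (tt N6048 (iv F25681)) (tt N2228 F20193) (tt N6054 (iv F25689)) (tt N5899 (iv F25327)) (tt N2210 (iv D11397)) (tt N5965 (iv F25510)) (tt N6056 D14743))
theorem Q3599 : ∀ i, i < 3599 → P i := stepQ 3598 Q3598 (allL N3598 (tt N6049 (iv F25682)) (tt N4785 (iv F22337)) (tt N6055 (iv F25690)) (tt N2211 F20194) (tt N6056 (iv F25691)) (tt N6057 D14744) (tt N2210 (iv D11398)))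
theorem Q3600 : ∀ i, i < 3600 → P i := stepQ 3599 Q3599 (allL N3599 (tt N3539 F20195) (tt N6058 D14745) (tt N2213 F20196) (tt N6057 (iv F25693)) (tt N5901 (iv F25331)) (tt N2211 (iv D11399)) (tt N3537 F20197))
theorem Q3601 : ∀ i, i < 3601 → P i := stepQ 3600 Q3600 (allL N3600 (tt N2212 (iv D11400)) (tt N6059 D14746) (tt N6060 D14747) (tt N6016 (iv F25628)) (tt N5902 (iv F25333)) (tt N3609 (iv F20207)) (tt N2214 F20198))
theorem Q3602 : ∀ i, i < 3602 → P i := stepQ 3601 Q3601 (allL N3601 (tt N6060 (iv F25695)) (tt N4775 (iv F22328)) (tt N2212 (iv D11401)) (tt N6061 D14748) (tt N5903 (iv F25335)) (tt N6062 D14749) (tt N2215 F20199))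
theorem Q3603 : ∀ i, i < 3603 → P i := stepQ 3602 Q3602 (allL N3602 (tt N3609 (iv F20206)) (tt N6063 D14750) (tt N6062 (iv F25698)) (tt N6018 (iv F25631)) (tt N5904 (iv F25337)) (tt N2212 (iv D11402)) (tt N3606 (iv F20202)))
theorem Q3604 : ∀ i, i < 3604 → P i := stepQ 3603 Q3603 (allL N3603 (tt N6064 D14751) (tt N2213 (iv D11403)) (tt N6065 D14752) (tt N6019 (iv F25632)) (tt N5905 (iv F25338)) (tt N6063 (iv F25699)) (tt N6066 D14753))
theorem Q3605 : ∀ i, i < 3605 → P i := stepQ 3604 Q3604 (allL N3604 (tt N6067 D14754) (tt N2214 (iv D11404)) (tt N6068 D14755) (tt N6020 (iv F25633)) (tt N5906 (iv F25339)) (tt N6069 D14756) (tt N6070 D14757))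
theorem Q3606 : ∀ i, i < 3606 → P i := stepQ 3605 Q3605 (allL N3605 (tt N2215 F20200) (tt N6071 D14758) (tt N2214 (iv D11405)) (tt N6072 D14759) (tt N5907 (iv F25341)) (tt N6073 D14760) (tt N6060 (iv F25696)))
theorem Q3607 : ∀ i, i < 3607 → P i := stepQ 3606 Q3606 (allL N3606 (tt N2216 F20201) (tt N6074 D14761) (tt N6073 (iv F25703)) (tt N6022 (iv F25636)) (tt N5908 (iv F25343)) (tt N2214 (iv D11406)) (tt N3602 F20202))
theorem Q3608 : ∀ i, i < 3608 → P i := stepQ 3607 Q3607 (allL N3607 (tt N6072 (iv F25701)) (tt N2230 F20203) (tt N6075 D14762) (tt N2215 (iv D11407)) (tt N6076 D14763) (tt N6077 D14764) (tt N6061 (iv F25697)))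
theorem Q3609 : ∀ i, i < 3609 → P i := stepQ 3608 Q3608 (allL N3608 (tt N6073 (iv F25702)) (tt N3608 F20204) (tt N2216 F20205) (tt N6077 (iv F25709)) (tt N5910 (iv F25348)) (tt N2215 (iv D11408)) (tt N6078 D14765))
theorem Q3610 : ∀ i, i < 3610 → P i := stepQ 3609 Q3609 (allL N3609 (tt N3602 F20206) (tt N6079 D14766) (tt N6078 (iv F25711)) (tt N6025 (iv F25640)) (tt N5911 (iv F25350)) (tt N3600 F20207) (tt N2216 (iv D11409)))
theorem Q3611 : ∀ i, i < 3611 → P i := stepQ 3610 Q3610 (allL N3610 (tt N2217 (iv D11410)) (tt N4798 (iv F26623)) (tt N4800 (iv F26621)) (tt N5624 (iv F29195)) (tt N5912 (iv F25352)) (tt N5618 (iv F29192)) (tt N6080 D14769))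
theorem Q3612 : ∀ i, i < 3612 → P i := stepQ 3611 Q3611 (allL N3611 (tt N4800 (iv F26620)) (tt N3214 (iv F34520)) (tt N2217 (iv D11411)) (tt N3037 (iv F34521)) (tt N5913 (iv F25353)) (tt N6081 D14772) (tt N3065 (iv F34527)))
theorem Q3613 : ∀ i, i < 3613 → P i := stepQ 3612 Q3612 (allL N3612 (tt N5618 (iv F29191)) (tt N6082 D14774) (tt N6081 (iv F25718)) (tt N5622 (iv F29196)) (tt N5914 (iv F25354)) (tt N2217 (iv D11412)) (tt N6083 D14775))
theorem Q3614 : ∀ i, i < 3614 → P i := stepQ 3613 Q3613 (allL N3613 (tt N6080 (iv F25716)) (tt N3341 (iv F34529)) (tt N3065 (iv F34526)) (tt N3336 F34509) (tt N5915 (iv F25355)) (tt N6084 D14776) (tt N2217 (iv D11413)))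
theorem Q3615 : ∀ i, i < 3615 → P i := stepQ 3614 Q3614 (allL N3614 (tt N3214 F34554) (tt N2218 (iv D11414)) (tt N3214 F34555) (tt N3213 (iv F34557)) (tt N5916 (iv F25356)) (tt N5494 (iv F34558)) (tt N3247 (iv F34559)))
theorem Q3616 : ∀ i, i < 3616 → P i := stepQ 3615 Q3615 (allL N3615 (tt N2220 F20208) (tt N3213 F34560) (tt N6085 D14781) (tt N2218 (iv D11415)) (tt N6086 D14782) (tt N6087 D14783) (tt N5979 (iv F25524)))
theorem Q3617 : ∀ i, i < 3617 → P i := stepQ 3616 Q3616 (allL N3616 (tt N2221 F20209) (tt N6088 D14784) (tt N2219 F20210) (tt N6087 (iv F25729)) (tt N5918 (iv F25360)) (tt N2218 (iv D11416)) (tt N3547 F20211))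
theorem Q3618 : ∀ i, i < 3618 → P i := stepQ 3617 Q3617 (allL N3617 (tt N6089 D14785) (tt N2219 (iv D11417)) (tt N6090 D14786) (tt N6027 (iv F25649)) (tt N5919 (iv F25362)) (tt N6082 (iv F25720)) (tt N6091 D14787))
theorem Q3619 : ∀ i, i < 3619 → P i := stepQ 3618 Q3618 (allL N3618 (tt N6085 (iv F25725)) (tt N2949 F34332) (tt N2220 (iv D11418)) (tt N3196 (iv F34379)) (tt N6092 D14790) (tt N6093 D14791) (tt N2951 (iv F34385)))
theorem Q3620 : ∀ i, i < 3620 → P i := stepQ 3619 Q3619 (allL N3619 (tt N6086 (iv F25727)) (tt N2232 F20212) (tt N6092 (iv F25735)) (tt N5921 (iv F25365)) (tt N2220 (iv D11419)) (tt N6094 D14792) (tt N5980 (iv F25527)))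
theorem Q3621 : ∀ i, i < 3621 → P i := stepQ 3620 Q3620 (allL N3620 (tt N6087 (iv F25728)) (tt N4822 (iv F22385)) (tt N6093 (iv F25736)) (tt N2221 F20213) (tt N6094 (iv F25737)) (tt N2220 (iv D11420)) (tt N6095 D14793))
theorem Q3622 : ∀ i, i < 3622 → P i := stepQ 3621 Q3621 (allL N3621 (tt N3547 F20214) (tt N6096 D14794) (tt N2223 F20215) (tt N6095 (iv F25739)) (tt N5923 (iv F25369)) (tt N3545 F20216) (tt N2221 (iv D11421)))
theorem Q3623 : ∀ i, i < 3623 → P i := stepQ 3622 Q3622 (allL N3622 (tt N2222 (iv D11422)) (tt N6097 D14795) (tt N6098 D14796) (tt N6032 (iv F25654)) (tt N5924 (iv F25371)) (tt N2224 F20217) (tt N3631 (iv F20226)))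
theorem Q3624 : ∀ i, i < 3624 → P i := stepQ 3623 Q3623 (allL N3623 (tt N6098 (iv F25741)) (tt N4812 (iv F22376)) (tt N2222 (iv D11423)) (tt N6099 D14797) (tt N5925 (iv F25373)) (tt N2225 F20218) (tt N6100 D14798))
theorem Q3625 : ∀ i, i < 3625 → P i := stepQ 3624 Q3624 (allL N3624 (tt N3631 (iv F20225)) (tt N6101 D14799) (tt N6100 (iv F25744)) (tt N6034 (iv F25657)) (tt N5926 (iv F25375)) (tt N3628 (iv F20221)) (tt N2222 (iv D11424)))
theorem Q3626 : ∀ i, i < 3626 → P i := stepQ 3625 Q3625 (allL N3625 (tt N6102 D14800) (tt N2223 (iv D11425)) (tt N6103 D14801) (tt N6035 (iv F25658)) (tt N5927 (iv F25376)) (tt N6104 D14802) (tt N6101 (iv F25745)))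
theorem Q3627 : ∀ i, i < 3627 → P i := stepQ 3626 Q3626 (allL N3626 (tt N6105 D14803) (tt N2224 (iv D11426)) (tt N6106 D14804) (tt N6036 (iv F25659)) (tt N5928 (iv F25377)) (tt N6107 D14805) (tt N6108 D14806))
theorem Q3628 : ∀ i, i < 3628 → P i := stepQ 3627 Q3627 (allL N3627 (tt N2225 F20219) (tt N6109 D14807) (tt N2224 (iv D11427)) (tt N6110 D14808) (tt N5929 (iv F25379)) (tt N6098 (iv F25742)) (tt N6111 D14809))
theorem Q3629 : ∀ i, i < 3629 → P i := stepQ 3628 Q3628 (allL N3628 (tt N2226 F20220) (tt N6112 D14810) (tt N6111 (iv F25750)) (tt N6038 (iv F25662)) (tt N5930 (iv F25381)) (tt N3624 F20221) (tt N2224 (iv D11428)))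
theorem Q3630 : ∀ i, i < 3630 → P i := stepQ 3629 Q3629 (allL N3629 (tt N6110 (iv F25748)) (tt N2234 F20222) (tt N6113 D14811) (tt N2225 (iv D11429)) (tt N6114 D14812) (tt N6099 (iv F25743)) (tt N6115 D14813))
theorem Q3631 : ∀ i, i < 3631 → P i := stepQ 3630 Q3630 (allL N3630 (tt N6111 (iv F25749)) (tt N3630 F20223) (tt N2226 F20224) (tt N6115 (iv F25754)) (tt N5932 (iv F25386)) (tt N6116 D14814) (tt N2225 (iv D11430)))
theorem Q3632 : ∀ i, i < 3632 → P i := stepQ 3631 Q3631 (allL N3631 (tt N3624 F20225) (tt N6117 D14815) (tt N6116 (iv F25756)) (tt N6041 (iv F25666)) (tt N5933 (iv F25388)) (tt N2226 (iv D11431)) (tt N3622 F20226))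
theorem Q3633 : ∀ i, i < 3633 → P i := stepQ 3632 Q3632 (allL N3632 (tt N3014 (iv F28825)) (tt N2227 (iv D11432)) (tt N2948 F28823) (tt N2853 F20227) (tt N6118 D14817) (tt N2947 (iv F28826)) (tt N5080 (iv F28829)))
theorem Q3634 : ∀ i, i < 3634 → P i := stepQ 3633 Q3633 (allL N3633 (tt N3649 (iv F20248)) (tt N6118 (iv F25760)) (tt N2228 F20228) (tt N6119 D14820) (tt N2227 (iv D11433)) (tt N2364 F20229) (tt N2869 F20230))
theorem Q3635 : ∀ i, i < 3635 → P i := stepQ 3634 Q3634 (allL N3634 (tt N6120 D14821) (tt N2229 (iv D11434)) (tt N2376 F20231) (tt N6121 D14822) (tt N5934 (iv F25391)) (tt N6122 D14823) (tt N6123 D14824))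
theorem Q3636 : ∀ i, i < 3636 → P i := stepQ 3635 Q3635 (allL N3635 (tt N2230 F20232) (tt N6121 (iv F25770)) (tt N3652 (iv F20266)) (tt N2229 (iv D11435)) (tt N6124 D14825) (tt N3635 F20233) (tt N4771 (iv F22324)))
theorem Q3637 : ∀ i, i < 3637 → P i := stepQ 3636 Q3636 (allL N3636 (tt N3652 (iv F20265)) (tt N6125 D14826) (tt N2230 (iv D11436)) (tt N3331 F32938) (tt N6126 D14827) (tt N3636 F20234) (tt N4776 (iv F22330)))
theorem Q3638 : ∀ i, i < 3638 → P i := stepQ 3637 Q3637 (allL N3637 (tt N6124 (iv F25774)) (tt N6076 (iv F25707)) (tt N6126 (iv F25776)) (tt N5937 (iv F25395)) (tt N2230 (iv D11437)) (tt N3637 F20235) (tt N4777 (iv F22331)))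
theorem Q3639 : ∀ i, i < 3639 → P i := stepQ 3638 Q3638 (allL N3638 (tt N3015 (iv F34283)) (tt N2231 (iv D11438)) (tt N2949 (iv F34285)) (tt N2871 F20236) (tt N6127 D14829) (tt N5079 (iv F34292)) (tt N2947 (iv F34293)))
theorem Q3640 : ∀ i, i < 3640 → P i := stepQ 3639 Q3639 (allL N3639 (tt N3658 (iv F20273)) (tt N6127 (iv F25779)) (tt N2232 F20237) (tt N6128 D14832) (tt N2231 (iv D11439)) (tt N2887 F20238) (tt N2378 F20239))
theorem Q3641 : ∀ i, i < 3641 → P i := stepQ 3640 Q3640 (allL N3640 (tt N6129 D14833) (tt N2233 (iv D11440)) (tt N2362 F20240) (tt N6130 D14834) (tt N5938 (iv F25398)) (tt N6131 D14835) (tt N6132 D14836))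
theorem Q3642 : ∀ i, i < 3642 → P i := stepQ 3641 Q3641 (allL N3641 (tt N2234 F20241) (tt N6130 (iv F25789)) (tt N3661 (iv F20291)) (tt N2233 (iv D11441)) (tt N6133 D14837) (tt N4809 (iv F22372)) (tt N3641 F20242))
theorem Q3643 : ∀ i, i < 3643 → P i := stepQ 3642 Q3642 (allL N3642 (tt N3661 (iv F20290)) (tt N6134 D14838) (tt N2234 (iv D11442)) (tt N3353 F32648) (tt N6135 D14839) (tt N4814 (iv F22379)) (tt N3642 F20243))
theorem Q3644 : ∀ i, i < 3644 → P i := stepQ 3643 Q3643 (allL N3643 (tt N6133 (iv F25793)) (tt N6114 (iv F25752)) (tt N6135 (iv F25795)) (tt N5941 (iv F25402)) (tt N2234 (iv D11443)) (tt N4815 (iv F22380)) (tt N3643 F20244))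
theorem Q3645 : ∀ i, i < 3645 → P i := stepQ 3644 Q3644 (allL N3644 (tt N2235 (iv D11444)) (tt N3529 F28941) (tt N3520 (iv F28949)) (tt N6136 D14841) (tt N3529 F28942) (tt N3561 (iv F28950)) (tt N6137 D14844))
theorem Q3646 : ∀ i, i < 3646 → P i := stepQ 3645 Q3645 (allL N3645 (tt N6136 (iv F25797)) (tt N2236 F20245) (tt N6138 D14845) (tt N2235 (iv D11445)) (tt N6139 D14846) (tt N6140 D14847) (tt N6141 D14848))
theorem Q3647 : ∀ i, i < 3647 → P i := stepQ 3646 Q3646 (allL N3646 (tt N3529 F28940) (tt N2237 F20246) (tt N3528 (iv F28945)) (tt N3199 F28889) (tt N2235 (iv D11446)) (tt N3569 (iv F28946)) (tt N6015 (iv F28948)))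
theorem Q3648 : ∀ i, i < 3648 → P i := stepQ 3647 Q3647 (allL N3647 (tt N3561 F28955) (tt N2391 F20247) (tt N3560 (iv F28961)) (tt N6140 (iv F25804)) (tt N3569 F28956) (tt N2235 (iv D11447)) (tt N6142 D14852))
theorem Q3649 : ∀ i, i < 3649 → P i := stepQ 3648 Q3648 (allL N3648 (tt N6137 (iv F25800)) (tt N4846 (iv F22444)) (tt N5200 (iv F23901)) (tt N6141 (iv F25806)) (tt N6015 (iv F28947)) (tt N5999 (iv F28958)) (tt N2235 (iv D11448)))
theorem Q3650 : ∀ i, i < 3650 → P i := stepQ 3649 Q3649 (allL N3649 (tt N3633 F20248) (tt N6139 (iv F25802)) (tt N2822 F20249) (tt N6143 D14854) (tt N2236 (iv D11449)) (tt N2393 F20250) (tt N2832 F20251))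
theorem Q3651 : ∀ i, i < 3651 → P i := stepQ 3650 Q3650 (allL N3650 (tt N3961 (iv F20875)) (tt N3199 (iv F28887)) (tt N3020 F28883) (tt N2237 (iv D11450)) (tt N6143 (iv F25816)) (tt N2395 F20252) (tt N4847 (iv F22448)))
theorem Q3652 : ∀ i, i < 3652 → P i := stepQ 3651 Q3651 (allL N3651 (tt N6144 D14860) (tt N2238 (iv D11455)) (tt N5204 (iv F23912)) (tt N6145 D14861) (tt N5631 (iv F32939)) (tt N6146 D14863) (tt N6147 D14864))
theorem Q3653 : ∀ i, i < 3653 → P i := stepQ 3652 Q3652 (allL N3652 (tt N3636 F20265) (tt N6145 (iv F25831)) (tt N3635 F20266) (tt N2238 (iv D11456)) (tt N6148 D14865) (tt N3652 F20267) (tt N4837 (iv F22417)))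
theorem Q3654 : ∀ i, i < 3654 → P i := stepQ 3653 Q3653 (allL N3653 (tt N2239 (iv D11458)) (tt N3533 (iv F34508)) (tt N3521 (iv F34507)) (tt N6149 D14868) (tt N3533 F34492) (tt N6150 D14870) (tt N3565 F34493))
theorem Q3655 : ∀ i, i < 3655 → P i := stepQ 3654 Q3654 (allL N3654 (tt N6149 (iv F25838)) (tt N2240 F20270) (tt N6151 D14872) (tt N2239 (iv D11459)) (tt N6152 D14873) (tt N6153 D14874) (tt N6154 D14875))
theorem Q3656 : ∀ i, i < 3656 → P i := stepQ 3655 Q3655 (allL N3655 (tt N3533 (iv F34475)) (tt N2241 F20271) (tt N3532 (iv F34478)) (tt N3202 F34190) (tt N2239 (iv D11460)) (tt N6031 (iv F34482)) (tt N3579 F34471))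
theorem Q3657 : ∀ i, i < 3657 → P i := stepQ 3656 Q3656 (allL N3656 (tt N6150 (iv F25840)) (tt N4874 (iv F22519)) (tt N5208 (iv F23933)) (tt N6153 (iv F25845)) (tt N6031 (iv F34481)) (tt N2239 (iv D11461)) (tt N6005 (iv F34504)))
theorem Q3658 : ∀ i, i < 3658 → P i := stepQ 3657 Q3657 (allL N3657 (tt N3565 (iv F34479)) (tt N2409 F20272) (tt N3564 (iv F34477)) (tt N6154 (iv F25847)) (tt N3579 F34468) (tt N6155 D14880) (tt N2239 (iv D11462)))
theorem Q3659 : ∀ i, i < 3659 → P i := stepQ 3658 Q3658 (allL N3658 (tt N3639 F20273) (tt N6152 (iv F25843)) (tt N2842 F20274) (tt N6156 D14881) (tt N2240 (iv D11463)) (tt N2852 F20275) (tt N2410 F20276))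
theorem Q3660 : ∀ i, i < 3660 → P i := stepQ 3659 Q3659 (allL N3659 (tt N3991 (iv F20962)) (tt N3202 (iv F34183)) (tt N3021 F34176) (tt N2241 (iv D11464)) (tt N6156 (iv F25857)) (tt N4876 (iv F22524)) (tt N2412 F20277))
theorem Q3661 : ∀ i, i < 3661 → P i := stepQ 3660 Q3660 (allL N3660 (tt N6157 D14887) (tt N2242 (iv D11469)) (tt N5212 (iv F23947)) (tt N6158 D14888) (tt N5664 (iv F32712)) (tt N6159 D14890) (tt N6160 D14891))
theorem Q3662 : ∀ i, i < 3662 → P i := stepQ 3661 Q3661 (allL N3661 (tt N3642 F20290) (tt N6158 (iv F25872)) (tt N3641 F20291) (tt N2242 (iv D11470)) (tt N6161 D14892) (tt N4866 (iv F22494)) (tt N3661 F20292))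
theorem Q3663 : ∀ i, i < 3663 → P i := stepQ 3662 Q3662 (allL N3662 (tt N2245 F20339) (tt N6162 D14916) (tt N5758 (iv F25046)) (tt N4949 (iv F23387)) (tt N2300 F20340) (tt N2243 (iv D11490)) (tt N3669 (iv F20355)))
theorem Q3664 : ∀ i, i < 3664 → P i := stepQ 3663 Q3663 (allL N3663 (tt N2246 F20341) (tt N6163 D14917) (tt N5759 (iv F25050)) (tt N4950 (iv F23391)) (tt N2301 F20342) (tt N3667 (iv F20350)) (tt N2243 (iv D11491)))
theorem Q3665 : ∀ i, i < 3665 → P i := stepQ 3664 Q3664 (allL N3664 (tt N4949 (iv F23385)) (tt N6164 D14918) (tt N4945 (iv F23376)) (tt N2245 F20343) (tt N2500 F20344) (tt N2244 (iv D11492)) (tt N6165 D14919))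
theorem Q3666 : ∀ i, i < 3666 → P i := stepQ 3665 Q3665 (allL N3665 (tt N4950 (iv F23389)) (tt N6166 D14920) (tt N4946 (iv F23380)) (tt N2246 F20345) (tt N2501 F20346) (tt N6167 D14921) (tt N2244 (iv D11493)))
theorem Q3667 : ∀ i, i < 3667 → P i := stepQ 3666 Q3666 (allL N3666 (tt N3676 (iv F20372)) (tt N2245 (iv D11494)) (tt N3675 F20371) (tt N6164 (iv F25940)) (tt N2304 F20347) (tt N2250 F20348) (tt N6168 D14922))
theorem Q3668 : ∀ i, i < 3668 → P i := stepQ 3667 Q3667 (allL N3667 (tt N3669 (iv F20353)) (tt N6169 D14923) (tt N5763 (iv F25058)) (tt N6165 (iv F25944)) (tt N2305 F20349) (tt N3663 F20350) (tt N2245 (iv D11495)))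
theorem Q3669 : ∀ i, i < 3669 → P i := stepQ 3668 Q3668 (allL N3668 (tt N3679 F34731) (tt N2246 (iv D11496)) (tt N3678 (iv F34735)) (tt N6166 (iv F25947)) (tt N2306 F20351) (tt N6170 D14926) (tt N2251 F20352))
theorem Q3670 : ∀ i, i < 3670 → P i := stepQ 3669 Q3669 (allL N3669 (tt N3667 F20353) (tt N6171 D14927) (tt N5765 (iv F25066)) (tt N6167 (iv F25952)) (tt N2307 F20354) (tt N2246 (iv D11497)) (tt N3662 F20355))
theorem Q3671 : ∀ i, i < 3671 → P i := stepQ 3670 Q3670 (allL N3670 (tt N6172 D14928) (tt N2247 (iv D11498)) (tt N4942 (iv F23372)) (tt N3670 F20356) (tt N2506 F20357) (tt N6173 D14929) (tt N6174 D14930))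
theorem Q3672 : ∀ i, i < 3672 → P i := stepQ 3671 Q3671 (allL N3671 (tt N2252 F20358) (tt N6175 D14931) (tt N2248 F20359) (tt N3671 F20360) (tt N2508 F20361) (tt N2247 (iv D11499)) (tt N3684 (iv F20393)))
theorem Q3673 : ∀ i, i < 3673 → P i := stepQ 3672 Q3672 (allL N3672 (tt N2253 F20362) (tt N6176 D14932) (tt N2249 F20363) (tt N3672 F20364) (tt N2509 F20365) (tt N3682 (iv F20385)) (tt N2247 (iv D11500)))
theorem Q3674 : ∀ i, i < 3674 → P i := stepQ 3673 Q3673 (allL N3673 (tt N6177 D14933) (tt N2248 (iv D11501)) (tt N6178 D14934) (tt N2250 F20366) (tt N2510 F20367) (tt N6164 (iv F25942)) (tt N6179 D14935))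
theorem Q3675 : ∀ i, i < 3675 → P i := stepQ 3674 Q3674 (allL N3674 (tt N6180 D14936) (tt N2249 (iv D11502)) (tt N6181 D14937) (tt N2251 F20368) (tt N2511 F20369) (tt N6182 D14938) (tt N6166 (iv F25949)))
theorem Q3676 : ∀ i, i < 3676 → P i := stepQ 3675 Q3675 (allL N3675 (tt N2250 (iv D11503)) (tt N6183 D14939) (tt N3666 (iv F20371)) (tt N6177 (iv F25973)) (tt N2308 F20370) (tt N3676 (iv F20374)) (tt N6184 D14940))
theorem Q3677 : ∀ i, i < 3677 → P i := stepQ 3676 Q3676 (allL N3676 (tt N3666 F20372) (tt N5847 (iv F25218)) (tt N2250 (iv D11504)) (tt N6185 D14941) (tt N2309 F20373) (tt N3675 F20374) (tt N6186 D14942))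
theorem Q3678 : ∀ i, i < 3678 → P i := stepQ 3677 Q3677 (allL N3677 (tt N6184 (iv F25986)) (tt N3708 (iv F20436)) (tt N6186 (iv F25993)) (tt N6179 (iv F25976)) (tt N2310 F20375) (tt N6186 (iv F25995)) (tt N2250 (iv D11505)))
theorem Q3679 : ∀ i, i < 3679 → P i := stepQ 3678 Q3678 (allL N3678 (tt N2251 (iv D11506)) (tt N6187 D14943) (tt N3668 F34735) (tt N6180 (iv F25978)) (tt N2311 F20376) (tt N6188 D14945) (tt N3679 F34736))
theorem Q3680 : ∀ i, i < 3680 → P i := stepQ 3679 Q3679 (allL N3679 (tt N3668 (iv F34731)) (tt N5850 (iv F25226)) (tt N2251 (iv D11507)) (tt N6189 D14946) (tt N2312 F20377) (tt N6190 D14947) (tt N3678 (iv F34736)))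
theorem Q3681 : ∀ i, i < 3681 → P i := stepQ 3680 Q3680 (allL N3680 (tt N6188 (iv F26000)) (tt N3700 (iv F20423)) (tt N6190 (iv F26003)) (tt N6182 (iv F25981)) (tt N2313 F20378) (tt N2251 (iv D11508)) (tt N6190 (iv F34734)))
theorem Q3682 : ∀ i, i < 3682 → P i := stepQ 3681 Q3681 (allL N3681 (tt N3681 F23997) (tt N2252 (iv D11509)) (tt N6191 D14949) (tt N3681 F20379) (tt N2520 F20380) (tt N3681 F20381) (tt N6192 D14950))
theorem Q3683 : ∀ i, i < 3683 → P i := stepQ 3682 Q3682 (allL N3682 (tt N3684 (iv F20389)) (tt N6193 D14951) (tt N2255 F20382) (tt N3682 F20383) (tt N2521 F20384) (tt N3672 F20385) (tt N2252 (iv D11510)))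
theorem Q3684 : ∀ i, i < 3684 → P i := stepQ 3683 Q3683 (allL N3683 (tt N3683 F34689) (tt N2253 (iv D11511)) (tt N6194 D14953) (tt N3683 F20386) (tt N2522 F20387) (tt N6195 D14954) (tt N3683 F20388))
theorem Q3685 : ∀ i, i < 3685 → P i := stepQ 3684 Q3684 (allL N3684 (tt N3682 F20389) (tt N6196 D14955) (tt N2257 F20390) (tt N3684 F20391) (tt N2523 F20392) (tt N2253 (iv D11512)) (tt N3671 F20393))
theorem Q3686 : ∀ i, i < 3686 → P i := stepQ 3685 Q3685 (allL N3685 (tt N2254 (iv D11513)) (tt N6197 D14956) (tt N6198 D14957) (tt N2258 F20394) (tt N2524 F20395) (tt N2266 F20396) (tt N3714 (iv F20452)))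
theorem Q3687 : ∀ i, i < 3687 → P i := stepQ 3686 Q3686 (allL N3686 (tt N6198 (iv F26031)) (tt N6191 (iv F26010)) (tt N2254 (iv D11514)) (tt N6199 D14958) (tt N2525 F20397) (tt N2267 F20398) (tt N6200 D14959))
theorem Q3688 : ∀ i, i < 3688 → P i := stepQ 3687 Q3687 (allL N3687 (tt N3714 (iv F20449)) (tt N6201 D14960) (tt N6200 (iv F26035)) (tt N2260 F20399) (tt N2526 F20400) (tt N3711 (iv F20445)) (tt N2254 (iv D11515)))
theorem Q3689 : ∀ i, i < 3689 → P i := stepQ 3688 Q3688 (allL N3688 (tt N6202 D14961) (tt N2255 (iv D11516)) (tt N6203 D14962) (tt N2261 F20401) (tt N2527 F20402) (tt N6204 D14963) (tt N6201 (iv F26039)))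
theorem Q3690 : ∀ i, i < 3690 → P i := stepQ 3689 Q3689 (allL N3689 (tt N2256 (iv D11517)) (tt N6205 D14964) (tt N6206 D14965) (tt N2262 F20403) (tt N2528 F20404) (tt N3720 (iv F20467)) (tt N2269 F20405))
theorem Q3691 : ∀ i, i < 3691 → P i := stepQ 3690 Q3690 (allL N3690 (tt N6206 (iv F26048)) (tt N6194 (iv F26022)) (tt N2256 (iv D11518)) (tt N6207 D14966) (tt N2529 F20406) (tt N6208 D14967) (tt N2270 F20407))
theorem Q3692 : ∀ i, i < 3692 → P i := stepQ 3691 Q3691 (allL N3691 (tt N3720 (iv F20464)) (tt N6209 D14968) (tt N6208 (iv F26052)) (tt N2264 F20408) (tt N2530 F20409) (tt N2256 (iv D11519)) (tt N3717 (iv F20460)))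
theorem Q3693 : ∀ i, i < 3693 → P i := stepQ 3692 Q3692 (allL N3692 (tt N6210 D14969) (tt N2257 (iv D11520)) (tt N6211 D14970) (tt N2265 F20410) (tt N2531 F20411) (tt N6209 (iv F26056)) (tt N6212 D14971))
theorem Q3694 : ∀ i, i < 3694 → P i := stepQ 3693 Q3693 (allL N3693 (tt N6213 D14972) (tt N2258 (iv D11521)) (tt N6214 D14973) (tt N6197 (iv F26029)) (tt N2314 F20412) (tt N6215 D14974) (tt N6216 D14975))
theorem Q3695 : ∀ i, i < 3695 → P i := stepQ 3694 Q3694 (allL N3694 (tt N2259 F20413) (tt N6217 D14976) (tt N2258 (iv D11522)) (tt N6218 D14977) (tt N2315 F20414) (tt N2273 F20415) (tt N3732 (iv F20490)))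
theorem Q3696 : ∀ i, i < 3696 → P i := stepQ 3695 Q3695 (allL N3695 (tt N6218 (iv F26069)) (tt N5854 (iv F25235)) (tt N6219 D14978) (tt N2259 (iv D11523)) (tt N6220 D14979) (tt N2275 F20416) (tt N6221 D14980))
theorem Q3697 : ∀ i, i < 3697 → P i := stepQ 3696 Q3696 (allL N3696 (tt N3732 (iv F20487)) (tt N6222 D14981) (tt N2260 F20417) (tt N6221 (iv F26074)) (tt N2317 F20418) (tt N3726 (iv F20480)) (tt N2259 (iv D11524)))
theorem Q3698 : ∀ i, i < 3698 → P i := stepQ 3697 Q3697 (allL N3697 (tt N6223 D14982) (tt N2260 (iv D11525)) (tt N6224 D14983) (tt N6201 (iv F26037)) (tt N2318 F20419) (tt N6225 D14984) (tt N2261 F20420))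
theorem Q3699 : ∀ i, i < 3699 → P i := stepQ 3698 Q3698 (allL N3698 (tt N2261 (iv D11526)) (tt N6226 D14985) (tt N6227 D14986) (tt N6202 (iv F26040)) (tt N2319 F20421) (tt N6228 D14987) (tt N6223 (iv F26077)))
theorem Q3700 : ∀ i, i < 3700 → P i := stepQ 3699 Q3699 (allL N3699 (tt N6227 (iv F26083)) (tt N5858 (iv F25242)) (tt N2261 (iv D11527)) (tt N6229 D14988) (tt N2320 F20422) (tt N6230 D14989) (tt N6224 (iv F26079)))
theorem Q3701 : ∀ i, i < 3701 → P i := stepQ 3700 Q3700 (allL N3700 (tt N6228 (iv F26085)) (tt N3680 F20423) (tt N6230 (iv F26089)) (tt N6204 (iv F26044)) (tt N2321 F20424) (tt N2261 (iv D11528)) (tt N6231 D14990))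
theorem Q3702 : ∀ i, i < 3702 → P i := stepQ 3701 Q3701 (allL N3701 (tt N6232 D14991) (tt N2262 (iv D11529)) (tt N6233 D14992) (tt N6205 (iv F26046)) (tt N2322 F20425) (tt N6234 D14993) (tt N6235 D14994))
theorem Q3703 : ∀ i, i < 3703 → P i := stepQ 3702 Q3702 (allL N3702 (tt N2263 F20426) (tt N6236 D14995) (tt N2262 (iv D11530)) (tt N6237 D14996) (tt N2323 F20427) (tt N3745 (iv F20512)) (tt N2279 F20428))
theorem Q3704 : ∀ i, i < 3704 → P i := stepQ 3703 Q3703 (allL N3703 (tt N6237 (iv F26100)) (tt N5862 (iv F25250)) (tt N6238 D14997) (tt N2263 (iv D11531)) (tt N6239 D14998) (tt N6240 D14999) (tt N2281 F20429))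
theorem Q3705 : ∀ i, i < 3705 → P i := stepQ 3704 Q3704 (allL N3704 (tt N3745 (iv F20509)) (tt N6241 D15000) (tt N2264 F20430) (tt N6240 (iv F26105)) (tt N2325 F20431) (tt N2263 (iv D11532)) (tt N3739 (iv F20502)))
theorem Q3706 : ∀ i, i < 3706 → P i := stepQ 3705 Q3705 (allL N3705 (tt N6242 D15001) (tt N2264 (iv D11533)) (tt N6243 D15002) (tt N6209 (iv F26054)) (tt N2326 F20432) (tt N2265 F20433) (tt N6244 D15003))
theorem Q3707 : ∀ i, i < 3707 → P i := stepQ 3706 Q3706 (allL N3706 (tt N2265 (iv D11534)) (tt N6245 D15004) (tt N6246 D15005) (tt N6210 (iv F26057)) (tt N2327 F20434) (tt N6242 (iv F26108)) (tt N6247 D15006))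
theorem Q3708 : ∀ i, i < 3708 → P i := stepQ 3707 Q3707 (allL N3707 (tt N6246 (iv F26114)) (tt N5866 (iv F25259)) (tt N2265 (iv D11535)) (tt N6248 D15007) (tt N2328 F20435) (tt N6243 (iv F26110)) (tt N6249 D15008))
theorem Q3709 : ∀ i, i < 3709 → P i := stepQ 3708 Q3708 (allL N3708 (tt N6247 (iv F26116)) (tt N3677 F20436) (tt N6249 (iv F26120)) (tt N6212 (iv F26061)) (tt N2329 F20437) (tt N6250 D15009) (tt N2265 (iv D11536)))
theorem Q3710 : ∀ i, i < 3710 → P i := stepQ 3709 Q3709 (allL N3709 (tt N4962 (iv F23421)) (tt N2266 (iv D11537)) (tt N4961 F23420) (tt N2272 F20438) (tt N2548 F20439) (tt N6251 D15010) (tt N6252 D15011))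
theorem Q3711 : ∀ i, i < 3711 → P i := stepQ 3710 Q3710 (allL N3710 (tt N2267 F20440) (tt N6253 D15012) (tt N2266 (iv D11538)) (tt N6254 D15013) (tt N2549 F20441) (tt N6198 (iv F26033)) (tt N6255 D15014))
theorem Q3712 : ∀ i, i < 3712 → P i := stepQ 3711 Q3711 (allL N3711 (tt N2268 F20442) (tt N6256 D15015) (tt N6255 (iv F26132)) (tt N2274 F20443) (tt N2550 F20444) (tt N3687 F20445) (tt N2266 (iv D11539)))
theorem Q3713 : ∀ i, i < 3713 → P i := stepQ 3712 Q3712 (allL N3712 (tt N6254 (iv F26130)) (tt N3712 F20446) (tt N6257 D15016) (tt N2267 (iv D11540)) (tt N6258 D15017) (tt N6199 (iv F26034)) (tt N6259 D15018))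
theorem Q3714 : ∀ i, i < 3714 → P i := stepQ 3713 Q3713 (allL N3713 (tt N6255 (iv F26131)) (tt N6260 D15019) (tt N2268 F20447) (tt N6259 (iv F26139)) (tt N2552 F20448) (tt N6261 D15020) (tt N2267 (iv D11541)))
theorem Q3715 : ∀ i, i < 3715 → P i := stepQ 3714 Q3714 (allL N3714 (tt N3687 F20449) (tt N6262 D15021) (tt N6261 (iv F26143)) (tt N2277 F20450) (tt N2554 F20451) (tt N2268 (iv D11542)) (tt N3685 F20452))
theorem Q3716 : ∀ i, i < 3716 → P i := stepQ 3715 Q3715 (allL N3715 (tt N4965 (iv F23452)) (tt N2269 (iv D11543)) (tt N4964 F23429) (tt N2278 F20453) (tt N2558 F20454) (tt N6263 D15022) (tt N6264 D15023))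
theorem Q3717 : ∀ i, i < 3717 → P i := stepQ 3716 Q3716 (allL N3716 (tt N2270 F20455) (tt N6265 D15024) (tt N2269 (iv D11544)) (tt N6266 D15025) (tt N2559 F20456) (tt N6267 D15026) (tt N6206 (iv F26050)))
theorem Q3718 : ∀ i, i < 3718 → P i := stepQ 3717 Q3717 (allL N3717 (tt N2271 F20457) (tt N6268 D15027) (tt N6267 (iv F26155)) (tt N2280 F20458) (tt N2560 F20459) (tt N2269 (iv D11545)) (tt N3691 F20460))
theorem Q3719 : ∀ i, i < 3719 → P i := stepQ 3718 Q3718 (allL N3718 (tt N6266 (iv F26153)) (tt N3718 F20461) (tt N6269 D15028) (tt N2270 (iv D11546)) (tt N6270 D15029) (tt N6271 D15030) (tt N6207 (iv F26051)))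
theorem Q3720 : ∀ i, i < 3720 → P i := stepQ 3719 Q3719 (allL N3719 (tt N6267 (iv F26154)) (tt N6272 D15031) (tt N2271 F20462) (tt N6271 (iv F26162)) (tt N2562 F20463) (tt N2270 (iv D11547)) (tt N6273 D15032))
theorem Q3721 : ∀ i, i < 3721 → P i := stepQ 3720 Q3720 (allL N3720 (tt N3691 F20464) (tt N6274 D15033) (tt N6273 (iv F26166)) (tt N2283 F20465) (tt N2564 F20466) (tt N3689 F20467) (tt N2271 (iv D11548)))
theorem Q3722 : ∀ i, i < 3722 → P i := stepQ 3721 Q3721 (allL N3721 (tt N2272 (iv D11549)) (tt N2568 F20468) (tt N2272 (iv F20470)) (tt N4962 (iv F23424)) (tt N2330 F20469) (tt N6275 D15034) (tt N6276 D15035))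
theorem Q3723 : ∀ i, i < 3723 → P i := stepQ 3722 Q3722 (allL N3722 (tt N6275 (iv F26171)) (tt N6215 (iv F26065)) (tt N6275 (iv F26172)) (tt N6251 (iv F26125)) (tt N2331 F20471) (tt N2272 (iv D11550)) (tt N6277 D15036))
theorem Q3724 : ∀ i, i < 3724 → P i := stepQ 3723 Q3723 (allL N3723 (tt N6276 (iv F26174)) (tt N6278 D15037) (tt N6276 (iv F26175)) (tt N6252 (iv F26127)) (tt N2332 F20472) (tt N6279 D15038) (tt N2272 (iv D11551)))
theorem Q3725 : ∀ i, i < 3725 → P i := stepQ 3724 Q3724 (allL N3724 (tt N2569 (iv F20475)) (tt N2273 (iv D11552)) (tt N2568 F20473) (tt N6280 D15039) (tt N2333 F20474) (tt N6281 D15040) (tt N6282 D15041))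
theorem Q3726 : ∀ i, i < 3726 → P i := stepQ 3725 Q3725 (allL N3725 (tt N2275 F20476) (tt N6280 (iv F26186)) (tt N6283 D15042) (tt N2273 (iv D11553)) (tt N6284 D15043) (tt N6218 (iv F26070)) (tt N6285 D15044))
theorem Q3727 : ∀ i, i < 3727 → P i := stepQ 3726 Q3726 (allL N3726 (tt N2276 F20477) (tt N6286 D15045) (tt N2274 F20478) (tt N6285 (iv F26199)) (tt N2335 F20479) (tt N3696 F20480) (tt N2273 (iv D11554)))
theorem Q3728 : ∀ i, i < 3728 → P i := stepQ 3727 Q3727 (allL N3727 (tt N6287 D15046) (tt N2274 (iv D11555)) (tt N6288 D15047) (tt N6256 (iv F26135)) (tt N2336 F20481) (tt N6289 D15048) (tt N6278 (iv F26180)))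
theorem Q3729 : ∀ i, i < 3729 → P i := stepQ 3728 Q3728 (allL N3728 (tt N6283 (iv F26194)) (tt N5898 (iv F25325)) (tt N2275 (iv D11556)) (tt N6290 D15049) (tt N6291 D15050) (tt N6219 (iv F26071)) (tt N6292 D15051))
theorem Q3730 : ∀ i, i < 3730 → P i := stepQ 3729 Q3729 (allL N3729 (tt N6284 (iv F26196)) (tt N2287 F20482) (tt N6291 (iv F26209)) (tt N2338 F20483) (tt N2275 (iv D11557)) (tt N6220 (iv F26073)) (tt N6293 D15052))
theorem Q3731 : ∀ i, i < 3731 → P i := stepQ 3730 Q3730 (allL N3730 (tt N6285 (iv F26198)) (tt N6294 D15053) (tt N6292 (iv F26210)) (tt N2276 F20484) (tt N6293 (iv F26212)) (tt N6295 D15054) (tt N2275 (iv D11558)))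
theorem Q3732 : ∀ i, i < 3732 → P i := stepQ 3731 Q3731 (allL N3731 (tt N6296 D15055) (tt N2276 (iv D11559)) (tt N3766 (iv F20549)) (tt N6294 (iv F26213)) (tt N2340 F20485) (tt N6297 D15056) (tt N2289 F20486))
theorem Q3733 : ∀ i, i < 3733 → P i := stepQ 3732 Q3732 (allL N3732 (tt N3696 F20487) (tt N6298 D15057) (tt N2277 F20488) (tt N6295 (iv F26216)) (tt N2341 F20489) (tt N2276 (iv D11560)) (tt N3694 F20490))
theorem Q3734 : ∀ i, i < 3734 → P i := stepQ 3733 Q3733 (allL N3733 (tt N6299 D15058) (tt N2277 (iv D11561)) (tt N6300 D15059) (tt N6262 (iv F26146)) (tt N2342 F20491) (tt N4377 (iv F21677)) (tt N6301 D15060))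
theorem Q3735 : ∀ i, i < 3735 → P i := stepQ 3734 Q3734 (allL N3734 (tt N2278 (iv D11562)) (tt N2591 F20492) (tt N2278 F23430) (tt N4965 (iv F23455)) (tt N2343 F20493) (tt N6302 D15061) (tt N6303 D15062))
theorem Q3736 : ∀ i, i < 3736 → P i := stepQ 3735 Q3735 (allL N3735 (tt N6302 (iv F26227)) (tt N6304 D15063) (tt N6302 (iv F26228)) (tt N6263 (iv F26148)) (tt N2344 F20495) (tt N2278 (iv D11564)) (tt N6305 D15064))
theorem Q3737 : ∀ i, i < 3737 → P i := stepQ 3736 Q3736 (allL N3736 (tt N6303 (iv F26230)) (tt N6235 (iv F26097)) (tt N6303 (iv F26231)) (tt N6264 (iv F26150)) (tt N2345 F20496) (tt N6306 D15065) (tt N2278 (iv D11565)))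
theorem Q3738 : ∀ i, i < 3738 → P i := stepQ 3737 Q3737 (allL N3737 (tt N2592 F23437) (tt N2279 (iv D11566)) (tt N2591 F23438) (tt N6307 D15066) (tt N2346 F20497) (tt N6308 D15067) (tt N6309 D15068))
theorem Q3739 : ∀ i, i < 3739 → P i := stepQ 3738 Q3738 (allL N3738 (tt N2281 F20498) (tt N6307 (iv F26243)) (tt N6310 D15069) (tt N2279 (iv D11567)) (tt N6311 D15070) (tt N6312 D15071) (tt N6237 (iv F26101)))
theorem Q3740 : ∀ i, i < 3740 → P i := stepQ 3739 Q3739 (allL N3739 (tt N2282 F20499) (tt N6313 D15072) (tt N2280 F20500) (tt N6312 (iv F26256)) (tt N2348 F20501) (tt N2279 (iv D11568)) (tt N3704 F20502))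
theorem Q3741 : ∀ i, i < 3741 → P i := stepQ 3740 Q3740 (allL N3740 (tt N6314 D15073) (tt N2280 (iv D11569)) (tt N6315 D15074) (tt N6268 (iv F26158)) (tt N2349 F20503) (tt N6304 (iv F26234)) (tt N6316 D15075))
theorem Q3742 : ∀ i, i < 3742 → P i := stepQ 3741 Q3741 (allL N3741 (tt N6310 (iv F26251)) (tt N5920 (iv F25363)) (tt N2281 (iv D11570)) (tt N6317 D15076) (tt N6318 D15077) (tt N6319 D15078) (tt N6238 (iv F26102)))
theorem Q3743 : ∀ i, i < 3743 → P i := stepQ 3742 Q3742 (allL N3742 (tt N6311 (iv F26253)) (tt N2293 F20504) (tt N6318 (iv F26266)) (tt N2351 F20505) (tt N2281 (iv D11571)) (tt N6320 D15079) (tt N6239 (iv F26104)))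
theorem Q3744 : ∀ i, i < 3744 → P i := stepQ 3743 Q3743 (allL N3743 (tt N6312 (iv F26255)) (tt N6321 D15080) (tt N6319 (iv F26267)) (tt N2282 F20506) (tt N6320 (iv F26269)) (tt N2281 (iv D11572)) (tt N6322 D15081))
theorem Q3745 : ∀ i, i < 3745 → P i := stepQ 3744 Q3744 (allL N3744 (tt N6323 D15082) (tt N2282 (iv D11573)) (tt N3756 (iv F20530)) (tt N6321 (iv F26270)) (tt N2353 F20507) (tt N2295 F20508) (tt N6324 D15083))
theorem Q3746 : ∀ i, i < 3746 → P i := stepQ 3745 Q3745 (allL N3745 (tt N3704 F20509) (tt N6325 D15084) (tt N2283 F20510) (tt N6322 (iv F26273)) (tt N2354 F20511) (tt N3702 F20512) (tt N2282 (iv D11574)))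
theorem Q3747 : ∀ i, i < 3747 → P i := stepQ 3746 Q3746 (allL N3746 (tt N6326 D15085) (tt N2283 (iv D11575)) (tt N6327 D15086) (tt N6274 (iv F26169)) (tt N2355 F20513) (tt N6328 D15087) (tt N4326 (iv F21587)))
theorem Q3748 : ∀ i, i < 3748 → P i := stepQ 3747 Q3747 (allL N3747 (tt N2284 (iv D11576)) (tt N6329 D15088) (tt N3747 F20514) (tt N6330 D15089) (tt N2356 F20515) (tt N6331 D15090) (tt N6332 D15091))
theorem Q3749 : ∀ i, i < 3749 → P i := stepQ 3748 Q3748 (allL N3748 (tt N6330 (iv F26287)) (tt N2285 F20516) (tt N6333 D15092) (tt N2284 (iv D11577)) (tt N6334 D15093) (tt N6335 D15094) (tt N6336 D15095))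
theorem Q3750 : ∀ i, i < 3750 → P i := stepQ 3749 Q3749 (allL N3749 (tt N6331 (iv F26288)) (tt N3769 (iv F20554)) (tt N3749 F20517) (tt N6335 (iv F26296)) (tt N2358 F20518) (tt N2284 (iv D11578)) (tt N6337 D15096))
theorem Q3751 : ∀ i, i < 3751 → P i := stepQ 3750 Q3750 (allL N3750 (tt N6332 (iv F26291)) (tt N6338 D15097) (tt N3750 F20519) (tt N6336 (iv F26297)) (tt N2359 F20520) (tt N6339 D15098) (tt N2284 (iv D11579)))
theorem Q3752 : ∀ i, i < 3752 → P i := stepQ 3751 Q3751 (allL N3751 (tt N2287 F20521) (tt N6334 (iv F26294)) (tt N3771 (iv F20561)) (tt N2360 F20522) (tt N2285 (iv D11580)) (tt N3771 (iv F20563)) (tt N4393 (iv F21711)))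
theorem Q3753 : ∀ i, i < 3753 → P i := stepQ 3752 Q3752 (allL N3752 (tt N6340 D15099) (tt N2286 (iv D11581)) (tt N5938 (iv F25397)) (tt N4392 (iv F21706)) (tt N2362 F20523) (tt N6341 D15100) (tt N6338 (iv F26302)))
theorem Q3754 : ∀ i, i < 3754 → P i := stepQ 3753 Q3753 (allL N3753 (tt N4393 (iv F21707)) (tt N6342 D15101) (tt N4391 (iv F21703)) (tt N2366 F20524) (tt N2288 F20525) (tt N2623 (iv F20526)) (tt N2287 (iv D11582)))
theorem Q3755 : ∀ i, i < 3755 → P i := stepQ 3754 Q3754 (allL N3754 (tt N6343 D15102) (tt N2288 (iv D11583)) (tt N6344 D15103) (tt N2289 F20527) (tt N6342 (iv F26311)) (tt N6345 D15104) (tt N6294 (iv F26214)))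
theorem Q3756 : ∀ i, i < 3756 → P i := stepQ 3755 Q3755 (allL N3755 (tt N2289 (iv D11584)) (tt N6346 D15105) (tt N3765 (iv F20546)) (tt N6343 (iv F26312)) (tt N2368 F20528) (tt N6347 D15106) (tt N6296 (iv F26219)))
theorem Q3757 : ∀ i, i < 3757 → P i := stepQ 3756 Q3756 (allL N3756 (tt N6347 (iv F26316)) (tt N2589 F20529) (tt N3744 F20530) (tt N6345 (iv F26314)) (tt N2369 F20531) (tt N2289 (iv D11585)) (tt N6348 D15107))
theorem Q3758 : ∀ i, i < 3758 → P i := stepQ 3757 Q3757 (allL N3757 (tt N2290 (iv D11586)) (tt N6349 D15108) (tt N3757 F20532) (tt N6350 D15109) (tt N2370 F20533) (tt N6351 D15110) (tt N6352 D15111))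
theorem Q3759 : ∀ i, i < 3759 → P i := stepQ 3758 Q3758 (allL N3758 (tt N6350 (iv F26327)) (tt N2291 F20534) (tt N6353 D15112) (tt N2290 (iv D11587)) (tt N6354 D15113) (tt N6355 D15114) (tt N6356 D15115))
theorem Q3760 : ∀ i, i < 3760 → P i := stepQ 3759 Q3759 (allL N3759 (tt N6351 (iv F26328)) (tt N6357 D15116) (tt N3759 F20535) (tt N6355 (iv F26336)) (tt N2372 F20536) (tt N2290 (iv D11588)) (tt N6358 D15117))
theorem Q3761 : ∀ i, i < 3761 → P i := stepQ 3760 Q3760 (allL N3760 (tt N6352 (iv F26331)) (tt N3775 (iv F20571)) (tt N3760 F20537) (tt N6356 (iv F26337)) (tt N2373 F20538) (tt N6359 D15118) (tt N2290 (iv D11589)))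
theorem Q3762 : ∀ i, i < 3762 → P i := stepQ 3761 Q3761 (allL N3761 (tt N2293 F20539) (tt N6354 (iv F26334)) (tt N3776 (iv F20575)) (tt N2374 F20540) (tt N2291 (iv D11590)) (tt N4409 (iv F21744)) (tt N3776 (iv F20578)))
theorem Q3763 : ∀ i, i < 3763 → P i := stepQ 3762 Q3762 (allL N3762 (tt N6360 D15119) (tt N2292 (iv D11591)) (tt N5934 (iv F25390)) (tt N4408 (iv F21740)) (tt N2376 F20541) (tt N6357 (iv F26339)) (tt N6361 D15120))
theorem Q3764 : ∀ i, i < 3764 → P i := stepQ 3763 Q3763 (allL N3763 (tt N4409 (iv F21741)) (tt N6362 D15121) (tt N4407 (iv F21737)) (tt N2380 F20542) (tt N2294 F20543) (tt N2293 (iv D11592)) (tt N2633 (iv F20544)))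
theorem Q3765 : ∀ i, i < 3765 → P i := stepQ 3764 Q3764 (allL N3764 (tt N6363 D15122) (tt N2294 (iv D11593)) (tt N6364 D15123) (tt N2295 F20545) (tt N6362 (iv F26351)) (tt N6321 (iv F26271)) (tt N6365 D15124))
theorem Q3766 : ∀ i, i < 3766 → P i := stepQ 3765 Q3765 (allL N3765 (tt N2295 (iv D11594)) (tt N6366 D15125) (tt N3755 F20546) (tt N6363 (iv F26352)) (tt N2382 F20547) (tt N6323 (iv F26276)) (tt N6367 D15126))
theorem Q3767 : ∀ i, i < 3767 → P i := stepQ 3766 Q3766 (allL N3766 (tt N6367 (iv F26356)) (tt N2612 F20548) (tt N3731 F20549) (tt N6365 (iv F26354)) (tt N2383 F20550) (tt N6368 D15127) (tt N2295 (iv D11595)))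
theorem Q3768 : ∀ i, i < 3768 → P i := stepQ 3767 Q3767 (allL N3767 (tt N2296 (iv D11596)) (tt N6369 D15128) (tt N2616 F20551) (tt N6370 D15129) (tt N2817 F20552) (tt N6371 D15130) (tt N6372 D15131))
theorem Q3769 : ∀ i, i < 3769 → P i := stepQ 3768 Q3768 (allL N3768 (tt N6370 (iv F26365)) (tt N2297 F20553) (tt N6373 D15132) (tt N2296 (iv D11597)) (tt N6374 D15133) (tt N6375 D15134) (tt N6376 D15135))
theorem Q3770 : ∀ i, i < 3770 → P i := stepQ 3769 Q3769 (allL N3769 (tt N6371 (iv F26366)) (tt N3749 F20554) (tt N2617 F20555) (tt N6375 (iv F26376)) (tt N2820 F20556) (tt N2296 (iv D11598)) (tt N6377 D15136))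
theorem Q3771 : ∀ i, i < 3771 → P i := stepQ 3770 Q3770 (allL N3770 (tt N6372 (iv F26369)) (tt N2582 F20557) (tt N2579 F20558) (tt N6376 (iv F26378)) (tt N2738 F20559) (tt N6378 D15137) (tt N2296 (iv D11599)))
theorem Q3772 : ∀ i, i < 3772 → P i := stepQ 3771 Q3771 (allL N3771 (tt N3510 F20560) (tt N6374 (iv F26373)) (tt N3751 F20561) (tt N2822 F20562) (tt N2297 (iv D11600)) (tt N3751 F20563) (tt N2623 F20564))
theorem Q3773 : ∀ i, i < 3773 → P i := stepQ 3772 Q3772 (allL N3772 (tt N2298 (iv D11601)) (tt N6379 D15138) (tt N2626 F20565) (tt N6380 D15139) (tt N2837 F20566) (tt N6381 D15140) (tt N6382 D15141))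
theorem Q3774 : ∀ i, i < 3774 → P i := stepQ 3773 Q3773 (allL N3773 (tt N6380 (iv F26387)) (tt N2299 F20567) (tt N6383 D15142) (tt N2298 (iv D11602)) (tt N6384 D15143) (tt N6385 D15144) (tt N6386 D15145))
theorem Q3775 : ∀ i, i < 3775 → P i := stepQ 3774 Q3774 (allL N3774 (tt N6381 (iv F26388)) (tt N2605 F20568) (tt N2602 F20569) (tt N6385 (iv F26398)) (tt N2789 F20570) (tt N2298 (iv D11603)) (tt N6387 D15146))
theorem Q3776 : ∀ i, i < 3776 → P i := stepQ 3775 Q3775 (allL N3775 (tt N6382 (iv F26391)) (tt N3760 F20571) (tt N2627 F20572) (tt N6386 (iv F26400)) (tt N2840 F20573) (tt N6388 D15147) (tt N2298 (iv D11604)))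
theorem Q3777 : ∀ i, i < 3777 → P i := stepQ 3776 Q3776 (allL N3776 (tt N3513 F20574) (tt N6384 (iv F26395)) (tt N3761 F20575) (tt N2842 F20576) (tt N2299 (iv D11605)) (tt N2633 F20577) (tt N3761 F20578))
theorem Q3778 : ∀ i, i < 3778 → P i := stepQ 3777 Q3777 (allL N3777 (tt N4555 (iv F21971)) (tt N2300 (iv D11606)) (tt N6389 D15148) (tt N2643 F20579) (tt N6162 (iv F25936)) (tt N2643 F20580) (tt N6390 D15149))
theorem Q3779 : ∀ i, i < 3779 → P i := stepQ 3778 Q3778 (allL N3778 (tt N4658 (iv F22139)) (tt N2301 (iv D11607)) (tt N6391 D15150) (tt N2644 F20581) (tt N6163 (iv F25938)) (tt N6392 D15151) (tt N2644 F20582))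
theorem Q3780 : ∀ i, i < 3780 → P i := stepQ 3779 Q3779 (allL N3779 (tt N6393 D15152) (tt N2302 (iv D11608)) (tt N3787 (iv F20595)) (tt N5806 (iv F25153)) (tt N5762 (iv F25056)) (tt N5772 (iv F25085)) (tt N6394 D15153))
theorem Q3781 : ∀ i, i < 3781 → P i := stepQ 3780 Q3780 (allL N3780 (tt N3782 (iv F20585)) (tt N6395 D15154) (tt N2305 F20583) (tt N5807 (iv F25156)) (tt N5763 (iv F25060)) (tt N3432 F20584) (tt N2302 (iv D11609)))
theorem Q3782 : ∀ i, i < 3782 → P i := stepQ 3781 Q3781 (allL N3781 (tt N6396 D15155) (tt N2303 (iv D11610)) (tt N3790 F34765) (tt N5808 (iv F25159)) (tt N5764 (iv F25063)) (tt N6397 D15157) (tt N5773 (iv F25089)))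
theorem Q3783 : ∀ i, i < 3783 → P i := stepQ 3782 Q3782 (allL N3782 (tt N3780 F20585) (tt N6398 D15158) (tt N2307 F20586) (tt N5809 (iv F25163)) (tt N5765 (iv F25068)) (tt N2303 (iv D11611)) (tt N3431 F20587))
theorem Q3784 : ∀ i, i < 3784 → P i := stepQ 3783 Q3783 (allL N3783 (tt N3789 (iv F20601)) (tt N6399 D15159) (tt N3788 (iv F20598)) (tt N2655 F20588) (tt N6168 (iv F25955)) (tt N3788 (iv F20600)) (tt N2304 (iv D11612)))
theorem Q3785 : ∀ i, i < 3785 → P i := stepQ 3784 Q3784 (allL N3784 (tt N4613 (iv F22258)) (tt N2305 (iv D11613)) (tt N6400 D15160) (tt N2656 F20589) (tt N6169 (iv F25956)) (tt N4611 F22257) (tt N6399 (iv F26422)))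
theorem Q3786 : ∀ i, i < 3786 → P i := stepQ 3785 Q3785 (allL N3785 (tt N3792 F34745) (tt N6401 D15164) (tt N3791 (iv F34749)) (tt N2659 F20593) (tt N6170 (iv F25961)) (tt N2306 (iv D11616)) (tt N3791 (iv F20609)))
theorem Q3787 : ∀ i, i < 3787 → P i := stepQ 3786 Q3786 (allL N3786 (tt N4714 (iv F22230)) (tt N2307 (iv D11617)) (tt N6402 D15165) (tt N2660 F20594) (tt N6171 (iv F25962)) (tt N6401 (iv F26429)) (tt N4711 F22227))
theorem Q3788 : ∀ i, i < 3788 → P i := stepQ 3787 Q3787 (allL N3787 (tt N4463 (iv F21847)) (tt N2308 (iv D11618)) (tt N3779 F20595) (tt N2661 F20596) (tt N6183 (iv F25984)) (tt N4461 (iv F21846)) (tt N6403 D15166))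
theorem Q3789 : ∀ i, i < 3789 → P i := stepQ 3788 Q3788 (allL N3788 (tt N2310 F20597) (tt N4637 (iv F22104)) (tt N3783 F20598) (tt N2663 F20599) (tt N6184 (iv F25988)) (tt N3783 F20600) (tt N2308 (iv D11619)))
theorem Q3790 : ∀ i, i < 3790 → P i := stepQ 3789 Q3789 (allL N3789 (tt N3783 F20601) (tt N2797 F22133) (tt N2310 F20602) (tt N2666 F20603) (tt N6186 (iv F25994)) (tt N2310 F20604) (tt N2309 (iv D11620)))
theorem Q3791 : ∀ i, i < 3791 → P i := stepQ 3790 Q3790 (allL N3790 (tt N4476 (iv F22078)) (tt N2311 (iv D11621)) (tt N3781 (iv F34765)) (tt N2667 F20605) (tt N6187 (iv F25997)) (tt N6404 D15168) (tt N4473 F22070))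
theorem Q3792 : ∀ i, i < 3792 → P i := stepQ 3791 Q3791 (allL N3791 (tt N2313 F20607) (tt N4736 F22272) (tt N3785 F34749) (tt N2669 F20608) (tt N6188 (iv F26001)) (tt N2311 (iv D11623)) (tt N3785 F20609))
theorem Q3793 : ∀ i, i < 3793 → P i := stepQ 3792 Q3792 (allL N3792 (tt N3785 (iv F34745)) (tt N2746 (iv F34748)) (tt N2313 F20610) (tt N2672 (iv F34747)) (tt N6190 (iv F26004)) (tt N2312 (iv D11625)) (tt N2313 (iv F34746)))
theorem Q3794 : ∀ i, i < 3794 → P i := stepQ 3793 Q3793 (allL N3793 (tt N2314 (iv D11627)) (tt N4463 (iv F21848)) (tt N6405 D15177) (tt N2673 F20614) (tt N6213 (iv F26063)) (tt N4445 F21823) (tt N4668 (iv F22166)))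
theorem Q3795 : ∀ i, i < 3795 → P i := stepQ 3794 Q3794 (allL N3794 (tt N6405 (iv F26448)) (tt N6406 D15178) (tt N2314 (iv D11628)) (tt N6407 D15179) (tt N6214 (iv F26064)) (tt N6408 D15180) (tt N6409 D15181))
theorem Q3796 : ∀ i, i < 3796 → P i := stepQ 3795 Q3795 (allL N3795 (tt N4445 F21822) (tt N2331 F20615) (tt N6408 (iv F26451)) (tt N2675 F20616) (tt N6215 (iv F26066)) (tt N2314 (iv D11629)) (tt N6410 D15182))
theorem Q3797 : ∀ i, i < 3797 → P i := stepQ 3796 Q3796 (allL N3796 (tt N4668 (iv F22164)) (tt N3856 (iv F20702)) (tt N6409 (iv F26452)) (tt N2676 F20617) (tt N6216 (iv F26067)) (tt N6411 D15183) (tt N2314 (iv D11630)))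
theorem Q3798 : ∀ i, i < 3798 → P i := stepQ 3797 Q3797 (allL N3797 (tt N6412 D15184) (tt N2315 (iv D11631)) (tt N6406 (iv F26449)) (tt N6413 D15185) (tt N6217 (iv F26068)) (tt N6414 D15186) (tt N6415 D15187))
theorem Q3799 : ∀ i, i < 3799 → P i := stepQ 3798 Q3798 (allL N3798 (tt N2316 F20618) (tt N6413 (iv F26461)) (tt N4497 (iv F21891)) (tt N2315 (iv D11632)) (tt N6416 D15188) (tt N2334 F20619) (tt N3850 (iv F20699)))
theorem Q3800 : ∀ i, i < 3800 → P i := stepQ 3799 Q3799 (allL N3799 (tt N4497 (iv F21890)) (tt N2922 (iv F29022)) (tt N2316 (iv D11633)) (tt N4494 (iv F21885)) (tt N6417 D15190) (tt N2337 F20620) (tt N6418 D15191))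
theorem Q3801 : ∀ i, i < 3801 → P i := stepQ 3800 Q3800 (allL N3800 (tt N6416 (iv F26465)) (tt N5965 (iv F25509)) (tt N6417 (iv F26467)) (tt N6220 (iv F26072)) (tt N2316 (iv D11634)) (tt N2338 F20621) (tt N6419 D15192))
theorem Q3802 : ∀ i, i < 3802 → P i := stepQ 3801 Q3801 (allL N3801 (tt N3850 (iv F20697)) (tt N6420 D15193) (tt N6418 (iv F26469)) (tt N2317 F20622) (tt N6419 (iv F26472)) (tt N3840 (iv F20686)) (tt N2316 (iv D11635)))
theorem Q3803 : ∀ i, i < 3803 → P i := stepQ 3802 Q3802 (allL N3802 (tt N6421 D15194) (tt N2317 (iv D11636)) (tt N6422 D15195) (tt N6420 (iv F26473)) (tt N6222 (iv F26075)) (tt N6423 D15196) (tt N5967 (iv F25512)))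
theorem Q3804 : ∀ i, i < 3804 → P i := stepQ 3803 Q3803 (allL N3803 (tt N2318 (iv D11637)) (tt N6424 D15197) (tt N6425 D15198) (tt N2683 F20623) (tt N6223 (iv F26076)) (tt N3811 (iv F20637)) (tt N2319 F20624))
theorem Q3805 : ∀ i, i < 3805 → P i := stepQ 3804 Q3804 (allL N3804 (tt N6425 (iv F26478)) (tt N6422 (iv F26474)) (tt N2318 (iv D11638)) (tt N6426 D15199) (tt N6224 (iv F26078)) (tt N6427 D15200) (tt N2320 F20625))
theorem Q3806 : ∀ i, i < 3806 → P i := stepQ 3805 Q3805 (allL N3805 (tt N3811 (iv F20635)) (tt N3844 (iv F20688)) (tt N6427 (iv F26481)) (tt N2685 F20626) (tt N6225 (iv F26080)) (tt N2318 (iv D11639)) (tt N3808 (iv F20631)))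
theorem Q3807 : ∀ i, i < 3807 → P i := stepQ 3806 Q3806 (allL N3806 (tt N4667 (iv F22160)) (tt N2319 (iv D11640)) (tt N6428 D15201) (tt N2686 F20627) (tt N6226 (iv F26081)) (tt N2781 F20633) (tt N4665 F22158))
theorem Q3808 : ∀ i, i < 3808 → P i := stepQ 3807 Q3807 (allL N3807 (tt N2320 F20628) (tt N6429 D15202) (tt N2319 (iv D11641)) (tt N6430 D15203) (tt N6227 (iv F26084)) (tt N6431 D15204) (tt N6425 (iv F26479)))
theorem Q3809 : ∀ i, i < 3809 → P i := stepQ 3808 Q3808 (allL N3808 (tt N2321 F20629) (tt N2707 (iv F20632)) (tt N6431 (iv F26485)) (tt N2688 F20630) (tt N6228 (iv F26087)) (tt N2319 (iv D11642)) (tt N3805 F20631))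
theorem Q3810 : ∀ i, i < 3810 → P i := stepQ 3809 Q3809 (allL N3809 (tt N6430 (iv F26483)) (tt N5974 (iv F25518)) (tt N6432 D15205) (tt N2320 (iv D11643)) (tt N6433 D15206) (tt N6434 D15207) (tt N6426 (iv F26480)))
theorem Q3811 : ∀ i, i < 3811 → P i := stepQ 3810 Q3810 (allL N3810 (tt N6431 (iv F26484)) (tt N4624 F34775) (tt N2321 F20634) (tt N6434 (iv F26487)) (tt N6230 (iv F26090)) (tt N2320 (iv D11644)) (tt N6435 D15209))
theorem Q3812 : ∀ i, i < 3812 → P i := stepQ 3811 Q3811 (allL N3811 (tt N3805 F20635) (tt N4625 (iv F22064)) (tt N6435 (iv F26490)) (tt N2691 F20636) (tt N6231 (iv F26092)) (tt N3803 F20637) (tt N2321 (iv D11645)))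
theorem Q3813 : ∀ i, i < 3813 → P i := stepQ 3812 Q3812 (allL N3812 (tt N2322 (iv D11646)) (tt N4476 F22077) (tt N6436 D15210) (tt N2692 F20638) (tt N6232 (iv F26094)) (tt N4563 F22074) (tt N4453 (iv F22075)))
theorem Q3814 : ∀ i, i < 3814 → P i := stepQ 3813 Q3813 (allL N3813 (tt N6436 (iv F26492)) (tt N6437 D15211) (tt N2322 (iv D11647)) (tt N6438 D15212) (tt N6233 (iv F26095)) (tt N6439 D15213) (tt N6440 D15214))
theorem Q3815 : ∀ i, i < 3815 → P i := stepQ 3814 Q3814 (allL N3814 (tt N4563 F22073) (tt N3882 (iv F20740)) (tt N6439 (iv F26494)) (tt N2694 F20639) (tt N6234 (iv F26096)) (tt N2322 (iv D11648)) (tt N6441 D15215))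
theorem Q3816 : ∀ i, i < 3816 → P i := stepQ 3815 Q3815 (allL N3815 (tt N4453 F22076) (tt N2345 F20640) (tt N6440 (iv F26495)) (tt N2695 F20641) (tt N6235 (iv F26098)) (tt N6442 D15216) (tt N2322 (iv D11649)))
theorem Q3817 : ∀ i, i < 3817 → P i := stepQ 3816 Q3816 (allL N3816 (tt N6443 D15217) (tt N2323 (iv D11650)) (tt N6437 (iv F26493)) (tt N6444 D15218) (tt N6236 (iv F26099)) (tt N6445 D15219) (tt N6446 D15220))
theorem Q3818 : ∀ i, i < 3818 → P i := stepQ 3817 Q3817 (allL N3817 (tt N2324 F20642) (tt N6444 (iv F26503)) (tt N4532 (iv F21940)) (tt N2323 (iv D11651)) (tt N6447 D15221) (tt N3876 (iv F20737)) (tt N2347 F20643))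
theorem Q3819 : ∀ i, i < 3819 → P i := stepQ 3818 Q3818 (allL N3818 (tt N4532 (iv F21939)) (tt N2923 (iv F34439)) (tt N2324 (iv D11652)) (tt N4529 (iv F21934)) (tt N6448 D15223) (tt N6449 D15224) (tt N2350 F20644))
theorem Q3820 : ∀ i, i < 3820 → P i := stepQ 3819 Q3819 (allL N3819 (tt N6447 (iv F26505)) (tt N5980 (iv F25526)) (tt N6448 (iv F26507)) (tt N6239 (iv F26103)) (tt N2324 (iv D11653)) (tt N6450 D15225) (tt N2351 F20645))
theorem Q3821 : ∀ i, i < 3821 → P i := stepQ 3820 Q3820 (allL N3820 (tt N3876 (iv F20735)) (tt N6451 D15226) (tt N6449 (iv F26509)) (tt N2325 F20646) (tt N6450 (iv F26512)) (tt N2324 (iv D11654)) (tt N3866 (iv F20724)))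
theorem Q3822 : ∀ i, i < 3822 → P i := stepQ 3821 Q3821 (allL N3821 (tt N6452 D15227) (tt N2325 (iv D11655)) (tt N6453 D15228) (tt N6451 (iv F26513)) (tt N6241 (iv F26106)) (tt N5982 (iv F25529)) (tt N6454 D15229))
theorem Q3823 : ∀ i, i < 3823 → P i := stepQ 3822 Q3822 (allL N3822 (tt N2326 (iv D11656)) (tt N6455 D15230) (tt N6456 D15231) (tt N2702 F20647) (tt N6242 (iv F26107)) (tt N2327 F20648) (tt N3830 (iv F20661)))
theorem Q3824 : ∀ i, i < 3824 → P i := stepQ 3823 Q3823 (allL N3823 (tt N6456 (iv F26518)) (tt N6453 (iv F26514)) (tt N2326 (iv D11657)) (tt N6457 D15232) (tt N6243 (iv F26109)) (tt N2328 F20649) (tt N6458 D15233))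
theorem Q3825 : ∀ i, i < 3825 → P i := stepQ 3824 Q3824 (allL N3824 (tt N3830 (iv F20659)) (tt N3870 (iv F20726)) (tt N6458 (iv F26521)) (tt N2704 F20650) (tt N6244 (iv F26111)) (tt N3827 (iv F20655)) (tt N2326 (iv D11658)))
theorem Q3826 : ∀ i, i < 3826 → P i := stepQ 3825 Q3825 (allL N3825 (tt N4566 (iv F21991)) (tt N2327 (iv D11659)) (tt N6459 D15234) (tt N2705 F20651) (tt N6245 (iv F26112)) (tt N4564 (iv F21989)) (tt N2730 (iv F20657)))
theorem Q3827 : ∀ i, i < 3827 → P i := stepQ 3826 Q3826 (allL N3826 (tt N2328 F20652) (tt N6460 D15235) (tt N2327 (iv D11660)) (tt N6461 D15236) (tt N6246 (iv F26115)) (tt N6456 (iv F26519)) (tt N6462 D15237))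
theorem Q3828 : ∀ i, i < 3828 → P i := stepQ 3827 Q3827 (allL N3827 (tt N2329 F20653) (tt N2688 F20656) (tt N6462 (iv F26525)) (tt N2707 F20654) (tt N6247 (iv F26118)) (tt N3824 F20655) (tt N2327 (iv D11661)))
theorem Q3829 : ∀ i, i < 3829 → P i := stepQ 3828 Q3828 (allL N3828 (tt N6461 (iv F26523)) (tt N5989 (iv F25535)) (tt N6463 D15238) (tt N2328 (iv D11662)) (tt N6464 D15239) (tt N6457 (iv F26520)) (tt N6465 D15240))
theorem Q3830 : ∀ i, i < 3830 → P i := stepQ 3829 Q3829 (allL N3829 (tt N6462 (iv F26524)) (tt N4724 (iv F22243)) (tt N2329 F20658) (tt N6465 (iv F26527)) (tt N6249 (iv F26121)) (tt N6466 D15241) (tt N2328 (iv D11663)))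
theorem Q3831 : ∀ i, i < 3831 → P i := stepQ 3830 Q3830 (allL N3830 (tt N3824 F20659) (tt N4725 (iv F22245)) (tt N6466 (iv F26529)) (tt N2710 F20660) (tt N6250 (iv F26123)) (tt N2329 (iv D11664)) (tt N3822 F20661))
theorem Q3832 : ∀ i, i < 3832 → P i := stepQ 3831 Q3831 (allL N3831 (tt N2331 F20662) (tt N4422 (iv F21824)) (tt N2331 F20663) (tt N2711 F20664) (tt N6275 (iv F26173)) (tt N2330 (iv D11665)) (tt N3835 (iv F20675)))
theorem Q3833 : ∀ i, i < 3833 → P i := stepQ 3832 Q3832 (allL N3832 (tt N2332 F20665) (tt N6467 D15242) (tt N2332 F20666) (tt N2712 F20667) (tt N6276 (iv F26176)) (tt N3833 (iv F20669)) (tt N2330 (iv D11666)))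
theorem Q3834 : ∀ i, i < 3834 → P i := stepQ 3833 Q3833 (allL N3833 (tt N3835 (iv F20672)) (tt N4520 (iv F22071)) (tt N3835 (iv F20673)) (tt N2717 F20668) (tt N6277 (iv F26177)) (tt N3832 F20669) (tt N2331 (iv D11667)))
theorem Q3835 : ∀ i, i < 3835 → P i := stepQ 3834 Q3834 (allL N3834 (tt N4545 (iv F21957)) (tt N2332 (iv D11668)) (tt N6468 D15243) (tt N2718 F20670) (tt N6278 (iv F26179)) (tt N4543 (iv F21956)) (tt N2336 F20671))
theorem Q3836 : ∀ i, i < 3836 → P i := stepQ 3835 Q3835 (allL N3835 (tt N3833 F20672) (tt N6469 D15244) (tt N3833 F20673) (tt N2719 F20674) (tt N6279 (iv F26183)) (tt N2332 (iv D11669)) (tt N3831 F20675))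
theorem Q3837 : ∀ i, i < 3837 → P i := stepQ 3836 Q3836 (allL N3836 (tt N2714 F20676) (tt N2334 F20677) (tt N3836 F20678) (tt N2333 (iv D11670)) (tt N6470 D15245) (tt N5176 (iv F28989)) (tt N6471 D15247))
theorem Q3838 : ∀ i, i < 3838 → P i := stepQ 3837 Q3837 (allL N3837 (tt N2715 F20679) (tt N6414 (iv F26463)) (tt N2711 F20680) (tt N5176 (iv F28988)) (tt N6281 (iv F26190)) (tt N2333 (iv D11671)) (tt N4562 (iv F21986)))
theorem Q3839 : ∀ i, i < 3839 → P i := stepQ 3838 Q3838 (allL N3838 (tt N2716 F20681) (tt N6472 D15248) (tt N2712 F20682) (tt N6471 (iv F26548)) (tt N6282 (iv F26193)) (tt N4560 (iv F21983)) (tt N2333 (iv D11672)))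
theorem Q3840 : ∀ i, i < 3840 → P i := stepQ 3839 Q3839 (allL N3839 (tt N2338 F20683) (tt N6470 (iv F26541)) (tt N4591 (iv F22024)) (tt N6284 (iv F26197)) (tt N2334 (iv D11673)) (tt N6416 (iv F26466)) (tt N6473 D15249))
theorem Q3841 : ∀ i, i < 3841 → P i := stepQ 3840 Q3840 (allL N3840 (tt N2339 F20684) (tt N6474 D15250) (tt N4592 (iv F22026)) (tt N2335 F20685) (tt N6473 (iv F26551)) (tt N3801 F20686) (tt N2334 (iv D11674)))
theorem Q3842 : ∀ i, i < 3842 → P i := stepQ 3841 Q3841 (allL N3841 (tt N6475 D15251) (tt N2335 (iv D11675)) (tt N6476 D15252) (tt N6474 (iv F26553)) (tt N6286 (iv F26201)) (tt N6477 D15253) (tt N6472 (iv F26549)))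
theorem Q3843 : ∀ i, i < 3843 → P i := stepQ 3842 Q3842 (allL N3842 (tt N2336 (iv D11676)) (tt N6478 D15254) (tt N6479 D15255) (tt N2728 F20687) (tt N6287 (iv F26202)) (tt N6480 D15256) (tt N4545 (iv F21958)))
theorem Q3844 : ∀ i, i < 3844 → P i := stepQ 3843 Q3843 (allL N3843 (tt N6479 (iv F26560)) (tt N6476 (iv F26554)) (tt N2336 (iv D11677)) (tt N6481 D15257) (tt N6288 (iv F26203)) (tt N6482 D15258) (tt N6468 (iv F26535)))
theorem Q3845 : ∀ i, i < 3845 → P i := stepQ 3844 Q3844 (allL N3844 (tt N6480 (iv F26561)) (tt N3805 F20688) (tt N6482 (iv F26565)) (tt N2730 F20689) (tt N6289 (iv F26205)) (tt N2336 (iv D11678)) (tt N2705 (iv F20690)))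
theorem Q3846 : ∀ i, i < 3846 → P i := stepQ 3845 Q3845 (allL N3845 (tt N6483 D15259) (tt N2337 (iv D11679)) (tt N2363 F20691) (tt N4578 (iv F22004)) (tt N6484 D15260) (tt N2920 F28844) (tt N6485 D15262))
theorem Q3847 : ∀ i, i < 3847 → P i := stepQ 3846 Q3846 (allL N3846 (tt N4591 (iv F22022)) (tt N6484 (iv F26568)) (tt N2338 F20692) (tt N6486 D15263) (tt N2337 (iv D11680)) (tt N6417 (iv F26468)) (tt N6487 D15264))
theorem Q3848 : ∀ i, i < 3848 → P i := stepQ 3847 Q3847 (allL N3847 (tt N4592 (iv F22025)) (tt N3873 F34438) (tt N2339 F20693) (tt N4580 (iv F22009)) (tt N6487 (iv F26573)) (tt N6488 D15266) (tt N2337 (iv D11681)))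
theorem Q3849 : ∀ i, i < 3849 → P i := stepQ 3848 Q3848 (allL N3848 (tt N6473 (iv F26550)) (tt N6489 D15267) (tt N6487 (iv F26572)) (tt N6293 (iv F26211)) (tt N2339 F20694) (tt N6490 D15268) (tt N2338 (iv D11682)))
theorem Q3850 : ∀ i, i < 3850 → P i := stepQ 3849 Q3849 (allL N3849 (tt N6491 D15269) (tt N2339 (iv D11683)) (tt N3875 F35140) (tt N2340 F20695) (tt N6489 (iv F26578)) (tt N3935 (iv F35142)) (tt N2367 F20696))
theorem Q3851 : ∀ i, i < 3851 → P i := stepQ 3850 Q3850 (allL N3850 (tt N3801 F20697) (tt N6492 D15272) (tt N6488 (iv F26575)) (tt N2341 F20698) (tt N6490 (iv F26581)) (tt N2339 (iv D11684)) (tt N3798 F20699))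
theorem Q3852 : ∀ i, i < 3852 → P i := stepQ 3851 Q3851 (allL N3851 (tt N2340 (iv D11685)) (tt N6493 D15273) (tt N3938 (iv F20805)) (tt N6491 (iv F26583)) (tt N6296 (iv F26218)) (tt N3911 (iv F20776)) (tt N2368 F20700))
theorem Q3853 : ∀ i, i < 3853 → P i := stepQ 3852 Q3852 (allL N3852 (tt N3911 (iv F20774)) (tt N6494 D15274) (tt N3939 (iv F20808)) (tt N3935 F35152) (tt N6297 (iv F26220)) (tt N2340 (iv D11686)) (tt N3910 (iv F20773)))
theorem Q3854 : ∀ i, i < 3854 → P i := stepQ 3853 Q3853 (allL N3853 (tt N6495 D15275) (tt N2341 (iv D11687)) (tt N6496 D15276) (tt N6492 (iv F26587)) (tt N6298 (iv F26221)) (tt N6494 (iv F26588)) (tt N6497 D15277))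
theorem Q3855 : ∀ i, i < 3855 → P i := stepQ 3854 Q3854 (allL N3854 (tt N2342 (iv D11688)) (tt N2672 F22082) (tt N6498 D15278) (tt N2746 F20701) (tt N6299 (iv F26222)) (tt N4752 (iv F22289)) (tt N4519 F22083))
theorem Q3856 : ∀ i, i < 3856 → P i := stepQ 3855 Q3855 (allL N3855 (tt N6498 (iv F26591)) (tt N6496 (iv F26589)) (tt N2342 (iv D11689)) (tt N6499 D15279) (tt N6300 (iv F26224)) (tt N4753 (iv F22290)) (tt N6500 D15280))
theorem Q3857 : ∀ i, i < 3857 → P i := stepQ 3856 Q3856 (allL N3856 (tt N4519 (iv F22084)) (tt N3796 F20702) (tt N6500 (iv F26592)) (tt N2748 F20703) (tt N6301 (iv F26226)) (tt N6501 D15281) (tt N2342 (iv D11690)))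
theorem Q3858 : ∀ i, i < 3858 → P i := stepQ 3857 Q3857 (allL N3857 (tt N2344 F20705) (tt N6502 D15282) (tt N2344 F23432) (tt N2762 F20706) (tt N6302 (iv F26229)) (tt N2343 (iv D11692)) (tt N3861 (iv F20718)))
theorem Q3859 : ∀ i, i < 3859 → P i := stepQ 3858 Q3858 (allL N3858 (tt N2345 F20707) (tt N4425 (iv F22081)) (tt N2345 F23433) (tt N2763 F20708) (tt N6303 (iv F26232)) (tt N3860 (iv F20715)) (tt N2343 (iv D11693)))
theorem Q3860 : ∀ i, i < 3860 → P i := stepQ 3859 Q3859 (allL N3859 (tt N4510 (iv F21907)) (tt N2344 (iv D11698)) (tt N6503 D15283) (tt N2768 F20712) (tt N6304 (iv F26233)) (tt N2349 F20713) (tt N4508 F21906))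
theorem Q3861 : ∀ i, i < 3861 → P i := stepQ 3860 Q3860 (allL N3860 (tt N3861 (iv F20716)) (tt N6480 (iv F26562)) (tt N3861 (iv F23451)) (tt N2769 F20714) (tt N6305 (iv F26235)) (tt N3858 F20715) (tt N2344 (iv D11699)))
theorem Q3862 : ∀ i, i < 3862 → P i := stepQ 3861 Q3861 (allL N3861 (tt N3860 F20716) (tt N4485 F21873) (tt N3860 F23451) (tt N2770 F20717) (tt N6306 (iv F26239)) (tt N2345 (iv D11700)) (tt N3857 F20718))
theorem Q3863 : ∀ i, i < 3863 → P i := stepQ 3862 Q3862 (allL N3862 (tt N2765 F23436) (tt N2347 F20719) (tt N3862 F20720) (tt N2346 (iv D11702)) (tt N6504 D15284) (tt N6505 D15285) (tt N5187 F34771))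
theorem Q3864 : ∀ i, i < 3864 → P i := stepQ 3863 Q3863 (allL N3863 (tt N2766 F23439) (tt N6506 D15287) (tt N2762 F23440) (tt N6505 (iv F26607)) (tt N6308 (iv F26247)) (tt N2346 (iv D11703)) (tt N4664 F23441))
theorem Q3865 : ∀ i, i < 3865 → P i := stepQ 3864 Q3864 (allL N3864 (tt N2767 F23442) (tt N6446 (iv F26504)) (tt N2763 F23443) (tt N5187 (iv F34759)) (tt N6309 (iv F26250)) (tt N4663 F23444) (tt N2346 (iv D11704)))
theorem Q3866 : ∀ i, i < 3866 → P i := stepQ 3865 Q3865 (allL N3865 (tt N2351 F20721) (tt N6504 (iv F26603)) (tt N4691 (iv F22197)) (tt N6311 (iv F26254)) (tt N2347 (iv D11705)) (tt N6507 D15288) (tt N6447 (iv F26506)))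
theorem Q3867 : ∀ i, i < 3867 → P i := stepQ 3866 Q3866 (allL N3866 (tt N2352 F20722) (tt N6508 D15289) (tt N4692 (iv F22199)) (tt N2348 F20723) (tt N6507 (iv F26613)) (tt N2347 (iv D11706)) (tt N3820 F20724))
theorem Q3868 : ∀ i, i < 3868 → P i := stepQ 3867 Q3867 (allL N3867 (tt N6509 D15290) (tt N2348 (iv D11707)) (tt N6510 D15291) (tt N6508 (iv F26615)) (tt N6313 (iv F26258)) (tt N6506 (iv F26611)) (tt N6511 D15292))
theorem Q3869 : ∀ i, i < 3869 → P i := stepQ 3868 Q3868 (allL N3868 (tt N2349 (iv D11708)) (tt N6512 D15293) (tt N6513 D15294) (tt N2779 F20725) (tt N6314 (iv F26259)) (tt N4510 F21908) (tt N6469 F26539))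
theorem Q3870 : ∀ i, i < 3870 → P i := stepQ 3869 Q3869 (allL N3869 (tt N6513 (iv F26636)) (tt N6510 (iv F26629)) (tt N2349 (iv D11709)) (tt N6514 D15295) (tt N6315 (iv F26260)) (tt N6503 (iv F26601)) (tt N6515 D15296))
theorem Q3871 : ∀ i, i < 3871 → P i := stepQ 3870 Q3870 (allL N3870 (tt N6469 (iv F26536)) (tt N3824 F20726) (tt N6515 (iv F26639)) (tt N2781 F20727) (tt N6316 (iv F26262)) (tt N2686 (iv F20728)) (tt N2349 (iv D11710)))
theorem Q3872 : ∀ i, i < 3872 → P i := stepQ 3871 Q3871 (allL N3871 (tt N6516 D15297) (tt N2350 (iv D11711)) (tt N2377 F20729) (tt N4679 (iv F22178)) (tt N6517 D15298) (tt N6518 D15299) (tt N2920 (iv F34330)))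
theorem Q3873 : ∀ i, i < 3873 → P i := stepQ 3872 Q3872 (allL N3872 (tt N4691 (iv F22195)) (tt N6517 (iv F26642)) (tt N2351 F20730) (tt N6519 D15301) (tt N2350 (iv D11712)) (tt N6520 D15302) (tt N6448 (iv F26508)))
theorem Q3874 : ∀ i, i < 3874 → P i := stepQ 3873 Q3873 (allL N3873 (tt N4692 (iv F22198)) (tt N3847 (iv F34438)) (tt N2352 F20731) (tt N4681 (iv F22183)) (tt N6520 (iv F26647)) (tt N2350 (iv D11713)) (tt N6521 D15304))
theorem Q3875 : ∀ i, i < 3875 → P i := stepQ 3874 Q3874 (allL N3874 (tt N6507 (iv F26612)) (tt N6522 D15305) (tt N6520 (iv F26646)) (tt N6320 (iv F26268)) (tt N2352 F20732) (tt N2351 (iv D11714)) (tt N6523 D15306))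
theorem Q3876 : ∀ i, i < 3876 → P i := stepQ 3875 Q3875 (allL N3875 (tt N6524 D15307) (tt N2352 (iv D11715)) (tt N3849 (iv F35140)) (tt N2353 F20733) (tt N6522 (iv F26652)) (tt N2381 F20734) (tt N3907 (iv F35141)))
theorem Q3877 : ∀ i, i < 3877 → P i := stepQ 3876 Q3876 (allL N3876 (tt N3820 F20735) (tt N6525 D15310) (tt N6521 (iv F26649)) (tt N2354 F20736) (tt N6523 (iv F26655)) (tt N3817 F20737) (tt N2352 (iv D11716)))
theorem Q3878 : ∀ i, i < 3878 → P i := stepQ 3877 Q3877 (allL N3877 (tt N2353 (iv D11717)) (tt N6526 D15311) (tt N3910 (iv F20772)) (tt N6524 (iv F26657)) (tt N6323 (iv F26275)) (tt N2382 F20738) (tt N3939 (iv F20809)))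
theorem Q3879 : ∀ i, i < 3879 → P i := stepQ 3878 Q3878 (allL N3878 (tt N3939 (iv F20807)) (tt N6527 D15312) (tt N3911 (iv F20775)) (tt N3907 F35146) (tt N6324 (iv F26277)) (tt N3938 (iv F20806)) (tt N2353 (iv D11718)))
theorem Q3880 : ∀ i, i < 3880 → P i := stepQ 3879 Q3879 (allL N3879 (tt N6528 D15313) (tt N2354 (iv D11719)) (tt N6529 D15314) (tt N6525 (iv F26661)) (tt N6325 (iv F26278)) (tt N6530 D15315) (tt N6527 (iv F26662)))
theorem Q3881 : ∀ i, i < 3881 → P i := stepQ 3880 Q3880 (allL N3880 (tt N2355 (iv D11720)) (tt N2666 F22128) (tt N6531 D15316) (tt N2797 F20739) (tt N6326 (iv F26279)) (tt N4554 F22129) (tt N4654 (iv F22123)))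
theorem Q3882 : ∀ i, i < 3882 → P i := stepQ 3881 Q3881 (allL N3881 (tt N6531 (iv F26665)) (tt N6529 (iv F26663)) (tt N2355 (iv D11721)) (tt N6532 D15317) (tt N6327 (iv F26281)) (tt N6533 D15318) (tt N4655 (iv F22124)))
theorem Q3883 : ∀ i, i < 3883 → P i := stepQ 3882 Q3882 (allL N3882 (tt N4554 (iv F22130)) (tt N3814 F20740) (tt N6533 (iv F26666)) (tt N2799 F20741) (tt N6328 (iv F26283)) (tt N2355 (iv D11722)) (tt N6534 D15319))
theorem Q3884 : ∀ i, i < 3884 → P i := stepQ 3883 Q3883 (allL N3883 (tt N2713 F20742) (tt N2356 (iv D11723)) (tt N2720 (iv F20743)) (tt N5519 (iv F28995)) (tt N6329 (iv F26285)) (tt N5518 (iv F28999)) (tt N6535 D15322))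
theorem Q3885 : ∀ i, i < 3885 → P i := stepQ 3884 Q3884 (allL N3884 (tt N2357 F20744) (tt N5519 (iv F28994)) (tt N6536 D15323) (tt N2356 (iv D11724)) (tt N6537 D15324) (tt N6538 D15325) (tt N6539 D15326))
theorem Q3886 : ∀ i, i < 3886 → P i := stepQ 3885 Q3885 (allL N3885 (tt N2358 F20745) (tt N6540 D15327) (tt N3885 F20746) (tt N6538 (iv F26680)) (tt N6331 (iv F26290)) (tt N2356 (iv D11725)) (tt N3893 (iv F20757)))
theorem Q3887 : ∀ i, i < 3887 → P i := stepQ 3886 Q3886 (allL N3886 (tt N2359 F20747) (tt N6541 D15328) (tt N3886 F20748) (tt N6539 (iv F26682)) (tt N6332 (iv F26293)) (tt N3891 (iv F20753)) (tt N2356 (iv D11726)))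
theorem Q3888 : ∀ i, i < 3888 → P i := stepQ 3887 Q3887 (allL N3887 (tt N6536 (iv F26677)) (tt N3945 F20846) (tt N2357 (iv D11727)) (tt N3944 (iv F20847)) (tt N6542 D15329) (tt N5102 (iv F28924)) (tt N6543 D15331))
theorem Q3889 : ∀ i, i < 3889 → P i := stepQ 3888 Q3888 (allL N3888 (tt N6537 (iv F26678)) (tt N2360 F20749) (tt N6542 (iv F26683)) (tt N6334 (iv F26295)) (tt N2357 (iv D11728)) (tt N6544 D15332) (tt N6545 D15333))
theorem Q3890 : ∀ i, i < 3890 → P i := stepQ 3889 Q3889 (allL N3889 (tt N6538 (iv F26679)) (tt N4767 (iv F22316)) (tt N5102 (iv F28922)) (tt N2358 F20750) (tt N6544 (iv F26686)) (tt N2357 (iv D11729)) (tt N6546 D15334))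
theorem Q3891 : ∀ i, i < 3891 → P i := stepQ 3890 Q3890 (allL N3890 (tt N6539 (iv F26681)) (tt N6547 D15335) (tt N6543 (iv F26685)) (tt N2359 F20751) (tt N6545 (iv F26687)) (tt N6548 D15336) (tt N2357 (iv D11730)))
theorem Q3892 : ∀ i, i < 3892 → P i := stepQ 3891 Q3891 (allL N3891 (tt N3893 (iv F20755)) (tt N6549 D15337) (tt N3891 F20752) (tt N6546 (iv F26688)) (tt N6337 (iv F26299)) (tt N3886 F20753) (tt N2358 (iv D11731)))
theorem Q3893 : ∀ i, i < 3893 → P i := stepQ 3892 Q3892 (allL N3892 (tt N6550 D15338) (tt N2359 (iv D11732)) (tt N6132 (iv F25792)) (tt N6547 (iv F26690)) (tt N6338 (iv F26301)) (tt N6551 D15339) (tt N2362 F20754))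
theorem Q3894 : ∀ i, i < 3894 → P i := stepQ 3893 Q3893 (allL N3893 (tt N3891 F20755) (tt N6552 D15340) (tt N3893 F20756) (tt N6548 (iv F26693)) (tt N6339 (iv F26305)) (tt N2359 (iv D11733)) (tt N3885 F20757))
theorem Q3895 : ∀ i, i < 3895 → P i := stepQ 3894 Q3894 (allL N3894 (tt N2366 F20758) (tt N6553 D15341) (tt N3959 (iv F20871)) (tt N4393 (iv F21709)) (tt N2361 F20759) (tt N2830 F20760) (tt N2360 (iv D11734)))
theorem Q3896 : ∀ i, i < 3896 → P i := stepQ 3895 Q3895 (allL N3895 (tt N6554 D15342) (tt N2361 (iv D11735)) (tt N5465 (iv F33248)) (tt N2362 F20761) (tt N6553 (iv F26696)) (tt N5464 (iv F33246)) (tt N6547 (iv F26691)))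
theorem Q3897 : ∀ i, i < 3897 → P i := stepQ 3896 Q3896 (allL N3896 (tt N2362 (iv D11736)) (tt N6555 D15345) (tt N6129 (iv F25788)) (tt N6554 (iv F26697)) (tt N6340 (iv F26307)) (tt N6556 D15346) (tt N6550 (iv F26695)))
theorem Q3898 : ∀ i, i < 3898 → P i := stepQ 3897 Q3897 (allL N3897 (tt N6556 (iv F26700)) (tt N2828 F20762) (tt N6131 (iv F25790)) (tt N5464 (iv F33245)) (tt N6341 (iv F26309)) (tt N2362 (iv D11737)) (tt N6557 D15347))
theorem Q3899 : ∀ i, i < 3899 → P i := stepQ 3898 Q3898 (allL N3898 (tt N2363 (iv D11738)) (tt N6558 D15348) (tt N6483 (iv F26567)) (tt N3026 (iv F28850)) (tt N2989 (iv F28855)) (tt N2970 F28841) (tt N3929 F34331))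
theorem Q3900 : ∀ i, i < 3900 → P i := stepQ 3899 Q3899 (allL N3899 (tt N2989 (iv F28854)) (tt N2364 F20763) (tt N6484 (iv F26569)) (tt N2987 (iv F28868)) (tt N2363 (iv D11739)) (tt N2986 F28848) (tt N5034 (iv F28870)))
theorem Q3901 : ∀ i, i < 3901 → P i := stepQ 3900 Q3900 (allL N3900 (tt N2970 (iv F28836)) (tt N2947 F28832) (tt N2920 (iv F28837)) (tt N3017 (iv F28839)) (tt N2986 (iv F28840)) (tt N2363 (iv D11740)) (tt N2377 F34278))
theorem Q3902 : ∀ i, i < 3902 → P i := stepQ 3901 Q3901 (allL N3901 (tt N3929 F34322) (tt N6559 D15356) (tt N6485 (iv F26571)) (tt N3942 (iv F20833)) (tt N5034 (iv F28869)) (tt N3927 F34323) (tt N2363 (iv D11741)))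
theorem Q3903 : ∀ i, i < 3903 → P i := stepQ 3902 Q3902 (allL N3902 (tt N3958 (iv F20868)) (tt N2987 F28879) (tt N6143 (iv F25815)) (tt N2364 (iv D11742)) (tt N3020 (iv F28881)) (tt N6119 (iv F25766)) (tt N6560 D15358))
theorem Q3904 : ∀ i, i < 3904 → P i := stepQ 3903 Q3903 (allL N3903 (tt N3959 (iv F20870)) (tt N6561 D15359) (tt N2366 F20764) (tt N6560 (iv F26715)) (tt N2365 F20765) (tt N2832 F20766) (tt N2364 (iv D11743)))
theorem Q3905 : ∀ i, i < 3905 → P i := stepQ 3904 Q3904 (allL N3904 (tt N6562 D15360) (tt N2365 (iv D11744)) (tt N6563 D15361) (tt N3943 (iv F20837)) (tt N6561 (iv F26718)) (tt N6564 D15362) (tt N6559 (iv F26711)))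
theorem Q3906 : ∀ i, i < 3906 → P i := stepQ 3905 Q3905 (allL N3905 (tt N6565 D15363) (tt N2366 (iv D11745)) (tt N6566 D15364) (tt N6342 (iv F26310)) (tt N2367 F20767) (tt N6567 D15365) (tt N6489 (iv F26579)))
theorem Q3907 : ∀ i, i < 3907 → P i := stepQ 3906 Q3906 (allL N3906 (tt N2367 (iv D11746)) (tt N6568 D15366) (tt N6569 D15367) (tt N2368 F20768) (tt N6565 (iv F26721)) (tt N5537 (iv F29217)) (tt N6491 (iv F26584)))
theorem Q3908 : ∀ i, i < 3908 → P i := stepQ 3907 Q3907 (allL N3907 (tt N6569 (iv F26726)) (tt N6563 (iv F26719)) (tt N2367 (iv D11747)) (tt N3878 (iv F35146)) (tt N6566 (iv F26722)) (tt N5581 (iv F35230)) (tt N3875 F35141))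
theorem Q3909 : ∀ i, i < 3909 → P i := stepQ 3908 Q3908 (allL N3908 (tt N5537 (iv F29215)) (tt N2759 F20769) (tt N5581 (iv F35228)) (tt N2369 F20770) (tt N6567 (iv F26724)) (tt N2367 (iv D11748)) (tt N6570 D15371))
theorem Q3910 : ∀ i, i < 3910 → P i := stepQ 3909 Q3909 (allL N3909 (tt N6068 (iv F29204)) (tt N2368 (iv D11749)) (tt N6067 (iv F29201)) (tt N6568 (iv F26725)) (tt N6346 (iv F26315)) (tt N6571 D15374) (tt N6572 D15375))
theorem Q3911 : ∀ i, i < 3911 → P i := stepQ 3910 Q3910 (allL N3910 (tt N2369 F20771) (tt N5533 (iv F29209)) (tt N3877 F20772) (tt N5537 (iv F29216)) (tt N6347 (iv F26318)) (tt N2368 (iv D11750)) (tt N3852 F20773))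
theorem Q3912 : ∀ i, i < 3912 → P i := stepQ 3911 Q3911 (allL N3911 (tt N3852 F20774) (tt N6573 D15377) (tt N3878 F20775) (tt N6570 (iv F26732)) (tt N6348 (iv F26322)) (tt N3851 F20776) (tt N2369 (iv D11751)))
theorem Q3913 : ∀ i, i < 3913 → P i := stepQ 3912 Q3912 (allL N3912 (tt N2764 F23449) (tt N2370 (iv D11752)) (tt N2771 F23450) (tt N5564 (iv F34782)) (tt N6349 (iv F26325)) (tt N6574 D15379) (tt N5562 (iv F34752)))
theorem Q3914 : ∀ i, i < 3914 → P i := stepQ 3913 Q3913 (allL N3913 (tt N2371 F20777) (tt N5564 (iv F34781)) (tt N6575 D15381) (tt N2370 (iv D11753)) (tt N6576 D15382) (tt N6577 D15383) (tt N6578 D15384))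
theorem Q3915 : ∀ i, i < 3915 → P i := stepQ 3914 Q3914 (allL N3914 (tt N2372 F20778) (tt N6579 D15385) (tt N3914 F20779) (tt N6577 (iv F26744)) (tt N6351 (iv F26330)) (tt N2370 (iv D11754)) (tt N3922 (iv F20790)))
theorem Q3916 : ∀ i, i < 3916 → P i := stepQ 3915 Q3915 (allL N3915 (tt N2373 F20780) (tt N6580 D15386) (tt N3915 F20781) (tt N6578 (iv F26746)) (tt N6352 (iv F26333)) (tt N3921 (iv F20787)) (tt N2370 (iv D11755)))
theorem Q3917 : ∀ i, i < 3917 → P i := stepQ 3916 Q3916 (allL N3916 (tt N6575 (iv F26741)) (tt N3975 F20933) (tt N2371 (iv D11756)) (tt N3974 (iv F20934)) (tt N6581 D15387) (tt N6582 D15388) (tt N5109 (iv F34349)))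
theorem Q3918 : ∀ i, i < 3918 → P i := stepQ 3917 Q3917 (allL N3917 (tt N6576 (iv F26742)) (tt N2374 F20782) (tt N6581 (iv F26747)) (tt N6354 (iv F26335)) (tt N2371 (iv D11757)) (tt N6583 D15390) (tt N6584 D15391))
theorem Q3919 : ∀ i, i < 3919 → P i := stepQ 3918 Q3918 (allL N3918 (tt N6577 (iv F26743)) (tt N6585 D15392) (tt N6582 (iv F26748)) (tt N2372 F20783) (tt N6583 (iv F26750)) (tt N2371 (iv D11758)) (tt N6586 D15393))
theorem Q3920 : ∀ i, i < 3920 → P i := stepQ 3919 Q3919 (allL N3919 (tt N6578 (iv F26745)) (tt N4805 (iv F22364)) (tt N5109 F34428) (tt N2373 F20784) (tt N6584 (iv F26751)) (tt N6587 D15394) (tt N2371 (iv D11759)))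
theorem Q3921 : ∀ i, i < 3921 → P i := stepQ 3920 Q3920 (allL N3920 (tt N6588 D15395) (tt N2372 (iv D11760)) (tt N6122 (iv F25772)) (tt N6585 (iv F26752)) (tt N6357 (iv F26338)) (tt N2376 F20785) (tt N6589 D15396))
theorem Q3922 : ∀ i, i < 3922 → P i := stepQ 3921 Q3921 (allL N3921 (tt N3922 (iv F20788)) (tt N6590 D15397) (tt N3921 F20786) (tt N6586 (iv F26754)) (tt N6358 (iv F26341)) (tt N3915 F20787) (tt N2372 (iv D11761)))
theorem Q3923 : ∀ i, i < 3923 → P i := stepQ 3922 Q3922 (allL N3922 (tt N3921 F20788) (tt N6591 D15398) (tt N3922 F20789) (tt N6587 (iv F26757)) (tt N6359 (iv F26345)) (tt N2373 (iv D11762)) (tt N3914 F20790))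
theorem Q3924 : ∀ i, i < 3924 → P i := stepQ 3923 Q3923 (allL N3923 (tt N2380 F20791) (tt N6592 D15399) (tt N3989 (iv F20958)) (tt N4409 (iv F21743)) (tt N2375 F20792) (tt N2374 (iv D11763)) (tt N2850 F20793))
theorem Q3925 : ∀ i, i < 3925 → P i := stepQ 3924 Q3924 (allL N3924 (tt N6593 D15400) (tt N2375 (iv D11764)) (tt N5507 (iv F35028)) (tt N2376 F20794) (tt N6592 (iv F26760)) (tt N6585 (iv F26753)) (tt N5505 (iv F35040)))
theorem Q3926 : ∀ i, i < 3926 → P i := stepQ 3925 Q3925 (allL N3925 (tt N2376 (iv D11765)) (tt N6594 D15403) (tt N6120 (iv F25769)) (tt N6593 (iv F26761)) (tt N6360 (iv F26347)) (tt N6588 (iv F26759)) (tt N6595 D15404))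
theorem Q3927 : ∀ i, i < 3927 → P i := stepQ 3926 Q3926 (allL N3926 (tt N6595 (iv F26764)) (tt N2849 F20795) (tt N6123 (iv F25773)) (tt N5505 (iv F35039)) (tt N6361 (iv F26349)) (tt N6596 D15405) (tt N2376 (iv D11766)))
theorem Q3928 : ∀ i, i < 3928 → P i := stepQ 3927 Q3927 (allL N3927 (tt N2377 (iv D11767)) (tt N6597 D15406) (tt N6516 (iv F26641)) (tt N3027 F34268) (tt N2990 F34269) (tt N3901 (iv F34323)) (tt N2970 (iv F34324)))
theorem Q3929 : ∀ i, i < 3929 → P i := stepQ 3928 Q3928 (allL N3928 (tt N2990 (iv F34230)) (tt N2378 F20796) (tt N6517 (iv F26643)) (tt N2988 F34199) (tt N2377 (iv D11768)) (tt N5032 (iv F34235)) (tt N2986 (iv F34236)))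
theorem Q3930 : ∀ i, i < 3930 → P i := stepQ 3929 Q3929 (allL N3929 (tt N3901 (iv F34322)) (tt N6598 D15413) (tt N6518 (iv F26644)) (tt N3972 (iv F20919)) (tt N5032 F34277) (tt N2377 (iv D11769)) (tt N3898 (iv F34331)))
theorem Q3931 : ∀ i, i < 3931 → P i := stepQ 3930 Q3930 (allL N3930 (tt N3988 (iv F20955)) (tt N2988 (iv F34186)) (tt N6156 (iv F25856)) (tt N2378 (iv D11771)) (tt N3021 F34178) (tt N6599 D15416) (tt N6128 (iv F25786)))
theorem Q3932 : ∀ i, i < 3932 → P i := stepQ 3931 Q3931 (allL N3931 (tt N3989 (iv F20957)) (tt N6600 D15417) (tt N2380 F20797) (tt N6599 (iv F26779)) (tt N2379 F20798) (tt N2378 (iv D11772)) (tt N2852 F20799))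
theorem Q3933 : ∀ i, i < 3933 → P i := stepQ 3932 Q3932 (allL N3932 (tt N6601 D15418) (tt N2379 (iv D11773)) (tt N6602 D15419) (tt N3973 (iv F20924)) (tt N6600 (iv F26782)) (tt N6598 (iv F26774)) (tt N6603 D15420))
theorem Q3934 : ∀ i, i < 3934 → P i := stepQ 3933 Q3933 (allL N3933 (tt N6604 D15421) (tt N2380 (iv D11774)) (tt N6605 D15422) (tt N6362 (iv F26350)) (tt N2381 F20800) (tt N6522 (iv F26653)) (tt N6606 D15423))
theorem Q3935 : ∀ i, i < 3935 → P i := stepQ 3934 Q3934 (allL N3934 (tt N2381 (iv D11775)) (tt N6607 D15424) (tt N6570 (iv F35151)) (tt N2382 F20801) (tt N6604 (iv F26785)) (tt N6524 (iv F26658)) (tt N5581 (iv F35231)))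
theorem Q3936 : ∀ i, i < 3936 → P i := stepQ 3935 Q3935 (allL N3935 (tt N6570 (iv F35150)) (tt N6602 (iv F26783)) (tt N2381 (iv D11776)) (tt N3852 (iv F35152)) (tt N6605 (iv F26786)) (tt N3849 F35142) (tt N5537 (iv F35154)))
theorem Q3937 : ∀ i, i < 3937 → P i := stepQ 3936 Q3936 (allL N3936 (tt N5581 (iv F35227)) (tt N2810 F20802) (tt N5537 (iv F35153)) (tt N2383 F20803) (tt N6606 (iv F26788)) (tt N6569 (iv F35144)) (tt N2381 (iv D11777)))
theorem Q3938 : ∀ i, i < 3938 → P i := stepQ 3937 Q3937 (allL N3937 (tt N6106 (iv F29203)) (tt N2382 (iv D11778)) (tt N6105 (iv F29202)) (tt N6607 (iv F26789)) (tt N6366 (iv F26355)) (tt N6608 D15432) (tt N6609 D15433))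
theorem Q3939 : ∀ i, i < 3939 → P i := stepQ 3938 Q3938 (allL N3938 (tt N2383 F20804) (tt N5577 (iv F35244)) (tt N3851 F20805) (tt N5581 (iv F35229)) (tt N6367 (iv F26358)) (tt N3878 F20806) (tt N2382 (iv D11779)))
theorem Q3940 : ∀ i, i < 3940 → P i := stepQ 3939 Q3939 (allL N3939 (tt N3878 F20807) (tt N6610 D15435) (tt N3852 F20808) (tt N6569 (iv F35143)) (tt N6368 (iv F26362)) (tt N2383 (iv D11780)) (tt N3877 F20809))
theorem Q3941 : ∀ i, i < 3941 → P i := stepQ 3940 Q3940 (allL N3940 (tt N5086 (iv F28874)) (tt N2384 (iv D11781)) (tt N2385 F20810) (tt N6611 D15437) (tt N4100 F32463) (tt N5081 (iv F28845)) (tt N6612 D15440))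
theorem Q3942 : ∀ i, i < 3942 → P i := stepQ 3941 Q3941 (allL N3941 (tt N3941 F20811) (tt N6611 (iv F26801)) (tt N3941 F20813) (tt N2384 (iv D11782)) (tt N6613 D15441) (tt N3941 F20812) (tt N4093 (iv F32474)))
theorem Q3943 : ∀ i, i < 3943 → P i := stepQ 3942 Q3942 (allL N3942 (tt N3972 F34270) (tt N6614 D15456) (tt N6612 (iv F26806)) (tt N3901 F20833) (tt N3031 (iv F28878)) (tt N3027 F28865) (tt N2385 (iv D11791)))
theorem Q3944 : ∀ i, i < 3944 → P i := stepQ 3943 Q3943 (allL N3943 (tt N6615 D15458) (tt N2387 (iv D11793)) (tt N4025 (iv F32505)) (tt N3904 F20837) (tt N4034 F32492) (tt N6616 D15460) (tt N6614 (iv F26838)))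
theorem Q3945 : ∀ i, i < 3945 → P i := stepQ 3944 Q3944 (allL N3944 (tt N6617 D15464) (tt N2388 (iv D11797)) (tt N6617 (iv F26851)) (tt N3887 F20847) (tt N6618 D15465) (tt N6619 D15466) (tt N6620 D15467))
theorem Q3946 : ∀ i, i < 3946 → P i := stepQ 3945 Q3945 (allL N3945 (tt N2389 F20844) (tt N3887 (iv F20846)) (tt N2389 F20845) (tt N2388 (iv D11798)) (tt N6621 D15468) (tt N3052 F28930) (tt N6622 D15470))
theorem Q3947 : ∀ i, i < 3947 → P i := stepQ 3946 Q3946 (allL N3946 (tt N2390 F20848) (tt N6618 (iv F26855)) (tt N2424 F20849) (tt N6623 D15471) (tt N2388 (iv D11799)) (tt N4011 F29053) (tt N6624 D15473))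
theorem Q3948 : ∀ i, i < 3948 → P i := stepQ 3947 Q3947 (allL N3947 (tt N2391 F20850) (tt N3044 (iv F28935)) (tt N2425 F20851) (tt N3052 F28929) (tt N4011 (iv F29048)) (tt N2388 (iv D11800)) (tt N3957 (iv F20867)))
theorem Q3949 : ∀ i, i < 3949 → P i := stepQ 3948 Q3948 (allL N3948 (tt N2392 F20852) (tt N6026 (iv F34469)) (tt N2426 F20853) (tt N6622 (iv F26866)) (tt N6624 (iv F26873)) (tt N3955 (iv F20863)) (tt N2388 (iv D11801)))
theorem Q3950 : ∀ i, i < 3950 → P i := stepQ 3949 Q3949 (allL N3949 (tt N6621 (iv F26858)) (tt N2393 F20854) (tt N6621 (iv F26860)) (tt N6625 D15476) (tt N2389 (iv D11802)) (tt N6626 D15477) (tt N6627 D15478))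
theorem Q3951 : ∀ i, i < 3951 → P i := stepQ 3950 Q3950 (allL N3950 (tt N3052 F28927) (tt N6140 (iv F25803)) (tt N3052 F28928) (tt N2391 F20855) (tt N6626 (iv F26876)) (tt N2389 (iv D11803)) (tt N6628 D15479))
theorem Q3952 : ∀ i, i < 3952 → P i := stepQ 3951 Q3951 (allL N3951 (tt N6622 (iv F26864)) (tt N6629 D15480) (tt N6622 (iv F26865)) (tt N2392 F20856) (tt N6627 (iv F26877)) (tt N5138 (iv F28934)) (tt N2389 (iv D11804)))
theorem Q3953 : ∀ i, i < 3953 → P i := stepQ 3952 Q3952 (allL N3952 (tt N6623 (iv F26867)) (tt N2395 F20857) (tt N6630 D15482) (tt N2390 (iv D11805)) (tt N6625 (iv F26875)) (tt N6631 D15483) (tt N6632 D15484))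
theorem Q3954 : ∀ i, i < 3954 → P i := stepQ 3953 Q3953 (allL N3953 (tt N4011 F29052) (tt N3569 F28954) (tt N2428 F20858) (tt N6631 (iv F26886)) (tt N2391 F20859) (tt N2390 (iv D11806)) (tt N6633 D15485))
theorem Q3955 : ∀ i, i < 3955 → P i := stepQ 3954 Q3954 (allL N3954 (tt N6624 (iv F26871)) (tt N6634 D15486) (tt N2429 F20860) (tt N6632 (iv F26887)) (tt N2392 F20861) (tt N6635 D15487) (tt N2390 (iv D11807)))
theorem Q3956 : ∀ i, i < 3956 → P i := stepQ 3955 Q3955 (allL N3955 (tt N3957 (iv F20865)) (tt N6636 D15488) (tt N2430 F20862) (tt N6628 (iv F26878)) (tt N6633 (iv F26889)) (tt N3948 F20863) (tt N2391 (iv D11808)))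
theorem Q3957 : ∀ i, i < 3957 → P i := stepQ 3956 Q3956 (allL N3956 (tt N6637 D15489) (tt N2392 (iv D11809)) (tt N6638 D15490) (tt N6629 (iv F26880)) (tt N6634 (iv F26891)) (tt N6639 D15491) (tt N2397 F20864))
theorem Q3958 : ∀ i, i < 3958 → P i := stepQ 3957 Q3957 (allL N3957 (tt N3955 F20865) (tt N6640 D15492) (tt N2432 F20866) (tt N5138 (iv F28933)) (tt N6635 (iv F26895)) (tt N2392 (iv D11810)) (tt N3947 F20867))
theorem Q3959 : ∀ i, i < 3959 → P i := stepQ 3958 Q3958 (allL N3958 (tt N3902 F20868) (tt N6625 (iv F26874)) (tt N6119 (iv F25768)) (tt N2393 (iv D11811)) (tt N2395 F20869) (tt N6143 (iv F25817)) (tt N6641 D15493))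
theorem Q3960 : ∀ i, i < 3960 → P i := stepQ 3959 Q3959 (allL N3959 (tt N3903 F20870) (tt N6642 D15494) (tt N3894 F20871) (tt N6641 (iv F26902)) (tt N2394 F20872) (tt N2869 F20873) (tt N2393 (iv D11812)))
theorem Q3961 : ∀ i, i < 3961 → P i := stepQ 3960 Q3960 (allL N3960 (tt N5161 (iv F33250)) (tt N2394 (iv D11813)) (tt N6643 D15496) (tt N2397 F20874) (tt N6642 (iv F26905)) (tt N6644 D15497) (tt N6629 (iv F26881)))
theorem Q3962 : ∀ i, i < 3962 → P i := stepQ 3961 Q3961 (allL N3961 (tt N3650 F20875) (tt N3014 (iv F28888)) (tt N2395 (iv D11814)) (tt N2854 F20876) (tt N6119 (iv F25765)) (tt N3020 F28884) (tt N2870 (iv F20878)))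
theorem Q3963 : ∀ i, i < 3963 → P i := stepQ 3962 Q3962 (allL N3962 (tt N4045 F32486) (tt N6645 D15499) (tt N2870 F20879) (tt N2396 F20880) (tt N6641 (iv F26903)) (tt N2870 F20881) (tt N2395 (iv D11815)))
theorem Q3964 : ∀ i, i < 3964 → P i := stepQ 3963 Q3963 (allL N3963 (tt N6646 D15500) (tt N2396 (iv D11816)) (tt N6647 D15501) (tt N6645 (iv F26911)) (tt N2397 F20882) (tt N6648 D15502) (tt N6634 (iv F26892)))
theorem Q3965 : ∀ i, i < 3965 → P i := stepQ 3964 Q3964 (allL N3964 (tt N2397 (iv D11817)) (tt N5131 (iv F33252)) (tt N6649 D15504) (tt N5161 F33251) (tt N6646 (iv F26912)) (tt N6650 D15505) (tt N6637 (iv F26897)))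
theorem Q3966 : ∀ i, i < 3966 → P i := stepQ 3965 Q3965 (allL N3965 (tt N6649 (iv F26917)) (tt N2400 F20883) (tt N2397 (iv D11818)) (tt N6651 D15506) (tt N6647 (iv F26914)) (tt N6652 D15507) (tt N6638 (iv F26899)))
theorem Q3967 : ∀ i, i < 3967 → P i := stepQ 3966 Q3966 (allL N3966 (tt N6650 (iv F26918)) (tt N2867 F20884) (tt N6652 (iv F26922)) (tt N6644 (iv F26909)) (tt N6648 (iv F26916)) (tt N2397 (iv D11819)) (tt N6653 D15508))
theorem Q3968 : ∀ i, i < 3968 → P i := stepQ 3967 Q3967 (allL N3967 (tt N4864 (iv F32545)) (tt N6647 (iv F26913)) (tt N2398 (iv D11821)) (tt N6654 D15510) (tt N2400 F20889) (tt N2892 (iv F32548)) (tt N2442 F20891))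
theorem Q3969 : ∀ i, i < 3969 → P i := stepQ 3968 Q3968 (allL N3968 (tt N2400 F20892) (tt N6655 D15511) (tt N2399 (iv D11822)) (tt N6656 D15512) (tt N4864 F32599) (tt N2902 F20893) (tt N2444 F20894))
theorem Q3970 : ∀ i, i < 3970 → P i := stepQ 3969 Q3969 (allL N3969 (tt N6656 (iv F26931)) (tt N6651 (iv F26920)) (tt N6657 D15513) (tt N2400 (iv D11823)) (tt N6658 D15514) (tt N2903 F20895) (tt N2445 F20896))
theorem Q3971 : ∀ i, i < 3971 → P i := stepQ 3970 Q3970 (allL N3970 (tt N5087 (iv F34267)) (tt N2401 (iv D11824)) (tt N2402 F20897) (tt N6659 D15516) (tt N4116 (iv F32978)) (tt N6660 D15518) (tt N5081 (iv F34275)))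
theorem Q3972 : ∀ i, i < 3972 → P i := stepQ 3971 Q3971 (allL N3971 (tt N3971 F20898) (tt N6659 (iv F26942)) (tt N3971 F20900) (tt N2401 (iv D11825)) (tt N6661 D15520) (tt N4109 (iv F32981)) (tt N3971 F20899))
theorem Q3973 : ∀ i, i < 3973 → P i := stepQ 3972 Q3972 (allL N3972 (tt N3942 (iv F34270)) (tt N6662 D15534) (tt N6660 (iv F26945)) (tt N3929 F20919) (tt N3029 F34227) (tt N2402 (iv D11833)) (tt N3026 (iv F34280)))
theorem Q3974 : ∀ i, i < 3974 → P i := stepQ 3973 Q3973 (allL N3973 (tt N6663 D15537) (tt N2404 (iv D11836)) (tt N4071 (iv F32930)) (tt N3932 F20924) (tt N4080 (iv F32921)) (tt N6662 (iv F26977)) (tt N6664 D15539))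
theorem Q3975 : ∀ i, i < 3975 → P i := stepQ 3974 Q3974 (allL N3974 (tt N6665 D15543) (tt N2405 (iv D11840)) (tt N6665 (iv F26992)) (tt N3916 F20934) (tt N6666 D15544) (tt N6667 D15545) (tt N6668 D15546))
theorem Q3976 : ∀ i, i < 3976 → P i := stepQ 3975 Q3975 (allL N3975 (tt N2406 F20931) (tt N3916 (iv F20933)) (tt N2406 F20932) (tt N2405 (iv D11841)) (tt N6669 D15547) (tt N6670 D15548) (tt N3062 F34254))
theorem Q3977 : ∀ i, i < 3977 → P i := stepQ 3976 Q3976 (allL N3976 (tt N2407 F20935) (tt N6666 (iv F26996)) (tt N2454 F20936) (tt N6671 D15550) (tt N2405 (iv D11842)) (tt N6672 D15551) (tt N4057 F34194))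
theorem Q3978 : ∀ i, i < 3978 → P i := stepQ 3977 Q3977 (allL N3977 (tt N2408 F20937) (tt N6010 (iv F35000)) (tt N2455 F20938) (tt N6670 (iv F27004)) (tt N6672 (iv F27011)) (tt N2405 (iv D11843)) (tt N3987 (iv F20954)))
theorem Q3979 : ∀ i, i < 3979 → P i := stepQ 3978 Q3978 (allL N3978 (tt N2409 F20939) (tt N3048 (iv F34211)) (tt N2456 F20940) (tt N3062 (iv F34214)) (tt N4057 F34192) (tt N3986 (iv F20951)) (tt N2405 (iv D11844)))
theorem Q3980 : ∀ i, i < 3980 → P i := stepQ 3979 Q3979 (allL N3979 (tt N6669 (iv F26999)) (tt N2410 F20941) (tt N6669 (iv F27001)) (tt N6673 D15555) (tt N2406 (iv D11845)) (tt N6674 D15556) (tt N6675 D15557))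
theorem Q3981 : ∀ i, i < 3981 → P i := stepQ 3980 Q3980 (allL N3980 (tt N6670 (iv F27002)) (tt N6676 D15558) (tt N6670 (iv F27003)) (tt N2408 F20942) (tt N6674 (iv F27017)) (tt N2406 (iv D11846)) (tt N5157 F34266))
theorem Q3982 : ∀ i, i < 3982 → P i := stepQ 3981 Q3981 (allL N3981 (tt N3062 (iv F34212)) (tt N6154 (iv F25846)) (tt N3062 (iv F34213)) (tt N2409 F20943) (tt N6675 (iv F27018)) (tt N6677 D15560) (tt N2406 (iv D11847)))
theorem Q3983 : ∀ i, i < 3983 → P i := stepQ 3982 Q3982 (allL N3982 (tt N6671 (iv F27008)) (tt N2412 F20944) (tt N6678 D15561) (tt N2407 (iv D11848)) (tt N6673 (iv F27016)) (tt N6679 D15562) (tt N6680 D15563))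
theorem Q3984 : ∀ i, i < 3984 → P i := stepQ 3983 Q3983 (allL N3983 (tt N6672 (iv F27009)) (tt N6681 D15564) (tt N2458 F20945) (tt N6679 (iv F27027)) (tt N2408 F20946) (tt N2407 (iv D11849)) (tt N6682 D15565))
theorem Q3985 : ∀ i, i < 3985 → P i := stepQ 3984 Q3984 (allL N3984 (tt N4057 (iv F34184)) (tt N3579 F34467) (tt N2459 F20947) (tt N6680 (iv F27028)) (tt N2409 F20948) (tt N6636 (iv F35009)) (tt N2407 (iv D11850)))
theorem Q3986 : ∀ i, i < 3986 → P i := stepQ 3985 Q3985 (allL N3985 (tt N6683 D15567) (tt N2408 (iv D11851)) (tt N6684 D15568) (tt N6676 (iv F27019)) (tt N6681 (iv F27029)) (tt N2414 F20949) (tt N6685 D15569))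
theorem Q3987 : ∀ i, i < 3987 → P i := stepQ 3986 Q3986 (allL N3986 (tt N3987 (iv F20952)) (tt N6650 (iv F34255)) (tt N2461 F20950) (tt N5157 (iv F34253)) (tt N6682 (iv F27032)) (tt N3978 F20951) (tt N2408 (iv D11852)))
theorem Q3988 : ∀ i, i < 3988 → P i := stepQ 3987 Q3987 (allL N3987 (tt N3986 F20952) (tt N6633 (iv F35004)) (tt N2462 F20953) (tt N6677 (iv F27025)) (tt N6636 (iv F35008)) (tt N2409 (iv D11853)) (tt N3977 F20954))
theorem Q3989 : ∀ i, i < 3989 → P i := stepQ 3988 Q3988 (allL N3988 (tt N3930 F20955) (tt N6673 (iv F27015)) (tt N6128 (iv F25787)) (tt N2410 (iv D11854)) (tt N2412 F20956) (tt N6686 D15572) (tt N6156 (iv F25859)))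
theorem Q3990 : ∀ i, i < 3990 → P i := stepQ 3989 Q3989 (allL N3989 (tt N3931 F20957) (tt N6687 D15573) (tt N3923 F20958) (tt N6686 (iv F27043)) (tt N2411 F20959) (tt N2410 (iv D11855)) (tt N2887 F20960))
theorem Q3991 : ∀ i, i < 3991 → P i := stepQ 3990 Q3990 (allL N3990 (tt N5142 F35054) (tt N2411 (iv D11856)) (tt N6688 D15575) (tt N2414 F20961) (tt N6687 (iv F27046)) (tt N6676 (iv F27020)) (tt N6689 D15576))
theorem Q3992 : ∀ i, i < 3992 → P i := stepQ 3991 Q3991 (allL N3991 (tt N3659 F20962) (tt N3015 (iv F34180)) (tt N2412 (iv D11857)) (tt N2872 F20963) (tt N6128 (iv F25784)) (tt N2888 (iv F20965)) (tt N3021 F34175))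
theorem Q3993 : ∀ i, i < 3993 → P i := stepQ 3992 Q3992 (allL N3992 (tt N4091 (iv F32918)) (tt N6690 D15578) (tt N2888 F20966) (tt N2413 F20967) (tt N6686 (iv F27044)) (tt N2412 (iv D11858)) (tt N2888 F20968))
theorem Q3994 : ∀ i, i < 3994 → P i := stepQ 3993 Q3993 (allL N3993 (tt N6691 D15579) (tt N2413 (iv D11859)) (tt N6692 D15580) (tt N6690 (iv F27052)) (tt N2414 F20969) (tt N6681 (iv F27030)) (tt N6693 D15581))
theorem Q3995 : ∀ i, i < 3995 → P i := stepQ 3994 Q3994 (allL N3994 (tt N2414 (iv D11860)) (tt N5124 (iv F35052)) (tt N6694 D15583) (tt N5142 (iv F35053)) (tt N6691 (iv F27053)) (tt N6683 (iv F27038)) (tt N6640 F35051))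
theorem Q3996 : ∀ i, i < 3996 → P i := stepQ 3995 Q3995 (allL N3995 (tt N6694 (iv F27058)) (tt N2417 F20970) (tt N2414 (iv D11861)) (tt N6695 D15585) (tt N6692 (iv F27055)) (tt N6684 (iv F27040)) (tt N6696 D15586))
theorem Q3997 : ∀ i, i < 3997 → P i := stepQ 3996 Q3996 (allL N3996 (tt N6640 (iv F35049)) (tt N2886 F20971) (tt N6696 (iv F27063)) (tt N6689 (iv F27050)) (tt N6693 (iv F27057)) (tt N6697 D15587) (tt N2414 (iv D11862)))
theorem Q3998 : ∀ i, i < 3998 → P i := stepQ 3997 Q3997 (allL N3997 (tt N4835 F32779) (tt N6692 (iv F27054)) (tt N2415 (iv D11864)) (tt N6698 D15589) (tt N2417 F20976) (tt N2472 F20977) (tt N2906 F32780))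
theorem Q3999 : ∀ i, i < 3999 → P i := stepQ 3998 Q3998 (allL N3998 (tt N2417 F20979) (tt N6699 D15590) (tt N2416 (iv D11865)) (tt N6657 (iv F26936)) (tt N4835 F32794) (tt N2474 F20980) (tt N2914 F20981))
theorem Q4000 : ∀ i, i < 4000 → P i := stepQ 3999 Q3999 (allL N3999 (tt N6657 (iv F26935)) (tt N6695 (iv F27061)) (tt N6656 (iv F26934)) (tt N2417 (iv D11866)) (tt N6700 D15591) (tt N2475 F20982) (tt N2915 F20983))
theorem Q4001 : ∀ i, i < 4001 → P i := stepQ 4000 Q4000 (allL N4000 (tt N6701 D15592) (tt N2418 (iv D11867)) (tt N6702 D15593) (tt N2423 F20984) (tt N2484 F29069) (tt N2482 (iv F29082)) (tt N6703 D15596))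
theorem Q4002 : ∀ i, i < 4002 → P i := stepQ 4001 Q4001 (allL N4001 (tt N2421 F20990) (tt N6704 D15601) (tt N4001 F20991) (tt N2426 F20992) (tt N4003 F29070) (tt N4003 (iv F21001)) (tt N2418 (iv D11870)))
theorem Q4003 : ∀ i, i < 4003 → P i := stepQ 4002 Q4002 (allL N4002 (tt N4003 (iv F29064)) (tt N5740 (iv F24995)) (tt N4002 F20997) (tt N2432 F29059) (tt N2421 F20998) (tt N2421 (iv F29068)) (tt N2419 (iv D11873)))
theorem Q4004 : ∀ i, i < 4004 → P i := stepQ 4003 Q4003 (allL N4003 (tt N4002 F29064) (tt N6705 D15607) (tt N4003 F20999) (tt N2430 F21000) (tt N4001 (iv F29070)) (tt N4001 F21001) (tt N2420 (iv D11874)))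
theorem Q4005 : ∀ i, i < 4005 → P i := stepQ 4004 Q4004 (allL N4004 (tt N2423 (iv D11876)) (tt N6701 (iv F27074)) (tt N5092 (iv F28872)) (tt N6701 (iv F27075)) (tt N5095 (iv F29096)) (tt N5117 (iv F29077)) (tt N6706 D15611))
theorem Q4006 : ∀ i, i < 4006 → P i := stepQ 4005 Q4005 (allL N4005 (tt N5092 (iv F28871)) (tt N6617 F26852) (tt N2423 (iv D11877)) (tt N6707 D15612) (tt N5094 (iv F29098)) (tt N5116 (iv F29080)) (tt N6708 D15615))
theorem Q4007 : ∀ i, i < 4007 → P i := stepQ 4006 Q4006 (allL N4006 (tt N5095 (iv F29095)) (tt N2424 F21006) (tt N5094 (iv F29097)) (tt N3359 F29073) (tt N2423 (iv D11878)) (tt N3358 (iv F29084)) (tt N6709 D15618))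
theorem Q4008 : ∀ i, i < 4008 → P i := stepQ 4007 Q4007 (allL N4007 (tt N5117 (iv F29076)) (tt N2433 F29066) (tt N5116 (iv F29079)) (tt N2482 (iv F29081)) (tt N3358 (iv F29083)) (tt N2423 (iv D11879)) (tt N6710 D15620))
theorem Q4009 : ∀ i, i < 4009 → P i := stepQ 4008 Q4008 (allL N4008 (tt N6706 (iv F27107)) (tt N6711 D15621) (tt N6708 (iv F27112)) (tt N6703 (iv F27079)) (tt N6709 (iv F27115)) (tt N6712 D15622) (tt N2423 (iv D11880)))
theorem Q4010 : ∀ i, i < 4010 → P i := stepQ 4009 Q4009 (allL N4009 (tt N2429 F21010) (tt N6713 D15627) (tt N6624 (iv F26872)) (tt N4013 F29074) (tt N2426 F21011) (tt N4013 (iv F21015)) (tt N2424 (iv D11883)))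
theorem Q4011 : ∀ i, i < 4011 → P i := stepQ 4010 Q4010 (allL N4010 (tt N6714 D15631) (tt N2426 (iv D11885)) (tt N6027 (iv F35380)) (tt N6704 (iv F27089)) (tt N6713 (iv F27127)) (tt N6715 D15633) (tt N6711 (iv F27118)))
theorem Q4012 : ∀ i, i < 4012 → P i := stepQ 4011 Q4011 (allL N4011 (tt N3953 (iv F29052)) (tt N5116 (iv F29045)) (tt N2427 (iv D11886)) (tt N6716 D15635) (tt N3947 F29048) (tt N3946 (iv F29053)) (tt N6635 (iv F29054)))
theorem Q4013 : ∀ i, i < 4013 → P i := stepQ 4012 Q4012 (allL N4012 (tt N4013 (iv F29065)) (tt N6717 D15639) (tt N6635 F29062) (tt N2429 F21013) (tt N2432 F29063) (tt N2429 (iv F29072)) (tt N2427 (iv D11888)))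
theorem Q4014 : ∀ i, i < 4014 → P i := stepQ 4013 Q4013 (allL N4013 (tt N4012 F29065) (tt N6718 D15641) (tt N6633 (iv F26888)) (tt N4009 (iv F29074)) (tt N2430 F21014) (tt N4009 F21015) (tt N2428 (iv D11889)))
theorem Q4015 : ∀ i, i < 4015 → P i := stepQ 4014 Q4014 (allL N4014 (tt N6719 D15642) (tt N2429 (iv D11890)) (tt N6720 D15643) (tt N6717 (iv F27137)) (tt N2431 F21016) (tt N6721 D15644) (tt N2435 F21017))
theorem Q4016 : ∀ i, i < 4016 → P i := stepQ 4015 Q4015 (allL N4015 (tt N6722 D15646) (tt N2430 (iv D11892)) (tt N6723 D15647) (tt N6705 (iv F27103)) (tt N6718 (iv F27142)) (tt N6724 D15648) (tt N5680 (iv F24890)))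
theorem Q4017 : ∀ i, i < 4017 → P i := stepQ 4016 Q4016 (allL N4016 (tt N2431 (iv D11893)) (tt N6725 D15649) (tt N6726 D15650) (tt N5737 (iv F24990)) (tt N6719 (iv F27143)) (tt N4032 (iv F21044)) (tt N2437 F21021))
theorem Q4018 : ∀ i, i < 4018 → P i := stepQ 4017 Q4017 (allL N4017 (tt N6726 (iv F27150)) (tt N6638 (iv F26898)) (tt N2431 (iv D11894)) (tt N6727 D15651) (tt N6720 (iv F27145)) (tt N6728 D15652) (tt N2438 F21022))
theorem Q4019 : ∀ i, i < 4019 → P i := stepQ 4018 Q4018 (allL N4018 (tt N4032 (iv F21043)) (tt N6729 D15653) (tt N6728 (iv F27153)) (tt N5742 (iv F25000)) (tt N6721 (iv F27147)) (tt N2431 (iv D11895)) (tt N4028 (iv F21038)))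
theorem Q4020 : ∀ i, i < 4020 → P i := stepQ 4019 Q4019 (allL N4019 (tt N6730 D15654) (tt N2432 (iv D11896)) (tt N6731 D15655) (tt N5740 (iv F29071)) (tt N6717 (iv F29075)) (tt N6729 (iv F27154)) (tt N5738 (iv F29067)))
theorem Q4021 : ∀ i, i < 4021 → P i := stepQ 4020 Q4020 (allL N4020 (tt N3364 F21025) (tt N6732 D15660) (tt N2434 F21026) (tt N2436 F21027) (tt N3364 F21028) (tt N2434 F21029) (tt N2433 (iv D11898)))
theorem Q4022 : ∀ i, i < 4022 → P i := stepQ 4021 Q4021 (allL N4021 (tt N6733 D15661) (tt N2434 (iv D11899)) (tt N6734 D15662) (tt N2435 F21030) (tt N5738 (iv F24992)) (tt N6735 D15663) (tt N6717 (iv F27138)))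
theorem Q4023 : ∀ i, i < 4023 → P i := stepQ 4022 Q4022 (allL N4022 (tt N2435 (iv D11900)) (tt N6736 D15664) (tt N6737 D15665) (tt N6733 (iv F27165)) (tt N2437 F21031) (tt N6738 D15666) (tt N6719 (iv F27144)))
theorem Q4024 : ∀ i, i < 4024 → P i := stepQ 4023 Q4023 (allL N4023 (tt N6737 (iv F27168)) (tt N2442 F21032) (tt N2435 (iv D11901)) (tt N6739 D15667) (tt N2438 F21033) (tt N6740 D15668) (tt N6720 (iv F27146)))
theorem Q4025 : ∀ i, i < 4025 → P i := stepQ 4024 Q4024 (allL N4024 (tt N6738 (iv F27170)) (tt N6741 D15669) (tt N6740 (iv F27174)) (tt N6735 (iv F27166)) (tt N2439 F21034) (tt N2435 (iv D11902)) (tt N5688 (iv F34933)))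
theorem Q4026 : ∀ i, i < 4026 → P i := stepQ 4025 Q4025 (allL N4025 (tt N6742 D15671) (tt N2436 (iv D11903)) (tt N3943 F32505) (tt N6732 (iv F27163)) (tt N2440 F21035) (tt N6741 (iv F27177)) (tt N6743 D15673))
theorem Q4027 : ∀ i, i < 4027 → P i := stepQ 4026 Q4026 (allL N4026 (tt N6744 D15674) (tt N2437 (iv D11904)) (tt N6745 D15675) (tt N5734 (iv F24985)) (tt N6736 (iv F27167)) (tt N6746 D15676) (tt N6747 D15677))
theorem Q4028 : ∀ i, i < 4028 → P i := stepQ 4027 Q4027 (allL N4027 (tt N2438 F21036) (tt N6748 D15678) (tt N2437 (iv D11905)) (tt N6749 D15679) (tt N6737 (iv F27169)) (tt N6750 D15680) (tt N6726 (iv F27151)))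
theorem Q4029 : ∀ i, i < 4029 → P i := stepQ 4028 Q4028 (allL N4028 (tt N2439 F21037) (tt N6751 D15681) (tt N6750 (iv F27188)) (tt N5736 (iv F24988)) (tt N6738 (iv F27171)) (tt N2437 (iv D11906)) (tt N4018 F21038))
theorem Q4030 : ∀ i, i < 4030 → P i := stepQ 4029 Q4029 (allL N4029 (tt N6749 (iv F27186)) (tt N2445 F21039) (tt N5428 F36109) (tt N2438 (iv D11907)) (tt N6752 D15683) (tt N5427 (iv F36113)) (tt N6727 (iv F27152)))
theorem Q4031 : ∀ i, i < 4031 → P i := stepQ 4030 Q4030 (allL N4030 (tt N6750 (iv F27187)) (tt N6753 D15685) (tt N2439 F21040) (tt N5427 F36117) (tt N6740 (iv F27175)) (tt N2438 (iv D11908)) (tt N5426 (iv F36118)))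
theorem Q4032 : ∀ i, i < 4032 → P i := stepQ 4031 Q4031 (allL N4031 (tt N6754 D15687) (tt N2439 (iv D11909)) (tt N6755 D15688) (tt N3368 F21041) (tt N6741 (iv F27176)) (tt N2440 F21042) (tt N6756 D15689))
theorem Q4033 : ∀ i, i < 4033 → P i := stepQ 4032 Q4032 (allL N4032 (tt N4018 F21043) (tt N5685 (iv F34945)) (tt N5426 F36121) (tt N5741 (iv F24997)) (tt N5688 (iv F34931)) (tt N4016 F21044) (tt N2439 (iv D11910)))
theorem Q4034 : ∀ i, i < 4034 → P i := stepQ 4033 Q4033 (allL N4033 (tt N2440 (iv D11911)) (tt N6757 D15691) (tt N6758 D15692) (tt N3366 F21045) (tt N6742 (iv F27181)) (tt N6754 (iv F27197)) (tt N6759 D15693))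
theorem Q4035 : ∀ i, i < 4035 → P i := stepQ 4034 Q4034 (allL N4034 (tt N6758 (iv F27201)) (tt N2447 F21046) (tt N2440 (iv D11912)) (tt N5115 (iv F32490)) (tt N3943 (iv F32492)) (tt N6755 (iv F27198)) (tt N5101 (iv F32496)))
theorem Q4036 : ∀ i, i < 4036 → P i := stepQ 4035 Q4035 (allL N4035 (tt N6759 (iv F27202)) (tt N2485 F21047) (tt N5101 (iv F32495)) (tt N3362 F21048) (tt N6743 (iv F27185)) (tt N6760 D15696) (tt N2440 (iv D11913)))
theorem Q4037 : ∀ i, i < 4037 → P i := stepQ 4036 Q4036 (allL N4036 (tt N2442 F21049) (tt N6761 D15697) (tt N2441 (iv D11914)) (tt N6762 D15698) (tt N2444 F21050) (tt N4839 (iv F32608)) (tt N4864 F32580))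
theorem Q4038 : ∀ i, i < 4038 → P i := stepQ 4037 Q4037 (allL N4037 (tt N6762 (iv F27211)) (tt N6739 (iv F27173)) (tt N4083 (iv F21133)) (tt N2442 (iv D11915)) (tt N6763 D15699) (tt N4841 (iv F32618)) (tt N6654 (iv F26930)))
theorem Q4039 : ∀ i, i < 4039 → P i := stepQ 4038 Q4038 (allL N4038 (tt N5626 (iv F32662)) (tt N6764 D15704) (tt N2443 (iv D11919)) (tt N6765 D15705) (tt N5627 (iv F32664)) (tt N5627 (iv F24656)) (tt N3372 F21058))
theorem Q4040 : ∀ i, i < 4040 → P i := stepQ 4039 Q4039 (allL N4039 (tt N6766 D15706) (tt N2444 (iv D11920)) (tt N6764 (iv F27219)) (tt N6767 D15707) (tt N6761 (iv F27210)) (tt N6768 D15708) (tt N6769 D15709))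
theorem Q4041 : ∀ i, i < 4041 → P i := stepQ 4040 Q4040 (allL N4040 (tt N2445 F21059) (tt N6767 (iv F27221)) (tt N2915 F21060) (tt N2444 (iv D11921)) (tt N6770 D15710) (tt N4907 F22763) (tt N6656 (iv F26933)))
theorem Q4042 : ∀ i, i < 4042 → P i := stepQ 4041 Q4041 (allL N4041 (tt N2915 F21061) (tt N6771 D15711) (tt N2445 (iv D11922)) (tt N2914 F21062) (tt N6772 D15712) (tt N4089 F21149) (tt N6657 (iv F26938)))
theorem Q4043 : ∀ i, i < 4043 → P i := stepQ 4042 Q4042 (allL N4042 (tt N6770 (iv F27222)) (tt N6752 (iv F27190)) (tt N6772 (iv F27226)) (tt N6763 (iv F27212)) (tt N2445 (iv D11923)) (tt N6773 D15713) (tt N6658 (iv F26940)))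
theorem Q4044 : ∀ i, i < 4044 → P i := stepQ 4043 Q4043 (allL N4043 (tt N4907 (iv F22761)) (tt N6774 D15714) (tt N4089 (iv F21147)) (tt N2446 F21063) (tt N6773 (iv F27227)) (tt N2445 (iv D11924)) (tt N4087 F21146))
theorem Q4045 : ∀ i, i < 4045 → P i := stepQ 4044 Q4044 (allL N4044 (tt N6775 D15715) (tt N2446 (iv D11925)) (tt N4844 F32510) (tt N6774 (iv F27228)) (tt N4840 (iv F32529)) (tt N6753 (iv F27192)) (tt N6776 D15716))
theorem Q4046 : ∀ i, i < 4046 → P i := stepQ 4045 Q4045 (allL N4045 (tt N3962 (iv F32486)) (tt N5115 (iv F32489)) (tt N4847 (iv F32487)) (tt N2447 (iv D11926)) (tt N6560 (iv F32491)) (tt N4847 (iv F32488)) (tt N3020 F32476))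
theorem Q4047 : ∀ i, i < 4047 → P i := stepQ 4046 Q4046 (allL N4046 (tt N6777 D15720) (tt N2448 (iv D11928)) (tt N6778 D15721) (tt N2453 F21066) (tt N2493 F34311) (tt N6779 D15723) (tt N2490 (iv F34366)))
theorem Q4048 : ∀ i, i < 4048 → P i := stepQ 4047 Q4047 (allL N4047 (tt N2450 F21069) (tt N6780 D15728) (tt N4047 F21070) (tt N2455 F21071) (tt N4049 F34314) (tt N2448 (iv D11930)) (tt N4049 (iv F21087)))
theorem Q4049 : ∀ i, i < 4049 → P i := stepQ 4048 Q4048 (allL N4048 (tt N4049 F34304) (tt N5706 (iv F24931)) (tt N4048 F21077) (tt N2461 F34305) (tt N2450 F21078) (tt N2449 (iv D11933)) (tt N2450 (iv F34315)))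
theorem Q4050 : ∀ i, i < 4050 → P i := stepQ 4049 Q4049 (allL N4049 (tt N4048 (iv F34304)) (tt N6781 D15736) (tt N4049 F21085) (tt N2462 F21086) (tt N4047 (iv F34314)) (tt N2451 (iv D11936)) (tt N4047 F21087))
theorem Q4051 : ∀ i, i < 4051 → P i := stepQ 4050 Q4050 (allL N4050 (tt N2453 (iv D11937)) (tt N6777 (iv F27232)) (tt N5093 F34307) (tt N6777 (iv F27233)) (tt N5099 F34308) (tt N6782 D15738) (tt N5121 (iv F34354)))
theorem Q4052 : ∀ i, i < 4052 → P i := stepQ 4051 Q4051 (allL N4051 (tt N5093 F34309) (tt N6665 F26993) (tt N2453 (iv D11938)) (tt N6783 D15740) (tt N5098 F34310) (tt N6784 D15742) (tt N5120 (iv F34359)))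
theorem Q4053 : ∀ i, i < 4053 → P i := stepQ 4052 Q4052 (allL N4052 (tt N5099 (iv F34256)) (tt N2454 F21088) (tt N5098 (iv F34257)) (tt N3384 F34215) (tt N2453 (iv D11939)) (tt N6785 D15745) (tt N3382 (iv F34262)))
theorem Q4054 : ∀ i, i < 4054 → P i := stepQ 4053 Q4053 (allL N4053 (tt N6782 (iv F27264)) (tt N6786 D15747) (tt N6784 (iv F27269)) (tt N6779 (iv F27236)) (tt N6785 (iv F27272)) (tt N2453 (iv D11940)) (tt N6787 D15748))
theorem Q4055 : ∀ i, i < 4055 → P i := stepQ 4054 Q4054 (allL N4054 (tt N5121 (iv F34353)) (tt N2463 F34312) (tt N5120 (iv F34358)) (tt N2490 (iv F34365)) (tt N3382 F34313) (tt N6788 D15750) (tt N2453 (iv D11941)))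
theorem Q4056 : ∀ i, i < 4056 → P i := stepQ 4055 Q4055 (allL N4055 (tt N2458 F21090) (tt N6789 D15754) (tt N6672 (iv F27010)) (tt N4060 F34216) (tt N2455 F21091) (tt N2454 (iv D11943)) (tt N4060 (iv F21102)))
theorem Q4057 : ∀ i, i < 4057 → P i := stepQ 4056 Q4056 (allL N4056 (tt N6790 D15756) (tt N2455 (iv D11945)) (tt N6011 (iv F35001)) (tt N6780 (iv F27246)) (tt N6789 (iv F27284)) (tt N6786 (iv F27274)) (tt N6791 D15758))
theorem Q4058 : ∀ i, i < 4058 → P i := stepQ 4057 Q4057 (allL N4057 (tt N3984 F34184) (tt N5120 (iv F32081)) (tt N2457 (iv D11947)) (tt N6792 D15763) (tt N3978 (iv F34192)) (tt N6682 (iv F34193)) (tt N3976 (iv F34194)))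
theorem Q4059 : ∀ i, i < 4059 → P i := stepQ 4058 Q4058 (allL N4058 (tt N4060 F34209) (tt N6793 D15766) (tt N6682 F34210) (tt N2458 F21094) (tt N2461 (iv F34249)) (tt N2457 (iv D11948)) (tt N2458 (iv F34217)))
theorem Q4060 : ∀ i, i < 4060 → P i := stepQ 4059 Q4059 (allL N4059 (tt N6794 D15769) (tt N2458 (iv D11950)) (tt N6795 D15770) (tt N6793 (iv F27290)) (tt N2460 F21096) (tt N2465 F21097) (tt N6796 D15771))
theorem Q4061 : ∀ i, i < 4061 → P i := stepQ 4060 Q4060 (allL N4060 (tt N4058 (iv F34209)) (tt N6723 (iv F35014)) (tt N6636 (iv F35007)) (tt N4055 (iv F34216)) (tt N2462 F21101) (tt N2459 (iv D11952)) (tt N4055 F21102))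
theorem Q4062 : ∀ i, i < 4062 → P i := stepQ 4061 Q4061 (allL N4061 (tt N2460 (iv D11953)) (tt N6797 D15774) (tt N6798 D15775) (tt N5703 (iv F24926)) (tt N6794 (iv F27297)) (tt N2467 F21103) (tt N4078 (iv F21126)))
theorem Q4063 : ∀ i, i < 4063 → P i := stepQ 4062 Q4062 (allL N4062 (tt N6798 (iv F27304)) (tt N6684 (iv F27039)) (tt N2460 (iv D11954)) (tt N6799 D15776) (tt N6795 (iv F27299)) (tt N2468 F21104) (tt N6800 D15777))
theorem Q4064 : ∀ i, i < 4064 → P i := stepQ 4063 Q4063 (allL N4063 (tt N4078 (iv F21125)) (tt N6801 D15778) (tt N6800 (iv F27307)) (tt N5708 (iv F24934)) (tt N6796 (iv F27301)) (tt N4074 (iv F21120)) (tt N2460 (iv D11955)))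
theorem Q4065 : ∀ i, i < 4065 → P i := stepQ 4064 Q4064 (allL N4064 (tt N6802 D15779) (tt N2461 (iv D11956)) (tt N6803 D15780) (tt N5706 (iv F34348)) (tt N6793 (iv F34250)) (tt N5705 (iv F34347)) (tt N6801 (iv F27308)))
theorem Q4066 : ∀ i, i < 4066 → P i := stepQ 4065 Q4065 (allL N4065 (tt N6804 D15782) (tt N2462 (iv D11957)) (tt N6718 (iv F35005)) (tt N6781 (iv F27262)) (tt N6723 (iv F35015)) (tt N5719 (iv F24957)) (tt N6805 D15784))
theorem Q4067 : ∀ i, i < 4067 → P i := stepQ 4066 Q4066 (allL N4066 (tt N3388 F21107) (tt N6806 D15788) (tt N2464 F21108) (tt N2466 F21109) (tt N3388 F21110) (tt N2463 (iv D11959)) (tt N2464 F21111))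
theorem Q4068 : ∀ i, i < 4068 → P i := stepQ 4067 Q4067 (allL N4067 (tt N6807 D15789) (tt N2464 (iv D11960)) (tt N6808 D15790) (tt N2465 F21112) (tt N5705 (iv F24930)) (tt N6793 (iv F27291)) (tt N6809 D15791))
theorem Q4069 : ∀ i, i < 4069 → P i := stepQ 4068 Q4068 (allL N4068 (tt N2465 (iv D11961)) (tt N6810 D15792) (tt N6811 D15793) (tt N6807 (iv F27320)) (tt N2467 F21113) (tt N6794 (iv F27298)) (tt N6812 D15794))
theorem Q4070 : ∀ i, i < 4070 → P i := stepQ 4069 Q4069 (allL N4069 (tt N6811 (iv F27323)) (tt N2472 F21114) (tt N2465 (iv D11962)) (tt N6813 D15795) (tt N2468 F21115) (tt N6795 (iv F27300)) (tt N6814 D15796))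
theorem Q4071 : ∀ i, i < 4071 → P i := stepQ 4070 Q4070 (allL N4070 (tt N6812 (iv F27325)) (tt N6815 D15797) (tt N6814 (iv F27329)) (tt N6809 (iv F27321)) (tt N2469 F21116) (tt N5723 (iv F34968)) (tt N2465 (iv D11963)))
theorem Q4072 : ∀ i, i < 4072 → P i := stepQ 4071 Q4071 (allL N4071 (tt N6816 D15799) (tt N2466 (iv D11964)) (tt N3973 F32930) (tt N6806 (iv F27318)) (tt N2470 F21117) (tt N6817 D15801) (tt N6815 (iv F27332)))
theorem Q4073 : ∀ i, i < 4073 → P i := stepQ 4072 Q4072 (allL N4072 (tt N6818 D15802) (tt N2467 (iv D11965)) (tt N6819 D15803) (tt N5701 (iv F24923)) (tt N6810 (iv F27322)) (tt N6820 D15804) (tt N6821 D15805))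
theorem Q4074 : ∀ i, i < 4074 → P i := stepQ 4073 Q4073 (allL N4073 (tt N2468 F21118) (tt N6822 D15806) (tt N2467 (iv D11966)) (tt N6823 D15807) (tt N6811 (iv F27324)) (tt N6798 (iv F27305)) (tt N6824 D15808))
theorem Q4075 : ∀ i, i < 4075 → P i := stepQ 4074 Q4074 (allL N4074 (tt N2469 F21119) (tt N6825 D15809) (tt N6824 (iv F27343)) (tt N5704 (iv F24928)) (tt N6812 (iv F27326)) (tt N4063 F21120) (tt N2467 (iv D11967)))
theorem Q4076 : ∀ i, i < 4076 → P i := stepQ 4075 Q4075 (allL N4075 (tt N6823 (iv F27341)) (tt N2475 F21121) (tt N5412 F35964) (tt N2468 (iv D11968)) (tt N6826 D15811) (tt N6799 (iv F27306)) (tt N5411 (iv F35971)))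
theorem Q4077 : ∀ i, i < 4077 → P i := stepQ 4076 Q4076 (allL N4076 (tt N6824 (iv F27342)) (tt N6827 D15813) (tt N2469 F21122) (tt N5411 F35972) (tt N6814 (iv F27330)) (tt N5410 (iv F35973)) (tt N2468 (iv D11969)))
theorem Q4078 : ∀ i, i < 4078 → P i := stepQ 4077 Q4077 (allL N4077 (tt N6828 D15815) (tt N2469 (iv D11970)) (tt N6829 D15816) (tt N3392 F21123) (tt N6815 (iv F27331)) (tt N6830 D15817) (tt N2470 F21124))
theorem Q4079 : ∀ i, i < 4079 → P i := stepQ 4078 Q4078 (allL N4078 (tt N4063 F21125) (tt N5721 (iv F34971)) (tt N5410 F35976) (tt N5709 (iv F24937)) (tt N5723 (iv F34967)) (tt N2469 (iv D11971)) (tt N4061 F21126))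
theorem Q4080 : ∀ i, i < 4080 → P i := stepQ 4079 Q4079 (allL N4079 (tt N2470 (iv D11972)) (tt N6831 D15819) (tt N6832 D15820) (tt N3390 F21127) (tt N6816 (iv F27336)) (tt N6833 D15821) (tt N6828 (iv F27352)))
theorem Q4081 : ∀ i, i < 4081 → P i := stepQ 4080 Q4080 (allL N4080 (tt N6832 (iv F27356)) (tt N2477 F21128) (tt N2470 (iv D11973)) (tt N5108 F34200) (tt N3973 F32921) (tt N5097 (iv F34229)) (tt N6829 (iv F27353)))
theorem Q4082 : ∀ i, i < 4082 → P i := stepQ 4081 Q4081 (allL N4081 (tt N6833 (iv F27357)) (tt N2492 F21129) (tt N5097 F34281) (tt N3385 F21130) (tt N6817 (iv F27340)) (tt N2470 (iv D11974)) (tt N6834 D15824))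
theorem Q4083 : ∀ i, i < 4083 → P i := stepQ 4082 Q4082 (allL N4082 (tt N2472 F21131) (tt N6835 D15825) (tt N2471 (iv D11975)) (tt N6836 D15826) (tt N2474 F21132) (tt N4835 (iv F32776)) (tt N4868 F32730))
theorem Q4084 : ∀ i, i < 4084 → P i := stepQ 4083 Q4083 (allL N4083 (tt N6836 (iv F27366)) (tt N6813 (iv F27328)) (tt N4037 F21133) (tt N2472 (iv D11976)) (tt N6837 D15827) (tt N6698 (iv F27070)) (tt N4870 F32665))
theorem Q4085 : ∀ i, i < 4085 → P i := stepQ 4084 Q4084 (allL N4084 (tt N5659 (iv F32871)) (tt N6838 D15832) (tt N2473 (iv D11980)) (tt N6839 D15833) (tt N5660 (iv F32785)) (tt N3396 F21141) (tt N5660 (iv F24764)))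
theorem Q4086 : ∀ i, i < 4086 → P i := stepQ 4085 Q4085 (allL N4085 (tt N6840 D15834) (tt N2474 (iv D11981)) (tt N6838 (iv F27376)) (tt N6841 D15835) (tt N6835 (iv F27365)) (tt N6842 D15836) (tt N6843 D15837))
theorem Q4087 : ∀ i, i < 4087 → P i := stepQ 4086 Q4086 (allL N4086 (tt N2475 F21142) (tt N6841 (iv F27379)) (tt N2903 F21143) (tt N2474 (iv D11982)) (tt N6844 D15838) (tt N6657 (iv F26937)) (tt N4926 (iv F22893)))
theorem Q4088 : ∀ i, i < 4088 → P i := stepQ 4087 Q4087 (allL N4087 (tt N2903 F21144) (tt N6845 D15839) (tt N2475 (iv D11983)) (tt N2902 F21145) (tt N6846 D15840) (tt N6656 (iv F26932)) (tt N4043 (iv F21146)))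
theorem Q4089 : ∀ i, i < 4089 → P i := stepQ 4088 Q4088 (allL N4088 (tt N6844 (iv F27380)) (tt N6826 (iv F27345)) (tt N6846 (iv F27384)) (tt N6837 (iv F27369)) (tt N2475 (iv D11984)) (tt N6700 (iv F27072)) (tt N6847 D15841))
theorem Q4090 : ∀ i, i < 4090 → P i := stepQ 4089 Q4089 (allL N4089 (tt N4926 (iv F22890)) (tt N6848 D15842) (tt N4043 F21147) (tt N2476 F21148) (tt N6847 (iv F27387)) (tt N4041 (iv F21149)) (tt N2475 (iv D11985)))
theorem Q4091 : ∀ i, i < 4091 → P i := stepQ 4090 Q4090 (allL N4090 (tt N6849 D15843) (tt N2476 (iv D11986)) (tt N4873 (iv F32840)) (tt N6848 (iv F27389)) (tt N4869 F32782) (tt N6850 D15844) (tt N6827 (iv F27347)))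
theorem Q4092 : ∀ i, i < 4092 → P i := stepQ 4091 Q4091 (allL N4091 (tt N3992 F32918) (tt N5108 (iv F34188)) (tt N4876 F32919) (tt N2477 (iv D11987)) (tt N6599 (iv F32953)) (tt N3021 F34179) (tt N4876 F32920))
theorem Q4093 : ∀ i, i < 4093 → P i := stepQ 4092 Q4092 (allL N4092 (tt N6851 D15856) (tt N2478 (iv D11997)) (tt N2482 F21170) (tt N6852 D15857) (tt N2479 F21171) (tt N6702 (iv F29091)) (tt N6853 D15859))
theorem Q4094 : ∀ i, i < 4094 → P i := stepQ 4093 Q4093 (allL N4093 (tt N4093 F21172) (tt N6852 (iv F27411)) (tt N4093 F21174) (tt N2478 (iv D11998)) (tt N6854 D15860) (tt N4093 F21173) (tt N3941 F32474))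
theorem Q4095 : ∀ i, i < 4095 → P i := stepQ 4094 Q4094 (allL N4094 (tt N2479 (iv D12000)) (tt N3440 F29124) (tt N2483 F21179) (tt N6855 D15864) (tt N6851 (iv F27410)) (tt N5088 (iv F29127)) (tt N6856 D15866))
theorem Q4096 : ∀ i, i < 4096 → P i := stepQ 4095 Q4095 (allL N4095 (tt N6855 (iv F27426)) (tt N2480 F21180) (tt N6857 D15867) (tt N2479 (iv D12001)) (tt N6858 D15868) (tt N6859 D15869) (tt N6860 D15870))
theorem Q4097 : ∀ i, i < 4097 → P i := stepQ 4096 Q4096 (allL N4096 (tt N5088 (iv F29125)) (tt N4096 F21181) (tt N2484 F21182) (tt N6859 (iv F27434)) (tt N6702 (iv F29090)) (tt N2479 (iv D12002)) (tt N6861 D15871))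
theorem Q4098 : ∀ i, i < 4098 → P i := stepQ 4097 Q4097 (allL N4097 (tt N6856 (iv F27429)) (tt N5091 (iv F32458)) (tt N2485 F21183) (tt N6860 (iv F27435)) (tt N6853 (iv F27416)) (tt N6862 D15873) (tt N2479 (iv D12003)))
theorem Q4099 : ∀ i, i < 4099 → P i := stepQ 4098 Q4098 (allL N4098 (tt N4098 F21184) (tt N6858 (iv F27432)) (tt N4098 F21185) (tt N6854 (iv F27419)) (tt N2480 (iv D12004)) (tt N4098 F21186) (tt N6863 D15874))
theorem Q4100 : ∀ i, i < 4100 → P i := stepQ 4099 Q4099 (allL N4099 (tt N4099 F21187) (tt N4934 F32465) (tt N4099 F21188) (tt N2481 F21189) (tt N6863 (iv F27444)) (tt N4099 F21190) (tt N2480 (iv D12005)))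
theorem Q4101 : ∀ i, i < 4101 → P i := stepQ 4100 Q4100 (allL N4100 (tt N3024 (iv F32460)) (tt N2481 (iv D12006)) (tt N3018 (iv F32461)) (tt N4934 (iv F32462)) (tt N3940 (iv F32463)) (tt N3016 (iv F32464)) (tt N5091 F32459))
theorem Q4102 : ∀ i, i < 4102 → P i := stepQ 4101 Q4101 (allL N4101 (tt N2482 (iv D12007)) (tt N6864 D15878) (tt N6851 (iv F27409)) (tt N5117 (iv F29044)) (tt N2483 F21191) (tt N6701 (iv F29088)) (tt N6865 D15880))
theorem Q4103 : ∀ i, i < 4103 → P i := stepQ 4102 Q4102 (allL N4102 (tt N6865 (iv F27451)) (tt N6743 (iv F27184)) (tt N6853 (iv F27415)) (tt N6710 (iv F29085)) (tt N2485 F21194) (tt N6866 D15882) (tt N2482 (iv D12009)))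
theorem Q4104 : ∀ i, i < 4104 → P i := stepQ 4103 Q4103 (allL N4103 (tt N6867 D15883) (tt N2483 (iv D12010)) (tt N3444 (iv F29116)) (tt N3354 F21195) (tt N6864 (iv F27448)) (tt N3457 F29115) (tt N6868 D15886))
theorem Q4105 : ∀ i, i < 4105 → P i := stepQ 4104 Q4104 (allL N4104 (tt N2484 F21196) (tt N5095 (iv F29112)) (tt N5088 (iv F29126)) (tt N3356 F21197) (tt N6701 (iv F29087)) (tt N2483 (iv D12011)) (tt N4107 (iv F21204)))
theorem Q4106 : ∀ i, i < 4106 → P i := stepQ 4105 Q4105 (allL N4105 (tt N2485 F21198) (tt N6869 D15888) (tt N6856 (iv F27430)) (tt N3357 F21199) (tt N6865 (iv F27452)) (tt N4106 (iv F21201)) (tt N2483 (iv D12012)))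
theorem Q4107 : ∀ i, i < 4107 → P i := stepQ 4106 Q4106 (allL N4106 (tt N4107 (iv F21202)) (tt N6870 D15889) (tt N6861 (iv F27436)) (tt N3361 F21200) (tt N6703 (iv F29093)) (tt N4105 F21201) (tt N2484 (iv D12013)))
theorem Q4108 : ∀ i, i < 4108 → P i := stepQ 4107 Q4107 (allL N4107 (tt N4106 F21202) (tt N6871 D15890) (tt N6862 (iv F27440)) (tt N3363 F21203) (tt N6866 (iv F27456)) (tt N2485 (iv D12014)) (tt N4104 F21204))
theorem Q4109 : ∀ i, i < 4109 → P i := stepQ 4108 Q4108 (allL N4108 (tt N6872 D15891) (tt N2486 (iv D12015)) (tt N2490 F21205) (tt N6873 D15892) (tt N2487 F21206) (tt N6874 D15893) (tt N6778 (iv F34361)))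
theorem Q4110 : ∀ i, i < 4110 → P i := stepQ 4109 Q4109 (allL N4109 (tt N4109 F21207) (tt N6873 (iv F27469)) (tt N4109 F21209) (tt N2486 (iv D12016)) (tt N6875 D15895) (tt N3971 F32981) (tt N4109 F21208))
theorem Q4111 : ∀ i, i < 4111 → P i := stepQ 4110 Q4110 (allL N4110 (tt N2487 (iv D12018)) (tt N3441 (iv F34448)) (tt N2491 F21214) (tt N6876 D15899) (tt N6872 (iv F27468)) (tt N6877 D15900) (tt N5090 F34437))
theorem Q4112 : ∀ i, i < 4112 → P i := stepQ 4111 Q4111 (allL N4111 (tt N6876 (iv F27484)) (tt N2488 F21215) (tt N6878 D15902) (tt N2487 (iv D12019)) (tt N6879 D15903) (tt N6880 D15904) (tt N6881 D15905))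
theorem Q4113 : ∀ i, i < 4113 → P i := stepQ 4112 Q4112 (allL N4112 (tt N6877 (iv F27485)) (tt N5089 F34276) (tt N2492 F21216) (tt N6880 (iv F27491)) (tt N6874 (iv F27471)) (tt N2487 (iv D12020)) (tt N6882 D15907))
theorem Q4114 : ∀ i, i < 4114 → P i := stepQ 4113 Q4113 (allL N4113 (tt N5090 F34435) (tt N4113 F21217) (tt N2493 F21218) (tt N6881 (iv F27493)) (tt N6778 (iv F34360)) (tt N6883 D15908) (tt N2487 (iv D12021)))
theorem Q4115 : ∀ i, i < 4115 → P i := stepQ 4114 Q4114 (allL N4114 (tt N4114 F21219) (tt N6879 (iv F27490)) (tt N4114 F21220) (tt N6875 (iv F27477)) (tt N2488 (iv D12022)) (tt N6884 D15909) (tt N4114 F21221))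
theorem Q4116 : ∀ i, i < 4116 → P i := stepQ 4115 Q4115 (allL N4115 (tt N4115 F21222) (tt N4935 F34271) (tt N4115 F21223) (tt N2489 F21224) (tt N6884 (iv F27502)) (tt N2488 (iv D12023)) (tt N4115 F21225))
theorem Q4117 : ∀ i, i < 4117 → P i := stepQ 4116 Q4116 (allL N4116 (tt N3025 (iv F34222)) (tt N2489 (iv D12024)) (tt N3019 F34197) (tt N4935 (iv F34224)) (tt N3970 F32978) (tt N5089 (iv F34225)) (tt N3016 (iv F34226)))
theorem Q4118 : ∀ i, i < 4118 → P i := stepQ 4117 Q4117 (allL N4117 (tt N2490 (iv D12025)) (tt N6885 D15913) (tt N6872 (iv F27467)) (tt N5121 (iv F32089)) (tt N2491 F21226) (tt N6886 D15914) (tt N6777 (iv F34352)))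
theorem Q4119 : ∀ i, i < 4119 → P i := stepQ 4118 Q4118 (allL N4118 (tt N6886 (iv F27507)) (tt N6817 (iv F27339)) (tt N6874 (iv F27470)) (tt N6788 (iv F34368)) (tt N2492 F21227) (tt N2490 (iv D12026)) (tt N6887 D15916))
theorem Q4120 : ∀ i, i < 4120 → P i := stepQ 4119 Q4119 (allL N4119 (tt N6888 D15918) (tt N2491 (iv D12028)) (tt N3446 F35086) (tt N3378 F21230) (tt N6885 (iv F27506)) (tt N6889 D15920) (tt N3460 (iv F35087)))
theorem Q4121 : ∀ i, i < 4121 → P i := stepQ 4120 Q4120 (allL N4120 (tt N2492 F21231) (tt N6890 D15922) (tt N6877 (iv F27486)) (tt N3380 F21232) (tt N6886 (iv F27508)) (tt N2491 (iv D12029)) (tt N4123 (iv F21239)))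
theorem Q4122 : ∀ i, i < 4122 → P i := stepQ 4121 Q4121 (allL N4121 (tt N2493 F21233) (tt N5099 (iv F34447)) (tt N5090 F34436) (tt N3381 F21234) (tt N6777 (iv F34350)) (tt N4122 (iv F21236)) (tt N2491 (iv D12030)))
theorem Q4123 : ∀ i, i < 4123 → P i := stepQ 4122 Q4122 (allL N4122 (tt N4123 (iv F21237)) (tt N6891 D15924) (tt N6882 (iv F27495)) (tt N3386 F21235) (tt N6887 (iv F27511)) (tt N4121 F21236) (tt N2492 (iv D12031)))
theorem Q4124 : ∀ i, i < 4124 → P i := stepQ 4123 Q4123 (allL N4123 (tt N4122 F21237) (tt N6892 D15925) (tt N6883 (iv F27498)) (tt N3387 F21238) (tt N6779 (iv F34363)) (tt N2493 (iv D12032)) (tt N4120 F21239))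
theorem Q4125 : ∀ i, i < 4125 → P i := stepQ 4124 Q4124 (allL N4124 (tt N2497 F21240) (tt N2917 F21241) (tt N2986 F21242) (tt N2494 (iv D12033)) (tt N2920 (iv F21243)) (tt N6484 (iv F28862)) (tt N6517 (iv F34234)))
theorem Q4126 : ∀ i, i < 4126 → P i := stepQ 4125 Q4125 (allL N4125 (tt N2498 F21244) (tt N6486 (iv F29155)) (tt N2495 F21245) (tt N6484 (iv F28861)) (tt N2641 F21246) (tt N2494 (iv D12034)) (tt N4135 (iv F21270)))
theorem Q4127 : ∀ i, i < 4127 → P i := stepQ 4126 Q4126 (allL N4126 (tt N2499 F21247) (tt N6519 (iv F34463)) (tt N2496 F21248) (tt N6517 (iv F34232)) (tt N2642 F21249) (tt N4133 (iv F21264)) (tt N2494 (iv D12035)))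
theorem Q4128 : ∀ i, i < 4128 → P i := stepQ 4127 Q4127 (allL N4127 (tt N6893 D15930) (tt N2495 (iv D12036)) (tt N6894 D15931) (tt N5231 (iv F23990)) (tt N2643 F21250) (tt N6162 (iv F25937)) (tt N6895 D15932))
theorem Q4129 : ∀ i, i < 4129 → P i := stepQ 4128 Q4128 (allL N4128 (tt N6896 D15933) (tt N2496 (iv D12037)) (tt N6897 D15934) (tt N5232 (iv F23991)) (tt N2644 F21251) (tt N6898 D15935) (tt N6163 (iv F25939)))
theorem Q4130 : ∀ i, i < 4130 → P i := stepQ 4129 Q4129 (allL N4129 (tt N2920 F21252) (tt N4129 F21253) (tt N2970 F21254) (tt N2646 F21255) (tt N2497 (iv D12038)) (tt N6483 (iv F28853)) (tt N6516 (iv F34321)))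
theorem Q4131 : ∀ i, i < 4131 → P i := stepQ 4130 Q4130 (allL N4130 (tt N6484 (iv F28860)) (tt N6899 D15938) (tt N2989 F21256) (tt N2498 F21257) (tt N6483 (iv F28852)) (tt N2497 (iv D12039)) (tt N6900 D15939))
theorem Q4132 : ∀ i, i < 4132 → P i := stepQ 4131 Q4131 (allL N4131 (tt N6517 (iv F34231)) (tt N6901 D15940) (tt N2990 F21258) (tt N2499 F21259) (tt N6516 (iv F34319)) (tt N6902 D15941) (tt N2497 (iv D12040)))
theorem Q4133 : ∀ i, i < 4133 → P i := stepQ 4132 Q4132 (allL N4132 (tt N4132 F21831) (tt N2498 (iv D12041)) (tt N6903 D15942) (tt N6899 (iv F27551)) (tt N2649 F21260) (tt N4132 F21261) (tt N6904 D15943))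
theorem Q4134 : ∀ i, i < 4134 → P i := stepQ 4133 Q4133 (allL N4133 (tt N4135 (iv F21267)) (tt N6905 D15944) (tt N2503 F21262) (tt N6900 (iv F27555)) (tt N2650 F21263) (tt N4126 F21264) (tt N2498 (iv D12042)))
theorem Q4135 : ∀ i, i < 4135 → P i := stepQ 4134 Q4134 (allL N4134 (tt N4134 F29289) (tt N2499 (iv D12043)) (tt N6906 D15946) (tt N6901 (iv F27557)) (tt N2651 F21265) (tt N6907 D15947) (tt N4134 F21266))
theorem Q4136 : ∀ i, i < 4136 → P i := stepQ 4135 Q4135 (allL N4135 (tt N4133 F21267) (tt N6908 D15948) (tt N2505 F21268) (tt N6902 (iv F27561)) (tt N2652 F21269) (tt N2499 (iv D12044)) (tt N4125 F21270))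
theorem Q4137 : ∀ i, i < 4137 → P i := stepQ 4136 Q4136 (allL N4136 (tt N6909 D15949) (tt N2500 (iv D12045)) (tt N6910 D15950) (tt N2502 F21271) (tt N6164 (iv F25941)) (tt N2510 F21272) (tt N6911 D15951))
theorem Q4138 : ∀ i, i < 4138 → P i := stepQ 4137 Q4137 (allL N4137 (tt N4139 (iv F21278)) (tt N6912 D15952) (tt N3119 F21273) (tt N2503 F21274) (tt N6165 (iv F25945)) (tt N3115 F21275) (tt N2500 (iv D12046)))
theorem Q4139 : ∀ i, i < 4139 → P i := stepQ 4138 Q4138 (allL N4138 (tt N6913 D15953) (tt N2501 (iv D12047)) (tt N6914 D15954) (tt N2504 F21276) (tt N6166 (iv F25948)) (tt N6915 D15955) (tt N2511 F21277))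
theorem Q4140 : ∀ i, i < 4140 → P i := stepQ 4139 Q4139 (allL N4139 (tt N4137 F21278) (tt N6916 D15956) (tt N3117 F21279) (tt N2505 F21280) (tt N6167 (iv F25953)) (tt N2501 (iv D12048)) (tt N3114 F21281))
theorem Q4141 : ∀ i, i < 4141 → P i := stepQ 4140 Q4140 (allL N4140 (tt N2502 (iv D12049)) (tt N6917 D15957) (tt N6918 D15958) (tt N6909 (iv F27578)) (tt N2653 F21282) (tt N2512 F21283) (tt N4167 (iv F21320)))
theorem Q4142 : ∀ i, i < 4142 → P i := stepQ 4141 Q4141 (allL N4141 (tt N6918 (iv F27592)) (tt N6903 (iv F27564)) (tt N2502 (iv D12050)) (tt N6919 D15959) (tt N2654 F21284) (tt N2513 F21285) (tt N6920 D15960))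
theorem Q4143 : ∀ i, i < 4143 → P i := stepQ 4142 Q4142 (allL N4142 (tt N4167 (iv F21318)) (tt N6921 D15961) (tt N6920 (iv F27597)) (tt N6911 (iv F27582)) (tt N2655 F21286) (tt N4164 (iv F21314)) (tt N2502 (iv D12051)))
theorem Q4144 : ∀ i, i < 4144 → P i := stepQ 4143 Q4143 (allL N4143 (tt N6922 D15962) (tt N2503 (iv D12052)) (tt N6923 D15963) (tt N6912 (iv F27583)) (tt N2656 F21287) (tt N6924 D15964) (tt N6921 (iv F27600)))
theorem Q4145 : ∀ i, i < 4145 → P i := stepQ 4144 Q4144 (allL N4144 (tt N2504 (iv D12053)) (tt N6925 D15965) (tt N6926 D15966) (tt N6913 (iv F27584)) (tt N2657 F21288) (tt N4173 (iv F21332)) (tt N2515 F21289))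
theorem Q4146 : ∀ i, i < 4146 → P i := stepQ 4145 Q4145 (allL N4145 (tt N6926 (iv F27610)) (tt N6906 (iv F27573)) (tt N2504 (iv D12054)) (tt N6927 D15967) (tt N2658 F21290) (tt N6928 D15968) (tt N2516 F21291))
theorem Q4147 : ∀ i, i < 4147 → P i := stepQ 4146 Q4146 (allL N4146 (tt N4173 (iv F21330)) (tt N6929 D15969) (tt N6928 (iv F27614)) (tt N6915 (iv F27587)) (tt N2659 F21292) (tt N2504 (iv D12055)) (tt N4170 (iv F21326)))
theorem Q4148 : ∀ i, i < 4148 → P i := stepQ 4147 Q4147 (allL N4147 (tt N6930 D15970) (tt N2505 (iv D12056)) (tt N6931 D15971) (tt N6916 (iv F27588)) (tt N2660 F21293) (tt N6929 (iv F27617)) (tt N6932 D15972))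
theorem Q4149 : ∀ i, i < 4149 → P i := stepQ 4148 Q4148 (allL N4148 (tt N2506 (iv D12057)) (tt N6933 D15973) (tt N5214 F23961) (tt N6934 D15974) (tt N6172 (iv F25964)) (tt N6935 D15975) (tt N6936 D15976))
theorem Q4150 : ∀ i, i < 4150 → P i := stepQ 4149 Q4149 (allL N4149 (tt N6934 (iv F27625)) (tt N2507 F21294) (tt N4149 F21296) (tt N2506 (iv D12058)) (tt N4149 F21295) (tt N6937 D15977) (tt N6938 D15978))
theorem Q4151 : ∀ i, i < 4151 → P i := stepQ 4150 Q4150 (allL N4150 (tt N6935 (iv F27628)) (tt N6939 D15979) (tt N5217 (iv F23968)) (tt N6937 (iv F27631)) (tt N6173 (iv F25966)) (tt N2506 (iv D12059)) (tt N6940 D15980))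
theorem Q4152 : ∀ i, i < 4152 → P i := stepQ 4151 Q4151 (allL N4151 (tt N6936 (iv F27629)) (tt N6941 D15981) (tt N5218 (iv F23970)) (tt N6938 (iv F27634)) (tt N6174 (iv F25968)) (tt N6942 D15982) (tt N2506 (iv D12060)))
theorem Q4153 : ∀ i, i < 4153 → P i := stepQ 4152 Q4152 (allL N4152 (tt N2518 F21297) (tt N6943 D15983) (tt N2518 F21298) (tt N2508 F21299) (tt N4152 F21300) (tt N2507 (iv D12061)) (tt N4177 (iv F21346)))
theorem Q4154 : ∀ i, i < 4154 → P i := stepQ 4153 Q4153 (allL N4153 (tt N2519 F21301) (tt N6944 D15984) (tt N2519 F21302) (tt N2509 F21303) (tt N4153 F21304) (tt N4175 (iv F21338)) (tt N2507 (iv D12062)))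
theorem Q4155 : ∀ i, i < 4155 → P i := stepQ 4154 Q4154 (allL N4154 (tt N6945 D15985) (tt N2508 (iv D12063)) (tt N6946 D15986) (tt N6943 (iv F27641)) (tt N6175 (iv F25970)) (tt N6939 (iv F27636)) (tt N6947 D15987))
theorem Q4156 : ∀ i, i < 4156 → P i := stepQ 4155 Q4155 (allL N4155 (tt N6948 D15988) (tt N2509 (iv D12064)) (tt N6949 D15989) (tt N6944 (iv F27643)) (tt N6176 (iv F25972)) (tt N6950 D15990) (tt N6941 (iv F27638)))
theorem Q4157 : ∀ i, i < 4157 → P i := stepQ 4156 Q4156 (allL N4156 (tt N2510 (iv D12065)) (tt N6951 D15991) (tt N6952 D15992) (tt N2512 F21305) (tt N6177 (iv F25974)) (tt N6909 (iv F27580)) (tt N6953 D15993))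
theorem Q4158 : ∀ i, i < 4158 → P i := stepQ 4157 Q4157 (allL N4157 (tt N6952 (iv F27649)) (tt N6946 (iv F27646)) (tt N2510 (iv D12066)) (tt N6954 D15994) (tt N6178 (iv F25975)) (tt N6910 (iv F27581)) (tt N6955 D15995))
theorem Q4159 : ∀ i, i < 4159 → P i := stepQ 4158 Q4158 (allL N4158 (tt N6953 (iv F27650)) (tt N4199 (iv F21371)) (tt N6955 (iv F27653)) (tt N2514 F21306) (tt N6179 (iv F25977)) (tt N6956 D15996) (tt N2510 (iv D12067)))
theorem Q4160 : ∀ i, i < 4160 → P i := stepQ 4159 Q4159 (allL N4159 (tt N2511 (iv D12068)) (tt N6957 D15997) (tt N6958 D15998) (tt N2515 F21307) (tt N6180 (iv F25979)) (tt N6959 D15999) (tt N6913 (iv F27585)))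
theorem Q4161 : ∀ i, i < 4161 → P i := stepQ 4160 Q4160 (allL N4160 (tt N6958 (iv F27658)) (tt N6949 (iv F27647)) (tt N2511 (iv D12069)) (tt N6960 D16000) (tt N6181 (iv F25980)) (tt N6961 D16001) (tt N6914 (iv F27586)))
theorem Q4162 : ∀ i, i < 4162 → P i := stepQ 4161 Q4161 (allL N4161 (tt N6959 (iv F27659)) (tt N4191 (iv F21361)) (tt N6961 (iv F27662)) (tt N2517 F21308) (tt N6182 (iv F25982)) (tt N2511 (iv D12070)) (tt N6962 D16002))
theorem Q4163 : ∀ i, i < 4163 → P i := stepQ 4162 Q4162 (allL N4162 (tt N5775 (iv F25093)) (tt N2512 (iv D12071)) (tt N5774 F25092) (tt N6951 (iv F27648)) (tt N2661 F21309) (tt N6963 D16003) (tt N6964 D16004))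
theorem Q4164 : ∀ i, i < 4164 → P i := stepQ 4163 Q4163 (allL N4163 (tt N2513 F21310) (tt N6965 D16005) (tt N2512 (iv D12072)) (tt N6966 D16006) (tt N2662 F21311) (tt N6918 (iv F27594)) (tt N6967 D16007))
theorem Q4165 : ∀ i, i < 4165 → P i := stepQ 4164 Q4164 (allL N4164 (tt N2514 F21312) (tt N6968 D16008) (tt N6967 (iv F27674)) (tt N6953 (iv F27651)) (tt N2663 F21313) (tt N4142 F21314) (tt N2512 (iv D12073)))
theorem Q4166 : ∀ i, i < 4166 → P i := stepQ 4165 Q4165 (allL N4165 (tt N6966 (iv F27672)) (tt N4165 F21315) (tt N6969 D16009) (tt N2513 (iv D12074)) (tt N6970 D16010) (tt N6919 (iv F27596)) (tt N6971 D16011))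
theorem Q4167 : ∀ i, i < 4167 → P i := stepQ 4166 Q4166 (allL N4166 (tt N6967 (iv F27673)) (tt N6972 D16012) (tt N2514 F21316) (tt N6971 (iv F27681)) (tt N2665 F21317) (tt N6973 D16013) (tt N2513 (iv D12075)))
theorem Q4168 : ∀ i, i < 4168 → P i := stepQ 4167 Q4167 (allL N4167 (tt N4142 F21318) (tt N6326 F26280) (tt N6973 (iv F27685)) (tt N6956 (iv F27655)) (tt N2666 F21319) (tt N2514 (iv D12076)) (tt N4140 F21320))
theorem Q4169 : ∀ i, i < 4169 → P i := stepQ 4168 Q4168 (allL N4168 (tt N5778 (iv F34705)) (tt N2515 (iv D12077)) (tt N5777 (iv F35091)) (tt N6957 (iv F27657)) (tt N2667 F21321) (tt N6974 D16016) (tt N6975 D16017))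
theorem Q4170 : ∀ i, i < 4170 → P i := stepQ 4169 Q4169 (allL N4169 (tt N2516 F21322) (tt N6976 D16018) (tt N2515 (iv D12078)) (tt N6977 D16019) (tt N2668 F21323) (tt N6978 D16020) (tt N6926 (iv F27612)))
theorem Q4171 : ∀ i, i < 4171 → P i := stepQ 4170 Q4170 (allL N4170 (tt N2517 F21324) (tt N6979 D16021) (tt N6978 (iv F27699)) (tt N6959 (iv F27660)) (tt N2669 F21325) (tt N2515 (iv D12079)) (tt N4146 F21326))
theorem Q4172 : ∀ i, i < 4172 → P i := stepQ 4171 Q4171 (allL N4171 (tt N6977 (iv F27697)) (tt N4171 F21327) (tt N6980 D16022) (tt N2516 (iv D12080)) (tt N6981 D16023) (tt N6982 D16024) (tt N6927 (iv F27613)))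
theorem Q4173 : ∀ i, i < 4173 → P i := stepQ 4172 Q4172 (allL N4172 (tt N6978 (iv F27698)) (tt N6983 D16025) (tt N2517 F21328) (tt N6982 (iv F27706)) (tt N2671 F21329) (tt N2516 (iv D12081)) (tt N6984 D16026))
theorem Q4174 : ∀ i, i < 4174 → P i := stepQ 4173 Q4173 (allL N4173 (tt N4146 F21330) (tt N6299 F26223) (tt N6984 (iv F27710)) (tt N6962 (iv F27664)) (tt N2672 F21331) (tt N4144 F21332) (tt N2517 (iv D12082)))
theorem Q4175 : ∀ i, i < 4175 → P i := stepQ 4174 Q4174 (allL N4174 (tt N4174 F23996) (tt N2518 (iv D12083)) (tt N6985 D16027) (tt N2520 F21333) (tt N4174 F21334) (tt N4174 F21335) (tt N6985 (iv F40816)))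
theorem Q4176 : ∀ i, i < 4176 → P i := stepQ 4175 Q4175 (allL N4175 (tt N4177 (iv F21342)) (tt N6986 D16029) (tt N4177 (iv F21343)) (tt N2521 F21336) (tt N4175 F21337) (tt N4153 F21338) (tt N2518 (iv D12084)))
theorem Q4177 : ∀ i, i < 4177 → P i := stepQ 4176 Q4176 (allL N4176 (tt N4176 F34688) (tt N2519 (iv D12085)) (tt N6987 D16031) (tt N2522 F21339) (tt N4176 F21340) (tt N6987 (iv F40834)) (tt N4176 F21341))
theorem Q4178 : ∀ i, i < 4178 → P i := stepQ 4177 Q4177 (allL N4177 (tt N4175 F21342) (tt N6988 D16033) (tt N4175 F21343) (tt N2523 F21344) (tt N4177 F21345) (tt N2519 (iv D12086)) (tt N4152 F21346))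
theorem Q4179 : ∀ i, i < 4179 → P i := stepQ 4178 Q4178 (allL N4178 (tt N4178 F23994) (tt N2525 F21348) (tt N2520 (iv D12088)) (tt N6989 D16034) (tt N6191 (iv F26011)) (tt N4178 F21349) (tt N6990 D16035))
theorem Q4180 : ∀ i, i < 4180 → P i := stepQ 4179 Q4179 (allL N4179 (tt N4179 F23998) (tt N6991 D16036) (tt N6990 (iv F27735)) (tt N6985 (iv F40815)) (tt N6192 (iv F26015)) (tt N4179 F23999) (tt N2520 (iv D12089)))
theorem Q4181 : ∀ i, i < 4181 → P i := stepQ 4180 Q4180 (allL N4180 (tt N6992 D16037) (tt N2521 (iv D12090)) (tt N6993 D16038) (tt N6986 (iv F27720)) (tt N6193 (iv F26018)) (tt N6947 (iv F35331)) (tt N6991 (iv F27737)))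
theorem Q4182 : ∀ i, i < 4182 → P i := stepQ 4181 Q4181 (allL N4181 (tt N4181 F34686) (tt N2529 F21351) (tt N2522 (iv D12092)) (tt N6994 D16043) (tt N6194 (iv F26023)) (tt N6995 D16044) (tt N4181 F21352))
theorem Q4183 : ∀ i, i < 4183 → P i := stepQ 4182 Q4182 (allL N4182 (tt N4182 F34690) (tt N6996 D16045) (tt N6995 (iv F27746)) (tt N6987 (iv F40833)) (tt N6195 (iv F26026)) (tt N2522 (iv D12093)) (tt N4182 F34691))
theorem Q4184 : ∀ i, i < 4184 → P i := stepQ 4183 Q4183 (allL N4183 (tt N6997 D16046) (tt N2523 (iv D12094)) (tt N6998 D16047) (tt N6988 (iv F27729)) (tt N6196 (iv F26028)) (tt N6996 (iv F27747)) (tt N6950 (iv F35329)))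
theorem Q4185 : ∀ i, i < 4185 → P i := stepQ 4184 Q4184 (allL N4184 (tt N5874 (iv F25287)) (tt N2524 (iv D12095)) (tt N6999 D16049) (tt N2532 F21353) (tt N6197 (iv F26030)) (tt N7000 D16050) (tt N7001 D16051))
theorem Q4186 : ∀ i, i < 4186 → P i := stepQ 4185 Q4185 (allL N4185 (tt N2525 F21354) (tt N6254 F27752) (tt N2524 (iv D12096)) (tt N6253 (iv F27753)) (tt N6198 (iv F26032)) (tt N2549 F21355) (tt N4244 (iv F21448)))
theorem Q4187 : ∀ i, i < 4187 → P i := stepQ 4186 Q4186 (allL N4186 (tt N6253 F27754) (tt N6989 (iv F27732)) (tt N7002 D16052) (tt N2525 (iv D12097)) (tt N7003 D16053) (tt N2551 F21356) (tt N7004 D16054))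
theorem Q4188 : ∀ i, i < 4188 → P i := stepQ 4187 Q4187 (allL N4187 (tt N4244 (iv F21446)) (tt N7005 D16055) (tt N2526 F21357) (tt N7004 (iv F27762)) (tt N6200 (iv F26036)) (tt N4238 (iv F21441)) (tt N2525 (iv D12098)))
theorem Q4189 : ∀ i, i < 4189 → P i := stepQ 4188 Q4188 (allL N4188 (tt N7006 D16056) (tt N2526 (iv D12099)) (tt N7007 D16057) (tt N2536 F21358) (tt N6201 (iv F26038)) (tt N7008 D16058) (tt N2527 F21359))
theorem Q4190 : ∀ i, i < 4190 → P i := stepQ 4189 Q4189 (allL N4189 (tt N2527 (iv D12100)) (tt N7009 D16059) (tt N7010 D16060) (tt N2537 F21360) (tt N6202 (iv F26041)) (tt N7011 D16061) (tt N7006 (iv F27764)))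
theorem Q4191 : ∀ i, i < 4191 → P i := stepQ 4190 Q4190 (allL N4190 (tt N7010 (iv F27768)) (tt N6993 (iv F27738)) (tt N2527 (iv D12101)) (tt N7012 D16062) (tt N6203 (iv F26042)) (tt N7013 D16063) (tt N7007 (iv F27765)))
theorem Q4192 : ∀ i, i < 4192 → P i := stepQ 4191 Q4191 (allL N4191 (tt N7011 (iv F27769)) (tt N4161 F21361) (tt N7013 (iv F27772)) (tt N2539 F21362) (tt N6204 (iv F26045)) (tt N2527 (iv D12102)) (tt N7014 D16064))
theorem Q4193 : ∀ i, i < 4193 → P i := stepQ 4192 Q4192 (allL N4192 (tt N5883 (iv F34708)) (tt N2528 (iv D12103)) (tt N7015 D16066) (tt N2540 F21363) (tt N6205 (iv F26047)) (tt N7016 D16067) (tt N7017 D16068))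
theorem Q4194 : ∀ i, i < 4194 → P i := stepQ 4193 Q4193 (allL N4193 (tt N2529 F21364) (tt N6266 (iv F34685)) (tt N2528 (iv D12104)) (tt N6265 (iv F34659)) (tt N6206 (iv F26049)) (tt N4265 (iv F21477)) (tt N2559 F21365))
theorem Q4195 : ∀ i, i < 4195 → P i := stepQ 4194 Q4194 (allL N4194 (tt N6265 (iv F34657)) (tt N6994 (iv F27744)) (tt N7018 D16071) (tt N2529 (iv D12105)) (tt N7019 D16072) (tt N7020 D16073) (tt N2561 F21366))
theorem Q4196 : ∀ i, i < 4196 → P i := stepQ 4195 Q4195 (allL N4195 (tt N4265 (iv F21475)) (tt N7021 D16074) (tt N2530 F21367) (tt N7020 (iv F27784)) (tt N6208 (iv F26053)) (tt N2529 (iv D12106)) (tt N4259 (iv F21470)))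
theorem Q4197 : ∀ i, i < 4197 → P i := stepQ 4196 Q4196 (allL N4196 (tt N7022 D16075) (tt N2530 (iv D12107)) (tt N7023 D16076) (tt N2544 F21368) (tt N6209 (iv F26055)) (tt N2531 F21369) (tt N7024 D16077))
theorem Q4198 : ∀ i, i < 4198 → P i := stepQ 4197 Q4197 (allL N4197 (tt N2531 (iv D12108)) (tt N7025 D16078) (tt N7026 D16079) (tt N2545 F21370) (tt N6210 (iv F26058)) (tt N7022 (iv F27786)) (tt N7027 D16080))
theorem Q4199 : ∀ i, i < 4199 → P i := stepQ 4198 Q4198 (allL N4198 (tt N7026 (iv F27790)) (tt N6998 (iv F27748)) (tt N2531 (iv D12109)) (tt N7028 D16081) (tt N6211 (iv F26059)) (tt N7023 (iv F27787)) (tt N7029 D16082))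
theorem Q4200 : ∀ i, i < 4200 → P i := stepQ 4199 Q4199 (allL N4199 (tt N7027 (iv F27791)) (tt N4158 F21371) (tt N7029 (iv F27794)) (tt N2547 F21372) (tt N6212 (iv F26062)) (tt N7030 D16083) (tt N2531 (iv D12110)))
theorem Q4201 : ∀ i, i < 4201 → P i := stepQ 4200 Q4200 (allL N4200 (tt N5847 (iv F25217)) (tt N2570 F21373) (tt N5846 F25216) (tt N7000 (iv F27757)) (tt N2675 F21374) (tt N2532 (iv D12111)) (tt N7031 D16084))
theorem Q4202 : ∀ i, i < 4202 → P i := stepQ 4201 Q4201 (allL N4201 (tt N5875 (iv F25288)) (tt N4313 (iv F21566)) (tt N5873 (iv F25283)) (tt N7001 (iv F27758)) (tt N2676 F21375) (tt N7032 D16085) (tt N2532 (iv D12112)))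
theorem Q4203 : ∀ i, i < 4203 → P i := stepQ 4202 Q4202 (allL N4202 (tt N7033 D16086) (tt N2533 (iv D12113)) (tt N5872 (iv F25279)) (tt N7034 D16087) (tt N2677 F21376) (tt N7035 D16088) (tt N7036 D16089))
theorem Q4204 : ∀ i, i < 4204 → P i := stepQ 4203 Q4203 (allL N4203 (tt N2534 F21377) (tt N7034 (iv F27806)) (tt N7037 D16090) (tt N2533 (iv D12114)) (tt N7038 D16091) (tt N2573 F21378) (tt N4302 (iv F21550)))
theorem Q4205 : ∀ i, i < 4205 → P i := stepQ 4204 Q4204 (allL N4204 (tt N7037 (iv F27810)) (tt N2942 (iv F27823)) (tt N2534 (iv D12115)) (tt N7039 D16093) (tt N2958 F27822) (tt N2576 F21379) (tt N7040 D16094))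
theorem Q4206 : ∀ i, i < 4206 → P i := stepQ 4205 Q4205 (allL N4205 (tt N7038 (iv F27813)) (tt N4205 F21380) (tt N2958 F27827) (tt N2680 F21381) (tt N2534 (iv D12116)) (tt N2577 F21382) (tt N7041 D16095))
theorem Q4207 : ∀ i, i < 4207 → P i := stepQ 4206 Q4206 (allL N4206 (tt N4302 (iv F21548)) (tt N7042 D16096) (tt N7040 (iv F27836)) (tt N2535 F21383) (tt N7041 (iv F27840)) (tt N4291 (iv F21529)) (tt N2534 (iv D12117)))
theorem Q4208 : ∀ i, i < 4208 → P i := stepQ 4207 Q4207 (allL N4207 (tt N6972 (iv F29372)) (tt N2535 (iv D12118)) (tt N7043 D16098) (tt N7042 (iv F27841)) (tt N2682 F21384) (tt N7044 D16099) (tt N4207 F21385))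
theorem Q4209 : ∀ i, i < 4209 → P i := stepQ 4208 Q4208 (allL N4208 (tt N2536 (iv D12119)) (tt N7045 D16100) (tt N7046 D16101) (tt N7006 (iv F27763)) (tt N2683 F21386) (tt N4216 (iv F21402)) (tt N2537 F21387))
theorem Q4210 : ∀ i, i < 4210 → P i := stepQ 4209 Q4209 (allL N4209 (tt N7046 (iv F27850)) (tt N7043 (iv F27845)) (tt N2536 (iv D12120)) (tt N7047 D16102) (tt N2684 F21388) (tt N7048 D16103) (tt N2538 F21389))
theorem Q4211 : ∀ i, i < 4211 → P i := stepQ 4210 Q4210 (allL N4210 (tt N4216 (iv F21400)) (tt N4295 (iv F21533)) (tt N7048 (iv F27854)) (tt N7008 (iv F27766)) (tt N2685 F21390) (tt N2536 (iv D12121)) (tt N4213 (iv F21396)))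
theorem Q4212 : ∀ i, i < 4212 → P i := stepQ 4211 Q4211 (allL N4211 (tt N5888 (iv F35304)) (tt N2537 (iv D12122)) (tt N5887 (iv F35323)) (tt N7009 (iv F27767)) (tt N2686 F21391) (tt N6316 F26263) (tt N7049 D16106))
theorem Q4213 : ∀ i, i < 4213 → P i := stepQ 4212 Q4212 (allL N4212 (tt N2538 F21392) (tt N7050 D16107) (tt N2537 (iv D12123)) (tt N7051 D16108) (tt N2687 F21393) (tt N7052 D16109) (tt N7046 (iv F27852)))
theorem Q4214 : ∀ i, i < 4214 → P i := stepQ 4213 Q4213 (allL N4213 (tt N2539 F21394) (tt N6247 (iv F26117)) (tt N7052 (iv F27865)) (tt N7011 (iv F27770)) (tt N2688 F21395) (tt N2537 (iv D12124)) (tt N4210 F21396))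
theorem Q4215 : ∀ i, i < 4215 → P i := stepQ 4214 Q4214 (allL N4214 (tt N7051 (iv F27863)) (tt N4214 F21397) (tt N7053 D16110) (tt N2538 (iv D12125)) (tt N7054 D16111) (tt N7055 D16112) (tt N7047 (iv F27853)))
theorem Q4216 : ∀ i, i < 4216 → P i := stepQ 4215 Q4215 (allL N4215 (tt N7052 (iv F27864)) (tt N7056 D16113) (tt N2539 F21398) (tt N7055 (iv F27870)) (tt N2690 F21399) (tt N2538 (iv D12126)) (tt N7057 D16114))
theorem Q4217 : ∀ i, i < 4217 → P i := stepQ 4216 Q4216 (allL N4216 (tt N4210 F21400) (tt N7058 D16115) (tt N7057 (iv F27875)) (tt N7014 (iv F27774)) (tt N2691 F21401) (tt N4208 F21402) (tt N2539 (iv D12127)))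
theorem Q4218 : ∀ i, i < 4218 → P i := stepQ 4217 Q4217 (allL N4217 (tt N5884 (iv F34711)) (tt N4364 (iv F21655)) (tt N5882 (iv F34698)) (tt N7016 (iv F27777)) (tt N2694 F21405) (tt N2540 (iv D12130)) (tt N7059 D16123))
theorem Q4219 : ∀ i, i < 4219 → P i := stepQ 4218 Q4218 (allL N4218 (tt N5850 (iv F34715)) (tt N2594 F21406) (tt N5849 (iv F34699)) (tt N7017 (iv F27779)) (tt N2695 F21407) (tt N7060 D16124) (tt N2540 (iv D12131)))
theorem Q4220 : ∀ i, i < 4220 → P i := stepQ 4219 Q4219 (allL N4219 (tt N7061 D16125) (tt N2541 (iv D12132)) (tt N5881 (iv F34694)) (tt N7062 D16126) (tt N2696 F21408) (tt N7063 D16127) (tt N7064 D16128))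
theorem Q4221 : ∀ i, i < 4221 → P i := stepQ 4220 Q4220 (allL N4220 (tt N2542 F21409) (tt N7062 (iv F27901)) (tt N7065 D16129) (tt N2541 (iv D12133)) (tt N7066 D16130) (tt N4353 (iv F21639)) (tt N2596 F21410))
theorem Q4222 : ∀ i, i < 4222 → P i := stepQ 4221 Q4221 (allL N4221 (tt N7065 (iv F27905)) (tt N2944 (iv F34653)) (tt N2542 (iv D12134)) (tt N7067 D16132) (tt N2961 F34647) (tt N7068 D16134) (tt N2599 F21411))
theorem Q4223 : ∀ i, i < 4223 → P i := stepQ 4222 Q4222 (allL N4222 (tt N7066 (iv F27908)) (tt N4222 F21412) (tt N2961 F34646) (tt N2699 F21413) (tt N2542 (iv D12135)) (tt N7069 D16135) (tt N2600 F21414))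
theorem Q4224 : ∀ i, i < 4224 → P i := stepQ 4223 Q4223 (allL N4223 (tt N4353 (iv F21637)) (tt N7070 D16136) (tt N7068 (iv F27917)) (tt N2543 F21415) (tt N7069 (iv F27919)) (tt N2542 (iv D12136)) (tt N4342 (iv F21618)))
theorem Q4225 : ∀ i, i < 4225 → P i := stepQ 4224 Q4224 (allL N4224 (tt N6983 (iv F34858)) (tt N2543 (iv D12137)) (tt N7071 D16138) (tt N7070 (iv F27920)) (tt N2701 F21416) (tt N4224 F21417) (tt N7072 D16139))
theorem Q4226 : ∀ i, i < 4226 → P i := stepQ 4225 Q4225 (allL N4225 (tt N2544 (iv D12138)) (tt N7073 D16140) (tt N7074 D16141) (tt N7022 (iv F27785)) (tt N2702 F21418) (tt N2545 F21419) (tt N4233 (iv F21434)))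
theorem Q4227 : ∀ i, i < 4227 → P i := stepQ 4226 Q4226 (allL N4226 (tt N7074 (iv F27929)) (tt N7071 (iv F27924)) (tt N2544 (iv D12139)) (tt N7075 D16142) (tt N2703 F21420) (tt N2546 F21421) (tt N7076 D16143))
theorem Q4228 : ∀ i, i < 4228 → P i := stepQ 4227 Q4227 (allL N4227 (tt N4233 (iv F21432)) (tt N4346 (iv F21622)) (tt N7076 (iv F27933)) (tt N7024 (iv F27788)) (tt N2704 F21422) (tt N4230 (iv F21428)) (tt N2544 (iv D12140)))
theorem Q4229 : ∀ i, i < 4229 → P i := stepQ 4228 Q4228 (allL N4228 (tt N5879 (iv F35307)) (tt N2545 (iv D12141)) (tt N5878 (iv F35321)) (tt N7025 (iv F27789)) (tt N2705 F21423) (tt N7077 D16146) (tt N6289 F26206))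
theorem Q4230 : ∀ i, i < 4230 → P i := stepQ 4229 Q4229 (allL N4229 (tt N2546 F21424) (tt N7078 D16147) (tt N2545 (iv D12142)) (tt N7079 D16148) (tt N2706 F21425) (tt N7074 (iv F27931)) (tt N7080 D16149))
theorem Q4231 : ∀ i, i < 4231 → P i := stepQ 4230 Q4230 (allL N4230 (tt N2547 F21426) (tt N6228 (iv F26086)) (tt N7080 (iv F27945)) (tt N7027 (iv F27792)) (tt N2707 F21427) (tt N4227 F21428) (tt N2545 (iv D12143)))
theorem Q4232 : ∀ i, i < 4232 → P i := stepQ 4231 Q4231 (allL N4231 (tt N7079 (iv F27943)) (tt N4231 F21429) (tt N7081 D16150) (tt N2546 (iv D12144)) (tt N7082 D16151) (tt N7075 (iv F27932)) (tt N7083 D16152))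
theorem Q4233 : ∀ i, i < 4233 → P i := stepQ 4232 Q4232 (allL N4232 (tt N7080 (iv F27944)) (tt N7084 D16153) (tt N2547 F21430) (tt N7083 (iv F27950)) (tt N2709 F21431) (tt N7085 D16154) (tt N2546 (iv D12145)))
theorem Q4234 : ∀ i, i < 4234 → P i := stepQ 4233 Q4233 (allL N4233 (tt N4227 F21432) (tt N7086 D16155) (tt N7085 (iv F27955)) (tt N7030 (iv F27796)) (tt N2710 F21433) (tt N2547 (iv D12146)) (tt N4225 F21434))
theorem Q4235 : ∀ i, i < 4235 → P i := stepQ 4234 Q4234 (allL N4234 (tt N5234 (iv F24001)) (tt N7000 (iv F27756)) (tt N5233 F24000) (tt N2570 F21436) (tt N6251 (iv F26126)) (tt N2548 (iv D12149)) (tt N7087 D16156))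
theorem Q4236 : ∀ i, i < 4236 → P i := stepQ 4235 Q4235 (allL N4235 (tt N5259 (iv F24046)) (tt N7088 D16157) (tt N5258 (iv F24043)) (tt N2571 F21437) (tt N6252 (iv F26128)) (tt N7089 D16158) (tt N2548 (iv D12150)))
theorem Q4237 : ∀ i, i < 4237 → P i := stepQ 4236 Q4236 (allL N4236 (tt N7003 (iv F27760)) (tt N2549 (iv D12151)) (tt N5257 (iv F24040)) (tt N7090 D16159) (tt N6253 (iv F26129)) (tt N7091 D16160) (tt N7092 D16161))
theorem Q4238 : ∀ i, i < 4238 → P i := stepQ 4237 Q4237 (allL N4237 (tt N2551 F21438) (tt N7090 (iv F27970)) (tt N4297 (iv F21537)) (tt N2549 (iv D12152)) (tt N7091 (iv F27972)) (tt N6253 F27755) (tt N7093 D16162))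
theorem Q4239 : ∀ i, i < 4239 → P i := stepQ 4238 Q4238 (allL N4238 (tt N2552 F21439) (tt N7094 D16163) (tt N2550 F21440) (tt N7093 (iv F27974)) (tt N6255 (iv F26133)) (tt N4187 F21441) (tt N2549 (iv D12153)))
theorem Q4240 : ∀ i, i < 4240 → P i := stepQ 4239 Q4239 (allL N4239 (tt N7095 D16164) (tt N2550 (iv D12154)) (tt N7096 D16165) (tt N2575 F21442) (tt N6256 (iv F26136)) (tt N7097 D16166) (tt N7088 (iv F27965)))
theorem Q4241 : ∀ i, i < 4241 → P i := stepQ 4240 Q4240 (allL N4240 (tt N4297 (iv F21536)) (tt N7098 D16167) (tt N2551 (iv D12155)) (tt N4289 (iv F21524)) (tt N7099 D16168) (tt N7002 (iv F27759)) (tt N7100 D16169))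
theorem Q4242 : ∀ i, i < 4242 → P i := stepQ 4241 Q4241 (allL N4241 (tt N7091 (iv F27971)) (tt N4241 F21443) (tt N7099 (iv F27980)) (tt N6258 (iv F26138)) (tt N2551 (iv D12156)) (tt N7003 (iv F27761)) (tt N7101 D16170))
theorem Q4243 : ∀ i, i < 4243 → P i := stepQ 4242 Q4242 (allL N4242 (tt N7093 (iv F27973)) (tt N7102 D16171) (tt N7100 (iv F27981)) (tt N2552 F21444) (tt N7101 (iv F27982)) (tt N7103 D16172) (tt N2551 (iv D12157)))
theorem Q4244 : ∀ i, i < 4244 → P i := stepQ 4243 Q4243 (allL N4243 (tt N6260 F41326) (tt N2552 (iv D12158)) (tt N7104 D16174) (tt N7102 (iv F27984)) (tt N6260 (iv F26140)) (tt N7105 D16175) (tt N4243 F21445))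
theorem Q4245 : ∀ i, i < 4245 → P i := stepQ 4244 Q4244 (allL N4244 (tt N4187 F21446) (tt N7106 D16176) (tt N2554 F21447) (tt N7103 (iv F27987)) (tt N6261 (iv F26144)) (tt N2552 (iv D12159)) (tt N4185 F21448))
theorem Q4246 : ∀ i, i < 4246 → P i := stepQ 4245 Q4245 (allL N4245 (tt N2553 (iv D12160)) (tt N7107 D16177) (tt N7108 D16178) (tt N2581 F21449) (tt N4272 (iv F21492)) (tt N4254 (iv F21463)) (tt N2555 F21450))
theorem Q4247 : ∀ i, i < 4247 → P i := stepQ 4246 Q4246 (allL N4246 (tt N7108 (iv F27994)) (tt N7104 (iv F27991)) (tt N2553 (iv D12161)) (tt N7109 D16179) (tt N4274 (iv F21496)) (tt N7110 D16180) (tt N2556 F21451))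
theorem Q4248 : ∀ i, i < 4248 → P i := stepQ 4247 Q4247 (allL N4247 (tt N4254 (iv F21461)) (tt N7111 D16181) (tt N7110 (iv F27997)) (tt N2583 F21452) (tt N4275 (iv F21499)) (tt N2553 (iv D12162)) (tt N4251 (iv F21458)))
theorem Q4249 : ∀ i, i < 4249 → P i := stepQ 4248 Q4248 (allL N4248 (tt N7112 D16182) (tt N2554 (iv D12163)) (tt N7113 D16183) (tt N2584 F21453) (tt N6262 (iv F26147)) (tt N7111 (iv F27999)) (tt N7114 D16184))
theorem Q4250 : ∀ i, i < 4250 → P i := stepQ 4249 Q4249 (allL N4249 (tt N5271 F37345) (tt N2555 (iv D12164)) (tt N5270 (iv F37347)) (tt N2585 F21454) (tt N4270 (iv F21487)) (tt N7115 D16187) (tt N7116 D16188))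
theorem Q4251 : ∀ i, i < 4251 → P i := stepQ 4250 Q4250 (allL N4250 (tt N2556 F21455) (tt N7117 D16189) (tt N2555 (iv D12165)) (tt N7118 D16190) (tt N4271 (iv F21489)) (tt N7119 D16191) (tt N7108 (iv F27995)))
theorem Q4252 : ∀ i, i < 4252 → P i := stepQ 4251 Q4251 (allL N4251 (tt N2557 F21456) (tt N7120 D16192) (tt N7119 (iv F28008)) (tt N2587 F21457) (tt N4266 (iv F21479)) (tt N2555 (iv D12166)) (tt N4247 F21458))
theorem Q4253 : ∀ i, i < 4253 → P i := stepQ 4252 Q4252 (allL N4252 (tt N7118 (iv F28006)) (tt N4252 F21459) (tt N7121 D16193) (tt N2556 (iv D12167)) (tt N7122 D16194) (tt N7123 D16195) (tt N7109 (iv F27996)))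
theorem Q4254 : ∀ i, i < 4254 → P i := stepQ 4253 Q4253 (allL N4253 (tt N7119 (iv F28007)) (tt N7124 D16196) (tt N2557 F21460) (tt N7123 (iv F28012)) (tt N4267 (iv F21481)) (tt N2556 (iv D12168)) (tt N7125 D16197))
theorem Q4255 : ∀ i, i < 4255 → P i := stepQ 4254 Q4254 (allL N4254 (tt N4247 F21461) (tt N7126 D16198) (tt N7125 (iv F28016)) (tt N2590 F21462) (tt N4268 (iv F21484)) (tt N4245 F21463) (tt N2557 (iv D12169)))
theorem Q4256 : ∀ i, i < 4256 → P i := stepQ 4255 Q4255 (allL N4255 (tt N5267 (iv F24063)) (tt N7127 D16199) (tt N5266 (iv F24060)) (tt N2593 F21465) (tt N6263 (iv F26149)) (tt N2558 (iv D12172)) (tt N7128 D16200))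
theorem Q4257 : ∀ i, i < 4257 → P i := stepQ 4256 Q4256 (allL N4256 (tt N5238 (iv F24009)) (tt N7017 (iv F27778)) (tt N5237 F24008) (tt N2594 F21466) (tt N6264 (iv F26151)) (tt N7129 D16201) (tt N2558 (iv D12173)))
theorem Q4258 : ∀ i, i < 4258 → P i := stepQ 4257 Q4257 (allL N4257 (tt N7019 (iv F34679)) (tt N2559 (iv D12174)) (tt N5265 (iv F24057)) (tt N7130 D16203) (tt N6265 (iv F26152)) (tt N7131 D16204) (tt N7132 D16205))
theorem Q4259 : ∀ i, i < 4259 → P i := stepQ 4258 Q4258 (allL N4258 (tt N2561 F21467) (tt N7130 (iv F28029)) (tt N4348 (iv F21626)) (tt N2559 (iv D12175)) (tt N7132 (iv F34674)) (tt N7133 D16207) (tt N6265 (iv F34661)))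
theorem Q4260 : ∀ i, i < 4260 → P i := stepQ 4259 Q4259 (allL N4259 (tt N2562 F21468) (tt N7134 D16208) (tt N2560 F21469) (tt N7133 (iv F28032)) (tt N6267 (iv F26156)) (tt N2559 (iv D12176)) (tt N4195 F21470))
theorem Q4261 : ∀ i, i < 4261 → P i := stepQ 4260 Q4260 (allL N4260 (tt N7135 D16209) (tt N2560 (iv D12177)) (tt N7136 D16210) (tt N2598 F21471) (tt N6268 (iv F26159)) (tt N7127 (iv F28021)) (tt N7137 D16211))
theorem Q4262 : ∀ i, i < 4262 → P i := stepQ 4261 Q4261 (allL N4261 (tt N4348 (iv F21625)) (tt N7138 D16212) (tt N2561 (iv D12178)) (tt N4340 (iv F21613)) (tt N7139 D16213) (tt N7140 D16214) (tt N7018 (iv F27782)))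
theorem Q4263 : ∀ i, i < 4263 → P i := stepQ 4262 Q4262 (allL N4262 (tt N7132 (iv F34673)) (tt N4262 F21472) (tt N7139 (iv F28038)) (tt N6270 (iv F26161)) (tt N2561 (iv D12179)) (tt N7141 D16215) (tt N7019 (iv F27783)))
theorem Q4264 : ∀ i, i < 4264 → P i := stepQ 4263 Q4263 (allL N4263 (tt N7133 (iv F28031)) (tt N7142 D16216) (tt N7140 (iv F28039)) (tt N2562 F21473) (tt N7141 (iv F28040)) (tt N2561 (iv D12180)) (tt N7143 D16217))
theorem Q4265 : ∀ i, i < 4265 → P i := stepQ 4264 Q4264 (allL N4264 (tt N6272 (iv F37353)) (tt N2562 (iv D12181)) (tt N7144 D16219) (tt N7142 (iv F28041)) (tt N6272 (iv F26163)) (tt N4264 F21474) (tt N7145 D16220))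
theorem Q4266 : ∀ i, i < 4266 → P i := stepQ 4265 Q4265 (allL N4265 (tt N4195 F21475) (tt N7146 D16221) (tt N2564 F21476) (tt N7143 (iv F28044)) (tt N6273 (iv F26167)) (tt N4193 F21477) (tt N2562 (iv D12182)))
theorem Q4267 : ∀ i, i < 4267 → P i := stepQ 4266 Q4266 (allL N4266 (tt N2563 (iv D12183)) (tt N7147 D16222) (tt N7148 D16223) (tt N2604 F21478) (tt N4251 F21479) (tt N2565 F21480) (tt N4275 (iv F21500)))
theorem Q4268 : ∀ i, i < 4268 → P i := stepQ 4267 Q4267 (allL N4267 (tt N7148 (iv F28052)) (tt N7144 (iv F28047)) (tt N2563 (iv D12184)) (tt N7149 D16224) (tt N4253 F21481) (tt N2566 F21482) (tt N7150 D16225))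
theorem Q4269 : ∀ i, i < 4269 → P i := stepQ 4268 Q4268 (allL N4268 (tt N4275 (iv F21497)) (tt N7151 D16226) (tt N7150 (iv F28056)) (tt N2606 F21483) (tt N4254 F21484) (tt N4272 (iv F21493)) (tt N2563 (iv D12185)))
theorem Q4270 : ∀ i, i < 4270 → P i := stepQ 4269 Q4269 (allL N4269 (tt N7152 D16227) (tt N2564 (iv D12186)) (tt N7153 D16228) (tt N2607 F21485) (tt N6274 (iv F26170)) (tt N7154 D16229) (tt N7151 (iv F28060)))
theorem Q4271 : ∀ i, i < 4271 → P i := stepQ 4270 Q4270 (allL N4270 (tt N5263 F37344) (tt N2565 (iv D12187)) (tt N5262 (iv F37346)) (tt N2608 F21486) (tt N4249 F21487) (tt N7155 D16232) (tt N7156 D16233))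
theorem Q4272 : ∀ i, i < 4272 → P i := stepQ 4271 Q4271 (allL N4271 (tt N2566 F21488) (tt N7157 D16234) (tt N2565 (iv D12188)) (tt N7158 D16235) (tt N4250 F21489) (tt N7148 (iv F28054)) (tt N7159 D16236))
theorem Q4273 : ∀ i, i < 4273 → P i := stepQ 4272 Q4272 (allL N4272 (tt N2567 F21490) (tt N7160 D16237) (tt N7159 (iv F28075)) (tt N2610 F21491) (tt N4245 F21492) (tt N4268 F21493) (tt N2565 (iv D12189)))
theorem Q4274 : ∀ i, i < 4274 → P i := stepQ 4273 Q4273 (allL N4273 (tt N7158 (iv F28073)) (tt N4273 F21494) (tt N7161 D16238) (tt N2566 (iv D12190)) (tt N7162 D16239) (tt N7149 (iv F28055)) (tt N7163 D16240))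
theorem Q4275 : ∀ i, i < 4275 → P i := stepQ 4274 Q4274 (allL N4274 (tt N7159 (iv F28074)) (tt N7164 D16241) (tt N2567 F21495) (tt N7163 (iv F28082)) (tt N4246 F21496) (tt N7165 D16242) (tt N2566 (iv D12191)))
theorem Q4276 : ∀ i, i < 4276 → P i := stepQ 4275 Q4275 (allL N4275 (tt N4268 F21497) (tt N7166 D16243) (tt N7165 (iv F28087)) (tt N2613 F21498) (tt N4247 F21499) (tt N2567 (iv D12192)) (tt N4266 F21500))
theorem Q4277 : ∀ i, i < 4277 → P i := stepQ 4276 Q4276 (allL N4276 (tt N2570 F21501) (tt N7167 D16244) (tt N6281 (iv F26189)) (tt N5234 F24003) (tt N2711 F21502) (tt N2568 (iv D12193)) (tt N4284 (iv F21517)))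
theorem Q4278 : ∀ i, i < 4278 → P i := stepQ 4277 Q4277 (allL N4277 (tt N2571 F21503) (tt N7168 D16245) (tt N6282 (iv F26192)) (tt N5259 (iv F24048)) (tt N2712 F21504) (tt N4282 (iv F21512)) (tt N2568 (iv D12194)))
theorem Q4279 : ∀ i, i < 4279 → P i := stepQ 4278 Q4278 (allL N4278 (tt N6329 (iv F26284)) (tt N2569 (iv D12195)) (tt N2572 F21505) (tt N7169 D16246) (tt N2713 F21506) (tt N5521 (iv F29002)) (tt N7170 D16248))
theorem Q4280 : ∀ i, i < 4280 → P i := stepQ 4279 Q4279 (allL N4279 (tt N6280 (iv F26185)) (tt N7169 (iv F28098)) (tt N3139 F21538) (tt N2569 (iv D12196)) (tt N7171 D16249) (tt N7172 D16250) (tt N7173 D16251))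
theorem Q4281 : ∀ i, i < 4281 → P i := stepQ 4280 Q4280 (allL N4280 (tt N6281 (iv F26188)) (tt N5178 (iv F28985)) (tt N2570 F21507) (tt N7172 (iv F28110)) (tt N2715 F21508) (tt N2569 (iv D12197)) (tt N7174 D16253))
theorem Q4282 : ∀ i, i < 4282 → P i := stepQ 4281 Q4281 (allL N4281 (tt N6282 (iv F26191)) (tt N7175 D16254) (tt N2571 F21509) (tt N7173 (iv F28112)) (tt N2716 F21510) (tt N7176 D16255) (tt N2569 (iv D12198)))
theorem Q4283 : ∀ i, i < 4283 → P i := stepQ 4282 Q4282 (allL N4282 (tt N4284 (iv F21515)) (tt N7177 D16256) (tt N7174 (iv F28114)) (tt N7087 (iv F27962)) (tt N2717 F21511) (tt N4277 F21512) (tt N2570 (iv D12199)))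
theorem Q4284 : ∀ i, i < 4284 → P i := stepQ 4283 Q4283 (allL N4283 (tt N7178 D16257) (tt N2571 (iv D12200)) (tt N7179 D16258) (tt N7088 (iv F27964)) (tt N2718 F21513) (tt N7180 D16259) (tt N2575 F21514))
theorem Q4285 : ∀ i, i < 4285 → P i := stepQ 4284 Q4284 (allL N4284 (tt N4282 F21515) (tt N7181 D16260) (tt N7176 (iv F28119)) (tt N7089 (iv F27968)) (tt N2719 F21516) (tt N2571 (iv D12201)) (tt N4276 F21517))
theorem Q4286 : ∀ i, i < 4286 → P i := stepQ 4285 Q4285 (allL N4285 (tt N2572 (iv D12202)) (tt N4285 F21518) (tt N6329 F26286) (tt N5044 F28102) (tt N2720 F21519) (tt N7182 D16261) (tt N7183 D16262))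
theorem Q4287 : ∀ i, i < 4287 → P i := stepQ 4286 Q4286 (allL N4286 (tt N5044 F28101) (tt N2573 F21520) (tt N5043 F28100) (tt N2572 (iv D12203)) (tt N7184 D16263) (tt N7185 D16264) (tt N7186 D16265))
theorem Q4288 : ∀ i, i < 4288 → P i := stepQ 4287 Q4287 (allL N4287 (tt N7182 (iv F28135)) (tt N7035 (iv F27807)) (tt N5521 (iv F29001)) (tt N7185 (iv F28141)) (tt N2722 F21521) (tt N2572 (iv D12204)) (tt N7187 D16266))
theorem Q4289 : ∀ i, i < 4289 → P i := stepQ 4288 Q4288 (allL N4288 (tt N7183 (iv F28137)) (tt N7188 D16267) (tt N7170 (iv F28105)) (tt N7186 (iv F28142)) (tt N2723 F21522) (tt N7189 D16268) (tt N2572 (iv D12205)))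
theorem Q4290 : ∀ i, i < 4290 → P i := stepQ 4289 Q4289 (allL N4289 (tt N2576 F21523) (tt N7190 D16269) (tt N2573 (iv D12206)) (tt N4240 F21524) (tt N7191 D16270) (tt N7037 (iv F27811)) (tt N7192 D16271))
theorem Q4291 : ∀ i, i < 4291 → P i := stepQ 4290 Q4290 (allL N4290 (tt N2577 F21525) (tt N7184 (iv F28139)) (tt N7191 (iv F28152)) (tt N2725 F21526) (tt N2573 (iv D12207)) (tt N7038 (iv F27815)) (tt N7193 D16272))
theorem Q4292 : ∀ i, i < 4292 → P i := stepQ 4291 Q4291 (allL N4291 (tt N2578 F21527) (tt N7194 D16273) (tt N7192 (iv F28156)) (tt N2574 F21528) (tt N7193 (iv F28161)) (tt N4206 F21529) (tt N2573 (iv D12208)))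
theorem Q4293 : ∀ i, i < 4293 → P i := stepQ 4292 Q4292 (allL N4292 (tt N7195 D16274) (tt N2574 (iv D12209)) (tt N7196 D16275) (tt N7194 (iv F28163)) (tt N2727 F21530) (tt N7197 D16276) (tt N7188 (iv F28146)))
theorem Q4294 : ∀ i, i < 4294 → P i := stepQ 4293 Q4293 (allL N4293 (tt N2575 (iv D12210)) (tt N7198 D16277) (tt N7199 D16278) (tt N7095 (iv F27976)) (tt N2728 F21531) (tt N7200 D16279) (tt N7178 (iv F28126)))
theorem Q4295 : ∀ i, i < 4295 → P i := stepQ 4294 Q4294 (allL N4294 (tt N7199 (iv F28171)) (tt N7196 (iv F28165)) (tt N2575 (iv D12211)) (tt N7201 D16280) (tt N2729 F21532) (tt N7202 D16281) (tt N7179 (iv F28129)))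
theorem Q4296 : ∀ i, i < 4296 → P i := stepQ 4295 Q4295 (allL N4295 (tt N7200 (iv F28173)) (tt N4210 F21533) (tt N7202 (iv F28177)) (tt N7097 (iv F27978)) (tt N2730 F21534) (tt N2575 (iv D12212)) (tt N6245 F26113))
theorem Q4297 : ∀ i, i < 4297 → P i := stepQ 4296 Q4296 (allL N4296 (tt N7203 D16282) (tt N2576 (iv D12213)) (tt N2614 F21535) (tt N7204 D16283) (tt N7205 D16284) (tt N7206 D16285) (tt N7207 D16286))
theorem Q4298 : ∀ i, i < 4298 → P i := stepQ 4297 Q4297 (allL N4297 (tt N4240 F21536) (tt N7204 (iv F28180)) (tt N4237 F21537) (tt N2576 (iv D12214)) (tt N7208 D16287) (tt N7039 (iv F27819)) (tt N7209 D16288))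
theorem Q4299 : ∀ i, i < 4299 → P i := stepQ 4298 Q4298 (allL N4298 (tt N7191 (iv F28151)) (tt N7205 (iv F28181)) (tt N2577 F21542) (tt N3222 F27834) (tt N2576 (iv D12215)) (tt N2958 F27835) (tt N7210 D16289))
theorem Q4300 : ∀ i, i < 4300 → P i := stepQ 4299 Q4299 (allL N4299 (tt N7192 (iv F28155)) (tt N7211 D16290) (tt N2578 F21543) (tt N7209 (iv F28195)) (tt N7210 (iv F28198)) (tt N7212 D16291) (tt N2576 (iv D12216)))
theorem Q4301 : ∀ i, i < 4301 → P i := stepQ 4300 Q4300 (allL N4300 (tt N7193 (iv F28159)) (tt N7213 D16292) (tt N7210 (iv F28196)) (tt N2734 F21544) (tt N2578 F21545) (tt N7214 D16293) (tt N2577 (iv D12217)))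
theorem Q4302 : ∀ i, i < 4302 → P i := stepQ 4301 Q4301 (allL N4301 (tt N7215 D16294) (tt N2578 (iv D12218)) (tt N7207 (iv F28188)) (tt N2579 F21546) (tt N7213 (iv F28203)) (tt N7216 D16295) (tt N2614 F21547))
theorem Q4303 : ∀ i, i < 4303 → P i := stepQ 4302 Q4302 (allL N4302 (tt N4206 F21548) (tt N7217 D16296) (tt N7212 (iv F28200)) (tt N2580 F21549) (tt N7214 (iv F28207)) (tt N2578 (iv D12219)) (tt N4203 F21550))
theorem Q4304 : ∀ i, i < 4304 → P i := stepQ 4303 Q4303 (allL N4303 (tt N2579 (iv D12220)) (tt N7218 D16297) (tt N6372 (iv F26370)) (tt N7215 (iv F28209)) (tt N2737 F21551) (tt N4383 (iv F21689)) (tt N2616 F21552))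
theorem Q4305 : ∀ i, i < 4305 → P i := stepQ 4304 Q4304 (allL N4304 (tt N4383 (iv F21687)) (tt N7219 D16298) (tt N6378 (iv F26383)) (tt N7216 (iv F28211)) (tt N2739 F21553) (tt N2579 (iv D12221)) (tt N4382 (iv F21686)))
theorem Q4306 : ∀ i, i < 4306 → P i := stepQ 4305 Q4305 (allL N4305 (tt N7220 D16299) (tt N2580 (iv D12222)) (tt N7221 D16300) (tt N7217 (iv F28212)) (tt N2740 F21554) (tt N7219 (iv F28215)) (tt N7222 D16301))
theorem Q4307 : ∀ i, i < 4307 → P i := stepQ 4306 Q4306 (allL N4306 (tt N7223 D16302) (tt N2581 (iv D12223)) (tt N7224 D16303) (tt N7107 (iv F27993)) (tt N2741 F21555) (tt N7225 D16304) (tt N7226 D16305))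
theorem Q4308 : ∀ i, i < 4308 → P i := stepQ 4307 Q4307 (allL N4307 (tt N2582 F21556) (tt N7227 D16306) (tt N2581 (iv D12224)) (tt N7228 D16307) (tt N2742 F21557) (tt N4325 (iv F21585)) (tt N2586 F21558))
theorem Q4309 : ∀ i, i < 4309 → P i := stepQ 4308 Q4308 (allL N4308 (tt N7228 (iv F28230)) (tt N6376 (iv F26377)) (tt N7229 D16308) (tt N2582 (iv D12225)) (tt N7230 D16309) (tt N7231 D16310) (tt N2588 F21559))
theorem Q4310 : ∀ i, i < 4310 → P i := stepQ 4309 Q4309 (allL N4309 (tt N4325 (iv F21582)) (tt N7232 D16311) (tt N2583 F21560) (tt N7231 (iv F28235)) (tt N2744 F21561) (tt N2582 (iv D12226)) (tt N4320 (iv F21577)))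
theorem Q4311 : ∀ i, i < 4311 → P i := stepQ 4310 Q4310 (allL N4310 (tt N7233 D16312) (tt N2583 (iv D12227)) (tt N7234 D16313) (tt N7111 (iv F27998)) (tt N2745 F21562) (tt N2584 F21563) (tt N7235 D16314))
theorem Q4312 : ∀ i, i < 4312 → P i := stepQ 4311 Q4311 (allL N4311 (tt N2584 (iv D12228)) (tt N6190 (iv F34733)) (tt N7236 D16315) (tt N7112 (iv F28000)) (tt N2746 F21564) (tt N7233 (iv F28238)) (tt N7237 D16316))
theorem Q4313 : ∀ i, i < 4313 → P i := stepQ 4312 Q4312 (allL N4312 (tt N7236 (iv F28244)) (tt N7221 (iv F28217)) (tt N2584 (iv D12229)) (tt N7238 D16317) (tt N2747 F21565) (tt N7234 (iv F28241)) (tt N7239 D16318))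
theorem Q4314 : ∀ i, i < 4314 → P i := stepQ 4313 Q4313 (allL N4313 (tt N7237 (iv F28246)) (tt N4201 F21566) (tt N7239 (iv F28250)) (tt N7114 (iv F28002)) (tt N2748 F21567) (tt N7240 D16319) (tt N2584 (iv D12230)))
theorem Q4315 : ∀ i, i < 4315 → P i := stepQ 4314 Q4314 (allL N4314 (tt N2585 (iv D12231)) (tt N4365 (iv F21657)) (tt N7241 D16320) (tt N5271 (iv F37343)) (tt N2749 F21568) (tt N7242 D16321) (tt N7243 D16322))
theorem Q4316 : ∀ i, i < 4316 → P i := stepQ 4315 Q4315 (allL N4315 (tt N7241 (iv F28255)) (tt N7244 D16323) (tt N2585 (iv D12232)) (tt N7245 D16324) (tt N2750 F21569) (tt N7246 D16325) (tt N7247 D16326))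
theorem Q4317 : ∀ i, i < 4317 → P i := stepQ 4316 Q4316 (allL N4316 (tt N7242 (iv F28257)) (tt N7248 D16327) (tt N7246 (iv F28265)) (tt N7115 (iv F28004)) (tt N2751 F21570) (tt N2585 (iv D12233)) (tt N6979 F27703))
theorem Q4318 : ∀ i, i < 4318 → P i := stepQ 4317 Q4317 (allL N4317 (tt N7243 (iv F28259)) (tt N7226 (iv F28227)) (tt N7247 (iv F28267)) (tt N7116 (iv F28005)) (tt N2752 F21571) (tt N7249 D16328) (tt N2585 (iv D12234)))
theorem Q4319 : ∀ i, i < 4319 → P i := stepQ 4318 Q4318 (allL N4318 (tt N7250 D16329) (tt N2586 (iv D12235)) (tt N7244 (iv F28263)) (tt N7251 D16330) (tt N2753 F21572) (tt N7252 D16331) (tt N7253 D16332))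
theorem Q4320 : ∀ i, i < 4320 → P i := stepQ 4319 Q4319 (allL N4319 (tt N2588 F21573) (tt N7251 (iv F28277)) (tt N7254 D16333) (tt N2586 (iv D12236)) (tt N7255 D16334) (tt N7256 D16335) (tt N7228 (iv F28231)))
theorem Q4321 : ∀ i, i < 4321 → P i := stepQ 4320 Q4320 (allL N4320 (tt N2589 F21574) (tt N7257 D16336) (tt N2587 F21575) (tt N7256 (iv F28285)) (tt N2755 F21576) (tt N2586 (iv D12237)) (tt N4309 F21577))
theorem Q4322 : ∀ i, i < 4322 → P i := stepQ 4321 Q4321 (allL N4321 (tt N6932 (iv F27621)) (tt N2587 (iv D12238)) (tt N7258 D16337) (tt N7120 (iv F28010)) (tt N2756 F21578) (tt N7248 (iv F28270)) (tt N6930 F27619))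
theorem Q4323 : ∀ i, i < 4323 → P i := stepQ 4322 Q4322 (allL N4322 (tt N7254 (iv F28280)) (tt N7259 D16338) (tt N2588 (iv D12239)) (tt N7260 D16339) (tt N7261 D16340) (tt N7262 D16341) (tt N7229 (iv F28232)))
theorem Q4324 : ∀ i, i < 4324 → P i := stepQ 4323 Q4323 (allL N4323 (tt N7255 (iv F28282)) (tt N2623 F21579) (tt N7261 (iv F28292)) (tt N2758 F21580) (tt N2588 (iv D12240)) (tt N7263 D16342) (tt N7230 (iv F28234)))
theorem Q4325 : ∀ i, i < 4325 → P i := stepQ 4324 Q4324 (allL N4324 (tt N7256 (iv F28284)) (tt N6345 (iv F26313)) (tt N7262 (iv F28293)) (tt N2589 F21581) (tt N7263 (iv F28295)) (tt N2588 (iv D12241)) (tt N7264 D16343))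
theorem Q4326 : ∀ i, i < 4326 → P i := stepQ 4325 Q4325 (allL N4325 (tt N4309 F21582) (tt N7265 D16344) (tt N2590 F21583) (tt N7264 (iv F28297)) (tt N2760 F21584) (tt N4307 F21585) (tt N2589 (iv D12242)))
theorem Q4327 : ∀ i, i < 4327 → P i := stepQ 4326 Q4326 (allL N4326 (tt N7266 D16345) (tt N2590 (iv D12243)) (tt N7267 D16346) (tt N7126 (iv F28018)) (tt N2761 F21586) (tt N7268 D16347) (tt N3746 F21587))
theorem Q4328 : ∀ i, i < 4328 → P i := stepQ 4327 Q4327 (allL N4327 (tt N2593 F21590) (tt N7269 D16348) (tt N6308 (iv F26246)) (tt N5267 (iv F24065)) (tt N2762 F21591) (tt N2591 (iv D12245)) (tt N4335 (iv F21606)))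
theorem Q4329 : ∀ i, i < 4329 → P i := stepQ 4328 Q4328 (allL N4328 (tt N2594 F21592) (tt N7270 D16349) (tt N6309 (iv F26249)) (tt N5238 F24011) (tt N2763 F21593) (tt N4334 (iv F21603)) (tt N2591 (iv D12246)))
theorem Q4330 : ∀ i, i < 4330 → P i := stepQ 4329 Q4329 (allL N4329 (tt N6349 (iv F26324)) (tt N2592 (iv D12247)) (tt N2595 F21594) (tt N7271 D16350) (tt N2764 F21595) (tt N7272 D16351) (tt N5565 (iv F34754)))
theorem Q4331 : ∀ i, i < 4331 → P i := stepQ 4330 Q4330 (allL N4330 (tt N6307 (iv F26242)) (tt N7271 (iv F28313)) (tt N3149 F21627) (tt N2592 (iv D12248)) (tt N7273 D16353) (tt N7274 D16354) (tt N7275 D16355))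
theorem Q4332 : ∀ i, i < 4332 → P i := stepQ 4331 Q4331 (allL N4331 (tt N6308 (iv F26245)) (tt N7276 D16356) (tt N2593 F21596) (tt N7274 (iv F28325)) (tt N2766 F21597) (tt N2592 (iv D12249)) (tt N7277 D16357))
theorem Q4333 : ∀ i, i < 4333 → P i := stepQ 4332 Q4332 (allL N4332 (tt N6309 (iv F26248)) (tt N5189 F34744) (tt N2594 F21598) (tt N7275 (iv F28327)) (tt N2767 F21599) (tt N7278 D16359) (tt N2592 (iv D12250)))
theorem Q4334 : ∀ i, i < 4334 → P i := stepQ 4333 Q4333 (allL N4333 (tt N7279 D16360) (tt N2593 (iv D12251)) (tt N7280 D16361) (tt N7127 (iv F28020)) (tt N2768 F21600) (tt N2598 F21601) (tt N7281 D16362))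
theorem Q4335 : ∀ i, i < 4335 → P i := stepQ 4334 Q4334 (allL N4334 (tt N4335 (iv F21604)) (tt N7200 F28176) (tt N7277 (iv F28329)) (tt N7128 (iv F28023)) (tt N2769 F21602) (tt N4328 F21603) (tt N2593 (iv D12252)))
theorem Q4336 : ∀ i, i < 4336 → P i := stepQ 4335 Q4335 (allL N4335 (tt N4334 F21604) (tt N7282 D16363) (tt N7278 (iv F28334)) (tt N7129 (iv F28027)) (tt N2770 F21605) (tt N2594 (iv D12253)) (tt N4327 F21606))
theorem Q4337 : ∀ i, i < 4337 → P i := stepQ 4336 Q4336 (allL N4336 (tt N2595 (iv D12254)) (tt N4336 F21607) (tt N6349 F26326) (tt N5048 F28317) (tt N2771 F21608) (tt N7283 D16364) (tt N7284 D16365))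
theorem Q4338 : ∀ i, i < 4338 → P i := stepQ 4337 Q4337 (allL N4337 (tt N5048 F28316) (tt N2596 F21609) (tt N5047 F28315) (tt N2595 (iv D12255)) (tt N7285 D16366) (tt N7286 D16367) (tt N7287 D16368))
theorem Q4339 : ∀ i, i < 4339 → P i := stepQ 4338 Q4338 (allL N4338 (tt N7283 (iv F28349)) (tt N7288 D16369) (tt N7272 (iv F28318)) (tt N7286 (iv F28355)) (tt N2773 F21610) (tt N2595 (iv D12256)) (tt N7289 D16370))
theorem Q4340 : ∀ i, i < 4340 → P i := stepQ 4339 Q4339 (allL N4339 (tt N7284 (iv F28351)) (tt N7064 (iv F27903)) (tt N5565 (iv F34753)) (tt N7287 (iv F28356)) (tt N2774 F21611) (tt N7290 D16371) (tt N2595 (iv D12257)))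
theorem Q4341 : ∀ i, i < 4341 → P i := stepQ 4340 Q4340 (allL N4340 (tt N2599 F21612) (tt N7291 D16372) (tt N2596 (iv D12258)) (tt N4261 F21613) (tt N7292 D16373) (tt N7293 D16374) (tt N7065 (iv F27906)))
theorem Q4342 : ∀ i, i < 4342 → P i := stepQ 4341 Q4341 (allL N4341 (tt N2600 F21614) (tt N7285 (iv F28353)) (tt N7292 (iv F28366)) (tt N2776 F21615) (tt N2596 (iv D12259)) (tt N7294 D16375) (tt N7066 (iv F27910)))
theorem Q4343 : ∀ i, i < 4343 → P i := stepQ 4342 Q4342 (allL N4342 (tt N2601 F21616) (tt N7295 D16376) (tt N7293 (iv F28368)) (tt N2597 F21617) (tt N7294 (iv F28373)) (tt N2596 (iv D12260)) (tt N4223 F21618))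
theorem Q4344 : ∀ i, i < 4344 → P i := stepQ 4343 Q4343 (allL N4343 (tt N7296 D16377) (tt N2597 (iv D12261)) (tt N7297 D16378) (tt N7295 (iv F28375)) (tt N2778 F21619) (tt N7288 (iv F28358)) (tt N7298 D16379))
theorem Q4345 : ∀ i, i < 4345 → P i := stepQ 4344 Q4344 (allL N4344 (tt N2598 (iv D12262)) (tt N7299 D16380) (tt N7300 D16381) (tt N7135 (iv F28034)) (tt N2779 F21620) (tt N7279 (iv F28338)) (tt N7181 F28134))
theorem Q4346 : ∀ i, i < 4346 → P i := stepQ 4345 Q4345 (allL N4345 (tt N7300 (iv F28384)) (tt N7297 (iv F28377)) (tt N2598 (iv D12263)) (tt N7301 D16382) (tt N2780 F21621) (tt N7280 (iv F28341)) (tt N7302 D16383))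
theorem Q4347 : ∀ i, i < 4347 → P i := stepQ 4346 Q4346 (allL N4346 (tt N7181 (iv F28132)) (tt N4227 F21622) (tt N7302 (iv F28386)) (tt N7137 (iv F28036)) (tt N2781 F21623) (tt N6226 F26082) (tt N2598 (iv D12264)))
theorem Q4348 : ∀ i, i < 4348 → P i := stepQ 4347 Q4347 (allL N4347 (tt N7303 D16384) (tt N2599 (iv D12265)) (tt N2624 F21624) (tt N7304 D16385) (tt N7305 D16386) (tt N7306 D16387) (tt N7307 D16388))
theorem Q4349 : ∀ i, i < 4349 → P i := stepQ 4348 Q4348 (allL N4348 (tt N4261 F21625) (tt N7304 (iv F28389)) (tt N4258 F21626) (tt N2599 (iv D12266)) (tt N7308 D16389) (tt N7309 D16390) (tt N7067 (iv F27914)))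
theorem Q4350 : ∀ i, i < 4350 → P i := stepQ 4349 Q4349 (allL N4349 (tt N7292 (iv F28365)) (tt N7305 (iv F28390)) (tt N2600 F21631) (tt N3245 (iv F34641)) (tt N2599 (iv D12267)) (tt N7310 D16392) (tt N2961 (iv F34645)))
theorem Q4351 : ∀ i, i < 4351 → P i := stepQ 4350 Q4350 (allL N4350 (tt N7293 (iv F28367)) (tt N7311 D16393) (tt N2601 F21632) (tt N7309 (iv F28398)) (tt N7310 (iv F28400)) (tt N2599 (iv D12268)) (tt N7312 D16394))
theorem Q4352 : ∀ i, i < 4352 → P i := stepQ 4351 Q4351 (allL N4351 (tt N7294 (iv F28371)) (tt N7313 D16395) (tt N7310 (iv F28399)) (tt N2785 F21633) (tt N2601 F21634) (tt N2600 (iv D12269)) (tt N7314 D16396))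
theorem Q4353 : ∀ i, i < 4353 → P i := stepQ 4352 Q4352 (allL N4352 (tt N7315 D16397) (tt N2601 (iv D12270)) (tt N7306 (iv F28392)) (tt N2602 F21635) (tt N7313 (iv F28405)) (tt N2624 F21636) (tt N7316 D16398))
theorem Q4354 : ∀ i, i < 4354 → P i := stepQ 4353 Q4353 (allL N4353 (tt N4223 F21637) (tt N7317 D16399) (tt N7312 (iv F28402)) (tt N2603 F21638) (tt N7314 (iv F28409)) (tt N4220 F21639) (tt N2601 (iv D12271)))
theorem Q4355 : ∀ i, i < 4355 → P i := stepQ 4354 Q4354 (allL N4354 (tt N2602 (iv D12272)) (tt N7318 D16400) (tt N6381 (iv F26389)) (tt N7315 (iv F28411)) (tt N2788 F21640) (tt N2626 F21641) (tt N4399 (iv F21723)))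
theorem Q4356 : ∀ i, i < 4356 → P i := stepQ 4355 Q4355 (allL N4355 (tt N4399 (iv F21721)) (tt N7319 D16401) (tt N6387 (iv F26401)) (tt N7316 (iv F28413)) (tt N2790 F21642) (tt N4398 (iv F21720)) (tt N2602 (iv D12273)))
theorem Q4357 : ∀ i, i < 4357 → P i := stepQ 4356 Q4356 (allL N4356 (tt N7320 D16402) (tt N2603 (iv D12274)) (tt N7321 D16403) (tt N7317 (iv F28414)) (tt N2791 F21643) (tt N7322 D16404) (tt N7319 (iv F28417)))
theorem Q4358 : ∀ i, i < 4358 → P i := stepQ 4357 Q4357 (allL N4357 (tt N7323 D16405) (tt N2604 (iv D12275)) (tt N7324 D16406) (tt N7147 (iv F28050)) (tt N2792 F21644) (tt N7325 D16407) (tt N7326 D16408))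
theorem Q4359 : ∀ i, i < 4359 → P i := stepQ 4358 Q4358 (allL N4358 (tt N2605 F21645) (tt N7327 D16409) (tt N2604 (iv D12276)) (tt N7328 D16410) (tt N2793 F21646) (tt N2609 F21647) (tt N4376 (iv F21675)))
theorem Q4360 : ∀ i, i < 4360 → P i := stepQ 4359 Q4359 (allL N4359 (tt N7328 (iv F28432)) (tt N6385 (iv F26397)) (tt N7329 D16411) (tt N2605 (iv D12277)) (tt N7330 D16412) (tt N2611 F21648) (tt N7331 D16413))
theorem Q4361 : ∀ i, i < 4361 → P i := stepQ 4360 Q4360 (allL N4360 (tt N4376 (iv F21672)) (tt N7332 D16414) (tt N2606 F21649) (tt N7331 (iv F28437)) (tt N2795 F21650) (tt N4371 (iv F21667)) (tt N2605 (iv D12278)))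
theorem Q4362 : ∀ i, i < 4362 → P i := stepQ 4361 Q4361 (allL N4361 (tt N7333 D16415) (tt N2606 (iv D12279)) (tt N7334 D16416) (tt N7151 (iv F28058)) (tt N2796 F21651) (tt N7335 D16417) (tt N2607 F21652))
theorem Q4363 : ∀ i, i < 4363 → P i := stepQ 4362 Q4362 (allL N4362 (tt N2607 (iv D12280)) (tt N6186 F25996) (tt N7336 D16418) (tt N7152 (iv F28061)) (tt N2797 F21653) (tt N7337 D16419) (tt N7333 (iv F28440)))
theorem Q4364 : ∀ i, i < 4364 → P i := stepQ 4363 Q4363 (allL N4363 (tt N7336 (iv F28446)) (tt N7321 (iv F28419)) (tt N2607 (iv D12281)) (tt N7338 D16420) (tt N2798 F21654) (tt N7339 D16421) (tt N7334 (iv F28443)))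
theorem Q4365 : ∀ i, i < 4365 → P i := stepQ 4364 Q4364 (allL N4364 (tt N7337 (iv F28449)) (tt N4217 F21655) (tt N7339 (iv F28453)) (tt N7154 (iv F28063)) (tt N2799 F21656) (tt N2607 (iv D12282)) (tt N7340 D16422))
theorem Q4366 : ∀ i, i < 4366 → P i := stepQ 4365 Q4365 (allL N4365 (tt N2608 (iv D12283)) (tt N4314 F21657) (tt N7341 D16423) (tt N5263 (iv F37342)) (tt N2800 F21658) (tt N7342 D16424) (tt N7343 D16425))
theorem Q4367 : ∀ i, i < 4367 → P i := stepQ 4366 Q4366 (allL N4366 (tt N7341 (iv F28459)) (tt N7344 D16426) (tt N2608 (iv D12284)) (tt N7345 D16427) (tt N2801 F21659) (tt N7346 D16428) (tt N7347 D16429))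
theorem Q4368 : ∀ i, i < 4368 → P i := stepQ 4367 Q4367 (allL N4367 (tt N7342 (iv F28461)) (tt N7325 (iv F28426)) (tt N7346 (iv F28469)) (tt N7155 (iv F28068)) (tt N2802 F21660) (tt N2608 (iv D12285)) (tt N7348 D16430))
theorem Q4369 : ∀ i, i < 4369 → P i := stepQ 4368 Q4368 (allL N4368 (tt N7343 (iv F28465)) (tt N7349 D16431) (tt N7347 (iv F28471)) (tt N7156 (iv F28070)) (tt N2803 F21661) (tt N6968 F27678) (tt N2608 (iv D12286)))
theorem Q4370 : ∀ i, i < 4370 → P i := stepQ 4369 Q4369 (allL N4369 (tt N7350 D16432) (tt N2609 (iv D12287)) (tt N7344 (iv F28467)) (tt N7351 D16433) (tt N2804 F21662) (tt N7352 D16434) (tt N7353 D16435))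
theorem Q4371 : ∀ i, i < 4371 → P i := stepQ 4370 Q4370 (allL N4370 (tt N2611 F21663) (tt N7351 (iv F28481)) (tt N7354 D16436) (tt N2609 (iv D12288)) (tt N7355 D16437) (tt N7328 (iv F28433)) (tt N7356 D16438))
theorem Q4372 : ∀ i, i < 4372 → P i := stepQ 4371 Q4371 (allL N4371 (tt N2612 F21664) (tt N7357 D16439) (tt N2610 F21665) (tt N7356 (iv F28489)) (tt N2806 F21666) (tt N4360 F21667) (tt N2609 (iv D12289)))
theorem Q4373 : ∀ i, i < 4373 → P i := stepQ 4372 Q4372 (allL N4372 (tt N6924 (iv F27604)) (tt N2610 (iv D12290)) (tt N7358 D16440) (tt N7160 (iv F28078)) (tt N2807 F21668) (tt N6922 F27602) (tt N7349 (iv F28479)))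
theorem Q4374 : ∀ i, i < 4374 → P i := stepQ 4373 Q4373 (allL N4373 (tt N7354 (iv F28484)) (tt N7359 D16441) (tt N2611 (iv D12291)) (tt N7360 D16442) (tt N7361 D16443) (tt N7329 (iv F28434)) (tt N7362 D16444))
theorem Q4375 : ∀ i, i < 4375 → P i := stepQ 4374 Q4374 (allL N4374 (tt N7355 (iv F28486)) (tt N2633 F21669) (tt N7361 (iv F28496)) (tt N2809 F21670) (tt N2611 (iv D12292)) (tt N7330 (iv F28436)) (tt N7363 D16445))
theorem Q4376 : ∀ i, i < 4376 → P i := stepQ 4375 Q4375 (allL N4375 (tt N7356 (iv F28488)) (tt N6365 (iv F26353)) (tt N7362 (iv F28497)) (tt N2612 F21671) (tt N7363 (iv F28499)) (tt N7364 D16446) (tt N2611 (iv D12293)))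
theorem Q4377 : ∀ i, i < 4377 → P i := stepQ 4376 Q4376 (allL N4376 (tt N4360 F21672) (tt N7365 D16447) (tt N2613 F21673) (tt N7364 (iv F28501)) (tt N2811 F21674) (tt N2612 (iv D12294)) (tt N4358 F21675))
theorem Q4378 : ∀ i, i < 4378 → P i := stepQ 4377 Q4377 (allL N4377 (tt N7366 D16448) (tt N2613 (iv D12295)) (tt N7367 D16449) (tt N7166 (iv F28090)) (tt N2812 F21676) (tt N3733 F21677) (tt N7368 D16450))
theorem Q4379 : ∀ i, i < 4379 → P i := stepQ 4378 Q4378 (allL N4378 (tt N2614 (iv D12296)) (tt N7369 D16451) (tt N7203 (iv F28179)) (tt N2616 F21678) (tt N7370 D16452) (tt N7371 D16453) (tt N7215 (iv F28210)))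
theorem Q4380 : ∀ i, i < 4380 → P i := stepQ 4379 Q4379 (allL N4379 (tt N7370 (iv F28512)) (tt N2615 F21679) (tt N7205 (iv F28182)) (tt N2813 F21680) (tt N2614 (iv D12297)) (tt N7372 D16454) (tt N7213 (iv F28204)))
theorem Q4381 : ∀ i, i < 4381 → P i := stepQ 4380 Q4380 (allL N4380 (tt N7371 (iv F28514)) (tt N4380 F21681) (tt N7206 (iv F28186)) (tt N2617 F21682) (tt N7372 (iv F28520)) (tt N2614 (iv D12298)) (tt N7373 D16455))
theorem Q4382 : ∀ i, i < 4382 → P i := stepQ 4381 Q4381 (allL N4381 (tt N7374 D16456) (tt N2616 (iv D12299)) (tt N7375 D16457) (tt N7369 (iv F28511)) (tt N2816 F21683) (tt N6965 (iv F27671)) (tt N7376 D16458))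
theorem Q4383 : ∀ i, i < 4383 → P i := stepQ 4382 Q4382 (allL N4382 (tt N2617 F21684) (tt N6918 (iv F27595)) (tt N6371 (iv F26367)) (tt N7371 (iv F28515)) (tt N2818 F21685) (tt N2616 (iv D12300)) (tt N4304 F21686))
theorem Q4384 : ∀ i, i < 4384 → P i := stepQ 4383 Q4383 (allL N4383 (tt N4304 F21687) (tt N7377 D16459) (tt N6377 (iv F26379)) (tt N7373 (iv F28537)) (tt N2821 F21688) (tt N4303 F21689) (tt N2617 (iv D12301)))
theorem Q4385 : ∀ i, i < 4385 → P i := stepQ 4384 Q4384 (allL N4384 (tt N2619 F21690) (tt N7378 D16460) (tt N2618 (iv D12302)) (tt N7379 D16461) (tt N2823 F21691) (tt N2619 F21692) (tt N3511 F21693))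
theorem Q4386 : ∀ i, i < 4386 → P i := stepQ 4385 Q4385 (allL N4385 (tt N7380 D16462) (tt N2619 (iv D12303)) (tt N2620 F21694) (tt N7381 D16463) (tt N2824 F21695) (tt N7382 D16464) (tt N7383 D16465))
theorem Q4387 : ∀ i, i < 4387 → P i := stepQ 4386 Q4386 (allL N4386 (tt N7379 (iv F28546)) (tt N7381 (iv F28551)) (tt N7384 D16466) (tt N2619 (iv D12304)) (tt N7385 D16467) (tt N7379 (iv F28547)) (tt N3512 F21696))
theorem Q4388 : ∀ i, i < 4388 → P i := stepQ 4387 Q4387 (allL N4387 (tt N2620 (iv D12305)) (tt N7386 D16468) (tt N7380 (iv F28549)) (tt N7387 D16469) (tt N2826 F21697) (tt N7388 D16470) (tt N7389 D16471))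
theorem Q4389 : ∀ i, i < 4389 → P i := stepQ 4388 Q4388 (allL N4388 (tt N7387 (iv F28561)) (tt N2621 F21698) (tt N7390 D16472) (tt N2620 (iv D12306)) (tt N7391 D16473) (tt N7392 D16474) (tt N7393 D16475))
theorem Q4390 : ∀ i, i < 4390 → P i := stepQ 4389 Q4389 (allL N4389 (tt N7388 (iv F28562)) (tt N6341 (iv F26308)) (tt N7382 (iv F28552)) (tt N7392 (iv F28569)) (tt N2828 F21699) (tt N2620 (iv D12307)) (tt N7394 D16476))
theorem Q4391 : ∀ i, i < 4391 → P i := stepQ 4390 Q4390 (allL N4390 (tt N7389 (iv F28564)) (tt N3494 F21700) (tt N7383 (iv F28555)) (tt N7393 (iv F28571)) (tt N2829 F21701) (tt N7395 D16477) (tt N2620 (iv D12308)))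
theorem Q4392 : ∀ i, i < 4392 → P i := stepQ 4391 Q4391 (allL N4391 (tt N2623 F21702) (tt N7391 (iv F28567)) (tt N3753 F21703) (tt N2830 F21704) (tt N2621 (iv D12309)) (tt N4393 (iv F21710)) (tt N3510 F21705))
theorem Q4393 : ∀ i, i < 4393 → P i := stepQ 4392 Q4392 (allL N4392 (tt N7396 D16478) (tt N2622 (iv D12310)) (tt N7259 (iv F28289)) (tt N3752 F21706) (tt N7397 D16479) (tt N7398 D16480) (tt N7399 D16481))
theorem Q4394 : ∀ i, i < 4394 → P i := stepQ 4393 Q4393 (allL N4393 (tt N3753 F21707) (tt N7397 (iv F28578)) (tt N2623 F21708) (tt N3894 F21709) (tt N2622 (iv D12311)) (tt N4391 F21710) (tt N3751 F21711))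
theorem Q4395 : ∀ i, i < 4395 → P i := stepQ 4394 Q4394 (allL N4394 (tt N2624 (iv D12312)) (tt N7400 D16482) (tt N7303 (iv F28388)) (tt N2626 F21712) (tt N7401 D16483) (tt N7315 (iv F28412)) (tt N7402 D16484))
theorem Q4396 : ∀ i, i < 4396 → P i := stepQ 4395 Q4395 (allL N4395 (tt N7401 (iv F28585)) (tt N2625 F21713) (tt N7305 (iv F28391)) (tt N2833 F21714) (tt N2624 (iv D12313)) (tt N7313 (iv F28406)) (tt N7403 D16485))
theorem Q4397 : ∀ i, i < 4397 → P i := stepQ 4396 Q4396 (allL N4396 (tt N7402 (iv F28587)) (tt N4396 F21715) (tt N7307 (iv F28393)) (tt N2627 F21716) (tt N7403 (iv F28592)) (tt N7404 D16486) (tt N2624 (iv D12314)))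
theorem Q4398 : ∀ i, i < 4398 → P i := stepQ 4397 Q4397 (allL N4397 (tt N7405 D16487) (tt N2626 (iv D12315)) (tt N7406 D16488) (tt N7400 (iv F28584)) (tt N2836 F21717) (tt N7407 D16489) (tt N6976 (iv F34845)))
theorem Q4399 : ∀ i, i < 4399 → P i := stepQ 4398 Q4398 (allL N4398 (tt N2627 F21718) (tt N6926 (iv F34852)) (tt N6382 (iv F26392)) (tt N7402 (iv F28588)) (tt N2838 F21719) (tt N4355 F21720) (tt N2626 (iv D12316)))
theorem Q4400 : ∀ i, i < 4400 → P i := stepQ 4399 Q4399 (allL N4399 (tt N4355 F21721) (tt N7408 D16492) (tt N6388 (iv F26405)) (tt N7404 (iv F28594)) (tt N2841 F21722) (tt N2627 (iv D12317)) (tt N4354 F21723))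
theorem Q4401 : ∀ i, i < 4401 → P i := stepQ 4400 Q4400 (allL N4400 (tt N2629 F21724) (tt N7409 D16493) (tt N2628 (iv D12318)) (tt N7410 D16494) (tt N2843 F21725) (tt N3514 F21726) (tt N2629 F21727))
theorem Q4402 : ∀ i, i < 4402 → P i := stepQ 4401 Q4401 (allL N4401 (tt N7411 D16495) (tt N2629 (iv D12319)) (tt N2630 F21728) (tt N7412 D16496) (tt N2844 F21729) (tt N7413 D16497) (tt N7414 D16498))
theorem Q4403 : ∀ i, i < 4403 → P i := stepQ 4402 Q4402 (allL N4402 (tt N7410 (iv F28609)) (tt N7412 (iv F28614)) (tt N7415 D16499) (tt N2629 (iv D12320)) (tt N7416 D16500) (tt N3515 F21730) (tt N7410 (iv F28611)))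
theorem Q4404 : ∀ i, i < 4404 → P i := stepQ 4403 Q4403 (allL N4403 (tt N2630 (iv D12321)) (tt N7417 D16501) (tt N7411 (iv F28612)) (tt N7418 D16502) (tt N2846 F21731) (tt N7419 D16503) (tt N7420 D16504))
theorem Q4405 : ∀ i, i < 4405 → P i := stepQ 4404 Q4404 (allL N4404 (tt N7418 (iv F28624)) (tt N2631 F21732) (tt N7421 D16505) (tt N2630 (iv D12322)) (tt N7422 D16506) (tt N7423 D16507) (tt N7424 D16508))
theorem Q4406 : ∀ i, i < 4406 → P i := stepQ 4405 Q4405 (allL N4405 (tt N7419 (iv F28625)) (tt N3504 F21733) (tt N7413 (iv F28616)) (tt N7423 (iv F28633)) (tt N2848 F21734) (tt N2630 (iv D12323)) (tt N7425 D16509))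
theorem Q4407 : ∀ i, i < 4407 → P i := stepQ 4406 Q4406 (allL N4406 (tt N7420 (iv F28627)) (tt N6361 (iv F26348)) (tt N7414 (iv F28618)) (tt N7424 (iv F28634)) (tt N2849 F21735) (tt N7426 D16510) (tt N2630 (iv D12324)))
theorem Q4408 : ∀ i, i < 4408 → P i := stepQ 4407 Q4407 (allL N4407 (tt N2633 F21736) (tt N7422 (iv F28630)) (tt N3763 F21737) (tt N2850 F21738) (tt N2631 (iv D12325)) (tt N3513 F21739) (tt N4409 (iv F21745)))
theorem Q4409 : ∀ i, i < 4409 → P i := stepQ 4408 Q4408 (allL N4408 (tt N7427 D16511) (tt N2632 (iv D12326)) (tt N7359 (iv F28493)) (tt N3762 F21740) (tt N7428 D16512) (tt N7429 D16513) (tt N7430 D16514))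
theorem Q4410 : ∀ i, i < 4410 → P i := stepQ 4409 Q4409 (allL N4409 (tt N3763 F21741) (tt N7428 (iv F28641)) (tt N2633 F21742) (tt N3923 F21743) (tt N2632 (iv D12327)) (tt N3761 F21744) (tt N4407 F21745))
theorem Q4411 : ∀ i, i < 4411 → P i := stepQ 4410 Q4410 (allL N4410 (tt N4410 F21746) (tt N2634 (iv D12328)) (tt N4413 (iv F21755)) (tt N7431 D16515) (tt N2638 F21747) (tt N4413 (iv F21757)) (tt N4413 (iv F21758)))
theorem Q4412 : ∀ i, i < 4412 → P i := stepQ 4411 Q4411 (allL N4411 (tt N2635 F21748) (tt N7431 (iv F28648)) (tt N7432 D16516) (tt N2634 (iv D12329)) (tt N5362 (iv F32963)) (tt N2635 F21749) (tt N3516 F21750))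
theorem Q4413 : ∀ i, i < 4413 → P i := stepQ 4412 Q4412 (allL N4412 (tt N7432 (iv F28649)) (tt N7433 D16518) (tt N2635 (iv D12330)) (tt N7434 D16519) (tt N5363 (iv F32964)) (tt N7432 (iv F28650)) (tt N3517 F21751))
theorem Q4414 : ∀ i, i < 4414 → P i := stepQ 4413 Q4413 (allL N4413 (tt N4413 F21754) (tt N2636 (iv D12332)) (tt N4410 F21755) (tt N7435 D16521) (tt N2639 F21756) (tt N4410 F21757) (tt N4410 F21758))
theorem Q4415 : ∀ i, i < 4415 → P i := stepQ 4414 Q4414 (allL N4414 (tt N2637 F21759) (tt N7435 (iv F28664)) (tt N7436 D16522) (tt N2636 (iv D12333)) (tt N5372 (iv F32942)) (tt N3518 F21760) (tt N2637 F21761))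
theorem Q4416 : ∀ i, i < 4416 → P i := stepQ 4415 Q4415 (allL N4415 (tt N7436 (iv F28667)) (tt N7437 D16524) (tt N2637 (iv D12334)) (tt N7438 D16525) (tt N5373 (iv F32979)) (tt N3519 F21762) (tt N7436 (iv F28669)))
theorem Q4417 : ∀ i, i < 4417 → P i := stepQ 4416 Q4416 (allL N4416 (tt N2645 F21788) (tt N5085 (iv F23718)) (tt N2640 (iv D12344)) (tt N3439 F21789) (tt N7439 D16535) (tt N7440 D16536) (tt N7441 D16537))
theorem Q4418 : ∀ i, i < 4418 → P i := stepQ 4417 Q4417 (allL N4417 (tt N2646 F21790) (tt N2921 F21791) (tt N7439 (iv F28704)) (tt N2920 F21792) (tt N2640 (iv D12345)) (tt N4578 (iv F28858)) (tt N4679 F34376))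
theorem Q4419 : ∀ i, i < 4419 → P i := stepQ 4418 Q4418 (allL N4418 (tt N2647 F21793) (tt N4579 (iv F29153)) (tt N7440 (iv F28707)) (tt N2641 F21794) (tt N4578 (iv F28857)) (tt N2640 (iv D12346)) (tt N4438 (iv F21814)))
theorem Q4420 : ∀ i, i < 4420 → P i := stepQ 4419 Q4419 (allL N4419 (tt N2648 F21795) (tt N4680 (iv F34442)) (tt N7441 (iv F28710)) (tt N2642 F21796) (tt N4679 F34373) (tt N4436 (iv F21809)) (tt N2640 (iv D12347)))
theorem Q4421 : ∀ i, i < 4421 → P i := stepQ 4420 Q4420 (allL N4420 (tt N4593 (iv F29151)) (tt N2641 (iv D12348)) (tt N7442 D16543) (tt N4579 (iv F29154)) (tt N6486 (iv F29156)) (tt N5749 (iv F25029)) (tt N7443 D16544))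
theorem Q4422 : ∀ i, i < 4422 → P i := stepQ 4421 Q4421 (allL N4421 (tt N4693 (iv F34462)) (tt N2642 (iv D12349)) (tt N7444 D16546) (tt N4680 F34451) (tt N6519 (iv F34464)) (tt N7445 D16547) (tt N5750 (iv F25030)))
theorem Q4423 : ∀ i, i < 4423 → P i := stepQ 4422 Q4422 (allL N4422 (tt N2643 (iv D12350)) (tt N3831 F21824) (tt N7446 D16548) (tt N4555 (iv F21972)) (tt N6893 (iv F27535)) (tt N4555 (iv F21973)) (tt N6512 (iv F26634)))
theorem Q4424 : ∀ i, i < 4424 → P i := stepQ 4423 Q4423 (allL N4423 (tt N7446 (iv F28726)) (tt N7442 (iv F28721)) (tt N2643 (iv D12351)) (tt N7447 D16549) (tt N6894 (iv F27537)) (tt N6389 (iv F26408)) (tt N7448 D16550))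
theorem Q4425 : ∀ i, i < 4425 → P i := stepQ 4424 Q4424 (allL N4424 (tt N6512 (iv F26632)) (tt N4460 (iv F21844)) (tt N7448 (iv F28728)) (tt N6390 (iv F26411)) (tt N6895 (iv F27538)) (tt N4687 F22192) (tt N2643 (iv D12352)))
theorem Q4426 : ∀ i, i < 4426 → P i := stepQ 4425 Q4425 (allL N4425 (tt N2644 (iv D12353)) (tt N3858 F22081) (tt N7449 D16551) (tt N4658 (iv F22140)) (tt N6896 (iv F27539)) (tt N6478 F26558) (tt N4658 (iv F22142)))
theorem Q4427 : ∀ i, i < 4427 → P i := stepQ 4426 Q4426 (allL N4426 (tt N7449 (iv F28729)) (tt N7444 (iv F28722)) (tt N2644 (iv D12354)) (tt N7450 D16552) (tt N6897 (iv F27541)) (tt N7451 D16553) (tt N6391 (iv F26412)))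
theorem Q4428 : ∀ i, i < 4428 → P i := stepQ 4427 Q4427 (allL N4427 (tt N6478 (iv F26556)) (tt N4452 (iv F21838)) (tt N7451 (iv F28731)) (tt N6392 (iv F26415)) (tt N6898 (iv F27542)) (tt N2644 (iv D12355)) (tt N4586 F22143))
theorem Q4429 : ∀ i, i < 4429 → P i := stepQ 4428 Q4428 (allL N4428 (tt N4428 F28737) (tt N2645 (iv D12356)) (tt N4428 F21797) (tt N7452 D16555) (tt N7453 D16556) (tt N4428 F28795) (tt N4428 F29717))
theorem Q4430 : ∀ i, i < 4430 → P i := stepQ 4429 Q4429 (allL N4429 (tt N3439 F21798) (tt N7452 (iv F28733)) (tt N3430 F21799) (tt N2645 (iv D12357)) (tt N3433 (iv F21800)) (tt N7454 D16559) (tt N7455 D16560))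
theorem Q4431 : ∀ i, i < 4431 → P i := stepQ 4430 Q4430 (allL N4430 (tt N7439 (iv F28702)) (tt N7453 (iv F28739)) (tt N2646 F21801) (tt N7456 D16561) (tt N2645 (iv D12358)) (tt N7457 D16562) (tt N7458 D16563))
theorem Q4432 : ∀ i, i < 4432 → P i := stepQ 4431 Q4431 (allL N4431 (tt N7440 (iv F28706)) (tt N4431 F28790) (tt N2647 F21802) (tt N7454 (iv F28747)) (tt N7457 (iv F28756)) (tt N2645 (iv D12359)) (tt N7459 D16565))
theorem Q4433 : ∀ i, i < 4433 → P i := stepQ 4432 Q4432 (allL N4432 (tt N7441 (iv F28709)) (tt N4432 F29713) (tt N2648 F21803) (tt N7455 (iv F28751)) (tt N7458 (iv F28758)) (tt N7460 D16567) (tt N2645 (iv D12360)))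
theorem Q4434 : ∀ i, i < 4434 → P i := stepQ 4433 Q4433 (allL N4433 (tt N4578 (iv F28856)) (tt N7461 D16568) (tt N7457 (iv F28755)) (tt N6483 (iv F28851)) (tt N2647 F21804) (tt N2646 (iv D12361)) (tt N7462 D16569))
theorem Q4435 : ∀ i, i < 4435 → P i := stepQ 4434 Q4434 (allL N4434 (tt N4679 F34370) (tt N7463 D16570) (tt N7458 (iv F28757)) (tt N6516 F34371) (tt N2648 F21805) (tt N7464 D16571) (tt N2646 (iv D12362)))
theorem Q4436 : ∀ i, i < 4436 → P i := stepQ 4435 Q4435 (allL N4435 (tt N4435 F21830) (tt N2647 (iv D12363)) (tt N4435 F28789) (tt N2649 F21806) (tt N7461 (iv F28764)) (tt N4435 F21807) (tt N7465 D16573))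
theorem Q4437 : ∀ i, i < 4437 → P i := stepQ 4436 Q4436 (allL N4436 (tt N4438 (iv F21812)) (tt N7466 D16574) (tt N7459 (iv F28759)) (tt N2650 F21808) (tt N7462 (iv F28767)) (tt N4419 F21809) (tt N2647 (iv D12364)))
theorem Q4438 : ∀ i, i < 4438 → P i := stepQ 4437 Q4437 (allL N4437 (tt N4437 F29288) (tt N2648 (iv D12365)) (tt N4437 F29714) (tt N2651 F21810) (tt N7463 (iv F28769)) (tt N7467 D16577) (tt N4437 F21811))
theorem Q4439 : ∀ i, i < 4439 → P i := stepQ 4438 Q4438 (allL N4438 (tt N4436 F21812) (tt N7468 D16578) (tt N7460 (iv F28762)) (tt N2652 F21813) (tt N7464 (iv F28772)) (tt N2648 (iv D12366)) (tt N4418 F21814))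
theorem Q4440 : ∀ i, i < 4440 → P i := stepQ 4439 Q4439 (allL N4439 (tt N4439 F21828) (tt N2654 F21816) (tt N2649 (iv D12368)) (tt N7469 D16579) (tt N6903 (iv F27565)) (tt N4439 F21817) (tt N7470 D16580))
theorem Q4441 : ∀ i, i < 4441 → P i := stepQ 4440 Q4440 (allL N4440 (tt N4440 F21832) (tt N7471 D16581) (tt N7470 (iv F29263)) (tt N7465 (iv F28777)) (tt N6904 (iv F27568)) (tt N4440 F21833) (tt N2649 (iv D12369)))
theorem Q4442 : ∀ i, i < 4442 → P i := stepQ 4441 Q4441 (allL N4441 (tt N7472 D16582) (tt N2650 (iv D12370)) (tt N7473 D16583) (tt N7466 (iv F28779)) (tt N6905 (iv F27570)) (tt N7443 F28724) (tt N7471 (iv F29265)))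
theorem Q4443 : ∀ i, i < 4443 → P i := stepQ 4442 Q4442 (allL N4442 (tt N4442 F29287) (tt N2658 F21819) (tt N2651 (iv D12372)) (tt N7474 D16587) (tt N6906 (iv F27574)) (tt N7475 D16588) (tt N4442 F21820))
theorem Q4444 : ∀ i, i < 4444 → P i := stepQ 4443 Q4443 (allL N4443 (tt N4443 F29290) (tt N7476 D16589) (tt N7475 (iv F29284)) (tt N7467 (iv F28783)) (tt N6907 (iv F27576)) (tt N2651 (iv D12373)) (tt N4443 F29291))
theorem Q4445 : ∀ i, i < 4445 → P i := stepQ 4444 Q4444 (allL N4444 (tt N7477 D16590) (tt N2652 (iv D12374)) (tt N7478 D16591) (tt N7468 (iv F28784)) (tt N6908 (iv F27577)) (tt N7476 (iv F29285)) (tt N7445 F28725))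
theorem Q4446 : ∀ i, i < 4446 → P i := stepQ 4445 Q4445 (allL N4445 (tt N3795 (iv F21822)) (tt N2653 (iv D12375)) (tt N7479 D16592) (tt N3523 F21821) (tt N6917 (iv F27590)) (tt N3793 (iv F21823)) (tt N6411 (iv F26458)))
theorem Q4447 : ∀ i, i < 4447 → P i := stepQ 4446 Q4446 (allL N4446 (tt N2654 F21825) (tt N2818 F21827) (tt N2653 (iv D12376)) (tt N7480 D16593) (tt N6918 (iv F27593)) (tt N2662 F21826) (tt N4472 (iv F21860)))
theorem Q4448 : ∀ i, i < 4448 → P i := stepQ 4447 Q4447 (allL N4447 (tt N7480 (iv F29312)) (tt N7469 (iv F28786)) (tt N2664 F21835) (tt N2654 (iv D12377)) (tt N7481 D16594) (tt N2664 F21834) (tt N7482 D16595))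
theorem Q4449 : ∀ i, i < 4449 → P i := stepQ 4448 Q4448 (allL N4448 (tt N4472 (iv F21858)) (tt N4577 (iv F29358)) (tt N2655 F21836) (tt N7482 (iv F29319)) (tt N6920 (iv F27598)) (tt N4467 (iv F21854)) (tt N2654 (iv D12378)))
theorem Q4450 : ∀ i, i < 4450 → P i := stepQ 4449 Q4449 (allL N4449 (tt N6455 (iv F26515)) (tt N2655 (iv D12379)) (tt N7483 D16597) (tt N6399 (iv F26420)) (tt N6921 (iv F27599)) (tt N4737 (iv F22274)) (tt N2656 F21837))
theorem Q4451 : ∀ i, i < 4451 → P i := stepQ 4450 Q4450 (allL N4450 (tt N2656 (iv D12380)) (tt N4723 F22252) (tt N7484 D16598) (tt N4613 (iv F22253)) (tt N6922 (iv F27601)) (tt N2807 (iv F22254)) (tt N6455 (iv F26517)))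
theorem Q4452 : ∀ i, i < 4452 → P i := stepQ 4451 Q4451 (allL N4451 (tt N7484 (iv F29321)) (tt N7473 (iv F29277)) (tt N2656 (iv D12381)) (tt N7485 D16599) (tt N6923 (iv F27603)) (tt N7486 D16600) (tt N7483 (iv F29320)))
theorem Q4453 : ∀ i, i < 4453 → P i := stepQ 4452 Q4452 (allL N4452 (tt N2807 F22255) (tt N4427 F21838) (tt N7486 (iv F29324)) (tt N4611 (iv F22256)) (tt N6924 (iv F27606)) (tt N2656 (iv D12382)) (tt N7487 D16601))
theorem Q4454 : ∀ i, i < 4454 → P i := stepQ 4453 Q4453 (allL N4453 (tt N3815 (iv F22076)) (tt N2657 (iv D12383)) (tt N7488 D16602) (tt N3526 F34730) (tt N6925 (iv F27608)) (tt N6441 (iv F26497)) (tt N3812 F22075))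
theorem Q4455 : ∀ i, i < 4455 → P i := stepQ 4454 Q4454 (allL N4454 (tt N2658 F21839) (tt N2838 (iv F34850)) (tt N2657 (iv D12384)) (tt N7489 D16604) (tt N6926 (iv F27611)) (tt N4484 (iv F21871)) (tt N2668 F21840))
theorem Q4456 : ∀ i, i < 4456 → P i := stepQ 4455 Q4455 (allL N4455 (tt N7489 (iv F29330)) (tt N7474 (iv F29282)) (tt N2670 (iv F34791)) (tt N2658 (iv D12385)) (tt N7490 D16606) (tt N7491 D16607) (tt N2670 F21841))
theorem Q4457 : ∀ i, i < 4457 → P i := stepQ 4456 Q4456 (allL N4456 (tt N4484 (iv F21869)) (tt N4677 (iv F35221)) (tt N2659 F21842) (tt N7491 (iv F29334)) (tt N6928 (iv F27615)) (tt N2658 (iv D12386)) (tt N4479 (iv F21865)))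
theorem Q4458 : ∀ i, i < 4458 → P i := stepQ 4457 Q4457 (allL N4457 (tt N6424 (iv F26475)) (tt N2659 (iv D12387)) (tt N7492 D16609) (tt N6401 (iv F26428)) (tt N6929 (iv F27616)) (tt N2660 F21843) (tt N4636 F22095))
theorem Q4459 : ∀ i, i < 4459 → P i := stepQ 4458 Q4458 (allL N4458 (tt N2660 (iv D12388)) (tt N4623 F22098) (tt N7493 D16610) (tt N4714 (iv F22231)) (tt N6930 (iv F27618)) (tt N6424 (iv F26477)) (tt N2756 (iv F22097)))
theorem Q4460 : ∀ i, i < 4460 → P i := stepQ 4459 Q4459 (allL N4459 (tt N7493 (iv F29336)) (tt N7478 (iv F29307)) (tt N2660 (iv D12389)) (tt N7494 D16611) (tt N6931 (iv F27620)) (tt N7492 (iv F29335)) (tt N7495 D16612))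
theorem Q4461 : ∀ i, i < 4461 → P i := stepQ 4460 Q4460 (allL N4460 (tt N2756 F22096) (tt N4424 F21844) (tt N7495 (iv F29339)) (tt N4711 (iv F22226)) (tt N6932 (iv F27623)) (tt N7496 D16613) (tt N2660 (iv D12390)))
theorem Q4462 : ∀ i, i < 4462 → P i := stepQ 4461 Q4461 (allL N4461 (tt N2661 (iv D12391)) (tt N2673 F21845) (tt N5772 (iv F25082)) (tt N4463 (iv F21849)) (tt N5775 (iv F25095)) (tt N3787 F21846) (tt N6502 (iv F26598)))
theorem Q4463 : ∀ i, i < 4463 → P i := stepQ 4462 Q4462 (allL N4462 (tt N5772 F25086) (tt N7497 D16614) (tt N2661 (iv D12392)) (tt N5822 (iv F25180)) (tt N5774 (iv F25091)) (tt N6393 (iv F26417)) (tt N7498 D16615))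
theorem Q4464 : ∀ i, i < 4464 → P i := stepQ 4463 Q4463 (allL N4463 (tt N3787 F21847) (tt N3793 F21848) (tt N6393 (iv F26416)) (tt N4461 F21849) (tt N6963 (iv F27668)) (tt N2661 (iv D12393)) (tt N4657 (iv F22144)))
theorem Q4465 : ∀ i, i < 4465 → P i := stepQ 4464 Q4464 (allL N4464 (tt N6502 F26599) (tt N4730 F22263) (tt N7498 (iv F29346)) (tt N6403 (iv F26434)) (tt N6964 (iv F27669)) (tt N6403 (iv F26435)) (tt N2661 (iv D12394)))
theorem Q4466 : ∀ i, i < 4466 → P i := stepQ 4465 Q4465 (allL N4465 (tt N7499 D16616) (tt N2662 (iv D12395)) (tt N7497 (iv F29343)) (tt N7500 D16617) (tt N6965 (iv F27670)) (tt N2816 F21850) (tt N7501 D16618))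
theorem Q4467 : ∀ i, i < 4467 → P i := stepQ 4466 Q4466 (allL N4466 (tt N2664 F21851) (tt N7500 (iv F29350)) (tt N7480 (iv F29314)) (tt N2662 (iv D12396)) (tt N7502 D16619) (tt N7480 (iv F29315)) (tt N7503 D16620))
theorem Q4468 : ∀ i, i < 4468 → P i := stepQ 4467 Q4467 (allL N4467 (tt N2665 F21852) (tt N7504 D16621) (tt N2663 F21853) (tt N7503 (iv F29355)) (tt N6967 (iv F27675)) (tt N4448 F21854) (tt N2662 (iv D12397)))
theorem Q4469 : ∀ i, i < 4469 → P i := stepQ 4468 Q4468 (allL N4468 (tt N4736 (iv F22269)) (tt N2663 (iv D12398)) (tt N7505 D16622) (tt N4637 F22105) (tt N6968 (iv F27677)) (tt N2803 (iv F22106)) (tt N4730 (iv F22262)))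
theorem Q4470 : ∀ i, i < 4470 → P i := stepQ 4469 Q4469 (allL N4469 (tt N7502 (iv F29353)) (tt N4469 F21855) (tt N7481 (iv F29316)) (tt N6970 (iv F27680)) (tt N2664 (iv D12399)) (tt N7481 (iv F29317)) (tt N7506 D16623))
theorem Q4471 : ∀ i, i < 4471 → P i := stepQ 4470 Q4470 (allL N4470 (tt N7503 (iv F29354)) (tt N7507 D16624) (tt N7482 (iv F29318)) (tt N2665 F21856) (tt N7506 (iv F29362)) (tt N7508 D16625) (tt N2664 (iv D12400)))
theorem Q4472 : ∀ i, i < 4472 → P i := stepQ 4471 Q4471 (allL N4471 (tt N2682 F29371) (tt N2665 (iv D12401)) (tt N4552 (iv F21965)) (tt N7507 (iv F29363)) (tt N6972 (iv F27682)) (tt N7509 D16627) (tt N4471 F21857))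
theorem Q4473 : ∀ i, i < 4473 → P i := stepQ 4472 Q4472 (allL N4472 (tt N4448 F21858) (tt N7510 D16628) (tt N2666 F21859) (tt N7508 (iv F29367)) (tt N6973 (iv F27686)) (tt N2665 (iv D12402)) (tt N4446 F21860))
theorem Q4474 : ∀ i, i < 4474 → P i := stepQ 4473 Q4473 (allL N4473 (tt N2667 (iv D12404)) (tt N2692 F21861) (tt N5773 (iv F34780)) (tt N4476 (iv F22079)) (tt N5778 (iv F34706)) (tt N6467 (iv F26532)) (tt N3790 (iv F22070)))
theorem Q4475 : ∀ i, i < 4475 → P i := stepQ 4474 Q4474 (allL N4474 (tt N5773 (iv F34779)) (tt N7511 D16630) (tt N2667 (iv D12405)) (tt N5825 (iv F35090)) (tt N5777 (iv F35092)) (tt N7512 D16632) (tt N6396 (iv F34778)))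
theorem Q4476 : ∀ i, i < 4476 → P i := stepQ 4475 Q4475 (allL N4475 (tt N6467 F26534) (tt N4631 (iv F22101)) (tt N7512 (iv F29381)) (tt N6404 (iv F26438)) (tt N6974 (iv F27692)) (tt N2667 (iv D12406)) (tt N6404 (iv F26439)))
theorem Q4477 : ∀ i, i < 4477 → P i := stepQ 4476 Q4476 (allL N4476 (tt N3790 F22078) (tt N3812 (iv F22077)) (tt N6396 (iv F34776)) (tt N4473 F22079) (tt N6975 (iv F27695)) (tt N4556 F22080) (tt N2667 (iv D12407)))
theorem Q4478 : ∀ i, i < 4478 → P i := stepQ 4477 Q4477 (allL N4477 (tt N7513 D16634) (tt N2668 (iv D12408)) (tt N7511 (iv F29380)) (tt N7514 D16635) (tt N6976 (iv F27696)) (tt N7515 D16636) (tt N2836 (iv F34849)))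
theorem Q4479 : ∀ i, i < 4479 → P i := stepQ 4478 Q4478 (allL N4478 (tt N2670 F21862) (tt N7514 (iv F29384)) (tt N7489 (iv F34764)) (tt N2668 (iv D12409)) (tt N7516 D16639) (tt N7517 D16640) (tt N7489 (iv F29331)))
theorem Q4480 : ∀ i, i < 4480 → P i := stepQ 4479 Q4479 (allL N4479 (tt N2671 F21863) (tt N7518 D16641) (tt N2669 F21864) (tt N7517 (iv F29389)) (tt N6978 (iv F27700)) (tt N2668 (iv D12410)) (tt N4456 F21865))
theorem Q4481 : ∀ i, i < 4481 → P i := stepQ 4480 Q4480 (allL N4480 (tt N4637 (iv F22102)) (tt N2669 (iv D12411)) (tt N7519 D16642) (tt N4736 (iv F22270)) (tt N6979 (iv F27702)) (tt N4631 F22100) (tt N2751 (iv F22099)))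
theorem Q4482 : ∀ i, i < 4482 → P i := stepQ 4481 Q4481 (allL N4481 (tt N7516 (iv F29387)) (tt N4481 F21866) (tt N7490 (iv F34792)) (tt N6981 (iv F27705)) (tt N2670 (iv D12413)) (tt N7520 D16647) (tt N7490 (iv F29333)))
theorem Q4483 : ∀ i, i < 4483 → P i := stepQ 4482 Q4482 (allL N4482 (tt N7517 (iv F29388)) (tt N7521 D16648) (tt N7491 (iv F34793)) (tt N2671 F21867) (tt N7520 (iv F29397)) (tt N2670 (iv D12414)) (tt N7522 D16649))
theorem Q4484 : ∀ i, i < 4484 → P i := stepQ 4483 Q4483 (allL N4483 (tt N2701 (iv F34856)) (tt N2671 (iv D12415)) (tt N4517 (iv F21915)) (tt N7521 (iv F29398)) (tt N6983 (iv F27707)) (tt N4483 F21868) (tt N7523 D16651))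
theorem Q4485 : ∀ i, i < 4485 → P i := stepQ 4484 Q4484 (allL N4484 (tt N4456 F21869) (tt N7524 D16652) (tt N2672 F21870) (tt N7522 (iv F29401)) (tt N6984 (iv F27711)) (tt N4454 F21871) (tt N2671 (iv D12416)))
theorem Q4486 : ∀ i, i < 4486 → P i := stepQ 4485 Q4485 (allL N4485 (tt N2676 F21872) (tt N3861 (iv F21873)) (tt N5868 (iv F25265)) (tt N4668 (iv F22165)) (tt N5875 (iv F25290)) (tt N4488 (iv F21877)) (tt N2673 (iv D12418)))
theorem Q4487 : ∀ i, i < 4487 → P i := stepQ 4486 Q4486 (allL N4486 (tt N7525 D16653) (tt N2674 (iv D12419)) (tt N2677 F21874) (tt N3315 F28979) (tt N5872 (iv F25281)) (tt N3313 F28980) (tt N7526 D16654))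
theorem Q4488 : ∀ i, i < 4488 → P i := stepQ 4487 Q4487 (allL N4487 (tt N5868 (iv F25264)) (tt N7527 D16655) (tt N2676 F21875) (tt N5998 (iv F25582)) (tt N5873 (iv F25285)) (tt N3524 F21876) (tt N2674 (iv D12420)))
theorem Q4489 : ∀ i, i < 4489 → P i := stepQ 4488 Q4488 (allL N4488 (tt N4489 (iv F21878)) (tt N6442 (iv F26500)) (tt N5950 (iv F25465)) (tt N6410 (iv F26454)) (tt N7031 (iv F27799)) (tt N4485 F21877) (tt N2675 (iv D12421)))
theorem Q4490 : ∀ i, i < 4490 → P i := stepQ 4489 Q4489 (allL N4489 (tt N4488 F21878) (tt N4721 F22239) (tt N3524 F21879) (tt N6411 (iv F26457)) (tt N7032 (iv F27803)) (tt N2676 (iv D12422)) (tt N3523 F21880))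
theorem Q4491 : ∀ i, i < 4491 → P i := stepQ 4490 Q4490 (allL N4490 (tt N2677 (iv D12423)) (tt N7528 D16656) (tt N7525 (iv F29405)) (tt N7529 D16657) (tt N7033 (iv F27805)) (tt N7530 D16658) (tt N7531 D16659))
theorem Q4492 : ∀ i, i < 4492 → P i := stepQ 4491 Q4491 (allL N4491 (tt N7529 (iv F29414)) (tt N2678 F21881) (tt N7532 D16660) (tt N2677 (iv D12424)) (tt N7533 D16661) (tt N7534 D16662) (tt N7535 D16663))
theorem Q4493 : ∀ i, i < 4493 → P i := stepQ 4492 Q4492 (allL N4492 (tt N7530 (iv F29419)) (tt N2722 F21882) (tt N3313 F29003) (tt N7534 (iv F29434)) (tt N7035 (iv F27808)) (tt N2677 (iv D12425)) (tt N7536 D16664))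
theorem Q4494 : ∀ i, i < 4494 → P i := stepQ 4493 Q4493 (allL N4493 (tt N7531 (iv F29423)) (tt N4610 (iv F22052)) (tt N7526 (iv F29408)) (tt N7535 (iv F29435)) (tt N7036 (iv F27809)) (tt N7537 D16665) (tt N2677 (iv D12426)))
theorem Q4495 : ∀ i, i < 4495 → P i := stepQ 4494 Q4494 (allL N4494 (tt N2679 F21883) (tt N4932 F29023) (tt N2678 (iv D12427)) (tt N3799 F21885) (tt N7538 D16666) (tt N2724 F21884) (tt N4596 (iv F22034)))
theorem Q4496 : ∀ i, i < 4496 → P i := stepQ 4495 Q4495 (allL N4495 (tt N2680 F21886) (tt N7533 (iv F29429)) (tt N7538 (iv F29442)) (tt N7038 (iv F27814)) (tt N2678 (iv D12428)) (tt N2725 F21887) (tt N4598 (iv F22039)))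
theorem Q4497 : ∀ i, i < 4497 → P i := stepQ 4496 Q4496 (allL N4496 (tt N4496 F29024) (tt N2679 (iv D12429)) (tt N4496 F21888) (tt N7539 D16667) (tt N7465 (iv F29275)) (tt N4496 F21889) (tt N7461 F29274))
theorem Q4498 : ∀ i, i < 4498 → P i := stepQ 4497 Q4497 (allL N4497 (tt N3799 F21890) (tt N7539 (iv F29446)) (tt N3798 F21891) (tt N2679 (iv D12430)) (tt N7540 D16668) (tt N2731 F21892) (tt N6488 (iv F26577)))
theorem Q4499 : ∀ i, i < 4499 → P i := stepQ 4498 Q4498 (allL N4498 (tt N7538 (iv F29440)) (tt N7465 (iv F29269)) (tt N2680 F21893) (tt N7471 F29268) (tt N2679 (iv D12431)) (tt N2732 F21894) (tt N7466 (iv F29270)))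
theorem Q4500 : ∀ i, i < 4500 → P i := stepQ 4499 Q4499 (allL N4499 (tt N4596 (iv F22032)) (tt N7462 (iv F29273)) (tt N2681 F21895) (tt N6488 (iv F26576)) (tt N7466 F29272) (tt N4580 (iv F22010)) (tt N2679 (iv D12432)))
theorem Q4501 : ∀ i, i < 4501 → P i := stepQ 4500 Q4500 (allL N4500 (tt N4598 (iv F22037)) (tt N7541 D16669) (tt N7466 F29271) (tt N7041 (iv F27839)) (tt N2681 F21896) (tt N4581 (iv F22013)) (tt N2680 (iv D12433)))
theorem Q4502 : ∀ i, i < 4502 → P i := stepQ 4501 Q4501 (allL N4501 (tt N7507 F29376) (tt N2681 (iv D12434)) (tt N7542 D16670) (tt N2682 F21897) (tt N7541 (iv F29451)) (tt N7543 D16671) (tt N4501 F21898))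
theorem Q4503 : ∀ i, i < 4503 → P i := stepQ 4502 Q4502 (allL N4502 (tt N4552 (iv F29375)) (tt N2684 F21900) (tt N2682 (iv D12436)) (tt N7544 D16672) (tt N7043 (iv F27846)) (tt N7545 D16673) (tt N4502 F21901))
theorem Q4504 : ∀ i, i < 4504 → P i := stepQ 4503 Q4503 (allL N4503 (tt N7509 (iv F29373)) (tt N4585 (iv F22016)) (tt N7545 (iv F29457)) (tt N7543 (iv F29454)) (tt N7044 (iv F27848)) (tt N2682 (iv D12437)) (tt N7509 F29370))
theorem Q4505 : ∀ i, i < 4505 → P i := stepQ 4504 Q4504 (allL N4504 (tt N6401 (iv F26427)) (tt N2683 (iv D12438)) (tt N7546 D16674) (tt N6424 (iv F26476)) (tt N7045 (iv F27849)) (tt N4714 F22294) (tt N7547 D16675))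
theorem Q4506 : ∀ i, i < 4506 → P i := stepQ 4505 Q4505 (allL N4505 (tt N2684 F21902) (tt N7548 D16676) (tt N2683 (iv D12439)) (tt N7549 D16677) (tt N7046 (iv F27851)) (tt N4518 (iv F21919)) (tt N2687 F21903))
theorem Q4507 : ∀ i, i < 4507 → P i := stepQ 4506 Q4506 (allL N4506 (tt N7549 (iv F29462)) (tt N7544 (iv F29455)) (tt N7550 D16678) (tt N2684 (iv D12440)) (tt N7551 D16679) (tt N7552 D16680) (tt N2689 F21904))
theorem Q4508 : ∀ i, i < 4508 → P i := stepQ 4507 Q4507 (allL N4507 (tt N4518 (iv F21917)) (tt N7553 D16681) (tt N2685 F21905) (tt N7552 (iv F29466)) (tt N7048 (iv F27855)) (tt N2684 (iv D12441)) (tt N4513 (iv F21912)))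
theorem Q4509 : ∀ i, i < 4509 → P i := stepQ 4508 Q4508 (allL N4508 (tt N2686 (iv D12442)) (tt N4543 (iv F21955)) (tt N5871 (iv F35295)) (tt N4667 (iv F22162)) (tt N5888 (iv F35305)) (tt N6469 (iv F26538)) (tt N3859 (iv F21906)))
theorem Q4510 : ∀ i, i < 4510 → P i := stepQ 4509 Q4509 (allL N4509 (tt N5871 (iv F35294)) (tt N7554 D16683) (tt N2686 (iv D12443)) (tt N6007 (iv F35325)) (tt N5887 (iv F35324)) (tt N6515 (iv F26640)) (tt N6074 (iv F25706)))
theorem Q4511 : ∀ i, i < 4511 → P i := stepQ 4510 Q4510 (allL N4510 (tt N3859 F21907) (tt N7547 (iv F29459)) (tt N6074 F25705) (tt N4665 (iv F22156)) (tt N7049 (iv F27860)) (tt N3868 (iv F21908)) (tt N2686 (iv D12444)))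
theorem Q4512 : ∀ i, i < 4512 → P i := stepQ 4511 Q4511 (allL N4511 (tt N7555 D16685) (tt N2687 (iv D12445)) (tt N7554 (iv F29469)) (tt N7556 D16686) (tt N7050 (iv F27862)) (tt N7557 D16687) (tt N7558 D16688))
theorem Q4513 : ∀ i, i < 4513 → P i := stepQ 4512 Q4512 (allL N4512 (tt N2689 F21909) (tt N7556 (iv F29471)) (tt N7559 D16689) (tt N2687 (iv D12446)) (tt N7560 D16690) (tt N7561 D16691) (tt N7549 (iv F29463)))
theorem Q4514 : ∀ i, i < 4514 → P i := stepQ 4513 Q4513 (allL N4513 (tt N2690 F21910) (tt N7562 D16692) (tt N2688 F21911) (tt N7561 (iv F29478)) (tt N7052 (iv F27866)) (tt N2687 (iv D12447)) (tt N4507 F21912))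
theorem Q4515 : ∀ i, i < 4515 → P i := stepQ 4514 Q4514 (allL N4514 (tt N7559 (iv F29474)) (tt N2974 (iv F39530)) (tt N2689 (iv D12448)) (tt N5123 (iv F39532)) (tt N5050 (iv F39533)) (tt N7563 D16696) (tt N7550 (iv F29464)))
theorem Q4516 : ∀ i, i < 4516 → P i := stepQ 4515 Q4515 (allL N4515 (tt N7560 (iv F29476)) (tt N4515 F21913) (tt N5050 F39544) (tt N7054 (iv F27869)) (tt N2689 (iv D12449)) (tt N7564 D16697) (tt N7551 (iv F29465)))
theorem Q4517 : ∀ i, i < 4517 → P i := stepQ 4516 Q4516 (allL N4516 (tt N7561 (iv F29477)) (tt N7565 D16698) (tt N7563 (iv F29484)) (tt N2690 F21914) (tt N7564 (iv F29485)) (tt N2689 (iv D12450)) (tt N7566 D16699))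
theorem Q4518 : ∀ i, i < 4518 → P i := stepQ 4517 Q4517 (allL N4517 (tt N4537 (iv F34862)) (tt N2690 (iv D12451)) (tt N4483 F21915) (tt N7565 (iv F29486)) (tt N7056 (iv F27872)) (tt N4517 F21916) (tt N7567 D16701))
theorem Q4519 : ∀ i, i < 4519 → P i := stepQ 4518 Q4518 (allL N4518 (tt N4507 F21917) (tt N7568 D16702) (tt N2691 F21918) (tt N7566 (iv F29489)) (tt N7057 (iv F27876)) (tt N4505 F21919) (tt N2690 (iv D12452)))
theorem Q4520 : ∀ i, i < 4520 → P i := stepQ 4519 Q4519 (allL N4519 (tt N3856 F22084) (tt N2691 (iv D12453)) (tt N7569 D16703) (tt N4625 F22065) (tt N7058 (iv F27878)) (tt N4754 (iv F22293)) (tt N3854 (iv F22083)))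
theorem Q4521 : ∀ i, i < 4521 → P i := stepQ 4520 Q4520 (allL N4520 (tt N2694 F21922) (tt N3833 F22071) (tt N5870 (iv F34718)) (tt N4563 (iv F22072)) (tt N5884 (iv F34713)) (tt N2692 (iv D12455)) (tt N4524 (iv F21929)))
theorem Q4522 : ∀ i, i < 4522 → P i := stepQ 4521 Q4521 (allL N4521 (tt N7570 D16708) (tt N2693 (iv D12457)) (tt N2696 F21924) (tt N3338 (iv F34719)) (tt N5881 (iv F34695)) (tt N7571 D16710) (tt N3335 (iv F34720)))
theorem Q4523 : ∀ i, i < 4523 → P i := stepQ 4522 Q4522 (allL N4522 (tt N5870 (iv F34717)) (tt N7572 D16716) (tt N2694 F21925) (tt N6004 (iv F34721)) (tt N5882 F34703) (tt N2693 (iv D12459)) (tt N3527 (iv F34722)))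
theorem Q4524 : ∀ i, i < 4524 → P i := stepQ 4523 Q4523 (allL N4523 (tt N4524 (iv F21928)) (tt N4621 (iv F22067)) (tt N3527 F34728) (tt N6441 (iv F26496)) (tt N7059 (iv F27895)) (tt N3526 F34729) (tt N2694 (iv D12461)))
theorem Q4525 : ∀ i, i < 4525 → P i := stepQ 4524 Q4524 (allL N4524 (tt N4523 F21928) (tt N6410 (iv F26453)) (tt N5951 (iv F34724)) (tt N6442 (iv F26501)) (tt N7060 (iv F27898)) (tt N2695 (iv D12462)) (tt N4520 F21929))
theorem Q4526 : ∀ i, i < 4526 → P i := stepQ 4525 Q4525 (allL N4525 (tt N2696 (iv D12463)) (tt N7573 D16720) (tt N7570 (iv F29501)) (tt N7574 D16721) (tt N7061 (iv F27900)) (tt N7575 D16722) (tt N7576 D16723))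
theorem Q4527 : ∀ i, i < 4527 → P i := stepQ 4526 Q4526 (allL N4526 (tt N7574 (iv F29514)) (tt N2697 F21930) (tt N7577 D16724) (tt N2696 (iv D12464)) (tt N7578 D16725) (tt N7579 D16726) (tt N7580 D16727))
theorem Q4528 : ∀ i, i < 4528 → P i := stepQ 4527 Q4527 (allL N4527 (tt N7575 (iv F29515)) (tt N4710 (iv F22225)) (tt N7571 (iv F29503)) (tt N7579 (iv F29518)) (tt N7063 (iv F27902)) (tt N2696 (iv D12465)) (tt N7581 D16728))
theorem Q4529 : ∀ i, i < 4529 → P i := stepQ 4528 Q4528 (allL N4528 (tt N7576 (iv F29516)) (tt N2774 F21931) (tt N3335 F34727) (tt N7580 (iv F29520)) (tt N7064 (iv F27904)) (tt N7582 D16729) (tt N2696 (iv D12466)))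
theorem Q4530 : ∀ i, i < 4530 → P i := stepQ 4529 Q4529 (allL N4529 (tt N2698 F21932) (tt N4933 (iv F34450)) (tt N2697 (iv D12467)) (tt N3818 F21934) (tt N7583 D16731) (tt N4696 (iv F22207)) (tt N2775 F21933))
theorem Q4531 : ∀ i, i < 4531 → P i := stepQ 4530 Q4530 (allL N4530 (tt N2699 F21935) (tt N7578 (iv F29517)) (tt N7583 (iv F29526)) (tt N7066 (iv F27909)) (tt N2697 (iv D12468)) (tt N4698 (iv F22212)) (tt N2776 F21936))
theorem Q4532 : ∀ i, i < 4532 → P i := stepQ 4531 Q4531 (allL N4531 (tt N4531 F35120) (tt N2698 (iv D12469)) (tt N4531 F21937) (tt N7584 D16733) (tt N7467 (iv F35119)) (tt N7463 (iv F35121)) (tt N4531 F21938))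
theorem Q4533 : ∀ i, i < 4533 → P i := stepQ 4532 Q4532 (allL N4532 (tt N3818 F21939) (tt N7584 (iv F29530)) (tt N3817 F21940) (tt N2698 (iv D12470)) (tt N7585 D16736) (tt N6521 (iv F26651)) (tt N2782 F21941))
theorem Q4534 : ∀ i, i < 4534 → P i := stepQ 4533 Q4533 (allL N4533 (tt N7583 (iv F29525)) (tt N7467 (iv F35118)) (tt N2699 F21942) (tt N7476 (iv F34472)) (tt N2698 (iv D12471)) (tt N7468 (iv F35111)) (tt N2783 F21943))
theorem Q4535 : ∀ i, i < 4535 → P i := stepQ 4534 Q4534 (allL N4534 (tt N4696 (iv F22205)) (tt N7464 (iv F35122)) (tt N2700 F21944) (tt N6521 (iv F26650)) (tt N7468 (iv F35110)) (tt N2698 (iv D12472)) (tt N4681 (iv F22184)))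
theorem Q4536 : ∀ i, i < 4536 → P i := stepQ 4535 Q4535 (allL N4535 (tt N4698 (iv F22210)) (tt N7586 D16740) (tt N7468 (iv F35109)) (tt N7069 (iv F27918)) (tt N2700 F21945) (tt N2699 (iv D12473)) (tt N4682 (iv F22187)))
theorem Q4537 : ∀ i, i < 4537 → P i := stepQ 4536 Q4536 (allL N4536 (tt N7521 (iv F34857)) (tt N2700 (iv D12474)) (tt N7587 D16742) (tt N2701 F21946) (tt N7586 (iv F29542)) (tt N4536 F21947) (tt N7588 D16743))
theorem Q4538 : ∀ i, i < 4538 → P i := stepQ 4537 Q4537 (allL N4537 (tt N4517 F34862) (tt N2703 F21949) (tt N2701 (iv D12476)) (tt N7589 D16747) (tt N7071 (iv F27925)) (tt N4537 F21950) (tt N7590 D16748))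
theorem Q4539 : ∀ i, i < 4539 → P i := stepQ 4538 Q4538 (allL N4538 (tt N7523 (iv F34859)) (tt N4686 (iv F22190)) (tt N7590 (iv F29554)) (tt N7588 (iv F29547)) (tt N7072 (iv F27927)) (tt N7523 (iv F34861)) (tt N2701 (iv D12477)))
theorem Q4540 : ∀ i, i < 4540 → P i := stepQ 4539 Q4539 (allL N4539 (tt N6399 (iv F26419)) (tt N2702 (iv D12478)) (tt N7591 D16749) (tt N6455 (iv F26516)) (tt N7073 (iv F27928)) (tt N7592 D16750) (tt N4613 (iv F22127)))
theorem Q4541 : ∀ i, i < 4541 → P i := stepQ 4540 Q4540 (allL N4540 (tt N2703 F21951) (tt N7593 D16751) (tt N2702 (iv D12479)) (tt N7594 D16752) (tt N7074 (iv F27930)) (tt N2706 F21952) (tt N4553 (iv F21969)))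
theorem Q4542 : ∀ i, i < 4542 → P i := stepQ 4541 Q4541 (allL N4541 (tt N7594 (iv F29559)) (tt N7589 (iv F29552)) (tt N7595 D16753) (tt N2703 (iv D12480)) (tt N7596 D16754) (tt N2708 F21953) (tt N7597 D16755))
theorem Q4543 : ∀ i, i < 4543 → P i := stepQ 4542 Q4542 (allL N4542 (tt N4553 (iv F21967)) (tt N7598 D16756) (tt N2704 F21954) (tt N7597 (iv F29563)) (tt N7076 (iv F27934)) (tt N4548 (iv F21962)) (tt N2703 (iv D12481)))
theorem Q4544 : ∀ i, i < 4544 → P i := stepQ 4543 Q4543 (allL N4543 (tt N2705 (iv D12482)) (tt N4508 F21955) (tt N5869 (iv F35318)) (tt N4566 (iv F21992)) (tt N5879 (iv F35308)) (tt N3834 F21956) (tt N6480 (iv F26564)))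
theorem Q4545 : ∀ i, i < 4545 → P i := stepQ 4544 Q4544 (allL N4544 (tt N5869 (iv F35317)) (tt N7599 D16758) (tt N2705 (iv D12483)) (tt N6001 (iv F35320)) (tt N5878 (iv F35322)) (tt N6112 (iv F36880)) (tt N6482 F26566))
theorem Q4546 : ∀ i, i < 4546 → P i := stepQ 4545 Q4545 (allL N4545 (tt N3834 F21957) (tt N7592 (iv F29556)) (tt N6112 (iv F36879)) (tt N4564 (iv F21987)) (tt N7077 (iv F27940)) (tt N2705 (iv D12484)) (tt N3842 F21958))
theorem Q4547 : ∀ i, i < 4547 → P i := stepQ 4546 Q4546 (allL N4546 (tt N7600 D16761) (tt N2706 (iv D12485)) (tt N7599 (iv F29566)) (tt N7601 D16762) (tt N7078 (iv F27942)) (tt N7602 D16763) (tt N7603 D16764))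
theorem Q4548 : ∀ i, i < 4548 → P i := stepQ 4547 Q4547 (allL N4547 (tt N2708 F21959) (tt N7601 (iv F29570)) (tt N7604 D16765) (tt N2706 (iv D12486)) (tt N7605 D16766) (tt N7594 (iv F29560)) (tt N7606 D16767))
theorem Q4549 : ∀ i, i < 4549 → P i := stepQ 4548 Q4548 (allL N4548 (tt N2709 F21960) (tt N7607 D16768) (tt N2707 F21961) (tt N7606 (iv F29575)) (tt N7080 (iv F27946)) (tt N4542 F21962) (tt N2706 (iv D12487)))
theorem Q4550 : ∀ i, i < 4550 → P i := stepQ 4549 Q4549 (allL N4549 (tt N7604 (iv F29571)) (tt N2976 (iv F39658)) (tt N2708 (iv D12488)) (tt N5119 F39650) (tt N5046 (iv F39659)) (tt N7595 (iv F29561)) (tt N7608 D16772))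
theorem Q4551 : ∀ i, i < 4551 → P i := stepQ 4550 Q4550 (allL N4550 (tt N7605 (iv F29573)) (tt N4550 F21963) (tt N5046 F39668) (tt N7082 (iv F27949)) (tt N2708 (iv D12489)) (tt N7596 (iv F29562)) (tt N7609 D16773))
theorem Q4552 : ∀ i, i < 4552 → P i := stepQ 4551 Q4551 (allL N4551 (tt N7606 (iv F29574)) (tt N7610 D16774) (tt N7608 (iv F29581)) (tt N2709 F21964) (tt N7609 (iv F29582)) (tt N7611 D16775) (tt N2708 (iv D12490)))
theorem Q4553 : ∀ i, i < 4553 → P i := stepQ 4552 Q4552 (allL N4552 (tt N4502 F29375) (tt N2709 (iv D12491)) (tt N4471 F21965) (tt N7610 (iv F29583)) (tt N7084 (iv F27952)) (tt N7612 D16776) (tt N4552 F21966))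
theorem Q4554 : ∀ i, i < 4554 → P i := stepQ 4553 Q4553 (allL N4553 (tt N4542 F21967) (tt N7613 D16777) (tt N2710 F21968) (tt N7611 (iv F29587)) (tt N7085 (iv F27956)) (tt N2709 (iv D12492)) (tt N4540 F21969))
theorem Q4555 : ∀ i, i < 4555 → P i := stepQ 4554 Q4554 (allL N4554 (tt N3882 F22130) (tt N2710 (iv D12493)) (tt N7614 D16778) (tt N4725 (iv F22246)) (tt N7086 (iv F27958)) (tt N3880 (iv F22129)) (tt N4656 F22126))
theorem Q4556 : ∀ i, i < 4556 → P i := stepQ 4555 Q4555 (allL N4555 (tt N3777 F21971) (tt N2711 (iv D12494)) (tt N7615 D16779) (tt N4422 F21972) (tt N7167 (iv F28094)) (tt N4422 F21973) (tt N4687 (iv F22191)))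
theorem Q4557 : ∀ i, i < 4557 → P i := stepQ 4556 Q4556 (allL N4556 (tt N6404 (iv F26436)) (tt N2712 (iv D12495)) (tt N7616 D16780) (tt N6467 (iv F26531)) (tt N7168 (iv F28096)) (tt N4476 (iv F22080)) (tt N6467 (iv F26533)))
theorem Q4558 : ∀ i, i < 4558 → P i := stepQ 4557 Q4557 (allL N4557 (tt N6535 (iv F26675)) (tt N7617 D16781) (tt N2723 F21976) (tt N5523 F29015) (tt N7170 (iv F28106)) (tt N7618 D16782) (tt N2713 (iv D12498)))
theorem Q4559 : ∀ i, i < 4559 → P i := stepQ 4558 Q4558 (allL N4558 (tt N6470 (iv F26540)) (tt N5321 F28992) (tt N4558 F21977) (tt N7171 (iv F28108)) (tt N2714 (iv D12499)) (tt N3178 F28993) (tt N7619 D16783))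
theorem Q4560 : ∀ i, i < 4560 → P i := stepQ 4559 Q4559 (allL N4559 (tt N6471 (iv F26546)) (tt N7620 D16784) (tt N4559 F21980) (tt N2716 F21981) (tt N7619 (iv F29605)) (tt N7621 D16785) (tt N2714 (iv D12501)))
theorem Q4561 : ∀ i, i < 4561 → P i := stepQ 4560 Q4560 (allL N4560 (tt N4562 (iv F21984)) (tt N7622 D16786) (tt N2717 F21982) (tt N5177 F29034) (tt N7174 (iv F28115)) (tt N3838 F21983) (tt N2715 (iv D12503)))
theorem Q4562 : ∀ i, i < 4562 → P i := stepQ 4561 Q4561 (allL N4561 (tt N7623 D16787) (tt N2716 (iv D12504)) (tt N7624 D16788) (tt N7620 (iv F29606)) (tt N7175 (iv F28117)) (tt N7625 D16789) (tt N7617 (iv F29598)))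
theorem Q4563 : ∀ i, i < 4563 → P i := stepQ 4562 Q4562 (allL N4562 (tt N4560 F21984) (tt N7626 D16790) (tt N2719 F21985) (tt N7621 (iv F29609)) (tt N7176 (iv F28120)) (tt N2716 (iv D12505)) (tt N3837 F21986))
theorem Q4564 : ∀ i, i < 4564 → P i := stepQ 4563 Q4563 (allL N4563 (tt N3814 (iv F22073)) (tt N2717 (iv D12506)) (tt N7627 D16791) (tt N4520 F22072) (tt N7177 (iv F28122)) (tt N3812 (iv F22074)) (tt N6442 (iv F26502)))
theorem Q4565 : ∀ i, i < 4565 → P i := stepQ 4564 Q4564 (allL N4564 (tt N2718 (iv D12507)) (tt N7487 (iv F29326)) (tt N7628 D16792) (tt N4545 F21987) (tt N7178 (iv F28125)) (tt N3825 F21989) (tt N2728 F21988))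
theorem Q4566 : ∀ i, i < 4566 → P i := stepQ 4565 Q4565 (allL N4565 (tt N7628 (iv F29616)) (tt N7624 (iv F29613)) (tt N2718 (iv D12508)) (tt N7629 D16793) (tt N7179 (iv F28128)) (tt N7630 D16794) (tt N2729 F21990))
theorem Q4567 : ∀ i, i < 4567 → P i := stepQ 4566 Q4566 (allL N4566 (tt N3825 F21991) (tt N4667 (iv F22161)) (tt N7630 (iv F29621)) (tt N4543 F21992) (tt N7180 (iv F28131)) (tt N2718 (iv D12509)) (tt N4588 (iv F22019)))
theorem Q4568 : ∀ i, i < 4568 → P i := stepQ 4567 Q4567 (allL N4567 (tt N2781 F22131) (tt N2719 (iv D12510)) (tt N7631 D16795) (tt N6469 (iv F26537)) (tt N7181 (iv F28133)) (tt N4667 (iv F22163)) (tt N2779 (iv F22132)))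
theorem Q4569 : ∀ i, i < 4569 → P i := stepQ 4568 Q4568 (allL N4568 (tt N2721 F21993) (tt N4568 F21994) (tt N7632 D16796) (tt N2720 (iv D12511)) (tt N7633 D16797) (tt N7634 D16798) (tt N7635 D16799))
theorem Q4570 : ∀ i, i < 4570 → P i := stepQ 4569 Q4569 (allL N4569 (tt N2722 F21995) (tt N7470 (iv F29360)) (tt N5518 (iv F28998)) (tt N7634 (iv F29632)) (tt N7182 (iv F28136)) (tt N2720 (iv D12512)) (tt N4577 (iv F22003)))
theorem Q4571 : ∀ i, i < 4571 → P i := stepQ 4570 Q4570 (allL N4570 (tt N2723 F21996) (tt N7636 D16800) (tt N6535 (iv F26676)) (tt N7635 (iv F29634)) (tt N7183 (iv F28138)) (tt N4575 (iv F22000)) (tt N2720 (iv D12513)))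
theorem Q4572 : ∀ i, i < 4572 → P i := stepQ 4571 Q4571 (allL N4571 (tt N7632 (iv F29624)) (tt N7637 D16801) (tt N2721 (iv D12514)) (tt N7638 D16802) (tt N7639 D16803) (tt N7640 D16804) (tt N7641 D16805))
theorem Q4573 : ∀ i, i < 4573 → P i := stepQ 4572 Q4572 (allL N4572 (tt N7633 (iv F29628)) (tt N2725 F21997) (tt N7639 (iv F29644)) (tt N7184 (iv F28140)) (tt N2721 (iv D12515)) (tt N7642 D16806) (tt N7643 D16807))
theorem Q4574 : ∀ i, i < 4574 → P i := stepQ 4573 Q4573 (allL N4573 (tt N7634 (iv F29631)) (tt N7534 (iv F29432)) (tt N7640 (iv F29646)) (tt N2722 F21998) (tt N7642 (iv F29648)) (tt N2721 (iv D12516)) (tt N7644 D16808))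
theorem Q4575 : ∀ i, i < 4575 → P i := stepQ 4574 Q4574 (allL N4574 (tt N7635 (iv F29633)) (tt N7645 D16809) (tt N7641 (iv F29647)) (tt N2723 F21999) (tt N7643 (iv F29649)) (tt N7646 D16810) (tt N2721 (iv D12517)))
theorem Q4576 : ∀ i, i < 4576 → P i := stepQ 4575 Q4575 (allL N4575 (tt N4577 (iv F22002)) (tt N7647 D16811) (tt N5522 (iv F29012)) (tt N7644 (iv F29650)) (tt N7187 (iv F28143)) (tt N4570 F22000) (tt N2722 (iv D12518)))
theorem Q4577 : ∀ i, i < 4577 → P i := stepQ 4576 Q4576 (allL N4576 (tt N7648 D16812) (tt N2723 (iv D12519)) (tt N7649 D16813) (tt N7645 (iv F29652)) (tt N7188 (iv F28145)) (tt N7504 F29357) (tt N2727 F22001))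
theorem Q4578 : ∀ i, i < 4578 → P i := stepQ 4577 Q4577 (allL N4577 (tt N4575 F22002) (tt N4448 F29358) (tt N7618 (iv F29600)) (tt N7646 (iv F29655)) (tt N7189 (iv F28148)) (tt N2723 (iv D12520)) (tt N4569 F22003))
theorem Q4579 : ∀ i, i < 4579 → P i := stepQ 4578 Q4578 (allL N4578 (tt N4433 F28856) (tt N2724 (iv D12521)) (tt N7637 (iv F29636)) (tt N3845 F22004) (tt N4418 F28857) (tt N4417 F28858) (tt N7464 F28859))
theorem Q4580 : ∀ i, i < 4580 → P i := stepQ 4579 Q4579 (allL N4579 (tt N2732 F22005) (tt N4418 F29153) (tt N2725 F22006) (tt N4420 F29154) (tt N2724 (iv D12522)) (tt N7538 (iv F29443)) (tt N7650 D16814))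
theorem Q4581 : ∀ i, i < 4581 → P i := stepQ 4580 Q4580 (allL N4580 (tt N2733 F22007) (tt N4681 F34449) (tt N2726 F22008) (tt N3847 F22009) (tt N7650 (iv F29663)) (tt N4499 F22010) (tt N2724 (iv D12523)))
theorem Q4582 : ∀ i, i < 4582 → P i := stepQ 4581 Q4581 (allL N4581 (tt N2734 F22011) (tt N7651 D16816) (tt N7650 (iv F29661)) (tt N7193 (iv F28160)) (tt N2726 F22012) (tt N4500 F22013) (tt N2725 (iv D12524)))
theorem Q4583 : ∀ i, i < 4583 → P i := stepQ 4582 Q4582 (allL N4582 (tt N7652 D16817) (tt N2726 (iv D12525)) (tt N4683 (iv F35169)) (tt N2727 F22014) (tt N7651 (iv F29666)) (tt N7653 D16819) (tt N7645 (iv F29653)))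
theorem Q4584 : ∀ i, i < 4584 → P i := stepQ 4583 Q4583 (allL N4583 (tt N2727 (iv D12526)) (tt N7654 D16820) (tt N7655 D16821) (tt N7652 (iv F29667)) (tt N7195 (iv F28164)) (tt N7656 D16822) (tt N7648 (iv F29658)))
theorem Q4585 : ∀ i, i < 4585 → P i := stepQ 4584 Q4584 (allL N4584 (tt N7655 (iv F29670)) (tt N2729 F22015) (tt N2727 (iv D12527)) (tt N7657 D16823) (tt N7196 (iv F28166)) (tt N7658 D16824) (tt N7649 (iv F29659)))
theorem Q4586 : ∀ i, i < 4586 → P i := stepQ 4585 Q4585 (allL N4585 (tt N7656 (iv F29671)) (tt N4503 F22016) (tt N7658 (iv F29675)) (tt N7653 (iv F29669)) (tt N7197 (iv F28168)) (tt N2727 (iv D12528)) (tt N7659 D16825))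
theorem Q4587 : ∀ i, i < 4587 → P i := stepQ 4586 Q4586 (allL N4586 (tt N6392 (iv F26413)) (tt N2728 (iv D12529)) (tt N7660 D16826) (tt N6478 (iv F26557)) (tt N7198 (iv F28169)) (tt N4658 (iv F22141)) (tt N4427 (iv F22143)))
theorem Q4588 : ∀ i, i < 4588 → P i := stepQ 4587 Q4587 (allL N4587 (tt N2729 F22017) (tt N7661 D16827) (tt N2728 (iv D12530)) (tt N7662 D16828) (tt N7199 (iv F28172)) (tt N7663 D16829) (tt N7628 (iv F29618)))
theorem Q4589 : ∀ i, i < 4589 → P i := stepQ 4588 Q4588 (allL N4588 (tt N2730 F22018) (tt N2769 (iv F22020)) (tt N7663 (iv F29682)) (tt N6480 (iv F26563)) (tt N7200 (iv F28174)) (tt N2728 (iv D12531)) (tt N4566 F22019))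
theorem Q4590 : ∀ i, i < 4590 → P i := stepQ 4589 Q4589 (allL N4589 (tt N7662 (iv F29680)) (tt N7657 (iv F29674)) (tt N7664 D16830) (tt N2729 (iv D12532)) (tt N7665 D16831) (tt N7666 D16832) (tt N7629 (iv F29619)))
theorem Q4591 : ∀ i, i < 4591 → P i := stepQ 4590 Q4590 (allL N4590 (tt N7663 (iv F29681)) (tt N7667 D16833) (tt N2730 F22021) (tt N7666 (iv F29684)) (tt N7202 (iv F28178)) (tt N2729 (iv D12533)) (tt N6459 (iv F26522)))
theorem Q4592 : ∀ i, i < 4592 → P i := stepQ 4591 Q4591 (allL N4591 (tt N3846 F22022) (tt N4591 F22023) (tt N3839 F22024) (tt N7668 D16834) (tt N2731 (iv D12534)) (tt N7540 (iv F29450)) (tt N7669 D16835))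
theorem Q4593 : ∀ i, i < 4593 → P i := stepQ 4592 Q4592 (allL N4592 (tt N3847 F22025) (tt N7670 D16836) (tt N3840 F22026) (tt N2733 F22027) (tt N7669 (iv F29691)) (tt N6418 (iv F26471)) (tt N2731 (iv D12535)))
theorem Q4594 : ∀ i, i < 4594 → P i := stepQ 4593 Q4593 (allL N4593 (tt N4420 F29151) (tt N4593 F22028) (tt N6540 F29152) (tt N2732 (iv D12536)) (tt N7668 (iv F29688)) (tt N7471 F29266) (tt N7671 D16837))
theorem Q4595 : ∀ i, i < 4595 → P i := stepQ 4594 Q4594 (allL N4594 (tt N7650 (iv F29660)) (tt N7672 D16838) (tt N2734 F22029) (tt N7671 (iv F29695)) (tt N2733 F22030) (tt N7673 D16839) (tt N2732 (iv D12537)))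
theorem Q4596 : ∀ i, i < 4596 → P i := stepQ 4595 Q4595 (allL N4595 (tt N7674 D16840) (tt N2733 (iv D12538)) (tt N7675 D16841) (tt N7670 (iv F29692)) (tt N7672 (iv F29697)) (tt N7676 D16842) (tt N4595 F22031))
theorem Q4597 : ∀ i, i < 4597 → P i := stepQ 4596 Q4596 (allL N4596 (tt N4499 F22032) (tt N7677 D16843) (tt N2736 F22033) (tt N6418 (iv F26470)) (tt N7673 (iv F29702)) (tt N2733 (iv D12539)) (tt N4494 F22034))
theorem Q4598 : ∀ i, i < 4598 → P i := stepQ 4597 Q4597 (allL N4597 (tt N7678 D16844) (tt N2734 (iv D12540)) (tt N7679 D16845) (tt N7213 (iv F28202)) (tt N2735 F22035) (tt N7680 D16846) (tt N2813 F22036))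
theorem Q4599 : ∀ i, i < 4599 → P i := stepQ 4598 Q4598 (allL N4598 (tt N4500 F22037) (tt N7681 D16847) (tt N7673 (iv F29700)) (tt N7214 (iv F28206)) (tt N2736 F22038) (tt N2734 (iv D12541)) (tt N4495 F22039))
theorem Q4600 : ∀ i, i < 4600 → P i := stepQ 4599 Q4599 (allL N4599 (tt N2735 (iv D12542)) (tt N7682 D16848) (tt N4601 F28531) (tt N2737 F22040) (tt N7678 (iv F29708)) (tt N4600 (iv F28530)) (tt N2814 F22041))
theorem Q4601 : ∀ i, i < 4601 → P i := stepQ 4600 Q4600 (allL N4600 (tt N4601 F28528) (tt N7675 (iv F29705)) (tt N2735 (iv D12543)) (tt N2821 F28529) (tt N7679 (iv F29710)) (tt N4599 F28530) (tt N2815 F22042))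
theorem Q4602 : ∀ i, i < 4602 → P i := stepQ 4601 Q4601 (allL N4601 (tt N4600 (iv F28528)) (tt N7683 D16849) (tt N4599 (iv F28531)) (tt N2739 F22043) (tt N7680 (iv F29730)) (tt N2735 (iv D12544)) (tt N4758 (iv F28525)))
theorem Q4603 : ∀ i, i < 4603 → P i := stepQ 4602 Q4602 (allL N4602 (tt N7684 D16850) (tt N2736 (iv D12545)) (tt N7685 D16851) (tt N2740 F22044) (tt N7681 (iv F29731)) (tt N7683 (iv F29734)) (tt N7686 D16852))
theorem Q4604 : ∀ i, i < 4604 → P i := stepQ 4603 Q4603 (allL N4603 (tt N7687 D16853) (tt N2737 (iv D12546)) (tt N7688 D16854) (tt N7682 (iv F29732)) (tt N7218 (iv F28213)) (tt N7689 D16855) (tt N7690 D16856))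
theorem Q4605 : ∀ i, i < 4605 → P i := stepQ 4604 Q4604 (allL N4604 (tt N2738 F22045) (tt N7691 D16857) (tt N2737 (iv D12547)) (tt N7692 D16858) (tt N6372 (iv F26371)) (tt N4768 (iv F22320)) (tt N2817 F22046))
theorem Q4606 : ∀ i, i < 4606 → P i := stepQ 4605 Q4605 (allL N4605 (tt N7692 (iv F29739)) (tt N2743 F22047) (tt N7693 D16859) (tt N2738 (iv D12548)) (tt N7694 D16860) (tt N7693 F29743) (tt N2819 F22048))
theorem Q4607 : ∀ i, i < 4607 → P i := stepQ 4606 Q4606 (allL N4606 (tt N4768 (iv F22318)) (tt N7695 D16861) (tt N2739 F22049) (tt N7693 (iv F29742)) (tt N6378 (iv F26384)) (tt N2738 (iv D12549)) (tt N4764 (iv F22314)))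
theorem Q4608 : ∀ i, i < 4608 → P i := stepQ 4607 Q4607 (allL N4607 (tt N7696 D16862) (tt N2739 (iv D12550)) (tt N7697 D16863) (tt N7683 (iv F29733)) (tt N7219 (iv F28214)) (tt N2740 F22050) (tt N7510 (iv F29377)))
theorem Q4609 : ∀ i, i < 4609 → P i := stepQ 4608 Q4608 (allL N4608 (tt N2740 (iv D12551)) (tt N7659 F29678) (tt N7698 D16864) (tt N7684 (iv F29735)) (tt N7220 (iv F28216)) (tt N7696 (iv F29747)) (tt N7699 D16865))
theorem Q4610 : ∀ i, i < 4610 → P i := stepQ 4609 Q4609 (allL N4609 (tt N7698 (iv F29749)) (tt N2747 F22051) (tt N2740 (iv D12552)) (tt N7700 D16866) (tt N7221 (iv F28218)) (tt N7697 (iv F29748)) (tt N7701 D16867))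
theorem Q4611 : ∀ i, i < 4611 → P i := stepQ 4610 Q4610 (allL N4610 (tt N7699 (iv F29750)) (tt N4493 F22052) (tt N7701 (iv F29754)) (tt N7686 (iv F29737)) (tt N7222 (iv F28220)) (tt N7702 D16868) (tt N2740 (iv D12553)))
theorem Q4612 : ∀ i, i < 4612 → P i := stepQ 4611 Q4611 (allL N4611 (tt N2741 (iv D12554)) (tt N6392 (iv F26414)) (tt N7703 D16869) (tt N4452 F22256) (tt N7223 (iv F28221)) (tt N3784 (iv F22257)) (tt N7592 (iv F29558)))
theorem Q4613 : ∀ i, i < 4613 → P i := stepQ 4612 Q4612 (allL N4612 (tt N7703 (iv F29757)) (tt N7704 D16870) (tt N2741 (iv D12555)) (tt N7705 D16871) (tt N7224 (iv F28223)) (tt N7706 D16872) (tt N7707 D16873))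
theorem Q4614 : ∀ i, i < 4614 → P i := stepQ 4613 Q4613 (allL N4613 (tt N3784 F22258) (tt N4656 (iv F22125)) (tt N7706 (iv F29761)) (tt N4450 F22253) (tt N7225 (iv F28225)) (tt N2741 (iv D12556)) (tt N4539 F22127))
theorem Q4615 : ∀ i, i < 4615 → P i := stepQ 4614 Q4614 (allL N4614 (tt N7592 (iv F29555)) (tt N2752 F22053) (tt N7707 (iv F29763)) (tt N4737 (iv F22273)) (tt N7226 (iv F28228)) (tt N6399 (iv F26421)) (tt N2741 (iv D12557)))
theorem Q4616 : ∀ i, i < 4616 → P i := stepQ 4615 Q4615 (allL N4615 (tt N7708 D16874) (tt N2742 (iv D12558)) (tt N7704 (iv F29759)) (tt N7709 D16875) (tt N7227 (iv F28229)) (tt N7710 D16876) (tt N7711 D16877))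
theorem Q4617 : ∀ i, i < 4617 → P i := stepQ 4616 Q4616 (allL N4616 (tt N2743 F22054) (tt N7709 (iv F29764)) (tt N7712 D16878) (tt N2742 (iv D12559)) (tt N7713 D16879) (tt N4652 (iv F22122)) (tt N2754 F22055))
theorem Q4618 : ∀ i, i < 4618 → P i := stepQ 4617 Q4617 (allL N4617 (tt N7712 (iv F29766)) (tt N7714 D16880) (tt N2743 (iv D12560)) (tt N7715 D16881) (tt N7716 D16882) (tt N7717 D16883) (tt N2757 F22056))
theorem Q4619 : ∀ i, i < 4619 → P i := stepQ 4618 Q4618 (allL N4618 (tt N7713 (iv F29769)) (tt N7694 (iv F29744)) (tt N7716 (iv F29774)) (tt N7230 (iv F28233)) (tt N2743 (iv D12561)) (tt N7718 D16884) (tt N2758 F22057))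
theorem Q4620 : ∀ i, i < 4620 → P i := stepQ 4619 Q4619 (allL N4619 (tt N4652 (iv F22120)) (tt N7719 D16885) (tt N7717 (iv F29776)) (tt N2744 F22058) (tt N7718 (iv F29777)) (tt N2743 (iv D12562)) (tt N4644 (iv F22113)))
theorem Q4621 : ∀ i, i < 4621 → P i := stepQ 4620 Q4620 (allL N4620 (tt N7720 D16886) (tt N2744 (iv D12563)) (tt N7721 D16887) (tt N7719 (iv F29778)) (tt N7232 (iv F28236)) (tt N7695 (iv F29746)) (tt N7722 D16888))
theorem Q4622 : ∀ i, i < 4622 → P i := stepQ 4621 Q4621 (allL N4621 (tt N2745 (iv D12564)) (tt N4523 F22067) (tt N7723 D16889) (tt N4752 (iv F22288)) (tt N7233 (iv F28237)) (tt N2746 F22059) (tt N4628 (iv F22087)))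
theorem Q4623 : ∀ i, i < 4623 → P i := stepQ 4622 Q4622 (allL N4622 (tt N7723 (iv F29780)) (tt N7721 (iv F29779)) (tt N2745 (iv D12565)) (tt N7724 D16890) (tt N7234 (iv F28240)) (tt N2747 F22060) (tt N7725 D16891))
theorem Q4624 : ∀ i, i < 4624 → P i := stepQ 4623 Q4623 (allL N4623 (tt N4628 (iv F22086)) (tt N4458 (iv F22098)) (tt N7725 (iv F29783)) (tt N4754 (iv F22292)) (tt N7235 (iv F28243)) (tt N4625 (iv F22063)) (tt N2745 (iv D12566)))
theorem Q4625 : ∀ i, i < 4625 → P i := stepQ 4624 Q4624 (allL N4624 (tt N2747 F22061) (tt N3810 (iv F34775)) (tt N2746 (iv D12568)) (tt N7726 D16893) (tt N7236 (iv F28245)) (tt N7723 (iv F29781)) (tt N7727 D16894))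
theorem Q4626 : ∀ i, i < 4626 → P i := stepQ 4625 Q4625 (allL N4625 (tt N2748 F22062) (tt N3811 F22064) (tt N7727 (iv F29786)) (tt N4519 (iv F22065)) (tt N7237 (iv F28248)) (tt N4623 F22063) (tt N2746 (iv D12569)))
theorem Q4627 : ∀ i, i < 4627 → P i := stepQ 4626 Q4626 (allL N4626 (tt N7726 (iv F29784)) (tt N7700 (iv F29753)) (tt N7728 D16895) (tt N2747 (iv D12570)) (tt N7729 D16896) (tt N7724 (iv F29782)) (tt N7730 D16897))
theorem Q4628 : ∀ i, i < 4628 → P i := stepQ 4627 Q4627 (allL N4627 (tt N7727 (iv F29785)) (tt N7731 D16898) (tt N2748 F22085) (tt N7730 (iv F29788)) (tt N7239 (iv F28251)) (tt N7732 D16899) (tt N2747 (iv D12571)))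
theorem Q4629 : ∀ i, i < 4629 → P i := stepQ 4628 Q4628 (allL N4628 (tt N4623 F22086) (tt N4728 (iv F22250)) (tt N7732 (iv F29791)) (tt N6501 (iv F26594)) (tt N7240 (iv F28253)) (tt N2748 (iv D12572)) (tt N4621 F22087))
theorem Q4630 : ∀ i, i < 4630 → P i := stepQ 4629 Q4629 (allL N4629 (tt N2750 F22088) (tt N7733 D16900) (tt N2749 (iv D12573)) (tt N7505 (iv F39600)) (tt N7241 (iv F28256)) (tt N7734 D16902) (tt N7735 D16903))
theorem Q4631 : ∀ i, i < 4631 → P i := stepQ 4630 Q4630 (allL N4630 (tt N2751 F22089) (tt N6403 (iv F26432)) (tt N7734 (iv F29795)) (tt N4730 (iv F22261)) (tt N7242 (iv F28258)) (tt N2749 (iv D12574)) (tt N4637 (iv F22103)))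
theorem Q4632 : ∀ i, i < 4632 → P i := stepQ 4631 Q4631 (allL N4631 (tt N2752 F22090) (tt N4475 F22101) (tt N7735 (iv F29797)) (tt N4731 (iv F22265)) (tt N7243 (iv F28260)) (tt N4480 (iv F22100)) (tt N2749 (iv D12575)))
theorem Q4633 : ∀ i, i < 4633 → P i := stepQ 4632 Q4632 (allL N4632 (tt N7736 D16904) (tt N2750 (iv D12576)) (tt N2753 F22091) (tt N7737 D16905) (tt N7244 (iv F28264)) (tt N7738 D16906) (tt N7739 D16907))
theorem Q4634 : ∀ i, i < 4634 → P i := stepQ 4633 Q4633 (allL N4633 (tt N7505 (iv F39599)) (tt N7737 (iv F29800)) (tt N4736 (iv F39605)) (tt N2750 (iv D12577)) (tt N7740 D16909) (tt N7741 D16910) (tt N4734 F39598))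
theorem Q4635 : ∀ i, i < 4635 → P i := stepQ 4634 Q4634 (allL N4634 (tt N7734 (iv F29794)) (tt N7742 D16912) (tt N2751 F22092) (tt N7741 (iv F29803)) (tt N7246 (iv F28266)) (tt N2750 (iv D12578)) (tt N7519 (iv F29391)))
theorem Q4636 : ∀ i, i < 4636 → P i := stepQ 4635 Q4635 (allL N4635 (tt N7735 (iv F29796)) (tt N7743 D16913) (tt N2752 F22093) (tt N4734 (iv F39597)) (tt N7247 (iv F28268)) (tt N4733 F39594) (tt N2750 (iv D12579)))
theorem Q4637 : ∀ i, i < 4637 → P i := stepQ 4636 Q4636 (allL N4636 (tt N7496 (iv F29340)) (tt N2751 (iv D12580)) (tt N7744 D16915) (tt N4713 (iv F22229)) (tt N7248 (iv F28269)) (tt N2756 F22094) (tt N4457 (iv F22095)))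
theorem Q4638 : ∀ i, i < 4638 → P i := stepQ 4637 Q4637 (allL N4637 (tt N4480 F22102) (tt N3788 F22104) (tt N4733 F39593) (tt N4468 (iv F22105)) (tt N7249 (iv F28273)) (tt N2752 (iv D12581)) (tt N4630 F22103))
theorem Q4639 : ∀ i, i < 4639 → P i := stepQ 4638 Q4638 (allL N4638 (tt N2753 (iv D12582)) (tt N7745 D16916) (tt N7736 (iv F29799)) (tt N7746 D16917) (tt N7250 (iv F28276)) (tt N7747 D16918) (tt N7748 D16919))
theorem Q4640 : ∀ i, i < 4640 → P i := stepQ 4639 Q4639 (allL N4639 (tt N7746 (iv F29811)) (tt N2754 F22107) (tt N7749 D16920) (tt N2753 (iv D12583)) (tt N7750 D16921) (tt N7751 D16922) (tt N7752 D16923))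
theorem Q4641 : ∀ i, i < 4641 → P i := stepQ 4640 Q4640 (allL N4640 (tt N7747 (iv F29812)) (tt N7753 D16924) (tt N7738 (iv F29801)) (tt N7751 (iv F29815)) (tt N7252 (iv F28278)) (tt N2753 (iv D12584)) (tt N7754 D16925))
theorem Q4642 : ∀ i, i < 4642 → P i := stepQ 4641 Q4641 (allL N4641 (tt N7748 (iv F29813)) (tt N7711 (iv F29765)) (tt N7739 (iv F29802)) (tt N7752 (iv F29816)) (tt N7253 (iv F28279)) (tt N7755 D16926) (tt N2753 (iv D12585)))
theorem Q4643 : ∀ i, i < 4643 → P i := stepQ 4642 Q4642 (allL N4642 (tt N2757 F22108) (tt N7756 D16927) (tt N2754 (iv D12586)) (tt N2808 F22109) (tt N7757 D16928) (tt N7758 D16929) (tt N7712 (iv F29767)))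
theorem Q4644 : ∀ i, i < 4644 → P i := stepQ 4643 Q4643 (allL N4643 (tt N2758 F22110) (tt N7750 (iv F29814)) (tt N7757 (iv F29823)) (tt N7255 (iv F28283)) (tt N2754 (iv D12587)) (tt N7759 D16930) (tt N7713 (iv F29770)))
theorem Q4645 : ∀ i, i < 4645 → P i := stepQ 4644 Q4644 (allL N4644 (tt N2759 F22111) (tt N5171 F29219) (tt N7758 (iv F29825)) (tt N2755 F22112) (tt N7759 (iv F29829)) (tt N2754 (iv D12588)) (tt N4619 F22113))
theorem Q4646 : ∀ i, i < 4646 → P i := stepQ 4645 Q4645 (allL N4645 (tt N5173 F29214) (tt N2755 (iv D12589)) (tt N7760 D16931) (tt N5171 (iv F29220)) (tt N7257 (iv F28287)) (tt N7753 (iv F29817)) (tt N7761 D16932))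
theorem Q4647 : ∀ i, i < 4647 → P i := stepQ 4646 Q4646 (allL N4646 (tt N7495 (iv F29338)) (tt N7760 (iv F29831)) (tt N2756 (iv D12590)) (tt N7762 D16933) (tt N7258 (iv F28288)) (tt N7744 (iv F29808)) (tt N7493 (iv F29337)))
theorem Q4648 : ∀ i, i < 4648 → P i := stepQ 4647 Q4647 (allL N4647 (tt N7763 D16934) (tt N2757 (iv D12591)) (tt N2831 F22114) (tt N7764 D16935) (tt N7765 D16936) (tt N7766 D16937) (tt N7767 D16938))
theorem Q4649 : ∀ i, i < 4649 → P i := stepQ 4648 Q4648 (allL N4648 (tt N2808 F22115) (tt N7764 (iv F29834)) (tt N2805 F22116) (tt N2757 (iv D12592)) (tt N7768 D16939) (tt N7769 D16940) (tt N7715 (iv F29773)))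
theorem Q4650 : ∀ i, i < 4650 → P i := stepQ 4649 Q4649 (allL N4649 (tt N7757 (iv F29822)) (tt N7765 (iv F29835)) (tt N2758 F22117) (tt N7770 D16941) (tt N2757 (iv D12593)) (tt N7771 D16942) (tt N7716 (iv F29775)))
theorem Q4651 : ∀ i, i < 4651 → P i := stepQ 4650 Q4650 (allL N4650 (tt N7758 (iv F29824)) (tt N5582 (iv F35242)) (tt N2759 F22118) (tt N7769 (iv F29843)) (tt N7771 (iv F29845)) (tt N2757 (iv D12594)) (tt N7772 D16944))
theorem Q4652 : ∀ i, i < 4652 → P i := stepQ 4651 Q4651 (allL N4651 (tt N7759 (iv F29828)) (tt N6567 (iv F26723)) (tt N7771 (iv F29844)) (tt N7263 (iv F28294)) (tt N2759 F22119) (tt N2758 (iv D12595)) (tt N7773 D16945))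
theorem Q4653 : ∀ i, i < 4653 → P i := stepQ 4652 Q4652 (allL N4652 (tt N4619 F22120) (tt N7774 D16946) (tt N7772 (iv F29847)) (tt N2760 F22121) (tt N7773 (iv F29850)) (tt N4616 F22122) (tt N2759 (iv D12596)))
theorem Q4654 : ∀ i, i < 4654 → P i := stepQ 4653 Q4653 (allL N4653 (tt N7775 D16947) (tt N2760 (iv D12597)) (tt N7776 D16948) (tt N7774 (iv F29852)) (tt N7265 (iv F28299)) (tt N7777 D16949) (tt N6573 (iv F26734)))
theorem Q4655 : ∀ i, i < 4655 → P i := stepQ 4654 Q4654 (allL N4654 (tt N2761 (iv D12598)) (tt N6411 (iv F26459)) (tt N7778 D16950) (tt N4721 (iv F22237)) (tt N7266 (iv F28300)) (tt N6534 (iv F26670)) (tt N3880 F22123))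
theorem Q4656 : ∀ i, i < 4656 → P i := stepQ 4655 Q4655 (allL N4655 (tt N7778 (iv F29855)) (tt N7776 (iv F29853)) (tt N2761 (iv D12599)) (tt N7779 D16951) (tt N7267 (iv F28302)) (tt N7780 D16952) (tt N3881 F22124))
theorem Q4657 : ∀ i, i < 4657 → P i := stepQ 4656 Q4656 (allL N4656 (tt N6534 (iv F26667)) (tt N4613 F22125) (tt N7780 (iv F29858)) (tt N4723 (iv F22241)) (tt N7268 (iv F28305)) (tt N2761 (iv D12600)) (tt N4554 (iv F22126)))
theorem Q4658 : ∀ i, i < 4658 → P i := stepQ 4657 Q4657 (allL N4657 (tt N6403 (iv F26431)) (tt N2762 (iv D12605)) (tt N7781 D16953) (tt N6502 (iv F26596)) (tt N7269 (iv F28307)) (tt N6502 (iv F26597)) (tt N4463 F22144))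
theorem Q4659 : ∀ i, i < 4659 → P i := stepQ 4658 Q4658 (allL N4658 (tt N3778 F22139) (tt N2763 (iv D12606)) (tt N7782 D16954) (tt N4425 F22140) (tt N7270 (iv F28310)) (tt N4586 F22141) (tt N4425 F22142))
theorem Q4660 : ∀ i, i < 4660 → P i := stepQ 4659 Q4659 (allL N4659 (tt N6574 (iv F26737)) (tt N7783 D16959) (tt N2773 F22147) (tt N5568 (iv F34784)) (tt N7272 (iv F28319)) (tt N2764 (iv D12609)) (tt N7784 D16960))
theorem Q4661 : ∀ i, i < 4661 → P i := stepQ 4660 Q4660 (allL N4660 (tt N6504 (iv F26602)) (tt N5342 (iv F34783)) (tt N4660 F23447) (tt N7273 (iv F28323)) (tt N2765 (iv D12612)) (tt N7785 D16963) (tt N3184 F34772))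
theorem Q4662 : ∀ i, i < 4662 → P i := stepQ 4661 Q4661 (allL N4661 (tt N6505 (iv F26605)) (tt N7786 D16965) (tt N4661 F23448) (tt N2766 F22149) (tt N7785 (iv F29878)) (tt N2765 (iv D12613)) (tt N7787 D16966))
theorem Q4663 : ∀ i, i < 4663 → P i := stepQ 4662 Q4662 (allL N4662 (tt N7788 D16969) (tt N2766 (iv D12615)) (tt N7789 D16970) (tt N7786 (iv F29881)) (tt N7276 (iv F28328)) (tt N7783 (iv F29870)) (tt N7790 D16971))
theorem Q4664 : ∀ i, i < 4664 → P i := stepQ 4663 Q4663 (allL N4663 (tt N4664 (iv F22153)) (tt N7791 D16972) (tt N2769 F22151) (tt N7787 (iv F29883)) (tt N7277 (iv F28330)) (tt N3864 (iv F23444)) (tt N2766 (iv D12616)))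
theorem Q4665 : ∀ i, i < 4665 → P i := stepQ 4664 Q4664 (allL N4664 (tt N4663 F22153) (tt N7792 D16975) (tt N2770 F22154) (tt N5188 (iv F34760)) (tt N7278 (iv F28335)) (tt N2767 (iv D12618)) (tt N3863 (iv F23441)))
theorem Q4666 : ∀ i, i < 4666 → P i := stepQ 4665 Q4665 (allL N4665 (tt N2768 (iv D12619)) (tt N7496 (iv F29341)) (tt N7793 D16976) (tt N4510 F22156) (tt N7279 (iv F28337)) (tt N2779 F22157) (tt N3806 (iv F22158)))
theorem Q4667 : ∀ i, i < 4667 → P i := stepQ 4666 Q4666 (allL N4666 (tt N7793 (iv F29891)) (tt N7789 (iv F29890)) (tt N2768 (iv D12620)) (tt N7794 D16977) (tt N7280 (iv F28340)) (tt N2780 F22159) (tt N7795 D16978))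
theorem Q4668 : ∀ i, i < 4668 → P i := stepQ 4667 Q4667 (allL N4667 (tt N3806 F22160) (tt N4566 F22161) (tt N7795 (iv F29896)) (tt N4508 F22162) (tt N7281 (iv F28344)) (tt N4567 F22163) (tt N2768 (iv D12621)))
theorem Q4669 : ∀ i, i < 4669 → P i := stepQ 4668 Q4668 (allL N4668 (tt N3796 F22164) (tt N2770 (iv D12622)) (tt N7796 D16979) (tt N4485 F22165) (tt N7282 (iv F28347)) (tt N6410 (iv F26455)) (tt N3793 F22166))
theorem Q4670 : ∀ i, i < 4670 → P i := stepQ 4669 Q4669 (allL N4669 (tt N2772 F22167) (tt N4669 F22168) (tt N7797 D16980) (tt N2771 (iv D12623)) (tt N7798 D16981) (tt N7799 D16982) (tt N7800 D16983))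
theorem Q4671 : ∀ i, i < 4671 → P i := stepQ 4670 Q4670 (allL N4670 (tt N2773 F22169) (tt N7801 D16984) (tt N6574 (iv F26738)) (tt N7799 (iv F29908)) (tt N7283 (iv F28350)) (tt N2771 (iv D12624)) (tt N4678 (iv F22177)))
theorem Q4672 : ∀ i, i < 4672 → P i := stepQ 4671 Q4671 (allL N4671 (tt N2774 F22170) (tt N7475 (iv F35220)) (tt N5562 (iv F34750)) (tt N7800 (iv F29910)) (tt N7284 (iv F28352)) (tt N4677 (iv F22175)) (tt N2771 (iv D12625)))
theorem Q4673 : ∀ i, i < 4673 → P i := stepQ 4672 Q4672 (allL N4672 (tt N7797 (iv F29900)) (tt N7802 D16986) (tt N2772 (iv D12626)) (tt N7803 D16987) (tt N7804 D16988) (tt N7805 D16989) (tt N7806 D16990))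
theorem Q4674 : ∀ i, i < 4674 → P i := stepQ 4673 Q4673 (allL N4673 (tt N7798 (iv F29904)) (tt N2776 F22171) (tt N7804 (iv F29917)) (tt N7285 (iv F28354)) (tt N2772 (iv D12627)) (tt N7807 D16991) (tt N7808 D16992))
theorem Q4675 : ∀ i, i < 4675 → P i := stepQ 4674 Q4674 (allL N4674 (tt N7799 (iv F29907)) (tt N7809 D16993) (tt N7805 (iv F29919)) (tt N2773 F22172) (tt N7807 (iv F29921)) (tt N2772 (iv D12628)) (tt N7810 D16994))
theorem Q4676 : ∀ i, i < 4676 → P i := stepQ 4675 Q4675 (allL N4675 (tt N7800 (iv F29909)) (tt N7580 (iv F29519)) (tt N7806 (iv F29920)) (tt N2774 F22173) (tt N7808 (iv F29922)) (tt N7811 D16995) (tt N2772 (iv D12629)))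
theorem Q4677 : ∀ i, i < 4677 → P i := stepQ 4676 Q4676 (allL N4676 (tt N7812 D16996) (tt N2773 (iv D12630)) (tt N7813 D16997) (tt N7809 (iv F29923)) (tt N7288 (iv F28357)) (tt N2778 F22174) (tt N7518 (iv F35256)))
theorem Q4678 : ∀ i, i < 4678 → P i := stepQ 4677 Q4677 (allL N4677 (tt N4678 (iv F22176)) (tt N4456 F35221) (tt N7784 (iv F29871)) (tt N7810 (iv F29925)) (tt N7289 (iv F28359)) (tt N4671 F22175) (tt N2773 (iv D12631)))
theorem Q4679 : ∀ i, i < 4679 → P i := stepQ 4678 Q4678 (allL N4678 (tt N4677 F22176) (tt N7814 D17000) (tt N5566 (iv F34756)) (tt N7811 (iv F29928)) (tt N7290 (iv F28362)) (tt N2774 (iv D12632)) (tt N4670 F22177))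
theorem Q4680 : ∀ i, i < 4680 → P i := stepQ 4679 Q4679 (allL N4679 (tt N4434 (iv F34370)) (tt N2775 (iv D12633)) (tt N7802 (iv F29913)) (tt N3871 F22178) (tt N4419 (iv F34373)) (tt N7462 (iv F34375)) (tt N4417 (iv F34376)))
theorem Q4681 : ∀ i, i < 4681 → P i := stepQ 4680 Q4680 (allL N4680 (tt N2783 F22179) (tt N4419 F34442) (tt N2776 F22180) (tt N4421 (iv F34451)) (tt N2775 (iv D12634)) (tt N7815 D17006) (tt N7583 (iv F29527)))
theorem Q4682 : ∀ i, i < 4682 → P i := stepQ 4681 Q4681 (allL N4681 (tt N2784 F22181) (tt N4580 (iv F34449)) (tt N2777 F22182) (tt N3873 F22183) (tt N7815 (iv F29940)) (tt N2775 (iv D12635)) (tt N4534 F22184))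
theorem Q4683 : ∀ i, i < 4683 → P i := stepQ 4682 Q4682 (allL N4682 (tt N2785 F22185) (tt N7816 D17008) (tt N7815 (iv F29939)) (tt N7294 (iv F28372)) (tt N2777 F22186) (tt N2776 (iv D12636)) (tt N4535 F22187))
theorem Q4684 : ∀ i, i < 4684 → P i := stepQ 4683 Q4683 (allL N4683 (tt N7817 D17009) (tt N2777 (iv D12637)) (tt N4582 F35169) (tt N2778 F22188) (tt N7816 (iv F29943)) (tt N7809 (iv F29924)) (tt N7818 D17011))
theorem Q4685 : ∀ i, i < 4685 → P i := stepQ 4684 Q4684 (allL N4684 (tt N2778 (iv D12638)) (tt N7819 D17012) (tt N7820 D17013) (tt N7817 (iv F29944)) (tt N7296 (iv F28376)) (tt N7812 (iv F29930)) (tt N7821 D17014))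
theorem Q4686 : ∀ i, i < 4686 → P i := stepQ 4685 Q4685 (allL N4685 (tt N7820 (iv F29947)) (tt N2780 F22189) (tt N2778 (iv D12639)) (tt N7822 D17015) (tt N7297 (iv F28378)) (tt N7813 (iv F29931)) (tt N7823 D17016))
theorem Q4687 : ∀ i, i < 4687 → P i := stepQ 4686 Q4686 (allL N4686 (tt N7821 (iv F29948)) (tt N4538 F22190) (tt N7823 (iv F29951)) (tt N7818 (iv F29946)) (tt N7298 (iv F28380)) (tt N7824 D17017) (tt N2778 (iv D12640)))
theorem Q4688 : ∀ i, i < 4688 → P i := stepQ 4687 Q4687 (allL N4687 (tt N6390 (iv F26409)) (tt N2779 (iv D12641)) (tt N7825 D17018) (tt N6512 (iv F26633)) (tt N7299 (iv F28381)) (tt N4424 (iv F22192)) (tt N4555 F22191))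
theorem Q4689 : ∀ i, i < 4689 → P i := stepQ 4688 Q4688 (allL N4688 (tt N2780 F22193) (tt N7826 D17019) (tt N2779 (iv D12642)) (tt N7827 D17020) (tt N7300 (iv F28385)) (tt N7793 (iv F29892)) (tt N7631 (iv F29623)))
theorem Q4690 : ∀ i, i < 4690 → P i := stepQ 4689 Q4689 (allL N4689 (tt N7827 (iv F29960)) (tt N7822 (iv F29950)) (tt N7828 D17021) (tt N2780 (iv D12643)) (tt N7829 D17022) (tt N7794 (iv F29894)) (tt N7830 D17023))
theorem Q4691 : ∀ i, i < 4691 → P i := stepQ 4690 Q4690 (allL N4690 (tt N7631 (iv F29622)) (tt N7831 D17024) (tt N2781 F22194) (tt N7830 (iv F29961)) (tt N7302 (iv F28387)) (tt N6428 (iv F26482)) (tt N2780 (iv D12644)))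
theorem Q4692 : ∀ i, i < 4692 → P i := stepQ 4691 Q4691 (allL N4691 (tt N3872 F22195) (tt N4691 F22196) (tt N3865 F22197) (tt N7832 D17025) (tt N2782 (iv D12645)) (tt N7833 D17026) (tt N7585 (iv F29538)))
theorem Q4693 : ∀ i, i < 4693 → P i := stepQ 4692 Q4692 (allL N4692 (tt N3873 F22198) (tt N7834 D17027) (tt N3866 F22199) (tt N2784 F22200) (tt N7833 (iv F29968)) (tt N2782 (iv D12646)) (tt N6449 (iv F26511)))
theorem Q4694 : ∀ i, i < 4694 → P i := stepQ 4693 Q4693 (allL N4693 (tt N4421 F34462) (tt N4693 F22201) (tt N6580 (iv F35102)) (tt N2783 (iv D12647)) (tt N7832 (iv F29965)) (tt N7835 D17029) (tt N7476 (iv F34473)))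
theorem Q4695 : ∀ i, i < 4695 → P i := stepQ 4694 Q4694 (allL N4694 (tt N7815 (iv F29938)) (tt N7836 D17030) (tt N2785 F22202) (tt N7835 (iv F29971)) (tt N2784 F22203) (tt N2783 (iv D12648)) (tt N7837 D17031))
theorem Q4696 : ∀ i, i < 4696 → P i := stepQ 4695 Q4695 (allL N4695 (tt N7838 D17032) (tt N2784 (iv D12649)) (tt N7839 D17033) (tt N7834 (iv F29969)) (tt N7836 (iv F29972)) (tt N4695 F22204) (tt N7840 D17034))
theorem Q4697 : ∀ i, i < 4697 → P i := stepQ 4696 Q4696 (allL N4696 (tt N4534 F22205) (tt N7841 D17035) (tt N2787 F22206) (tt N6449 (iv F26510)) (tt N7837 (iv F29976)) (tt N4529 F22207) (tt N2784 (iv D12650)))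
theorem Q4698 : ∀ i, i < 4698 → P i := stepQ 4697 Q4697 (allL N4697 (tt N7842 D17036) (tt N2785 (iv D12651)) (tt N7843 D17037) (tt N7313 (iv F28404)) (tt N2786 F22208) (tt N2833 F22209) (tt N7844 D17038))
theorem Q4699 : ∀ i, i < 4699 → P i := stepQ 4698 Q4698 (allL N4698 (tt N4535 F22210) (tt N7845 D17039) (tt N7837 (iv F29975)) (tt N7314 (iv F28408)) (tt N2787 F22211) (tt N4530 F22212) (tt N2785 (iv D12652)))
theorem Q4700 : ∀ i, i < 4700 → P i := stepQ 4699 Q4699 (allL N4699 (tt N2786 (iv D12653)) (tt N7846 D17040) (tt N4701 F34629) (tt N2788 F22213) (tt N7842 (iv F29981)) (tt N2834 F22214) (tt N4700 F34630))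
theorem Q4701 : ∀ i, i < 4701 → P i := stepQ 4700 Q4700 (allL N4700 (tt N4701 (iv F34621)) (tt N7839 (iv F29979)) (tt N2786 (iv D12654)) (tt N2841 F34616) (tt N7843 (iv F29983)) (tt N2835 F22215) (tt N4699 (iv F34630)))
theorem Q4702 : ∀ i, i < 4702 → P i := stepQ 4701 Q4701 (allL N4701 (tt N4700 F34621) (tt N7847 D17044) (tt N4699 (iv F34629)) (tt N2790 F22216) (tt N7844 (iv F29985)) (tt N4796 F34622) (tt N2786 (iv D12655)))
theorem Q4703 : ∀ i, i < 4703 → P i := stepQ 4702 Q4702 (allL N4702 (tt N7848 D17045) (tt N2787 (iv D12656)) (tt N7849 D17046) (tt N2791 F22217) (tt N7845 (iv F29986)) (tt N7850 D17047) (tt N7847 (iv F29993)))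
theorem Q4704 : ∀ i, i < 4704 → P i := stepQ 4703 Q4703 (allL N4703 (tt N7851 D17048) (tt N2788 (iv D12657)) (tt N7852 D17049) (tt N7846 (iv F29987)) (tt N7318 (iv F28415)) (tt N7853 D17050) (tt N7854 D17051))
theorem Q4705 : ∀ i, i < 4705 → P i := stepQ 4704 Q4704 (allL N4704 (tt N2789 F22218) (tt N7855 D17052) (tt N2788 (iv D12658)) (tt N7856 D17053) (tt N6381 (iv F26390)) (tt N2837 F22219) (tt N4806 (iv F22368)))
theorem Q4706 : ∀ i, i < 4706 → P i := stepQ 4705 Q4705 (allL N4705 (tt N7856 (iv F29998)) (tt N2794 F22220) (tt N7857 D17054) (tt N2789 (iv D12659)) (tt N7858 D17055) (tt N2839 F22221) (tt N7857 (iv F34612)))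
theorem Q4707 : ∀ i, i < 4707 → P i := stepQ 4706 Q4706 (allL N4706 (tt N4806 (iv F22366)) (tt N7859 D17057) (tt N2790 F22222) (tt N7857 (iv F34611)) (tt N6387 (iv F26402)) (tt N4802 (iv F22362)) (tt N2789 (iv D12660)))
theorem Q4708 : ∀ i, i < 4708 → P i := stepQ 4707 Q4707 (allL N4707 (tt N7860 D17058) (tt N2790 (iv D12661)) (tt N7861 D17059) (tt N7847 (iv F29992)) (tt N7319 (iv F28416)) (tt N7524 (iv F34854)) (tt N2791 F22223))
theorem Q4709 : ∀ i, i < 4709 → P i := stepQ 4708 Q4708 (allL N4708 (tt N2791 (iv D12662)) (tt N7824 (iv F30011)) (tt N7862 D17062) (tt N7848 (iv F29994)) (tt N7320 (iv F28418)) (tt N7863 D17063) (tt N7860 (iv F30005)))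
theorem Q4710 : ∀ i, i < 4710 → P i := stepQ 4709 Q4709 (allL N4709 (tt N7862 (iv F30007)) (tt N2798 F22224) (tt N2791 (iv D12663)) (tt N7864 D17064) (tt N7321 (iv F28420)) (tt N7865 D17065) (tt N7861 (iv F30006)))
theorem Q4711 : ∀ i, i < 4711 → P i := stepQ 4710 Q4710 (allL N4710 (tt N7863 (iv F30008)) (tt N4527 F22225) (tt N7865 (iv F30013)) (tt N7850 (iv F29996)) (tt N7322 (iv F28422)) (tt N2791 (iv D12664)) (tt N7866 D17066))
theorem Q4712 : ∀ i, i < 4712 → P i := stepQ 4711 Q4711 (allL N4711 (tt N2792 (iv D12665)) (tt N6390 (iv F26410)) (tt N7867 D17067) (tt N4460 F22226) (tt N7323 (iv F28423)) (tt N7547 (iv F29461)) (tt N3786 (iv F22227)))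
theorem Q4713 : ∀ i, i < 4713 → P i := stepQ 4712 Q4712 (allL N4712 (tt N7867 (iv F30016)) (tt N7868 D17068) (tt N2792 (iv D12666)) (tt N7869 D17069) (tt N7324 (iv F28425)) (tt N7870 D17070) (tt N7871 D17071))
theorem Q4714 : ∀ i, i < 4714 → P i := stepQ 4713 Q4713 (allL N4713 (tt N7547 (iv F29458)) (tt N2802 F22228) (tt N7870 (iv F30019)) (tt N4636 F22229) (tt N7325 (iv F28427)) (tt N2792 (iv D12667)) (tt N6401 (iv F26430)))
theorem Q4715 : ∀ i, i < 4715 → P i := stepQ 4714 Q4714 (allL N4714 (tt N3786 F22230) (tt N4754 (iv F22291)) (tt N7871 (iv F30021)) (tt N4458 F22231) (tt N7326 (iv F28429)) (tt N4504 (iv F22294)) (tt N2792 (iv D12668)))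
theorem Q4716 : ∀ i, i < 4716 → P i := stepQ 4715 Q4715 (allL N4715 (tt N7872 D17072) (tt N2793 (iv D12669)) (tt N7868 (iv F30018)) (tt N7873 D17073) (tt N7327 (iv F28431)) (tt N7874 D17074) (tt N7875 D17075))
theorem Q4717 : ∀ i, i < 4717 → P i := stepQ 4716 Q4716 (allL N4716 (tt N2794 F22232) (tt N7873 (iv F30023)) (tt N7769 (iv F29842)) (tt N2793 (iv D12670)) (tt N7876 D17076) (tt N2805 F22233) (tt N4750 (iv F22287)))
theorem Q4718 : ∀ i, i < 4718 → P i := stepQ 4717 Q4717 (allL N4717 (tt N7769 (iv F29841)) (tt N7877 D17077) (tt N2794 (iv D12671)) (tt N7758 (iv F29826)) (tt N7878 D17078) (tt N2808 F22234) (tt N7879 D17079))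
theorem Q4719 : ∀ i, i < 4719 → P i := stepQ 4718 Q4718 (allL N4718 (tt N7876 (iv F30025)) (tt N7858 (iv F30001)) (tt N7878 (iv F30027)) (tt N7330 (iv F28435)) (tt N2794 (iv D12672)) (tt N2809 F22235) (tt N7880 D17080))
theorem Q4720 : ∀ i, i < 4720 → P i := stepQ 4719 Q4719 (allL N4719 (tt N4750 (iv F22285)) (tt N7881 D17081) (tt N7879 (iv F30029)) (tt N2795 F22236) (tt N7880 (iv F30032)) (tt N4743 (iv F22280)) (tt N2794 (iv D12673)))
theorem Q4721 : ∀ i, i < 4721 → P i := stepQ 4720 Q4720 (allL N4720 (tt N7882 D17082) (tt N2795 (iv D12674)) (tt N7883 D17083) (tt N7881 (iv F30033)) (tt N7332 (iv F28438)) (tt N7884 D17084) (tt N7859 (iv F30004)))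
theorem Q4722 : ∀ i, i < 4722 → P i := stepQ 4721 Q4721 (allL N4721 (tt N2796 (iv D12675)) (tt N4489 (iv F22239)) (tt N7885 D17085) (tt N4654 F22237) (tt N7333 (iv F28439)) (tt N4728 (iv F22251)) (tt N2797 F22238))
theorem Q4723 : ∀ i, i < 4723 → P i := stepQ 4722 Q4722 (allL N4722 (tt N7885 (iv F30035)) (tt N7883 (iv F30034)) (tt N2796 (iv D12676)) (tt N7886 D17086) (tt N7334 (iv F28442)) (tt N7887 D17087) (tt N2798 F22240))
theorem Q4724 : ∀ i, i < 4724 → P i := stepQ 4723 Q4723 (allL N4723 (tt N4728 (iv F22249)) (tt N4450 (iv F22252)) (tt N7887 (iv F30039)) (tt N4656 F22241) (tt N7335 (iv F28445)) (tt N2796 (iv D12677)) (tt N4725 (iv F22247)))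
theorem Q4725 : ∀ i, i < 4725 → P i := stepQ 4724 Q4724 (allL N4724 (tt N2798 F22242) (tt N3829 F22243) (tt N2797 (iv D12678)) (tt N7888 D17088) (tt N7336 (iv F28448)) (tt N7889 D17089) (tt N7885 (iv F30037)))
theorem Q4726 : ∀ i, i < 4726 → P i := stepQ 4725 Q4725 (allL N4725 (tt N2799 F22244) (tt N3830 F22245) (tt N7889 (iv F30043)) (tt N4554 F22246) (tt N7337 (iv F28451)) (tt N2797 (iv D12679)) (tt N4723 F22247))
theorem Q4727 : ∀ i, i < 4727 → P i := stepQ 4726 Q4726 (allL N4726 (tt N7888 (iv F30040)) (tt N7864 (iv F30012)) (tt N7890 D17090) (tt N2798 (iv D12680)) (tt N7891 D17091) (tt N7892 D17092) (tt N7886 (iv F30038)))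
theorem Q4728 : ∀ i, i < 4728 → P i := stepQ 4727 Q4727 (allL N4727 (tt N7889 (iv F30042)) (tt N7893 D17093) (tt N2799 F22248) (tt N7892 (iv F30045)) (tt N7339 (iv F28454)) (tt N2798 (iv D12681)) (tt N7894 D17094))
theorem Q4729 : ∀ i, i < 4729 → P i := stepQ 4728 Q4728 (allL N4728 (tt N4723 F22249) (tt N4628 F22250) (tt N7894 (iv F30048)) (tt N6534 (iv F26669)) (tt N7340 (iv F28457)) (tt N4721 F22251) (tt N2799 (iv D12682)))
theorem Q4730 : ∀ i, i < 4730 → P i := stepQ 4729 Q4729 (allL N4729 (tt N2801 F22259) (tt N7895 D17095) (tt N2800 (iv D12683)) (tt N7519 (iv F39592)) (tt N7341 (iv F28460)) (tt N7896 D17097) (tt N7741 (iv F39608)))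
theorem Q4731 : ∀ i, i < 4731 → P i := stepQ 4730 Q4730 (allL N4730 (tt N2802 F22260) (tt N4464 (iv F22263)) (tt N7896 (iv F30053)) (tt N4630 F22261) (tt N7342 (iv F28462)) (tt N2800 (iv D12684)) (tt N4468 F22262))
theorem Q4732 : ∀ i, i < 4732 → P i := stepQ 4731 Q4731 (allL N4731 (tt N2803 F22264) (tt N6404 (iv F26437)) (tt N7741 (iv F39607)) (tt N4631 F22265) (tt N7343 (iv F28466)) (tt N4736 (iv F22271)) (tt N2800 (iv D12685)))
theorem Q4733 : ∀ i, i < 4733 → P i := stepQ 4732 Q4732 (allL N4732 (tt N7897 D17099) (tt N2801 (iv D12686)) (tt N2804 F22266) (tt N7898 D17100) (tt N7344 (iv F28468)) (tt N7899 D17101) (tt N7900 D17102))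
theorem Q4734 : ∀ i, i < 4734 → P i := stepQ 4733 Q4733 (allL N4733 (tt N7519 (iv F39591)) (tt N7898 (iv F30058)) (tt N4637 (iv F39593)) (tt N2801 (iv D12687)) (tt N7901 D17104) (tt N4635 (iv F39594)) (tt N7734 (iv F39596)))
theorem Q4735 : ∀ i, i < 4735 → P i := stepQ 4734 Q4734 (allL N4734 (tt N7896 (iv F30052)) (tt N7902 D17107) (tt N2802 F22267) (tt N4635 F39597) (tt N7346 (iv F28470)) (tt N2801 (iv D12688)) (tt N4633 (iv F39598)))
theorem Q4736 : ∀ i, i < 4736 → P i := stepQ 4735 Q4735 (allL N4735 (tt N7741 (iv F39606)) (tt N7903 D17109) (tt N2803 F22268) (tt N7734 (iv F39595)) (tt N7347 (iv F28472)) (tt N7505 (iv F29361)) (tt N2801 (iv D12689)))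
theorem Q4737 : ∀ i, i < 4737 → P i := stepQ 4736 Q4736 (allL N4736 (tt N4468 F22269) (tt N3791 (iv F22272)) (tt N4633 F39605) (tt N4480 F22270) (tt N7348 (iv F28474)) (tt N4731 F22271) (tt N2802 (iv D12690)))
theorem Q4738 : ∀ i, i < 4738 → P i := stepQ 4737 Q4737 (allL N4737 (tt N7487 (iv F29325)) (tt N2803 (iv D12691)) (tt N7904 D17110) (tt N4614 F22273) (tt N7349 (iv F28477)) (tt N4449 F22274) (tt N2807 F22275))
theorem Q4739 : ∀ i, i < 4739 → P i := stepQ 4738 Q4738 (allL N4738 (tt N2804 (iv D12692)) (tt N7905 D17111) (tt N7897 (iv F30057)) (tt N7906 D17112) (tt N7350 (iv F28480)) (tt N7907 D17113) (tt N7908 D17114))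
theorem Q4740 : ∀ i, i < 4740 → P i := stepQ 4739 Q4739 (allL N4739 (tt N7906 (iv F30069)) (tt N2805 F22276) (tt N7909 D17115) (tt N2804 (iv D12693)) (tt N7910 D17116) (tt N7911 D17117) (tt N7912 D17118))
theorem Q4741 : ∀ i, i < 4741 → P i := stepQ 4740 Q4740 (allL N4740 (tt N7907 (iv F30070)) (tt N7874 (iv F30024)) (tt N7899 (iv F30059)) (tt N7911 (iv F30073)) (tt N7352 (iv F28482)) (tt N2804 (iv D12694)) (tt N7913 D17119))
theorem Q4742 : ∀ i, i < 4742 → P i := stepQ 4741 Q4741 (allL N4741 (tt N7908 (iv F30071)) (tt N7914 D17120) (tt N7900 (iv F30060)) (tt N7912 (iv F30074)) (tt N7353 (iv F28483)) (tt N7915 D17121) (tt N2804 (iv D12695)))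
theorem Q4743 : ∀ i, i < 4743 → P i := stepQ 4742 Q4742 (allL N4742 (tt N2809 F22277) (tt N7910 (iv F30072)) (tt N7768 (iv F29840)) (tt N7355 (iv F28487)) (tt N2805 (iv D12696)) (tt N7876 (iv F30026)) (tt N7916 D17122))
theorem Q4744 : ∀ i, i < 4744 → P i := stepQ 4743 Q4743 (allL N4743 (tt N2810 F22278) (tt N5152 F35226) (tt N7715 (iv F29772)) (tt N2806 F22279) (tt N7916 (iv F30080)) (tt N4719 F22280) (tt N2805 (iv D12697)))
theorem Q4745 : ∀ i, i < 4745 → P i := stepQ 4744 Q4744 (allL N4744 (tt N5154 F35224) (tt N2806 (iv D12698)) (tt N7917 D17125) (tt N5152 (iv F35225)) (tt N7357 (iv F28491)) (tt N7918 D17126) (tt N7914 (iv F30076)))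
theorem Q4746 : ∀ i, i < 4746 → P i := stepQ 4745 Q4745 (allL N4745 (tt N7486 (iv F29323)) (tt N7917 (iv F30083)) (tt N2807 (iv D12699)) (tt N7919 D17127) (tt N7358 (iv F28492)) (tt N7484 (iv F29322)) (tt N7904 (iv F30067)))
theorem Q4747 : ∀ i, i < 4747 → P i := stepQ 4746 Q4746 (allL N4746 (tt N7920 D17128) (tt N2808 (iv D12700)) (tt N2851 F22281) (tt N7756 (iv F29821)) (tt N7921 D17129) (tt N7922 D17130) (tt N7923 D17131))
theorem Q4748 : ∀ i, i < 4748 → P i := stepQ 4747 Q4747 (allL N4747 (tt N7768 (iv F29839)) (tt N7921 (iv F30086)) (tt N2809 F22282) (tt N7924 D17132) (tt N2808 (iv D12701)) (tt N7878 (iv F30028)) (tt N7925 D17133))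
theorem Q4749 : ∀ i, i < 4749 → P i := stepQ 4748 Q4748 (allL N4748 (tt N7715 (iv F29771)) (tt N5538 (iv F35163)) (tt N2810 F22283) (tt N7712 (iv F29768)) (tt N7925 (iv F30091)) (tt N7926 D17135) (tt N2808 (iv D12702)))
theorem Q4750 : ∀ i, i < 4750 → P i := stepQ 4749 Q4749 (allL N4749 (tt N7916 (iv F30079)) (tt N6606 (iv F26787)) (tt N7925 (iv F30090)) (tt N7363 (iv F28498)) (tt N2810 F22284) (tt N7927 D17136) (tt N2809 (iv D12703)))
theorem Q4751 : ∀ i, i < 4751 → P i := stepQ 4750 Q4750 (allL N4750 (tt N4719 F22285) (tt N7928 D17137) (tt N7926 (iv F30093)) (tt N2811 F22286) (tt N7927 (iv F30097)) (tt N2810 (iv D12704)) (tt N4716 F22287))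
theorem Q4752 : ∀ i, i < 4752 → P i := stepQ 4751 Q4751 (allL N4751 (tt N7929 D17138) (tt N2811 (iv D12705)) (tt N7930 D17139) (tt N7928 (iv F30099)) (tt N7365 (iv F28503)) (tt N6610 (iv F26799)) (tt N7931 D17140))
theorem Q4753 : ∀ i, i < 4753 → P i := stepQ 4752 Q4752 (allL N4752 (tt N2812 (iv D12706)) (tt N6441 F26498) (tt N7932 D17141) (tt N4621 F22288) (tt N7366 (iv F28504)) (tt N3854 F22289) (tt N6501 (iv F26595)))
theorem Q4754 : ∀ i, i < 4754 → P i := stepQ 4753 Q4753 (allL N4753 (tt N7932 (iv F30102)) (tt N7930 (iv F30100)) (tt N2812 (iv D12707)) (tt N7933 D17142) (tt N7367 (iv F28506)) (tt N3855 F22290) (tt N7934 D17143))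
theorem Q4755 : ∀ i, i < 4755 → P i := stepQ 4754 Q4754 (allL N4754 (tt N6501 (iv F26593)) (tt N4714 F22291) (tt N7934 (iv F30105)) (tt N4623 F22292) (tt N7368 (iv F28509)) (tt N4519 F22293) (tt N2812 (iv D12708)))
theorem Q4756 : ∀ i, i < 4756 → P i := stepQ 4755 Q4755 (allL N4755 (tt N2813 (iv D12709)) (tt N7935 D17144) (tt N7936 D17145) (tt N7370 (iv F28513)) (tt N2814 F22295) (tt N7936 F30111) (tt N7678 (iv F29709)))
theorem Q4757 : ∀ i, i < 4757 → P i := stepQ 4756 Q4756 (allL N4756 (tt N7936 (iv F30108)) (tt N4756 F22296) (tt N2813 (iv D12710)) (tt N7372 F28521) (tt N2815 F22297) (tt N2813 F28522) (tt N7679 (iv F29711)))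
theorem Q4758 : ∀ i, i < 4758 → P i := stepQ 4757 Q4757 (allL N4757 (tt N7937 D17146) (tt N2814 (iv D12712)) (tt N7500 F29352) (tt N2816 F22300) (tt N7935 (iv F30107)) (tt N7500 (iv F29351)) (tt N7938 D17147))
theorem Q4759 : ∀ i, i < 4759 → P i := stepQ 4758 Q4758 (allL N4758 (tt N2815 F22301) (tt N7480 (iv F29313)) (tt N2814 (iv D12713)) (tt N2818 F28523) (tt N7936 (iv F30109)) (tt N2814 F28524) (tt N4601 F28525))
theorem Q4760 : ∀ i, i < 4760 → P i := stepQ 4759 Q4759 (allL N4759 (tt N2816 (iv D12718)) (tt N4759 F22310) (tt N3462 F29244) (tt N7937 (iv F30113)) (tt N7374 (iv F28540)) (tt N7499 (iv F29349)) (tt N7939 D17148))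
theorem Q4761 : ∀ i, i < 4761 → P i := stepQ 4760 Q4760 (allL N4760 (tt N3462 F28917) (tt N3588 F28918) (tt N2816 (iv D12719)) (tt N7940 D17149) (tt N7375 (iv F28541)) (tt N7497 (iv F29344)) (tt N7941 D17150))
theorem Q4762 : ∀ i, i < 4762 → P i := stepQ 4761 Q4761 (allL N4761 (tt N7939 (iv F30115)) (tt N7690 (iv F29738)) (tt N7941 (iv F30121)) (tt N7938 (iv F30114)) (tt N7376 (iv F28542)) (tt N7942 D17151) (tt N2816 (iv D12720)))
theorem Q4763 : ∀ i, i < 4763 → P i := stepQ 4762 Q4762 (allL N4762 (tt N3589 F28915) (tt N2817 (iv D12721)) (tt N3588 F28916) (tt N5103 F28920) (tt N6369 (iv F26364)) (tt N5140 (iv F28919)) (tt N7943 D17152))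
theorem Q4764 : ∀ i, i < 4764 → P i := stepQ 4763 Q4763 (allL N4763 (tt N2819 F22311) (tt N5103 (iv F28921)) (tt N4767 F28533) (tt N2817 (iv D12722)) (tt N7944 D17153) (tt N4765 (iv F28535)) (tt N7692 (iv F29740)))
theorem Q4765 : ∀ i, i < 4765 → P i := stepQ 4764 Q4764 (allL N4764 (tt N2820 F22312) (tt N7479 (iv F29309)) (tt N2818 F22313) (tt N4765 (iv F28532)) (tt N6371 (iv F26368)) (tt N2817 (iv D12723)) (tt N4606 F22314))
theorem Q4766 : ∀ i, i < 4766 → P i := stepQ 4765 Q4765 (allL N4765 (tt N4767 (iv F28534)) (tt N6138 (iv F25801)) (tt N2819 (iv D12724)) (tt N4764 F28532) (tt N7945 D17154) (tt N4763 F28535) (tt N7693 (iv F29741)))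
theorem Q4767 : ∀ i, i < 4767 → P i := stepQ 4766 Q4766 (allL N4766 (tt N7944 (iv F30129)) (tt N2822 F22315) (tt N7945 (iv F30130)) (tt N6374 (iv F26374)) (tt N2819 (iv D12725)) (tt N7946 D17155) (tt N7694 (iv F29745)))
theorem Q4768 : ∀ i, i < 4768 → P i := stepQ 4767 Q4767 (allL N4767 (tt N4765 F28534) (tt N3889 F22316) (tt N4763 (iv F28533)) (tt N2820 F22317) (tt N7946 (iv F30135)) (tt N2819 (iv D12726)) (tt N7947 D17156))
theorem Q4769 : ∀ i, i < 4769 → P i := stepQ 4768 Q4768 (allL N4768 (tt N4606 F22318) (tt N7948 D17157) (tt N2821 F22319) (tt N7947 (iv F30138)) (tt N6377 (iv F26380)) (tt N4604 F22320) (tt N2820 (iv D12727)))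
theorem Q4770 : ∀ i, i < 4770 → P i := stepQ 4769 Q4769 (allL N4769 (tt N7949 D17158) (tt N2821 (iv D12728)) (tt N7950 D17159) (tt N7675 F29707) (tt N7377 (iv F28543)) (tt N7951 D17160) (tt N4769 F22321))
theorem Q4771 : ∀ i, i < 4771 → P i := stepQ 4770 Q4770 (allL N4770 (tt N7895 (iv F30286)) (tt N2823 (iv D12729)) (tt N4808 (iv F22370)) (tt N7952 D17162) (tt N7378 (iv F28545)) (tt N7953 D17163) (tt N7954 D17164))
theorem Q4772 : ∀ i, i < 4772 → P i := stepQ 4771 Q4771 (allL N4771 (tt N2825 F22322) (tt N7952 (iv F30144)) (tt N4837 (iv F22415)) (tt N2823 (iv D12730)) (tt N7955 D17165) (tt N2825 F22323) (tt N3635 F22324))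
theorem Q4773 : ∀ i, i < 4773 → P i := stepQ 4772 Q4772 (allL N4772 (tt N2824 (iv D12731)) (tt N7897 (iv F30289)) (tt N2826 F22325) (tt N7956 D17167) (tt N7380 (iv F28550)) (tt N7957 D17168) (tt N7958 D17169))
theorem Q4774 : ∀ i, i < 4774 → P i := stepQ 4773 Q4773 (allL N4773 (tt N7956 (iv F30150)) (tt N2825 F22326) (tt N7959 D17170) (tt N2824 (iv D12732)) (tt N7960 D17171) (tt N7961 D17172) (tt N7962 D17173))
theorem Q4775 : ∀ i, i < 4775 → P i := stepQ 4774 Q4774 (allL N4774 (tt N7957 (iv F30151)) (tt N7953 (iv F30145)) (tt N2828 F22327) (tt N7961 (iv F30156)) (tt N7382 (iv F28553)) (tt N2824 (iv D12733)) (tt N7963 D17174))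
theorem Q4776 : ∀ i, i < 4776 → P i := stepQ 4775 Q4775 (allL N4775 (tt N7958 (iv F30153)) (tt N3601 F22328) (tt N2829 F22329) (tt N7962 (iv F30158)) (tt N7383 (iv F28556)) (tt N7964 D17175) (tt N2824 (iv D12734)))
theorem Q4777 : ∀ i, i < 4777 → P i := stepQ 4776 Q4776 (allL N4776 (tt N4837 (iv F22414)) (tt N7965 D17176) (tt N2825 (iv D12735)) (tt N4834 (iv F22402)) (tt N7966 D17177) (tt N4837 (iv F22416)) (tt N3636 F22330))
theorem Q4778 : ∀ i, i < 4778 → P i := stepQ 4777 Q4777 (allL N4777 (tt N7955 (iv F30147)) (tt N7960 (iv F30155)) (tt N7966 (iv F30164)) (tt N7385 (iv F28558)) (tt N2825 (iv D12736)) (tt N7955 (iv F30148)) (tt N3637 F22331))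
theorem Q4779 : ∀ i, i < 4779 → P i := stepQ 4778 Q4778 (allL N4778 (tt N7745 (iv F29810)) (tt N2826 (iv D12737)) (tt N7905 (iv F30288)) (tt N7967 D17179) (tt N7386 (iv F28560)) (tt N7968 D17180) (tt N7969 D17181))
theorem Q4780 : ∀ i, i < 4780 → P i := stepQ 4779 Q4779 (allL N4779 (tt N2827 F22332) (tt N7967 (iv F30166)) (tt N7970 D17182) (tt N2826 (iv D12738)) (tt N7971 D17183) (tt N7972 D17184) (tt N7973 D17185))
theorem Q4781 : ∀ i, i < 4781 → P i := stepQ 4780 Q4780 (allL N4780 (tt N2828 F22333) (tt N7974 D17186) (tt N7957 (iv F30152)) (tt N7972 (iv F30170)) (tt N7388 (iv F28563)) (tt N2826 (iv D12739)) (tt N4787 (iv F22341)))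
theorem Q4782 : ∀ i, i < 4782 → P i := stepQ 4781 Q4781 (allL N4781 (tt N2829 F22334) (tt N7975 D17187) (tt N7958 (iv F30154)) (tt N7973 (iv F30172)) (tt N7389 (iv F28565)) (tt N4786 (iv F22339)) (tt N2826 (iv D12740)))
theorem Q4783 : ∀ i, i < 4783 → P i := stepQ 4782 Q4782 (allL N4782 (tt N7970 (iv F30167)) (tt N4853 (iv F22456)) (tt N2827 (iv D12741)) (tt N7976 D17188) (tt N7977 D17189) (tt N5467 (iv F33243)) (tt N7978 D17191))
theorem Q4784 : ∀ i, i < 4784 → P i := stepQ 4783 Q4783 (allL N4783 (tt N7971 (iv F30168)) (tt N2830 F22335) (tt N7977 (iv F30173)) (tt N7391 (iv F28568)) (tt N2827 (iv D12742)) (tt N7979 D17192) (tt N7980 D17193))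
theorem Q4785 : ∀ i, i < 4785 → P i := stepQ 4784 Q4784 (allL N4784 (tt N7972 (iv F30169)) (tt N5464 (iv F33244)) (tt N5467 (iv F33242)) (tt N2828 F22336) (tt N7979 (iv F30176)) (tt N2827 (iv D12743)) (tt N7981 D17194))
theorem Q4786 : ∀ i, i < 4786 → P i := stepQ 4785 Q4785 (allL N4785 (tt N7973 (iv F30171)) (tt N3598 F22337) (tt N7978 (iv F30175)) (tt N2829 F22338) (tt N7980 (iv F30178)) (tt N7982 D17195) (tt N2827 (iv D12744)))
theorem Q4787 : ∀ i, i < 4787 → P i := stepQ 4786 Q4786 (allL N4786 (tt N4787 (iv F22340)) (tt N7983 D17196) (tt N7963 (iv F30159)) (tt N7981 (iv F30179)) (tt N7394 (iv F28572)) (tt N4781 F22339) (tt N2828 (iv D12745)))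
theorem Q4788 : ∀ i, i < 4788 → P i := stepQ 4787 Q4787 (allL N4787 (tt N4786 F22340) (tt N7984 D17197) (tt N7964 (iv F30162)) (tt N7982 (iv F30182)) (tt N7395 (iv F28575)) (tt N2829 (iv D12746)) (tt N4780 F22341))
theorem Q4789 : ∀ i, i < 4789 → P i := stepQ 4788 Q4788 (allL N4788 (tt N2831 (iv D12747)) (tt N5023 F32404) (tt N7763 (iv F29833)) (tt N4843 (iv F22441)) (tt N7985 D17199) (tt N7986 D17200) (tt N7987 D17201))
theorem Q4790 : ∀ i, i < 4790 → P i := stepQ 4789 Q4789 (allL N4789 (tt N7985 (iv F30185)) (tt N2832 F22342) (tt N7765 (iv F29836)) (tt N7988 D17202) (tt N2831 (iv D12748)) (tt N7989 D17203) (tt N7990 D17204))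
theorem Q4791 : ∀ i, i < 4791 → P i := stepQ 4790 Q4790 (allL N4790 (tt N7986 (iv F30186)) (tt N6564 (iv F26720)) (tt N7766 (iv F29837)) (tt N4845 (iv F22443)) (tt N7989 (iv F30189)) (tt N2831 (iv D12749)) (tt N7991 D17205))
theorem Q4792 : ∀ i, i < 4792 → P i := stepQ 4791 Q4791 (allL N4791 (tt N7987 (iv F30187)) (tt N6141 (iv F25805)) (tt N7767 (iv F29838)) (tt N4846 (iv F22445)) (tt N7990 (iv F30190)) (tt N7992 D17206) (tt N2831 (iv D12750)))
theorem Q4793 : ∀ i, i < 4793 → P i := stepQ 4792 Q4792 (allL N4792 (tt N4860 (iv F22470)) (tt N7988 (iv F30188)) (tt N6560 (iv F26714)) (tt N2832 (iv D12751)) (tt N4847 (iv F22447)) (tt N6560 (iv F26717)) (tt N6143 (iv F25818)))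
theorem Q4794 : ∀ i, i < 4794 → P i := stepQ 4793 Q4793 (allL N4793 (tt N2833 (iv D12752)) (tt N7993 D17207) (tt N7994 D17208) (tt N7401 (iv F28586)) (tt N2834 F22343) (tt N7842 (iv F29982)) (tt N7994 (iv F34620)))
theorem Q4795 : ∀ i, i < 4795 → P i := stepQ 4794 Q4794 (allL N4794 (tt N7994 (iv F30195)) (tt N4794 F22344) (tt N2833 (iv D12753)) (tt N7403 (iv F34625)) (tt N2835 F22345) (tt N7843 (iv F29984)) (tt N2833 (iv F34623)))
theorem Q4796 : ∀ i, i < 4796 → P i := stepQ 4795 Q4795 (allL N4795 (tt N7995 D17213) (tt N2834 (iv D12755)) (tt N7514 (iv F34840)) (tt N2836 F22348) (tt N7993 (iv F30194)) (tt N7996 D17215) (tt N7514 (iv F34842)))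
theorem Q4797 : ∀ i, i < 4797 → P i := stepQ 4796 Q4796 (allL N4796 (tt N2835 F22349) (tt N7489 (iv F34851)) (tt N2834 (iv D12756)) (tt N2838 F34614) (tt N7994 (iv F30196)) (tt N4701 (iv F34622)) (tt N2834 (iv F34618)))
theorem Q4798 : ∀ i, i < 4798 → P i := stepQ 4797 Q4797 (allL N4797 (tt N2836 (iv D12761)) (tt N4797 F22358) (tt N3465 F26626) (tt N7995 (iv F30207)) (tt N7405 (iv F28597)) (tt N7997 D17227) (tt N7513 (iv F34838)))
theorem Q4799 : ∀ i, i < 4799 → P i := stepQ 4798 Q4798 (allL N4798 (tt N3465 F26622) (tt N3610 F26623) (tt N2836 (iv D12762)) (tt N7998 D17229) (tt N7406 (iv F28601)) (tt N7999 D17230) (tt N7511 (iv F34832)))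
theorem Q4800 : ∀ i, i < 4800 → P i := stepQ 4799 Q4799 (allL N4799 (tt N7997 (iv F30224)) (tt N7853 (iv F29997)) (tt N7999 (iv F30233)) (tt N7996 (iv F30208)) (tt N7407 (iv F28602)) (tt N2836 (iv D12763)) (tt N8000 D17232))
theorem Q4801 : ∀ i, i < 4801 → P i := stepQ 4800 Q4800 (allL N4800 (tt N3611 F26620) (tt N2837 (iv D12765)) (tt N3610 F26621) (tt N5110 (iv F34549)) (tt N6379 (iv F26386)) (tt N8001 D17236) (tt N5159 (iv F34553)))
theorem Q4802 : ∀ i, i < 4802 → P i := stepQ 4801 Q4801 (allL N4801 (tt N2839 F22359) (tt N5110 F34556) (tt N4805 (iv F34606)) (tt N2837 (iv D12766)) (tt N8002 D17239) (tt N7856 (iv F29999)) (tt N4803 (iv F34608)))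
theorem Q4803 : ∀ i, i < 4803 → P i := stepQ 4802 Q4802 (allL N4802 (tt N2840 F22360) (tt N7488 (iv F35076)) (tt N2838 F22361) (tt N4803 F34609) (tt N6382 (iv F26393)) (tt N4706 F22362) (tt N2837 (iv D12767)))
theorem Q4804 : ∀ i, i < 4804 → P i := stepQ 4803 Q4803 (allL N4803 (tt N4805 F34607) (tt N6151 (iv F25842)) (tt N2839 (iv D12769)) (tt N4802 (iv F34609)) (tt N8003 D17246) (tt N7857 (iv F30000)) (tt N4801 F34608))
theorem Q4805 : ∀ i, i < 4805 → P i := stepQ 4804 Q4804 (allL N4804 (tt N8002 (iv F30252)) (tt N2842 F22363) (tt N8003 (iv F30260)) (tt N6384 (iv F26396)) (tt N2839 (iv D12770)) (tt N7858 (iv F30002)) (tt N8004 D17248))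
theorem Q4806 : ∀ i, i < 4806 → P i := stepQ 4805 Q4805 (allL N4805 (tt N4803 (iv F34607)) (tt N3919 F22364) (tt N4801 F34606) (tt N2840 F22365) (tt N8004 (iv F30263)) (tt N8005 D17249) (tt N2839 (iv D12771)))
theorem Q4807 : ∀ i, i < 4807 → P i := stepQ 4806 Q4806 (allL N4806 (tt N4706 F22366) (tt N8006 D17250) (tt N2841 F22367) (tt N8005 (iv F30265)) (tt N6388 (iv F26406)) (tt N2840 (iv D12772)) (tt N4704 F22368))
theorem Q4808 : ∀ i, i < 4808 → P i := stepQ 4807 Q4807 (allL N4807 (tt N8007 D17251) (tt N2841 (iv D12773)) (tt N8008 D17252) (tt N7839 (iv F34628)) (tt N7408 (iv F28605)) (tt N4807 F22369) (tt N8009 D17253))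
theorem Q4809 : ∀ i, i < 4809 → P i := stepQ 4808 Q4808 (allL N4808 (tt N7733 (iv F30285)) (tt N2843 (iv D12774)) (tt N4770 F22370) (tt N8010 D17255) (tt N7409 (iv F28608)) (tt N8011 D17256) (tt N8012 D17257))
theorem Q4810 : ∀ i, i < 4810 → P i := stepQ 4809 Q4809 (allL N4809 (tt N2845 F22371) (tt N8010 (iv F30272)) (tt N4866 (iv F22493)) (tt N2843 (iv D12775)) (tt N8013 D17258) (tt N3641 F22372) (tt N2845 F22373))
theorem Q4811 : ∀ i, i < 4811 → P i := stepQ 4810 Q4810 (allL N4810 (tt N2844 (iv D12776)) (tt N7736 (iv F30284)) (tt N2846 F22374) (tt N8014 D17260) (tt N7411 (iv F28613)) (tt N8015 D17261) (tt N8016 D17262))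
theorem Q4812 : ∀ i, i < 4812 → P i := stepQ 4811 Q4811 (allL N4811 (tt N8014 (iv F30280)) (tt N2845 F22375) (tt N8017 D17263) (tt N2844 (iv D12777)) (tt N8018 D17264) (tt N8019 D17265) (tt N8020 D17266))
theorem Q4813 : ∀ i, i < 4813 → P i := stepQ 4812 Q4812 (allL N4812 (tt N8015 (iv F30281)) (tt N3623 F22376) (tt N2848 F22377) (tt N8019 (iv F30294)) (tt N7413 (iv F28617)) (tt N2844 (iv D12778)) (tt N8021 D17267))
theorem Q4814 : ∀ i, i < 4814 → P i := stepQ 4813 Q4813 (allL N4813 (tt N8016 (iv F30290)) (tt N8012 (iv F30275)) (tt N2849 F22378) (tt N8020 (iv F30295)) (tt N7414 (iv F28619)) (tt N8022 D17268) (tt N2844 (iv D12779)))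
theorem Q4815 : ∀ i, i < 4815 → P i := stepQ 4814 Q4814 (allL N4814 (tt N4866 (iv F22492)) (tt N8023 D17269) (tt N2845 (iv D12780)) (tt N4863 (iv F22482)) (tt N8024 D17270) (tt N3642 F22379) (tt N4866 (iv F22495)))
theorem Q4816 : ∀ i, i < 4816 → P i := stepQ 4815 Q4815 (allL N4815 (tt N8013 (iv F30277)) (tt N8018 (iv F30292)) (tt N8024 (iv F30301)) (tt N7416 (iv F28621)) (tt N2845 (iv D12781)) (tt N3643 F22380) (tt N8013 (iv F30279)))
theorem Q4817 : ∀ i, i < 4817 → P i := stepQ 4816 Q4816 (allL N4816 (tt N7905 (iv F30068)) (tt N2846 (iv D12782)) (tt N7745 F30287) (tt N8025 D17271) (tt N7417 (iv F28623)) (tt N8026 D17272) (tt N8027 D17273))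
theorem Q4818 : ∀ i, i < 4818 → P i := stepQ 4817 Q4817 (allL N4817 (tt N2847 F22381) (tt N8025 (iv F30303)) (tt N8028 D17274) (tt N2846 (iv D12783)) (tt N8029 D17275) (tt N8030 D17276) (tt N8031 D17277))
theorem Q4819 : ∀ i, i < 4819 → P i := stepQ 4818 Q4818 (allL N4818 (tt N2848 F22382) (tt N8032 D17278) (tt N8015 (iv F30282)) (tt N8030 (iv F30307)) (tt N7419 (iv F28626)) (tt N2846 (iv D12784)) (tt N4825 (iv F22390)))
theorem Q4820 : ∀ i, i < 4820 → P i := stepQ 4819 Q4819 (allL N4819 (tt N2849 F22383) (tt N8033 D17279) (tt N8016 (iv F30291)) (tt N8031 (iv F30309)) (tt N7420 (iv F28628)) (tt N4824 (iv F22388)) (tt N2846 (iv D12785)))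
theorem Q4821 : ∀ i, i < 4821 → P i := stepQ 4820 Q4820 (allL N4820 (tt N8028 (iv F30304)) (tt N4880 (iv F22532)) (tt N2847 (iv D12786)) (tt N8034 D17280) (tt N8035 D17281) (tt N8036 D17282) (tt N5508 (iv F35034)))
theorem Q4822 : ∀ i, i < 4822 → P i := stepQ 4821 Q4821 (allL N4821 (tt N8029 (iv F30305)) (tt N2850 F22384) (tt N8035 (iv F30314)) (tt N7422 (iv F28631)) (tt N2847 (iv D12787)) (tt N8037 D17284) (tt N8038 D17285))
theorem Q4823 : ∀ i, i < 4823 → P i := stepQ 4822 Q4822 (allL N4822 (tt N8030 (iv F30306)) (tt N3620 F22385) (tt N8036 (iv F30315)) (tt N2848 F22386) (tt N8037 (iv F30318)) (tt N2847 (iv D12788)) (tt N8039 D17286))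
theorem Q4824 : ∀ i, i < 4824 → P i := stepQ 4823 Q4823 (allL N4823 (tt N8031 (iv F30308)) (tt N5505 (iv F35038)) (tt N5508 (iv F35033)) (tt N2849 F22387) (tt N8038 (iv F30319)) (tt N8040 D17287) (tt N2847 (iv D12789)))
theorem Q4825 : ∀ i, i < 4825 → P i := stepQ 4824 Q4824 (allL N4824 (tt N4825 (iv F22389)) (tt N8041 D17288) (tt N8021 (iv F30296)) (tt N8039 (iv F30320)) (tt N7425 (iv F28635)) (tt N4819 F22388) (tt N2848 (iv D12790)))
theorem Q4826 : ∀ i, i < 4826 → P i := stepQ 4825 Q4825 (allL N4825 (tt N4824 F22389) (tt N8042 D17289) (tt N8022 (iv F30299)) (tt N8040 (iv F30323)) (tt N7426 (iv F28638)) (tt N2849 (iv D12791)) (tt N4818 F22390))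
theorem Q4827 : ∀ i, i < 4827 → P i := stepQ 4826 Q4826 (allL N4826 (tt N2851 (iv D12792)) (tt N5017 F34989) (tt N7920 (iv F30085)) (tt N4872 (iv F22517)) (tt N8043 D17291) (tt N8044 D17292) (tt N8045 D17293))
theorem Q4828 : ∀ i, i < 4828 → P i := stepQ 4827 Q4827 (allL N4827 (tt N8043 (iv F30326)) (tt N2852 F22391) (tt N7921 (iv F30087)) (tt N8046 D17294) (tt N2851 (iv D12793)) (tt N8047 D17295) (tt N8048 D17296))
theorem Q4829 : ∀ i, i < 4829 → P i := stepQ 4828 Q4828 (allL N4828 (tt N8044 (iv F30327)) (tt N6153 (iv F25844)) (tt N7922 (iv F30088)) (tt N4874 (iv F22520)) (tt N8047 (iv F30330)) (tt N2851 (iv D12794)) (tt N8049 D17297))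
theorem Q4830 : ∀ i, i < 4830 → P i := stepQ 4829 Q4829 (allL N4829 (tt N8045 (iv F30328)) (tt N6603 (iv F26784)) (tt N7923 (iv F30089)) (tt N4875 (iv F22521)) (tt N8048 (iv F30331)) (tt N8050 D17298) (tt N2851 (iv D12795)))
theorem Q4831 : ∀ i, i < 4831 → P i := stepQ 4830 Q4830 (allL N4830 (tt N4885 (iv F22546)) (tt N8046 (iv F30329)) (tt N6599 (iv F26778)) (tt N2852 (iv D12796)) (tt N4876 (iv F22523)) (tt N6156 (iv F25858)) (tt N6599 (iv F26781)))
theorem Q4832 : ∀ i, i < 4832 → P i := stepQ 4831 Q4831 (allL N4831 (tt N2853 (iv D12797)) (tt N2854 F28890) (tt N4831 F22392) (tt N3014 F28830) (tt N2853 F28891) (tt N3013 F28831) (tt N4862 F34295))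
theorem Q4833 : ∀ i, i < 4833 → P i := stepQ 4832 Q4832 (allL N4832 (tt N3013 F28833) (tt N3017 (iv F28838)) (tt N4832 F22396) (tt N2947 F28834) (tt N3013 F28835) (tt N2853 (iv D12799)) (tt N2871 F34239))
theorem Q4834 : ∀ i, i < 4834 → P i := stepQ 4833 Q4833 (allL N4833 (tt N4862 F34241) (tt N2868 F22397) (tt N4833 F22398) (tt N5080 (iv F28828)) (tt N4862 (iv F34238)) (tt N4861 F34242) (tt N2853 (iv D12800)))
theorem Q4835 : ∀ i, i < 4835 → P i := stepQ 4834 Q4834 (allL N4834 (tt N2857 F22399) (tt N8051 D17301) (tt N2855 (iv D12801)) (tt N4776 F22402) (tt N3327 (iv F32874)) (tt N2857 F22400) (tt N3331 (iv F32897)))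
theorem Q4836 : ∀ i, i < 4836 → P i := stepQ 4835 Q4835 (allL N4835 (tt N3997 (iv F32779)) (tt N8052 D17303) (tt N2856 (iv D12803)) (tt N8053 D17304) (tt N3998 (iv F32794)) (tt N4082 F32776) (tt N4871 F22508))
theorem Q4837 : ∀ i, i < 4837 → P i := stepQ 4836 Q4836 (allL N4836 (tt N7864 (iv F39675)) (tt N2857 (iv D12806)) (tt N8052 (iv F30351)) (tt N7862 (iv F39674)) (tt N8054 D17310) (tt N8055 D17311) (tt N8056 D17312))
theorem Q4838 : ∀ i, i < 4838 → P i := stepQ 4837 Q4837 (allL N4837 (tt N4776 F22414) (tt N7862 (iv F39673)) (tt N4771 F22415) (tt N2857 (iv D12807)) (tt N8057 D17313) (tt N4776 F22416) (tt N3652 F22417))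
theorem Q4839 : ∀ i, i < 4839 → P i := stepQ 4838 Q4838 (allL N4838 (tt N3327 (iv F32873)) (tt N8054 (iv F30362)) (tt N2858 F22418) (tt N5548 (iv F32898)) (tt N2857 (iv D12808)) (tt N3327 (iv F32875)) (tt N3328 (iv F32900)))
theorem Q4840 : ∀ i, i < 4840 → P i := stepQ 4839 Q4839 (allL N4839 (tt N2860 F22420) (tt N8058 D17315) (tt N2859 (iv D12809)) (tt N8059 D17316) (tt N2904 F32607) (tt N4036 F32608) (tt N2892 F22421))
theorem Q4841 : ∀ i, i < 4841 → P i := stepQ 4840 Q4840 (allL N4840 (tt N8060 D17320) (tt N2860 (iv D12812)) (tt N2862 F22430) (tt N8061 D17321) (tt N4044 F32529) (tt N8062 D17323) (tt N8063 D17324))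
theorem Q4842 : ∀ i, i < 4842 → P i := stepQ 4841 Q4841 (allL N4841 (tt N8059 (iv F30370)) (tt N8061 (iv F30385)) (tt N6698 (iv F32708)) (tt N2860 (iv D12813)) (tt N8064 D17326) (tt N4037 F32618) (tt N8065 D17328))
theorem Q4843 : ∀ i, i < 4843 → P i := stepQ 4842 Q4842 (allL N4842 (tt N2892 F22433) (tt N8066 D17333) (tt N2861 F22434) (tt N8065 (iv F30396)) (tt N2902 F32604) (tt N4864 (iv F22488)) (tt N2860 (iv D12816)))
theorem Q4844 : ∀ i, i < 4844 → P i := stepQ 4843 Q4843 (allL N4843 (tt N2862 (iv D12819)) (tt N5996 (iv F32403)) (tt N8060 (iv F30384)) (tt N4788 F22441) (tt N8067 D17335) (tt N8068 D17336) (tt N8069 D17337))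
theorem Q4845 : ∀ i, i < 4845 → P i := stepQ 4844 Q4844 (allL N4844 (tt N8067 (iv F30404)) (tt N2863 F22442) (tt N4044 (iv F32510)) (tt N8070 D17338) (tt N2862 (iv D12820)) (tt N8071 D17339) (tt N8072 D17340))
theorem Q4846 : ∀ i, i < 4846 → P i := stepQ 4845 Q4845 (allL N4845 (tt N8068 (iv F30405)) (tt N6616 (iv F26844)) (tt N8062 (iv F30388)) (tt N4790 F22443) (tt N8071 (iv F30411)) (tt N2862 (iv D12821)) (tt N8073 D17341))
theorem Q4847 : ∀ i, i < 4847 → P i := stepQ 4846 Q4846 (allL N4846 (tt N8069 (iv F30407)) (tt N3648 F22444) (tt N8063 (iv F30389)) (tt N4791 F22445) (tt N8072 (iv F30413)) (tt N8074 D17342) (tt N2862 (iv D12822)))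
theorem Q4848 : ∀ i, i < 4848 → P i := stepQ 4847 Q4847 (allL N4847 (tt N2870 F22446) (tt N8070 (iv F30409)) (tt N4045 F32487) (tt N2863 (iv D12823)) (tt N4792 F22447) (tt N4045 F32488) (tt N3650 F22448))
theorem Q4849 : ∀ i, i < 4849 → P i := stepQ 4848 Q4848 (allL N4848 (tt N5130 (iv F32402)) (tt N2864 (iv D12824)) (tt N8075 D17344) (tt N5153 (iv F32406)) (tt N8076 D17346) (tt N5128 (iv F32401)) (tt N8077 D17348))
theorem Q4850 : ∀ i, i < 4850 → P i := stepQ 4849 Q4849 (allL N4849 (tt N2865 F22449) (tt N5153 (iv F32405)) (tt N8078 D17349) (tt N2864 (iv D12825)) (tt N8079 D17350) (tt N8080 D17351) (tt N8081 D17352))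
theorem Q4851 : ∀ i, i < 4851 → P i := stepQ 4850 Q4850 (allL N4850 (tt N2866 F22450) (tt N8076 (iv F30421)) (tt N2889 (iv F32531)) (tt N8082 D17353) (tt N2864 (iv D12826)) (tt N2886 F34345) (tt N4879 F34346))
theorem Q4852 : ∀ i, i < 4852 → P i := stepQ 4851 Q4851 (allL N4851 (tt N2867 F22452) (tt N6693 (iv F34301)) (tt N2894 F22453) (tt N8080 (iv F30425)) (tt N2886 (iv F34300)) (tt N2864 (iv D12827)) (tt N2884 F34245))
theorem Q4853 : ∀ i, i < 4853 → P i := stepQ 4852 Q4852 (allL N4852 (tt N2868 F22454) (tt N8083 D17357) (tt N2895 F22455) (tt N8081 (iv F30427)) (tt N4879 (iv F34334)) (tt N4859 (iv F22466)) (tt N2864 (iv D12828)))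
theorem Q4854 : ∀ i, i < 4854 → P i := stepQ 4853 Q4853 (allL N4853 (tt N8078 (iv F30422)) (tt N4782 F22456) (tt N2865 (iv D12829)) (tt N8084 D17358) (tt N8085 D17359) (tt N8086 D17360) (tt N8087 D17361))
theorem Q4855 : ∀ i, i < 4855 → P i := stepQ 4854 Q4854 (allL N4854 (tt N8079 (iv F30423)) (tt N2869 F22457) (tt N8085 (iv F30437)) (tt N8088 D17362) (tt N2865 (iv D12830)) (tt N8089 D17363) (tt N8090 D17364))
theorem Q4856 : ∀ i, i < 4856 → P i := stepQ 4855 Q4855 (allL N4855 (tt N8080 (iv F30424)) (tt N6644 (iv F26908)) (tt N8086 (iv F30438)) (tt N2867 F22458) (tt N8089 (iv F30442)) (tt N2865 (iv D12831)) (tt N8091 D17365))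
theorem Q4857 : ∀ i, i < 4857 → P i := stepQ 4856 Q4856 (allL N4856 (tt N8081 (iv F30426)) (tt N5080 (iv F28827)) (tt N8087 (iv F30439)) (tt N2868 F22459) (tt N8090 (iv F30443)) (tt N4884 F34203) (tt N2865 (iv D12832)))
theorem Q4858 : ∀ i, i < 4858 → P i := stepQ 4857 Q4857 (allL N4857 (tt N8082 (iv F30428)) (tt N2870 F22460) (tt N8092 D17367) (tt N2866 (iv D12833)) (tt N8088 (iv F30441)) (tt N8093 D17368) (tt N4882 F34386))
theorem Q4859 : ∀ i, i < 4859 → P i := stepQ 4858 Q4858 (allL N4858 (tt N2886 F34341) (tt N6648 (iv F26915)) (tt N2890 (iv F32532)) (tt N8093 (iv F30449)) (tt N2867 F22462) (tt N2866 (iv D12834)) (tt N2882 F34342))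
theorem Q4860 : ∀ i, i < 4860 → P i := stepQ 4859 Q4859 (allL N4859 (tt N2884 F34244) (tt N8094 D17372) (tt N2897 F22465) (tt N8091 (iv F30444)) (tt N2882 (iv F34298)) (tt N4852 F22466) (tt N2867 (iv D12836)))
theorem Q4861 : ∀ i, i < 4861 → P i := stepQ 4860 Q4860 (allL N4860 (tt N4792 F22470) (tt N8088 (iv F30440)) (tt N6641 (iv F26901)) (tt N2869 (iv D12838)) (tt N2870 F22471) (tt N6641 (iv F26904)) (tt N6119 (iv F25767)))
theorem Q4862 : ∀ i, i < 4862 → P i := stepQ 4861 Q4861 (allL N4861 (tt N2871 (iv D12839)) (tt N2872 (iv F34282)) (tt N4861 F22472) (tt N3015 (iv F34284)) (tt N2871 F34237) (tt N4833 (iv F34242)) (tt N3013 (iv F34243)))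
theorem Q4863 : ∀ i, i < 4863 → P i := stepQ 4862 Q4862 (allL N4862 (tt N4833 (iv F34241)) (tt N2885 F22475) (tt N4862 F22476) (tt N5079 (iv F34291)) (tt N4833 F34238) (tt N2871 (iv D12841)) (tt N4831 (iv F34295)))
theorem Q4864 : ∀ i, i < 4864 → P i := stepQ 4863 Q4863 (allL N4863 (tt N2875 F22479) (tt N8095 D17382) (tt N2873 (iv D12843)) (tt N4814 F22482) (tt N3349 F32649) (tt N3353 F32650) (tt N2875 F22481))
theorem Q4865 : ∀ i, i < 4865 → P i := stepQ 4864 Q4864 (allL N4864 (tt N3967 F32545) (tt N8096 D17384) (tt N2874 (iv D12845)) (tt N8097 D17385) (tt N3968 (iv F32599)) (tt N4842 F22488) (tt N4036 (iv F32580)))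
theorem Q4866 : ∀ i, i < 4866 → P i := stepQ 4865 Q4865 (allL N4865 (tt N7700 (iv F39567)) (tt N2875 (iv D12847)) (tt N8096 (iv F30482)) (tt N7698 (iv F39566)) (tt N8098 D17389) (tt N8099 D17390) (tt N8100 D17391))
theorem Q4867 : ∀ i, i < 4867 → P i := stepQ 4866 Q4866 (allL N4866 (tt N4814 F22492) (tt N7698 (iv F39565)) (tt N4809 F22493) (tt N2875 (iv D12848)) (tt N8101 D17392) (tt N3661 F22494) (tt N4814 F22495))
theorem Q4868 : ∀ i, i < 4868 → P i := stepQ 4867 Q4867 (allL N4867 (tt N3349 F32683) (tt N8098 (iv F30487)) (tt N2876 F22496) (tt N5592 (iv F32747)) (tt N2875 (iv D12849)) (tt N3350 F32684) (tt N3349 F32685))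
theorem Q4869 : ∀ i, i < 4869 → P i := stepQ 4868 Q4868 (allL N4868 (tt N2878 F22498) (tt N8102 D17394) (tt N2877 (iv D12850)) (tt N8103 D17395) (tt N2916 (iv F32704)) (tt N2906 F22499) (tt N4082 (iv F32730)))
theorem Q4870 : ∀ i, i < 4870 → P i := stepQ 4869 Q4869 (allL N4869 (tt N8104 D17397) (tt N2878 (iv D12852)) (tt N2880 F22504) (tt N8105 D17398) (tt N4090 (iv F32782)) (tt N8106 D17400) (tt N8107 D17401))
theorem Q4871 : ∀ i, i < 4871 → P i := stepQ 4870 Q4870 (allL N4870 (tt N8103 (iv F30495)) (tt N8105 (iv F30502)) (tt N6654 F32605) (tt N2878 (iv D12853)) (tt N8108 D17403) (tt N8109 D17404) (tt N4083 (iv F32665)))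
theorem Q4872 : ∀ i, i < 4872 → P i := stepQ 4871 Q4871 (allL N4871 (tt N2906 F22506) (tt N8110 D17409) (tt N2879 F22507) (tt N8109 (iv F30513)) (tt N2914 (iv F32783)) (tt N2878 (iv D12855)) (tt N4835 (iv F22508)))
theorem Q4873 : ∀ i, i < 4873 → P i := stepQ 4872 Q4872 (allL N4872 (tt N2880 (iv D12859)) (tt N5994 (iv F34988)) (tt N8104 (iv F30501)) (tt N4826 F22517) (tt N8111 D17412) (tt N8112 D17413) (tt N8113 D17414))
theorem Q4874 : ∀ i, i < 4874 → P i := stepQ 4873 Q4873 (allL N4873 (tt N8111 (iv F30527)) (tt N2881 F22518) (tt N4090 F32840) (tt N8114 D17415) (tt N2880 (iv D12860)) (tt N8115 D17416) (tt N8116 D17417))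
theorem Q4875 : ∀ i, i < 4875 → P i := stepQ 4874 Q4874 (allL N4874 (tt N8112 (iv F30528)) (tt N3656 F22519) (tt N8106 (iv F30505)) (tt N4828 F22520) (tt N8115 (iv F30535)) (tt N2880 (iv D12861)) (tt N8117 D17418))
theorem Q4876 : ∀ i, i < 4876 → P i := stepQ 4875 Q4875 (allL N4875 (tt N8113 (iv F30530)) (tt N6664 (iv F26985)) (tt N8107 (iv F30506)) (tt N4829 F22521) (tt N8116 (iv F30536)) (tt N8118 D17419) (tt N2880 (iv D12862)))
theorem Q4877 : ∀ i, i < 4877 → P i := stepQ 4876 Q4876 (allL N4876 (tt N2888 F22522) (tt N8114 (iv F30532)) (tt N4091 (iv F32919)) (tt N2881 (iv D12863)) (tt N4830 F22523) (tt N3659 F22524) (tt N4091 (iv F32920)))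
theorem Q4878 : ∀ i, i < 4878 → P i := stepQ 4877 Q4877 (allL N4877 (tt N5137 (iv F34390)) (tt N2882 (iv D12864)) (tt N8119 D17421) (tt N5172 (iv F34392)) (tt N8094 F34338) (tt N8120 D17424) (tt N5135 (iv F34396)))
theorem Q4879 : ∀ i, i < 4879 → P i := stepQ 4878 Q4878 (allL N4878 (tt N2883 F22525) (tt N5172 (iv F34391)) (tt N8121 D17426) (tt N2882 (iv D12865)) (tt N8122 D17427) (tt N8123 D17428) (tt N8093 (iv F34410)))
theorem Q4880 : ∀ i, i < 4880 → P i := stepQ 4879 Q4879 (allL N4879 (tt N2885 F22528) (tt N8124 D17433) (tt N2908 F22529) (tt N8123 (iv F30548)) (tt N4852 F34334) (tt N2882 (iv D12867)) (tt N4850 (iv F34346)))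
theorem Q4881 : ∀ i, i < 4881 → P i := stepQ 4880 Q4880 (allL N4880 (tt N8121 (iv F30545)) (tt N4820 F22532) (tt N2883 (iv D12869)) (tt N8125 D17435) (tt N8126 D17436) (tt N8127 D17437) (tt N8128 D17438))
theorem Q4882 : ∀ i, i < 4882 → P i := stepQ 4881 Q4881 (allL N4881 (tt N8122 (iv F30546)) (tt N2887 F22533) (tt N8126 (iv F30560)) (tt N8129 D17439) (tt N2883 (iv D12870)) (tt N8130 D17440) (tt N8131 D17441))
theorem Q4883 : ∀ i, i < 4883 → P i := stepQ 4882 Q4882 (allL N4882 (tt N8123 (iv F30547)) (tt N5079 F34333) (tt N8127 (iv F30561)) (tt N2885 F22534) (tt N8130 (iv F30565)) (tt N2883 (iv D12871)) (tt N4857 (iv F34386)))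
theorem Q4884 : ∀ i, i < 4884 → P i := stepQ 4883 Q4883 (allL N4883 (tt N8093 (iv F34409)) (tt N6689 (iv F27049)) (tt N8128 (iv F30562)) (tt N2886 F22535) (tt N8131 (iv F30566)) (tt N8082 (iv F34426)) (tt N2883 (iv D12872)))
theorem Q4885 : ∀ i, i < 4885 → P i := stepQ 4884 Q4884 (allL N4884 (tt N8091 (iv F34201)) (tt N2888 F22536) (tt N8132 D17444) (tt N2884 (iv D12873)) (tt N8129 (iv F30564)) (tt N4856 (iv F34203)) (tt N8080 (iv F34204)))
theorem Q4886 : ∀ i, i < 4886 → P i := stepQ 4885 Q4885 (allL N4885 (tt N4830 F22546) (tt N8129 (iv F30563)) (tt N6686 (iv F27042)) (tt N2887 (iv D12878)) (tt N2888 F22547) (tt N6128 (iv F25785)) (tt N6686 (iv F27045)))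
theorem Q4887 : ∀ i, i < 4887 → P i := stepQ 4886 Q4886 (allL N4886 (tt N4890 (iv F35396)) (tt N2889 (iv D12932)) (tt N8133 D17531) (tt N2893 F22690) (tt N2893 (iv F32625)) (tt N8134 D17533) (tt N4888 (iv F35397)))
theorem Q4888 : ∀ i, i < 4888 → P i := stepQ 4887 Q4887 (allL N4887 (tt N8135 D17546) (tt N2890 (iv D12939)) (tt N8136 D17547) (tt N2896 F22701) (tt N2896 (iv F32628)) (tt N2891 F22702) (tt N8134 (iv F35384)))
theorem Q4889 : ∀ i, i < 4889 → P i := stepQ 4888 Q4888 (allL N4888 (tt N2891 (iv D12944)) (tt N8137 D17555) (tt N8138 D17556) (tt N2898 F22713) (tt N2898 (iv F32777)) (tt N8135 (iv F30765)) (tt N4886 F35397))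
theorem Q4890 : ∀ i, i < 4890 → P i := stepQ 4889 Q4889 (allL N4889 (tt N8138 (iv F30779)) (tt N2892 F22714) (tt N2891 (iv D12945)) (tt N8139 D17558) (tt N2899 (iv F32686)) (tt N8136 (iv F30766)) (tt N8140 D17559))
theorem Q4891 : ∀ i, i < 4891 → P i := stepQ 4890 Q4890 (allL N4890 (tt N4886 F35396) (tt N2900 F22715) (tt N8140 (iv F30784)) (tt N2900 F22716) (tt N2900 (iv F32778)) (tt N8141 D17560) (tt N2891 (iv D12946)))
theorem Q4892 : ∀ i, i < 4892 → P i := stepQ 4891 Q4891 (allL N4891 (tt N8065 (iv F30394)) (tt N8139 (iv F30783)) (tt N8109 (iv F30512)) (tt N2892 (iv D12948)) (tt N8142 D17562) (tt N6654 F32606) (tt N8059 (iv F30371)))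
theorem Q4893 : ∀ i, i < 4893 → P i := stepQ 4892 Q4892 (allL N4892 (tt N4902 (iv F35408)) (tt N8075 (iv F30419)) (tt N2893 (iv D12950)) (tt N8143 D17567) (tt N8133 (iv F32634)) (tt N8144 D17569) (tt N4900 (iv F35409)))
theorem Q4894 : ∀ i, i < 4894 → P i := stepQ 4893 Q4893 (allL N4893 (tt N4903 (iv F35392)) (tt N8145 D17574) (tt N8144 (iv F30793)) (tt N8134 (iv F30741)) (tt N8134 (iv F32635)) (tt N2893 (iv D12952)) (tt N2896 (iv F35395)))
theorem Q4895 : ∀ i, i < 4895 → P i := stepQ 4894 Q4894 (allL N4894 (tt N8146 D17583) (tt N2894 (iv D12957)) (tt N8147 D17584) (tt N2909 (iv F34412)) (tt N2909 (iv F34413)) (tt N8145 (iv F30798)) (tt N2905 (iv F34411)))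
theorem Q4896 : ∀ i, i < 4896 → P i := stepQ 4895 Q4895 (allL N4895 (tt N8148 D17586) (tt N2895 (iv D12958)) (tt N8149 D17587) (tt N4915 (iv F34445)) (tt N4915 (iv F34446)) (tt N8150 D17588) (tt N4899 F35415))
theorem Q4897 : ∀ i, i < 4897 → P i := stepQ 4896 Q4896 (allL N4896 (tt N2896 (iv D12965)) (tt N8151 D17601) (tt N8152 D17602) (tt N8135 (iv F30764)) (tt N8135 (iv F32638)) (tt N2898 F22734) (tt N4903 (iv F22751)))
theorem Q4898 : ∀ i, i < 4898 → P i := stepQ 4897 Q4897 (allL N4897 (tt N8152 (iv F30828)) (tt N6652 (iv F26921)) (tt N2896 (iv D12966)) (tt N8153 D17603) (tt N8136 (iv F32639)) (tt N2899 F22735) (tt N8144 (iv F35394)))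
theorem Q4899 : ∀ i, i < 4899 → P i := stepQ 4898 Q4898 (allL N4898 (tt N4911 (iv F35404)) (tt N2897 (iv D12968)) (tt N8154 D17607) (tt N2907 (iv F34401)) (tt N2907 (iv F34402)) (tt N4909 (iv F35407)) (tt N8145 F35399))
theorem Q4900 : ∀ i, i < 4900 → P i := stepQ 4899 Q4899 (allL N4899 (tt N8155 D17625) (tt N2898 (iv D12976)) (tt N8156 D17626) (tt N8137 (iv F30778)) (tt N8137 (iv F32781)) (tt N8157 D17627) (tt N4895 (iv F35415)))
theorem Q4901 : ∀ i, i < 4901 → P i := stepQ 4900 Q4900 (allL N4900 (tt N2899 F22745) (tt N8158 D17629) (tt N2898 (iv D12977)) (tt N8159 D17630) (tt N8138 (iv F32691)) (tt N8152 (iv F30829)) (tt N4892 F35409))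
theorem Q4902 : ∀ i, i < 4902 → P i := stepQ 4901 Q4901 (allL N4901 (tt N8159 (iv F30856)) (tt N2903 F22748) (tt N8160 D17633) (tt N2899 (iv D12979)) (tt N8161 D17634) (tt N8153 (iv F30830)) (tt N8162 D17635))
theorem Q4903 : ∀ i, i < 4903 → P i := stepQ 4902 Q4902 (allL N4902 (tt N4892 F35408) (tt N8163 D17636) (tt N2900 F22749) (tt N8162 (iv F30861)) (tt N8140 (iv F32692)) (tt N8164 D17637) (tt N2899 (iv D12980)))
theorem Q4904 : ∀ i, i < 4904 → P i := stepQ 4903 Q4903 (allL N4903 (tt N4893 F35392) (tt N8165 D17638) (tt N8164 (iv F30864)) (tt N8141 (iv F30786)) (tt N8141 (iv F32713)) (tt N2900 (iv D12981)) (tt N4896 F22751))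
theorem Q4905 : ∀ i, i < 4905 → P i := stepQ 4904 Q4904 (allL N4904 (tt N5621 (iv F32601)) (tt N8166 D17646) (tt N2901 (iv D12986)) (tt N5962 (iv F32602)) (tt N3093 (iv F32594)) (tt N5213 (iv F32603)) (tt N3092 F32543))
theorem Q4906 : ∀ i, i < 4906 → P i := stepQ 4905 Q4905 (allL N4905 (tt N8167 D17648) (tt N2902 (iv D12987)) (tt N8166 (iv F30879)) (tt N6845 (iv F27382)) (tt N8066 (iv F32687)) (tt N8168 D17649) (tt N8169 D17650))
theorem Q4907 : ∀ i, i < 4907 → P i := stepQ 4906 Q4906 (allL N4906 (tt N6846 (iv F27383)) (tt N8161 (iv F30860)) (tt N6844 (iv F27381)) (tt N8142 (iv F32689)) (tt N2903 (iv D12988)) (tt N6658 (iv F26939)) (tt N8170 D17651))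
theorem Q4908 : ∀ i, i < 4908 → P i := stepQ 4907 Q4907 (allL N4907 (tt N4043 F22761) (tt N8171 D17652) (tt N4926 (iv F22891)) (tt N2904 F22762) (tt N8170 (iv F30882)) (tt N4040 (iv F22763)) (tt N2903 (iv D12989)))
theorem Q4909 : ∀ i, i < 4909 → P i := stepQ 4908 Q4908 (allL N4908 (tt N8163 (iv F35414)) (tt N2904 (iv D12990)) (tt N8058 (iv F30369)) (tt N8171 (iv F30884)) (tt N8058 (iv F32693)) (tt N8172 D17654) (tt N8163 (iv F30862)))
theorem Q4910 : ∀ i, i < 4910 → P i := stepQ 4909 Q4909 (allL N4909 (tt N2905 (iv D13029)) (tt N8150 (iv F35410)) (tt N8173 D17732) (tt N2910 F22842) (tt N2910 (iv F32909)) (tt N4898 F35407) (tt N8146 (iv F34419)))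
theorem Q4911 : ∀ i, i < 4911 → P i := stepQ 4910 Q4910 (allL N4910 (tt N8173 (iv F31014)) (tt N2906 F22843) (tt N2905 (iv D13030)) (tt N8174 D17734) (tt N2911 (iv F32834)) (tt N8175 D17735) (tt N8147 (iv F34421)))
theorem Q4912 : ∀ i, i < 4912 → P i := stepQ 4911 Q4911 (allL N4911 (tt N4898 F35404) (tt N2912 F22844) (tt N8175 (iv F31019)) (tt N2912 F22845) (tt N2912 (iv F32910)) (tt N2905 (iv D13031)) (tt N8176 D17736))
theorem Q4913 : ∀ i, i < 4913 → P i := stepQ 4912 Q4912 (allL N4912 (tt N8109 (iv F30511)) (tt N8174 (iv F31018)) (tt N8065 (iv F30395)) (tt N2906 (iv D13033)) (tt N8177 D17738) (tt N8103 (iv F30496)) (tt N6698 F32748))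
theorem Q4914 : ∀ i, i < 4914 → P i := stepQ 4913 Q4913 (allL N4913 (tt N4921 (iv F35405)) (tt N8119 (iv F30542)) (tt N2907 (iv D13035)) (tt N8178 D17743) (tt N8154 (iv F34400)) (tt N4919 (iv F35406)) (tt N8179 D17746))
theorem Q4915 : ∀ i, i < 4915 → P i := stepQ 4914 Q4914 (allL N4914 (tt N4922 (iv F35386)) (tt N8134 F35385) (tt N8179 (iv F31029)) (tt N8145 (iv F35389)) (tt N8145 (iv F35390)) (tt N2909 (iv F35391)) (tt N2907 (iv D13038)))
theorem Q4916 : ∀ i, i < 4916 → P i := stepQ 4915 Q4915 (allL N4915 (tt N8180 D17759) (tt N2908 (iv D13042)) (tt N8181 D17760) (tt N4895 F34445) (tt N4895 F34446) (tt N4918 F35413) (tt N8137 (iv F35403)))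
theorem Q4917 : ∀ i, i < 4917 → P i := stepQ 4916 Q4916 (allL N4916 (tt N2909 (iv D13051)) (tt N8182 D17780) (tt N8183 D17781) (tt N8146 (iv F34416)) (tt N8146 (iv F34417)) (tt N4922 (iv F22880)) (tt N2910 F22864))
theorem Q4918 : ∀ i, i < 4918 → P i := stepQ 4917 Q4917 (allL N4917 (tt N8183 (iv F31066)) (tt N6696 (iv F27062)) (tt N2909 (iv D13052)) (tt N8184 D17782) (tt N8147 (iv F34420)) (tt N8179 (iv F35388)) (tt N2911 F22865))
theorem Q4919 : ∀ i, i < 4919 → P i := stepQ 4918 Q4918 (allL N4918 (tt N8185 D17801) (tt N2910 (iv D13061)) (tt N8186 D17802) (tt N8150 (iv F35411)) (tt N8150 (iv F35412)) (tt N4915 (iv F35413)) (tt N8187 D17804))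
theorem Q4920 : ∀ i, i < 4920 → P i := stepQ 4919 Q4919 (allL N4919 (tt N2911 F22874) (tt N8188 D17805) (tt N2910 (iv D13062)) (tt N8189 D17806) (tt N8173 (iv F32850)) (tt N4913 F35406) (tt N8183 (iv F31067)))
theorem Q4921 : ∀ i, i < 4921 → P i := stepQ 4920 Q4920 (allL N4920 (tt N8189 (iv F31091)) (tt N2915 F22877) (tt N8190 D17809) (tt N2911 (iv D13064)) (tt N8191 D17810) (tt N8192 D17811) (tt N8184 (iv F31068)))
theorem Q4922 : ∀ i, i < 4922 → P i := stepQ 4921 Q4921 (allL N4921 (tt N4913 F35405) (tt N8193 D17812) (tt N2912 F22878) (tt N8192 (iv F31096)) (tt N8175 (iv F32851)) (tt N2911 (iv D13065)) (tt N8194 D17813))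
theorem Q4923 : ∀ i, i < 4923 → P i := stepQ 4922 Q4922 (allL N4922 (tt N4914 F35386) (tt N8195 D17814) (tt N8194 (iv F31099)) (tt N8176 (iv F31021)) (tt N8176 (iv F32935)) (tt N4916 F22880) (tt N2912 (iv D13066)))
theorem Q4924 : ∀ i, i < 4924 → P i := stepQ 4923 Q4923 (allL N4923 (tt N5654 (iv F32913)) (tt N8196 D17820) (tt N2913 (iv D13071)) (tt N5977 (iv F34547)) (tt N3103 F32882) (tt N3102 (iv F32915)) (tt N5205 (iv F32916)))
theorem Q4925 : ∀ i, i < 4925 → P i := stepQ 4924 Q4924 (allL N4924 (tt N8197 D17822) (tt N2914 (iv D13072)) (tt N8196 (iv F31108)) (tt N6771 (iv F27224)) (tt N8110 (iv F32796)) (tt N8198 D17823) (tt N8199 D17824))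
theorem Q4926 : ∀ i, i < 4926 → P i := stepQ 4925 Q4925 (allL N4925 (tt N6772 (iv F27225)) (tt N8191 (iv F31095)) (tt N6770 (iv F27223)) (tt N8177 (iv F32795)) (tt N2915 (iv D13073)) (tt N8200 D17825) (tt N6700 (iv F27073)))
theorem Q4927 : ∀ i, i < 4927 → P i := stepQ 4926 Q4926 (allL N4926 (tt N4089 F22890) (tt N8201 D17826) (tt N4907 F22891) (tt N2916 F22892) (tt N8200 (iv F31112)) (tt N2915 (iv D13074)) (tt N4086 F22893))
theorem Q4928 : ∀ i, i < 4928 → P i := stepQ 4927 Q4927 (allL N4927 (tt N8193 (iv F33013)) (tt N2916 (iv D13075)) (tt N8102 (iv F30494)) (tt N8201 (iv F31114)) (tt N8102 (iv F32741)) (tt N8193 (iv F31097)) (tt N8202 D17828))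
theorem Q4929 : ∀ i, i < 4929 → P i := stepQ 4928 Q4928 (allL N4928 (tt N2918 F23333) (tt N6417 (iv F29020)) (tt N2931 F23334) (tt N5743 (iv F25008)) (tt N2922 F23335) (tt N2917 (iv D13283)) (tt N4931 (iv F23345)))
theorem Q4930 : ∀ i, i < 4930 → P i := stepQ 4929 Q4929 (allL N4929 (tt N2919 F23336) (tt N6448 (iv F34440)) (tt N2932 F23337) (tt N5744 (iv F25012)) (tt N2923 F23338) (tt N4930 (iv F23341)) (tt N2917 (iv D13284)))
theorem Q4931 : ∀ i, i < 4931 → P i := stepQ 4930 Q4930 (allL N4930 (tt N4931 (iv F23342)) (tt N8203 D18155) (tt N2937 F23339) (tt N5745 (iv F25015)) (tt N2927 F23340) (tt N4929 F23341) (tt N2918 (iv D13285)))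
theorem Q4932 : ∀ i, i < 4932 → P i := stepQ 4931 Q4931 (allL N4931 (tt N4930 F23342) (tt N8204 D18156) (tt N2939 F23343) (tt N5746 (iv F25020)) (tt N2928 F23344) (tt N2919 (iv D13286)) (tt N4928 F23345))
theorem Q4933 : ∀ i, i < 4933 → P i := stepQ 4932 Q4932 (allL N4932 (tt N2925 F23350) (tt N4494 (iv F29023)) (tt N5083 (iv F23713)) (tt N2922 F23351) (tt N5747 (iv F25025)) (tt N2921 (iv D13290)) (tt N4937 (iv F23360)))
theorem Q4934 : ∀ i, i < 4934 → P i := stepQ 4933 Q4933 (allL N4933 (tt N2926 F23352) (tt N4529 F34450) (tt N5084 (iv F23716)) (tt N2923 F23353) (tt N5748 (iv F25028)) (tt N4936 (iv F23357)) (tt N2921 (iv D13291)))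
theorem Q4935 : ∀ i, i < 4935 → P i := stepQ 4934 Q4934 (allL N4934 (tt N5083 (iv F23712)) (tt N4099 (iv F32465)) (tt N2925 F23354) (tt N4100 F32462) (tt N5752 (iv F25033)) (tt N2924 (iv D13294)) (tt N8205 D18163))
theorem Q4936 : ∀ i, i < 4936 → P i := stepQ 4935 Q4935 (allL N4935 (tt N5084 (iv F23715)) (tt N4115 (iv F34271)) (tt N2926 F23355) (tt N4116 F34224) (tt N5753 (iv F25035)) (tt N8206 D18165) (tt N2924 (iv D13295)))
theorem Q4937 : ∀ i, i < 4937 → P i := stepQ 4936 Q4936 (allL N4936 (tt N4937 (iv F23358)) (tt N7674 (iv F35131)) (tt N8205 (iv F31750)) (tt N2927 F23356) (tt N5754 (iv F25037)) (tt N4933 F23357) (tt N2925 (iv D13296)))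
theorem Q4938 : ∀ i, i < 4938 → P i := stepQ 4937 Q4937 (allL N4937 (tt N4936 F23358) (tt N7838 (iv F35126)) (tt N8206 (iv F31756)) (tt N2928 F23359) (tt N5755 (iv F25041)) (tt N2926 (iv D13297)) (tt N4932 F23360))
theorem Q4939 : ∀ i, i < 4939 → P i := stepQ 4938 Q4938 (allL N4938 (tt N7670 (iv F35130)) (tt N2927 (iv D13298)) (tt N8207 D18169) (tt N7674 (iv F35132)) (tt N8203 (iv F31736)) (tt N8208 D18170) (tt N4938 F23361))
theorem Q4940 : ∀ i, i < 4940 → P i := stepQ 4939 Q4939 (allL N4939 (tt N7834 (iv F35129)) (tt N2928 (iv D13299)) (tt N8209 D18172) (tt N7838 (iv F35127)) (tt N8204 (iv F31738)) (tt N4939 F23362) (tt N8210 D18173))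
theorem Q4941 : ∀ i, i < 4941 → P i := stepQ 4940 Q4940 (allL N4940 (tt N2929 (iv D13300)) (tt N3106 F23363) (tt N2985 (iv F23365)) (tt N8211 D18174) (tt N2946 F23364) (tt N8212 D18175) (tt N8213 D18176))
theorem Q4942 : ∀ i, i < 4942 → P i := stepQ 4941 Q4941 (allL N4941 (tt N2985 F23366) (tt N2986 F23367) (tt N2929 (iv D13301)) (tt N2985 (iv F23369)) (tt N2947 F23368) (tt N6118 F29029) (tt N6127 (iv F34290)))
theorem Q4943 : ∀ i, i < 4943 → P i := stepQ 4942 Q4942 (allL N4942 (tt N8211 (iv F31773)) (tt N2930 F23370) (tt N3670 F23372) (tt N2929 (iv D13302)) (tt N3107 F23371) (tt N8214 D18178) (tt N8215 D18179))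
theorem Q4944 : ∀ i, i < 4944 → P i := stepQ 4943 Q4943 (allL N4943 (tt N8212 (iv F31777)) (tt N6054 F29027) (tt N6118 (iv F29028)) (tt N8214 (iv F31788)) (tt N2948 F23373) (tt N2929 (iv D13303)) (tt N8216 D18180))
theorem Q4945 : ∀ i, i < 4945 → P i := stepQ 4944 Q4944 (allL N4944 (tt N8213 (iv F31780)) (tt N6092 (iv F34380)) (tt N6127 (iv F34287)) (tt N8215 (iv F31791)) (tt N2949 F23374) (tt N8217 D18182) (tt N2929 (iv D13304)))
theorem Q4946 : ∀ i, i < 4946 → P i := stepQ 4945 Q4945 (allL N4945 (tt N2934 F23375) (tt N8218 D18183) (tt N3664 F23376) (tt N2931 F23377) (tt N3110 F23378) (tt N2930 (iv D13305)) (tt N4954 (iv F23405)))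
theorem Q4947 : ∀ i, i < 4947 → P i := stepQ 4946 Q4946 (allL N4946 (tt N2935 F23379) (tt N8219 D18184) (tt N3665 F23380) (tt N2932 F23381) (tt N3111 F23382) (tt N4952 (iv F23398)) (tt N2930 (iv D13306)))
theorem Q4948 : ∀ i, i < 4948 → P i := stepQ 4947 Q4947 (allL N4947 (tt N8220 D18185) (tt N2931 (iv D13307)) (tt N5965 F29021) (tt N8218 (iv F31800)) (tt N2950 F23383) (tt N6054 (iv F29025)) (tt N8221 D18186))
theorem Q4949 : ∀ i, i < 4949 → P i := stepQ 4948 Q4948 (allL N4948 (tt N8222 D18187) (tt N2932 (iv D13308)) (tt N5980 (iv F34455)) (tt N8219 (iv F31802)) (tt N2951 F23384) (tt N8223 D18189) (tt N6092 (iv F34381)))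
theorem Q4950 : ∀ i, i < 4950 → P i := stepQ 4949 Q4949 (allL N4949 (tt N3664 F23385) (tt N8224 D18190) (tt N2934 F23386) (tt N3662 F23387) (tt N3114 F23388) (tt N2933 (iv D13309)) (tt N6167 (iv F25954)))
theorem Q4951 : ∀ i, i < 4951 → P i := stepQ 4950 Q4950 (allL N4950 (tt N3665 F23389) (tt N8225 D18191) (tt N2935 F23390) (tt N3663 F23391) (tt N3115 F23392) (tt N6165 (iv F25946)) (tt N2933 (iv D13310)))
theorem Q4952 : ∀ i, i < 4952 → P i := stepQ 4951 Q4951 (allL N4951 (tt N8226 D18192) (tt N2934 (iv D13311)) (tt N8227 D18193) (tt N2936 F23393) (tt N3116 F23394) (tt N2940 F23395) (tt N8228 D18194))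
theorem Q4953 : ∀ i, i < 4953 → P i := stepQ 4952 Q4952 (allL N4952 (tt N4954 (iv F23402)) (tt N8229 D18195) (tt N6167 (iv F25951)) (tt N2937 F23396) (tt N3117 F23397) (tt N4946 F23398) (tt N2934 (iv D13312)))
theorem Q4954 : ∀ i, i < 4954 → P i := stepQ 4953 Q4953 (allL N4953 (tt N8230 D18196) (tt N2935 (iv D13313)) (tt N8231 D18197) (tt N2938 F23399) (tt N3118 F23400) (tt N8232 D18198) (tt N2941 F23401))
theorem Q4955 : ∀ i, i < 4955 → P i := stepQ 4954 Q4954 (allL N4954 (tt N4952 F23402) (tt N8233 D18199) (tt N6165 (iv F25943)) (tt N2939 F23403) (tt N3119 F23404) (tt N2935 (iv D13314)) (tt N4945 F23405))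
theorem Q4956 : ∀ i, i < 4956 → P i := stepQ 4955 Q4955 (allL N4955 (tt N2936 (iv D13315)) (tt N7206 (iv F28185)) (tt N4955 F23406) (tt N8226 (iv F31815)) (tt N2952 F23407) (tt N2942 F23408) (tt N4968 (iv F23466)))
theorem Q4957 : ∀ i, i < 4957 → P i := stepQ 4956 Q4956 (allL N4956 (tt N4968 (iv F23463)) (tt N8234 D18200) (tt N4956 F23409) (tt N8228 (iv F31823)) (tt N2953 F23410) (tt N4967 (iv F23462)) (tt N2936 (iv D13316)))
theorem Q4958 : ∀ i, i < 4958 → P i := stepQ 4957 Q4957 (allL N4957 (tt N8235 D18201) (tt N2937 (iv D13317)) (tt N8236 D18202) (tt N8229 (iv F31825)) (tt N2954 F23411) (tt N8237 D18203) (tt N8234 (iv F31840)))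
theorem Q4959 : ∀ i, i < 4959 → P i := stepQ 4958 Q4958 (allL N4958 (tt N2938 (iv D13318)) (tt N7307 (iv F34634)) (tt N4958 F23412) (tt N8230 (iv F31827)) (tt N2955 F23413) (tt N4970 (iv F23475)) (tt N2944 F23414))
theorem Q4960 : ∀ i, i < 4960 → P i := stepQ 4959 Q4959 (allL N4959 (tt N4970 (iv F23472)) (tt N8238 D18205) (tt N4959 F23415) (tt N8232 (iv F31835)) (tt N2956 F23416) (tt N2938 (iv D13319)) (tt N4969 (iv F23471)))
theorem Q4961 : ∀ i, i < 4961 → P i := stepQ 4960 Q4960 (allL N4960 (tt N8239 D18206) (tt N2939 (iv D13320)) (tt N8240 D18207) (tt N8233 (iv F31837)) (tt N2957 F23417) (tt N8238 (iv F31847)) (tt N8241 D18208))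
theorem Q4962 : ∀ i, i < 4962 → P i := stepQ 4961 Q4961 (allL N4961 (tt N2940 (iv D13321)) (tt N7039 F27820) (tt N3709 (iv F23420)) (tt N2942 F23418) (tt N3128 F23419) (tt N8226 (iv F31817)) (tt N8242 D18209))
theorem Q4963 : ∀ i, i < 4963 → P i := stepQ 4962 Q4962 (allL N4962 (tt N3709 F23421) (tt N3129 F23422) (tt N2940 (iv D13322)) (tt N3721 F23424) (tt N3129 F23423) (tt N8227 (iv F31821)) (tt N8243 D18210))
theorem Q4964 : ∀ i, i < 4964 → P i := stepQ 4963 Q4963 (allL N4963 (tt N8242 (iv F31852)) (tt N5272 (iv F24076)) (tt N8243 (iv F31858)) (tt N2943 F23425) (tt N3130 F23426) (tt N8244 D18211) (tt N2940 (iv D13323)))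
theorem Q4965 : ∀ i, i < 4965 → P i := stepQ 4964 Q4964 (allL N4964 (tt N2941 (iv D13324)) (tt N7067 (iv F34654)) (tt N3715 (iv F23429)) (tt N2944 F23427) (tt N3132 F23428) (tt N8245 D18213) (tt N8230 (iv F31829)))
theorem Q4966 : ∀ i, i < 4966 → P i := stepQ 4965 Q4965 (allL N4965 (tt N3715 F23452) (tt N3133 F23453) (tt N2941 (iv D13325)) (tt N3734 F23455) (tt N3133 F23454) (tt N8246 D18214) (tt N8231 (iv F31833)))
theorem Q4967 : ∀ i, i < 4967 → P i := stepQ 4966 Q4966 (allL N4966 (tt N8245 (iv F31868)) (tt N5264 (iv F24055)) (tt N8246 (iv F31874)) (tt N2945 F23456) (tt N3134 F23457) (tt N2941 (iv D13326)) (tt N8247 D18215))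
theorem Q4968 : ∀ i, i < 4968 → P i := stepQ 4967 Q4967 (allL N4967 (tt N2943 F23459) (tt N8248 D18216) (tt N4967 F23460) (tt N8242 (iv F31854)) (tt N2959 F23461) (tt N4956 F23462) (tt N2942 (iv D13328)))
theorem Q4969 : ∀ i, i < 4969 → P i := stepQ 4968 Q4968 (allL N4968 (tt N4956 F23463) (tt N8249 D18217) (tt N4968 F23464) (tt N8244 (iv F31862)) (tt N2960 F23465) (tt N2943 (iv D13329)) (tt N4955 F23466))
theorem Q4970 : ∀ i, i < 4970 → P i := stepQ 4969 Q4969 (allL N4969 (tt N2945 F23468) (tt N8250 D18222) (tt N4969 F23469) (tt N8245 (iv F31870)) (tt N2962 F23470) (tt N2944 (iv D13331)) (tt N4959 F23471))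
theorem Q4971 : ∀ i, i < 4971 → P i := stepQ 4970 Q4970 (allL N4970 (tt N4959 F23472) (tt N8251 D18223) (tt N4970 F23473) (tt N8247 (iv F31878)) (tt N2963 F23474) (tt N4958 F23475) (tt N2945 (iv D13332)))
theorem Q4972 : ∀ i, i < 4972 → P i := stepQ 4971 Q4971 (allL N4971 (tt N2948 F23476) (tt N6630 (iv F29230)) (tt N3014 F23477) (tt N3192 F23478) (tt N8212 (iv F31779)) (tt N2946 (iv D13333)) (tt N4974 (iv F23498)))
theorem Q4973 : ∀ i, i < 4973 → P i := stepQ 4972 Q4972 (allL N4972 (tt N2949 F23479) (tt N6678 (iv F34168)) (tt N3015 F23480) (tt N3193 F23481) (tt N8213 (iv F31782)) (tt N4973 (iv F23493)) (tt N2946 (iv D13334)))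
theorem Q4974 : ∀ i, i < 4974 → P i := stepQ 4973 Q4973 (allL N4973 (tt N4974 (iv F23496)) (tt N8252 D18226) (tt N5080 (iv F23688)) (tt N3195 F23492) (tt N8216 (iv F31793)) (tt N4972 F23493) (tt N2948 (iv D13339)))
theorem Q4975 : ∀ i, i < 4975 → P i := stepQ 4974 Q4974 (allL N4974 (tt N4973 F23496) (tt N8253 D18230) (tt N5079 (iv F23684)) (tt N3197 F23497) (tt N8217 (iv F31798)) (tt N2949 (iv D13341)) (tt N4971 F23498))
theorem Q4976 : ∀ i, i < 4976 → P i := stepQ 4975 Q4975 (allL N4975 (tt N2950 (iv D13342)) (tt N8254 D18231) (tt N5964 F29236) (tt N3198 F23499) (tt N8220 (iv F31804)) (tt N6047 (iv F29237)) (tt N8255 D18232))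
theorem Q4977 : ∀ i, i < 4977 → P i := stepQ 4976 Q4976 (allL N4976 (tt N8255 (iv F31900)) (tt N4988 (iv F23513)) (tt N5966 (iv F29233)) (tt N3200 F23500) (tt N8221 (iv F31805)) (tt N8256 D18233) (tt N2950 (iv D13344)))
theorem Q4978 : ∀ i, i < 4978 → P i := stepQ 4977 Q4977 (allL N4977 (tt N2951 (iv D13345)) (tt N8257 D18234) (tt N5979 (iv F34454)) (tt N3201 F23501) (tt N8222 (iv F31806)) (tt N8258 D18236) (tt N6085 (iv F34378)))
theorem Q4979 : ∀ i, i < 4979 → P i := stepQ 4978 Q4978 (allL N4978 (tt N8258 (iv F31910)) (tt N4983 (iv F23507)) (tt N5981 (iv F34456)) (tt N3203 F23502) (tt N8223 (iv F31808)) (tt N2951 (iv D13347)) (tt N8259 D18239))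
theorem Q4980 : ∀ i, i < 4980 → P i := stepQ 4979 Q4979 (allL N4979 (tt N8260 D18240) (tt N2952 (iv D13348)) (tt N7372 (iv F28518)) (tt N3204 F23503) (tt N7206 (iv F28187)) (tt N7205 F28184) (tt N8261 D18241))
theorem Q4981 : ∀ i, i < 4981 → P i := stepQ 4980 Q4980 (allL N4980 (tt N8262 D18242) (tt N2953 (iv D13349)) (tt N8263 D18243) (tt N3208 F23504) (tt N8234 (iv F31839)) (tt N8264 D18244) (tt N2954 F23505))
theorem Q4982 : ∀ i, i < 4982 → P i := stepQ 4981 Q4981 (allL N4981 (tt N2954 (iv D13350)) (tt N8265 D18245) (tt N8266 D18246) (tt N3209 F23506) (tt N8235 (iv F31841)) (tt N8267 D18247) (tt N8262 (iv F31920)))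
theorem Q4983 : ∀ i, i < 4983 → P i := stepQ 4982 Q4982 (allL N4982 (tt N8266 (iv F31925)) (tt N8207 (iv F31765)) (tt N2954 (iv D13351)) (tt N8268 D18248) (tt N8236 (iv F31842)) (tt N8269 D18249) (tt N8263 (iv F31922)))
theorem Q4984 : ∀ i, i < 4984 → P i := stepQ 4983 Q4983 (allL N4983 (tt N8267 (iv F31926)) (tt N4978 F23507) (tt N8269 (iv F31931)) (tt N3211 F23508) (tt N8237 (iv F31844)) (tt N2954 (iv D13352)) (tt N8270 D18250))
theorem Q4985 : ∀ i, i < 4985 → P i := stepQ 4984 Q4984 (allL N4984 (tt N8271 D18251) (tt N2955 (iv D13353)) (tt N7403 (iv F34624)) (tt N3212 F23509) (tt N7307 (iv F34635)) (tt N8272 D18253) (tt N7305 (iv F34637)))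
theorem Q4986 : ∀ i, i < 4986 → P i := stepQ 4985 Q4985 (allL N4985 (tt N8273 D18255) (tt N2956 (iv D13354)) (tt N8274 D18256) (tt N3216 F23510) (tt N8238 (iv F31846)) (tt N2957 F23511) (tt N8275 D18257))
theorem Q4987 : ∀ i, i < 4987 → P i := stepQ 4986 Q4986 (allL N4986 (tt N2957 (iv D13355)) (tt N8276 D18258) (tt N8277 D18259) (tt N3217 F23512) (tt N8239 (iv F31848)) (tt N8273 (iv F31941)) (tt N8278 D18260))
theorem Q4988 : ∀ i, i < 4988 → P i := stepQ 4987 Q4987 (allL N4987 (tt N8277 (iv F31946)) (tt N8209 (iv F31769)) (tt N2957 (iv D13356)) (tt N8279 D18261) (tt N8240 (iv F31849)) (tt N8274 (iv F31943)) (tt N8280 D18262))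
theorem Q4989 : ∀ i, i < 4989 → P i := stepQ 4988 Q4988 (allL N4988 (tt N8278 (iv F31947)) (tt N4976 F23513) (tt N8280 (iv F31952)) (tt N3219 F23514) (tt N8241 (iv F31851)) (tt N8281 D18263) (tt N2957 (iv D13357)))
theorem Q4990 : ∀ i, i < 4990 → P i := stepQ 4989 Q4989 (allL N4989 (tt N2958 (iv D13358)) (tt N3220 F23515) (tt N7038 (iv F27826)) (tt N3220 F23516) (tt N7037 F27825) (tt N7191 (iv F28153)) (tt N8282 D18264))
theorem Q4991 : ∀ i, i < 4991 → P i := stepQ 4990 Q4990 (allL N4990 (tt N8282 (iv F31956)) (tt N8283 D18265) (tt N7041 (iv F27838)) (tt N3223 F23519) (tt N7040 (iv F27837)) (tt N8284 D18266) (tt N2958 (iv D13361)))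
theorem Q4992 : ∀ i, i < 4992 → P i := stepQ 4991 Q4991 (allL N4991 (tt N8285 D18267) (tt N2959 (iv D13362)) (tt N8286 D18268) (tt N3227 F23520) (tt N8248 (iv F31881)) (tt N8287 D18269) (tt N8283 (iv F31962)))
theorem Q4993 : ∀ i, i < 4993 → P i := stepQ 4992 Q4992 (allL N4992 (tt N8288 D18270) (tt N2960 (iv D13363)) (tt N8289 D18271) (tt N3235 F23521) (tt N8249 (iv F31882)) (tt N5512 (iv F24486)) (tt N8290 D18272))
theorem Q4994 : ∀ i, i < 4994 → P i := stepQ 4993 Q4993 (allL N4993 (tt N2961 (iv D13364)) (tt N3242 F23522) (tt N7066 (iv F34649)) (tt N3242 F23523) (tt N7065 (iv F34652)) (tt N8291 D18274) (tt N7292 (iv F34640)))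
theorem Q4995 : ∀ i, i < 4995 → P i := stepQ 4994 Q4994 (allL N4994 (tt N8291 (iv F31979)) (tt N8292 D18279) (tt N7069 (iv F34650)) (tt N3244 F23525) (tt N7068 (iv F34656)) (tt N2961 (iv D13366)) (tt N8293 D18280))
theorem Q4996 : ∀ i, i < 4996 → P i := stepQ 4995 Q4995 (allL N4995 (tt N8294 D18282) (tt N2962 (iv D13368)) (tt N8295 D18283) (tt N3249 F23527) (tt N8250 (iv F31889)) (tt N8292 (iv F31987)) (tt N8296 D18284))
theorem Q4997 : ∀ i, i < 4997 → P i := stepQ 4996 Q4996 (allL N4996 (tt N8297 D18285) (tt N2963 (iv D13369)) (tt N8298 D18286) (tt N3257 F23528) (tt N8251 (iv F31890)) (tt N8299 D18287) (tt N5472 (iv F24430)))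
theorem Q4998 : ∀ i, i < 4998 → P i := stepQ 4997 Q4997 (allL N4997 (tt N8300 D18288) (tt N2964 (iv D13370)) (tt N8301 D18289) (tt N2966 F23529) (tt N2973 F23530) (tt N2966 F23531) (tt N8302 D18290))
theorem Q4999 : ∀ i, i < 4999 → P i := stepQ 4998 Q4998 (allL N4998 (tt N8303 D18291) (tt N2965 (iv D13371)) (tt N8304 D18292) (tt N2967 F23532) (tt N2975 F23533) (tt N8305 D18293) (tt N2967 F23534))
theorem Q5000 : ∀ i, i < 5000 → P i := stepQ 4999 Q4999 (allL N4999 (tt N2966 (iv D13372)) (tt N8306 D18294) (tt N8307 D18295) (tt N8300 (iv F32002)) (tt N2977 F23535) (tt N8300 (iv F32004)) (tt N8308 D18296))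
theorem Q5001 : ∀ i, i < 5001 → P i := stepQ 5000 Q5000 (allL N5000 (tt N8307 (iv F32024)) (tt N2968 F23536) (tt N2966 (iv D13373)) (tt N8309 D18297) (tt N2978 F23537) (tt N8301 (iv F32010)) (tt N8310 D18298))
theorem Q5002 : ∀ i, i < 5002 → P i := stepQ 5001 Q5001 (allL N5001 (tt N8308 (iv F32029)) (tt N5070 (iv F23658)) (tt N8310 (iv F32036)) (tt N8302 (iv F32012)) (tt N2979 F23538) (tt N8311 D18299) (tt N2966 (iv D13374)))
theorem Q5003 : ∀ i, i < 5003 → P i := stepQ 5002 Q5002 (allL N5002 (tt N2967 (iv D13375)) (tt N8312 D18300) (tt N8313 D18301) (tt N8303 (iv F32014)) (tt N2980 F23539) (tt N8314 D18302) (tt N8303 (iv F32016)))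
theorem Q5004 : ∀ i, i < 5004 → P i := stepQ 5003 Q5003 (allL N5003 (tt N8313 (iv F32043)) (tt N2969 F23540) (tt N2967 (iv D13376)) (tt N8315 D18303) (tt N2981 F23541) (tt N8316 D18304) (tt N8304 (iv F32019)))
theorem Q5005 : ∀ i, i < 5005 → P i := stepQ 5004 Q5004 (allL N5004 (tt N8314 (iv F32045)) (tt N5060 (iv F23639)) (tt N8316 (iv F32049)) (tt N8305 (iv F32020)) (tt N2982 F23542) (tt N2967 (iv D13377)) (tt N8317 D18305))
theorem Q5006 : ∀ i, i < 5006 → P i := stepQ 5005 Q5005 (allL N5005 (tt N5005 F23543) (tt N8309 (iv F32033)) (tt N5318 (iv F24162)) (tt N2968 (iv D13378)) (tt N8318 D18306) (tt N5005 F23544) (tt N5318 (iv F24161)))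
theorem Q5007 : ∀ i, i < 5007 → P i := stepQ 5006 Q5006 (allL N5006 (tt N5006 F23545) (tt N8315 (iv F32048)) (tt N5338 (iv F24197)) (tt N2969 (iv D13379)) (tt N8319 D18307) (tt N5338 (iv F24195)) (tt N5006 F23546))
theorem Q5008 : ∀ i, i < 5008 → P i := stepQ 5007 Q5007 (allL N5007 (tt N8320 D18309) (tt N2971 (iv D13382)) (tt N8321 D18310) (tt N3040 F23551) (tt N2995 F23552) (tt N6558 (iv F29254)) (tt N8322 D18311))
theorem Q5009 : ∀ i, i < 5009 → P i := stepQ 5008 Q5008 (allL N5008 (tt N8323 D18312) (tt N2972 (iv D13383)) (tt N8324 D18313) (tt N3042 F23553) (tt N2997 F23554) (tt N8325 D18314) (tt N6597 (iv F34318)))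
theorem Q5010 : ∀ i, i < 5010 → P i := stepQ 5009 Q5009 (allL N5009 (tt N2973 (iv D13384)) (tt N3571 F28803) (tt N8326 D18315) (tt N3555 F28804) (tt N8300 (iv F32003)) (tt N2977 F23555) (tt N5020 (iv F23567)))
theorem Q5011 : ∀ i, i < 5011 → P i := stepQ 5010 Q5010 (allL N5010 (tt N8326 (iv F32122)) (tt N5010 F23556) (tt N2973 (iv D13385)) (tt N8327 D18316) (tt N8301 (iv F32009)) (tt N2978 F23557) (tt N8328 D18317))
theorem Q5012 : ∀ i, i < 5012 → P i := stepQ 5011 Q5011 (allL N5011 (tt N5020 (iv F23566)) (tt N7550 (iv F39537)) (tt N8328 (iv F32132)) (tt N5992 (iv F25545)) (tt N8302 (iv F32013)) (tt N5017 (iv F23563)) (tt N2973 (iv D13386)))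
theorem Q5013 : ∀ i, i < 5013 → P i := stepQ 5012 Q5012 (allL N5012 (tt N2975 (iv D13388)) (tt N3581 F34465) (tt N8329 D18323) (tt N3558 (iv F34474)) (tt N8303 (iv F32015)) (tt N5026 (iv F23574)) (tt N2980 F23558))
theorem Q5014 : ∀ i, i < 5014 → P i := stepQ 5013 Q5013 (allL N5013 (tt N8329 (iv F32136)) (tt N5013 F23559) (tt N2975 (iv D13389)) (tt N8330 D18324) (tt N8304 (iv F32018)) (tt N8331 D18325) (tt N2981 F23560))
theorem Q5015 : ∀ i, i < 5015 → P i := stepQ 5014 Q5014 (allL N5014 (tt N5026 (iv F23573)) (tt N7595 (iv F39660)) (tt N8331 (iv F32140)) (tt N5993 (iv F25553)) (tt N8305 (iv F32021)) (tt N2975 (iv D13390)) (tt N5023 (iv F23570)))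
theorem Q5016 : ∀ i, i < 5016 → P i := stepQ 5015 Q5015 (allL N5015 (tt N6140 F29171) (tt N2977 (iv D13392)) (tt N6407 F28813) (tt N3561 F28814) (tt N8306 (iv F32023)) (tt N6136 (iv F29172)) (tt N8332 D18330))
theorem Q5017 : ∀ i, i < 5017 → P i := stepQ 5016 Q5016 (allL N5016 (tt N2978 F23561) (tt N8333 D18331) (tt N2977 (iv D13393)) (tt N8334 D18332) (tt N8307 (iv F32025)) (tt N8326 (iv F32124)) (tt N8335 D18333))
theorem Q5018 : ∀ i, i < 5018 → P i := stepQ 5017 Q5017 (allL N5017 (tt N2979 F23562) (tt N4826 (iv F34989)) (tt N8335 (iv F32155)) (tt N5994 (iv F25558)) (tt N8308 (iv F32030)) (tt N5011 F23563) (tt N2977 (iv D13394)))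
theorem Q5019 : ∀ i, i < 5019 → P i := stepQ 5018 Q5018 (allL N5018 (tt N8334 (iv F32149)) (tt N2983 F23564) (tt N8327 (iv F32131)) (tt N2978 (iv D13395)) (tt N8336 D18335) (tt N8327 (iv F32130)) (tt N8337 D18336))
theorem Q5020 : ∀ i, i < 5020 → P i := stepQ 5019 Q5019 (allL N5019 (tt N8335 (iv F32154)) (tt N5516 (iv F24491)) (tt N2979 F23565) (tt N8337 (iv F32162)) (tt N8310 (iv F32037)) (tt N8338 D18337) (tt N2978 (iv D13396)))
theorem Q5021 : ∀ i, i < 5021 → P i := stepQ 5020 Q5020 (allL N5020 (tt N5011 F23566) (tt N8339 D18338) (tt N8338 (iv F32164)) (tt N5995 (iv F28809)) (tt N8311 (iv F32040)) (tt N2979 (iv D13397)) (tt N5009 F23567))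
theorem Q5022 : ∀ i, i < 5022 → P i := stepQ 5021 Q5021 (allL N5021 (tt N6154 (iv F34218)) (tt N2980 (iv D13398)) (tt N6438 (iv F35073)) (tt N3565 F34519) (tt N8312 (iv F32042)) (tt N8340 D18341) (tt N6149 (iv F35069)))
theorem Q5023 : ∀ i, i < 5023 → P i := stepQ 5022 Q5022 (allL N5022 (tt N2981 F23568) (tt N8341 D18343) (tt N2980 (iv D13399)) (tt N8342 D18344) (tt N8313 (iv F32044)) (tt N8343 D18345) (tt N8329 (iv F32137)))
theorem Q5024 : ∀ i, i < 5024 → P i := stepQ 5023 Q5023 (allL N5023 (tt N2982 F23569) (tt N4788 (iv F32404)) (tt N8343 (iv F32171)) (tt N5996 (iv F25569)) (tt N8314 (iv F32046)) (tt N2980 (iv D13400)) (tt N5014 F23570))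
theorem Q5025 : ∀ i, i < 5025 → P i := stepQ 5024 Q5024 (allL N5024 (tt N8342 (iv F32169)) (tt N2984 F23571) (tt N8330 (iv F34590)) (tt N2981 (iv D13401)) (tt N8344 D18348) (tt N8345 D18349) (tt N8330 (iv F32139)))
theorem Q5026 : ∀ i, i < 5026 → P i := stepQ 5025 Q5025 (allL N5025 (tt N8343 (iv F32170)) (tt N5559 (iv F24539)) (tt N2982 F23572) (tt N8345 (iv F32175)) (tt N8316 (iv F32050)) (tt N2981 (iv D13402)) (tt N8346 D18350))
theorem Q5027 : ∀ i, i < 5027 → P i := stepQ 5026 Q5026 (allL N5026 (tt N5014 F23573) (tt N8347 D18351) (tt N8346 (iv F32177)) (tt N5997 (iv F34489)) (tt N8317 (iv F32053)) (tt N5012 F23574) (tt N2982 (iv D13403)))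
theorem Q5028 : ∀ i, i < 5028 → P i := stepQ 5027 Q5027 (allL N5027 (tt N5027 F23575) (tt N8336 (iv F32158)) (tt N5027 F23576) (tt N8318 (iv F32058)) (tt N2983 (iv D13404)) (tt N5027 F23577) (tt N5517 (iv F24496)))
theorem Q5029 : ∀ i, i < 5029 → P i := stepQ 5028 Q5028 (allL N5028 (tt N5028 F23578) (tt N8344 (iv F32174)) (tt N5028 F23579) (tt N8319 (iv F32062)) (tt N2984 (iv D13405)) (tt N5561 (iv F24545)) (tt N5028 F23580))
theorem Q5030 : ∀ i, i < 5030 → P i := stepQ 5029 Q5029 (allL N5029 (tt N6118 (iv F29030)) (tt N6119 F29032) (tt N8212 (iv F31778)) (tt N6118 (iv F29031)) (tt N3014 F23581) (tt N2985 (iv D13406)) (tt N8348 D18352))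
theorem Q5031 : ∀ i, i < 5031 → P i := stepQ 5030 Q5030 (allL N5030 (tt N6127 (iv F34286)) (tt N6128 (iv F34181)) (tt N8213 (iv F31781)) (tt N6127 (iv F34288)) (tt N3015 F23582) (tt N8349 D18354) (tt N2985 (iv D13407)))
theorem Q5032 : ∀ i, i < 5032 → P i := stepQ 5031 Q5031 (allL N5031 (tt N8350 D18359) (tt N2989 (iv D13412)) (tt N8351 D18360) (tt N2991 F23589) (tt N6558 (iv F29253)) (tt N2995 F23590) (tt N8352 D18361))
theorem Q5033 : ∀ i, i < 5033 → P i := stepQ 5032 Q5032 (allL N5032 (tt N5034 (iv F23595)) (tt N8353 D18362) (tt N6900 (iv F27554)) (tt N2992 F23591) (tt N3929 (iv F34277)) (tt N3928 F34235) (tt N2989 (iv D13413)))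
theorem Q5034 : ∀ i, i < 5034 → P i := stepQ 5033 Q5033 (allL N5033 (tt N8354 D18363) (tt N2990 (iv D13414)) (tt N8355 D18364) (tt N2993 F23593) (tt N6597 (iv F34317)) (tt N8356 D18365) (tt N2997 F23594))
theorem Q5035 : ∀ i, i < 5035 → P i := stepQ 5034 Q5034 (allL N5034 (tt N5032 F23595) (tt N8357 D18366) (tt N6902 (iv F27560)) (tt N2994 F23596) (tt N3901 F28869) (tt N2990 (iv D13415)) (tt N3899 F28870))
theorem Q5036 : ∀ i, i < 5036 → P i := stepQ 5035 Q5035 (allL N5035 (tt N2991 (iv D13416)) (tt N8358 D18367) (tt N8359 D18368) (tt N8350 (iv F32195)) (tt N3032 F23598) (tt N2999 F23599) (tt N5057 (iv F23635)))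
theorem Q5037 : ∀ i, i < 5037 → P i := stepQ 5036 Q5036 (allL N5036 (tt N8359 (iv F32217)) (tt N3121 F23600) (tt N2991 (iv D13417)) (tt N8360 D18369) (tt N3033 F23601) (tt N3000 F23602) (tt N8361 D18370))
theorem Q5038 : ∀ i, i < 5038 → P i := stepQ 5037 Q5037 (allL N5037 (tt N5057 (iv F23633)) (tt N8362 D18371) (tt N8361 (iv F32223)) (tt N8352 (iv F32202)) (tt N3034 F23603) (tt N5053 (iv F23627)) (tt N2991 (iv D13418)))
theorem Q5039 : ∀ i, i < 5039 → P i := stepQ 5038 Q5038 (allL N5038 (tt N8363 D18372) (tt N2992 (iv D13419)) (tt N8364 D18373) (tt N8353 (iv F32203)) (tt N3035 F23604) (tt N8365 D18374) (tt N8362 (iv F32226)))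
theorem Q5040 : ∀ i, i < 5040 → P i := stepQ 5039 Q5039 (allL N5039 (tt N2993 (iv D13420)) (tt N8366 D18375) (tt N8367 D18376) (tt N8354 (iv F32204)) (tt N3036 F23605) (tt N5067 (iv F23654)) (tt N3003 F23606))
theorem Q5041 : ∀ i, i < 5041 → P i := stepQ 5040 Q5040 (allL N5040 (tt N8367 (iv F32233)) (tt N3125 F23607) (tt N2993 (iv D13421)) (tt N8368 D18377) (tt N3037 F23608) (tt N8369 D18378) (tt N3004 F23609))
theorem Q5042 : ∀ i, i < 5042 → P i := stepQ 5041 Q5041 (allL N5041 (tt N5067 (iv F23652)) (tt N8370 D18379) (tt N8369 (iv F32238)) (tt N8356 (iv F32210)) (tt N3038 F23610) (tt N2993 (iv D13422)) (tt N5063 (iv F23646)))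
theorem Q5043 : ∀ i, i < 5043 → P i := stepQ 5042 Q5042 (allL N5042 (tt N8371 D18380) (tt N2994 (iv D13423)) (tt N8372 D18381) (tt N8357 (iv F32211)) (tt N3039 F23611) (tt N8370 (iv F32241)) (tt N8373 D18382))
theorem Q5044 : ∀ i, i < 5044 → P i := stepQ 5043 Q5043 (allL N5043 (tt N2995 (iv D13424)) (tt N8374 D18383) (tt N4286 (iv F28100)) (tt N2999 F23612) (tt N8320 (iv F32069)) (tt N8350 (iv F32197)) (tt N8375 D18384))
theorem Q5045 : ∀ i, i < 5045 → P i := stepQ 5044 Q5044 (allL N5044 (tt N4286 (iv F28101)) (tt N5044 F23613) (tt N2995 (iv D13425)) (tt N4285 (iv F28102)) (tt N8321 (iv F32075)) (tt N8351 (iv F32200)) (tt N8376 D18385))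
theorem Q5046 : ∀ i, i < 5046 → P i := stepQ 5045 Q5045 (allL N5045 (tt N8375 (iv F32251)) (tt N8377 D18386) (tt N8376 (iv F32256)) (tt N3001 F23614) (tt N8322 (iv F32077)) (tt N8378 D18387) (tt N2995 (iv D13426)))
theorem Q5047 : ∀ i, i < 5047 → P i := stepQ 5046 Q5046 (allL N5046 (tt N8379 D18388) (tt N2996 (iv D13427)) (tt N4550 (iv F39668)) (tt N3002 F23615) (tt N4549 F39659) (tt N8380 D18390) (tt N8377 (iv F32260)))
theorem Q5048 : ∀ i, i < 5048 → P i := stepQ 5047 Q5047 (allL N5047 (tt N2997 (iv D13428)) (tt N8381 D18391) (tt N4337 (iv F28315)) (tt N3003 F23617) (tt N8323 (iv F32079)) (tt N8382 D18392) (tt N8354 (iv F32205)))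
theorem Q5049 : ∀ i, i < 5049 → P i := stepQ 5048 Q5048 (allL N5048 (tt N4337 (iv F28316)) (tt N5048 F23618) (tt N2997 (iv D13429)) (tt N4336 (iv F28317)) (tt N8324 (iv F32119)) (tt N8383 D18393) (tt N8355 (iv F32208)))
theorem Q5050 : ∀ i, i < 5050 → P i := stepQ 5049 Q5049 (allL N5049 (tt N8382 (iv F32274)) (tt N8384 D18394) (tt N8383 (iv F32279)) (tt N3005 F23619) (tt N8325 (iv F32121)) (tt N2997 (iv D13430)) (tt N8385 D18395))
theorem Q5051 : ∀ i, i < 5051 → P i := stepQ 5050 Q5050 (allL N5050 (tt N8386 D18396) (tt N2998 (iv D13431)) (tt N4515 (iv F39544)) (tt N3006 F23620) (tt N4514 F39533) (tt N8384 (iv F32283)) (tt N8387 D18398))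
theorem Q5052 : ∀ i, i < 5052 → P i := stepQ 5051 Q5051 (allL N5051 (tt N6626 (iv F29239)) (tt N2999 (iv D13432)) (tt N6626 (iv F29240)) (tt N8374 (iv F32249)) (tt N3052 F23622) (tt N6621 F29238) (tt N8388 D18399))
theorem Q5053 : ∀ i, i < 5053 → P i := stepQ 5052 Q5052 (allL N5052 (tt N3000 F23623) (tt N8389 D18400) (tt N2999 (iv D13433)) (tt N8390 D18401) (tt N3053 F23624) (tt N8359 (iv F32220)) (tt N8391 D18402))
theorem Q5054 : ∀ i, i < 5054 → P i := stepQ 5053 Q5053 (allL N5053 (tt N3001 F23625) (tt N8392 D18403) (tt N8391 (iv F32299)) (tt N8375 (iv F32253)) (tt N3054 F23626) (tt N5037 F23627) (tt N2999 (iv D13434)))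
theorem Q5055 : ∀ i, i < 5055 → P i := stepQ 5054 Q5054 (allL N5054 (tt N8390 (iv F32297)) (tt N3007 F23628) (tt N7169 (iv F28099)) (tt N3000 (iv D13435)) (tt N8393 D18404) (tt N8360 (iv F32222)) (tt N8394 D18405))
theorem Q5056 : ∀ i, i < 5056 → P i := stepQ 5055 Q5055 (allL N5055 (tt N8391 (iv F32298)) (tt N8395 D18406) (tt N3001 F23629) (tt N8394 (iv F32305)) (tt N3056 F23630) (tt N8396 D18407) (tt N3000 (iv D13436)))
theorem Q5057 : ∀ i, i < 5057 → P i := stepQ 5056 Q5056 (allL N5056 (tt N8397 D18408) (tt N3001 (iv D13437)) (tt N8398 D18409) (tt N8377 (iv F32258)) (tt N3057 F23631) (tt N8399 D18410) (tt N3002 F23632))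
theorem Q5058 : ∀ i, i < 5058 → P i := stepQ 5057 Q5057 (allL N5057 (tt N5037 F23633) (tt N8400 D18411) (tt N8396 (iv F32309)) (tt N8378 (iv F32262)) (tt N3058 F23634) (tt N3001 (iv D13438)) (tt N5035 F23635))
theorem Q5059 : ∀ i, i < 5059 → P i := stepQ 5058 Q5058 (allL N5058 (tt N3002 (iv D13439)) (tt N8401 D18412) (tt N8402 D18413) (tt N8379 (iv F32264)) (tt N3059 F23636) (tt N8403 D18414) (tt N8397 (iv F32313)))
theorem Q5060 : ∀ i, i < 5060 → P i := stepQ 5059 Q5059 (allL N5059 (tt N8402 (iv F32319)) (tt N3009 F23637) (tt N3002 (iv D13440)) (tt N8404 D18415) (tt N3060 F23638) (tt N8405 D18416) (tt N8398 (iv F32315)))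
theorem Q5061 : ∀ i, i < 5061 → P i := stepQ 5060 Q5060 (allL N5060 (tt N8403 (iv F32321)) (tt N5004 F23639) (tt N8405 (iv F32326)) (tt N8380 (iv F32269)) (tt N3061 F23640) (tt N3002 (iv D13441)) (tt N8406 D18417))
theorem Q5062 : ∀ i, i < 5062 → P i := stepQ 5061 Q5061 (allL N5061 (tt N6675 (iv F34220)) (tt N3003 (iv D13442)) (tt N6675 (iv F34221)) (tt N8381 (iv F32272)) (tt N3062 F23641) (tt N8407 D18419) (tt N6669 (iv F34306)))
theorem Q5063 : ∀ i, i < 5063 → P i := stepQ 5062 Q5062 (allL N5062 (tt N3004 F23642) (tt N8408 D18421) (tt N3003 (iv D13443)) (tt N8409 D18422) (tt N3063 F23643) (tt N8410 D18423) (tt N8367 (iv F32235)))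
theorem Q5064 : ∀ i, i < 5064 → P i := stepQ 5063 Q5063 (allL N5063 (tt N3005 F23644) (tt N8411 D18424) (tt N8410 (iv F32338)) (tt N8382 (iv F32276)) (tt N3064 F23645) (tt N3003 (iv D13444)) (tt N5041 F23646))
theorem Q5065 : ∀ i, i < 5065 → P i := stepQ 5064 Q5064 (allL N5064 (tt N8409 (iv F32336)) (tt N3010 F23647) (tt N7271 (iv F28314)) (tt N3004 (iv D13445)) (tt N8412 D18425) (tt N8413 D18426) (tt N8368 (iv F32237)))
theorem Q5066 : ∀ i, i < 5066 → P i := stepQ 5065 Q5065 (allL N5065 (tt N8410 (iv F32337)) (tt N8414 D18427) (tt N3005 F23648) (tt N8413 (iv F32344)) (tt N3066 F23649) (tt N3004 (iv D13446)) (tt N8415 D18428))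
theorem Q5067 : ∀ i, i < 5067 → P i := stepQ 5066 Q5066 (allL N5066 (tt N8416 D18429) (tt N3005 (iv D13447)) (tt N8417 D18430) (tt N8384 (iv F32281)) (tt N3067 F23650) (tt N3006 F23651) (tt N8418 D18431))
theorem Q5068 : ∀ i, i < 5068 → P i := stepQ 5067 Q5067 (allL N5067 (tt N5041 F23652) (tt N8419 D18432) (tt N8415 (iv F32348)) (tt N8385 (iv F32285)) (tt N3068 F23653) (tt N5039 F23654) (tt N3005 (iv D13448)))
theorem Q5069 : ∀ i, i < 5069 → P i := stepQ 5068 Q5068 (allL N5068 (tt N3006 (iv D13449)) (tt N8420 D18433) (tt N8421 D18434) (tt N8386 (iv F32287)) (tt N3069 F23655) (tt N8416 (iv F32352)) (tt N8422 D18435))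
theorem Q5070 : ∀ i, i < 5070 → P i := stepQ 5069 Q5069 (allL N5069 (tt N8421 (iv F32358)) (tt N3012 F23656) (tt N3006 (iv D13450)) (tt N8423 D18436) (tt N3070 F23657) (tt N8417 (iv F32354)) (tt N8424 D18437))
theorem Q5071 : ∀ i, i < 5071 → P i := stepQ 5070 Q5070 (allL N5070 (tt N8422 (iv F32361)) (tt N5001 F23658) (tt N8424 (iv F32366)) (tt N8387 (iv F32292)) (tt N3071 F23659) (tt N8425 D18438) (tt N3006 (iv D13451)))
theorem Q5072 : ∀ i, i < 5072 → P i := stepQ 5071 Q5071 (allL N5071 (tt N5360 (iv F24237)) (tt N8393 (iv F32303)) (tt N3159 F23660) (tt N3075 F23661) (tt N3007 (iv D13452)) (tt N3159 F23662) (tt N8426 D18439))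
theorem Q5073 : ∀ i, i < 5073 → P i := stepQ 5072 Q5072 (allL N5072 (tt N5326 (iv F24172)) (tt N8427 D18440) (tt N3160 F23663) (tt N3008 F23664) (tt N8426 (iv F32373)) (tt N5078 (iv F23677)) (tt N3007 (iv D13453)))
theorem Q5074 : ∀ i, i < 5074 → P i := stepQ 5073 Q5073 (allL N5073 (tt N8428 D18441) (tt N3008 (iv D13454)) (tt N5077 (iv F23674)) (tt N8427 (iv F32374)) (tt N3077 F23665) (tt N8429 D18442) (tt N8395 (iv F32307)))
theorem Q5075 : ∀ i, i < 5075 → P i := stepQ 5074 Q5074 (allL N5074 (tt N3171 F23666) (tt N8404 (iv F32324)) (tt N5346 (iv F24208)) (tt N3009 (iv D13455)) (tt N8430 D18443) (tt N3169 F23667) (tt N5076 (iv F23673)))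
theorem Q5076 : ∀ i, i < 5076 → P i := stepQ 5075 Q5075 (allL N5075 (tt N5370 (iv F24269)) (tt N8412 (iv F32342)) (tt N3170 F23668) (tt N3082 F23669) (tt N3010 (iv D13456)) (tt N8431 D18444) (tt N3170 F23670))
theorem Q5077 : ∀ i, i < 5077 → P i := stepQ 5076 Q5076 (allL N5076 (tt N5346 (iv F24207)) (tt N8432 D18445) (tt N3171 F23671) (tt N3011 F23672) (tt N8431 (iv F32384)) (tt N3010 (iv D13457)) (tt N5074 F23673))
theorem Q5078 : ∀ i, i < 5078 → P i := stepQ 5077 Q5077 (allL N5077 (tt N8433 D18446) (tt N3011 (iv D13458)) (tt N5073 F23674) (tt N8432 (iv F32386)) (tt N3084 F23675) (tt N8414 (iv F32346)) (tt N8434 D18447))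
theorem Q5079 : ∀ i, i < 5079 → P i := stepQ 5078 Q5078 (allL N5078 (tt N3160 F23676) (tt N8423 (iv F32364)) (tt N5326 (iv F24173)) (tt N3012 (iv D13459)) (tt N8435 D18448) (tt N5072 F23677) (tt N3158 F23678))
theorem Q5080 : ∀ i, i < 5080 → P i := stepQ 5079 Q5079 (allL N5079 (tt N5080 (iv F23687)) (tt N4882 (iv F34333)) (tt N4974 F23684) (tt N4862 F34291) (tt N8348 (iv F32180)) (tt N3638 F34292) (tt N3014 (iv D13463)))
theorem Q5081 : ∀ i, i < 5081 → P i := stepQ 5080 Q5080 (allL N5080 (tt N5079 F23687) (tt N4856 F28827) (tt N4973 F23688) (tt N4833 F28828) (tt N8349 (iv F32187)) (tt N3015 (iv D13465)) (tt N3632 F28829))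
theorem Q5082 : ∀ i, i < 5082 → P i := stepQ 5081 Q5081 (allL N5081 (tt N3023 F23690) (tt N5081 F23691) (tt N3017 F23692) (tt N8436 D18453) (tt N3016 (iv D13466)) (tt N3940 F28845) (tt N3970 F34275))
theorem Q5083 : ∀ i, i < 5083 → P i := stepQ 5082 Q5082 (allL N5082 (tt N3408 F23710) (tt N5799 (iv F25138)) (tt N3405 F23711) (tt N5798 (iv F25136)) (tt N3022 (iv D13479)) (tt N8437 D18466) (tt N8438 D18467))
theorem Q5084 : ∀ i, i < 5084 → P i := stepQ 5083 Q5083 (allL N5083 (tt N4934 F23712) (tt N7532 (iv F29425)) (tt N4932 F23713) (tt N3024 F23714) (tt N8437 (iv F32439)) (tt N3022 (iv D13480)) (tt N8206 (iv F31758)))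
theorem Q5085 : ∀ i, i < 5085 → P i := stepQ 5084 Q5084 (allL N5084 (tt N4935 F23715) (tt N7577 (iv F34817)) (tt N4933 F23716) (tt N3025 F23717) (tt N8438 (iv F32442)) (tt N8205 (iv F31752)) (tt N3022 (iv D13481)))
theorem Q5086 : ∀ i, i < 5086 → P i := stepQ 5085 Q5085 (allL N5085 (tt N8436 (iv F32417)) (tt N4416 F23718) (tt N5799 (iv F25139)) (tt N3023 (iv D13482)) (tt N5798 F25137) (tt N8439 D18469) (tt N8440 D18470))
theorem Q5087 : ∀ i, i < 5087 → P i := stepQ 5086 Q5086 (allL N5086 (tt N3940 F28874) (tt N8441 D18471) (tt N3026 F23719) (tt N8439 (iv F32445)) (tt N3024 F23720) (tt N3023 (iv D13483)) (tt N6660 (iv F34274)))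
theorem Q5088 : ∀ i, i < 5088 → P i := stepQ 5087 Q5087 (allL N5087 (tt N3970 F34267) (tt N8442 D18473) (tt N3027 F23721) (tt N8440 (iv F32446)) (tt N3025 F23722) (tt N6612 F29251) (tt N3023 (iv D13484)))
theorem Q5089 : ∀ i, i < 5089 → P i := stepQ 5088 Q5088 (allL N5088 (tt N4096 F29125) (tt N3024 (iv D13485)) (tt N4104 F29126) (tt N7532 (iv F29426)) (tt N8441 (iv F32448)) (tt N4094 F29127) (tt N6862 F29128))
theorem Q5090 : ∀ i, i < 5090 → P i := stepQ 5089 Q5089 (allL N5089 (tt N5091 (iv F23725)) (tt N4112 (iv F34276)) (tt N3029 F23723) (tt N8206 (iv F31757)) (tt N6660 (iv F34273)) (tt N4116 F34225) (tt N3024 (iv D13486)))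
theorem Q5091 : ∀ i, i < 5091 → P i := stepQ 5090 Q5090 (allL N5090 (tt N4113 (iv F34435)) (tt N3025 (iv D13487)) (tt N4121 (iv F34436)) (tt N7577 (iv F34818)) (tt N8442 (iv F32455)) (tt N6882 F34372) (tt N4110 (iv F34437)))
theorem Q5092 : ∀ i, i < 5092 → P i := stepQ 5091 Q5091 (allL N5091 (tt N5089 F23725) (tt N4097 F32458) (tt N3031 F23726) (tt N8205 (iv F31751)) (tt N6612 (iv F29250)) (tt N3025 (iv D13488)) (tt N4100 (iv F32459)))
theorem Q5093 : ∀ i, i < 5093 → P i := stepQ 5092 Q5092 (allL N5092 (tt N4005 F28871) (tt N3026 (iv D13489)) (tt N4004 F28872) (tt N6558 F28873) (tt N3028 F23728) (tt N3040 F23729) (tt N8443 D18478))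
theorem Q5094 : ∀ i, i < 5094 → P i := stepQ 5093 Q5093 (allL N5093 (tt N4051 (iv F34309)) (tt N3027 (iv D13491)) (tt N4050 (iv F34307)) (tt N6597 (iv F34316)) (tt N3030 F23732) (tt N8444 D18482) (tt N3042 F23733))
theorem Q5095 : ∀ i, i < 5095 → P i := stepQ 5094 Q5094 (allL N5094 (tt N3028 (iv D13493)) (tt N6619 (iv F29182)) (tt N4006 F29097) (tt N3032 F23737) (tt N4005 F29098) (tt N3044 F23738) (tt N5127 (iv F23783)))
theorem Q5096 : ∀ i, i < 5096 → P i := stepQ 5095 Q5095 (allL N5095 (tt N4006 F29095) (tt N4104 F29112) (tt N3028 (iv D13494)) (tt N5674 F29037) (tt N4004 F29096) (tt N3045 F23739) (tt N8445 D18483))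
theorem Q5097 : ∀ i, i < 5097 → P i := stepQ 5096 Q5096 (allL N5096 (tt N5127 (iv F23781)) (tt N8446 D18484) (tt N8445 (iv F33069)) (tt N3034 F23740) (tt N8443 (iv F33058)) (tt N5124 (iv F23777)) (tt N3028 (iv D13495)))
theorem Q5098 : ∀ i, i < 5098 → P i := stepQ 5097 Q5097 (allL N5097 (tt N8447 D18485) (tt N3029 (iv D13496)) (tt N4081 (iv F34281)) (tt N3035 F23741) (tt N6662 (iv F34279)) (tt N4080 F34229) (tt N8446 (iv F33074)))
theorem Q5099 : ∀ i, i < 5099 → P i := stepQ 5098 Q5098 (allL N5098 (tt N3030 (iv D13497)) (tt N6668 (iv F34429)) (tt N4052 F34257) (tt N3036 F23742) (tt N4051 (iv F34310)) (tt N5134 (iv F23798)) (tt N3048 F23743))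
theorem Q5100 : ∀ i, i < 5100 → P i := stepQ 5099 Q5099 (allL N5099 (tt N4052 F34256) (tt N4121 F34447) (tt N3030 (iv D13498)) (tt N5714 F32109) (tt N4050 (iv F34308)) (tt N8448 D18489) (tt N3049 F23744))
theorem Q5101 : ∀ i, i < 5101 → P i := stepQ 5100 Q5100 (allL N5100 (tt N5134 (iv F23796)) (tt N8449 D18490) (tt N8448 (iv F33079)) (tt N3038 F23745) (tt N8444 (iv F33067)) (tt N3030 (iv D13499)) (tt N5131 (iv F23792)))
theorem Q5102 : ∀ i, i < 5102 → P i := stepQ 5101 Q5101 (allL N5101 (tt N8450 D18491) (tt N3031 (iv D13500)) (tt N4035 F32495) (tt N3039 F23746) (tt N6614 F29249) (tt N8449 (iv F33083)) (tt N4034 F32496))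
theorem Q5103 : ∀ i, i < 5103 → P i := stepQ 5102 Q5102 (allL N5102 (tt N8451 D18492) (tt N3032 (iv D13501)) (tt N3889 F28922) (tt N6619 F28923) (tt N8358 (iv F32214)) (tt N3887 F28924) (tt N8452 D18493))
theorem Q5104 : ∀ i, i < 5104 → P i := stepQ 5103 Q5103 (allL N5103 (tt N3033 F23747) (tt N4763 F28921) (tt N3032 (iv D13502)) (tt N4762 (iv F28920)) (tt N8359 (iv F32219)) (tt N3053 F23748) (tt N5146 (iv F23812)))
theorem Q5105 : ∀ i, i < 5105 → P i := stepQ 5104 Q5104 (allL N5104 (tt N5146 (iv F23810)) (tt N8453 D18494) (tt N3034 F23751) (tt N6043 F29111) (tt N8361 (iv F32224)) (tt N5141 (iv F23806)) (tt N3033 (iv D13504)))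
theorem Q5106 : ∀ i, i < 5106 → P i := stepQ 5105 Q5105 (allL N5105 (tt N8454 D18495) (tt N3034 (iv D13505)) (tt N8455 D18496) (tt N8446 (iv F33073)) (tt N8362 (iv F32225)) (tt N8456 D18497) (tt N3035 F23752))
theorem Q5107 : ∀ i, i < 5107 → P i := stepQ 5106 Q5106 (allL N5106 (tt N3035 (iv D13506)) (tt N7991 (iv F33222)) (tt N8457 D18499) (tt N8447 (iv F33075)) (tt N8363 (iv F32227)) (tt N8458 D18500) (tt N8454 (iv F33094)))
theorem Q5108 : ∀ i, i < 5108 → P i := stepQ 5107 Q5107 (allL N5107 (tt N8457 (iv F33096)) (tt N3210 F23753) (tt N3035 (iv D13507)) (tt N8459 D18501) (tt N8364 (iv F32229)) (tt N8460 D18502) (tt N8455 (iv F33095)))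
theorem Q5109 : ∀ i, i < 5109 → P i := stepQ 5108 Q5108 (allL N5108 (tt N8458 (iv F33097)) (tt N4091 F34188) (tt N8460 (iv F33100)) (tt N4080 (iv F34200)) (tt N8365 (iv F32231)) (tt N3035 (iv D13508)) (tt N8461 D18503))
theorem Q5110 : ∀ i, i < 5110 → P i := stepQ 5109 Q5109 (allL N5109 (tt N8462 D18504) (tt N3036 (iv D13509)) (tt N3919 (iv F34428)) (tt N6668 (iv F34430)) (tt N8366 (iv F32232)) (tt N8463 D18506) (tt N3916 F34349))
theorem Q5111 : ∀ i, i < 5111 → P i := stepQ 5110 Q5110 (allL N5110 (tt N3037 F23755) (tt N4801 (iv F34556)) (tt N3036 (iv D13510)) (tt N4800 F34549) (tt N8367 (iv F32234)) (tt N5165 (iv F23832)) (tt N3063 F23756))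
theorem Q5112 : ∀ i, i < 5112 → P i := stepQ 5111 Q5111 (allL N5111 (tt N5165 (iv F23830)) (tt N8464 D18513) (tt N3038 F23759) (tt N6081 (iv F34524)) (tt N8369 (iv F32239)) (tt N3037 (iv D13512)) (tt N5160 (iv F23826)))
theorem Q5113 : ∀ i, i < 5113 → P i := stepQ 5112 Q5112 (allL N5112 (tt N8465 D18514) (tt N3038 (iv D13513)) (tt N8466 D18515) (tt N8449 (iv F33082)) (tt N8370 (iv F32240)) (tt N3039 F23760) (tt N8467 D18516))
theorem Q5114 : ∀ i, i < 5114 → P i := stepQ 5113 Q5113 (allL N5113 (tt N3039 (iv D13514)) (tt N8050 (iv F35066)) (tt N8468 D18518) (tt N8450 (iv F33086)) (tt N8371 (iv F32242)) (tt N8465 (iv F33112)) (tt N8469 D18519))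
theorem Q5115 : ∀ i, i < 5115 → P i := stepQ 5114 Q5114 (allL N5114 (tt N8468 (iv F33114)) (tt N3218 F23761) (tt N3039 (iv D13515)) (tt N8470 D18520) (tt N8372 (iv F32244)) (tt N8466 (iv F33113)) (tt N8471 D18521))
theorem Q5116 : ∀ i, i < 5116 → P i := stepQ 5115 Q5115 (allL N5115 (tt N8469 (iv F33115)) (tt N4045 F32489) (tt N8471 (iv F33119)) (tt N4034 F32490) (tt N8373 (iv F32247)) (tt N8472 D18522) (tt N3039 (iv D13516)))
theorem Q5117 : ∀ i, i < 5117 → P i := stepQ 5116 Q5116 (allL N5116 (tt N3040 (iv D13517)) (tt N4011 F29045) (tt N4007 F29079) (tt N8320 (iv F32068)) (tt N3044 F23763) (tt N4005 F29080) (tt N8473 D18523))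
theorem Q5118 : ∀ i, i < 5118 → P i := stepQ 5117 Q5117 (allL N5117 (tt N4007 F29076) (tt N5823 (iv F25182)) (tt N3040 (iv D13518)) (tt N4101 F29044) (tt N3045 F23764) (tt N4004 F29077) (tt N6712 F29078))
theorem Q5119 : ∀ i, i < 5119 → P i := stepQ 5118 Q5118 (allL N5118 (tt N8473 (iv F33123)) (tt N8474 D18524) (tt N6712 (iv F29102)) (tt N8322 (iv F32076)) (tt N3046 F23765) (tt N6708 F29101) (tt N3040 (iv D13519)))
theorem Q5120 : ∀ i, i < 5120 → P i := stepQ 5119 Q5119 (allL N5119 (tt N6463 (iv F39649)) (tt N3041 (iv D13520)) (tt N6461 F39647) (tt N4549 (iv F39650)) (tt N3047 F23767) (tt N8475 D18527) (tt N8474 (iv F33129)))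
theorem Q5121 : ∀ i, i < 5121 → P i := stepQ 5120 Q5120 (allL N5120 (tt N3042 (iv D13521)) (tt N4057 F32081) (tt N4054 F34358) (tt N8323 (iv F32078)) (tt N3048 F23768) (tt N8476 D18528) (tt N4051 F34359))
theorem Q5122 : ∀ i, i < 5122 → P i := stepQ 5121 Q5121 (allL N5121 (tt N4054 F34353) (tt N5826 (iv F25186)) (tt N3042 (iv D13522)) (tt N4117 F32089) (tt N3049 F23769) (tt N6787 (iv F34434)) (tt N4050 F34354))
theorem Q5123 : ∀ i, i < 5123 → P i := stepQ 5122 Q5122 (allL N5122 (tt N8476 (iv F33139)) (tt N8477 D18530) (tt N6787 (iv F34431)) (tt N8325 (iv F32120)) (tt N3050 F23770) (tt N3042 (iv D13523)) (tt N6784 (iv F34357)))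
theorem Q5124 : ∀ i, i < 5124 → P i := stepQ 5123 Q5123 (allL N5123 (tt N6432 F39531) (tt N3043 (iv D13524)) (tt N6430 (iv F39545)) (tt N4514 F39532) (tt N3051 F23772) (tt N8477 (iv F33149)) (tt N8478 D18534))
theorem Q5125 : ∀ i, i < 5125 → P i := stepQ 5124 Q5124 (allL N5124 (tt N3046 F23775) (tt N3994 F35052) (tt N5677 F29106) (tt N3054 F23776) (tt N8473 (iv F33125)) (tt N5096 F23777) (tt N3044 (iv D13527)))
theorem Q5126 : ∀ i, i < 5126 → P i := stepQ 5125 Q5125 (allL N5125 (tt N5677 (iv F29104)) (tt N8479 D18536) (tt N3046 F23778) (tt N5675 F29107) (tt N6712 F29103) (tt N6709 (iv F29105)) (tt N3045 (iv D13529)))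
theorem Q5127 : ∀ i, i < 5127 → P i := stepQ 5126 Q5126 (allL N5126 (tt N8480 D18537) (tt N3046 (iv D13530)) (tt N8481 D18538) (tt N3057 F23779) (tt N8474 (iv F33128)) (tt N8077 (iv F32399)) (tt N3047 F23780))
theorem Q5128 : ∀ i, i < 5128 → P i := stepQ 5127 Q5127 (allL N5127 (tt N5096 F23781) (tt N8482 D18539) (tt N6709 F29100) (tt N3058 F23782) (tt N6708 (iv F29099)) (tt N3046 (iv D13531)) (tt N5094 F23783))
theorem Q5129 : ∀ i, i < 5129 → P i := stepQ 5128 Q5128 (allL N5128 (tt N3047 (iv D13532)) (tt N8483 D18540) (tt N6464 F39654) (tt N3059 F23784) (tt N6463 F39655) (tt N4848 F32401) (tt N8480 (iv F33163)))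
theorem Q5130 : ∀ i, i < 5130 → P i := stepQ 5129 Q5129 (allL N5129 (tt N6464 (iv F39651)) (tt N3586 F23785) (tt N3047 (iv D13533)) (tt N8484 D18542) (tt N6461 F39648) (tt N8485 D18543) (tt N8481 (iv F33164)))
theorem Q5131 : ∀ i, i < 5131 → P i := stepQ 5130 Q5130 (allL N5130 (tt N4848 F32402) (tt N3559 F23786) (tt N8485 (iv F33172)) (tt N3061 F23787) (tt N8475 (iv F33138)) (tt N3047 (iv D13534)) (tt N8486 D18544))
theorem Q5132 : ∀ i, i < 5132 → P i := stepQ 5131 Q5131 (allL N5131 (tt N3050 F23790) (tt N3964 F33252) (tt N5716 F32113) (tt N3064 F23791) (tt N8476 (iv F33141)) (tt N3048 (iv D13537)) (tt N5100 F23792))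
theorem Q5133 : ∀ i, i < 5133 → P i := stepQ 5132 Q5132 (allL N5132 (tt N5716 (iv F32112)) (tt N8487 D18549) (tt N3050 F23793) (tt N5713 F32108) (tt N6787 (iv F34433)) (tt N3049 (iv D13539)) (tt N6785 (iv F34261)))
theorem Q5134 : ∀ i, i < 5134 → P i := stepQ 5133 Q5133 (allL N5133 (tt N8488 D18551) (tt N3050 (iv D13540)) (tt N8489 D18552) (tt N3067 F23794) (tt N8477 (iv F33148)) (tt N3051 F23795) (tt N8120 (iv F34395)))
theorem Q5135 : ∀ i, i < 5135 → P i := stepQ 5134 Q5134 (allL N5134 (tt N5100 F23796) (tt N8490 D18554) (tt N6785 (iv F34259)) (tt N3068 F23797) (tt N6784 (iv F34356)) (tt N5098 F23798) (tt N3050 (iv D13541)))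
theorem Q5136 : ∀ i, i < 5136 → P i := stepQ 5135 Q5135 (allL N5135 (tt N3051 (iv D13542)) (tt N8491 D18555) (tt N6433 (iv F39546)) (tt N3069 F23799) (tt N6432 F39541) (tt N8488 (iv F33191)) (tt N4877 F34396))
theorem Q5137 : ∀ i, i < 5137 → P i := stepQ 5136 Q5136 (allL N5136 (tt N6433 F39548) (tt N3576 F23800) (tt N3051 (iv D13543)) (tt N8492 D18558) (tt N6430 F39549) (tt N8489 (iv F33192)) (tt N8493 D18559))
theorem Q5138 : ∀ i, i < 5138 → P i := stepQ 5137 Q5137 (allL N5137 (tt N4877 F34390) (tt N3556 F23801) (tt N8493 (iv F33208)) (tt N3071 F23802) (tt N8478 (iv F33159)) (tt N8494 D18560) (tt N3051 (iv D13544)))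
theorem Q5139 : ∀ i, i < 5139 → P i := stepQ 5138 Q5138 (allL N5138 (tt N6628 F28931) (tt N8495 D18561) (tt N6628 F28932) (tt N3957 F28933) (tt N8388 (iv F32294)) (tt N3951 F28934) (tt N3052 (iv D13548)))
theorem Q5140 : ∀ i, i < 5140 → P i := stepQ 5139 Q5139 (allL N5139 (tt N6407 F29170) (tt N3053 (iv D13549)) (tt N6140 F28926) (tt N6405 (iv F29169)) (tt N8389 (iv F32296)) (tt N6138 (iv F28925)) (tt N8496 D18562))
theorem Q5141 : ∀ i, i < 5141 → P i := stepQ 5140 Q5140 (allL N5140 (tt N3055 F23803) (tt N6405 F29168) (tt N6042 F28902) (tt N3053 (iv D13550)) (tt N8497 D18563) (tt N4762 F28919) (tt N8498 D18564))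
theorem Q5142 : ∀ i, i < 5142 → P i := stepQ 5141 Q5141 (allL N5141 (tt N3056 F23804) (tt N8499 D18565) (tt N3054 F23805) (tt N8498 (iv F33219)) (tt N8391 (iv F32300)) (tt N5104 F23806) (tt N3053 (iv D13551)))
theorem Q5143 : ∀ i, i < 5143 → P i := stepQ 5142 Q5142 (allL N5142 (tt N3990 (iv F35054)) (tt N3054 (iv D13552)) (tt N8500 D18567) (tt N3994 F35053) (tt N8392 (iv F32302)) (tt N8501 D18568) (tt N8495 (iv F33213)))
theorem Q5144 : ∀ i, i < 5144 → P i := stepQ 5143 Q5143 (allL N5143 (tt N8497 (iv F33215)) (tt N3075 F23807) (tt N5892 F28906) (tt N8393 (iv F32304)) (tt N3055 (iv D13554)) (tt N5891 (iv F28908)) (tt N8502 D18569))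
theorem Q5145 : ∀ i, i < 5145 → P i := stepQ 5144 Q5144 (allL N5144 (tt N8498 (iv F33217)) (tt N8503 D18570) (tt N6044 F28907) (tt N3056 F23808) (tt N8502 (iv F33224)) (tt N7943 (iv F30128)) (tt N3055 (iv D13555)))
theorem Q5146 : ∀ i, i < 5146 → P i := stepQ 5145 Q5145 (allL N5145 (tt N8504 D18571) (tt N3056 (iv D13556)) (tt N5196 (iv F23878)) (tt N8503 (iv F33225)) (tt N8395 (iv F32306)) (tt N8505 D18572) (tt N3077 F23809))
theorem Q5147 : ∀ i, i < 5147 → P i := stepQ 5146 Q5146 (allL N5146 (tt N5104 F23810) (tt N8506 D18573) (tt N3058 F23811) (tt N7943 (iv F30127)) (tt N8396 (iv F32310)) (tt N3056 (iv D13557)) (tt N5103 F23812))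
theorem Q5148 : ∀ i, i < 5148 → P i := stepQ 5147 Q5147 (allL N5147 (tt N3057 (iv D13558)) (tt N6601 (iv F35062)) (tt N8507 D18575) (tt N8480 (iv F33162)) (tt N8397 (iv F32312)) (tt N5156 (iv F23822)) (tt N3059 F23813))
theorem Q5149 : ∀ i, i < 5149 → P i := stepQ 5148 Q5148 (allL N5148 (tt N8507 (iv F33228)) (tt N5196 (iv F23877)) (tt N3057 (iv D13559)) (tt N8508 D18576) (tt N8398 (iv F32314)) (tt N8509 D18577) (tt N3060 F23814))
theorem Q5150 : ∀ i, i < 5150 → P i := stepQ 5149 Q5149 (allL N5149 (tt N5156 (iv F23821)) (tt N8510 D18578) (tt N8509 (iv F33231)) (tt N8077 F32400) (tt N8399 (iv F32316)) (tt N3057 (iv D13560)) (tt N5153 (iv F23817)))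
theorem Q5151 : ∀ i, i < 5151 → P i := stepQ 5150 Q5150 (allL N5150 (tt N8511 D18579) (tt N3058 (iv D13561)) (tt N8512 D18580) (tt N8482 (iv F33165)) (tt N8400 (iv F32317)) (tt N8510 (iv F33232)) (tt N8513 D18581))
theorem Q5152 : ∀ i, i < 5152 → P i := stepQ 5151 Q5151 (allL N5151 (tt N8514 D18582) (tt N3059 (iv D13562)) (tt N8515 D18583) (tt N8483 (iv F33166)) (tt N8401 (iv F32318)) (tt N8516 D18584) (tt N8517 D18585))
theorem Q5153 : ∀ i, i < 5153 → P i := stepQ 5152 Q5152 (allL N5152 (tt N3060 F23815) (tt N4743 (iv F35226)) (tt N3059 (iv D13563)) (tt N4744 F35225) (tt N8402 (iv F32320)) (tt N8518 D18588) (tt N8507 (iv F33229)))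
theorem Q5154 : ∀ i, i < 5154 → P i := stepQ 5153 Q5153 (allL N5153 (tt N3061 F23816) (tt N4849 F32405) (tt N8518 (iv F33238)) (tt N4848 F32406) (tt N8403 (iv F32322)) (tt N3059 (iv D13564)) (tt N5149 F23817))
theorem Q5155 : ∀ i, i < 5155 → P i := stepQ 5154 Q5154 (allL N5154 (tt N4744 (iv F35224)) (tt N3078 F23818) (tt N8519 D18589) (tt N3060 (iv D13565)) (tt N8520 D18590) (tt N8521 D18591) (tt N8508 (iv F33230)))
theorem Q5156 : ∀ i, i < 5156 → P i := stepQ 5155 Q5155 (allL N5155 (tt N8518 (iv F33237)) (tt N3291 F23819) (tt N3061 F23820) (tt N8521 (iv F33260)) (tt N8405 (iv F32327)) (tt N3060 (iv D13566)) (tt N8522 D18592))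
theorem Q5157 : ∀ i, i < 5157 → P i := stepQ 5156 Q5156 (allL N5156 (tt N5149 F23821) (tt N8523 D18593) (tt N8522 (iv F33262)) (tt N8486 (iv F33174)) (tt N8406 (iv F32329)) (tt N5147 F23822) (tt N3061 (iv D13567)))
theorem Q5158 : ∀ i, i < 5158 → P i := stepQ 5157 Q5157 (allL N5157 (tt N6677 F34251) (tt N8524 D18596) (tt N6677 F34252) (tt N3986 F34253) (tt N8407 (iv F32333)) (tt N3062 (iv D13570)) (tt N3980 (iv F34266)))
theorem Q5159 : ∀ i, i < 5159 → P i := stepQ 5158 Q5158 (allL N5158 (tt N6438 (iv F35072)) (tt N3063 (iv D13572)) (tt N6154 (iv F34219)) (tt N6436 (iv F35071)) (tt N8408 (iv F32335)) (tt N8525 D18600) (tt N6151 (iv F34631)))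
theorem Q5160 : ∀ i, i < 5160 → P i := stepQ 5159 Q5159 (allL N5159 (tt N3065 F23823) (tt N6436 (iv F35070)) (tt N6080 F34552) (tt N3063 (iv D13573)) (tt N8526 D18603) (tt N8527 D18604) (tt N4800 F34553))
theorem Q5161 : ∀ i, i < 5161 → P i := stepQ 5160 Q5160 (allL N5160 (tt N3066 F23824) (tt N8528 D18605) (tt N3064 F23825) (tt N8527 (iv F33281)) (tt N8410 (iv F32339)) (tt N3063 (iv D13574)) (tt N5111 F23826))
theorem Q5162 : ∀ i, i < 5162 → P i := stepQ 5161 Q5161 (allL N5161 (tt N3960 F33250) (tt N3064 (iv D13575)) (tt N8529 D18606) (tt N3964 (iv F33251)) (tt N8411 (iv F32341)) (tt N8524 (iv F33270)) (tt N8530 D18607))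
theorem Q5163 : ∀ i, i < 5163 → P i := stepQ 5162 Q5162 (allL N5162 (tt N8526 (iv F33279)) (tt N3082 F23827) (tt N5915 (iv F34532)) (tt N8412 (iv F32343)) (tt N3065 (iv D13577)) (tt N8531 D18610) (tt N5913 (iv F34523)))
theorem Q5164 : ∀ i, i < 5164 → P i := stepQ 5163 Q5163 (allL N5163 (tt N8527 (iv F33280)) (tt N8532 D18611) (tt N6084 (iv F34534)) (tt N3066 F23828) (tt N8531 (iv F33292)) (tt N3065 (iv D13578)) (tt N8001 (iv F34551)))
theorem Q5165 : ∀ i, i < 5165 → P i := stepQ 5164 Q5164 (allL N5164 (tt N8533 D18613) (tt N3066 (iv D13579)) (tt N5185 (iv F23858)) (tt N8532 (iv F33293)) (tt N8414 (iv F32345)) (tt N3084 F23829) (tt N8534 D18614))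
theorem Q5166 : ∀ i, i < 5166 → P i := stepQ 5165 Q5165 (allL N5165 (tt N5111 F23830) (tt N8535 D18615) (tt N3068 F23831) (tt N8001 (iv F34550)) (tt N8415 (iv F32349)) (tt N5110 F23832) (tt N3066 (iv D13580)))
theorem Q5167 : ∀ i, i < 5167 → P i := stepQ 5166 Q5166 (allL N5166 (tt N3067 (iv D13581)) (tt N6562 F33256) (tt N8536 D18616) (tt N8488 (iv F33190)) (tt N8416 (iv F32351)) (tt N3069 F23833) (tt N5175 (iv F23842)))
theorem Q5168 : ∀ i, i < 5168 → P i := stepQ 5167 Q5167 (allL N5167 (tt N8536 (iv F33299)) (tt N5185 (iv F23857)) (tt N3067 (iv D13582)) (tt N8537 D18617) (tt N8417 (iv F32353)) (tt N3070 F23834) (tt N8538 D18618))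
theorem Q5169 : ∀ i, i < 5169 → P i := stepQ 5168 Q5168 (allL N5168 (tt N5175 (iv F23841)) (tt N8539 D18619) (tt N8538 (iv F33307)) (tt N8120 (iv F34394)) (tt N8418 (iv F32355)) (tt N5172 (iv F23837)) (tt N3067 (iv D13583)))
theorem Q5170 : ∀ i, i < 5170 → P i := stepQ 5169 Q5169 (allL N5169 (tt N8540 D18620) (tt N3068 (iv D13584)) (tt N8541 D18621) (tt N8490 (iv F33194)) (tt N8419 (iv F32356)) (tt N8542 D18622) (tt N8539 (iv F33308)))
theorem Q5171 : ∀ i, i < 5171 → P i := stepQ 5170 Q5170 (allL N5170 (tt N8543 D18623) (tt N3069 (iv D13585)) (tt N8544 D18624) (tt N8491 (iv F33195)) (tt N8420 (iv F32357)) (tt N8545 D18625) (tt N8546 D18626))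
theorem Q5172 : ∀ i, i < 5172 → P i := stepQ 5171 Q5171 (allL N5171 (tt N3070 F23835) (tt N4644 (iv F29219)) (tt N3069 (iv D13586)) (tt N4645 F29220) (tt N8421 (iv F32359)) (tt N8536 (iv F33300)) (tt N8547 D18627))
theorem Q5173 : ∀ i, i < 5173 → P i := stepQ 5172 Q5172 (allL N5172 (tt N3071 F23836) (tt N4878 F34391) (tt N8547 (iv F33317)) (tt N4877 F34392) (tt N8422 (iv F32362)) (tt N5168 F23837) (tt N3069 (iv D13587)))
theorem Q5174 : ∀ i, i < 5174 → P i := stepQ 5173 Q5173 (allL N5173 (tt N4645 (iv F29214)) (tt N3085 F23838) (tt N8548 D18629) (tt N3070 (iv D13588)) (tt N8549 D18630) (tt N8537 (iv F33305)) (tt N8550 D18631))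
theorem Q5175 : ∀ i, i < 5175 → P i := stepQ 5174 Q5174 (allL N5174 (tt N8547 (iv F33316)) (tt N3269 F23839) (tt N3071 F23840) (tt N8550 (iv F33329)) (tt N8424 (iv F32367)) (tt N8551 D18632) (tt N3070 (iv D13589)))
theorem Q5176 : ∀ i, i < 5176 → P i := stepQ 5175 Q5175 (allL N5175 (tt N5168 F23841) (tt N8552 D18633) (tt N8551 (iv F33331)) (tt N8494 (iv F33210)) (tt N8425 (iv F32369)) (tt N3071 (iv D13590)) (tt N5166 F23842))
theorem Q5177 : ∀ i, i < 5177 → P i := stepQ 5176 Q5176 (allL N5176 (tt N3072 (iv D13591)) (tt N8553 D18634) (tt N5176 F23843) (tt N3837 F28988) (tt N5357 (iv F24230)) (tt N3836 F28989) (tt N7621 (iv F29610)))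
theorem Q5178 : ∀ i, i < 5178 → P i := stepQ 5177 Q5177 (allL N5177 (tt N7621 (iv F29607)) (tt N5545 (iv F24525)) (tt N5177 F23847) (tt N4560 (iv F29034)) (tt N5359 (iv F24236)) (tt N6471 F29033) (tt N3072 (iv D13594)))
theorem Q5179 : ∀ i, i < 5179 → P i := stepQ 5178 Q5178 (allL N5178 (tt N3075 F23848) (tt N4280 F28985) (tt N5201 (iv F23903)) (tt N5360 (iv F24239)) (tt N3073 (iv D13595)) (tt N3270 F23849) (tt N5532 (iv F24513)))
theorem Q5180 : ∀ i, i < 5180 → P i := stepQ 5179 Q5179 (allL N5179 (tt N3536 F28903) (tt N3074 (iv D13596)) (tt N3319 (iv F28969)) (tt N5199 (iv F23891)) (tt N8554 D18635) (tt N5604 (iv F28968)) (tt N8555 D18636))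
theorem Q5181 : ∀ i, i < 5181 → P i := stepQ 5180 Q5180 (allL N5180 (tt N5201 (iv F23902)) (tt N8554 (iv F33337)) (tt N3075 F23850) (tt N8554 (iv F33339)) (tt N3074 (iv D13597)) (tt N3272 F23851) (tt N8556 D18637))
theorem Q5182 : ∀ i, i < 5182 → P i := stepQ 5181 Q5181 (allL N5181 (tt N5202 (iv F23905)) (tt N7999 (iv F30232)) (tt N3076 F23852) (tt N3322 F23853) (tt N8556 (iv F33346)) (tt N3318 F23854) (tt N3074 (iv D13598)))
theorem Q5183 : ∀ i, i < 5183 → P i := stepQ 5182 Q5182 (allL N5182 (tt N5532 (iv F24511)) (tt N8557 D18638) (tt N8556 (iv F33345)) (tt N8426 (iv F32372)) (tt N3076 F23855) (tt N5197 (iv F23880)) (tt N3075 (iv D13599)))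
theorem Q5184 : ∀ i, i < 5184 → P i := stepQ 5183 Q5183 (allL N5183 (tt N8558 D18639) (tt N3076 (iv D13600)) (tt N7853 (iv F30235)) (tt N3077 F23856) (tt N8557 (iv F33348)) (tt N7852 F30236) (tt N8503 (iv F33226)))
theorem Q5185 : ∀ i, i < 5185 → P i := stepQ 5184 Q5184 (allL N5184 (tt N3077 (iv D13601)) (tt N8559 D18640) (tt N5195 (iv F23876)) (tt N8558 (iv F33349)) (tt N8428 (iv F32375)) (tt N8560 D18641) (tt N8504 (iv F33227)))
theorem Q5186 : ∀ i, i < 5186 → P i := stepQ 5185 Q5185 (allL N5185 (tt N8560 (iv F33350)) (tt N5167 F23857) (tt N5164 F23858) (tt N7852 (iv F30237)) (tt N8429 (iv F32378)) (tt N3077 (iv D13602)) (tt N8561 D18642))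
theorem Q5187 : ∀ i, i < 5187 → P i := stepQ 5186 Q5186 (allL N5186 (tt N3297 F23859) (tt N8520 (iv F33258)) (tt N5651 (iv F24737)) (tt N8430 (iv F32380)) (tt N3078 (iv D13603)) (tt N3293 F23860) (tt N5193 (iv F23874)))
theorem Q5188 : ∀ i, i < 5188 → P i := stepQ 5187 Q5187 (allL N5187 (tt N3079 (iv D13604)) (tt N8562 D18643) (tt N5187 F23861) (tt N3864 F34759) (tt N5367 (iv F24262)) (tt N7787 (iv F34770)) (tt N3862 (iv F34771)))
theorem Q5189 : ∀ i, i < 5189 → P i := stepQ 5188 Q5188 (allL N5188 (tt N7787 (iv F34768)) (tt N5589 (iv F24577)) (tt N5188 F23863) (tt N4664 F34760) (tt N5369 (iv F24265)) (tt N3079 (iv D13606)) (tt N6505 (iv F34774)))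
theorem Q5190 : ∀ i, i < 5190 → P i := stepQ 5189 Q5189 (allL N5189 (tt N3082 F23866) (tt N4332 (iv F34744)) (tt N5209 (iv F23937)) (tt N5370 (iv F24271)) (tt N3080 (iv D13608)) (tt N5576 (iv F24563)) (tt N3293 F23867))
theorem Q5191 : ∀ i, i < 5191 → P i := stepQ 5190 Q5190 (allL N5190 (tt N3544 F34539) (tt N3081 (iv D13609)) (tt N3341 F32094) (tt N5207 (iv F23925)) (tt N8563 D18653) (tt N8564 D18654) (tt N5641 F32095))
theorem Q5192 : ∀ i, i < 5192 → P i := stepQ 5191 Q5191 (allL N5191 (tt N5209 (iv F23936)) (tt N8563 (iv F33370)) (tt N3082 F23868) (tt N8563 (iv F33372)) (tt N3081 (iv D13610)) (tt N8565 D18655) (tt N3295 F23869))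
theorem Q5193 : ∀ i, i < 5193 → P i := stepQ 5192 Q5192 (allL N5192 (tt N5210 (iv F23939)) (tt N7941 (iv F34910)) (tt N3083 F23870) (tt N3344 F23871) (tt N8565 (iv F33379)) (tt N3081 (iv D13611)) (tt N3340 F23872))
theorem Q5194 : ∀ i, i < 5194 → P i := stepQ 5193 Q5193 (allL N5193 (tt N5576 (iv F24561)) (tt N8566 D18657) (tt N8565 (iv F33378)) (tt N8431 (iv F32383)) (tt N3083 F23873) (tt N3082 (iv D13612)) (tt N5186 F23874))
theorem Q5195 : ∀ i, i < 5195 → P i := stepQ 5194 Q5194 (allL N5194 (tt N8567 D18658) (tt N3083 (iv D13613)) (tt N7690 (iv F34913)) (tt N3084 F23875) (tt N8566 (iv F33382)) (tt N8532 (iv F33294)) (tt N7688 (iv F34916)))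
theorem Q5196 : ∀ i, i < 5196 → P i := stepQ 5195 Q5195 (allL N5195 (tt N3084 (iv D13614)) (tt N8568 D18661) (tt N5184 F23876) (tt N8567 (iv F33383)) (tt N8433 (iv F32388)) (tt N8533 (iv F33298)) (tt N8569 D18662))
theorem Q5197 : ∀ i, i < 5197 → P i := stepQ 5196 Q5196 (allL N5196 (tt N8569 (iv F33386)) (tt N5148 F23877) (tt N5145 F23878) (tt N7688 (iv F34915)) (tt N8434 (iv F32391)) (tt N8570 D18663) (tt N3084 (iv D13615)))
theorem Q5198 : ∀ i, i < 5198 → P i := stepQ 5197 Q5197 (allL N5197 (tt N3274 F23879) (tt N8549 (iv F33326)) (tt N5617 (iv F24630)) (tt N8435 (iv F32393)) (tt N3085 (iv D13616)) (tt N5182 F23880) (tt N3270 F23881))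
theorem Q5199 : ∀ i, i < 5199 → P i := stepQ 5198 Q5198 (allL N5198 (tt N5198 F23882) (tt N3089 F29117) (tt N3086 (iv D13617)) (tt N3087 (iv F32582)) (tt N3086 F29119) (tt N5198 F23883) (tt N3086 F32541))
theorem Q5200 : ∀ i, i < 5200 → P i := stepQ 5199 Q5199 (allL N5199 (tt N3092 F28973) (tt N3088 (iv D13620)) (tt N3089 F28974) (tt N5179 F23891) (tt N3088 F28975) (tt N3311 F28976) (tt N5621 F28977))
theorem Q5201 : ∀ i, i < 5201 → P i := stepQ 5200 Q5200 (allL N5200 (tt N5948 F28963) (tt N8571 D18664) (tt N3648 F23901) (tt N5950 F28964) (tt N3574 F28965) (tt N3562 F28966) (tt N3090 (iv D13626)))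
theorem Q5202 : ∀ i, i < 5202 → P i := stepQ 5201 Q5201 (allL N5201 (tt N5180 F23902) (tt N5846 F29006) (tt N5178 F23903) (tt N5852 (iv F29010)) (tt N3091 (iv D13627)) (tt N3317 F23904) (tt N8572 D18665))
theorem Q5203 : ∀ i, i < 5203 → P i := stepQ 5202 Q5202 (allL N5202 (tt N5181 F23905) (tt N8573 D18666) (tt N3276 F23906) (tt N3093 F23907) (tt N8572 (iv F33396)) (tt N3273 F23908) (tt N3091 (iv D13628)))
theorem Q5204 : ∀ i, i < 5204 → P i := stepQ 5203 Q5203 (allL N5203 (tt N8574 D18667) (tt N3093 (iv D13631)) (tt N8066 (iv F30402)) (tt N8573 (iv F33398)) (tt N8166 (iv F33029)) (tt N8575 D18668) (tt N8571 (iv F33393)))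
theorem Q5205 : ∀ i, i < 5205 → P i := stepQ 5204 Q5204 (allL N5204 (tt N8576 D18669) (tt N3094 (iv D13632)) (tt N3651 F23912) (tt N5574 (iv F24559)) (tt N8577 D18670) (tt N8578 D18671) (tt N8575 (iv F34883)))
theorem Q5206 : ∀ i, i < 5206 → P i := stepQ 5205 Q5205 (allL N5205 (tt N3342 F23913) (tt N8577 (iv F33407)) (tt N3095 F23914) (tt N8579 D18673) (tt N3094 (iv D13633)) (tt N3333 F23915) (tt N4923 F32916))
theorem Q5207 : ∀ i, i < 5207 → P i := stepQ 5206 Q5206 (allL N5206 (tt N5206 F23916) (tt N3099 F32104) (tt N3096 (iv D13634)) (tt N3097 F32948) (tt N3096 F32106) (tt N3096 F32949) (tt N5206 F23917))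
theorem Q5208 : ∀ i, i < 5208 → P i := stepQ 5207 Q5207 (allL N5207 (tt N3102 F32096) (tt N3098 (iv D13637)) (tt N3099 F32097) (tt N5190 F23925) (tt N3098 F32098) (tt N5654 F32099) (tt N3333 F32100))
theorem Q5209 : ∀ i, i < 5209 → P i := stepQ 5208 Q5208 (allL N5208 (tt N5949 F34515) (tt N8580 D18686) (tt N3656 F23933) (tt N5951 (iv F34538)) (tt N3584 F34516) (tt N3100 (iv D13642)) (tt N3566 F34517))
theorem Q5210 : ∀ i, i < 5210 → P i := stepQ 5209 Q5209 (allL N5209 (tt N5191 F23936) (tt N5849 (iv F34537)) (tt N5189 F23937) (tt N5860 (iv F34543)) (tt N3101 (iv D13644)) (tt N8581 D18690) (tt N3339 F23938))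
theorem Q5211 : ∀ i, i < 5211 → P i := stepQ 5210 Q5210 (allL N5210 (tt N5192 F23939) (tt N8582 D18691) (tt N3299 F23940) (tt N3103 F23941) (tt N8581 (iv F33446)) (tt N3101 (iv D13645)) (tt N3296 F23942))
theorem Q5212 : ∀ i, i < 5212 → P i := stepQ 5211 Q5211 (allL N5211 (tt N8583 D18692) (tt N3103 (iv D13648)) (tt N8110 (iv F30525)) (tt N8582 (iv F33448)) (tt N8196 F33017) (tt N8580 (iv F33434)) (tt N8584 D18693))
theorem Q5213 : ∀ i, i < 5213 → P i := stepQ 5212 Q5212 (allL N5212 (tt N8585 D18694) (tt N3104 (iv D13649)) (tt N3660 F23947) (tt N5530 (iv F24509)) (tt N8586 D18695) (tt N8584 (iv F34880)) (tt N8587 D18697))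
theorem Q5214 : ∀ i, i < 5214 → P i := stepQ 5213 Q5213 (allL N5213 (tt N3320 F23948) (tt N8586 (iv F33453)) (tt N3105 F23949) (tt N8588 D18698) (tt N3104 (iv D13650)) (tt N4904 F32603) (tt N3311 F23951))
theorem Q5215 : ∀ i, i < 5215 → P i := stepQ 5214 Q5214 (allL N5214 (tt N3107 F23960) (tt N8211 (iv F31774)) (tt N4148 (iv F23961)) (tt N3106 (iv D13653)) (tt N8211 (iv F31775)) (tt N8589 D18699) (tt N8590 D18700))
theorem Q5216 : ∀ i, i < 5216 → P i := stepQ 5215 Q5215 (allL N5215 (tt N3108 F23962) (tt N8591 D18701) (tt N3108 F23963) (tt N8589 (iv F33467)) (tt N3192 F23964) (tt N3106 (iv D13654)) (tt N5222 (iv F23981)))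
theorem Q5217 : ∀ i, i < 5217 → P i := stepQ 5216 Q5216 (allL N5216 (tt N3109 F23965) (tt N8592 D18702) (tt N3109 F23966) (tt N8590 (iv F33470)) (tt N3193 F23967) (tt N5220 (iv F23975)) (tt N3106 (iv D13655)))
theorem Q5218 : ∀ i, i < 5218 → P i := stepQ 5217 Q5217 (allL N5217 (tt N8589 (iv F33465)) (tt N8593 D18703) (tt N4150 F23968) (tt N3108 F23969) (tt N8214 (iv F31789)) (tt N3107 (iv D13656)) (tt N8594 D18704))
theorem Q5219 : ∀ i, i < 5219 → P i := stepQ 5218 Q5218 (allL N5218 (tt N8590 (iv F33468)) (tt N8595 D18705) (tt N4151 F23970) (tt N3109 F23971) (tt N8215 (iv F31792)) (tt N8596 D18706) (tt N3107 (iv D13657)))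
theorem Q5220 : ∀ i, i < 5220 → P i := stepQ 5219 Q5219 (allL N5219 (tt N8597 D18707) (tt N3108 (iv D13658)) (tt N8598 D18708) (tt N8593 (iv F33473)) (tt N3194 F23972) (tt N3112 F23973) (tt N8599 D18709))
theorem Q5221 : ∀ i, i < 5221 → P i := stepQ 5220 Q5220 (allL N5220 (tt N5222 (iv F23978)) (tt N8600 D18710) (tt N5222 (iv F23979)) (tt N8594 (iv F33476)) (tt N3195 F23974) (tt N5216 F23975) (tt N3108 (iv D13659)))
theorem Q5222 : ∀ i, i < 5222 → P i := stepQ 5221 Q5221 (allL N5221 (tt N8601 D18711) (tt N3109 (iv D13660)) (tt N8602 D18712) (tt N8595 (iv F33478)) (tt N3196 F23976) (tt N8603 D18713) (tt N3113 F23977))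
theorem Q5223 : ∀ i, i < 5223 → P i := stepQ 5222 Q5222 (allL N5222 (tt N5220 F23978) (tt N8604 D18714) (tt N5220 F23979) (tt N8596 (iv F33482)) (tt N3197 F23980) (tt N3109 (iv D13661)) (tt N5215 F23981))
theorem Q5224 : ∀ i, i < 5224 → P i := stepQ 5223 Q5223 (allL N5223 (tt N8605 D18715) (tt N3110 (iv D13662)) (tt N8606 D18716) (tt N3112 F23982) (tt N8218 (iv F31801)) (tt N8593 (iv F33474)) (tt N8607 D18717))
theorem Q5225 : ∀ i, i < 5225 → P i := stepQ 5224 Q5224 (allL N5224 (tt N8608 D18718) (tt N3111 (iv D13663)) (tt N8609 D18719) (tt N3113 F23983) (tt N8219 (iv F31803)) (tt N8610 D18720) (tt N8595 (iv F33479)))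
theorem Q5226 : ∀ i, i < 5226 → P i := stepQ 5225 Q5225 (allL N5225 (tt N3112 (iv D13664)) (tt N8611 D18721) (tt N8612 D18722) (tt N8605 (iv F33500)) (tt N3198 F23984) (tt N8597 (iv F33485)) (tt N8613 D18723))
theorem Q5227 : ∀ i, i < 5227 → P i := stepQ 5226 Q5226 (allL N5226 (tt N8612 (iv F33507)) (tt N6143 (iv F29246)) (tt N3112 (iv D13665)) (tt N6139 F29245) (tt N3199 F23985) (tt N8598 (iv F33491)) (tt N8614 D18724))
theorem Q5228 : ∀ i, i < 5228 → P i := stepQ 5227 Q5227 (allL N5227 (tt N8613 (iv F33510)) (tt N5256 (iv F24038)) (tt N8614 (iv F33513)) (tt N8607 (iv F33502)) (tt N3200 F23986) (tt N8615 D18725) (tt N3112 (iv D13666)))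
theorem Q5229 : ∀ i, i < 5229 → P i := stepQ 5228 Q5228 (allL N5228 (tt N3113 (iv D13667)) (tt N8616 D18726) (tt N8617 D18727) (tt N8608 (iv F33503)) (tt N3201 F23987) (tt N8618 D18728) (tt N8601 (iv F33495)))
theorem Q5230 : ∀ i, i < 5230 → P i := stepQ 5229 Q5229 (allL N5229 (tt N8617 (iv F33519)) (tt N6156 (iv F34182)) (tt N3113 (iv D13668)) (tt N6152 (iv F35505)) (tt N3202 F23988) (tt N8619 D18730) (tt N8602 (iv F33497)))
theorem Q5231 : ∀ i, i < 5231 → P i := stepQ 5230 Q5230 (allL N5230 (tt N8618 (iv F33521)) (tt N5248 (iv F24025)) (tt N8619 (iv F33524)) (tt N8610 (iv F33505)) (tt N3203 F23989) (tt N3113 (iv D13669)) (tt N8620 D18731))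
theorem Q5232 : ∀ i, i < 5232 → P i := stepQ 5231 Q5231 (allL N5231 (tt N8621 D18732) (tt N3114 (iv D13670)) (tt N8622 D18733) (tt N4127 F23990) (tt N8224 (iv F31810)) (tt N8224 (iv F31811)) (tt N8623 D18734))
theorem Q5233 : ∀ i, i < 5233 → P i := stepQ 5232 Q5232 (allL N5232 (tt N8624 D18735) (tt N3115 (iv D13671)) (tt N8625 D18736) (tt N4128 F23991) (tt N8225 (iv F31813)) (tt N8626 D18737) (tt N8225 (iv F31814)))
theorem Q5234 : ∀ i, i < 5234 → P i := stepQ 5233 Q5233 (allL N5233 (tt N3116 (iv D13672)) (tt N8627 D18738) (tt N4234 (iv F24000)) (tt N3120 F23992) (tt N8226 (iv F31816)) (tt N3128 F23993) (tt N5261 (iv F24053)))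
theorem Q5235 : ∀ i, i < 5235 → P i := stepQ 5234 Q5234 (allL N5234 (tt N4234 F24001) (tt N8622 (iv F33533)) (tt N3116 (iv D13673)) (tt N4276 (iv F24003)) (tt N8227 (iv F31820)) (tt N3129 F24002) (tt N7089 (iv F27969)))
theorem Q5236 : ∀ i, i < 5236 → P i := stepQ 5235 Q5235 (allL N5235 (tt N5261 (iv F24051)) (tt N8628 D18739) (tt N7089 (iv F27967)) (tt N3122 F24004) (tt N8228 (iv F31824)) (tt N5258 (iv F24045)) (tt N3116 (iv D13674)))
theorem Q5237 : ∀ i, i < 5237 → P i := stepQ 5236 Q5236 (allL N5236 (tt N8629 D18740) (tt N3117 (iv D13675)) (tt N8630 D18741) (tt N3123 F24005) (tt N8229 (iv F31826)) (tt N8631 D18742) (tt N8628 (iv F33551)))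
theorem Q5238 : ∀ i, i < 5238 → P i := stepQ 5237 Q5237 (allL N5237 (tt N3118 (iv D13676)) (tt N8632 D18743) (tt N4256 (iv F24008)) (tt N3124 F24006) (tt N8230 (iv F31828)) (tt N5269 (iv F24071)) (tt N3132 F24007))
theorem Q5239 : ∀ i, i < 5239 → P i := stepQ 5238 Q5238 (allL N5238 (tt N4256 F24009) (tt N8625 (iv F33544)) (tt N3118 (iv D13677)) (tt N4328 (iv F24011)) (tt N8231 (iv F31832)) (tt N7128 (iv F28024)) (tt N3133 F24010))
theorem Q5240 : ∀ i, i < 5240 → P i := stepQ 5239 Q5239 (allL N5239 (tt N5269 (iv F24069)) (tt N8633 D18744) (tt N7128 (iv F28022)) (tt N3126 F24012) (tt N8232 (iv F31836)) (tt N3118 (iv D13678)) (tt N5266 (iv F24062)))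
theorem Q5241 : ∀ i, i < 5241 → P i := stepQ 5240 Q5240 (allL N5240 (tt N8634 D18745) (tt N3119 (iv D13679)) (tt N8635 D18746) (tt N3127 F24013) (tt N8233 (iv F31838)) (tt N8633 (iv F33557)) (tt N8636 D18747))
theorem Q5242 : ∀ i, i < 5242 → P i := stepQ 5241 Q5241 (allL N5241 (tt N8637 D18748) (tt N3120 (iv D13680)) (tt N8638 D18749) (tt N8627 (iv F33549)) (tt N3204 F24014) (tt N8639 D18750) (tt N8640 D18751))
theorem Q5243 : ∀ i, i < 5243 → P i := stepQ 5242 Q5242 (allL N5242 (tt N3121 F24015) (tt N6048 F29026) (tt N3120 (iv D13681)) (tt N8641 D18752) (tt N3205 F24016) (tt N3137 F24017) (tt N5284 (iv F24098)))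
theorem Q5244 : ∀ i, i < 5244 → P i := stepQ 5243 Q5243 (allL N5243 (tt N8641 (iv F33569)) (tt N8360 (iv F32221)) (tt N7172 (iv F28109)) (tt N3121 (iv D13682)) (tt N8642 D18753) (tt N3139 F24018) (tt N8643 D18754))
theorem Q5245 : ∀ i, i < 5245 → P i := stepQ 5244 Q5244 (allL N5244 (tt N5284 (iv F24095)) (tt N8644 D18755) (tt N3122 F24019) (tt N8643 (iv F33574)) (tt N3207 F24020) (tt N5279 (iv F24088)) (tt N3121 (iv D13683)))
theorem Q5246 : ∀ i, i < 5246 → P i := stepQ 5245 Q5245 (allL N5245 (tt N8645 D18756) (tt N3122 (iv D13684)) (tt N8646 D18757) (tt N8628 (iv F33550)) (tt N3208 F24021) (tt N8647 D18758) (tt N3123 F24022))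
theorem Q5247 : ∀ i, i < 5247 → P i := stepQ 5246 Q5246 (allL N5246 (tt N3123 (iv D13685)) (tt N8648 D18759) (tt N8649 D18760) (tt N8629 (iv F33552)) (tt N3209 F24023) (tt N8650 D18761) (tt N8645 (iv F33577)))
theorem Q5248 : ∀ i, i < 5248 → P i := stepQ 5247 Q5247 (allL N5247 (tt N8649 (iv F33582)) (tt N8364 (iv F32228)) (tt N3123 (iv D13686)) (tt N6327 (iv F39756)) (tt N3210 F24024) (tt N8651 D18763) (tt N8646 (iv F33579)))
theorem Q5249 : ∀ i, i < 5249 → P i := stepQ 5248 Q5248 (allL N5248 (tt N8650 (iv F33584)) (tt N5230 F24025) (tt N8651 (iv F33587)) (tt N8631 (iv F33554)) (tt N3211 F24026) (tt N3123 (iv D13687)) (tt N8652 D18764))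
theorem Q5250 : ∀ i, i < 5250 → P i := stepQ 5249 Q5249 (allL N5249 (tt N8653 D18765) (tt N3124 (iv D13688)) (tt N8654 D18766) (tt N8632 (iv F33555)) (tt N3212 F24027) (tt N8655 D18767) (tt N8656 D18768))
theorem Q5251 : ∀ i, i < 5251 → P i := stepQ 5250 Q5250 (allL N5250 (tt N3125 F24028) (tt N6086 (iv F34561)) (tt N3124 (iv D13689)) (tt N8657 D18770) (tt N3213 F24029) (tt N5306 (iv F24137)) (tt N3147 F24030))
theorem Q5252 : ∀ i, i < 5252 → P i := stepQ 5251 Q5251 (allL N5251 (tt N8657 (iv F33598)) (tt N8368 (iv F32236)) (tt N7275 (iv F28326)) (tt N3125 (iv D13690)) (tt N8658 D18771) (tt N8659 D18772) (tt N3149 F24031))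
theorem Q5253 : ∀ i, i < 5253 → P i := stepQ 5252 Q5252 (allL N5252 (tt N5306 (iv F24134)) (tt N8660 D18773) (tt N3126 F24032) (tt N8659 (iv F33602)) (tt N3215 F24033) (tt N3125 (iv D13691)) (tt N5301 (iv F24127)))
theorem Q5254 : ∀ i, i < 5254 → P i := stepQ 5253 Q5253 (allL N5253 (tt N8661 D18774) (tt N3126 (iv D13692)) (tt N8662 D18775) (tt N8633 (iv F33556)) (tt N3216 F24034) (tt N3127 F24035) (tt N8663 D18776))
theorem Q5255 : ∀ i, i < 5255 → P i := stepQ 5254 Q5254 (allL N5254 (tt N3127 (iv D13693)) (tt N8664 D18777) (tt N8665 D18778) (tt N8634 (iv F33558)) (tt N3217 F24036) (tt N8661 (iv F33605)) (tt N8666 D18779))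
theorem Q5256 : ∀ i, i < 5256 → P i := stepQ 5255 Q5255 (allL N5255 (tt N8665 (iv F33610)) (tt N8372 (iv F32243)) (tt N3127 (iv D13694)) (tt N6300 (iv F39712)) (tt N3218 F24037) (tt N8662 (iv F33607)) (tt N8667 D18781))
theorem Q5257 : ∀ i, i < 5257 → P i := stepQ 5256 Q5256 (allL N5256 (tt N8666 (iv F33612)) (tt N5227 F24038) (tt N8667 (iv F33615)) (tt N8636 (iv F33560)) (tt N3219 F24039) (tt N8668 D18782) (tt N3127 (iv D13695)))
theorem Q5258 : ∀ i, i < 5258 → P i := stepQ 5257 Q5257 (allL N5257 (tt N8669 D18783) (tt N3128 (iv D13696)) (tt N4236 F24040) (tt N3136 F24041) (tt N7039 F27821) (tt N7208 (iv F28192)) (tt N8670 D18784))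
theorem Q5259 : ∀ i, i < 5259 → P i := stepQ 5258 Q5258 (allL N5258 (tt N3130 F24042) (tt N8671 D18785) (tt N4235 F24043) (tt N3138 F24044) (tt N8242 (iv F31855)) (tt N5235 F24045) (tt N3128 (iv D13697)))
theorem Q5260 : ∀ i, i < 5260 → P i := stepQ 5259 Q5259 (allL N5259 (tt N4235 F24046) (tt N8672 D18786) (tt N3130 F24047) (tt N4277 F24048) (tt N8243 (iv F31860)) (tt N7087 (iv F27963)) (tt N3129 (iv D13698)))
theorem Q5261 : ∀ i, i < 5261 → P i := stepQ 5260 Q5260 (allL N5260 (tt N8673 D18787) (tt N3130 (iv D13699)) (tt N8674 D18788) (tt N3141 F24049) (tt N5272 (iv F24078)) (tt N8675 D18789) (tt N3131 F24050))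
theorem Q5262 : ∀ i, i < 5262 → P i := stepQ 5261 Q5261 (allL N5261 (tt N5235 F24051) (tt N8676 D18790) (tt N7087 (iv F27961)) (tt N3142 F24052) (tt N8244 (iv F31863)) (tt N3130 (iv D13700)) (tt N5233 F24053))
theorem Q5263 : ∀ i, i < 5263 → P i := stepQ 5262 Q5262 (allL N5262 (tt N3131 (iv D13701)) (tt N8677 D18791) (tt N4270 F37346) (tt N3143 F24054) (tt N5270 (iv F24073)) (tt N8678 D18793) (tt N8673 (iv F33630)))
theorem Q5264 : ∀ i, i < 5264 → P i := stepQ 5263 Q5263 (allL N5263 (tt N4270 (iv F37344)) (tt N5271 (iv F24074)) (tt N3131 (iv D13702)) (tt N4365 F37342) (tt N5271 (iv F24075)) (tt N8679 D18795) (tt N8674 (iv F33631)))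
theorem Q5265 : ∀ i, i < 5265 → P i := stepQ 5264 Q5264 (allL N5264 (tt N8678 (iv F33636)) (tt N4966 F24055) (tt N8679 (iv F33639)) (tt N3145 F24056) (tt N5268 (iv F24067)) (tt N3131 (iv D13703)) (tt N8680 D18796))
theorem Q5266 : ∀ i, i < 5266 → P i := stepQ 5265 Q5265 (allL N5265 (tt N8681 D18797) (tt N3132 (iv D13704)) (tt N4257 F24057) (tt N3146 F24058) (tt N7067 (iv F34655)) (tt N8682 D18798) (tt N7308 (iv F34677)))
theorem Q5267 : ∀ i, i < 5267 → P i := stepQ 5266 Q5266 (allL N5266 (tt N3134 F24059) (tt N8683 D18800) (tt N4255 F24060) (tt N3148 F24061) (tt N8245 (iv F31871)) (tt N3132 (iv D13705)) (tt N5239 F24062))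
theorem Q5268 : ∀ i, i < 5268 → P i := stepQ 5267 Q5267 (allL N5267 (tt N4255 F24063) (tt N8684 D18801) (tt N3134 F24064) (tt N4327 F24065) (tt N8246 (iv F31876)) (tt N3133 (iv D13706)) (tt N7129 (iv F28028)))
theorem Q5269 : ∀ i, i < 5269 → P i := stepQ 5268 Q5268 (allL N5268 (tt N8685 D18802) (tt N3134 (iv D13707)) (tt N8686 D18803) (tt N3151 F24066) (tt N5264 F24067) (tt N3135 F24068) (tt N8687 D18804))
theorem Q5270 : ∀ i, i < 5270 → P i := stepQ 5269 Q5269 (allL N5269 (tt N5239 F24069) (tt N8688 D18805) (tt N7129 (iv F28026)) (tt N3152 F24070) (tt N8247 (iv F31879)) (tt N5237 F24071) (tt N3134 (iv D13708)))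
theorem Q5271 : ∀ i, i < 5271 → P i := stepQ 5270 Q5270 (allL N5270 (tt N3135 (iv D13709)) (tt N8689 D18806) (tt N4249 F37347) (tt N3153 F24072) (tt N5262 F24073) (tt N8685 (iv F33653)) (tt N8690 D18808))
theorem Q5272 : ∀ i, i < 5272 → P i := stepQ 5271 Q5271 (allL N5271 (tt N4249 (iv F37345)) (tt N5263 F24074) (tt N3135 (iv D13710)) (tt N4314 F37343) (tt N5263 F24075) (tt N8686 (iv F33655)) (tt N8691 D18810))
theorem Q5273 : ∀ i, i < 5273 → P i := stepQ 5272 Q5272 (allL N5272 (tt N8690 (iv F33663)) (tt N4963 F24076) (tt N8691 (iv F33668)) (tt N3155 F24077) (tt N5260 F24078) (tt N8692 D18811) (tt N3135 (iv D13711)))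
theorem Q5274 : ∀ i, i < 5274 → P i := stepQ 5273 Q5273 (allL N5273 (tt N3136 (iv D13712)) (tt N7037 (iv F27824)) (tt N8693 D18812) (tt N8669 (iv F33622)) (tt N3220 F24079) (tt N8694 D18813) (tt N8695 D18814))
theorem Q5275 : ∀ i, i < 5275 → P i := stepQ 5274 Q5274 (allL N5274 (tt N8693 (iv F33674)) (tt N8696 D18815) (tt N3136 (iv D13713)) (tt N8697 D18816) (tt N3221 F24080) (tt N8698 D18817) (tt N8699 D18818))
theorem Q5276 : ∀ i, i < 5276 → P i := stepQ 5275 Q5275 (allL N5275 (tt N8694 (iv F33677)) (tt N8639 (iv F33565)) (tt N8698 (iv F33685)) (tt N7208 (iv F28191)) (tt N3222 F24081) (tt N3136 (iv D13714)) (tt N8700 D18819))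
theorem Q5277 : ∀ i, i < 5277 → P i := stepQ 5276 Q5276 (allL N5276 (tt N8695 (iv F33680)) (tt N8701 D18820) (tt N8699 (iv F33687)) (tt N8670 (iv F33626)) (tt N3223 F24082) (tt N8702 D18821) (tt N3136 (iv D13715)))
theorem Q5278 : ∀ i, i < 5278 → P i := stepQ 5277 Q5277 (allL N5277 (tt N8696 (iv F33682)) (tt N3137 (iv D13716)) (tt N8696 (iv F33683)) (tt N8703 D18822) (tt N3224 F24083) (tt N8704 D18823) (tt N8705 D18824))
theorem Q5279 : ∀ i, i < 5279 → P i := stepQ 5278 Q5278 (allL N5278 (tt N3139 F24084) (tt N8703 (iv F33696)) (tt N6280 (iv F26187)) (tt N3137 (iv D13717)) (tt N8706 D18825) (tt N8641 (iv F33570)) (tt N8707 D18826))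
theorem Q5280 : ∀ i, i < 5280 → P i := stepQ 5279 Q5279 (allL N5279 (tt N3140 F24085) (tt N8708 D18827) (tt N3138 F24086) (tt N8707 (iv F33702)) (tt N3226 F24087) (tt N5244 F24088) (tt N3137 (iv D13718)))
theorem Q5281 : ∀ i, i < 5281 → P i := stepQ 5280 Q5280 (allL N5280 (tt N8709 D18828) (tt N3138 (iv D13719)) (tt N8710 D18829) (tt N8671 (iv F33627)) (tt N3227 F24089) (tt N8711 D18830) (tt N8701 (iv F33692)))
theorem Q5282 : ∀ i, i < 5282 → P i := stepQ 5281 Q5281 (allL N5281 (tt N8706 (iv F33699)) (tt N3159 F24090) (tt N7171 (iv F28107)) (tt N3228 F24091) (tt N3139 (iv D13720)) (tt N8642 (iv F33573)) (tt N8712 D18831))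
theorem Q5283 : ∀ i, i < 5283 → P i := stepQ 5282 Q5282 (allL N5282 (tt N8707 (iv F33701)) (tt N8713 D18832) (tt N7173 (iv F28111)) (tt N3140 F24092) (tt N8712 (iv F33710)) (tt N8714 D18833) (tt N3139 (iv D13721)))
theorem Q5284 : ∀ i, i < 5284 → P i := stepQ 5283 Q5283 (allL N5283 (tt N8715 D18834) (tt N3140 (iv D13722)) (tt N8716 D18835) (tt N8713 (iv F33711)) (tt N3230 F24093) (tt N8717 D18836) (tt N3161 F24094))
theorem Q5285 : ∀ i, i < 5285 → P i := stepQ 5284 Q5284 (allL N5284 (tt N5244 F24095) (tt N8718 D18837) (tt N3142 F24096) (tt N8714 (iv F33714)) (tt N3231 F24097) (tt N3140 (iv D13723)) (tt N5242 F24098))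
theorem Q5286 : ∀ i, i < 5286 → P i := stepQ 5285 Q5285 (allL N5285 (tt N3141 (iv D13724)) (tt N8719 D18838) (tt N8720 D18839) (tt N8673 (iv F33629)) (tt N3232 F24099) (tt N5294 (iv F24117)) (tt N3143 F24100))
theorem Q5287 : ∀ i, i < 5287 → P i := stepQ 5286 Q5286 (allL N5286 (tt N8720 (iv F33724)) (tt N8716 (iv F33718)) (tt N3141 (iv D13725)) (tt N8721 D18840) (tt N3233 F24101) (tt N8722 D18841) (tt N3144 F24102))
theorem Q5288 : ∀ i, i < 5288 → P i := stepQ 5287 Q5287 (allL N5287 (tt N5294 (iv F24115)) (tt N8723 D18842) (tt N8722 (iv F33728)) (tt N8675 (iv F33632)) (tt N3234 F24103) (tt N3141 (iv D13726)) (tt N5291 (iv F24110)))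
theorem Q5289 : ∀ i, i < 5289 → P i := stepQ 5288 Q5288 (allL N5288 (tt N8724 D18843) (tt N3142 (iv D13727)) (tt N8725 D18844) (tt N8676 (iv F33633)) (tt N3235 F24104) (tt N8723 (iv F33731)) (tt N8726 D18845))
theorem Q5290 : ∀ i, i < 5290 → P i := stepQ 5289 Q5289 (allL N5289 (tt N8727 D18846) (tt N3143 (iv D13728)) (tt N8728 D18847) (tt N8677 (iv F33634)) (tt N3236 F24105) (tt N8729 D18848) (tt N8730 D18849))
theorem Q5291 : ∀ i, i < 5291 → P i := stepQ 5290 Q5290 (allL N5290 (tt N3144 F24106) (tt N8731 D18850) (tt N3143 (iv D13729)) (tt N8732 D18851) (tt N3237 F24107) (tt N8733 D18852) (tt N8720 (iv F33726)))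
theorem Q5292 : ∀ i, i < 5292 → P i := stepQ 5291 Q5291 (allL N5291 (tt N3145 F24108) (tt N8734 D18853) (tt N8733 (iv F33748)) (tt N8678 (iv F33637)) (tt N3238 F24109) (tt N3143 (iv D13730)) (tt N5287 F24110))
theorem Q5293 : ∀ i, i < 5293 → P i := stepQ 5292 Q5292 (allL N5292 (tt N8732 (iv F33746)) (tt N3166 F24111) (tt N7345 (iv F37341)) (tt N3144 (iv D13731)) (tt N8735 D18855) (tt N8736 D18856) (tt N8721 (iv F33727)))
theorem Q5294 : ∀ i, i < 5294 → P i := stepQ 5293 Q5293 (allL N5293 (tt N8733 (iv F33747)) (tt N5293 F24112) (tt N3145 F24113) (tt N8736 (iv F33755)) (tt N3240 F24114) (tt N3144 (iv D13732)) (tt N5511 (iv F35471)))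
theorem Q5295 : ∀ i, i < 5295 → P i := stepQ 5294 Q5294 (allL N5294 (tt N5287 F24115) (tt N8737 D18858) (tt N5511 (iv F35469)) (tt N8680 (iv F33641)) (tt N3241 F24116) (tt N5285 F24117) (tt N3145 (iv D13733)))
theorem Q5296 : ∀ i, i < 5296 → P i := stepQ 5295 Q5295 (allL N5295 (tt N3146 (iv D13734)) (tt N7065 (iv F34651)) (tt N8738 D18859) (tt N8681 (iv F33644)) (tt N3242 F24118) (tt N8739 D18860) (tt N8740 D18861))
theorem Q5297 : ∀ i, i < 5297 → P i := stepQ 5296 Q5296 (allL N5296 (tt N8738 (iv F33762)) (tt N8741 D18862) (tt N3146 (iv D13735)) (tt N8742 D18863) (tt N3243 F24119) (tt N8743 D18864) (tt N8744 D18865))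
theorem Q5298 : ∀ i, i < 5298 → P i := stepQ 5297 Q5297 (allL N5297 (tt N8739 (iv F33765)) (tt N8745 D18866) (tt N8743 (iv F33772)) (tt N8682 (iv F33646)) (tt N3244 F24120) (tt N3146 (iv D13736)) (tt N8746 D18867))
theorem Q5299 : ∀ i, i < 5299 → P i := stepQ 5298 Q5298 (allL N5298 (tt N8740 (iv F33767)) (tt N8656 (iv F33595)) (tt N8744 (iv F33774)) (tt N7308 (iv F34676)) (tt N3245 F24121) (tt N8747 D18868) (tt N3146 (iv D13737)))
theorem Q5300 : ∀ i, i < 5300 → P i := stepQ 5299 Q5299 (allL N5299 (tt N8741 (iv F33769)) (tt N3147 (iv D13738)) (tt N8741 (iv F33770)) (tt N8748 D18869) (tt N3246 F24122) (tt N8749 D18870) (tt N8750 D18871))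
theorem Q5301 : ∀ i, i < 5301 → P i := stepQ 5300 Q5300 (allL N5300 (tt N3149 F24123) (tt N8748 (iv F33783)) (tt N6307 (iv F26244)) (tt N3147 (iv D13739)) (tt N8751 D18872) (tt N8752 D18873) (tt N8657 (iv F33599)))
theorem Q5302 : ∀ i, i < 5302 → P i := stepQ 5301 Q5301 (allL N5301 (tt N3150 F24124) (tt N8753 D18874) (tt N3148 F24125) (tt N8752 (iv F33789)) (tt N3248 F24126) (tt N3147 (iv D13740)) (tt N5252 F24127))
theorem Q5303 : ∀ i, i < 5303 → P i := stepQ 5302 Q5302 (allL N5302 (tt N8754 D18875) (tt N3148 (iv D13741)) (tt N8755 D18876) (tt N8683 (iv F33649)) (tt N3249 F24128) (tt N8745 (iv F33777)) (tt N8756 D18877))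
theorem Q5304 : ∀ i, i < 5304 → P i := stepQ 5303 Q5303 (allL N5303 (tt N8751 (iv F33786)) (tt N3170 F24129) (tt N7273 (iv F28322)) (tt N3250 F24130) (tt N3149 (iv D13742)) (tt N8757 D18878) (tt N8658 (iv F33601)))
theorem Q5305 : ∀ i, i < 5305 → P i := stepQ 5304 Q5304 (allL N5304 (tt N8752 (iv F33788)) (tt N8758 D18879) (tt N7274 (iv F28324)) (tt N3150 F24131) (tt N8757 (iv F33797)) (tt N3149 (iv D13743)) (tt N8759 D18880))
theorem Q5306 : ∀ i, i < 5306 → P i := stepQ 5305 Q5305 (allL N5305 (tt N8760 D18881) (tt N3150 (iv D13744)) (tt N8761 D18882) (tt N8758 (iv F33798)) (tt N3252 F24132) (tt N3172 F24133) (tt N8762 D18883))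
theorem Q5307 : ∀ i, i < 5307 → P i := stepQ 5306 Q5306 (allL N5306 (tt N5252 F24134) (tt N8763 D18884) (tt N3152 F24135) (tt N8759 (iv F33801)) (tt N3253 F24136) (tt N5250 F24137) (tt N3150 (iv D13745)))
theorem Q5308 : ∀ i, i < 5308 → P i := stepQ 5307 Q5307 (allL N5307 (tt N3151 (iv D13746)) (tt N8764 D18885) (tt N8765 D18886) (tt N8685 (iv F33651)) (tt N3254 F24138) (tt N3153 F24139) (tt N5316 (iv F24156)))
theorem Q5309 : ∀ i, i < 5309 → P i := stepQ 5308 Q5308 (allL N5308 (tt N8765 (iv F33811)) (tt N8761 (iv F33805)) (tt N3151 (iv D13747)) (tt N8766 D18887) (tt N3255 F24140) (tt N3154 F24141) (tt N8767 D18888))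
theorem Q5310 : ∀ i, i < 5310 → P i := stepQ 5309 Q5309 (allL N5309 (tt N5316 (iv F24154)) (tt N8768 D18889) (tt N8767 (iv F33815)) (tt N8687 (iv F33656)) (tt N3256 F24142) (tt N5313 (iv F24149)) (tt N3151 (iv D13748)))
theorem Q5311 : ∀ i, i < 5311 → P i := stepQ 5310 Q5310 (allL N5310 (tt N8769 D18890) (tt N3152 (iv D13749)) (tt N8770 D18891) (tt N8688 (iv F33658)) (tt N3257 F24143) (tt N8771 D18892) (tt N8768 (iv F33818)))
theorem Q5312 : ∀ i, i < 5312 → P i := stepQ 5311 Q5311 (allL N5311 (tt N8772 D18893) (tt N3153 (iv D13750)) (tt N8773 D18894) (tt N8689 (iv F33659)) (tt N3258 F24144) (tt N8774 D18895) (tt N8775 D18896))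
theorem Q5313 : ∀ i, i < 5313 → P i := stepQ 5312 Q5312 (allL N5312 (tt N3154 F24145) (tt N8776 D18897) (tt N3153 (iv D13751)) (tt N8777 D18898) (tt N3259 F24146) (tt N8765 (iv F33813)) (tt N8778 D18899))
theorem Q5314 : ∀ i, i < 5314 → P i := stepQ 5313 Q5313 (allL N5313 (tt N3155 F24147) (tt N8779 D18900) (tt N8778 (iv F33831)) (tt N8690 (iv F33664)) (tt N3260 F24148) (tt N5309 F24149) (tt N3153 (iv D13752)))
theorem Q5315 : ∀ i, i < 5315 → P i := stepQ 5314 Q5314 (allL N5314 (tt N8777 (iv F33829)) (tt N3177 F24150) (tt N7245 (iv F37351)) (tt N3154 (iv D13753)) (tt N8780 D18902) (tt N8766 (iv F33814)) (tt N8781 D18903))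
theorem Q5316 : ∀ i, i < 5316 → P i := stepQ 5315 Q5315 (allL N5315 (tt N8778 (iv F33830)) (tt N5315 F24151) (tt N3155 F24152) (tt N8781 (iv F33838)) (tt N3262 F24153) (tt N5471 (iv F35459)) (tt N3154 (iv D13754)))
theorem Q5317 : ∀ i, i < 5317 → P i := stepQ 5316 Q5316 (allL N5316 (tt N5309 F24154) (tt N8782 D18905) (tt N5471 (iv F35458)) (tt N8692 (iv F33671)) (tt N3263 F24155) (tt N3155 (iv D13755)) (tt N5307 F24156))
theorem Q5318 : ∀ i, i < 5318 → P i := stepQ 5317 Q5317 (allL N5317 (tt N7034 F27830) (tt N3156 (iv D13756)) (tt N3157 F24157) (tt N7033 (iv F27832)) (tt N3264 F24158) (tt N8783 D18906) (tt N8784 D18907))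
theorem Q5319 : ∀ i, i < 5319 → P i := stepQ 5318 Q5318 (allL N5318 (tt N5318 F24159) (tt N7033 F27833) (tt N5005 F24162) (tt N3156 (iv D13757)) (tt N7528 (iv F29411)) (tt N5318 F24160) (tt N5005 F24161))
theorem Q5320 : ∀ i, i < 5320 → P i := stepQ 5319 Q5319 (allL N5319 (tt N3157 (iv D13758)) (tt N8693 (iv F33675)) (tt N7034 F27831) (tt N8785 D18908) (tt N3266 F24163) (tt N8786 D18909) (tt N8787 D18910))
theorem Q5321 : ∀ i, i < 5321 → P i := stepQ 5320 Q5320 (allL N5320 (tt N8785 (iv F33851)) (tt N3158 F24164) (tt N8788 D18911) (tt N3157 (iv D13759)) (tt N8789 D18912) (tt N8790 D18913) (tt N8791 D18914))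
theorem Q5322 : ∀ i, i < 5322 → P i := stepQ 5321 Q5321 (allL N5321 (tt N8786 (iv F33852)) (tt N4558 (iv F28992)) (tt N8783 (iv F33846)) (tt N8790 (iv F33867)) (tt N3268 F24165) (tt N3157 (iv D13760)) (tt N8792 D18915))
theorem Q5323 : ∀ i, i < 5323 → P i := stepQ 5322 Q5322 (allL N5322 (tt N8787 (iv F33855)) (tt N8424 (iv F32365)) (tt N8784 (iv F33849)) (tt N8791 (iv F33869)) (tt N3269 F24166) (tt N8793 D18916) (tt N3157 (iv D13761)))
theorem Q5324 : ∀ i, i < 5324 → P i := stepQ 5323 Q5323 (allL N5323 (tt N3159 F24167) (tt N8789 (iv F33861)) (tt N5360 (iv F24238)) (tt N3270 F24168) (tt N3158 (iv D13762)) (tt N5360 (iv F24240)) (tt N8435 (iv F32395)))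
theorem Q5325 : ∀ i, i < 5325 → P i := stepQ 5324 Q5324 (allL N5324 (tt N8435 (iv F32392)) (tt N8794 D18917) (tt N8426 (iv F32371)) (tt N3274 F24169) (tt N3160 F24170) (tt N8795 D18918) (tt N3159 (iv D13763)))
theorem Q5326 : ∀ i, i < 5326 → P i := stepQ 5325 Q5325 (allL N5325 (tt N8796 D18919) (tt N3160 (iv D13764)) (tt N8797 D18920) (tt N3161 F24171) (tt N8794 (iv F33876)) (tt N8798 D18921) (tt N8713 (iv F33712)))
theorem Q5327 : ∀ i, i < 5327 → P i := stepQ 5326 Q5326 (allL N5326 (tt N5072 F24172) (tt N8799 D18922) (tt N5078 F24173) (tt N3162 F24174) (tt N8795 (iv F33880)) (tt N3160 (iv D13765)) (tt N3179 F24175))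
theorem Q5328 : ∀ i, i < 5328 → P i := stepQ 5327 Q5327 (allL N5327 (tt N3161 (iv D13766)) (tt N8800 D18923) (tt N8801 D18924) (tt N8796 (iv F33882)) (tt N3277 F24176) (tt N8802 D18925) (tt N8715 (iv F33717)))
theorem Q5329 : ∀ i, i < 5329 → P i := stepQ 5328 Q5328 (allL N5328 (tt N8801 (iv F33888)) (tt N3164 F24177) (tt N3161 (iv D13767)) (tt N8803 D18926) (tt N3278 F24178) (tt N8804 D18927) (tt N8716 (iv F33720)))
theorem Q5330 : ∀ i, i < 5330 → P i := stepQ 5329 Q5329 (allL N5329 (tt N8802 (iv F33890)) (tt N8805 D18928) (tt N8804 (iv F33894)) (tt N8798 (iv F33883)) (tt N3279 F24179) (tt N3161 (iv D13768)) (tt N8806 D18929))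
theorem Q5331 : ∀ i, i < 5331 → P i := stepQ 5330 Q5330 (allL N5330 (tt N8807 D18930) (tt N3162 (iv D13769)) (tt N5353 (iv F24222)) (tt N8799 (iv F33884)) (tt N3280 F24180) (tt N8805 (iv F33897)) (tt N8808 D18931))
theorem Q5332 : ∀ i, i < 5332 → P i := stepQ 5331 Q5331 (allL N5331 (tt N3164 F24181) (tt N8809 D18932) (tt N3163 (iv D13770)) (tt N8810 D18933) (tt N3281 F24182) (tt N3164 F24183) (tt N3165 F24184))
theorem Q5333 : ∀ i, i < 5333 → P i := stepQ 5332 Q5332 (allL N5332 (tt N8810 (iv F33905)) (tt N8803 (iv F33893)) (tt N8811 D18934) (tt N3164 (iv D13771)) (tt N8812 D18935) (tt N8810 (iv F33906)) (tt N3166 F24185))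
theorem Q5334 : ∀ i, i < 5334 → P i := stepQ 5333 Q5333 (allL N5333 (tt N8813 D18936) (tt N3165 (iv D13772)) (tt N5350 (iv F24215)) (tt N8814 D18937) (tt N3283 F24186) (tt N8815 D18938) (tt N8816 D18939))
theorem Q5335 : ∀ i, i < 5335 → P i := stepQ 5334 Q5334 (allL N5334 (tt N3166 F24187) (tt N8814 (iv F33912)) (tt N5366 (iv F24257)) (tt N3165 (iv D13773)) (tt N8817 D18940) (tt N5334 F24188) (tt N8810 (iv F33907)))
theorem Q5336 : ∀ i, i < 5336 → P i := stepQ 5335 Q5335 (allL N5335 (tt N5366 (iv F24256)) (tt N8818 D18941) (tt N3166 (iv D13774)) (tt N5364 (iv F24251)) (tt N8819 D18942) (tt N5335 F24189) (tt N8811 (iv F33908)))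
theorem Q5337 : ∀ i, i < 5337 → P i := stepQ 5336 Q5336 (allL N5336 (tt N8817 (iv F33916)) (tt N8735 (iv F33752)) (tt N8819 (iv F33919)) (tt N3286 F24190) (tt N3166 (iv D13775)) (tt N5336 F24191) (tt N8812 (iv F33910)))
theorem Q5338 : ∀ i, i < 5338 → P i := stepQ 5337 Q5337 (allL N5337 (tt N7062 (iv F34801)) (tt N3167 (iv D13776)) (tt N3168 F24192) (tt N7061 (iv F34800)) (tt N3287 F24193) (tt N8820 D18945) (tt N8821 D18946))
theorem Q5339 : ∀ i, i < 5339 → P i := stepQ 5338 Q5338 (allL N5338 (tt N5338 F24194) (tt N7061 (iv F34799)) (tt N5006 F24197) (tt N3167 (iv D13777)) (tt N7573 (iv F34810)) (tt N5006 F24195) (tt N5338 F24196))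
theorem Q5340 : ∀ i, i < 5340 → P i := stepQ 5339 Q5339 (allL N5339 (tt N3168 (iv D13778)) (tt N8738 F33764) (tt N7062 (iv F34802)) (tt N8822 D18948) (tt N3289 F24198) (tt N8823 D18949) (tt N8824 D18950))
theorem Q5341 : ∀ i, i < 5341 → P i := stepQ 5340 Q5340 (allL N5340 (tt N8822 (iv F33935)) (tt N3169 F24199) (tt N8825 D18951) (tt N3168 (iv D13779)) (tt N8826 D18952) (tt N8827 D18953) (tt N8828 D18954))
theorem Q5342 : ∀ i, i < 5342 → P i := stepQ 5341 Q5341 (allL N5341 (tt N8823 (iv F33936)) (tt N8405 (iv F32325)) (tt N8820 (iv F33925)) (tt N8827 (iv F33942)) (tt N3291 F24200) (tt N3168 (iv D13780)) (tt N8829 D18955))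
theorem Q5343 : ∀ i, i < 5343 → P i := stepQ 5342 Q5342 (allL N5342 (tt N8824 (iv F33938)) (tt N4660 F34783) (tt N8821 (iv F33928)) (tt N8828 (iv F33943)) (tt N3292 F24201) (tt N8830 D18956) (tt N3168 (iv D13781)))
theorem Q5344 : ∀ i, i < 5344 → P i := stepQ 5343 Q5343 (allL N5343 (tt N3170 F24202) (tt N8826 (iv F33940)) (tt N5370 (iv F24270)) (tt N3293 F24203) (tt N3169 (iv D13782)) (tt N8430 (iv F32381)) (tt N5370 (iv F24272)))
theorem Q5345 : ∀ i, i < 5345 → P i := stepQ 5344 Q5344 (allL N5344 (tt N8430 (iv F32379)) (tt N8831 D18957) (tt N8431 (iv F32382)) (tt N3297 F24204) (tt N3171 F24205) (tt N3170 (iv D13783)) (tt N8832 D18958))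
theorem Q5346 : ∀ i, i < 5346 → P i := stepQ 5345 Q5345 (allL N5345 (tt N8833 D18959) (tt N3171 (iv D13784)) (tt N8834 D18960) (tt N3172 F24206) (tt N8831 (iv F33950)) (tt N8758 (iv F33799)) (tt N8835 D18961))
theorem Q5347 : ∀ i, i < 5347 → P i := stepQ 5346 Q5346 (allL N5346 (tt N5076 F24207) (tt N8836 D18962) (tt N5074 F24208) (tt N3173 F24209) (tt N8832 (iv F33954)) (tt N3185 F24210) (tt N3171 (iv D13785)))
theorem Q5348 : ∀ i, i < 5348 → P i := stepQ 5347 Q5347 (allL N5347 (tt N3172 (iv D13786)) (tt N8837 D18963) (tt N8838 D18964) (tt N8833 (iv F33956)) (tt N3300 F24211) (tt N8760 (iv F33804)) (tt N8839 D18965))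
theorem Q5349 : ∀ i, i < 5349 → P i := stepQ 5348 Q5348 (allL N5348 (tt N8838 (iv F33960)) (tt N3175 F24212) (tt N3172 (iv D13787)) (tt N8840 D18966) (tt N3301 F24213) (tt N8761 (iv F33807)) (tt N8841 D18967))
theorem Q5350 : ∀ i, i < 5350 → P i := stepQ 5349 Q5349 (allL N5349 (tt N8839 (iv F33962)) (tt N8842 D18968) (tt N8841 (iv F33966)) (tt N8835 (iv F33957)) (tt N3302 F24214) (tt N8843 D18969) (tt N3172 (iv D13788)))
theorem Q5351 : ∀ i, i < 5351 → P i := stepQ 5350 Q5350 (allL N5350 (tt N8844 D18970) (tt N3173 (iv D13789)) (tt N5333 F24215) (tt N8836 (iv F33958)) (tt N3303 F24216) (tt N8845 D18971) (tt N8842 (iv F33969)))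
theorem Q5352 : ∀ i, i < 5352 → P i := stepQ 5351 Q5351 (allL N5351 (tt N3175 F24217) (tt N8846 D18972) (tt N3174 (iv D13790)) (tt N8847 D18973) (tt N3304 F24218) (tt N3176 F24219) (tt N3175 F24220))
theorem Q5353 : ∀ i, i < 5353 → P i := stepQ 5352 Q5352 (allL N5352 (tt N8847 (iv F33981)) (tt N8840 (iv F33965)) (tt N8848 D18974) (tt N3175 (iv D13791)) (tt N8849 D18975) (tt N3177 F24221) (tt N8847 (iv F33983)))
theorem Q5354 : ∀ i, i < 5354 → P i := stepQ 5353 Q5353 (allL N5353 (tt N8850 D18976) (tt N3176 (iv D13792)) (tt N5330 F24222) (tt N8851 D18977) (tt N3306 F24223) (tt N8852 D18978) (tt N8853 D18979))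
theorem Q5355 : ∀ i, i < 5355 → P i := stepQ 5354 Q5354 (allL N5354 (tt N3177 F24224) (tt N8851 (iv F33989)) (tt N5376 (iv F24294)) (tt N3176 (iv D13793)) (tt N8854 D18980) (tt N8847 (iv F33982)) (tt N5354 F24225))
theorem Q5356 : ∀ i, i < 5356 → P i := stepQ 5355 Q5355 (allL N5355 (tt N5376 (iv F24293)) (tt N8855 D18981) (tt N3177 (iv D13794)) (tt N5374 (iv F24287)) (tt N8856 D18982) (tt N8848 (iv F33984)) (tt N5355 F24226))
theorem Q5357 : ∀ i, i < 5357 → P i := stepQ 5356 Q5356 (allL N5356 (tt N8854 (iv F33995)) (tt N8780 (iv F33835)) (tt N8856 (iv F33998)) (tt N3309 F24227) (tt N3177 (iv D13795)) (tt N8849 (iv F33986)) (tt N5356 F24228))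
theorem Q5358 : ∀ i, i < 5358 → P i := stepQ 5357 Q5357 (allL N5357 (tt N3178 (iv D13796)) (tt N6969 (iv F38890)) (tt N5357 F24229) (tt N8857 D18984) (tt N5176 F24230) (tt N6470 F29016) (tt N8858 D18985))
theorem Q5359 : ∀ i, i < 5359 → P i := stepQ 5358 Q5358 (allL N5358 (tt N8857 (iv F34001)) (tt N3179 F24231) (tt N8642 (iv F33571)) (tt N3178 (iv D13797)) (tt N7172 (iv F29018)) (tt N7171 F29017) (tt N8859 D18986))
theorem Q5360 : ∀ i, i < 5360 → P i := stepQ 5359 Q5359 (allL N5359 (tt N8858 (iv F34002)) (tt N8808 (iv F33902)) (tt N5359 F24235) (tt N8859 (iv F34006)) (tt N5177 F24236) (tt N8860 D18987) (tt N3178 (iv D13799)))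
theorem Q5361 : ∀ i, i < 5361 → P i := stepQ 5360 Q5360 (allL N5360 (tt N5071 F24237) (tt N7172 F29019) (tt N5323 F24238) (tt N5178 F24239) (tt N3179 (iv D13800)) (tt N5323 F24240) (tt N8795 (iv F33881)))
theorem Q5362 : ∀ i, i < 5362 → P i := stepQ 5361 Q5361 (allL N5361 (tt N5361 F24241) (tt N3180 (iv D13801)) (tt N5371 (iv F24274)) (tt N8861 D18988) (tt N3190 F24242) (tt N5371 (iv F24276)) (tt N5371 (iv F24277)))
theorem Q5363 : ∀ i, i < 5363 → P i := stepQ 5362 Q5362 (allL N5362 (tt N3181 F24243) (tt N8861 (iv F34012)) (tt N8862 D18989) (tt N3180 (iv D13802)) (tt N4411 F32963) (tt N3181 F24244) (tt N3182 F24245))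
theorem Q5364 : ∀ i, i < 5364 → P i := stepQ 5363 Q5363 (allL N5363 (tt N8862 (iv F34014)) (tt N8863 D18990) (tt N3181 (iv D13803)) (tt N8864 D18991) (tt N4412 F32964) (tt N8862 (iv F34016)) (tt N3183 F24246))
theorem Q5365 : ∀ i, i < 5365 → P i := stepQ 5364 Q5364 (allL N5364 (tt N3183 F24249) (tt N8865 D18992) (tt N3182 (iv D13805)) (tt N5335 F24251) (tt N5942 (iv F32992)) (tt N5364 F24250) (tt N8862 (iv F34017)))
theorem Q5366 : ∀ i, i < 5366 → P i := stepQ 5365 Q5365 (allL N5365 (tt N8866 D18993) (tt N3183 (iv D13807)) (tt N5365 F24255) (tt N8867 D18994) (tt N5943 (iv F32993)) (tt N8868 D18995) (tt N8869 D18996))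
theorem Q5367 : ∀ i, i < 5367 → P i := stepQ 5366 Q5366 (allL N5366 (tt N5335 F24256) (tt N8867 (iv F34026)) (tt N5334 F24257) (tt N3183 (iv D13808)) (tt N8870 D18997) (tt N5366 F24258) (tt N8864 (iv F34023)))
theorem Q5368 : ∀ i, i < 5368 → P i := stepQ 5367 Q5367 (allL N5367 (tt N3184 (iv D13810)) (tt N6980 (iv F38969)) (tt N5367 F24261) (tt N8871 D18999) (tt N5187 F24262) (tt N8872 D19000) (tt N6504 (iv F34786)))
theorem Q5369 : ∀ i, i < 5369 → P i := stepQ 5368 Q5368 (allL N5368 (tt N8871 (iv F34034)) (tt N3185 F24263) (tt N8658 (iv F34796)) (tt N3184 (iv D13811)) (tt N7275 (iv F34763)) (tt N8873 D19004) (tt N7273 (iv F34788)))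
theorem Q5370 : ∀ i, i < 5370 → P i := stepQ 5369 Q5369 (allL N5369 (tt N8872 (iv F34035)) (tt N8845 (iv F33976)) (tt N5369 F24264) (tt N8873 (iv F34044)) (tt N5188 F24265) (tt N3184 (iv D13812)) (tt N8874 D19006))
theorem Q5371 : ∀ i, i < 5371 → P i := stepQ 5370 Q5370 (allL N5370 (tt N5075 F24269) (tt N7275 (iv F34762)) (tt N5343 F24270) (tt N5189 F24271) (tt N3185 (iv D13814)) (tt N8832 (iv F33955)) (tt N5343 F24272))
theorem Q5372 : ∀ i, i < 5372 → P i := stepQ 5371 Q5371 (allL N5371 (tt N5371 F24273) (tt N3186 (iv D13815)) (tt N5361 F24274) (tt N8875 D19008) (tt N3191 F24275) (tt N5361 F24276) (tt N5361 F24277))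
theorem Q5373 : ∀ i, i < 5373 → P i := stepQ 5372 Q5372 (allL N5372 (tt N3187 F24278) (tt N8875 (iv F34055)) (tt N8876 D19009) (tt N3186 (iv D13816)) (tt N4414 F32942) (tt N3188 F24279) (tt N3187 F24280))
theorem Q5374 : ∀ i, i < 5374 → P i := stepQ 5373 Q5373 (allL N5373 (tt N8876 (iv F34059)) (tt N8877 D19010) (tt N3187 (iv D13817)) (tt N8878 D19011) (tt N4415 F32979) (tt N3189 F24281) (tt N8876 (iv F34062)))
theorem Q5375 : ∀ i, i < 5375 → P i := stepQ 5374 Q5374 (allL N5374 (tt N3189 F24285) (tt N8879 D19012) (tt N3188 (iv D13819)) (tt N5355 F24287) (tt N5945 (iv F33004)) (tt N8876 (iv F34061)) (tt N5374 F24286))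
theorem Q5376 : ∀ i, i < 5376 → P i := stepQ 5375 Q5375 (allL N5375 (tt N8880 D19013) (tt N3189 (iv D13821)) (tt N5375 F24292) (tt N8881 D19014) (tt N5946 (iv F33005)) (tt N8882 D19015) (tt N8868 F61391))
theorem Q5377 : ∀ i, i < 5377 → P i := stepQ 5376 Q5376 (allL N5376 (tt N5355 F24293) (tt N8881 (iv F34073)) (tt N5354 F24294) (tt N3189 (iv D13822)) (tt N8883 D19017) (tt N8878 (iv F34068)) (tt N5376 F24295))
theorem Q5378 : ∀ i, i < 5378 → P i := stepQ 5377 Q5377 (allL N5377 (tt N8884 D19018) (tt N3192 (iv D13838)) (tt N6631 (iv F29227)) (tt N6630 F29229) (tt N8591 (iv F33471)) (tt N6630 F29228) (tt N8885 D19019))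
theorem Q5379 : ∀ i, i < 5379 → P i := stepQ 5378 Q5378 (allL N5378 (tt N8886 D19020) (tt N3193 (iv D13839)) (tt N6680 (iv F34173)) (tt N6678 (iv F34169)) (tt N8592 (iv F33472)) (tt N8887 D19022) (tt N6678 (iv F34170)))
theorem Q5380 : ∀ i, i < 5380 → P i := stepQ 5379 Q5379 (allL N5379 (tt N3194 (iv D13840)) (tt N8888 D19023) (tt N3571 F28816) (tt N6047 F28817) (tt N8597 (iv F33484)) (tt N3198 F24336) (tt N5391 (iv F24345)))
theorem Q5381 : ∀ i, i < 5381 → P i := stepQ 5380 Q5380 (allL N5380 (tt N3571 F28818) (tt N6631 F29226) (tt N3194 (iv D13841)) (tt N3569 F28819) (tt N8598 (iv F33490)) (tt N3199 F24337) (tt N8889 D19024))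
theorem Q5382 : ∀ i, i < 5382 → P i := stepQ 5381 Q5381 (allL N5381 (tt N5391 (iv F24344)) (tt N8890 D19025) (tt N8889 (iv F34090)) (tt N6055 (iv F29235)) (tt N8599 (iv F33492)) (tt N5389 (iv F24342)) (tt N3194 (iv D13842)))
theorem Q5383 : ∀ i, i < 5383 → P i := stepQ 5382 Q5382 (allL N5382 (tt N8891 D19026) (tt N3195 (iv D13843)) (tt N8892 D19027) (tt N8252 (iv F31893)) (tt N8600 (iv F33493)) (tt N8893 D19028) (tt N8890 (iv F34093)))
theorem Q5384 : ∀ i, i < 5384 → P i := stepQ 5383 Q5383 (allL N5383 (tt N3196 (iv D13844)) (tt N8894 D19029) (tt N3581 (iv F34453)) (tt N6085 F34443) (tt N8601 (iv F33494)) (tt N5396 (iv F24351)) (tt N3201 F24338))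
theorem Q5385 : ∀ i, i < 5385 → P i := stepQ 5384 Q5384 (allL N5384 (tt N3581 (iv F34452)) (tt N6680 (iv F34172)) (tt N3196 (iv D13845)) (tt N3579 (iv F34457)) (tt N8602 (iv F33496)) (tt N8895 D19032) (tt N3202 F24339))
theorem Q5386 : ∀ i, i < 5386 → P i := stepQ 5385 Q5385 (allL N5385 (tt N5396 (iv F24350)) (tt N8896 D19033) (tt N8895 (iv F34098)) (tt N6093 (iv F34383)) (tt N8603 (iv F33498)) (tt N3196 (iv D13846)) (tt N5394 (iv F24348)))
theorem Q5387 : ∀ i, i < 5387 → P i := stepQ 5386 Q5386 (allL N5386 (tt N8897 D19034) (tt N3197 (iv D13847)) (tt N8898 D19035) (tt N8253 (iv F31898)) (tt N8604 (iv F33499)) (tt N8896 (iv F34099)) (tt N8899 D19036))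
theorem Q5388 : ∀ i, i < 5388 → P i := stepQ 5387 Q5387 (allL N5387 (tt N8900 D19037) (tt N3198 (iv D13848)) (tt N8901 D19038) (tt N8254 (iv F31899)) (tt N8611 (iv F33506)) (tt N8902 D19039) (tt N8903 D19040))
theorem Q5389 : ∀ i, i < 5389 → P i := stepQ 5388 Q5388 (allL N5388 (tt N3199 F24340) (tt N6136 F28936) (tt N3198 (iv D13849)) (tt N3529 F28943) (tt N8612 (iv F33508)) (tt N3571 F28944) (tt N8904 D19041))
theorem Q5390 : ∀ i, i < 5390 → P i := stepQ 5389 Q5389 (allL N5389 (tt N3200 F24341) (tt N8905 D19042) (tt N8904 (iv F34149)) (tt N8255 (iv F31902)) (tt N8613 (iv F33511)) (tt N5381 F24342) (tt N3198 (iv D13850)))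
theorem Q5391 : ∀ i, i < 5391 → P i := stepQ 5390 Q5390 (allL N5390 (tt N8904 (iv F34148)) (tt N8906 D19043) (tt N3200 F24343) (tt N6015 F29231) (tt N8614 (iv F33514)) (tt N6013 (iv F29232)) (tt N3199 (iv D13852)))
theorem Q5392 : ∀ i, i < 5392 → P i := stepQ 5391 Q5391 (allL N5391 (tt N5381 F24344) (tt N8297 (iv F35723)) (tt N6013 F29234) (tt N8256 (iv F31906)) (tt N8615 (iv F33516)) (tt N3200 (iv D13853)) (tt N5379 F24345))
theorem Q5393 : ∀ i, i < 5393 → P i := stepQ 5392 Q5392 (allL N5392 (tt N8907 D19045) (tt N3201 (iv D13854)) (tt N8908 D19046) (tt N8257 (iv F31908)) (tt N8616 (iv F33518)) (tt N8909 D19047) (tt N8910 D19048))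
theorem Q5394 : ∀ i, i < 5394 → P i := stepQ 5393 Q5393 (allL N5393 (tt N3202 F24346) (tt N6149 (iv F35068)) (tt N3201 (iv D13855)) (tt N3533 (iv F34476)) (tt N8617 (iv F33520)) (tt N8911 D19051) (tt N3581 F34466))
theorem Q5395 : ∀ i, i < 5395 → P i := stepQ 5394 Q5394 (allL N5394 (tt N3203 F24347) (tt N8912 D19052) (tt N8911 (iv F34158)) (tt N8258 (iv F31911)) (tt N8618 (iv F33522)) (tt N3201 (iv D13856)) (tt N5385 F24348))
theorem Q5396 : ∀ i, i < 5396 → P i := stepQ 5395 Q5395 (allL N5395 (tt N8911 (iv F34157)) (tt N8913 D19053) (tt N3203 F24349) (tt N6031 (iv F35371)) (tt N8619 (iv F33525)) (tt N3202 (iv D13858)) (tt N6029 F35373))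
theorem Q5397 : ∀ i, i < 5397 → P i := stepQ 5396 Q5396 (allL N5396 (tt N5385 F24350) (tt N8288 (iv F35692)) (tt N6029 (iv F35375)) (tt N8259 (iv F31915)) (tt N8620 (iv F33527)) (tt N5383 F24351) (tt N3203 (iv D13859)))
theorem Q5398 : ∀ i, i < 5398 → P i := stepQ 5397 Q5397 (allL N5397 (tt N3204 (iv D13860)) (tt N8900 (iv F34140)) (tt N5399 (iv F24355)) (tt N8260 (iv F31917)) (tt N8637 (iv F33561)) (tt N5398 F24352) (tt N8914 D19055))
theorem Q5399 : ∀ i, i < 5399 → P i := stepQ 5398 Q5398 (allL N5398 (tt N5399 (iv F24353)) (tt N6047 F29188) (tt N3204 (iv D13861)) (tt N8888 (iv F34086)) (tt N8638 (iv F33562)) (tt N5397 (iv F24352)) (tt N8915 D19056))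
theorem Q5400 : ∀ i, i < 5400 → P i := stepQ 5399 Q5399 (allL N5399 (tt N5398 F24353) (tt N3222 F24354) (tt N5397 F24355) (tt N7205 F28183) (tt N8639 (iv F33567)) (tt N3204 (iv D13862)) (tt N8916 D19057))
theorem Q5401 : ∀ i, i < 5401 → P i := stepQ 5400 Q5400 (allL N5400 (tt N8914 (iv F35511)) (tt N5462 (iv F24419)) (tt N8915 (iv F35516)) (tt N8261 (iv F31918)) (tt N8640 (iv F33568)) (tt N8915 (iv F35517)) (tt N3204 (iv D13863)))
theorem Q5402 : ∀ i, i < 5402 → P i := stepQ 5401 Q5401 (allL N5401 (tt N5894 (iv F28912)) (tt N5891 F28909) (tt N5894 (iv F28910)) (tt N8642 (iv F33572)) (tt N3206 (iv D13866)) (tt N3228 F24359) (tt N8917 D19058))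
theorem Q5403 : ∀ i, i < 5403 → P i := stepQ 5402 Q5402 (allL N5402 (tt N5450 (iv F24407)) (tt N8918 D19059) (tt N5450 (iv F24408)) (tt N3207 F24360) (tt N8917 (iv F35521)) (tt N5443 (iv F24402)) (tt N3206 (iv D13867)))
theorem Q5404 : ∀ i, i < 5404 → P i := stepQ 5403 Q5403 (allL N5403 (tt N8919 D19060) (tt N3207 (iv D13868)) (tt N8920 D19061) (tt N8918 (iv F35522)) (tt N8644 (iv F33575)) (tt N8921 D19062) (tt N8453 (iv F33093)))
theorem Q5405 : ∀ i, i < 5405 → P i := stepQ 5404 Q5404 (allL N5404 (tt N3208 (iv D13869)) (tt N8922 D19063) (tt N6799 (iv F35969)) (tt N8262 (iv F31919)) (tt N8645 (iv F33576)) (tt N5412 (iv F24368)) (tt N3209 F24361))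
theorem Q5406 : ∀ i, i < 5406 → P i := stepQ 5405 Q5405 (allL N5405 (tt N6799 (iv F35968)) (tt N8920 (iv F35523)) (tt N3208 (iv D13870)) (tt N6798 (iv F35977)) (tt N8646 (iv F33578)) (tt N6823 (iv F35966)) (tt N3210 F24362))
theorem Q5407 : ∀ i, i < 5407 → P i := stepQ 5406 Q5406 (allL N5406 (tt N5412 (iv F24367)) (tt N5447 (iv F24403)) (tt N6823 (iv F35965)) (tt N8264 (iv F31923)) (tt N8647 (iv F33580)) (tt N3208 (iv D13871)) (tt N5409 (iv F24365)))
theorem Q5408 : ∀ i, i < 5408 → P i := stepQ 5407 Q5407 (allL N5407 (tt N8923 D19067) (tt N3209 (iv D13872)) (tt N8924 D19068) (tt N8265 (iv F31924)) (tt N8648 (iv F33581)) (tt N8296 F31997) (tt N8925 D19069))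
theorem Q5409 : ∀ i, i < 5409 → P i := stepQ 5408 Q5408 (allL N5408 (tt N3210 F24363) (tt N8926 D19070) (tt N3209 (iv D13873)) (tt N6800 (iv F35975)) (tt N8649 (iv F33583)) (tt N8927 D19072) (tt N6799 (iv F35970)))
theorem Q5410 : ∀ i, i < 5410 → P i := stepQ 5409 Q5409 (allL N5409 (tt N3211 F24364) (tt N8278 (iv F31950)) (tt N8927 (iv F35533)) (tt N8267 (iv F31927)) (tt N8650 (iv F33585)) (tt N3209 (iv D13874)) (tt N5406 F24365))
theorem Q5411 : ∀ i, i < 5411 → P i := stepQ 5410 Q5410 (allL N5410 (tt N6800 (iv F35974)) (tt N8459 (iv F33099)) (tt N4078 (iv F35976)) (tt N3210 (iv D13875)) (tt N6532 F39753) (tt N4076 F35973) (tt N6798 (iv F35978)))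
theorem Q5412 : ∀ i, i < 5412 → P i := stepQ 5411 Q5411 (allL N5411 (tt N8927 (iv F35532)) (tt N8928 D19076) (tt N3211 F24366) (tt N4076 (iv F35972)) (tt N8651 (iv F33588)) (tt N3210 (iv D13876)) (tt N4075 F35971))
theorem Q5413 : ∀ i, i < 5413 → P i := stepQ 5412 Q5412 (allL N5412 (tt N5406 F24367) (tt N8929 D19078) (tt N4075 (iv F35964)) (tt N8270 (iv F31933)) (tt N8652 (iv F33590)) (tt N5404 F24368) (tt N3211 (iv D13877)))
theorem Q5414 : ∀ i, i < 5414 → P i := stepQ 5413 Q5413 (allL N5413 (tt N3212 (iv D13878)) (tt N8907 (iv F34155)) (tt N5416 F34662) (tt N8271 (iv F31935)) (tt N8653 (iv F33592)) (tt N8930 D19079) (tt N5414 (iv F34665)))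
theorem Q5415 : ∀ i, i < 5415 → P i := stepQ 5414 Q5414 (allL N5414 (tt N5416 (iv F34663)) (tt N6085 F34563) (tt N3212 (iv D13879)) (tt N8894 (iv F34568)) (tt N8654 (iv F33593)) (tt N8931 D19080) (tt N5413 F34665))
theorem Q5416 : ∀ i, i < 5416 → P i := stepQ 5415 Q5415 (allL N5415 (tt N8930 (iv F35541)) (tt N5503 (iv F24469)) (tt N8931 (iv F35546)) (tt N8272 (iv F31937)) (tt N8655 (iv F33594)) (tt N3212 (iv D13880)) (tt N8931 (iv F35547)))
theorem Q5417 : ∀ i, i < 5417 → P i := stepQ 5416 Q5416 (allL N5416 (tt N5414 F34663) (tt N3245 F24369) (tt N5413 (iv F34662)) (tt N7305 (iv F34636)) (tt N8656 (iv F33596)) (tt N8932 D19081) (tt N3212 (iv D13881)))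
theorem Q5418 : ∀ i, i < 5418 → P i := stepQ 5417 Q5417 (allL N5417 (tt N5916 F34604) (tt N5913 (iv F34522)) (tt N5916 F34605) (tt N8658 (iv F33600)) (tt N3214 (iv D13884)) (tt N8933 D19082) (tt N3250 F24373))
theorem Q5419 : ∀ i, i < 5419 → P i := stepQ 5418 Q5418 (allL N5418 (tt N5494 (iv F24455)) (tt N8934 D19083) (tt N5494 (iv F24456)) (tt N3215 F24374) (tt N8933 (iv F35551)) (tt N3214 (iv D13885)) (tt N5487 (iv F24450)))
theorem Q5420 : ∀ i, i < 5420 → P i := stepQ 5419 Q5419 (allL N5419 (tt N8935 D19084) (tt N3215 (iv D13886)) (tt N8936 D19085) (tt N8934 (iv F35552)) (tt N8660 (iv F33603)) (tt N8464 (iv F33111)) (tt N8937 D19086))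
theorem Q5421 : ∀ i, i < 5421 → P i := stepQ 5420 Q5420 (allL N5420 (tt N3216 (iv D13887)) (tt N8938 D19087) (tt N6727 (iv F36115)) (tt N8273 (iv F31940)) (tt N8661 (iv F33604)) (tt N3217 F24375) (tt N5428 (iv F24382)))
theorem Q5422 : ∀ i, i < 5422 → P i := stepQ 5421 Q5421 (allL N5421 (tt N6727 (iv F36114)) (tt N8936 (iv F35553)) (tt N3216 (iv D13888)) (tt N6726 (iv F36122)) (tt N8662 (iv F33606)) (tt N3218 F24376) (tt N6749 (iv F36112)))
theorem Q5423 : ∀ i, i < 5423 → P i := stepQ 5422 Q5422 (allL N5422 (tt N5428 (iv F24381)) (tt N5491 (iv F24451)) (tt N6749 (iv F36110)) (tt N8275 (iv F31944)) (tt N8663 (iv F33608)) (tt N5425 (iv F24379)) (tt N3216 (iv D13889)))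
theorem Q5424 : ∀ i, i < 5424 → P i := stepQ 5423 Q5423 (allL N5423 (tt N8939 D19091) (tt N3217 (iv D13890)) (tt N8940 D19092) (tt N8276 (iv F31945)) (tt N8664 (iv F33609)) (tt N8941 D19093) (tt N8287 F31972))
theorem Q5425 : ∀ i, i < 5425 → P i := stepQ 5424 Q5424 (allL N5424 (tt N3218 F24377) (tt N8942 D19094) (tt N3217 (iv D13891)) (tt N6728 (iv F36120)) (tt N8665 (iv F33611)) (tt N6727 (iv F36116)) (tt N8943 D19096))
theorem Q5426 : ∀ i, i < 5426 → P i := stepQ 5425 Q5425 (allL N5425 (tt N3219 F24378) (tt N8267 F31929) (tt N8943 (iv F35564)) (tt N8278 (iv F31948)) (tt N8666 (iv F33613)) (tt N5422 F24379) (tt N3217 (iv D13892)))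
theorem Q5427 : ∀ i, i < 5427 → P i := stepQ 5426 Q5426 (allL N5426 (tt N6728 (iv F36119)) (tt N8470 (iv F33118)) (tt N4032 (iv F36121)) (tt N3218 (iv D13893)) (tt N6499 F39709) (tt N6726 (iv F36123)) (tt N4030 F36118))
theorem Q5428 : ∀ i, i < 5428 → P i := stepQ 5427 Q5427 (allL N5427 (tt N8943 (iv F35563)) (tt N8944 D19100) (tt N3219 F24380) (tt N4030 (iv F36117)) (tt N8667 (iv F33616)) (tt N4029 F36113) (tt N3218 (iv D13894)))
theorem Q5429 : ∀ i, i < 5429 → P i := stepQ 5428 Q5428 (allL N5428 (tt N5422 F24381) (tt N8945 D19102) (tt N4029 (iv F36109)) (tt N8281 (iv F31954)) (tt N8668 (iv F33618)) (tt N3219 (iv D13895)) (tt N5420 F24382))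
theorem Q5430 : ∀ i, i < 5430 → P i := stepQ 5429 Q5429 (allL N5429 (tt N3221 F24383) (tt N3266 (iv F24396)) (tt N3220 (iv D13896)) (tt N8946 D19103) (tt N8693 (iv F33676)) (tt N8947 D19104) (tt N8948 D19105))
theorem Q5431 : ∀ i, i < 5431 → P i := stepQ 5430 Q5430 (allL N5430 (tt N3222 F24384) (tt N8949 D19106) (tt N8947 (iv F35588)) (tt N7191 F28154) (tt N8694 (iv F33679)) (tt N3220 (iv D13897)) (tt N5438 (iv F24392)))
theorem Q5432 : ∀ i, i < 5432 → P i := stepQ 5431 Q5431 (allL N5431 (tt N3223 F24385) (tt N8950 D19107) (tt N8948 (iv F35591)) (tt N8282 (iv F31958)) (tt N8695 (iv F33681)) (tt N5436 (iv F24389)) (tt N3220 (iv D13898)))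
theorem Q5433 : ∀ i, i < 5433 → P i := stepQ 5432 Q5432 (allL N5432 (tt N3224 F24395) (tt N3221 (iv D13899)) (tt N3224 F24386) (tt N5794 (iv F29142)) (tt N8696 (iv F33684)) (tt N8951 D19108) (tt N8952 D19109))
theorem Q5434 : ∀ i, i < 5434 → P i := stepQ 5433 Q5433 (allL N5433 (tt N8946 (iv F35572)) (tt N5794 F29144) (tt N5749 (iv F29145)) (tt N3221 (iv D13900)) (tt N8953 D19110) (tt N7442 F29146) (tt N8954 D19111))
theorem Q5435 : ∀ i, i < 5435 → P i := stepQ 5434 Q5434 (allL N5434 (tt N8947 (iv F35586)) (tt N7447 F29150) (tt N3222 F24387) (tt N7442 (iv F29149)) (tt N8698 (iv F33686)) (tt N3221 (iv D13901)) (tt N8955 D19112))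
theorem Q5436 : ∀ i, i < 5436 → P i := stepQ 5435 Q5435 (allL N5435 (tt N8948 (iv F35590)) (tt N8956 D19113) (tt N3223 F24388) (tt N8954 (iv F35604)) (tt N8699 (iv F33688)) (tt N8957 D19114) (tt N3221 (iv D13902)))
theorem Q5437 : ∀ i, i < 5437 → P i := stepQ 5436 Q5436 (allL N5436 (tt N5438 (iv F24391)) (tt N8958 D19115) (tt N8955 (iv F35605)) (tt N7210 (iv F28197)) (tt N8700 (iv F33689)) (tt N5431 F24389) (tt N3222 (iv D13903)))
theorem Q5438 : ∀ i, i < 5438 → P i := stepQ 5437 Q5437 (allL N5437 (tt N8959 D19116) (tt N3223 (iv D13904)) (tt N8960 D19117) (tt N8283 (iv F31961)) (tt N8701 (iv F33691)) (tt N8961 D19118) (tt N3227 F24390))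
theorem Q5439 : ∀ i, i < 5439 → P i := stepQ 5438 Q5438 (allL N5438 (tt N5436 F24391) (tt N8962 D19119) (tt N8957 (iv F35608)) (tt N8284 (iv F31965)) (tt N8702 (iv F33694)) (tt N3223 (iv D13905)) (tt N5430 F24392))
theorem Q5440 : ∀ i, i < 5440 → P i := stepQ 5439 Q5439 (allL N5439 (tt N5794 F29143) (tt N3225 F24393) (tt N3271 (iv F24394)) (tt N3224 (iv D13907)) (tt N8963 D19120) (tt N5963 F29161) (tt N8964 D19121))
theorem Q5441 : ∀ i, i < 5441 → P i := stepQ 5440 Q5440 (allL N5440 (tt N8951 (iv F35598)) (tt N5964 F29163) (tt N8951 (iv F35599)) (tt N5963 (iv F29162)) (tt N8704 (iv F33697)) (tt N3224 (iv D13908)) (tt N8965 D19122))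
theorem Q5442 : ∀ i, i < 5442 → P i := stepQ 5441 Q5441 (allL N5441 (tt N8952 (iv F35600)) (tt N8966 D19123) (tt N8952 (iv F35601)) (tt N8964 (iv F35626)) (tt N8705 (iv F33698)) (tt N8967 D19124) (tt N3224 (iv D13909)))
theorem Q5443 : ∀ i, i < 5443 → P i := stepQ 5442 Q5442 (allL N5442 (tt N3228 F24397) (tt N8963 (iv F35623)) (tt N3228 F24398) (tt N8706 (iv F33700)) (tt N3225 (iv D13910)) (tt N5894 F28911) (tt N8968 D19125))
theorem Q5444 : ∀ i, i < 5444 → P i := stepQ 5443 Q5443 (allL N5443 (tt N3229 F24399) (tt N8969 D19126) (tt N3229 F24400) (tt N3226 F24401) (tt N8968 (iv F35634)) (tt N5402 F24402) (tt N3225 (iv D13911)))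
theorem Q5445 : ∀ i, i < 5445 → P i := stepQ 5444 Q5444 (allL N5444 (tt N8970 D19127) (tt N3226 (iv D13912)) (tt N8971 D19128) (tt N8969 (iv F35636)) (tt N8708 (iv F33704)) (tt N8972 D19129) (tt N8966 (iv F35628)))
theorem Q5446 : ∀ i, i < 5446 → P i := stepQ 5445 Q5445 (allL N5445 (tt N3227 (iv D13913)) (tt N8973 D19130) (tt N8974 D19131) (tt N8285 (iv F31968)) (tt N8709 (iv F33705)) (tt N8975 D19132) (tt N8959 (iv F35615)))
theorem Q5447 : ∀ i, i < 5447 → P i := stepQ 5446 Q5446 (allL N5446 (tt N8974 (iv F35640)) (tt N8971 (iv F35637)) (tt N3227 (iv D13914)) (tt N8976 D19133) (tt N8710 (iv F33706)) (tt N8977 D19134) (tt N8960 (iv F35620)))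
theorem Q5448 : ∀ i, i < 5448 → P i := stepQ 5447 Q5447 (allL N5447 (tt N8975 (iv F35643)) (tt N5406 F24403) (tt N8977 (iv F35646)) (tt N8287 (iv F31971)) (tt N8711 (iv F33708)) (tt N3227 (iv D13915)) (tt N8276 F31951))
theorem Q5449 : ∀ i, i < 5449 → P i := stepQ 5448 Q5448 (allL N5448 (tt N8968 (iv F35632)) (tt N8978 D19135) (tt N8968 (iv F35633)) (tt N8712 (iv F33709)) (tt N3229 F24404) (tt N8979 D19136) (tt N3228 (iv D13916)))
theorem Q5450 : ∀ i, i < 5450 → P i := stepQ 5449 Q5449 (allL N5449 (tt N8980 D19137) (tt N3229 (iv D13917)) (tt N8981 D19138) (tt N3230 F24405) (tt N8978 (iv F35647)) (tt N8981 F35657) (tt N3275 F24406))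
theorem Q5451 : ∀ i, i < 5451 → P i := stepQ 5450 Q5450 (allL N5450 (tt N5402 F24407) (tt N8982 D19139) (tt N5402 F24408) (tt N3231 F24409) (tt N8979 (iv F35651)) (tt N3229 (iv D13918)) (tt N3592 F28896))
theorem Q5452 : ∀ i, i < 5452 → P i := stepQ 5451 Q5451 (allL N5451 (tt N3230 (iv D13919)) (tt N8983 D19140) (tt N8984 D19141) (tt N8980 (iv F35653)) (tt N8715 (iv F33716)) (tt N5543 (iv F24524)) (tt N3277 F24411))
theorem Q5453 : ∀ i, i < 5453 → P i := stepQ 5452 Q5452 (allL N5452 (tt N8984 (iv F35662)) (tt N3233 F24412) (tt N3230 (iv D13920)) (tt N8985 D19142) (tt N8716 (iv F33719)) (tt N8986 D19143) (tt N3278 F24413))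
theorem Q5454 : ∀ i, i < 5454 → P i := stepQ 5453 Q5453 (allL N5453 (tt N5543 (iv F24523)) (tt N8987 D19144) (tt N8986 (iv F35667)) (tt N8981 F35656) (tt N8717 (iv F33721)) (tt N3230 (iv D13921)) (tt N5539 (iv F24519)))
theorem Q5455 : ∀ i, i < 5455 → P i := stepQ 5454 Q5454 (allL N5454 (tt N8988 D19145) (tt N3231 (iv D13922)) (tt N8989 D19146) (tt N8982 (iv F35658)) (tt N8718 (iv F33722)) (tt N8987 (iv F35668)) (tt N8990 D19147))
theorem Q5456 : ∀ i, i < 5456 → P i := stepQ 5455 Q5455 (allL N5455 (tt N8991 D19148) (tt N3232 (iv D13923)) (tt N8992 D19149) (tt N5510 (iv F24478)) (tt N8719 (iv F33723)) (tt N8993 D19150) (tt N8994 D19151))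
theorem Q5457 : ∀ i, i < 5457 → P i := stepQ 5456 Q5456 (allL N5456 (tt N3233 F24414) (tt N8995 D19152) (tt N3232 (iv D13924)) (tt N3255 F35472) (tt N8720 (iv F33725)) (tt N3261 F35473) (tt N3237 F24415))
theorem Q5458 : ∀ i, i < 5458 → P i := stepQ 5457 Q5457 (allL N5457 (tt N3255 F35461) (tt N8985 (iv F35665)) (tt N3254 F35462) (tt N3233 (iv D13925)) (tt N8765 F35463) (tt N3259 F35464) (tt N3239 F24416))
theorem Q5459 : ∀ i, i < 5459 → P i := stepQ 5458 Q5458 (allL N5458 (tt N3261 F35465) (tt N8996 D19153) (tt N3234 F24417) (tt N3259 F35466) (tt N8722 (iv F33729)) (tt N3233 (iv D13926)) (tt N5469 (iv F24423)))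
theorem Q5460 : ∀ i, i < 5460 → P i := stepQ 5459 Q5459 (allL N5459 (tt N8997 D19154) (tt N3234 (iv D13927)) (tt N8998 D19155) (tt N5512 (iv F24485)) (tt N8723 (iv F33730)) (tt N3235 F24418) (tt N8999 D19156))
theorem Q5461 : ∀ i, i < 5461 → P i := stepQ 5460 Q5460 (allL N5460 (tt N3235 (iv D13928)) (tt N8259 (iv F35690)) (tt N9000 D19158) (tt N8288 (iv F31973)) (tt N8724 (iv F33732)) (tt N8997 (iv F35682)) (tt N9001 D19159))
theorem Q5462 : ∀ i, i < 5462 → P i := stepQ 5461 Q5461 (allL N5461 (tt N9000 (iv F35685)) (tt N8989 (iv F35669)) (tt N3235 (iv D13929)) (tt N6065 (iv F36230)) (tt N8725 (iv F33733)) (tt N8998 (iv F35683)) (tt N9002 D19161))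
theorem Q5463 : ∀ i, i < 5463 → P i := stepQ 5462 Q5462 (allL N5462 (tt N9001 (iv F35686)) (tt N5400 F24419) (tt N9002 (iv F35695)) (tt N8290 (iv F31976)) (tt N8726 (iv F33735)) (tt N9003 D19162) (tt N3235 (iv D13930)))
theorem Q5464 : ∀ i, i < 5464 → P i := stepQ 5463 Q5463 (allL N5463 (tt N3236 (iv D13931)) (tt N5504 (iv F24470)) (tt N8559 F34132) (tt N5504 (iv F24471)) (tt N8727 (iv F33736)) (tt N9004 D19163) (tt N9005 D19164))
theorem Q5465 : ∀ i, i < 5465 → P i := stepQ 5464 Q5464 (allL N5464 (tt N8559 (iv F34130)) (tt N4784 F33244) (tt N3236 (iv D13932)) (tt N3897 F33245) (tt N8728 (iv F33737)) (tt N3895 F33246) (tt N9006 D19165))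
theorem Q5466 : ∀ i, i < 5466 → P i := stepQ 5465 Q5465 (allL N5465 (tt N9004 (iv F35698)) (tt N6643 F33247) (tt N3895 F33248) (tt N5506 (iv F24472)) (tt N8729 (iv F33741)) (tt N3236 (iv D13933)) (tt N8912 (iv F35507)))
theorem Q5467 : ∀ i, i < 5467 → P i := stepQ 5466 Q5466 (allL N5466 (tt N9005 (iv F35700)) (tt N8994 (iv F35676)) (tt N9006 (iv F35703)) (tt N5507 (iv F24473)) (tt N8730 (iv F33742)) (tt N9007 D19166) (tt N3236 (iv D13934)))
theorem Q5468 : ∀ i, i < 5468 → P i := stepQ 5467 Q5467 (allL N5467 (tt N9008 D19167) (tt N3237 (iv D13935)) (tt N4784 F33242) (tt N9009 D19168) (tt N8731 (iv F33744)) (tt N4782 F33243) (tt N9010 D19169))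
theorem Q5469 : ∀ i, i < 5469 → P i := stepQ 5468 Q5468 (allL N5468 (tt N3239 F24420) (tt N9009 (iv F35716)) (tt N3256 F35452) (tt N3237 (iv D13936)) (tt N8767 F35453) (tt N5509 F35454) (tt N3255 F35455))
theorem Q5470 : ∀ i, i < 5470 → P i := stepQ 5469 Q5469 (allL N5469 (tt N3240 F24421) (tt N8086 (iv F33240)) (tt N3238 F24422) (tt N5509 (iv F35446)) (tt N8733 (iv F33749)) (tt N3237 (iv D13937)) (tt N5458 F24423))
theorem Q5471 : ∀ i, i < 5471 → P i := stepQ 5470 Q5470 (allL N5470 (tt N8899 (iv F34126)) (tt N3238 (iv D13938)) (tt N6644 F33241) (tt N5499 (iv F24462)) (tt N8734 (iv F33751)) (tt N6643 (iv F33249)) (tt N8897 F34118))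
theorem Q5472 : ∀ i, i < 5472 → P i := stepQ 5471 Q5471 (allL N5471 (tt N8767 F35457) (tt N3286 F24424) (tt N5316 F35458) (tt N8735 (iv F33753)) (tt N3239 (iv D13940)) (tt N5315 F35459) (tt N8765 F35460))
theorem Q5473 : ∀ i, i < 5473 → P i := stepQ 5472 Q5472 (allL N5472 (tt N9011 D19170) (tt N3241 (iv D13943)) (tt N5599 (iv F35477)) (tt N5500 (iv F24467)) (tt N8737 (iv F33760)) (tt N9012 D19171) (tt N4996 F24430))
theorem Q5474 : ∀ i, i < 5474 → P i := stepQ 5473 Q5473 (allL N5473 (tt N3243 F24431) (tt N3289 (iv F24444)) (tt N3242 (iv D13944)) (tt N9013 D19172) (tt N8738 (iv F33763)) (tt N9014 D19173) (tt N9015 D19174))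
theorem Q5475 : ∀ i, i < 5475 → P i := stepQ 5474 Q5474 (allL N5474 (tt N3244 F24432) (tt N9016 D19175) (tt N9014 (iv F35735)) (tt N8291 (iv F31980)) (tt N8739 (iv F33766)) (tt N3242 (iv D13945)) (tt N5482 (iv F24440)))
theorem Q5476 : ∀ i, i < 5476 → P i := stepQ 5475 Q5475 (allL N5475 (tt N3245 F24433) (tt N9017 D19176) (tt N9015 (iv F35740)) (tt N7292 (iv F34638)) (tt N8740 (iv F33768)) (tt N5481 (iv F24438)) (tt N3242 (iv D13946)))
theorem Q5477 : ∀ i, i < 5477 → P i := stepQ 5476 Q5476 (allL N5476 (tt N3246 F24443) (tt N3243 (iv D13947)) (tt N3246 F24434) (tt N5796 F35173) (tt N8741 (iv F33771)) (tt N9018 D19177) (tt N9019 D19178))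
theorem Q5478 : ∀ i, i < 5478 → P i := stepQ 5477 Q5477 (allL N5477 (tt N9013 (iv F35729)) (tt N5796 (iv F35104)) (tt N5750 F35103) (tt N3243 (iv D13948)) (tt N9020 D19179) (tt N9021 D19180) (tt N7444 (iv F35099)))
theorem Q5479 : ∀ i, i < 5479 → P i := stepQ 5478 Q5478 (allL N5478 (tt N9014 (iv F35734)) (tt N9022 D19181) (tt N3244 F24435) (tt N9021 (iv F35754)) (tt N8743 (iv F33773)) (tt N3243 (iv D13949)) (tt N9023 D19182))
theorem Q5480 : ∀ i, i < 5480 → P i := stepQ 5479 Q5479 (allL N5479 (tt N9015 (iv F35738)) (tt N7450 (iv F35098)) (tt N3245 F24436) (tt N7444 F35097) (tt N8744 (iv F33775)) (tt N9024 D19183) (tt N3243 (iv D13950)))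
theorem Q5481 : ∀ i, i < 5481 → P i := stepQ 5480 Q5480 (allL N5480 (tt N9025 D19184) (tt N3244 (iv D13951)) (tt N9026 D19185) (tt N8292 (iv F31986)) (tt N8745 (iv F33776)) (tt N3249 F24437) (tt N9027 D19186))
theorem Q5482 : ∀ i, i < 5482 → P i := stepQ 5481 Q5481 (allL N5481 (tt N5482 (iv F24439)) (tt N8975 F35645) (tt N9023 (iv F35755)) (tt N8293 (iv F31988)) (tt N8746 (iv F33778)) (tt N5475 F24438) (tt N3244 (iv D13952)))
theorem Q5483 : ∀ i, i < 5483 → P i := stepQ 5482 Q5482 (allL N5482 (tt N5481 F24439) (tt N9028 D19187) (tt N9024 (iv F35758)) (tt N7310 (iv F34643)) (tt N8747 (iv F33781)) (tt N3245 (iv D13953)) (tt N5474 F24440))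
theorem Q5484 : ∀ i, i < 5484 → P i := stepQ 5483 Q5483 (allL N5483 (tt N5796 (iv F35174)) (tt N3247 F24441) (tt N3294 (iv F24442)) (tt N3246 (iv D13955)) (tt N9029 D19188) (tt N9030 D19189) (tt N5978 F34566))
theorem Q5485 : ∀ i, i < 5485 → P i := stepQ 5484 Q5484 (allL N5484 (tt N9018 (iv F35748)) (tt N9031 D19190) (tt N9018 (iv F35749)) (tt N9030 (iv F35777)) (tt N8749 (iv F33784)) (tt N3246 (iv D13956)) (tt N9032 D19191))
theorem Q5486 : ∀ i, i < 5486 → P i := stepQ 5485 Q5485 (allL N5485 (tt N9019 (iv F35750)) (tt N5979 F34564) (tt N9019 (iv F35751)) (tt N5978 (iv F34565)) (tt N8750 (iv F33785)) (tt N9033 D19192) (tt N3246 (iv D13957)))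
theorem Q5487 : ∀ i, i < 5487 → P i := stepQ 5486 Q5486 (allL N5486 (tt N3250 F24445) (tt N9029 (iv F35774)) (tt N3250 F24446) (tt N8751 (iv F33787)) (tt N3247 (iv D13958)) (tt N9034 D19193) (tt N5916 (iv F34603)))
theorem Q5488 : ∀ i, i < 5488 → P i := stepQ 5487 Q5487 (allL N5487 (tt N3251 F24447) (tt N9035 D19194) (tt N3251 F24448) (tt N3248 F24449) (tt N9034 (iv F35785)) (tt N3247 (iv D13959)) (tt N5418 F24450))
theorem Q5489 : ∀ i, i < 5489 → P i := stepQ 5488 Q5488 (allL N5488 (tt N9036 D19195) (tt N3248 (iv D13960)) (tt N9037 D19196) (tt N9035 (iv F35787)) (tt N8753 (iv F33791)) (tt N9031 (iv F35778)) (tt N9038 D19197))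
theorem Q5490 : ∀ i, i < 5490 → P i := stepQ 5489 Q5489 (allL N5489 (tt N3249 (iv D13961)) (tt N9039 D19198) (tt N9040 D19199) (tt N8294 (iv F31993)) (tt N8754 (iv F33792)) (tt N9025 (iv F35761)) (tt N8962 F35727))
theorem Q5491 : ∀ i, i < 5491 → P i := stepQ 5490 Q5490 (allL N5490 (tt N9040 (iv F35792)) (tt N9037 (iv F35788)) (tt N3249 (iv D13962)) (tt N9041 D19200) (tt N8755 (iv F33793)) (tt N9026 (iv F35766)) (tt N9042 D19201))
theorem Q5492 : ∀ i, i < 5492 → P i := stepQ 5491 Q5491 (allL N5491 (tt N8962 (iv F35726)) (tt N5422 F24451) (tt N9042 (iv F35795)) (tt N8296 (iv F31996)) (tt N8756 (iv F33795)) (tt N8265 (iv F31930)) (tt N3249 (iv D13963)))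
theorem Q5493 : ∀ i, i < 5493 → P i := stepQ 5492 Q5492 (allL N5492 (tt N9034 (iv F35783)) (tt N9043 D19202) (tt N9034 (iv F35784)) (tt N8757 (iv F33796)) (tt N3251 F24452) (tt N3250 (iv D13964)) (tt N9044 D19203))
theorem Q5494 : ∀ i, i < 5494 → P i := stepQ 5493 Q5493 (allL N5493 (tt N9045 D19204) (tt N3251 (iv D13965)) (tt N9046 D19205) (tt N3252 F24453) (tt N9043 (iv F35796)) (tt N3298 F24454) (tt N9046 F35806))
theorem Q5495 : ∀ i, i < 5495 → P i := stepQ 5494 Q5494 (allL N5494 (tt N5418 F24455) (tt N9047 D19206) (tt N5418 F24456) (tt N3253 F24457) (tt N9044 (iv F35800)) (tt N3614 F34558) (tt N3251 (iv D13966)))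
theorem Q5496 : ∀ i, i < 5496 → P i := stepQ 5495 Q5495 (allL N5495 (tt N3252 (iv D13967)) (tt N9048 D19207) (tt N9049 D19208) (tt N9045 (iv F35802)) (tt N8760 (iv F33803)) (tt N3300 F24459) (tt N5587 (iv F24575)))
theorem Q5497 : ∀ i, i < 5497 → P i := stepQ 5496 Q5496 (allL N5496 (tt N9049 (iv F35811)) (tt N3255 F24460) (tt N3252 (iv D13968)) (tt N8995 (iv F35678)) (tt N8761 (iv F33806)) (tt N3301 F24461) (tt N9050 D19209))
theorem Q5498 : ∀ i, i < 5498 → P i := stepQ 5497 Q5497 (allL N5497 (tt N5587 (iv F24574)) (tt N9051 D19210) (tt N9050 (iv F35814)) (tt N9046 F35805) (tt N8762 (iv F33808)) (tt N5583 (iv F24569)) (tt N3252 (iv D13969)))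
theorem Q5499 : ∀ i, i < 5499 → P i := stepQ 5498 Q5498 (allL N5498 (tt N9052 D19211) (tt N3253 (iv D13970)) (tt N9053 D19212) (tt N9047 (iv F35807)) (tt N8763 (iv F33809)) (tt N9054 D19213) (tt N9051 (iv F35815)))
theorem Q5500 : ∀ i, i < 5500 → P i := stepQ 5499 Q5499 (allL N5499 (tt N9055 D19214) (tt N3254 (iv D13971)) (tt N9056 D19215) (tt N5470 F24462) (tt N8764 (iv F33810)) (tt N9057 D19216) (tt N9058 D19217))
theorem Q5501 : ∀ i, i < 5501 → P i := stepQ 5500 Q5500 (allL N5500 (tt N9059 D19218) (tt N3256 (iv D13975)) (tt N9060 D19219) (tt N5472 F24467) (tt N8768 (iv F33817)) (tt N9061 D19220) (tt N3257 F24468))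
theorem Q5502 : ∀ i, i < 5502 → P i := stepQ 5501 Q5501 (allL N5501 (tt N3257 (iv D13976)) (tt N8256 (iv F35728)) (tt N9062 D19221) (tt N8297 (iv F31998)) (tt N8769 (iv F33819)) (tt N9063 D19222) (tt N9059 (iv F35826)))
theorem Q5503 : ∀ i, i < 5503 → P i := stepQ 5502 Q5502 (allL N5502 (tt N9062 (iv F35831)) (tt N9053 (iv F35816)) (tt N3257 (iv D13977)) (tt N6103 (iv F36332)) (tt N8770 (iv F33820)) (tt N9064 D19224) (tt N9060 (iv F35828)))
theorem Q5504 : ∀ i, i < 5504 → P i := stepQ 5503 Q5503 (allL N5503 (tt N9063 (iv F35832)) (tt N5415 F24469) (tt N9064 (iv F35836)) (tt N8299 (iv F32001)) (tt N8771 (iv F33822)) (tt N3257 (iv D13978)) (tt N9065 D19225))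
theorem Q5505 : ∀ i, i < 5505 → P i := stepQ 5504 Q5504 (allL N5504 (tt N3258 (iv D13979)) (tt N5463 F24470) (tt N8568 (iv F34138)) (tt N5463 F24471) (tt N8772 (iv F33824)) (tt N9066 D19226) (tt N9067 D19227))
theorem Q5506 : ∀ i, i < 5506 → P i := stepQ 5505 Q5505 (allL N5505 (tt N8568 F34139) (tt N4823 F35038) (tt N3258 (iv D13980)) (tt N3926 F35039) (tt N8773 (iv F33825)) (tt N9068 D19228) (tt N3924 F35040))
theorem Q5507 : ∀ i, i < 5507 → P i := stepQ 5506 Q5506 (allL N5506 (tt N9066 (iv F35840)) (tt N9057 (iv F35821)) (tt N9068 (iv F35847)) (tt N5465 F24472) (tt N8774 (iv F33826)) (tt N3258 (iv D13981)) (tt N9069 D19229))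
theorem Q5508 : ∀ i, i < 5508 → P i := stepQ 5507 Q5507 (allL N5507 (tt N9067 (iv F35844)) (tt N6688 F35027) (tt N3924 F35028) (tt N5466 F24473) (tt N8775 (iv F33827)) (tt N8905 F35029) (tt N3258 (iv D13982)))
theorem Q5509 : ∀ i, i < 5509 → P i := stepQ 5508 Q5508 (allL N5508 (tt N9070 D19230) (tt N3259 (iv D13983)) (tt N4823 F35033) (tt N8996 (iv F35680)) (tt N8776 (iv F33828)) (tt N9071 D19231) (tt N4820 F35034))
theorem Q5510 : ∀ i, i < 5510 → P i := stepQ 5509 Q5509 (allL N5509 (tt N3262 F24475) (tt N8128 F35032) (tt N3260 F24476) (tt N5469 F35446) (tt N8778 (iv F33832)) (tt N5468 (iv F35454)) (tt N3259 (iv D13985)))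
theorem Q5511 : ∀ i, i < 5511 → P i := stepQ 5510 Q5510 (allL N5510 (tt N8893 F35025) (tt N3260 (iv D13986)) (tt N6689 (iv F35030)) (tt N5455 F24478) (tt N8779 (iv F33834)) (tt N8891 (iv F35026)) (tt N6688 F35024))
theorem Q5512 : ∀ i, i < 5512 → P i := stepQ 5511 Q5511 (allL N5511 (tt N8722 F35468) (tt N3309 F24479) (tt N5294 F35469) (tt N8780 (iv F33836)) (tt N3261 (iv D13988)) (tt N8720 F35470) (tt N5293 F35471))
theorem Q5513 : ∀ i, i < 5513 → P i := stepQ 5512 Q5512 (allL N5512 (tt N9072 D19232) (tt N3263 (iv D13991)) (tt N5555 (iv F35479)) (tt N5459 F24485) (tt N8782 (iv F33843)) (tt N4992 F24486) (tt N9073 D19233))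
theorem Q5514 : ∀ i, i < 5514 → P i := stepQ 5513 Q5513 (allL N5513 (tt N3264 (iv D13992)) (tt N7038 F27828) (tt N3266 F24487) (tt N7533 (iv F29430)) (tt N7034 (iv F27829)) (tt N9074 D19234) (tt N9075 D19235))
theorem Q5515 : ∀ i, i < 5515 → P i := stepQ 5514 Q5514 (allL N5514 (tt N7533 (iv F29428)) (tt N3265 F24488) (tt N9076 D19236) (tt N3264 (iv D13993)) (tt N7529 (iv F29416)) (tt N9077 D19237) (tt N9078 D19238))
theorem Q5516 : ∀ i, i < 5516 → P i := stepQ 5515 Q5515 (allL N5515 (tt N9074 (iv F35862)) (tt N5515 F24489) (tt N3268 F24490) (tt N9077 (iv F35871)) (tt N8783 (iv F33847)) (tt N3264 (iv D13994)) (tt N9079 D19239))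
theorem Q5517 : ∀ i, i < 5517 → P i := stepQ 5516 Q5516 (allL N5516 (tt N9075 (iv F35864)) (tt N5019 F24491) (tt N3269 F24492) (tt N9078 (iv F35874)) (tt N8784 (iv F33850)) (tt N9080 D19240) (tt N3264 (iv D13995)))
theorem Q5518 : ∀ i, i < 5518 → P i := stepQ 5517 Q5517 (allL N5517 (tt N5517 F24493) (tt N7529 (iv F29415)) (tt N5517 F24494) (tt N7528 F29412) (tt N3265 (iv D13996)) (tt N5517 F24495) (tt N5027 F24496))
theorem Q5519 : ∀ i, i < 5519 → P i := stepQ 5518 Q5518 (allL N5518 (tt N3267 F24497) (tt N8946 (iv F35573)) (tt N4569 F28998) (tt N3266 (iv D13997)) (tt N9081 D19241) (tt N3883 F28999) (tt N7618 (iv F29602)))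
theorem Q5520 : ∀ i, i < 5520 → P i := stepQ 5519 Q5519 (allL N5519 (tt N3268 F24498) (tt N3884 F28994) (tt N9074 (iv F35863)) (tt N3883 F28995) (tt N8786 (iv F33853)) (tt N3266 (iv D13998)) (tt N5524 (iv F24505)))
theorem Q5521 : ∀ i, i < 5521 → P i := stepQ 5520 Q5520 (allL N5520 (tt N3269 F24499) (tt N9082 D19242) (tt N9075 (iv F35865)) (tt N7618 (iv F29601)) (tt N8787 (iv F33856)) (tt N5523 (iv F24503)) (tt N3266 (iv D13999)))
theorem Q5522 : ∀ i, i < 5522 → P i := stepQ 5521 Q5521 (allL N5521 (tt N9081 (iv F35880)) (tt N3270 F24500) (tt N4287 F29001) (tt N8789 (iv F33863)) (tt N3267 (iv D14001)) (tt N4278 F29002) (tt N9083 D19243))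
theorem Q5523 : ∀ i, i < 5523 → P i := stepQ 5522 Q5522 (allL N5522 (tt N7618 (iv F29599)) (tt N8550 (iv F33328)) (tt N4575 F29012) (tt N3269 F24502) (tt N9083 (iv F35886)) (tt N6535 (iv F29013)) (tt N3267 (iv D14003)))
theorem Q5524 : ∀ i, i < 5524 → P i := stepQ 5523 Q5523 (allL N5523 (tt N5524 (iv F24504)) (tt N9084 D19244) (tt N9079 (iv F35875)) (tt N4557 (iv F29015)) (tt N8792 (iv F33870)) (tt N5520 F24503) (tt N3268 (iv D14004)))
theorem Q5525 : ∀ i, i < 5525 → P i := stepQ 5524 Q5524 (allL N5524 (tt N5523 F24504) (tt N9085 D19245) (tt N9080 (iv F35878)) (tt N6535 F29014) (tt N8793 (iv F33873)) (tt N3269 (iv D14005)) (tt N5519 F24505))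
theorem Q5526 : ∀ i, i < 5526 → P i := stepQ 5525 Q5525 (allL N5525 (tt N5760 F29164) (tt N3272 F24506) (tt N8963 (iv F35624)) (tt N9086 D19246) (tt N3271 (iv D14007)) (tt N9086 F35891) (tt N9087 D19247))
theorem Q5527 : ∀ i, i < 5527 → P i := stepQ 5526 Q5526 (allL N5526 (tt N5788 F29165) (tt N5604 F29159) (tt N5963 (iv F29160)) (tt N5602 (iv F29157)) (tt N9086 (iv F35890)) (tt N3271 (iv D14008)) (tt N9088 D19248))
theorem Q5528 : ∀ i, i < 5528 → P i := stepQ 5527 Q5527 (allL N5527 (tt N5795 F29166) (tt N9089 D19249) (tt N8964 (iv F35625)) (tt N5603 (iv F24601)) (tt N9087 (iv F35892)) (tt N9090 D19250) (tt N3271 (iv D14009)))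
theorem Q5529 : ∀ i, i < 5529 → P i := stepQ 5528 Q5528 (allL N5528 (tt N5616 (iv F24627)) (tt N9086 (iv F35889)) (tt N5852 F29011) (tt N3272 (iv D14010)) (tt N5604 (iv F24603)) (tt N8554 (iv F33340)) (tt N9091 D19251))
theorem Q5530 : ∀ i, i < 5530 → P i := stepQ 5529 Q5529 (allL N5529 (tt N5617 (iv F24629)) (tt N9092 D19252) (tt N3274 F24507) (tt N9091 (iv F35899)) (tt N3273 F24508) (tt N8572 (iv F33397)) (tt N3272 (iv D14011)))
theorem Q5531 : ∀ i, i < 5531 → P i := stepQ 5530 Q5530 (allL N5530 (tt N6069 (iv F29199)) (tt N3273 (iv D14012)) (tt N6571 (iv F29205)) (tt N5212 F24509) (tt N9092 (iv F35901)) (tt N6067 F29200) (tt N9089 (iv F35895)))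
theorem Q5532 : ∀ i, i < 5532 → P i := stepQ 5531 Q5531 (allL N5531 (tt N9093 D19253) (tt N3274 (iv D14013)) (tt N9094 D19254) (tt N8794 (iv F33875)) (tt N3275 F24510) (tt N9095 D19255) (tt N8978 (iv F35648)))
theorem Q5533 : ∀ i, i < 5533 → P i := stepQ 5532 Q5532 (allL N5532 (tt N5182 F24511) (tt N9096 D19256) (tt N8572 (iv F33395)) (tt N8795 (iv F33879)) (tt N3276 F24512) (tt N3274 (iv D14014)) (tt N5178 F24513))
theorem Q5534 : ∀ i, i < 5534 → P i := stepQ 5533 Q5533 (allL N5533 (tt N3275 (iv D14015)) (tt N3910 F29209) (tt N5535 F29210) (tt N3277 F24514) (tt N9093 (iv F35903)) (tt N5534 F29211) (tt N8980 (iv F35654)))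
theorem Q5535 : ∀ i, i < 5535 → P i := stepQ 5534 Q5534 (allL N5534 (tt N5535 (iv F29212)) (tt N6571 F29206) (tt N3275 (iv D14016)) (tt N5539 F29213) (tt N9094 (iv F35904)) (tt N5533 (iv F29211)) (tt N8981 (iv F35655)))
theorem Q5536 : ∀ i, i < 5536 → P i := stepQ 5535 Q5535 (allL N5535 (tt N5534 F29212) (tt N9097 D19257) (tt N5533 (iv F29210)) (tt N3279 F24515) (tt N9095 (iv F35908)) (tt N3275 (iv D14017)) (tt N9098 D19258))
theorem Q5537 : ∀ i, i < 5537 → P i := stepQ 5536 Q5536 (allL N5536 (tt N7974 (iv F34136)) (tt N3276 (iv D14018)) (tt N9099 D19259) (tt N3280 F24516) (tt N9096 (iv F35909)) (tt N9097 (iv F35912)) (tt N7622 (iv F29612)))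
theorem Q5538 : ∀ i, i < 5538 → P i := stepQ 5537 Q5537 (allL N5537 (tt N3908 F29215) (tt N3277 (iv D14019)) (tt N3936 F35153) (tt N3910 F29216) (tt N8800 (iv F33886)) (tt N3906 F29217) (tt N3935 F35154))
theorem Q5539 : ∀ i, i < 5539 → P i := stepQ 5538 Q5538 (allL N5538 (tt N3278 F24517) (tt N4748 F35163) (tt N3277 (iv D14020)) (tt N9100 D19260) (tt N8801 (iv F33889)) (tt N9101 D19261) (tt N8984 (iv F35664)))
theorem Q5540 : ∀ i, i < 5540 → P i := stepQ 5539 Q5539 (allL N5539 (tt N3279 F24518) (tt N9102 D19262) (tt N9101 (iv F35922)) (tt N5534 (iv F29213)) (tt N8802 (iv F33891)) (tt N3277 (iv D14021)) (tt N5453 F24519))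
theorem Q5541 : ∀ i, i < 5541 → P i := stepQ 5540 Q5540 (allL N5540 (tt N9100 (iv F35919)) (tt N3282 F24520) (tt N9103 D19263) (tt N3278 (iv D14022)) (tt N9104 D19264) (tt N9103 F35927) (tt N8985 (iv F35666)))
theorem Q5542 : ∀ i, i < 5542 → P i := stepQ 5541 Q5541 (allL N5541 (tt N9101 (iv F35921)) (tt N9105 D19265) (tt N3279 F24521) (tt N9103 (iv F35926)) (tt N8804 (iv F33895)) (tt N3278 (iv D14023)) (tt N9106 D19266))
theorem Q5543 : ∀ i, i < 5543 → P i := stepQ 5542 Q5542 (allL N5542 (tt N9107 D19267) (tt N3279 (iv D14024)) (tt N5596 (iv F24587)) (tt N9097 (iv F35911)) (tt N8805 (iv F33896)) (tt N3280 F24522) (tt N9108 D19268))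
theorem Q5544 : ∀ i, i < 5544 → P i := stepQ 5543 Q5543 (allL N5543 (tt N5453 F24523) (tt N9109 D19269) (tt N9106 (iv F35931)) (tt N9098 (iv F35915)) (tt N8806 (iv F33899)) (tt N5451 F24524) (tt N3279 (iv D14025)))
theorem Q5545 : ∀ i, i < 5545 → P i := stepQ 5544 Q5544 (allL N5544 (tt N3280 (iv D14026)) (tt N7972 (iv F34131)) (tt N5594 (iv F24585)) (tt N7974 F34137) (tt N8807 (iv F33901)) (tt N9107 (iv F35933)) (tt N9110 D19270))
theorem Q5546 : ∀ i, i < 5546 → P i := stepQ 5545 Q5545 (allL N5545 (tt N9110 (iv F35934)) (tt N5177 F24525) (tt N5597 (iv F24589)) (tt N7622 (iv F29611)) (tt N8808 (iv F33903)) (tt N9111 D19271) (tt N3280 (iv D14027)))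
theorem Q5547 : ∀ i, i < 5547 → P i := stepQ 5546 Q5546 (allL N5546 (tt N9112 D19272) (tt N3281 (iv D14028)) (tt N5590 (iv F24579)) (tt N9113 D19273) (tt N8809 (iv F33904)) (tt N9105 (iv F35929)) (tt N9114 D19274))
theorem Q5548 : ∀ i, i < 5548 → P i := stepQ 5547 Q5547 (allL N5547 (tt N3282 F24526) (tt N9113 (iv F35938)) (tt N5630 (iv F24675)) (tt N3281 (iv D14029)) (tt N9115 D19275) (tt N3282 F24527) (tt N3284 F24528))
theorem Q5549 : ∀ i, i < 5549 → P i := stepQ 5548 Q5548 (allL N5548 (tt N5630 (iv F24674)) (tt N9116 D19276) (tt N3282 (iv D14030)) (tt N4838 F32898) (tt N9117 D19277) (tt N5630 (iv F24676)) (tt N3285 F24529))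
theorem Q5550 : ∀ i, i < 5550 → P i := stepQ 5549 Q5549 (allL N5549 (tt N9115 (iv F35940)) (tt N9104 (iv F35928)) (tt N9117 (iv F35944)) (tt N8812 (iv F33909)) (tt N3282 (iv D14031)) (tt N9115 (iv F35941)) (tt N3286 F24530))
theorem Q5551 : ∀ i, i < 5551 → P i := stepQ 5550 Q5550 (allL N5550 (tt N3283 (iv D14032)) (tt N9118 D19278) (tt N5588 (iv F24576)) (tt N9119 D19279) (tt N8813 (iv F33911)) (tt N9120 D19280) (tt N9121 D19281))
theorem Q5552 : ∀ i, i < 5552 → P i := stepQ 5551 Q5551 (allL N5551 (tt N9119 (iv F35947)) (tt N3284 F24531) (tt N8287 (iv F35984)) (tt N3283 (iv D14033)) (tt N9122 D19283) (tt N8286 (iv F35986)) (tt N8940 (iv F35988)))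
theorem Q5553 : ∀ i, i < 5553 → P i := stepQ 5552 Q5552 (allL N5552 (tt N9120 (iv F35948)) (tt N5552 F24532) (tt N5589 (iv F24578)) (tt N8286 (iv F35985)) (tt N8815 (iv F33914)) (tt N3283 (iv D14034)) (tt N9123 D19286))
theorem Q5554 : ∀ i, i < 5554 → P i := stepQ 5553 Q5553 (allL N5553 (tt N9121 (iv F35949)) (tt N9114 (iv F35939)) (tt N5586 F24573) (tt N8940 (iv F35987)) (tt N8816 (iv F33915)) (tt N9124 D19287) (tt N3283 (iv D14035)))
theorem Q5555 : ∀ i, i < 5555 → P i := stepQ 5554 Q5554 (allL N5554 (tt N3286 F24533) (tt N9122 (iv F35950)) (tt N5637 (iv F24698)) (tt N8817 (iv F33917)) (tt N3284 (iv D14036)) (tt N5554 F24534) (tt N9115 (iv F35942)))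
theorem Q5556 : ∀ i, i < 5556 → P i := stepQ 5555 Q5555 (allL N5555 (tt N9125 D19288) (tt N3285 (iv D14037)) (tt N5512 F35479) (tt N5631 (iv F24686)) (tt N9126 D19289) (tt N8289 (iv F35480)) (tt N9127 D19290))
theorem Q5557 : ∀ i, i < 5557 → P i := stepQ 5556 Q5556 (allL N5556 (tt N5637 (iv F24697)) (tt N9126 (iv F35958)) (tt N3286 F24535) (tt N6148 (iv F33008)) (tt N3285 (iv D14038)) (tt N5556 F24536) (tt N9117 (iv F35946)))
theorem Q5558 : ∀ i, i < 5558 → P i := stepQ 5557 Q5557 (allL N5557 (tt N3287 (iv D14039)) (tt N7066 (iv F34648)) (tt N3289 F24537) (tt N7578 F34804) (tt N7062 (iv F34803)) (tt N9128 D19291) (tt N9129 D19292))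
theorem Q5559 : ∀ i, i < 5559 → P i := stepQ 5558 Q5558 (allL N5558 (tt N7578 (iv F34805)) (tt N3288 F24538) (tt N9130 D19293) (tt N3287 (iv D14040)) (tt N7574 F34806) (tt N9131 D19294) (tt N9132 D19295))
theorem Q5560 : ∀ i, i < 5560 → P i := stepQ 5559 Q5559 (allL N5559 (tt N9128 (iv F35996)) (tt N5025 F24539) (tt N3291 F24540) (tt N9131 (iv F36004)) (tt N8820 (iv F33926)) (tt N3287 (iv D14041)) (tt N9133 D19296))
theorem Q5561 : ∀ i, i < 5561 → P i := stepQ 5560 Q5560 (allL N5560 (tt N9129 (iv F35998)) (tt N5560 F24541) (tt N3292 F24542) (tt N9132 (iv F36007)) (tt N8821 (iv F33929)) (tt N9134 D19297) (tt N3287 (iv D14042)))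
theorem Q5562 : ∀ i, i < 5562 → P i := stepQ 5561 Q5561 (allL N5561 (tt N5561 F24543) (tt N7574 (iv F34807)) (tt N5561 F24544) (tt N7573 (iv F34809)) (tt N3288 (iv D14043)) (tt N5028 F24545) (tt N5561 F24546))
theorem Q5563 : ∀ i, i < 5563 → P i := stepQ 5562 Q5562 (allL N5562 (tt N3290 F24547) (tt N9013 (iv F35730)) (tt N4671 F34750) (tt N3289 (iv D14044)) (tt N9135 D19298) (tt N7784 F34751) (tt N3912 F34752))
theorem Q5564 : ∀ i, i < 5564 → P i := stepQ 5563 Q5563 (allL N5563 (tt N3291 F24548) (tt N9136 D19299) (tt N9128 (iv F35997)) (tt N7784 (iv F35268)) (tt N8823 (iv F33937)) (tt N3289 (iv D14045)) (tt N5568 (iv F24555)))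
theorem Q5565 : ∀ i, i < 5565 → P i := stepQ 5564 Q5564 (allL N5564 (tt N3292 F24549) (tt N3913 F34781) (tt N9129 (iv F35999)) (tt N3912 F34782) (tt N8824 (iv F33939)) (tt N5567 (iv F24553)) (tt N3289 (iv D14046)))
theorem Q5566 : ∀ i, i < 5566 → P i := stepQ 5565 Q5565 (allL N5565 (tt N9135 (iv F36014)) (tt N3293 F24550) (tt N4339 F34753) (tt N8826 (iv F33941)) (tt N3290 (iv D14048)) (tt N9137 D19300) (tt N4329 F34754))
theorem Q5567 : ∀ i, i < 5567 → P i := stepQ 5566 Q5566 (allL N5566 (tt N7784 F34755) (tt N8521 (iv F33259)) (tt N4678 F34756) (tt N3291 F24551) (tt N9137 (iv F36020)) (tt N3290 (iv D14049)) (tt N6574 F34757))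
theorem Q5568 : ∀ i, i < 5568 → P i := stepQ 5567 Q5567 (allL N5567 (tt N5568 (iv F24554)) (tt N9138 D19301) (tt N9133 (iv F36009)) (tt N6574 (iv F35267)) (tt N8829 (iv F33944)) (tt N5564 F24553) (tt N3291 (iv D14051)))
theorem Q5569 : ∀ i, i < 5569 → P i := stepQ 5568 Q5568 (allL N5568 (tt N5567 F24554) (tt N9139 D19302) (tt N9134 (iv F36012)) (tt N4659 F34784) (tt N8830 (iv F33947)) (tt N3292 (iv D14052)) (tt N5563 F24555))
theorem Q5570 : ∀ i, i < 5570 → P i := stepQ 5569 Q5569 (allL N5569 (tt N5761 F35214) (tt N3295 F24556) (tt N9029 (iv F35775)) (tt N9140 D19303) (tt N3294 (iv D14054)) (tt N9141 D19304) (tt N9140 F36025))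
theorem Q5571 : ∀ i, i < 5571 → P i := stepQ 5570 Q5570 (allL N5570 (tt N5797 F35215) (tt N9142 D19305) (tt N9030 (iv F35776)) (tt N5640 (iv F24706)) (tt N9141 (iv F36026)) (tt N3294 (iv D14055)) (tt N9143 D19306))
theorem Q5572 : ∀ i, i < 5572 → P i := stepQ 5571 Q5571 (allL N5571 (tt N5789 (iv F35180)) (tt N5641 F32103) (tt N5978 (iv F34567)) (tt N5639 (iv F32101)) (tt N9140 (iv F36024)) (tt N9144 D19307) (tt N3294 (iv D14056)))
theorem Q5573 : ∀ i, i < 5573 → P i := stepQ 5572 Q5572 (allL N5572 (tt N5650 (iv F24734)) (tt N9140 (iv F36023)) (tt N5860 (iv F34542)) (tt N3295 (iv D14057)) (tt N5641 (iv F24710)) (tt N9145 D19308) (tt N8563 (iv F33373)))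
theorem Q5574 : ∀ i, i < 5574 → P i := stepQ 5573 Q5573 (allL N5573 (tt N5651 (iv F24736)) (tt N9146 D19309) (tt N3297 F24557) (tt N9145 (iv F36033)) (tt N3296 F24558) (tt N3295 (iv D14058)) (tt N8581 (iv F33447)))
theorem Q5575 : ∀ i, i < 5575 → P i := stepQ 5574 Q5574 (allL N5574 (tt N6108 (iv F35191)) (tt N3296 (iv D14059)) (tt N6609 (iv F35193)) (tt N5204 F24559) (tt N9146 (iv F36035)) (tt N9142 (iv F36028)) (tt N6105 F34885))
theorem Q5576 : ∀ i, i < 5576 → P i := stepQ 5575 Q5575 (allL N5575 (tt N9147 D19310) (tt N3297 (iv D14060)) (tt N9148 D19311) (tt N8831 (iv F33949)) (tt N3298 F24560) (tt N9043 (iv F35797)) (tt N9149 D19312))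
theorem Q5577 : ∀ i, i < 5577 → P i := stepQ 5576 Q5576 (allL N5576 (tt N5193 F24561) (tt N9150 D19313) (tt N8581 (iv F33445)) (tt N8832 (iv F33953)) (tt N3299 F24562) (tt N5189 F24563) (tt N3297 (iv D14061)))
theorem Q5578 : ∀ i, i < 5578 → P i := stepQ 5577 Q5577 (allL N5577 (tt N3298 (iv D14062)) (tt N3938 F35244) (tt N5579 F35245) (tt N3300 F24564) (tt N9147 (iv F36037)) (tt N9045 (iv F35803)) (tt N5578 F35246))
theorem Q5579 : ∀ i, i < 5579 → P i := stepQ 5578 Q5578 (allL N5578 (tt N5579 F35247) (tt N6609 F35194) (tt N3298 (iv D14063)) (tt N5583 F35248) (tt N9148 (iv F36038)) (tt N9046 (iv F35804)) (tt N5577 (iv F35246)))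
theorem Q5580 : ∀ i, i < 5580 → P i := stepQ 5579 Q5579 (allL N5579 (tt N5578 (iv F35247)) (tt N9151 D19314) (tt N5577 (iv F35245)) (tt N3302 F24565) (tt N9149 (iv F36042)) (tt N9152 D19315) (tt N3298 (iv D14064)))
theorem Q5581 : ∀ i, i < 5581 → P i := stepQ 5580 Q5580 (allL N5580 (tt N8033 F35046) (tt N3299 (iv D14065)) (tt N9153 D19316) (tt N3303 F24566) (tt N9150 (iv F36043)) (tt N7792 F35283) (tt N9151 (iv F36046)))
theorem Q5582 : ∀ i, i < 5582 → P i := stepQ 5581 Q5581 (allL N5581 (tt N3936 F35227) (tt N3300 (iv D14066)) (tt N3908 F35228) (tt N3938 F35229) (tt N8837 (iv F33959)) (tt N3907 F35230) (tt N3934 F35231))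
theorem Q5583 : ∀ i, i < 5583 → P i := stepQ 5582 Q5582 (allL N5582 (tt N3301 F24567) (tt N4650 F35242) (tt N3300 (iv D14067)) (tt N9154 D19317) (tt N8838 (iv F33961)) (tt N9049 (iv F35813)) (tt N9155 D19318))
theorem Q5584 : ∀ i, i < 5584 → P i := stepQ 5583 Q5583 (allL N5583 (tt N3302 F24568) (tt N9156 D19319) (tt N9155 (iv F36056)) (tt N5578 (iv F35248)) (tt N8839 (iv F33963)) (tt N5497 F24569) (tt N3300 (iv D14068)))
theorem Q5585 : ∀ i, i < 5585 → P i := stepQ 5584 Q5584 (allL N5584 (tt N9154 (iv F36053)) (tt N3305 F24570) (tt N9157 D19320) (tt N3301 (iv D14069)) (tt N9158 D19321) (tt N8995 (iv F35679)) (tt N9157 F36061))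
theorem Q5586 : ∀ i, i < 5586 → P i := stepQ 5585 Q5585 (allL N5585 (tt N9155 (iv F36055)) (tt N9159 D19322) (tt N3302 F24571) (tt N9157 (iv F36060)) (tt N8841 (iv F33967)) (tt N9160 D19323) (tt N3301 (iv D14070)))
theorem Q5587 : ∀ i, i < 5587 → P i := stepQ 5586 Q5586 (allL N5586 (tt N9161 D19324) (tt N3302 (iv D14071)) (tt N5553 (iv F24573)) (tt N9151 (iv F36045)) (tt N8842 (iv F33968)) (tt N9162 D19325) (tt N3303 F24572))
theorem Q5588 : ∀ i, i < 5588 → P i := stepQ 5587 Q5587 (allL N5587 (tt N5497 F24574) (tt N9163 D19326) (tt N9160 (iv F36066)) (tt N9152 (iv F36049)) (tt N8843 (iv F33972)) (tt N3302 (iv D14072)) (tt N5495 F24575))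
theorem Q5589 : ∀ i, i < 5589 → P i := stepQ 5588 Q5588 (allL N5588 (tt N3303 (iv D14073)) (tt N8031 F35048) (tt N5550 F24576) (tt N8033 (iv F35047)) (tt N8844 (iv F33975)) (tt N9164 D19327) (tt N9161 (iv F36069)))
theorem Q5590 : ∀ i, i < 5590 → P i := stepQ 5589 Q5589 (allL N5589 (tt N9164 (iv F36071)) (tt N5188 F24577) (tt N5552 F24578) (tt N7792 (iv F35282)) (tt N8845 (iv F33978)) (tt N3303 (iv D14074)) (tt N9165 D19328))
theorem Q5591 : ∀ i, i < 5591 → P i := stepQ 5590 Q5590 (allL N5590 (tt N9166 D19329) (tt N3304 (iv D14075)) (tt N5546 F24579) (tt N9167 D19330) (tt N8846 (iv F33980)) (tt N9168 D19331) (tt N9159 (iv F36064)))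
theorem Q5592 : ∀ i, i < 5592 → P i := stepQ 5591 Q5591 (allL N5591 (tt N3305 F24580) (tt N9167 (iv F36078)) (tt N5663 (iv F24783)) (tt N3304 (iv D14076)) (tt N9169 D19332) (tt N3307 F24581) (tt N3305 F24582))
theorem Q5593 : ∀ i, i < 5593 → P i := stepQ 5592 Q5592 (allL N5592 (tt N5663 (iv F24782)) (tt N9170 D19333) (tt N3305 (iv D14077)) (tt N4867 F32747) (tt N9171 D19334) (tt N3308 F24583) (tt N5663 (iv F24785)))
theorem Q5594 : ∀ i, i < 5594 → P i := stepQ 5593 Q5593 (allL N5593 (tt N9169 (iv F36081)) (tt N9158 (iv F36062)) (tt N9171 (iv F36085)) (tt N8849 (iv F33985)) (tt N3305 (iv D14078)) (tt N3309 F24584) (tt N9169 (iv F36083)))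
theorem Q5595 : ∀ i, i < 5595 → P i := stepQ 5594 Q5594 (allL N5594 (tt N3306 (iv D14079)) (tt N9172 D19335) (tt N5544 F24585) (tt N9173 D19336) (tt N8850 (iv F33988)) (tt N9174 D19337) (tt N9175 D19338))
theorem Q5596 : ∀ i, i < 5596 → P i := stepQ 5595 Q5595 (allL N5595 (tt N9173 (iv F36088)) (tt N3307 F24586) (tt N8296 (iv F36128)) (tt N3306 (iv D14080)) (tt N9176 D19340) (tt N8924 (iv F36130)) (tt N8295 (iv F36132)))
theorem Q5597 : ∀ i, i < 5597 → P i := stepQ 5596 Q5596 (allL N5596 (tt N9174 (iv F36089)) (tt N9168 (iv F36079)) (tt N5542 F24587) (tt N8924 (iv F36129)) (tt N8852 (iv F33991)) (tt N3306 (iv D14081)) (tt N9177 D19343))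
theorem Q5598 : ∀ i, i < 5598 → P i := stepQ 5597 Q5597 (allL N5597 (tt N9175 (iv F36091)) (tt N5597 F24588) (tt N5545 F24589) (tt N8295 (iv F36131)) (tt N8853 (iv F33994)) (tt N9178 D19344) (tt N3306 (iv D14082)))
theorem Q5599 : ∀ i, i < 5599 → P i := stepQ 5598 Q5598 (allL N5598 (tt N3309 F24590) (tt N9176 (iv F36093)) (tt N5670 (iv F24807)) (tt N8854 (iv F33996)) (tt N3307 (iv D14083)) (tt N9169 (iv F36082)) (tt N5598 F24591))
theorem Q5600 : ∀ i, i < 5600 → P i := stepQ 5599 Q5599 (allL N5599 (tt N9179 D19345) (tt N3308 (iv D14084)) (tt N5472 F35477) (tt N5664 (iv F24795)) (tt N9180 D19346) (tt N9181 D19347) (tt N8298 (iv F35478)))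
theorem Q5601 : ∀ i, i < 5601 → P i := stepQ 5600 Q5600 (allL N5600 (tt N5670 (iv F24806)) (tt N9180 (iv F36103)) (tt N3309 F24592) (tt N6161 (iv F33036)) (tt N3308 (iv D14085)) (tt N9171 (iv F36087)) (tt N5600 F24593))
theorem Q5602 : ∀ i, i < 5602 → P i := stepQ 5601 Q5601 (allL N5601 (tt N3310 (iv D14086)) (tt N3434 F29140) (tt N5601 F24594) (tt N3436 F29141) (tt N9182 D19348) (tt N9182 F36144) (tt N9183 D19349))
theorem Q5603 : ∀ i, i < 5603 → P i := stepQ 5602 Q5602 (allL N5602 (tt N9182 (iv F36141)) (tt N3311 F24596) (tt N5602 F24597) (tt N5526 F29157) (tt N3310 (iv D14087)) (tt N3310 F29158) (tt N9184 D19350))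
theorem Q5604 : ∀ i, i < 5604 → P i := stepQ 5603 Q5603 (allL N5603 (tt N9183 (iv F36146)) (tt N8587 (iv F33459)) (tt N5603 F24600) (tt N5527 F24601) (tt N9184 (iv F36151)) (tt N9185 D19351) (tt N3310 (iv D14089)))
theorem Q5605 : ∀ i, i < 5605 → P i := stepQ 5604 Q5604 (allL N5604 (tt N3319 F24602) (tt N5526 (iv F29159)) (tt N3536 F28967) (tt N3311 (iv D14090)) (tt N5528 F24603) (tt N5179 F28968) (tt N8588 (iv F33464)))
theorem Q5606 : ∀ i, i < 5606 → P i := stepQ 5605 Q5605 (allL N5605 (tt N3444 F29132) (tt N3312 (iv D14091)) (tt N6867 F29133) (tt N3448 F29134) (tt N9186 D19352) (tt N3456 F29135) (tt N5832 F29136))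
theorem Q5607 : ∀ i, i < 5607 → P i := stepQ 5606 Q5606 (allL N5606 (tt N3313 F24605) (tt N3448 F29138) (tt N7530 (iv F29421)) (tt N3312 (iv D14092)) (tt N9187 D19353) (tt N7525 (iv F29407)) (tt N9188 D19354))
theorem Q5608 : ∀ i, i < 5608 → P i := stepQ 5607 Q5607 (allL N5607 (tt N3314 F24606) (tt N9186 (iv F36159)) (tt N3355 F24607) (tt N6042 (iv F29121)) (tt N3312 (iv D14093)) (tt N5657 (iv F34905)) (tt N9189 D19355))
theorem Q5609 : ∀ i, i < 5609 → P i := stepQ 5608 Q5608 (allL N5608 (tt N3315 F24608) (tt N9190 D19356) (tt N3356 F24609) (tt N7525 (iv F29406)) (tt N5657 (iv F34904)) (tt N3312 (iv D14094)) (tt N5615 (iv F24626)))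
theorem Q5610 : ∀ i, i < 5610 → P i := stepQ 5609 Q5609 (allL N5609 (tt N3316 F24610) (tt N9191 D19357) (tt N3357 F24611) (tt N9188 (iv F36166)) (tt N9189 (iv F36171)) (tt N5613 (iv F24622)) (tt N3312 (iv D14095)))
theorem Q5611 : ∀ i, i < 5611 → P i := stepQ 5610 Q5610 (allL N5610 (tt N9187 (iv F36162)) (tt N3317 F24613) (tt N7035 F29004) (tt N5892 F29007) (tt N3313 (iv D14097)) (tt N5872 (iv F29005)) (tt N9192 D19358))
theorem Q5612 : ∀ i, i < 5612 → P i := stepQ 5611 Q5611 (allL N5611 (tt N9188 (iv F36164)) (tt N6084 (iv F29189)) (tt N7536 (iv F29436)) (tt N3316 F24615) (tt N9192 (iv F36177)) (tt N9193 D19359) (tt N3313 (iv D14099)))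
theorem Q5613 : ∀ i, i < 5613 → P i := stepQ 5612 Q5612 (allL N5612 (tt N9189 (iv F36168)) (tt N3337 F34875) (tt N3360 F24619) (tt N6044 (iv F29108)) (tt N3316 F24620) (tt N3343 F34876) (tt N3314 (iv D14102)))
theorem Q5614 : ∀ i, i < 5614 → P i := stepQ 5613 Q5613 (allL N5613 (tt N5615 (iv F24624)) (tt N9194 D19360) (tt N3361 F24621) (tt N7526 (iv F29409)) (tt N5655 (iv F34893)) (tt N5609 F24622) (tt N3315 (iv D14103)))
theorem Q5615 : ∀ i, i < 5615 → P i := stepQ 5614 Q5614 (allL N5614 (tt N9195 D19361) (tt N3316 (iv D14104)) (tt N3383 F34510) (tt N6084 F29190) (tt N3337 F34511) (tt N3336 F34512) (tt N3321 F24623))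
theorem Q5616 : ∀ i, i < 5616 → P i := stepQ 5615 Q5615 (allL N5615 (tt N5613 F24624) (tt N3342 F34889) (tt N3363 F24625) (tt N9193 (iv F36181)) (tt N3343 F34890) (tt N3316 (iv D14105)) (tt N5608 F24626))
theorem Q5617 : ∀ i, i < 5617 → P i := stepQ 5616 Q5616 (allL N5616 (tt N5528 F24627) (tt N5892 (iv F29008)) (tt N8554 (iv F33338)) (tt N3317 (iv D14106)) (tt N3319 F24628) (tt N5852 F29009) (tt N9196 D19362))
theorem Q5618 : ∀ i, i < 5618 → P i := stepQ 5617 Q5617 (allL N5617 (tt N5529 F24629) (tt N9197 D19363) (tt N5197 F24630) (tt N9196 (iv F36189)) (tt N3318 F24631) (tt N8556 (iv F33347)) (tt N3317 (iv D14107)))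
theorem Q5619 : ∀ i, i < 5619 → P i := stepQ 5618 Q5618 (allL N5618 (tt N3612 F29191) (tt N3318 (iv D14108)) (tt N8001 (iv F30247)) (tt N3321 F24632) (tt N9197 (iv F36191)) (tt N3610 F29192) (tt N6084 F29193))
theorem Q5620 : ∀ i, i < 5620 → P i := stepQ 5619 Q5619 (allL N5619 (tt N8588 (iv F33461)) (tt N9198 D19364) (tt N8555 (iv F33342)) (tt N3320 F24636) (tt N9196 (iv F36190)) (tt N8555 (iv F33344)) (tt N3319 (iv D14110)))
theorem Q5621 : ∀ i, i < 5621 → P i := stepQ 5620 Q5620 (allL N5620 (tt N5649 F34871) (tt N3320 (iv D14111)) (tt N3386 F34872) (tt N9198 (iv F36194)) (tt N3321 F24637) (tt N5646 F34873) (tt N3337 F34874))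
theorem Q5622 : ∀ i, i < 5622 → P i := stepQ 5621 Q5621 (allL N5621 (tt N4904 F32601) (tt N9199 D19365) (tt N3324 F24639) (tt N8555 (iv F33343)) (tt N3322 F24640) (tt N3320 (iv D14112)) (tt N5199 (iv F28977)))
theorem Q5623 : ∀ i, i < 5623 → P i := stepQ 5622 Q5622 (allL N5622 (tt N3321 (iv D14113)) (tt N9200 D19366) (tt N5717 F35189) (tt N3612 F29196) (tt N5649 (iv F35190)) (tt N3578 F29197) (tt N9195 (iv F36187)))
theorem Q5624 : ∀ i, i < 5624 → P i := stepQ 5623 Q5623 (allL N5623 (tt N5717 F34961) (tt N3326 F24642) (tt N3321 (iv D14114)) (tt N8448 F34962) (tt N3386 F34963) (tt N5714 F34964) (tt N3383 F34965))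
theorem Q5625 : ∀ i, i < 5625 → P i := stepQ 5624 Q5624 (allL N5624 (tt N3578 F29194) (tt N7998 (iv F30229)) (tt N5714 (iv F35186)) (tt N3610 F29195) (tt N5646 F35187) (tt N3321 (iv D14115)) (tt N5644 F35188))
theorem Q5626 : ∀ i, i < 5626 → P i := stepQ 5625 Q5625 (allL N5625 (tt N9201 D19367) (tt N3322 (iv D14116)) (tt N9199 (iv F36199)) (tt N7999 (iv F30234)) (tt N9199 (iv F36200)) (tt N7998 F30230) (tt N9199 (iv F36201)))
theorem Q5627 : ∀ i, i < 5627 → P i := stepQ 5626 Q5626 (allL N5626 (tt N4038 F32662) (tt N3386 F34972) (tt N3323 (iv D14118)) (tt N6891 F34973) (tt N3326 F24647) (tt N3326 F32663) (tt N3369 F24648))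
theorem Q5628 : ∀ i, i < 5628 → P i := stepQ 5627 Q5627 (allL N5627 (tt N3326 F24655) (tt N9202 D19368) (tt N3325 (iv D14121)) (tt N9203 D19369) (tt N4038 F32664) (tt N4038 F24656) (tt N3370 F24657))
theorem Q5629 : ∀ i, i < 5629 → P i := stepQ 5628 Q5628 (allL N5628 (tt N9203 (iv F36209)) (tt N8448 F34979) (tt N5729 F33021) (tt N3326 (iv D14122)) (tt N9204 D19370) (tt N6891 (iv F34976)) (tt N3371 F24658))
theorem Q5630 : ∀ i, i < 5630 → P i := stepQ 5629 Q5629 (allL N5629 (tt N9205 D19371) (tt N3327 (iv D14128)) (tt N5733 (iv F24984)) (tt N9206 D19372) (tt N8051 (iv F33018)) (tt N9207 D19373) (tt N9208 D19374))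
theorem Q5631 : ∀ i, i < 5631 → P i := stepQ 5630 Q5630 (allL N5630 (tt N5548 F24674) (tt N9206 (iv F36215)) (tt N5547 F24675) (tt N3327 (iv D14129)) (tt N9209 D19375) (tt N5548 F24676) (tt N3330 F24677))
theorem Q5632 : ∀ i, i < 5632 → P i := stepQ 5631 Q5631 (allL N5631 (tt N9210 D19376) (tt N3328 (iv D14134)) (tt N8577 (iv F33408)) (tt N5555 F24686) (tt N3651 F32939) (tt N9211 D19377) (tt N8168 F35209))
theorem Q5633 : ∀ i, i < 5633 → P i := stepQ 5632 Q5632 (allL N5632 (tt N3329 (iv D14136)) (tt N9212 D19378) (tt N3373 F24690) (tt N9213 D19379) (tt N9214 D19380) (tt N9215 D19381) (tt N9216 D19382))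
theorem Q5634 : ∀ i, i < 5634 → P i := stepQ 5633 Q5633 (allL N5633 (tt N9213 (iv F36234)) (tt N3330 F24691) (tt N8264 (iv F35983)) (tt N3329 (iv D14137)) (tt N9217 D19383) (tt N8263 F35980) (tt N9218 D19384))
theorem Q5635 : ∀ i, i < 5635 → P i := stepQ 5634 Q5634 (allL N5634 (tt N9214 (iv F36237)) (tt N3331 F24692) (tt N3374 F24693) (tt N6125 F32937) (tt N3329 (iv D14138)) (tt N9219 D19385) (tt N9220 D19386))
theorem Q5636 : ∀ i, i < 5636 → P i := stepQ 5635 Q5635 (allL N5635 (tt N9215 (iv F36239)) (tt N5635 F24694) (tt N3375 F24695) (tt N8263 (iv F35979)) (tt N9219 (iv F36252)) (tt N3329 (iv D14139)) (tt N8268 F35981))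
theorem Q5637 : ∀ i, i < 5637 → P i := stepQ 5636 Q5636 (allL N5636 (tt N9216 (iv F36241)) (tt N9208 (iv F36216)) (tt N3376 F24696) (tt N9218 (iv F36248)) (tt N9220 (iv F36254)) (tt N9221 D19387) (tt N3329 (iv D14140)))
theorem Q5638 : ∀ i, i < 5638 → P i := stepQ 5637 Q5637 (allL N5637 (tt N5556 F24697) (tt N9217 (iv F36245)) (tt N5554 F24698) (tt N6126 F33007) (tt N3330 (iv D14141)) (tt N5637 F24699) (tt N9209 (iv F36221)))
theorem Q5639 : ∀ i, i < 5639 → P i := stepQ 5638 Q5638 (allL N5638 (tt N3332 (iv D14143)) (tt N3435 F34865) (tt N5638 F24701) (tt N3437 F34866) (tt N9222 D19388) (tt N9223 D19389) (tt N9222 F36263))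
theorem Q5640 : ∀ i, i < 5640 → P i := stepQ 5639 Q5639 (allL N5639 (tt N9222 (iv F36259)) (tt N3333 F24703) (tt N5639 F24704) (tt N5571 F32101) (tt N3332 (iv D14144)) (tt N9224 D19390) (tt N3332 F32102))
theorem Q5641 : ∀ i, i < 5641 → P i := stepQ 5640 Q5640 (allL N5640 (tt N9223 (iv F36264)) (tt N8578 (iv F33409)) (tt N5640 F24705) (tt N5570 F24706) (tt N9224 (iv F36269)) (tt N3332 (iv D14145)) (tt N9225 D19391))
theorem Q5642 : ∀ i, i < 5642 → P i := stepQ 5641 Q5641 (allL N5641 (tt N3341 F24709) (tt N5571 (iv F32103)) (tt N3544 F34540) (tt N3333 (iv D14147)) (tt N5572 F24710) (tt N8579 (iv F33414)) (tt N5190 (iv F32095)))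
theorem Q5643 : ∀ i, i < 5643 → P i := stepQ 5642 Q5642 (allL N5642 (tt N3446 F34867) (tt N3334 (iv D14148)) (tt N6888 F35094) (tt N3451 F34868) (tt N9226 D19392) (tt N5837 F34869) (tt N3459 F34870))
theorem Q5644 : ∀ i, i < 5644 → P i := stepQ 5643 Q5643 (allL N5643 (tt N3335 F24712) (tt N3451 F34863) (tt N7576 (iv F34823)) (tt N3334 (iv D14149)) (tt N9227 D19393) (tt N9228 D19394) (tt N7570 F34825))
theorem Q5645 : ∀ i, i < 5645 → P i := stepQ 5644 Q5644 (allL N5644 (tt N3336 F24713) (tt N9226 (iv F36277)) (tt N3379 F24714) (tt N6080 (iv F34528)) (tt N3334 (iv D14150)) (tt N9195 (iv F36186)) (tt N5624 (iv F35188)))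
theorem Q5646 : ∀ i, i < 5646 → P i := stepQ 5645 Q5645 (allL N5645 (tt N3337 F24715) (tt N9229 D19395) (tt N3380 F24716) (tt N9228 (iv F36284)) (tt N9195 (iv F36185)) (tt N3334 (iv D14151)) (tt N5649 (iv F24733)))
theorem Q5647 : ∀ i, i < 5647 → P i := stepQ 5646 Q5646 (allL N5646 (tt N3338 F24717) (tt N9230 D19396) (tt N3381 F24718) (tt N7570 (iv F34816)) (tt N5624 (iv F35187)) (tt N5620 (iv F34873)) (tt N3334 (iv D14152)))
theorem Q5648 : ∀ i, i < 5648 → P i := stepQ 5647 Q5647 (allL N5647 (tt N9227 (iv F36280)) (tt N3339 F24720) (tt N7064 (iv F35284)) (tt N5915 (iv F34533)) (tt N3335 (iv D14154)) (tt N9231 D19397) (tt N5881 F35285))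
theorem Q5649 : ∀ i, i < 5649 → P i := stepQ 5648 Q5648 (allL N5648 (tt N9228 (iv F36282)) (tt N6044 (iv F34921)) (tt N7582 F35292) (tt N3337 F24721) (tt N9231 (iv F36291)) (tt N3335 (iv D14155)) (tt N9198 (iv F36195)))
theorem Q5650 : ∀ i, i < 5650 → P i := stepQ 5649 Q5649 (allL N5649 (tt N5620 (iv F34871)) (tt N9232 D19398) (tt N3387 F24732) (tt N7571 (iv F35293)) (tt N5622 F35190) (tt N3338 (iv D14162)) (tt N5645 F24733))
theorem Q5651 : ∀ i, i < 5651 → P i := stepQ 5650 Q5650 (allL N5650 (tt N5572 F24734) (tt N5915 (iv F34531)) (tt N8563 (iv F33371)) (tt N3339 (iv D14163)) (tt N3341 F24735) (tt N9233 D19399) (tt N5860 (iv F34544)))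
theorem Q5652 : ∀ i, i < 5652 → P i := stepQ 5651 Q5651 (allL N5651 (tt N5573 F24736) (tt N9234 D19400) (tt N5186 F24737) (tt N9233 (iv F36294)) (tt N3340 F24738) (tt N3339 (iv D14164)) (tt N8565 (iv F33380)))
theorem Q5653 : ∀ i, i < 5653 → P i := stepQ 5652 Q5652 (allL N5652 (tt N3591 F34906) (tt N3340 (iv D14165)) (tt N7943 F34907) (tt N3343 F24739) (tt N9234 (iv F36296)) (tt N6044 F34908) (tt N3588 F34909))
theorem Q5654 : ∀ i, i < 5654 → P i := stepQ 5653 Q5653 (allL N5653 (tt N8579 (iv F33412)) (tt N9193 (iv F36179)) (tt N8564 (iv F33375)) (tt N3342 F24743) (tt N9233 (iv F36295)) (tt N3341 (iv D14167)) (tt N8564 (iv F33377)))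
theorem Q5655 : ∀ i, i < 5655 → P i := stepQ 5654 Q5654 (allL N5654 (tt N4923 F32913) (tt N9235 D19401) (tt N3346 F24746) (tt N8564 (iv F33376)) (tt N3344 F24747) (tt N5207 (iv F32099)) (tt N3342 (iv D14169)))
theorem Q5656 : ∀ i, i < 5656 → P i := stepQ 5655 Q5655 (allL N5655 (tt N3343 (iv D14170)) (tt N9236 D19402) (tt N5678 F34891) (tt N3591 F34892) (tt N5613 F34893) (tt N9189 (iv F36172)) (tt N3568 F34894))
theorem Q5657 : ∀ i, i < 5657 → P i := stepQ 5656 Q5656 (allL N5656 (tt N5678 F34895) (tt N3348 F24749) (tt N3343 (iv D14171)) (tt N8445 F34896) (tt N3363 F34897) (tt N3360 F34898) (tt N5674 F34899))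
theorem Q5658 : ∀ i, i < 5658 → P i := stepQ 5657 Q5657 (allL N5657 (tt N3568 F34900) (tt N7940 F34901) (tt N5674 F34902) (tt N3588 F34903) (tt N5608 F34904) (tt N5607 F34905) (tt N3343 (iv D14172)))
theorem Q5659 : ∀ i, i < 5659 → P i := stepQ 5658 Q5658 (allL N5658 (tt N9237 D19403) (tt N3344 (iv D14173)) (tt N9235 (iv F36299)) (tt N7941 (iv F34911)) (tt N9235 (iv F36300)) (tt N9235 (iv F36301)) (tt N7940 F34912))
theorem Q5660 : ∀ i, i < 5660 → P i := stepQ 5659 Q5659 (allL N5659 (tt N4084 F32871) (tt N3363 F34922) (tt N3345 (iv D14175)) (tt N6871 F34923) (tt N3348 F24754) (tt N3393 F24755) (tt N3348 F32872))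
theorem Q5661 : ∀ i, i < 5661 → P i := stepQ 5660 Q5660 (allL N5660 (tt N3348 F24762) (tt N9238 D19404) (tt N3347 (iv D14178)) (tt N9239 D19405) (tt N4084 F32785) (tt N3394 F24763) (tt N4084 F24764))
theorem Q5662 : ∀ i, i < 5662 → P i := stepQ 5661 Q5661 (allL N5661 (tt N9239 (iv F36311)) (tt N8445 F34927) (tt N5694 (iv F33030)) (tt N3348 (iv D14179)) (tt N9240 D19406) (tt N3395 F24765) (tt N6871 (iv F34926)))
theorem Q5663 : ∀ i, i < 5663 → P i := stepQ 5662 Q5662 (allL N5662 (tt N9241 D19407) (tt N3349 (iv D14185)) (tt N5700 (iv F24922)) (tt N9242 D19408) (tt N8095 F33033) (tt N9243 D19409) (tt N9244 D19410))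
theorem Q5664 : ∀ i, i < 5664 → P i := stepQ 5663 Q5663 (allL N5663 (tt N5592 F24782) (tt N9242 (iv F36317)) (tt N5591 F24783) (tt N3349 (iv D14186)) (tt N9245 D19411) (tt N3352 F24784) (tt N5592 F24785))
theorem Q5665 : ∀ i, i < 5665 → P i := stepQ 5664 Q5664 (allL N5664 (tt N9246 D19412) (tt N3350 (iv D14191)) (tt N8586 (iv F33454)) (tt N5599 F24795) (tt N3660 F32712) (tt N8199 (iv F35213)) (tt N9247 D19413))
theorem Q5666 : ∀ i, i < 5666 → P i := stepQ 5665 Q5665 (allL N5665 (tt N3351 (iv D14193)) (tt N9248 D19414) (tt N3397 F24799) (tt N9249 D19415) (tt N9250 D19416) (tt N9251 D19417) (tt N9252 D19418))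
theorem Q5667 : ∀ i, i < 5667 → P i := stepQ 5666 Q5666 (allL N5666 (tt N9249 (iv F36333)) (tt N3352 F24800) (tt N8275 (iv F36127)) (tt N3351 (iv D14194)) (tt N9253 D19419) (tt N9254 D19420) (tt N8274 F36126))
theorem Q5668 : ∀ i, i < 5668 → P i := stepQ 5667 Q5667 (allL N5667 (tt N9250 (iv F36336)) (tt N3353 F24801) (tt N3398 F24802) (tt N6134 F32647) (tt N3351 (iv D14195)) (tt N9255 D19421) (tt N9256 D19422))
theorem Q5669 : ∀ i, i < 5669 → P i := stepQ 5668 Q5668 (allL N5668 (tt N9251 (iv F36338)) (tt N9243 (iv F36318)) (tt N3399 F24803) (tt N9254 (iv F36348)) (tt N9255 (iv F36351)) (tt N3351 (iv D14196)) (tt N9257 D19423))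
theorem Q5670 : ∀ i, i < 5670 → P i := stepQ 5669 Q5669 (allL N5669 (tt N9252 (iv F36343)) (tt N5669 F24804) (tt N3400 F24805) (tt N8274 (iv F36124)) (tt N9256 (iv F36354)) (tt N8279 F36125) (tt N3351 (iv D14197)))
theorem Q5671 : ∀ i, i < 5671 → P i := stepQ 5670 Q5670 (allL N5670 (tt N5600 F24806) (tt N9253 (iv F36345)) (tt N5598 F24807) (tt N6135 F33035) (tt N3352 (iv D14198)) (tt N9245 (iv F36322)) (tt N5670 F24808))
theorem Q5672 : ∀ i, i < 5672 → P i := stepQ 5671 Q5671 (allL N5671 (tt N3354 (iv D14226)) (tt N6867 (iv F27458)) (tt N3354 F29131) (tt N6867 (iv F27459)) (tt N9258 D19424) (tt N9258 F36361) (tt N9259 D19425))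
theorem Q5673 : ∀ i, i < 5673 → P i := stepQ 5672 Q5672 (allL N5672 (tt N9258 (iv F36359)) (tt N3355 F24874) (tt N9258 (iv F36360)) (tt N3457 F29047) (tt N3354 (iv D14228)) (tt N3354 F29114) (tt N9260 D19426))
theorem Q5674 : ∀ i, i < 5674 → P i := stepQ 5673 Q5673 (allL N5673 (tt N9259 (iv F36363)) (tt N9261 D19427) (tt N9259 (iv F36364)) (tt N6868 (iv F27461)) (tt N9260 (iv F36366)) (tt N9262 D19428) (tt N3354 (iv D14230)))
theorem Q5675 : ∀ i, i < 5675 → P i := stepQ 5674 Q5674 (allL N5674 (tt N3359 F24876) (tt N3356 F29113) (tt N5657 (iv F34902)) (tt N5095 (iv F29037)) (tt N3356 F24877) (tt N3355 (iv D14232)) (tt N5656 (iv F34899)))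
theorem Q5676 : ∀ i, i < 5676 → P i := stepQ 5675 Q5675 (allL N5675 (tt N3360 F24878) (tt N9263 D19429) (tt N9189 (iv F36169)) (tt N5125 (iv F29107)) (tt N3357 F24879) (tt N5678 (iv F24884)) (tt N3355 (iv D14233)))
theorem Q5677 : ∀ i, i < 5677 → P i := stepQ 5676 Q5676 (allL N5676 (tt N9264 D19430) (tt N3357 (iv D14235)) (tt N9265 D19431) (tt N6869 (iv F27463)) (tt N9263 (iv F36374)) (tt N9266 D19432) (tt N9261 (iv F36368)))
theorem Q5678 : ∀ i, i < 5678 → P i := stepQ 5677 Q5677 (allL N5677 (tt N5125 F29104) (tt N9267 D19433) (tt N5124 (iv F29106)) (tt N3360 F24882) (tt N6710 (iv F29086)) (tt N8445 (iv F33072)) (tt N3358 (iv D14238)))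
theorem Q5679 : ∀ i, i < 5679 → P i := stepQ 5678 Q5678 (allL N5678 (tt N5656 (iv F34895)) (tt N9268 D19434) (tt N5655 (iv F34891)) (tt N6709 F29110) (tt N3361 F24883) (tt N5675 F24884) (tt N3359 (iv D14239)))
theorem Q5680 : ∀ i, i < 5680 → P i := stepQ 5679 Q5679 (allL N5679 (tt N9269 D19435) (tt N3360 (iv D14240)) (tt N3385 F34938) (tt N9267 (iv F36378)) (tt N3362 F24885) (tt N3391 F34939) (tt N3365 F24886))
theorem Q5681 : ∀ i, i < 5681 → P i := stepQ 5680 Q5680 (allL N5680 (tt N9270 D19436) (tt N3361 (iv D14242)) (tt N9271 D19437) (tt N6870 (iv F27464)) (tt N9268 (iv F36382)) (tt N9272 D19438) (tt N4015 F24890))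
theorem Q5682 : ∀ i, i < 5682 → P i := stepQ 5681 Q5681 (allL N5681 (tt N3362 (iv D14243)) (tt N9273 D19439) (tt N9274 D19440) (tt N6759 (iv F27203)) (tt N9269 (iv F36385)) (tt N5693 (iv F24904)) (tt N3366 F24891))
theorem Q5683 : ∀ i, i < 5683 → P i := stepQ 5682 Q5682 (allL N5682 (tt N9274 (iv F36395)) (tt N3383 F34953) (tt N3362 (iv D14244)) (tt N9275 D19441) (tt N3385 F34954) (tt N3389 F34955) (tt N3367 F24892))
theorem Q5684 : ∀ i, i < 5684 → P i := stepQ 5683 Q5683 (allL N5683 (tt N5693 (iv F24903)) (tt N3393 F34934) (tt N3389 F34935) (tt N6760 (iv F27208)) (tt N3391 F34936) (tt N3362 (iv D14245)) (tt N5690 (iv F24900)))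
theorem Q5685 : ∀ i, i < 5685 → P i := stepQ 5684 Q5684 (allL N5684 (tt N9276 D19442) (tt N3364 (iv D14247)) (tt N9277 D19443) (tt N3365 F24893) (tt N6732 (iv F27164)) (tt N9278 D19444) (tt N9267 (iv F36380)))
theorem Q5686 : ∀ i, i < 5686 → P i := stepQ 5685 Q5685 (allL N5685 (tt N3365 (iv D14248)) (tt N4032 F34945) (tt N5728 (iv F34944)) (tt N9276 (iv F36403)) (tt N3366 F24894) (tt N5727 F34943) (tt N9269 (iv F36387)))
theorem Q5687 : ∀ i, i < 5687 → P i := stepQ 5686 Q5686 (allL N5686 (tt N5728 F34946) (tt N3369 F24895) (tt N3365 (iv D14249)) (tt N6834 F34947) (tt N3367 F24896) (tt N5725 F34948) (tt N3385 F34949))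
theorem Q5688 : ∀ i, i < 5688 → P i := stepQ 5687 Q5687 (allL N5687 (tt N5727 F34941) (tt N5739 (iv F24993)) (tt N5725 F34959) (tt N9278 (iv F36405)) (tt N3368 F24897) (tt N3365 (iv D14250)) (tt N5724 (iv F34960)))
theorem Q5689 : ∀ i, i < 5689 → P i := stepQ 5688 Q5688 (allL N5688 (tt N6721 F34930) (tt N3366 (iv D14251)) (tt N6499 F39708) (tt N6757 (iv F27200)) (tt N4032 F34931) (tt N6719 F34932) (tt N4024 F34933))
theorem Q5690 : ∀ i, i < 5690 → P i := stepQ 5689 Q5689 (allL N5689 (tt N3367 F24898) (tt N9279 D19445) (tt N3366 (iv D14252)) (tt N9280 D19446) (tt N5728 F34950) (tt N5722 (iv F34951)) (tt N9274 (iv F36398)))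
theorem Q5691 : ∀ i, i < 5691 → P i := stepQ 5690 Q5690 (allL N5690 (tt N3368 F24899) (tt N9281 D19447) (tt N5722 F34942) (tt N6754 (iv F27196)) (tt N5727 (iv F34940)) (tt N3366 (iv D14253)) (tt N5683 F24900))
theorem Q5692 : ∀ i, i < 5692 → P i := stepQ 5691 Q5691 (allL N5691 (tt N9280 (iv F36406)) (tt N3371 F24901) (tt N9282 D19448) (tt N3367 (iv D14254)) (tt N9283 D19449) (tt N9284 D19450) (tt N9275 (iv F36402)))
theorem Q5693 : ∀ i, i < 5693 → P i := stepQ 5692 Q5692 (allL N5692 (tt N5722 F34952) (tt N9285 D19451) (tt N3368 F24902) (tt N9284 (iv F36409)) (tt N5725 (iv F34958)) (tt N3367 (iv D14255)) (tt N5721 F34956))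
theorem Q5694 : ∀ i, i < 5694 → P i := stepQ 5693 Q5693 (allL N5693 (tt N5683 F24903) (tt N9286 D19452) (tt N5721 (iv F34957)) (tt N6756 (iv F27199)) (tt N5724 (iv F34937)) (tt N5681 F24904) (tt N3368 (iv D14256)))
theorem Q5695 : ∀ i, i < 5695 → P i := stepQ 5694 Q5694 (allL N5694 (tt N5699 (iv F33032)) (tt N6834 F34978) (tt N5661 F33030) (tt N3369 (iv D14259)) (tt N9287 D19453) (tt N5696 (iv F33031)) (tt N6891 (iv F34977)))
theorem Q5696 : ∀ i, i < 5696 → P i := stepQ 5695 Q5695 (allL N5695 (tt N9288 D19454) (tt N3370 (iv D14261)) (tt N8095 (iv F30476)) (tt N9289 D19455) (tt N5700 F33034) (tt N9290 D19456) (tt N9291 D19457))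
theorem Q5697 : ∀ i, i < 5697 → P i := stepQ 5696 Q5696 (allL N5696 (tt N3371 F24914) (tt N9289 (iv F36422)) (tt N3395 F24915) (tt N3370 (iv D14262)) (tt N9292 D19458) (tt N5694 F33031) (tt N9203 (iv F36212)))
theorem Q5698 : ∀ i, i < 5698 → P i := stepQ 5697 Q5697 (allL N5697 (tt N3395 F24919) (tt N9293 D19459) (tt N3371 (iv D14264)) (tt N3394 F24920) (tt N9294 D19460) (tt N9239 (iv F36313)) (tt N5729 (iv F33022)))
theorem Q5699 : ∀ i, i < 5699 → P i := stepQ 5698 Q5698 (allL N5698 (tt N9292 (iv F36425)) (tt N9283 (iv F36408)) (tt N9294 (iv F36430)) (tt N9287 (iv F36421)) (tt N3371 (iv D14265)) (tt N9295 D19461) (tt N9204 (iv F36214)))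
theorem Q5700 : ∀ i, i < 5700 → P i := stepQ 5699 Q5699 (allL N5699 (tt N5694 F33032) (tt N9296 D19462) (tt N9239 (iv F36312)) (tt N3372 F24921) (tt N9295 (iv F36433)) (tt N3371 (iv D14266)) (tt N6765 (iv F27220)))
theorem Q5701 : ∀ i, i < 5701 → P i := stepQ 5700 Q5700 (allL N5700 (tt N8487 (iv F36485)) (tt N3372 (iv D14267)) (tt N5662 F24922) (tt N9296 (iv F36434)) (tt N5695 (iv F33034)) (tt N9285 (iv F36411)) (tt N9297 D19464))
theorem Q5702 : ∀ i, i < 5702 → P i := stepQ 5701 Q5701 (allL N5701 (tt N9271 (iv F36497)) (tt N3373 (iv D14268)) (tt N9270 (iv F36511)) (tt N4072 F24923) (tt N9298 D19467) (tt N9299 D19468) (tt N9300 D19469))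
theorem Q5703 : ∀ i, i < 5703 → P i := stepQ 5702 Q5702 (allL N5702 (tt N3374 F24924) (tt N9298 (iv F36441)) (tt N9214 (iv F36238)) (tt N9301 D19470) (tt N3373 (iv D14269)) (tt N9302 D19471) (tt N9303 D19472))
theorem Q5704 : ∀ i, i < 5704 → P i := stepQ 5703 Q5703 (allL N5703 (tt N3375 F24925) (tt N9304 D19473) (tt N9215 (iv F36240)) (tt N4061 F24926) (tt N9302 (iv F36449)) (tt N3373 (iv D14270)) (tt N5709 (iv F24938)))
theorem Q5705 : ∀ i, i < 5705 → P i := stepQ 5704 Q5704 (allL N5704 (tt N3376 F24927) (tt N9305 D19474) (tt N9216 (iv F36242)) (tt N4074 F24928) (tt N9303 (iv F36451)) (tt N5708 (iv F24935)) (tt N3373 (iv D14271)))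
theorem Q5706 : ∀ i, i < 5706 → P i := stepQ 5705 Q5705 (allL N5705 (tt N9301 (iv F36444)) (tt N3377 F24929) (tt N9306 D19475) (tt N3374 (iv D14272)) (tt N4067 F24930) (tt N4064 F34347) (tt N9307 D19476))
theorem Q5707 : ∀ i, i < 5707 → P i := stepQ 5706 Q5706 (allL N5706 (tt N9302 (iv F36447)) (tt N4048 F24931) (tt N9219 (iv F36251)) (tt N4064 F34348) (tt N3375 F24932) (tt N3374 (iv D14273)) (tt N9308 D19477))
theorem Q5708 : ∀ i, i < 5708 → P i := stepQ 5707 Q5707 (allL N5707 (tt N9303 (iv F36450)) (tt N5722 (iv F24962)) (tt N9220 (iv F36253)) (tt N9307 (iv F36456)) (tt N3376 F24933) (tt N9309 D19478) (tt N3374 (iv D14274)))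
theorem Q5709 : ∀ i, i < 5709 → P i := stepQ 5708 Q5708 (allL N5708 (tt N5709 (iv F24936)) (tt N9308 (iv F36458)) (tt N8268 (iv F35982)) (tt N4063 F24934) (tt N9308 (iv F36460)) (tt N5704 F24935) (tt N3375 (iv D14275)))
theorem Q5710 : ∀ i, i < 5710 → P i := stepQ 5709 Q5709 (allL N5709 (tt N5708 F24936) (tt N9310 D19479) (tt N9221 (iv F36256)) (tt N4078 F24937) (tt N9309 (iv F36463)) (tt N3376 (iv D14276)) (tt N5703 F24938))
theorem Q5711 : ∀ i, i < 5711 → P i := stepQ 5710 Q5710 (allL N5710 (tt N3378 (iv D14277)) (tt N6888 (iv F27516)) (tt N3378 F35095) (tt N6888 (iv F27517)) (tt N9311 D19480) (tt N9312 D19481) (tt N9311 F36470))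
theorem Q5712 : ∀ i, i < 5712 → P i := stepQ 5711 Q5711 (allL N5711 (tt N9311 (iv F36468)) (tt N3379 F24939) (tt N9311 (iv F36469)) (tt N3460 F32090) (tt N3378 (iv D14279)) (tt N9313 D19482) (tt N3378 F35088))
theorem Q5713 : ∀ i, i < 5713 → P i := stepQ 5712 Q5712 (allL N5712 (tt N9312 (iv F36472)) (tt N9314 D19483) (tt N9312 (iv F36473)) (tt N6889 (iv F27518)) (tt N9313 (iv F36475)) (tt N3378 (iv D14280)) (tt N9315 D19484))
theorem Q5714 : ∀ i, i < 5714 → P i := stepQ 5713 Q5713 (allL N5713 (tt N3383 F24941) (tt N9316 D19485) (tt N9195 (iv F36183)) (tt N5132 (iv F32108)) (tt N3380 F24942) (tt N3379 (iv D14283)) (tt N5717 (iv F24954)))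
theorem Q5715 : ∀ i, i < 5715 → P i := stepQ 5714 Q5714 (allL N5714 (tt N3384 F24943) (tt N3381 F34461) (tt N5624 F35186) (tt N5099 (iv F32109)) (tt N3381 F24944) (tt N5623 (iv F34964)) (tt N3379 (iv D14284)))
theorem Q5716 : ∀ i, i < 5716 → P i := stepQ 5715 Q5715 (allL N5715 (tt N9317 D19486) (tt N3380 (iv D14285)) (tt N9318 D19487) (tt N6890 (iv F27520)) (tt N9316 (iv F36484)) (tt N9314 (iv F36477)) (tt N9319 D19488))
theorem Q5717 : ∀ i, i < 5717 → P i := stepQ 5716 Q5716 (allL N5716 (tt N5132 F32112) (tt N9275 (iv F36400)) (tt N5131 (iv F32113)) (tt N3383 F24945) (tt N6788 (iv F34369)) (tt N3382 (iv D14288)) (tt N8448 (iv F33081)))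
theorem Q5718 : ∀ i, i < 5718 → P i := stepQ 5717 Q5717 (allL N5717 (tt N5623 (iv F34961)) (tt N9320 D19489) (tt N5622 (iv F35189)) (tt N6785 (iv F34260)) (tt N3387 F24953) (tt N3384 (iv D14292)) (tt N5713 F24954))
theorem Q5719 : ∀ i, i < 5719 → P i := stepQ 5718 Q5718 (allL N5718 (tt N3385 (iv D14293)) (tt N9321 D19490) (tt N9269 (iv F36384)) (tt N6833 (iv F27358)) (tt N9274 (iv F36396)) (tt N3390 F24955) (tt N5728 (iv F24970)))
theorem Q5720 : ∀ i, i < 5720 → P i := stepQ 5719 Q5719 (allL N5719 (tt N9322 D19491) (tt N3387 (iv D14297)) (tt N9323 D19492) (tt N6892 (iv F27523)) (tt N9320 (iv F36493)) (tt N4065 F24957) (tt N9324 D19493))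
theorem Q5721 : ∀ i, i < 5721 → P i := stepQ 5720 Q5720 (allL N5720 (tt N9310 (iv F36467)) (tt N3388 (iv D14298)) (tt N9325 D19494) (tt N3389 F24958) (tt N6806 (iv F27319)) (tt N9275 (iv F36401)) (tt N9326 D19495))
theorem Q5722 : ∀ i, i < 5722 → P i := stepQ 5721 Q5721 (allL N5721 (tt N3389 (iv D14299)) (tt N4078 F34971) (tt N5693 F34957) (tt N9310 (iv F36465)) (tt N3390 F24959) (tt N9274 (iv F36397)) (tt N5692 (iv F34956)))
theorem Q5723 : ∀ i, i < 5723 → P i := stepQ 5722 Q5722 (allL N5722 (tt N5692 (iv F34952)) (tt N5707 F24962) (tt N5690 (iv F34942)) (tt N9326 (iv F36536)) (tt N3392 F24963) (tt N5689 F34951) (tt N3389 (iv D14301)))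
theorem Q5724 : ∀ i, i < 5724 → P i := stepQ 5723 Q5723 (allL N5723 (tt N6796 F34966) (tt N3390 (iv D14302)) (tt N6532 F39752) (tt N6831 (iv F27355)) (tt N4078 F34967) (tt N4070 F34968) (tt N6794 F34969))
theorem Q5725 : ∀ i, i < 5725 → P i := stepQ 5724 Q5724 (allL N5724 (tt N3391 F24964) (tt N9327 D19496) (tt N3390 (iv D14303)) (tt N9328 D19497) (tt N5693 F34937) (tt N9269 (iv F36386)) (tt N5687 F34960))
theorem Q5726 : ∀ i, i < 5726 → P i := stepQ 5725 Q5725 (allL N5725 (tt N3392 F24965) (tt N9290 (iv F36423)) (tt N5687 (iv F34959)) (tt N6828 (iv F27351)) (tt N5692 F34958) (tt N5686 (iv F34948)) (tt N3390 (iv D14304)))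
theorem Q5727 : ∀ i, i < 5727 → P i := stepQ 5726 Q5726 (allL N5726 (tt N9328 (iv F36539)) (tt N3395 F24967) (tt N9329 D19498) (tt N3391 (iv D14305)) (tt N9330 D19499) (tt N9267 (iv F36379)) (tt N9331 D19500))
theorem Q5728 : ∀ i, i < 5728 → P i := stepQ 5727 Q5727 (allL N5727 (tt N5687 (iv F34941)) (tt N9332 D19501) (tt N3392 F24968) (tt N9331 (iv F36544)) (tt N5690 F34940) (tt N5685 (iv F34943)) (tt N3391 (iv D14306)))
theorem Q5729 : ∀ i, i < 5729 → P i := stepQ 5728 Q5728 (allL N5728 (tt N5686 (iv F34946)) (tt N9333 D19502) (tt N5685 F34944) (tt N6830 (iv F27354)) (tt N5689 (iv F34950)) (tt N3392 (iv D14307)) (tt N5718 F24970))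
theorem Q5730 : ∀ i, i < 5730 → P i := stepQ 5729 Q5729 (allL N5729 (tt N5732 F33020) (tt N6760 F34928) (tt N5628 (iv F33021)) (tt N3393 (iv D14310)) (tt N9334 D19503) (tt N6871 (iv F34925)) (tt N5697 F33022))
theorem Q5731 : ∀ i, i < 5731 → P i := stepQ 5730 Q5730 (allL N5730 (tt N9335 D19504) (tt N3394 (iv D14312)) (tt N8051 (iv F30345)) (tt N9293 (iv F36428)) (tt N5733 (iv F33019)) (tt N9336 D19505) (tt N9281 (iv F36407)))
theorem Q5732 : ∀ i, i < 5732 → P i := stepQ 5731 Q5731 (allL N5731 (tt N9294 (iv F36429)) (tt N9330 (iv F36542)) (tt N9292 (iv F36426)) (tt N9334 (iv F36557)) (tt N3395 (iv D14314)) (tt N9240 (iv F36316)) (tt N9337 D19506))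
theorem Q5733 : ∀ i, i < 5733 → P i := stepQ 5732 Q5732 (allL N5732 (tt N5729 (iv F33020)) (tt N9338 D19507) (tt N9203 (iv F36210)) (tt N3396 F24983) (tt N9337 (iv F36563)) (tt N6839 (iv F27377)) (tt N3395 (iv D14315)))
theorem Q5734 : ∀ i, i < 5734 → P i := stepQ 5733 Q5733 (allL N5733 (tt N8479 F36417) (tt N3396 (iv D14316)) (tt N5629 F24984) (tt N9338 (iv F36565)) (tt N5730 F33019) (tt N9339 D19508) (tt N9332 (iv F36549)))
theorem Q5735 : ∀ i, i < 5735 → P i := stepQ 5734 Q5734 (allL N5734 (tt N9323 F36518) (tt N3397 (iv D14317)) (tt N9322 (iv F36520)) (tt N4026 F24985) (tt N9340 D19509) (tt N9341 D19510) (tt N9342 D19511))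
theorem Q5736 : ∀ i, i < 5736 → P i := stepQ 5735 Q5735 (allL N5735 (tt N3398 F24986) (tt N9340 (iv F36571)) (tt N9250 (iv F36337)) (tt N9343 D19512) (tt N3397 (iv D14318)) (tt N9344 D19513) (tt N9345 D19514))
theorem Q5737 : ∀ i, i < 5737 → P i := stepQ 5736 Q5736 (allL N5736 (tt N3399 F24987) (tt N9346 D19515) (tt N9251 (iv F36339)) (tt N4028 F24988) (tt N9344 (iv F36585)) (tt N3397 (iv D14319)) (tt N5742 (iv F25001)))
theorem Q5738 : ∀ i, i < 5738 → P i := stepQ 5737 Q5737 (allL N5737 (tt N3400 F24989) (tt N9347 D19516) (tt N9252 (iv F36344)) (tt N4016 F24990) (tt N9345 (iv F36588)) (tt N5741 (iv F24998)) (tt N3397 (iv D14320)))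
theorem Q5739 : ∀ i, i < 5739 → P i := stepQ 5738 Q5738 (allL N5738 (tt N9343 (iv F36581)) (tt N3401 F24991) (tt N9348 D19517) (tt N3398 (iv D14321)) (tt N4021 F24992) (tt N9349 D19518) (tt N4019 F29067))
theorem Q5740 : ∀ i, i < 5740 → P i := stepQ 5739 Q5739 (allL N5739 (tt N9344 (iv F36584)) (tt N5687 F24993) (tt N9255 (iv F36350)) (tt N9349 (iv F36596)) (tt N3399 F24994) (tt N3398 (iv D14322)) (tt N9350 D19519))
theorem Q5741 : ∀ i, i < 5741 → P i := stepQ 5740 Q5740 (allL N5740 (tt N9345 (iv F36586)) (tt N4002 F24995) (tt N9256 (iv F36353)) (tt N4019 F29071) (tt N3400 F24996) (tt N9351 D19520) (tt N3398 (iv D14323)))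
theorem Q5742 : ∀ i, i < 5742 → P i := stepQ 5741 Q5741 (allL N5741 (tt N5742 (iv F24999)) (tt N9276 F36404) (tt N9257 (iv F36356)) (tt N4032 F24997) (tt N9350 (iv F36598)) (tt N5737 F24998) (tt N3399 (iv D14324)))
theorem Q5743 : ∀ i, i < 5743 → P i := stepQ 5742 Q5742 (allL N5742 (tt N5741 F24999) (tt N9351 (iv F36601)) (tt N8279 (iv F36133)) (tt N4018 F25000) (tt N9351 (iv F36603)) (tt N3400 (iv D14325)) (tt N5736 F25001))
theorem Q5744 : ∀ i, i < 5744 → P i := stepQ 5743 Q5743 (allL N5743 (tt N3403 F25006) (tt N9352 D19521) (tt N3414 F25007) (tt N4928 F25008) (tt N3406 F25009) (tt N3402 (iv D14328)) (tt N5746 (iv F25022)))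
theorem Q5745 : ∀ i, i < 5745 → P i := stepQ 5744 Q5744 (allL N5744 (tt N3404 F25010) (tt N9353 D19522) (tt N3415 F25011) (tt N4929 F25012) (tt N3407 F25013) (tt N5745 (iv F25017)) (tt N3402 (iv D14329)))
theorem Q5746 : ∀ i, i < 5746 → P i := stepQ 5745 Q5745 (allL N5745 (tt N5746 (iv F25018)) (tt N9354 D19523) (tt N3419 F25014) (tt N4930 F25015) (tt N3411 F25016) (tt N5744 F25017) (tt N3403 (iv D14330)))
theorem Q5747 : ∀ i, i < 5747 → P i := stepQ 5746 Q5746 (allL N5746 (tt N5745 F25018) (tt N9355 D19524) (tt N3421 F25019) (tt N4931 F25020) (tt N3412 F25021) (tt N3404 (iv D14331)) (tt N5743 F25022))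
theorem Q5748 : ∀ i, i < 5748 → P i := stepQ 5747 Q5747 (allL N5747 (tt N3409 F25023) (tt N7538 (iv F29441)) (tt N8437 (iv F32438)) (tt N3406 F25024) (tt N4932 F25025) (tt N3405 (iv D14332)) (tt N5755 (iv F25042)))
theorem Q5749 : ∀ i, i < 5749 → P i := stepQ 5748 Q5748 (allL N5748 (tt N3410 F25026) (tt N7583 (iv F35106)) (tt N8438 (iv F32441)) (tt N3407 F25027) (tt N4933 F25028) (tt N5754 (iv F25038)) (tt N3405 (iv D14333)))
theorem Q5750 : ∀ i, i < 5750 → P i := stepQ 5749 Q5749 (allL N5749 (tt N7471 (iv F29267)) (tt N3406 (iv D14334)) (tt N5433 F29145) (tt N7538 (iv F29444)) (tt N9352 (iv F36606)) (tt N4420 F25029) (tt N7472 (iv F29276)))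
theorem Q5751 : ∀ i, i < 5751 → P i := stepQ 5750 Q5750 (allL N5750 (tt N7476 F29304) (tt N3407 (iv D14335)) (tt N5477 (iv F35103)) (tt N7583 F35105) (tt N9353 (iv F36610)) (tt N7477 (iv F29306)) (tt N4421 F25030))
theorem Q5752 : ∀ i, i < 5752 → P i := stepQ 5751 Q5751 (allL N5751 (tt N5798 (iv F25135)) (tt N5751 F25031) (tt N5791 (iv F25128)) (tt N3408 (iv D14336)) (tt N8436 (iv F32420)) (tt N9356 D19525) (tt N9357 D19526))
theorem Q5753 : ∀ i, i < 5753 → P i := stepQ 5752 Q5752 (allL N5752 (tt N8437 (iv F32437)) (tt N6863 F33054) (tt N3409 F25032) (tt N9356 (iv F36619)) (tt N4934 F25033) (tt N3408 (iv D14337)) (tt N9358 D19527))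
theorem Q5754 : ∀ i, i < 5754 → P i := stepQ 5753 Q5753 (allL N5753 (tt N8438 (iv F32440)) (tt N6884 F35503) (tt N3410 F25034) (tt N9357 (iv F36622)) (tt N4935 F25035) (tt N9359 D19528) (tt N3408 (iv D14338)))
theorem Q5755 : ∀ i, i < 5755 → P i := stepQ 5754 Q5754 (allL N5754 (tt N5755 (iv F25039)) (tt N9360 D19529) (tt N9358 (iv F36625)) (tt N3411 F25036) (tt N4936 F25037) (tt N5748 F25038) (tt N3409 (iv D14339)))
theorem Q5756 : ∀ i, i < 5756 → P i := stepQ 5755 Q5755 (allL N5755 (tt N5754 F25039) (tt N9361 D19530) (tt N9359 (iv F36629)) (tt N3412 F25040) (tt N4937 F25041) (tt N3410 (iv D14340)) (tt N5747 F25042))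
theorem Q5757 : ∀ i, i < 5757 → P i := stepQ 5756 Q5756 (allL N5756 (tt N9362 D19531) (tt N3411 (iv D14341)) (tt N9363 D19532) (tt N9360 (iv F36632)) (tt N9354 (iv F36614)) (tt N9364 D19533) (tt N5756 F25043))
theorem Q5758 : ∀ i, i < 5758 → P i := stepQ 5757 Q5757 (allL N5757 (tt N9365 D19534) (tt N3412 (iv D14342)) (tt N9366 D19535) (tt N9361 (iv F36637)) (tt N9355 (iv F36617)) (tt N5757 F25044) (tt N9367 D19536))
theorem Q5759 : ∀ i, i < 5759 → P i := stepQ 5758 Q5758 (allL N5758 (tt N3416 F25045) (tt N9368 D19537) (tt N3662 F25046) (tt N3414 F25047) (tt N3431 F25048) (tt N3413 (iv D14343)) (tt N5765 (iv F25069)))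
theorem Q5760 : ∀ i, i < 5760 → P i := stepQ 5759 Q5759 (allL N5759 (tt N3417 F25049) (tt N9369 D19538) (tt N3663 F25050) (tt N3415 F25051) (tt N3432 F25052) (tt N5763 (iv F25061)) (tt N3413 (iv D14344)))
theorem Q5761 : ∀ i, i < 5761 → P i := stepQ 5760 Q5760 (allL N5760 (tt N5525 (iv F29164)) (tt N3414 (iv D14345)) (tt N9370 D19539) (tt N9368 (iv F36652)) (tt N3436 F25053) (tt N9368 (iv F36654)) (tt N9371 D19540))
theorem Q5762 : ∀ i, i < 5762 → P i := stepQ 5761 Q5761 (allL N5761 (tt N5569 (iv F35214)) (tt N3415 (iv D14346)) (tt N9372 D19541) (tt N9369 (iv F36656)) (tt N3437 F25054) (tt N9373 D19542) (tt N9369 (iv F36658)))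
theorem Q5763 : ∀ i, i < 5763 → P i := stepQ 5762 Q5762 (allL N5762 (tt N9374 D19543) (tt N3416 (iv D14347)) (tt N6183 (iv F25983)) (tt N3418 F25055) (tt N3779 F25056) (tt N3424 F25057) (tt N9375 D19544))
theorem Q5764 : ∀ i, i < 5764 → P i := stepQ 5763 Q5763 (allL N5763 (tt N5765 (iv F25065)) (tt N9376 D19545) (tt N3667 F25058) (tt N3419 F25059) (tt N3780 F25060) (tt N5759 F25061) (tt N3416 (iv D14348)))
theorem Q5765 : ∀ i, i < 5765 → P i := stepQ 5764 Q5764 (allL N5764 (tt N9377 D19546) (tt N3417 (iv D14349)) (tt N6187 (iv F35281)) (tt N3420 F25062) (tt N3781 F25063) (tt N9378 D19547) (tt N3425 F25064))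
theorem Q5766 : ∀ i, i < 5766 → P i := stepQ 5765 Q5765 (allL N5765 (tt N5763 F25065) (tt N9379 D19548) (tt N3669 F25066) (tt N3421 F25067) (tt N3782 F25068) (tt N3417 (iv D14350)) (tt N5758 F25069))
theorem Q5767 : ∀ i, i < 5767 → P i := stepQ 5766 Q5766 (allL N5766 (tt N3418 (iv D14351)) (tt N9187 (iv F36163)) (tt N5766 F25070) (tt N9374 (iv F36671)) (tt N3448 F25071) (tt N3426 F25072) (tt N5782 (iv F25108)))
theorem Q5768 : ∀ i, i < 5768 → P i := stepQ 5767 Q5767 (allL N5767 (tt N5782 (iv F25105)) (tt N9380 D19549) (tt N5767 F25073) (tt N9375 (iv F36674)) (tt N3449 F25074) (tt N5781 (iv F25104)) (tt N3418 (iv D14352)))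
theorem Q5769 : ∀ i, i < 5769 → P i := stepQ 5768 Q5768 (allL N5768 (tt N9381 D19550) (tt N3419 (iv D14353)) (tt N9382 D19551) (tt N9376 (iv F36676)) (tt N3450 F25075) (tt N9383 D19552) (tt N9380 (iv F36687)))
theorem Q5770 : ∀ i, i < 5770 → P i := stepQ 5769 Q5769 (allL N5769 (tt N3420 (iv D14354)) (tt N9227 (iv F36281)) (tt N5769 F25076) (tt N9377 (iv F36679)) (tt N3451 F25077) (tt N5785 (iv F25117)) (tt N3428 F25078))
theorem Q5771 : ∀ i, i < 5771 → P i := stepQ 5770 Q5770 (allL N5770 (tt N5785 (iv F25114)) (tt N9384 D19553) (tt N5770 F25079) (tt N9378 (iv F36682)) (tt N3452 F25080) (tt N3420 (iv D14355)) (tt N5784 (iv F25113)))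
theorem Q5772 : ∀ i, i < 5772 → P i := stepQ 5771 Q5771 (allL N5771 (tt N9385 D19554) (tt N3421 (iv D14356)) (tt N9386 D19555) (tt N9379 (iv F36684)) (tt N3453 F25081) (tt N9384 (iv F36693)) (tt N9387 D19556))
theorem Q5773 : ∀ i, i < 5773 → P i := stepQ 5772 Q5772 (allL N5772 (tt N4462 (iv F25086)) (tt N3422 (iv D14357)) (tt N4461 F25082) (tt N3454 F25083) (tt N3424 F25084) (tt N3779 F25085) (tt N9388 D19557))
theorem Q5774 : ∀ i, i < 5774 → P i := stepQ 5773 Q5773 (allL N5773 (tt N4474 F34779) (tt N3423 (iv D14358)) (tt N4473 F34780) (tt N3455 F25087) (tt N3425 F25088) (tt N9389 D19558) (tt N3781 F25089))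
theorem Q5775 : ∀ i, i < 5775 → P i := stepQ 5774 Q5774 (allL N5774 (tt N3424 (iv D14359)) (tt N9390 D19559) (tt N4162 (iv F25092)) (tt N3426 F25090) (tt N4462 F25091) (tt N9374 (iv F36673)) (tt N9391 D19560))
theorem Q5776 : ∀ i, i < 5776 → P i := stepQ 5775 Q5775 (allL N5775 (tt N4162 F25093) (tt N3483 F25094) (tt N3424 (iv D14360)) (tt N9392 D19561) (tt N4461 F25095) (tt N6183 (iv F25985)) (tt N9393 D19562))
theorem Q5777 : ∀ i, i < 5777 → P i := stepQ 5776 Q5776 (allL N5776 (tt N9391 (iv F36714)) (tt N5889 (iv F25312)) (tt N9393 (iv F36724)) (tt N3427 F25096) (tt N9388 (iv F36702)) (tt N9394 D19563) (tt N3424 (iv D14361)))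
theorem Q5778 : ∀ i, i < 5778 → P i := stepQ 5777 Q5777 (allL N5777 (tt N3425 (iv D14362)) (tt N9395 D19564) (tt N4168 F35091) (tt N3428 F25097) (tt N4474 F35092) (tt N9396 D19565) (tt N9377 (iv F36681)))
theorem Q5779 : ∀ i, i < 5779 → P i := stepQ 5778 Q5778 (allL N5778 (tt N4168 F34705) (tt N3487 F25098) (tt N3425 (iv D14363)) (tt N9397 D19566) (tt N4473 F34706) (tt N9398 D19567) (tt N6187 F34707))
theorem Q5780 : ∀ i, i < 5780 → P i := stepQ 5779 Q5779 (allL N5779 (tt N9396 (iv F36736)) (tt N5880 (iv F25297)) (tt N9398 (iv F36746)) (tt N3429 F25099) (tt N9389 (iv F36708)) (tt N3425 (iv D14364)) (tt N9399 D19568))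
theorem Q5781 : ∀ i, i < 5781 → P i := stepQ 5780 Q5780 (allL N5780 (tt N7375 (iv F29242)) (tt N3426 (iv D14365)) (tt N7374 F29243) (tt N9390 (iv F36711)) (tt N3462 F25100) (tt N9400 D19569) (tt N9401 D19570))
theorem Q5782 : ∀ i, i < 5782 → P i := stepQ 5781 Q5781 (allL N5781 (tt N3427 F25101) (tt N9402 D19571) (tt N5781 F25102) (tt N9391 (iv F36716)) (tt N3463 F25103) (tt N5767 F25104) (tt N3426 (iv D14366)))
theorem Q5783 : ∀ i, i < 5783 → P i := stepQ 5782 Q5782 (allL N5782 (tt N5767 F25105) (tt N9403 D19572) (tt N5782 F25106) (tt N9394 (iv F36729)) (tt N3464 F25107) (tt N3427 (iv D14367)) (tt N5766 F25108))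
theorem Q5784 : ∀ i, i < 5784 → P i := stepQ 5783 Q5783 (allL N5783 (tt N7406 (iv F28599)) (tt N3428 (iv D14368)) (tt N7405 F28598) (tt N9395 (iv F36733)) (tt N3465 F25109) (tt N9404 D19573) (tt N9405 D19574))
theorem Q5785 : ∀ i, i < 5785 → P i := stepQ 5784 Q5784 (allL N5784 (tt N3429 F25110) (tt N9406 D19575) (tt N5784 F25111) (tt N9396 (iv F36738)) (tt N3466 F25112) (tt N3428 (iv D14369)) (tt N5770 F25113))
theorem Q5786 : ∀ i, i < 5786 → P i := stepQ 5785 Q5785 (allL N5785 (tt N5770 F25114) (tt N9407 D19576) (tt N5785 F25115) (tt N9399 (iv F36751)) (tt N3467 F25116) (tt N5769 F25117) (tt N3429 (iv D14370)))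
theorem Q5787 : ∀ i, i < 5787 → P i := stepQ 5786 Q5786 (allL N5786 (tt N3442 F25118) (tt N9182 (iv F36142)) (tt N7454 (iv F28746)) (tt N3431 F25119) (tt N3434 F25120) (tt N3430 (iv D14371)) (tt N5809 (iv F25165)))
theorem Q5788 : ∀ i, i < 5788 → P i := stepQ 5787 Q5787 (allL N5787 (tt N3443 F25121) (tt N9222 (iv F36260)) (tt N7455 (iv F28750)) (tt N3432 F25122) (tt N3435 F25123) (tt N5807 (iv F25158)) (tt N3430 (iv D14372)))
theorem Q5789 : ∀ i, i < 5789 → P i := stepQ 5788 Q5788 (allL N5788 (tt N5526 (iv F29165)) (tt N3431 (iv D14373)) (tt N9408 D19577) (tt N9182 (iv F36145)) (tt N9368 (iv F36653)) (tt N3436 F25124) (tt N9090 (iv F35898)))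
theorem Q5790 : ∀ i, i < 5790 → P i := stepQ 5789 Q5789 (allL N5789 (tt N5571 F35180) (tt N3432 (iv D14374)) (tt N9409 D19578) (tt N9222 F36262) (tt N9369 (iv F36657)) (tt N9143 (iv F36030)) (tt N3437 F25125))
theorem Q5791 : ∀ i, i < 5791 → P i := stepQ 5790 Q5790 (allL N5790 (tt N5790 F25126) (tt N3433 (iv D14375)) (tt N7452 F28735) (tt N9410 D19579) (tt N7452 F28736) (tt N5790 F28799) (tt N5790 F29720))
theorem Q5792 : ∀ i, i < 5792 → P i := stepQ 5791 Q5791 (allL N5791 (tt N3438 F25127) (tt N9410 (iv F36777)) (tt N5751 F25128) (tt N3433 (iv D14376)) (tt N7456 (iv F28754)) (tt N9411 D19580) (tt N9412 D19581))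
theorem Q5793 : ∀ i, i < 5793 → P i := stepQ 5792 Q5792 (allL N5792 (tt N3440 F25129) (tt N5792 F28800) (tt N3434 F25130) (tt N9411 (iv F36784)) (tt N7454 (iv F28748)) (tt N3433 (iv D14377)) (tt N5805 (iv F25152)))
theorem Q5794 : ∀ i, i < 5794 → P i := stepQ 5793 Q5793 (allL N5793 (tt N3441 F25131) (tt N5793 F29721) (tt N3435 F25132) (tt N9412 (iv F36788)) (tt N7455 (iv F28752)) (tt N5804 (iv F25148)) (tt N3433 (iv D14378)))
theorem Q5795 : ∀ i, i < 5795 → P i := stepQ 5794 Q5794 (allL N5794 (tt N5439 (iv F29143)) (tt N5433 (iv F29144)) (tt N3436 (iv D14382)) (tt N5432 F29142) (tt N9370 (iv F36662)) (tt N9408 (iv F36770)) (tt N9413 D19582))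
theorem Q5796 : ∀ i, i < 5796 → P i := stepQ 5795 Q5795 (allL N5795 (tt N5527 (iv F29166)) (tt N5821 (iv F25179)) (tt N9413 (iv F36790)) (tt N9183 (iv F36148)) (tt N9371 (iv F36664)) (tt N9088 (iv F35893)) (tt N3436 (iv D14383)))
theorem Q5797 : ∀ i, i < 5797 → P i := stepQ 5796 Q5796 (allL N5796 (tt N5483 F35174) (tt N5477 F35104) (tt N3437 (iv D14385)) (tt N5476 (iv F35173)) (tt N9372 (iv F36667)) (tt N9414 D19583) (tt N9409 (iv F36774)))
theorem Q5798 : ∀ i, i < 5798 → P i := stepQ 5797 Q5797 (allL N5797 (tt N5570 (iv F35215)) (tt N5817 (iv F25177)) (tt N9414 (iv F36793)) (tt N9223 (iv F36266)) (tt N9373 (iv F36669)) (tt N3437 (iv D14386)) (tt N9144 (iv F36032)))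
theorem Q5799 : ∀ i, i < 5799 → P i := stepQ 5798 Q5798 (allL N5798 (tt N5751 F25135) (tt N7439 (iv F28703)) (tt N3438 (iv D14387)) (tt N5082 F25136) (tt N5085 (iv F25137)) (tt N9415 D19584) (tt N9416 D19585))
theorem Q5800 : ∀ i, i < 5800 → P i := stepQ 5799 Q5799 (allL N5799 (tt N7456 (iv F28753)) (tt N5082 F25138) (tt N5085 F25139) (tt N7439 (iv F28705)) (tt N3438 (iv D14388)) (tt N9417 D19586) (tt N9418 D19587))
theorem Q5801 : ∀ i, i < 5801 → P i := stepQ 5800 Q5800 (allL N5800 (tt N9411 (iv F36781)) (tt N6855 F29176) (tt N9415 (iv F36797)) (tt N3440 F25140) (tt N9417 (iv F36807)) (tt N3438 (iv D14389)) (tt N9419 D19588))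
theorem Q5802 : ∀ i, i < 5802 → P i := stepQ 5801 Q5801 (allL N5801 (tt N9412 (iv F36785)) (tt N6876 F34820) (tt N9416 (iv F36802)) (tt N3441 F25141) (tt N9418 (iv F36811)) (tt N9420 D19589) (tt N3438 (iv D14390)))
theorem Q5803 : ∀ i, i < 5803 → P i := stepQ 5802 Q5802 (allL N5802 (tt N7454 (iv F28745)) (tt N6851 F29173) (tt N3442 F25142) (tt N7440 (iv F28708)) (tt N3440 F25143) (tt N3439 (iv D14391)) (tt N9421 D19590))
theorem Q5804 : ∀ i, i < 5804 → P i := stepQ 5803 Q5803 (allL N5803 (tt N7455 (iv F28749)) (tt N6872 (iv F35081)) (tt N3443 F25144) (tt N7441 (iv F28711)) (tt N3441 F25145) (tt N9422 D19591) (tt N3439 (iv D14392)))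
theorem Q5805 : ∀ i, i < 5805 → P i := stepQ 5804 Q5804 (allL N5804 (tt N5805 (iv F25150)) (tt N9423 D19592) (tt N3445 F25147) (tt N9419 (iv F36813)) (tt N9421 (iv F36820)) (tt N5793 F25148) (tt N3440 (iv D14394)))
theorem Q5806 : ∀ i, i < 5806 → P i := stepQ 5805 Q5805 (allL N5805 (tt N5804 F25150) (tt N9424 D19593) (tt N3447 F25151) (tt N9420 (iv F36816)) (tt N9422 (iv F36825)) (tt N3441 (iv D14396)) (tt N5792 F25152))
theorem Q5807 : ∀ i, i < 5807 → P i := stepQ 5806 Q5806 (allL N5806 (tt N9186 (iv F36158)) (tt N3442 (iv D14397)) (tt N6864 (iv F29129)) (tt N3779 F25153) (tt N3444 F25154) (tt N3454 F25155) (tt N9425 D19594))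
theorem Q5808 : ∀ i, i < 5808 → P i := stepQ 5807 Q5807 (allL N5807 (tt N5809 (iv F25162)) (tt N9426 D19595) (tt N9421 (iv F36818)) (tt N3780 F25156) (tt N3445 F25157) (tt N5787 F25158) (tt N3442 (iv D14398)))
theorem Q5809 : ∀ i, i < 5809 → P i := stepQ 5808 Q5808 (allL N5808 (tt N9226 (iv F36276)) (tt N3443 (iv D14399)) (tt N6885 F35082) (tt N3781 F25159) (tt N3446 F25160) (tt N9427 D19596) (tt N3455 F25161))
theorem Q5810 : ∀ i, i < 5810 → P i := stepQ 5809 Q5809 (allL N5809 (tt N5807 F25162) (tt N9428 D19597) (tt N9422 (iv F36823)) (tt N3782 F25163) (tt N3447 F25164) (tt N3443 (iv D14400)) (tt N5786 F25165))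
theorem Q5811 : ∀ i, i < 5811 → P i := stepQ 5810 Q5810 (allL N5810 (tt N5832 (iv F25196)) (tt N9429 D19598) (tt N6868 (iv F29130)) (tt N3449 F25169) (tt N9425 (iv F36830)) (tt N5830 (iv F25193)) (tt N3444 (iv D14403)))
theorem Q5812 : ∀ i, i < 5812 → P i := stepQ 5811 Q5811 (allL N5811 (tt N9430 D19599) (tt N3445 (iv D14404)) (tt N9431 D19600) (tt N3450 F25170) (tt N9426 (iv F36832)) (tt N9432 D19601) (tt N9429 (iv F36838)))
theorem Q5813 : ∀ i, i < 5813 → P i := stepQ 5812 Q5812 (allL N5812 (tt N5837 (iv F25206)) (tt N9433 D19602) (tt N6889 F35096) (tt N3452 F25174) (tt N9427 (iv F36834)) (tt N3446 (iv D14407)) (tt N5835 (iv F25203)))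
theorem Q5814 : ∀ i, i < 5814 → P i := stepQ 5813 Q5813 (allL N5813 (tt N9434 D19603) (tt N3447 (iv D14408)) (tt N9435 D19604) (tt N3453 F25175) (tt N9428 (iv F36836)) (tt N9433 (iv F36843)) (tt N9436 D19605))
theorem Q5815 : ∀ i, i < 5815 → P i := stepQ 5814 Q5814 (allL N5814 (tt N9437 D19606) (tt N3449 (iv D14410)) (tt N9438 D19607) (tt N9429 (iv F36837)) (tt N9380 (iv F36686)) (tt N9439 D19608) (tt N3450 F25176))
theorem Q5816 : ∀ i, i < 5816 → P i := stepQ 5815 Q5815 (allL N5815 (tt N3450 (iv D14411)) (tt N9440 D19609) (tt N9441 D19610) (tt N9430 (iv F36839)) (tt N9381 (iv F36688)) (tt N9442 D19611) (tt N9437 (iv F36847)))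
theorem Q5817 : ∀ i, i < 5817 → P i := stepQ 5816 Q5816 (allL N5816 (tt N9441 (iv F36850)) (tt N9363 (iv F36643)) (tt N3450 (iv D14412)) (tt N9443 D19612) (tt N9382 (iv F36689)) (tt N9444 D19613) (tt N9438 (iv F36849)))
theorem Q5818 : ∀ i, i < 5818 → P i := stepQ 5817 Q5817 (allL N5817 (tt N9442 (iv F36851)) (tt N5797 F25177) (tt N9444 (iv F36858)) (tt N9432 (iv F36841)) (tt N9383 (iv F36691)) (tt N3450 (iv D14413)) (tt N9445 D19614))
theorem Q5819 : ∀ i, i < 5819 → P i := stepQ 5818 Q5818 (allL N5818 (tt N9446 D19615) (tt N3452 (iv D14415)) (tt N9447 D19616) (tt N9433 (iv F36842)) (tt N9384 (iv F36692)) (tt N3453 F25178) (tt N9448 D19617))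
theorem Q5820 : ∀ i, i < 5820 → P i := stepQ 5819 Q5819 (allL N5819 (tt N3453 (iv D14416)) (tt N9449 D19618) (tt N9450 D19619) (tt N9434 (iv F36844)) (tt N9385 (iv F36694)) (tt N9446 (iv F36861)) (tt N9451 D19620))
theorem Q5821 : ∀ i, i < 5821 → P i := stepQ 5820 Q5820 (allL N5820 (tt N9450 (iv F36864)) (tt N9366 (iv F36649)) (tt N3453 (iv D14417)) (tt N9452 D19621) (tt N9386 (iv F36695)) (tt N9447 (iv F36863)) (tt N9453 D19622))
theorem Q5822 : ∀ i, i < 5822 → P i := stepQ 5821 Q5821 (allL N5821 (tt N9451 (iv F36865)) (tt N5795 F25179) (tt N9453 (iv F36890)) (tt N9436 (iv F36846)) (tt N9387 (iv F36697)) (tt N9454 D19623) (tt N3453 (iv D14418)))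
theorem Q5823 : ∀ i, i < 5823 → P i := stepQ 5822 Q5822 (allL N5822 (tt N3454 (iv D14419)) (tt N9455 D19624) (tt N9456 D19625) (tt N4462 F25180) (tt N3456 F25181) (tt N9186 (iv F36160)) (tt N9457 D19626))
theorem Q5824 : ∀ i, i < 5824 → P i := stepQ 5823 Q5823 (allL N5823 (tt N9456 (iv F36898)) (tt N5117 F25182) (tt N3454 (iv D14420)) (tt N6864 F29175) (tt N3457 F25183) (tt N6864 F29174) (tt N9458 D19627))
theorem Q5825 : ∀ i, i < 5825 → P i := stepQ 5824 Q5824 (allL N5824 (tt N9457 (iv F36901)) (tt N6009 (iv F25614)) (tt N9458 (iv F36905)) (tt N9388 (iv F36701)) (tt N3458 F25184) (tt N9459 D19628) (tt N3454 (iv D14421)))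
theorem Q5826 : ∀ i, i < 5826 → P i := stepQ 5825 Q5825 (allL N5825 (tt N3455 (iv D14422)) (tt N9460 D19629) (tt N9461 D19630) (tt N4474 F35090) (tt N3459 F25185) (tt N9462 D19631) (tt N9226 (iv F36278)))
theorem Q5827 : ∀ i, i < 5827 → P i := stepQ 5826 Q5826 (allL N5826 (tt N9461 (iv F36916)) (tt N5121 F25186) (tt N3455 (iv D14423)) (tt N6885 F32107) (tt N3460 F25187) (tt N9463 D19632) (tt N6885 (iv F35089)))
theorem Q5828 : ∀ i, i < 5828 → P i := stepQ 5827 Q5827 (allL N5827 (tt N9462 (iv F36919)) (tt N6003 (iv F25595)) (tt N9463 (iv F36923)) (tt N9389 (iv F36707)) (tt N3461 F25188) (tt N3455 (iv D14424)) (tt N9464 D19633))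
theorem Q5829 : ∀ i, i < 5829 → P i := stepQ 5828 Q5828 (allL N5828 (tt N7940 (iv F30118)) (tt N3456 (iv D14425)) (tt N9455 F36897) (tt N3462 F25189) (tt N9455 (iv F36895)) (tt N9190 (iv F36176)) (tt N9237 (iv F36308)))
theorem Q5830 : ∀ i, i < 5830 → P i := stepQ 5829 Q5829 (allL N5829 (tt N3457 F25190) (tt N9456 (iv F36899)) (tt N3456 (iv D14426)) (tt N9258 F36362) (tt N9456 (iv F36900)) (tt N6867 F29137) (tt N9465 D19634))
theorem Q5831 : ∀ i, i < 5831 → P i := stepQ 5830 Q5830 (allL N5830 (tt N3458 F25191) (tt N9466 D19635) (tt N9465 (iv F36930)) (tt N3463 F25192) (tt N9457 (iv F36903)) (tt N5810 F25193) (tt N3456 (iv D14427)))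
theorem Q5832 : ∀ i, i < 5832 → P i := stepQ 5831 Q5831 (allL N5831 (tt N9465 (iv F36929)) (tt N9467 D19636) (tt N3458 F25195) (tt N9260 (iv F36365)) (tt N9458 (iv F36906)) (tt N9468 D19637) (tt N3457 (iv D14429)))
theorem Q5833 : ∀ i, i < 5833 → P i := stepQ 5832 Q5832 (allL N5832 (tt N5810 F25196) (tt N9469 D19638) (tt N9468 (iv F36937)) (tt N3464 F25197) (tt N9459 (iv F36909)) (tt N3458 (iv D14430)) (tt N5605 (iv F29136)))
theorem Q5834 : ∀ i, i < 5834 → P i := stepQ 5833 Q5833 (allL N5833 (tt N7998 (iv F30228)) (tt N3459 (iv D14431)) (tt N9460 F36915) (tt N3465 F25199) (tt N9460 (iv F36913)) (tt N9201 (iv F36206)) (tt N9230 (iv F36290)))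
theorem Q5835 : ∀ i, i < 5835 → P i := stepQ 5834 Q5834 (allL N5834 (tt N3460 F25200) (tt N9461 (iv F36917)) (tt N3459 (iv D14432)) (tt N9311 F36471) (tt N9461 (iv F36918)) (tt N9470 D19639) (tt N6888 (iv F35093)))
theorem Q5836 : ∀ i, i < 5836 → P i := stepQ 5835 Q5835 (allL N5835 (tt N3461 F25201) (tt N9471 D19640) (tt N9470 (iv F36943)) (tt N3466 F25202) (tt N9462 (iv F36921)) (tt N3459 (iv D14433)) (tt N5812 F25203))
theorem Q5837 : ∀ i, i < 5837 → P i := stepQ 5836 Q5836 (allL N5836 (tt N9470 (iv F36942)) (tt N9472 D19641) (tt N3461 F25205) (tt N9313 (iv F36474)) (tt N9463 (iv F36924)) (tt N3460 (iv D14435)) (tt N9473 D19642))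
theorem Q5838 : ∀ i, i < 5838 → P i := stepQ 5837 Q5837 (allL N5837 (tt N5812 F25206) (tt N9474 D19643) (tt N9473 (iv F36950)) (tt N3467 F25207) (tt N9464 (iv F36927)) (tt N5642 (iv F34869)) (tt N3461 (iv D14436)))
theorem Q5839 : ∀ i, i < 5839 → P i := stepQ 5838 Q5838 (allL N5838 (tt N7497 (iv F29345)) (tt N7525 (iv F29404)) (tt N7499 (iv F29348)) (tt N9190 (iv F36174)) (tt N9400 (iv F36757)) (tt N3462 (iv D14439)) (tt N9475 D19644))
theorem Q5840 : ∀ i, i < 5840 → P i := stepQ 5839 Q5839 (allL N5839 (tt N7941 (iv F30120)) (tt N9476 D19645) (tt N7939 (iv F30116)) (tt N9237 (iv F36307)) (tt N9401 (iv F36758)) (tt N9477 D19646) (tt N3462 (iv D14440)))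
theorem Q5841 : ∀ i, i < 5841 → P i := stepQ 5840 Q5840 (allL N5840 (tt N9478 D19647) (tt N3463 (iv D14441)) (tt N9479 D19648) (tt N9466 (iv F36933)) (tt N9402 (iv F36759)) (tt N9480 D19649) (tt N9476 (iv F36959)))
theorem Q5842 : ∀ i, i < 5842 → P i := stepQ 5841 Q5841 (allL N5841 (tt N7572 (iv F37076)) (tt N3464 (iv D14442)) (tt N9481 D19651) (tt N9469 (iv F36940)) (tt N9403 (iv F36760)) (tt N6117 (iv F25758)) (tt N9482 D19652))
theorem Q5843 : ∀ i, i < 5843 → P i := stepQ 5842 Q5842 (allL N5842 (tt N7999 (iv F30231)) (tt N9483 D19653) (tt N7997 (iv F30225)) (tt N9201 (iv F36205)) (tt N9404 (iv F36761)) (tt N3465 (iv D14445)) (tt N9484 D19654))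
theorem Q5844 : ∀ i, i < 5844 → P i := stepQ 5843 Q5843 (allL N5843 (tt N7511 (iv F34831)) (tt N7570 F34830) (tt N7513 (iv F34834)) (tt N9230 (iv F36287)) (tt N9405 (iv F36765)) (tt N9485 D19655) (tt N3465 (iv D14446)))
theorem Q5845 : ∀ i, i < 5845 → P i := stepQ 5844 Q5844 (allL N5844 (tt N9486 D19656) (tt N3466 (iv D14447)) (tt N9487 D19657) (tt N9471 (iv F36946)) (tt N9406 (iv F36766)) (tt N9483 (iv F36970)) (tt N9488 D19658))
theorem Q5846 : ∀ i, i < 5846 → P i := stepQ 5845 Q5845 (allL N5845 (tt N7527 (iv F37068)) (tt N3467 (iv D14448)) (tt N9489 D19660) (tt N9474 (iv F36953)) (tt N9407 (iv F36767)) (tt N9490 D19661) (tt N6079 (iv F25713)))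
theorem Q5847 : ∀ i, i < 5847 → P i := stepQ 5846 Q5846 (allL N5846 (tt N3468 (iv D14449)) (tt N5201 (iv F29006)) (tt N4200 (iv F25216)) (tt N3470 F25213) (tt N3522 F25214) (tt N3482 F25215) (tt N5877 (iv F25295)))
theorem Q5848 : ∀ i, i < 5848 → P i := stepQ 5847 Q5847 (allL N5847 (tt N4200 F25217) (tt N3676 F25218) (tt N3468 (iv D14450)) (tt N9491 D19662) (tt N3523 F25219) (tt N3483 F25220) (tt N7032 (iv F27804)))
theorem Q5849 : ∀ i, i < 5849 → P i := stepQ 5848 Q5848 (allL N5848 (tt N5877 (iv F25293)) (tt N5867 (iv F25261)) (tt N7032 (iv F27802)) (tt N3472 F25221) (tt N3524 F25222) (tt N5873 (iv F25286)) (tt N3468 (iv D14451)))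
theorem Q5850 : ∀ i, i < 5850 → P i := stepQ 5849 Q5849 (allL N5849 (tt N3469 (iv D14452)) (tt N5209 F34537) (tt N4218 F34699) (tt N3474 F25223) (tt N3525 F25224) (tt N5886 (iv F25309)) (tt N3486 F25225))
theorem Q5851 : ∀ i, i < 5851 → P i := stepQ 5850 Q5850 (allL N5850 (tt N4218 F34715) (tt N3679 F25226) (tt N3469 (iv D14453)) (tt N9492 D19663) (tt N3526 F25227) (tt N7059 F34716) (tt N3487 F25228))
theorem Q5852 : ∀ i, i < 5852 → P i := stepQ 5851 Q5851 (allL N5851 (tt N5886 (iv F25307)) (tt N5859 (iv F25244)) (tt N7059 F35290) (tt N3476 F25229) (tt N3527 F25230) (tt N3469 (iv D14454)) (tt N5882 (iv F25303)))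
theorem Q5853 : ∀ i, i < 5853 → P i := stepQ 5852 Q5852 (allL N5852 (tt N8554 (iv F33336)) (tt N3470 (iv D14455)) (tt N5528 (iv F29011)) (tt N5201 F29010) (tt N3536 F25231) (tt N5616 (iv F29009)) (tt N9493 D19664))
theorem Q5854 : ∀ i, i < 5854 → P i := stepQ 5853 Q5853 (allL N5853 (tt N3471 F25232) (tt N9494 D19665) (tt N3470 (iv D14456)) (tt N9495 D19666) (tt N3537 F25233) (tt N3491 F25234) (tt N5901 (iv F25332)))
theorem Q5855 : ∀ i, i < 5855 → P i := stepQ 5854 Q5854 (allL N5854 (tt N9495 (iv F36998)) (tt N3695 F25235) (tt N9496 D19667) (tt N3471 (iv D14457)) (tt N9497 D19668) (tt N3493 F25236) (tt N9498 D19669))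
theorem Q5856 : ∀ i, i < 5856 → P i := stepQ 5855 Q5855 (allL N5855 (tt N5901 (iv F25329)) (tt N9499 D19670) (tt N3472 F25237) (tt N9498 (iv F37004)) (tt N3539 F25238) (tt N5896 (iv F25323)) (tt N3471 (iv D14458)))
theorem Q5857 : ∀ i, i < 5857 → P i := stepQ 5856 Q5856 (allL N5856 (tt N9500 D19671) (tt N3472 (iv D14459)) (tt N9501 D19672) (tt N5867 (iv F25262)) (tt N3540 F25239) (tt N9502 D19673) (tt N3473 F25240))
theorem Q5858 : ∀ i, i < 5858 → P i := stepQ 5857 Q5857 (allL N5857 (tt N3473 (iv D14460)) (tt N9503 D19674) (tt N9504 D19675) (tt N5865 (iv F25257)) (tt N3541 F25241) (tt N9505 D19676) (tt N9500 (iv F37008)))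
theorem Q5859 : ∀ i, i < 5859 → P i := stepQ 5858 Q5858 (allL N5858 (tt N9504 (iv F37013)) (tt N3699 F25242) (tt N3473 (iv D14461)) (tt N9506 D19677) (tt N3542 F25243) (tt N9507 D19678) (tt N9501 (iv F37010)))
theorem Q5860 : ∀ i, i < 5860 → P i := stepQ 5859 Q5859 (allL N5859 (tt N9505 (iv F37015)) (tt N5851 F25244) (tt N9507 (iv F37019)) (tt N5864 (iv F25254)) (tt N3543 F25245) (tt N3473 (iv D14462)) (tt N9508 D19679))
theorem Q5861 : ∀ i, i < 5861 → P i := stepQ 5860 Q5860 (allL N5860 (tt N8563 F34541) (tt N3474 (iv D14463)) (tt N5572 F34542) (tt N5209 F34543) (tt N3544 F25246) (tt N9509 D19680) (tt N5650 F34544))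
theorem Q5862 : ∀ i, i < 5862 → P i := stepQ 5861 Q5861 (allL N5861 (tt N3475 F25247) (tt N9510 D19681) (tt N3474 (iv D14464)) (tt N9511 D19682) (tt N3545 F25248) (tt N5923 (iv F25370)) (tt N3501 F25249))
theorem Q5863 : ∀ i, i < 5863 → P i := stepQ 5862 Q5862 (allL N5862 (tt N9511 (iv F37031)) (tt N3703 F25250) (tt N9512 D19683) (tt N3475 (iv D14465)) (tt N9513 D19684) (tt N9514 D19685) (tt N3503 F25251))
theorem Q5864 : ∀ i, i < 5864 → P i := stepQ 5863 Q5863 (allL N5863 (tt N5923 (iv F25367)) (tt N9515 D19686) (tt N3476 F25252) (tt N9514 (iv F37037)) (tt N3547 F25253) (tt N3475 (iv D14466)) (tt N5918 (iv F25361)))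
theorem Q5865 : ∀ i, i < 5865 → P i := stepQ 5864 Q5864 (allL N5864 (tt N9516 D19687) (tt N3476 (iv D14467)) (tt N9517 D19688) (tt N5859 F25254) (tt N3548 F25255) (tt N3477 F25256) (tt N9518 D19689))
theorem Q5866 : ∀ i, i < 5866 → P i := stepQ 5865 Q5865 (allL N5865 (tt N3477 (iv D14468)) (tt N9519 D19690) (tt N9520 D19691) (tt N5857 F25257) (tt N3549 F25258) (tt N9516 (iv F37042)) (tt N9521 D19692))
theorem Q5867 : ∀ i, i < 5867 → P i := stepQ 5866 Q5866 (allL N5866 (tt N9520 (iv F37049)) (tt N3707 F25259) (tt N3477 (iv D14469)) (tt N9522 D19693) (tt N3550 F25260) (tt N9517 (iv F37044)) (tt N9523 D19694))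
theorem Q5868 : ∀ i, i < 5868 → P i := stepQ 5867 Q5867 (allL N5867 (tt N9521 (iv F37051)) (tt N5848 F25261) (tt N9523 (iv F37056)) (tt N5856 F25262) (tt N3551 F25263) (tt N9524 D19695) (tt N3477 (iv D14470)))
theorem Q5869 : ∀ i, i < 5869 → P i := stepQ 5868 Q5868 (allL N5868 (tt N4487 F25264) (tt N9525 D19696) (tt N4485 F25265) (tt N3562 F25266) (tt N3484 F25267) (tt N5950 (iv F25467)) (tt N3478 (iv D14471)))
theorem Q5870 : ∀ i, i < 5870 → P i := stepQ 5869 Q5869 (allL N5869 (tt N4544 F35317) (tt N3479 (iv D14472)) (tt N4543 F35318) (tt N3563 F25268) (tt N3485 F25269) (tt N6468 F35319) (tt N9525 (iv F37065)))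
theorem Q5871 : ∀ i, i < 5871 → P i := stepQ 5870 Q5870 (allL N5870 (tt N4522 F34717) (tt N9526 D19697) (tt N4520 F34718) (tt N3566 F25275) (tt N3488 F25276) (tt N3480 (iv D14475)) (tt N5951 (iv F25471)))
theorem Q5872 : ∀ i, i < 5872 → P i := stepQ 5871 Q5871 (allL N5871 (tt N4509 F35294) (tt N3481 (iv D14476)) (tt N4508 F35295) (tt N3567 F25277) (tt N3489 F25278) (tt N9526 (iv F37073)) (tt N6503 F35296))
theorem Q5873 : ∀ i, i < 5873 → P i := stepQ 5872 Q5872 (allL N5872 (tt N9527 D19698) (tt N3482 (iv D14477)) (tt N4202 F25279) (tt N3490 F25280) (tt N4486 F25281) (tt N5610 F29005) (tt N9528 D19699))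
theorem Q5874 : ∀ i, i < 5874 → P i := stepQ 5873 Q5873 (allL N5873 (tt N3484 F25282) (tt N9529 D19700) (tt N4201 F25283) (tt N3492 F25284) (tt N4487 F25285) (tt N5848 F25286) (tt N3482 (iv D14478)))
theorem Q5875 : ∀ i, i < 5875 → P i := stepQ 5874 Q5874 (allL N5874 (tt N4184 F25287) (tt N9392 (iv F36720)) (tt N9530 D19701) (tt N3483 (iv D14479)) (tt N9531 D19702) (tt N9491 (iv F36987)) (tt N9532 D19703))
theorem Q5876 : ∀ i, i < 5876 → P i := stepQ 5875 Q5875 (allL N5875 (tt N4201 F25288) (tt N6306 (iv F26241)) (tt N3484 F25289) (tt N9532 (iv F37094)) (tt N4485 F25290) (tt N7031 (iv F27800)) (tt N3483 (iv D14480)))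
theorem Q5877 : ∀ i, i < 5877 → P i := stepQ 5876 Q5876 (allL N5876 (tt N9533 D19704) (tt N3484 (iv D14481)) (tt N9534 D19705) (tt N3495 F25291) (tt N9525 (iv F37064)) (tt N9535 D19706) (tt N3485 F25292))
theorem Q5878 : ∀ i, i < 5878 → P i := stepQ 5877 Q5877 (allL N5877 (tt N5848 F25293) (tt N9536 D19707) (tt N7031 (iv F27798)) (tt N3496 F25294) (tt N5950 (iv F25466)) (tt N3484 (iv D14482)) (tt N5846 F25295))
theorem Q5879 : ∀ i, i < 5879 → P i := stepQ 5878 Q5878 (allL N5878 (tt N3485 (iv D14483)) (tt N9537 D19708) (tt N4228 F35321) (tt N3497 F25296) (tt N4544 F35322) (tt N9538 D19709) (tt N9533 (iv F37097)))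
theorem Q5880 : ∀ i, i < 5880 → P i := stepQ 5879 Q5879 (allL N5879 (tt N4228 F35307) (tt N5888 (iv F25311)) (tt N3485 (iv D14484)) (tt N9539 D19710) (tt N4543 F35308) (tt N6278 F35309) (tt N9534 (iv F37103)))
theorem Q5881 : ∀ i, i < 5881 → P i := stepQ 5880 Q5880 (allL N5880 (tt N9538 (iv F37113)) (tt N5779 F25297) (tt N6278 (iv F35310)) (tt N3499 F25298) (tt N6468 F35311) (tt N3485 (iv D14485)) (tt N6288 F35312))
theorem Q5882 : ∀ i, i < 5882 → P i := stepQ 5881 Q5881 (allL N5881 (tt N9540 D19711) (tt N3486 (iv D14486)) (tt N4219 F34694) (tt N3500 F25299) (tt N4521 F34695) (tt N9541 D19712) (tt N5647 (iv F35285)))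
theorem Q5883 : ∀ i, i < 5883 → P i := stepQ 5882 Q5882 (allL N5882 (tt N3488 F25301) (tt N9542 D19713) (tt N4217 F34698) (tt N3502 F25302) (tt N4522 (iv F34703)) (tt N3486 (iv D14488)) (tt N5851 F25303))
theorem Q5884 : ∀ i, i < 5884 → P i := stepQ 5883 Q5883 (allL N5883 (tt N4192 F34708) (tt N9397 (iv F36742)) (tt N9543 D19714) (tt N3487 (iv D14489)) (tt N9544 D19715) (tt N9545 D19716) (tt N9492 (iv F36990)))
theorem Q5885 : ∀ i, i < 5885 → P i := stepQ 5884 Q5884 (allL N5884 (tt N4217 F34711) (tt N6277 F34712) (tt N3488 F25304) (tt N9545 (iv F37136)) (tt N4520 F34713) (tt N3487 (iv D14490)) (tt N7060 F34714))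
theorem Q5886 : ∀ i, i < 5886 → P i := stepQ 5885 Q5885 (allL N5885 (tt N9546 D19717) (tt N3488 (iv D14491)) (tt N9547 D19718) (tt N3505 F25305) (tt N9526 (iv F37072)) (tt N3489 F25306) (tt N9548 D19719))
theorem Q5887 : ∀ i, i < 5887 → P i := stepQ 5886 Q5886 (allL N5886 (tt N5851 F25307) (tt N9549 D19720) (tt N7060 (iv F35291)) (tt N3506 F25308) (tt N5951 (iv F25470)) (tt N5849 F25309) (tt N3488 (iv D14492)))
theorem Q5888 : ∀ i, i < 5888 → P i := stepQ 5887 Q5887 (allL N5887 (tt N3489 (iv D14493)) (tt N9550 D19721) (tt N4211 F35323) (tt N3507 F25310) (tt N4509 F35324) (tt N9546 (iv F37139)) (tt N9551 D19722))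
theorem Q5889 : ∀ i, i < 5889 → P i := stepQ 5888 Q5888 (allL N5888 (tt N4211 F35304) (tt N5879 F25311) (tt N3489 (iv D14494)) (tt N9552 D19723) (tt N4508 F35305) (tt N9547 (iv F37145)) (tt N6304 F35306))
theorem Q5890 : ∀ i, i < 5890 → P i := stepQ 5889 Q5889 (allL N5889 (tt N9551 (iv F37155)) (tt N5776 F25312) (tt N6304 F35299) (tt N3509 F25313) (tt N6503 (iv F35298)) (tt N6315 F35300) (tt N3489 (iv D14495)))
theorem Q5891 : ∀ i, i < 5891 → P i := stepQ 5890 Q5890 (allL N5890 (tt N3490 (iv D14496)) (tt N7375 F29241) (tt N6369 (iv F28914)) (tt N9527 (iv F37080)) (tt N3588 F25314) (tt N9553 D19724) (tt N9234 F36298))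
theorem Q5892 : ∀ i, i < 5892 → P i := stepQ 5891 Q5891 (allL N5891 (tt N6369 F28913) (tt N5401 (iv F28909)) (tt N3490 (iv D14497)) (tt N8788 (iv F33858)) (tt N3589 F25315) (tt N5143 F28908) (tt N9554 D19725))
theorem Q5893 : ∀ i, i < 5893 → P i := stepQ 5892 Q5892 (allL N5892 (tt N9553 (iv F37163)) (tt N5616 F29008) (tt N5143 (iv F28906)) (tt N5610 (iv F29007)) (tt N3590 F25316) (tt N3490 (iv D14498)) (tt N9555 D19726))
theorem Q5894 : ∀ i, i < 5894 → P i := stepQ 5893 Q5893 (allL N5893 (tt N9234 F36297) (tt N9556 D19727) (tt N9554 (iv F37168)) (tt N9528 (iv F37084)) (tt N3591 F25317) (tt N9557 D19728) (tt N3490 (iv D14499)))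
theorem Q5895 : ∀ i, i < 5895 → P i := stepQ 5894 Q5894 (allL N5894 (tt N5401 F28912) (tt N3491 (iv D14500)) (tt N5401 F28910) (tt N9558 D19729) (tt N3592 F25318) (tt N5442 (iv F28911)) (tt N8979 (iv F35652)))
theorem Q5896 : ∀ i, i < 5896 → P i := stepQ 5895 Q5895 (allL N5895 (tt N3493 F25319) (tt N9558 (iv F37181)) (tt N9559 D19730) (tt N3491 (iv D14501)) (tt N9560 D19731) (tt N9495 (iv F36999)) (tt N9561 D19732))
theorem Q5897 : ∀ i, i < 5897 → P i := stepQ 5896 Q5896 (allL N5896 (tt N3494 F25320) (tt N9562 D19733) (tt N3492 F25321) (tt N9561 (iv F37191)) (tt N3594 F25322) (tt N5855 F25323) (tt N3491 (iv D14502)))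
theorem Q5898 : ∀ i, i < 5898 → P i := stepQ 5897 Q5897 (allL N5897 (tt N9563 D19734) (tt N3492 (iv D14503)) (tt N9564 D19735) (tt N9529 (iv F37086)) (tt N3595 F25324) (tt N9565 D19736) (tt N9556 (iv F37176)))
theorem Q5899 : ∀ i, i < 5899 → P i := stepQ 5898 Q5898 (allL N5898 (tt N9559 (iv F37185)) (tt N3728 F25325) (tt N3493 (iv D14504)) (tt N6999 (iv F27750)) (tt N9566 D19737) (tt N9496 (iv F37000)) (tt N9567 D19738))
theorem Q5900 : ∀ i, i < 5900 → P i := stepQ 5899 Q5899 (allL N5899 (tt N9560 (iv F37187)) (tt N3510 F25326) (tt N9566 (iv F37201)) (tt N3597 F25327) (tt N3493 (iv D14505)) (tt N9497 (iv F37003)) (tt N9568 D19739))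
theorem Q5901 : ∀ i, i < 5901 → P i := stepQ 5900 Q5900 (allL N5900 (tt N9561 (iv F37190)) (tt N7393 (iv F28570)) (tt N9567 (iv F37202)) (tt N3494 F25328) (tt N9568 (iv F37204)) (tt N9569 D19740) (tt N3493 (iv D14506)))
theorem Q5902 : ∀ i, i < 5902 → P i := stepQ 5901 Q5901 (allL N5901 (tt N5855 F25329) (tt N9570 D19741) (tt N3496 F25330) (tt N9569 (iv F37206)) (tt N3599 F25331) (tt N3494 (iv D14507)) (tt N5853 F25332))
theorem Q5903 : ∀ i, i < 5903 → P i := stepQ 5902 Q5902 (allL N5902 (tt N3495 (iv D14508)) (tt N9571 D19742) (tt N9572 D19743) (tt N9533 (iv F37095)) (tt N3600 F25333) (tt N5911 (iv F25351)) (tt N3497 F25334))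
theorem Q5904 : ∀ i, i < 5904 → P i := stepQ 5903 Q5903 (allL N5903 (tt N9572 (iv F37210)) (tt N7383 (iv F28554)) (tt N3495 (iv D14509)) (tt N9573 D19744) (tt N3601 F25335) (tt N9574 D19745) (tt N3498 F25336))
theorem Q5905 : ∀ i, i < 5905 → P i := stepQ 5904 Q5904 (allL N5904 (tt N5911 (iv F25349)) (tt N9575 D19746) (tt N9574 (iv F37214)) (tt N9535 (iv F37107)) (tt N3602 F25337) (tt N3495 (iv D14510)) (tt N5908 (iv F25344)))
theorem Q5906 : ∀ i, i < 5906 → P i := stepQ 5905 Q5905 (allL N5905 (tt N9576 D19747) (tt N3496 (iv D14511)) (tt N9577 D19748) (tt N9536 (iv F37109)) (tt N3603 F25338) (tt N9575 (iv F37217)) (tt N9578 D19749))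
theorem Q5907 : ∀ i, i < 5907 → P i := stepQ 5906 Q5906 (allL N5906 (tt N9579 D19750) (tt N3497 (iv D14512)) (tt N9580 D19751) (tt N9537 (iv F37111)) (tt N3604 F25339) (tt N9581 D19752) (tt N9582 D19753))
theorem Q5908 : ∀ i, i < 5908 → P i := stepQ 5907 Q5907 (allL N5907 (tt N3498 F25340) (tt N9583 D19754) (tt N3497 (iv D14513)) (tt N9584 D19755) (tt N3605 F25341) (tt N9585 D19756) (tt N9572 (iv F37212)))
theorem Q5909 : ∀ i, i < 5909 → P i := stepQ 5908 Q5908 (allL N5908 (tt N3499 F25342) (tt N9551 (iv F37160)) (tt N9585 (iv F37236)) (tt N9538 (iv F37115)) (tt N3606 F25343) (tt N3497 (iv D14514)) (tt N5904 F25344))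
theorem Q5910 : ∀ i, i < 5910 → P i := stepQ 5909 Q5909 (allL N5909 (tt N9584 (iv F37234)) (tt N3512 F25345) (tt N9586 D19757) (tt N3498 (iv D14515)) (tt N9587 D19758) (tt N9588 D19759) (tt N9573 (iv F37213)))
theorem Q5911 : ∀ i, i < 5911 → P i := stepQ 5910 Q5910 (allL N5910 (tt N9585 (iv F37235)) (tt N5910 F25346) (tt N3499 F25347) (tt N9588 (iv F37242)) (tt N3608 F25348) (tt N3498 (iv D14516)) (tt N9589 D19760))
theorem Q5912 : ∀ i, i < 5912 → P i := stepQ 5911 Q5911 (allL N5911 (tt N5904 F25349) (tt N9590 D19761) (tt N9589 (iv F37244)) (tt N6288 (iv F35313)) (tt N3609 F25350) (tt N5902 F25351) (tt N3499 (iv D14517)))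
theorem Q5913 : ∀ i, i < 5913 → P i := stepQ 5912 Q5912 (allL N5912 (tt N3500 (iv D14518)) (tt N7406 (iv F28600)) (tt N6379 F26624) (tt N9540 (iv F37122)) (tt N3610 F25352) (tt N9197 F36193) (tt N9591 D19762))
theorem Q5914 : ∀ i, i < 5914 → P i := stepQ 5913 Q5913 (allL N5913 (tt N6379 (iv F26625)) (tt N5417 F34522) (tt N3500 (iv D14519)) (tt N8825 F34794) (tt N3611 F25353) (tt N9592 D19763) (tt N5162 F34523))
theorem Q5915 : ∀ i, i < 5915 → P i := stepQ 5914 Q5914 (allL N5914 (tt N9197 F36192) (tt N9593 D19764) (tt N9592 (iv F37254)) (tt N9541 (iv F37126)) (tt N3612 F25354) (tt N3500 (iv D14520)) (tt N9594 D19765))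
theorem Q5916 : ∀ i, i < 5916 → P i := stepQ 5915 Q5915 (allL N5915 (tt N9591 (iv F37249)) (tt N5650 F34531) (tt N5162 F34532) (tt N5647 F34533) (tt N3613 F25355) (tt N9595 D19766) (tt N3500 (iv D14521)))
theorem Q5917 : ∀ i, i < 5917 → P i := stepQ 5916 Q5916 (allL N5916 (tt N5417 (iv F34604)) (tt N3501 (iv D14522)) (tt N5417 (iv F34605)) (tt N9596 D19767) (tt N3614 F25356) (tt N9044 (iv F35801)) (tt N5486 F34603))
theorem Q5918 : ∀ i, i < 5918 → P i := stepQ 5917 Q5917 (allL N5917 (tt N3503 F25357) (tt N9596 (iv F37267)) (tt N9597 D19768) (tt N3501 (iv D14523)) (tt N9598 D19769) (tt N9599 D19770) (tt N9511 (iv F37032)))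
theorem Q5919 : ∀ i, i < 5919 → P i := stepQ 5918 Q5918 (allL N5918 (tt N3504 F25358) (tt N9600 D19771) (tt N3502 F25359) (tt N9599 (iv F37277)) (tt N3616 F25360) (tt N3501 (iv D14524)) (tt N5863 F25361))
theorem Q5920 : ∀ i, i < 5920 → P i := stepQ 5919 Q5919 (allL N5919 (tt N9601 D19772) (tt N3502 (iv D14525)) (tt N9602 D19773) (tt N9542 (iv F37128)) (tt N3617 F25362) (tt N9593 (iv F37257)) (tt N9603 D19774))
theorem Q5921 : ∀ i, i < 5921 → P i := stepQ 5920 Q5920 (allL N5920 (tt N9597 (iv F37271)) (tt N3741 F25363) (tt N3503 (iv D14526)) (tt N7015 F34693) (tt N9604 D19775) (tt N9605 D19776) (tt N9512 (iv F37033)))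
theorem Q5922 : ∀ i, i < 5922 → P i := stepQ 5921 Q5921 (allL N5921 (tt N9598 (iv F37273)) (tt N3513 F25364) (tt N9604 (iv F37287)) (tt N3619 F25365) (tt N3503 (iv D14527)) (tt N9606 D19777) (tt N9513 (iv F37036)))
theorem Q5923 : ∀ i, i < 5923 → P i := stepQ 5922 Q5922 (allL N5922 (tt N9599 (iv F37276)) (tt N7423 (iv F28632)) (tt N9605 (iv F37288)) (tt N3504 F25366) (tt N9606 (iv F37290)) (tt N3503 (iv D14528)) (tt N9607 D19778))
theorem Q5924 : ∀ i, i < 5924 → P i := stepQ 5923 Q5923 (allL N5923 (tt N5863 F25367) (tt N9608 D19779) (tt N3506 F25368) (tt N9607 (iv F37292)) (tt N3621 F25369) (tt N5861 F25370) (tt N3504 (iv D14529)))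
theorem Q5925 : ∀ i, i < 5925 → P i := stepQ 5924 Q5924 (allL N5924 (tt N3505 (iv D14530)) (tt N9609 D19780) (tt N9610 D19781) (tt N9546 (iv F37137)) (tt N3622 F25371) (tt N3507 F25372) (tt N5933 (iv F25389)))
theorem Q5926 : ∀ i, i < 5926 → P i := stepQ 5925 Q5925 (allL N5925 (tt N9610 (iv F37296)) (tt N7413 (iv F28615)) (tt N3505 (iv D14531)) (tt N9611 D19782) (tt N3623 F25373) (tt N3508 F25374) (tt N9612 D19783))
theorem Q5927 : ∀ i, i < 5927 → P i := stepQ 5926 Q5926 (allL N5926 (tt N5933 (iv F25387)) (tt N9613 D19784) (tt N9612 (iv F37300)) (tt N9548 (iv F37149)) (tt N3624 F25375) (tt N5930 (iv F25382)) (tt N3505 (iv D14532)))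
theorem Q5928 : ∀ i, i < 5928 → P i := stepQ 5927 Q5927 (allL N5927 (tt N9614 D19785) (tt N3506 (iv D14533)) (tt N9615 D19786) (tt N9549 (iv F37151)) (tt N3625 F25376) (tt N9616 D19787) (tt N9613 (iv F37305)))
theorem Q5929 : ∀ i, i < 5929 → P i := stepQ 5928 Q5928 (allL N5928 (tt N9617 D19788) (tt N3507 (iv D14534)) (tt N9618 D19789) (tt N9550 (iv F37153)) (tt N3626 F25377) (tt N9619 D19790) (tt N9620 D19791))
theorem Q5930 : ∀ i, i < 5930 → P i := stepQ 5929 Q5929 (allL N5929 (tt N3508 F25378) (tt N9621 D19792) (tt N3507 (iv D14535)) (tt N9622 D19793) (tt N3627 F25379) (tt N9610 (iv F37298)) (tt N9623 D19794))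
theorem Q5931 : ∀ i, i < 5931 → P i := stepQ 5930 Q5930 (allL N5930 (tt N3509 F25380) (tt N9538 F37118) (tt N9623 (iv F37325)) (tt N9551 (iv F37157)) (tt N3628 F25381) (tt N5926 F25382) (tt N3507 (iv D14536)))
theorem Q5932 : ∀ i, i < 5932 → P i := stepQ 5931 Q5931 (allL N5931 (tt N9622 (iv F37323)) (tt N3515 F25383) (tt N9624 D19795) (tt N3508 (iv D14537)) (tt N9625 D19796) (tt N9611 (iv F37299)) (tt N9626 D19797))
theorem Q5933 : ∀ i, i < 5933 → P i := stepQ 5932 Q5932 (allL N5932 (tt N9623 (iv F37324)) (tt N5932 F25384) (tt N3509 F25385) (tt N9626 (iv F37331)) (tt N3630 F25386) (tt N9627 D19798) (tt N3508 (iv D14538)))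
theorem Q5934 : ∀ i, i < 5934 → P i := stepQ 5933 Q5933 (allL N5933 (tt N5926 F25387) (tt N9628 D19799) (tt N9627 (iv F37333)) (tt N6315 (iv F35301)) (tt N3631 F25388) (tt N3509 (iv D14539)) (tt N5924 F25389))
theorem Q5935 : ∀ i, i < 5935 → P i := stepQ 5934 Q5934 (allL N5934 (tt N9629 D19800) (tt N3511 (iv D14540)) (tt N3762 F25390) (tt N9630 D19801) (tt N3634 F25391) (tt N9631 D19802) (tt N9632 D19803))
theorem Q5936 : ∀ i, i < 5936 → P i := stepQ 5935 Q5935 (allL N5935 (tt N3512 F25392) (tt N9630 (iv F37340)) (tt N5944 (iv F25413)) (tt N3511 (iv D14541)) (tt N9633 D19804) (tt N5935 F25393) (tt N7379 (iv F28548)))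
theorem Q5937 : ∀ i, i < 5937 → P i := stepQ 5936 Q5936 (allL N5936 (tt N5944 (iv F25412)) (tt N9634 D19805) (tt N3512 (iv D14542)) (tt N5942 (iv F25406)) (tt N9635 D19806) (tt N5936 F25394) (tt N7384 (iv F28557)))
theorem Q5938 : ∀ i, i < 5938 → P i := stepQ 5937 Q5937 (allL N5937 (tt N9633 (iv F37370)) (tt N9587 (iv F37239)) (tt N9635 (iv F37373)) (tt N3637 F25395) (tt N3512 (iv D14543)) (tt N5937 F25396) (tt N7385 (iv F28559)))
theorem Q5939 : ∀ i, i < 5939 → P i := stepQ 5938 Q5938 (allL N5938 (tt N9636 D19807) (tt N3514 (iv D14544)) (tt N3752 F25397) (tt N9637 D19808) (tt N3640 F25398) (tt N9638 D19809) (tt N9639 D19810))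
theorem Q5940 : ∀ i, i < 5940 → P i := stepQ 5939 Q5939 (allL N5939 (tt N3515 F25399) (tt N9637 (iv F37378)) (tt N5947 (iv F25426)) (tt N3514 (iv D14545)) (tt N9640 D19811) (tt N7410 (iv F28610)) (tt N5939 F25400))
theorem Q5941 : ∀ i, i < 5941 → P i := stepQ 5940 Q5940 (allL N5940 (tt N5947 (iv F25425)) (tt N9641 D19812) (tt N3515 (iv D14546)) (tt N5945 (iv F25419)) (tt N9642 D19813) (tt N7415 (iv F28620)) (tt N5940 F25401))
theorem Q5942 : ∀ i, i < 5942 → P i := stepQ 5941 Q5941 (allL N5941 (tt N9640 (iv F37384)) (tt N9625 (iv F37328)) (tt N9642 (iv F37387)) (tt N3643 F25402) (tt N3515 (iv D14547)) (tt N7416 (iv F28622)) (tt N5941 F25403))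
theorem Q5943 : ∀ i, i < 5943 → P i := stepQ 5942 Q5942 (allL N5942 (tt N3517 F25404) (tt N9643 D19814) (tt N3516 (iv D14548)) (tt N5936 F25406) (tt N5364 F32992) (tt N5942 F25405) (tt N7432 (iv F28651)))
theorem Q5944 : ∀ i, i < 5944 → P i := stepQ 5943 Q5943 (allL N5943 (tt N9644 D19815) (tt N3517 (iv D14550)) (tt N5943 F25411) (tt N9645 D19816) (tt N5365 F32993) (tt N9646 D19817) (tt N9647 D19818))
theorem Q5945 : ∀ i, i < 5945 → P i := stepQ 5944 Q5944 (allL N5944 (tt N5936 F25412) (tt N9645 (iv F37395)) (tt N5935 F25413) (tt N3517 (iv D14551)) (tt N9648 D19819) (tt N5944 F25414) (tt N7434 (iv F28660)))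
theorem Q5946 : ∀ i, i < 5946 → P i := stepQ 5945 Q5945 (allL N5945 (tt N3519 F25417) (tt N9649 D19820) (tt N3518 (iv D14553)) (tt N5940 F25419) (tt N5374 F33004) (tt N7436 (iv F28668)) (tt N5945 F25418))
theorem Q5947 : ∀ i, i < 5947 → P i := stepQ 5946 Q5946 (allL N5946 (tt N9650 D19821) (tt N3519 (iv D14555)) (tt N5946 F25424) (tt N9651 D19822) (tt N5375 F33005) (tt N9652 D19823) (tt N9646 F61379))
theorem Q5948 : ∀ i, i < 5948 → P i := stepQ 5947 Q5947 (allL N5947 (tt N5940 F25425) (tt N9651 (iv F37410)) (tt N5939 F25426) (tt N3519 (iv D14556)) (tt N9653 D19825) (tt N7438 (iv F28677)) (tt N5947 F25427))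
theorem Q5949 : ∀ i, i < 5949 → P i := stepQ 5948 Q5948 (allL N5948 (tt N5200 (iv F28963)) (tt N5961 (iv F25499)) (tt N6137 F29221) (tt N3524 F25453) (tt N3530 F25454) (tt N5998 (iv F25584)) (tt N3520 (iv D14568)))
theorem Q5950 : ∀ i, i < 5950 → P i := stepQ 5949 Q5949 (allL N5949 (tt N5208 (iv F34515)) (tt N5956 (iv F25485)) (tt N6150 F34514) (tt N3527 F25461) (tt N3534 F25462) (tt N3521 (iv D14571)) (tt N6004 (iv F25603)))
theorem Q5951 : ∀ i, i < 5951 → P i := stepQ 5950 Q5950 (allL N5950 (tt N3524 F25464) (tt N9654 D19826) (tt N4488 F25465) (tt N5200 (iv F28964)) (tt N5877 F25466) (tt N5868 F25467) (tt N3522 (iv D14573)))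
theorem Q5952 : ∀ i, i < 5952 → P i := stepQ 5951 Q5951 (allL N5951 (tt N3527 F25469) (tt N9655 D19827) (tt N4524 F34724) (tt N5208 F34538) (tt N5886 F25470) (tt N3525 (iv D14576)) (tt N5870 F25471))
theorem Q5953 : ∀ i, i < 5953 → P i := stepQ 5952 Q5952 (allL N5952 (tt N6015 (iv F25625)) (tt N6667 (iv F35003)) (tt N3530 F25481) (tt N8904 (iv F34150)) (tt N6137 (iv F29222)) (tt N6010 (iv F25622)) (tt N3529 (iv D14583)))
theorem Q5954 : ∀ i, i < 5954 → P i := stepQ 5953 Q5953 (allL N5953 (tt N9656 D19828) (tt N3530 (iv D14584)) (tt N9657 D19829) (tt N3540 F25482) (tt N5961 (iv F25501)) (tt N9658 D19830) (tt N3531 F25483))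
theorem Q5955 : ∀ i, i < 5955 → P i := stepQ 5954 Q5954 (allL N5954 (tt N3531 (iv D14585)) (tt N8149 (iv F37441)) (tt N8083 (iv F37440)) (tt N3541 F25484) (tt N5959 (iv F25496)) (tt N9659 D19833) (tt N9656 (iv F37431)))
theorem Q5956 : ∀ i, i < 5956 → P i := stepQ 5955 Q5955 (allL N5955 (tt N8083 (iv F37439)) (tt N5960 (iv F25497)) (tt N3531 (iv D14586)) (tt N9660 D19834) (tt N5960 (iv F25498)) (tt N9661 D19835) (tt N9657 (iv F37432)))
theorem Q5957 : ∀ i, i < 5957 → P i := stepQ 5956 Q5956 (allL N5956 (tt N9659 (iv F37436)) (tt N5949 F25485) (tt N9661 (iv F37447)) (tt N3543 F25486) (tt N5958 (iv F25493)) (tt N3531 (iv D14587)) (tt N9662 D19836))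
theorem Q5958 : ∀ i, i < 5958 → P i := stepQ 5957 Q5957 (allL N5957 (tt N6031 (iv F25651)) (tt N6620 F35369) (tt N3534 F25491) (tt N8911 (iv F35370)) (tt N6150 (iv F35013)) (tt N3533 (iv D14591)) (tt N6026 (iv F25648)))
theorem Q5959 : ∀ i, i < 5959 → P i := stepQ 5958 Q5958 (allL N5958 (tt N9663 D19837) (tt N3534 (iv D14592)) (tt N9664 D19838) (tt N3548 F25492) (tt N5956 F25493) (tt N3535 F25494) (tt N9665 D19839))
theorem Q5960 : ∀ i, i < 5960 → P i := stepQ 5959 Q5959 (allL N5959 (tt N3535 (iv D14593)) (tt N8181 (iv F37445)) (tt N8124 F37443) (tt N3549 F25495) (tt N5954 F25496) (tt N9663 (iv F37453)) (tt N9666 D19840))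
theorem Q5961 : ∀ i, i < 5961 → P i := stepQ 5960 Q5960 (allL N5960 (tt N8124 (iv F37444)) (tt N5955 F25497) (tt N3535 (iv D14594)) (tt N9667 D19841) (tt N5955 F25498) (tt N9664 (iv F37455)) (tt N9668 D19842))
theorem Q5962 : ∀ i, i < 5962 → P i := stepQ 5961 Q5961 (allL N5961 (tt N9666 (iv F37458)) (tt N5948 F25499) (tt N9668 (iv F37463)) (tt N3551 F25500) (tt N5953 F25501) (tt N9669 D19843) (tt N3535 (iv D14595)))
theorem Q5963 : ∀ i, i < 5963 → P i := stepQ 5962 Q5962 (allL N5962 (tt N8555 (iv F33341)) (tt N6066 (iv F25700)) (tt N8588 (iv F33462)) (tt N4904 F32602) (tt N9493 (iv F36993)) (tt N8588 (iv F33463)) (tt N3536 (iv D14599)))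
theorem Q5964 : ∀ i, i < 5964 → P i := stepQ 5963 Q5963 (allL N5963 (tt N9408 (iv F36768)) (tt N3537 (iv D14600)) (tt N5526 F29160) (tt N5440 F29162) (tt N9494 (iv F36996)) (tt N5439 (iv F29161)) (tt N9670 D19844))
theorem Q5965 : ∀ i, i < 5965 → P i := stepQ 5964 Q5964 (allL N5964 (tt N3538 F25506) (tt N5440 (iv F29163)) (tt N4975 (iv F29236)) (tt N3537 (iv D14601)) (tt N9671 D19845) (tt N3593 F25507) (tt N6057 (iv F25694)))
theorem Q5966 : ∀ i, i < 5966 → P i := stepQ 5965 Q5965 (allL N5965 (tt N9671 (iv F37472)) (tt N3800 F25509) (tt N4947 (iv F29021)) (tt N9497 (iv F37002)) (tt N3538 (iv D14603)) (tt N3597 F25510) (tt N9672 D19846))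
theorem Q5967 : ∀ i, i < 5967 → P i := stepQ 5966 Q5966 (allL N5966 (tt N6057 (iv F25692)) (tt N9673 D19847) (tt N4976 F29233) (tt N3539 F25511) (tt N9672 (iv F37477)) (tt N6049 (iv F25684)) (tt N3538 (iv D14604)))
theorem Q5968 : ∀ i, i < 5968 → P i := stepQ 5967 Q5967 (allL N5967 (tt N9674 D19848) (tt N3539 (iv D14605)) (tt N9675 D19849) (tt N9673 (iv F37478)) (tt N9499 (iv F37005)) (tt N9676 D19850) (tt N3802 F25512))
theorem Q5969 : ∀ i, i < 5969 → P i := stepQ 5968 Q5968 (allL N5968 (tt N3540 (iv D14606)) (tt N9677 D19851) (tt N9678 D19852) (tt N9656 (iv F37430)) (tt N9500 (iv F37007)) (tt N5976 (iv F25521)) (tt N3541 F25513))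
theorem Q5970 : ∀ i, i < 5970 → P i := stepQ 5969 Q5969 (allL N5969 (tt N9678 (iv F37483)) (tt N9675 (iv F37481)) (tt N3540 (iv D14607)) (tt N9679 D19853) (tt N9501 (iv F37009)) (tt N9680 D19854) (tt N3542 F25514))
theorem Q5971 : ∀ i, i < 5971 → P i := stepQ 5970 Q5970 (allL N5970 (tt N5976 (iv F25520)) (tt N6053 (iv F25685)) (tt N9680 (iv F37486)) (tt N9658 (iv F37433)) (tt N9502 (iv F37011)) (tt N3540 (iv D14608)) (tt N5973 (iv F25517)))
theorem Q5972 : ∀ i, i < 5972 → P i := stepQ 5971 Q5971 (allL N5971 (tt N9681 D19855) (tt N3541 (iv D14609)) (tt N9682 D19856) (tt N8149 (iv F37442)) (tt N9503 (iv F37012)) (tt N9488 F36981) (tt N9683 D19857))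
theorem Q5973 : ∀ i, i < 5973 → P i := stepQ 5972 Q5972 (allL N5972 (tt N3542 F25515) (tt N9684 D19858) (tt N3541 (iv D14610)) (tt N9685 D19859) (tt N9504 (iv F37014)) (tt N9686 D19860) (tt N9678 (iv F37484)))
theorem Q5974 : ∀ i, i < 5974 → P i := stepQ 5973 Q5973 (allL N5973 (tt N3543 F25516) (tt N9451 (iv F36867)) (tt N9686 (iv F37493)) (tt N9659 (iv F37437)) (tt N9505 (iv F37016)) (tt N3541 (iv D14611)) (tt N5970 F25517))
theorem Q5975 : ∀ i, i < 5975 → P i := stepQ 5974 Q5974 (allL N5974 (tt N9685 (iv F37491)) (tt N3809 F25518) (tt N9687 D19861) (tt N3542 (iv D14612)) (tt N9688 D19862) (tt N9689 D19863) (tt N9679 (iv F37485)))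
theorem Q5976 : ∀ i, i < 5976 → P i := stepQ 5975 Q5975 (allL N5975 (tt N9686 (iv F37492)) (tt N7723 (iv F35278)) (tt N3543 F25519) (tt N9689 (iv F37496)) (tt N9507 (iv F37020)) (tt N3542 (iv D14613)) (tt N9690 D19864))
theorem Q5977 : ∀ i, i < 5977 → P i := stepQ 5976 Q5976 (allL N5976 (tt N5970 F25520) (tt N9691 D19865) (tt N9690 (iv F37498)) (tt N9662 (iv F37449)) (tt N9508 (iv F37022)) (tt N5968 F25521) (tt N3543 (iv D14614)))
theorem Q5978 : ∀ i, i < 5978 → P i := stepQ 5977 Q5977 (allL N5977 (tt N8564 F34545) (tt N6104 (iv F25746)) (tt N8579 F34546) (tt N4923 F34547) (tt N9509 (iv F37026)) (tt N3544 (iv D14617)) (tt N8579 F34548))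
theorem Q5979 : ∀ i, i < 5979 → P i := stepQ 5978 Q5978 (allL N5978 (tt N9409 (iv F36772)) (tt N3545 (iv D14619)) (tt N5571 F34567) (tt N5485 F34565) (tt N9510 (iv F37029)) (tt N9692 D19866) (tt N5483 (iv F34566)))
theorem Q5980 : ∀ i, i < 5980 → P i := stepQ 5979 Q5979 (allL N5979 (tt N3546 F25523) (tt N5485 (iv F34564)) (tt N4977 F34454) (tt N3545 (iv D14620)) (tt N9693 D19867) (tt N6095 (iv F25740)) (tt N3615 F25524))
theorem Q5981 : ∀ i, i < 5981 → P i := stepQ 5980 Q5980 (allL N5980 (tt N9693 (iv F37505)) (tt N3819 F25526) (tt N4948 F34455) (tt N9513 (iv F37035)) (tt N3546 (iv D14622)) (tt N9694 D19868) (tt N3619 F25527))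
theorem Q5982 : ∀ i, i < 5982 → P i := stepQ 5981 Q5981 (allL N5981 (tt N6095 (iv F25738)) (tt N9695 D19869) (tt N4978 F34456) (tt N3547 F25528) (tt N9694 (iv F37510)) (tt N3546 (iv D14623)) (tt N6087 (iv F25730)))
theorem Q5983 : ∀ i, i < 5983 → P i := stepQ 5982 Q5982 (allL N5982 (tt N9696 D19870) (tt N3547 (iv D14624)) (tt N9697 D19871) (tt N9695 (iv F37511)) (tt N9515 (iv F37038)) (tt N3821 F25529) (tt N9698 D19872))
theorem Q5984 : ∀ i, i < 5984 → P i := stepQ 5983 Q5983 (allL N5983 (tt N3548 (iv D14625)) (tt N9699 D19873) (tt N9700 D19874) (tt N9663 (iv F37451)) (tt N9516 (iv F37041)) (tt N3549 F25530) (tt N5991 (iv F25538)))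
theorem Q5985 : ∀ i, i < 5985 → P i := stepQ 5984 Q5984 (allL N5984 (tt N9700 (iv F37516)) (tt N9697 (iv F37514)) (tt N3548 (iv D14626)) (tt N9701 D19875) (tt N9517 (iv F37043)) (tt N3550 F25531) (tt N9702 D19876))
theorem Q5986 : ∀ i, i < 5986 → P i := stepQ 5985 Q5985 (allL N5985 (tt N5991 (iv F25537)) (tt N6091 (iv F25731)) (tt N9702 (iv F37519)) (tt N9665 (iv F37456)) (tt N9518 (iv F37046)) (tt N5988 (iv F25534)) (tt N3548 (iv D14627)))
theorem Q5987 : ∀ i, i < 5987 → P i := stepQ 5986 Q5986 (allL N5986 (tt N9703 D19877) (tt N3549 (iv D14628)) (tt N9704 D19878) (tt N8181 F37446) (tt N9519 (iv F37048)) (tt N9705 D19879) (tt N9480 F36966))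
theorem Q5988 : ∀ i, i < 5988 → P i := stepQ 5987 Q5987 (allL N5987 (tt N3550 F25532) (tt N9706 D19880) (tt N3549 (iv D14629)) (tt N9707 D19881) (tt N9520 (iv F37050)) (tt N9700 (iv F37517)) (tt N9708 D19882))
theorem Q5989 : ∀ i, i < 5989 → P i := stepQ 5988 Q5988 (allL N5988 (tt N3551 F25533) (tt N9442 F36853) (tt N9708 (iv F37527)) (tt N9666 (iv F37459)) (tt N9521 (iv F37053)) (tt N5985 F25534) (tt N3549 (iv D14630)))
theorem Q5990 : ∀ i, i < 5990 → P i := stepQ 5989 Q5989 (allL N5989 (tt N9707 (iv F37525)) (tt N3828 F25535) (tt N9709 D19883) (tt N3550 (iv D14631)) (tt N9710 D19884) (tt N9701 (iv F37518)) (tt N9711 D19885))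
theorem Q5991 : ∀ i, i < 5991 → P i := stepQ 5990 Q5990 (allL N5990 (tt N9708 (iv F37526)) (tt N7885 (iv F30036)) (tt N3551 F25536) (tt N9711 (iv F37530)) (tt N9523 (iv F37057)) (tt N9712 D19886) (tt N3550 (iv D14632)))
theorem Q5992 : ∀ i, i < 5992 → P i := stepQ 5991 Q5991 (allL N5991 (tt N5985 F25537) (tt N9713 D19887) (tt N9712 (iv F37532)) (tt N9669 (iv F37466)) (tt N9524 (iv F37060)) (tt N3551 (iv D14633)) (tt N5983 F25538))
theorem Q5993 : ∀ i, i < 5993 → P i := stepQ 5992 Q5992 (allL N5992 (tt N5995 (iv F28808)) (tt N8478 (iv F33157)) (tt N5994 (iv F28815)) (tt N5011 F25545) (tt N3556 F25546) (tt N5994 (iv F25559)) (tt N3552 (iv D14636)))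
theorem Q5994 : ∀ i, i < 5994 → P i := stepQ 5993 Q5993 (allL N5993 (tt N5997 (iv F34487)) (tt N8475 (iv F33136)) (tt N5996 (iv F35377)) (tt N5014 F25553) (tt N3559 F25554) (tt N3553 (iv D14639)) (tt N5996 (iv F25570)))
theorem Q5995 : ∀ i, i < 5995 → P i := stepQ 5994 Q5994 (allL N5994 (tt N3556 F25557) (tt N4872 F34988) (tt N5992 F28815) (tt N5017 F25558) (tt N5995 (iv F28810)) (tt N5992 F25559) (tt N3554 (iv D14642)))
theorem Q5996 : ∀ i, i < 5996 → P i := stepQ 5995 Q5995 (allL N5995 (tt N5992 F28808) (tt N8111 (iv F34993)) (tt N3556 F25561) (tt N5020 F28809) (tt N5994 F28810) (tt N3556 F28811) (tt N3555 (iv D14644)))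
theorem Q5997 : ∀ i, i < 5997 → P i := stepQ 5996 Q5996 (allL N5996 (tt N3559 F25568) (tt N4843 F32403) (tt N5993 F35377) (tt N5023 F25569) (tt N5997 (iv F34490)) (tt N3557 (iv D14648)) (tt N5993 F25570))
theorem Q5998 : ∀ i, i < 5998 → P i := stepQ 5997 Q5997 (allL N5997 (tt N5993 F34487) (tt N8067 F34488) (tt N3559 F25572) (tt N5026 F34489) (tt N5996 F34490) (tt N3558 (iv D14650)) (tt N3559 F34491))
theorem Q5999 : ∀ i, i < 5999 → P i := stepQ 5998 Q5998 (allL N5998 (tt N3562 F25581) (tt N9714 D19888) (tt N6142 (iv F29223)) (tt N4487 F25582) (tt N3570 F25583) (tt N5948 F25584) (tt N3560 (iv D14654)))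
theorem Q6000 : ∀ i, i < 6000 → P i := stepQ 5999 Q5999 (allL N5999 (tt N6142 F28957) (tt N8113 (iv F34987)) (tt N3562 F25585) (tt N8332 (iv F32144)) (tt N3572 F25586) (tt N3648 F28958) (tt N3561 (iv D14656)))
theorem Q6001 : ∀ i, i < 6001 → P i := stepQ 6000 Q6000 (allL N6000 (tt N9715 D19889) (tt N3562 (iv D14657)) (tt N9716 D19890) (tt N9525 (iv F37063)) (tt N3573 F25587) (tt N9717 D19891) (tt N3563 F25588))
theorem Q6002 : ∀ i, i < 6002 → P i := stepQ 6001 Q6001 (allL N6001 (tt N3563 (iv D14659)) (tt N9718 D19892) (tt N9719 D19893) (tt N4544 F35320) (tt N3575 F25593) (tt N9720 D19894) (tt N9715 (iv F37549)))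
theorem Q6003 : ∀ i, i < 6003 → P i := stepQ 6002 Q6002 (allL N6002 (tt N9719 (iv F37559)) (tt N6430 F39547) (tt N3563 (iv D14660)) (tt N6429 (iv F39552)) (tt N3576 F25594) (tt N9721 D19896) (tt N9716 (iv F37552)))
theorem Q6004 : ∀ i, i < 6004 → P i := stepQ 6003 Q6003 (allL N6003 (tt N9720 (iv F37561)) (tt N5827 F25595) (tt N9721 (iv F37566)) (tt N6468 F35316) (tt N3577 F25596) (tt N3563 (iv D14661)) (tt N6481 (iv F35315)))
theorem Q6005 : ∀ i, i < 6005 → P i := stepQ 6004 Q6004 (allL N6004 (tt N3566 F25600) (tt N9722 D19897) (tt N6155 F34499) (tt N4522 F34721) (tt N3580 F25602) (tt N3564 (iv D14664)) (tt N5949 F25603))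
theorem Q6006 : ∀ i, i < 6006 → P i := stepQ 6005 Q6005 (allL N6005 (tt N6155 F34503) (tt N8068 F34981) (tt N3566 F25604) (tt N8340 (iv F34982)) (tt N3582 F25605) (tt N3565 (iv D14666)) (tt N3656 F34504))
theorem Q6007 : ∀ i, i < 6007 → P i := stepQ 6006 Q6006 (allL N6006 (tt N9723 D19898) (tt N3566 (iv D14667)) (tt N9724 D19899) (tt N9526 (iv F37071)) (tt N3583 F25606) (tt N3567 F25607) (tt N9725 D19900))
theorem Q6008 : ∀ i, i < 6008 → P i := stepQ 6007 Q6007 (allL N6007 (tt N3567 (iv D14669)) (tt N9726 D19901) (tt N9727 D19902) (tt N4509 F35325) (tt N3585 F25612) (tt N9723 (iv F37581)) (tt N9728 D19903))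
theorem Q6009 : ∀ i, i < 6009 → P i := stepQ 6008 Q6008 (allL N6008 (tt N9727 (iv F37591)) (tt N6461 (iv F39646)) (tt N3567 (iv D14670)) (tt N6460 F39645) (tt N3586 F25613) (tt N9724 (iv F37584)) (tt N9729 D19905))
theorem Q6010 : ∀ i, i < 6010 → P i := stepQ 6009 Q6009 (allL N6009 (tt N9728 (iv F37593)) (tt N5824 F25614) (tt N9729 (iv F37598)) (tt N6503 (iv F35297)) (tt N3587 F25615) (tt N6514 (iv F35303)) (tt N3567 (iv D14671)))
theorem Q6011 : ∀ i, i < 6011 → P i := stepQ 6010 Q6010 (allL N6010 (tt N3572 F25620) (tt N3977 F35000) (tt N3570 F25621) (tt N8889 (iv F34091)) (tt N6142 F29224) (tt N5952 F25622) (tt N3569 (iv D14678)))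
theorem Q6012 : ∀ i, i < 6012 → P i := stepQ 6011 Q6011 (allL N6011 (tt N9730 D19906) (tt N3570 (iv D14679)) (tt N4056 F35001) (tt N3595 F25623) (tt N9714 (iv F37538)) (tt N9731 D19907) (tt N9236 (iv F36305)))
theorem Q6013 : ∀ i, i < 6013 → P i := stepQ 6012 Q6012 (allL N6012 (tt N8598 (iv F33489)) (tt N8300 F32006) (tt N8597 (iv F33486)) (tt N8306 (iv F32022)) (tt N3571 (iv D14681)) (tt N8612 (iv F33509)) (tt N9732 D19908))
theorem Q6014 : ∀ i, i < 6014 → P i := stepQ 6013 Q6013 (allL N6013 (tt N8889 (iv F34089)) (tt N9733 D19909) (tt N5391 (iv F29234)) (tt N3572 F25624) (tt N9732 (iv F37608)) (tt N5390 F29232) (tt N3571 (iv D14682)))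
theorem Q6015 : ∀ i, i < 6015 → P i := stepQ 6014 Q6014 (allL N6014 (tt N8116 (iv F34997)) (tt N3572 (iv D14683)) (tt N9734 D19910) (tt N9733 (iv F37610)) (tt N8113 (iv F34998)) (tt N9735 D19911) (tt N8111 F34996))
theorem Q6016 : ∀ i, i < 6016 → P i := stepQ 6015 Q6015 (allL N6015 (tt N5952 F25625) (tt N8072 (iv F30412)) (tt N3574 F25626) (tt N5390 (iv F29231)) (tt N3648 F28947) (tt N3572 (iv D14684)) (tt N3646 F28948))
theorem Q6017 : ∀ i, i < 6017 → P i := stepQ 6016 Q6016 (allL N6016 (tt N3573 (iv D14685)) (tt N9736 D19912) (tt N9737 D19913) (tt N3600 F25628) (tt N9715 (iv F37548)) (tt N6025 (iv F25641)) (tt N3575 F25629))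
theorem Q6018 : ∀ i, i < 6018 → P i := stepQ 6017 Q6017 (allL N6017 (tt N9737 (iv F37618)) (tt N9734 (iv F37613)) (tt N3573 (iv D14686)) (tt N9738 D19914) (tt N9716 (iv F37551)) (tt N9739 D19915) (tt N3576 F25630))
theorem Q6019 : ∀ i, i < 6019 → P i := stepQ 6018 Q6018 (allL N6018 (tt N6025 (iv F25639)) (tt N9740 D19916) (tt N9739 (iv F37623)) (tt N3602 F25631) (tt N9717 (iv F37556)) (tt N3573 (iv D14687)) (tt N6022 (iv F25637)))
theorem Q6020 : ∀ i, i < 6020 → P i := stepQ 6019 Q6019 (allL N6019 (tt N9741 D19917) (tt N3574 (iv D14688)) (tt N8169 (iv F33041)) (tt N3603 F25632) (tt N8571 (iv F33392)) (tt N9740 (iv F37627)) (tt N8166 F33040))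
theorem Q6021 : ∀ i, i < 6021 → P i := stepQ 6020 Q6020 (allL N6020 (tt N8584 (iv F34877)) (tt N3575 (iv D14689)) (tt N9742 D19918) (tt N3604 F25633) (tt N9718 (iv F37558)) (tt N8585 F33452) (tt N8583 (iv F35200)))
theorem Q6022 : ∀ i, i < 6022 → P i := stepQ 6021 Q6021 (allL N6021 (tt N3576 F25634) (tt N9743 D19919) (tt N3575 (iv D14690)) (tt N9744 D19920) (tt N9719 (iv F37560)) (tt N9745 D19921) (tt N9737 (iv F37620)))
theorem Q6023 : ∀ i, i < 6023 → P i := stepQ 6022 Q6022 (allL N6022 (tt N3577 F25635) (tt N9728 F37597) (tt N9745 (iv F37640)) (tt N3606 F25636) (tt N9720 (iv F37563)) (tt N3575 (iv D14691)) (tt N6018 F25637))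
theorem Q6024 : ∀ i, i < 6024 → P i := stepQ 6023 Q6023 (allL N6023 (tt N9744 (iv F37638)) (tt N8492 (iv F33207)) (tt N9746 D19922) (tt N3576 (iv D14692)) (tt N9747 D19923) (tt N9748 D19924) (tt N9738 (iv F37621)))
theorem Q6025 : ∀ i, i < 6025 → P i := stepQ 6024 Q6024 (allL N6024 (tt N9745 (iv F37639)) (tt N9749 D19925) (tt N3577 F25638) (tt N9748 (iv F37642)) (tt N9721 (iv F37567)) (tt N3576 (iv D14693)) (tt N6822 F37546))
theorem Q6026 : ∀ i, i < 6026 → P i := stepQ 6025 Q6025 (allL N6025 (tt N6018 F25639) (tt N6819 F37543) (tt N6822 (iv F37545)) (tt N3609 F25640) (tt N6481 F35314) (tt N6016 F25641) (tt N3577 (iv D14694)))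
theorem Q6027 : ∀ i, i < 6027 → P i := stepQ 6026 Q6026 (allL N6026 (tt N3582 F25646) (tt N3948 F34469) (tt N3580 F25647) (tt N8895 F34470) (tt N6155 F35012) (tt N3579 (iv D14701)) (tt N5957 F25648))
theorem Q6028 : ∀ i, i < 6028 → P i := stepQ 6027 Q6027 (allL N6027 (tt N9750 D19926) (tt N3580 (iv D14702)) (tt N4010 F35380) (tt N3617 F25649) (tt N9722 (iv F37570)) (tt N9200 (iv F36203)) (tt N9751 D19927))
theorem Q6029 : ∀ i, i < 6029 → P i := stepQ 6028 Q6028 (allL N6028 (tt N8602 (iv F35367)) (tt N8303 (iv F35365)) (tt N8601 F35366) (tt N8312 F35364) (tt N3581 (iv D14704)) (tt N9752 D19928) (tt N8617 (iv F35368)))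
theorem Q6030 : ∀ i, i < 6030 → P i := stepQ 6029 Q6029 (allL N6029 (tt N8895 F35374) (tt N9753 D19929) (tt N5396 F35375) (tt N3582 F25650) (tt N9752 (iv F37654)) (tt N3581 (iv D14705)) (tt N5395 (iv F35373)))
theorem Q6031 : ∀ i, i < 6031 → P i := stepQ 6030 Q6030 (allL N6030 (tt N8071 F35184) (tt N3582 (iv D14706)) (tt N9754 D19930) (tt N9753 (iv F37656)) (tt N8068 (iv F34983)) (tt N8067 F35185) (tt N9755 D19931))
theorem Q6032 : ∀ i, i < 6032 → P i := stepQ 6031 Q6031 (allL N6031 (tt N5957 F25651) (tt N8115 F34480) (tt N3584 F25652) (tt N5395 F35371) (tt N3656 F34481) (tt N3655 F34482) (tt N3582 (iv D14707)))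
theorem Q6033 : ∀ i, i < 6033 → P i := stepQ 6032 Q6032 (allL N6032 (tt N3583 (iv D14708)) (tt N9756 D19932) (tt N9757 D19933) (tt N3622 F25654) (tt N9723 (iv F37580)) (tt N3585 F25655) (tt N6041 (iv F25667)))
theorem Q6034 : ∀ i, i < 6034 → P i := stepQ 6033 Q6033 (allL N6033 (tt N9757 (iv F37665)) (tt N9754 (iv F37659)) (tt N3583 (iv D14709)) (tt N9758 D19934) (tt N9724 (iv F37583)) (tt N3586 F25656) (tt N9759 D19935))
theorem Q6035 : ∀ i, i < 6035 → P i := stepQ 6034 Q6034 (allL N6034 (tt N6041 (iv F25665)) (tt N9760 D19936) (tt N9759 (iv F37670)) (tt N3624 F25657) (tt N9725 (iv F37588)) (tt N6038 (iv F25663)) (tt N3583 (iv D14710)))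
theorem Q6036 : ∀ i, i < 6036 → P i := stepQ 6035 Q6035 (allL N6035 (tt N9761 D19937) (tt N3584 (iv D14711)) (tt N8198 (iv F35362)) (tt N3625 F25658) (tt N8580 (iv F35363)) (tt N8196 F35361) (tt N9760 (iv F37675)))
theorem Q6037 : ∀ i, i < 6037 → P i := stepQ 6036 Q6036 (allL N6036 (tt N8575 (iv F33404)) (tt N3585 (iv D14712)) (tt N9762 D19938) (tt N3626 F25659) (tt N9726 (iv F37590)) (tt N8574 F33403) (tt N8576 (iv F34884)))
theorem Q6038 : ∀ i, i < 6038 → P i := stepQ 6037 Q6037 (allL N6037 (tt N3586 F25660) (tt N9763 D19939) (tt N3585 (iv D14713)) (tt N9764 D19940) (tt N9727 (iv F37592)) (tt N9757 (iv F37666)) (tt N9765 D19941))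
theorem Q6039 : ∀ i, i < 6039 → P i := stepQ 6038 Q6038 (allL N6038 (tt N3587 F25661) (tt N9720 F37565) (tt N9765 (iv F37687)) (tt N3628 F25662) (tt N9728 (iv F37595)) (tt N6034 F25663) (tt N3585 (iv D14714)))
theorem Q6040 : ∀ i, i < 6040 → P i := stepQ 6039 Q6039 (allL N6039 (tt N9764 (iv F37685)) (tt N8484 (iv F33170)) (tt N9766 D19942) (tt N3586 (iv D14715)) (tt N9767 D19943) (tt N9758 (iv F37668)) (tt N9768 D19944))
theorem Q6041 : ∀ i, i < 6041 → P i := stepQ 6040 Q6040 (allL N6040 (tt N9765 (iv F37686)) (tt N9769 D19945) (tt N3587 F25664) (tt N9768 (iv F37689)) (tt N9729 (iv F37599)) (tt N6748 F37578) (tt N3586 (iv D14716)))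
theorem Q6042 : ∀ i, i < 6042 → P i := stepQ 6041 Q6041 (allL N6041 (tt N6034 F25665) (tt N6745 F37575) (tt N6748 (iv F37577)) (tt N3631 F25666) (tt N6514 F35302) (tt N3587 (iv D14717)) (tt N6032 F25667))
theorem Q6043 : ∀ i, i < 6043 → P i := stepQ 6042 Q6042 (allL N6042 (tt N3590 F25669) (tt N6393 (iv F29167)) (tt N5140 (iv F28902)) (tt N5607 F29121) (tt N9553 (iv F37167)) (tt N3588 (iv D14719)) (tt N6046 (iv F25677)))
theorem Q6044 : ∀ i, i < 6044 → P i := stepQ 6043 Q6043 (allL N6043 (tt N7943 (iv F30125)) (tt N9770 D19946) (tt N3591 F25673) (tt N5104 (iv F29111)) (tt N9554 (iv F37169)) (tt N8498 (iv F33220)) (tt N3589 (iv D14724)))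
theorem Q6045 : ∀ i, i < 6045 → P i := stepQ 6044 Q6044 (allL N6044 (tt N6046 (iv F25676)) (tt N5648 F34921) (tt N5144 (iv F28907)) (tt N5612 F29108) (tt N9555 (iv F37172)) (tt N5652 (iv F34908)) (tt N3590 (iv D14725)))
theorem Q6046 : ∀ i, i < 6046 → P i := stepQ 6045 Q6045 (allL N6045 (tt N6476 F36870) (tt N3591 (iv D14726)) (tt N6475 (iv F36872)) (tt N9236 (iv F36303)) (tt N9556 (iv F37175)) (tt N9771 D19947) (tt N3595 F25675))
theorem Q6047 : ∀ i, i < 6047 → P i := stepQ 6046 Q6046 (allL N6046 (tt N6044 F25676) (tt N9772 D19948) (tt N8498 (iv F33218)) (tt N9189 (iv F36170)) (tt N9557 (iv F37178)) (tt N3591 (iv D14727)) (tt N6042 F25677))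
theorem Q6048 : ∀ i, i < 6048 → P i := stepQ 6047 Q6047 (allL N6047 (tt N3596 F25679) (tt N5398 (iv F29188)) (tt N3593 (iv D14732)) (tt N5379 (iv F28817)) (tt N9773 D19949) (tt N4975 F29237) (tt N8256 (iv F31907)))
theorem Q6049 : ∀ i, i < 6049 → P i := stepQ 6048 Q6048 (allL N6048 (tt N3597 F25681) (tt N5242 (iv F29026)) (tt N9773 (iv F37700)) (tt N9560 (iv F37189)) (tt N3593 (iv D14733)) (tt N9671 (iv F37475)) (tt N9774 D19950))
theorem Q6050 : ∀ i, i < 6050 → P i := stepQ 6049 Q6049 (allL N6049 (tt N3598 F25682) (tt N8990 (iv F35670)) (tt N8256 (iv F31905)) (tt N3594 F25683) (tt N9774 (iv F37703)) (tt N5966 F25684) (tt N3593 (iv D14734)))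
theorem Q6051 : ∀ i, i < 6051 → P i := stepQ 6050 Q6050 (allL N6050 (tt N9775 D19951) (tt N3594 (iv D14735)) (tt N9776 D19952) (tt N8990 (iv F35671)) (tt N9562 (iv F37193)) (tt N9777 D19953) (tt N8982 (iv F35659)))
theorem Q6052 : ∀ i, i < 6052 → P i := stepQ 6051 Q6051 (allL N6051 (tt N3595 (iv D14736)) (tt N7616 F36874) (tt N6472 F36875) (tt N9730 (iv F37601)) (tt N9563 (iv F37195)) (tt N9778 D19954) (tt N6476 (iv F36873)))
theorem Q6053 : ∀ i, i < 6053 → P i := stepQ 6052 Q6052 (allL N6052 (tt N6472 (iv F36876)) (tt N9776 (iv F37705)) (tt N3595 (iv D14737)) (tt N9779 D19955) (tt N9564 (iv F37197)) (tt N9780 D19956) (tt N6475 F36877))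
theorem Q6054 : ∀ i, i < 6054 → P i := stepQ 6053 Q6053 (allL N6053 (tt N9778 (iv F37707)) (tt N5970 F25685) (tt N9780 (iv F37710)) (tt N9731 (iv F37606)) (tt N9565 (iv F37199)) (tt N3595 (iv D14738)) (tt N9449 F36868))
theorem Q6055 : ∀ i, i < 6055 → P i := stepQ 6054 Q6054 (allL N6054 (tt N9773 (iv F37698)) (tt N4943 (iv F29027)) (tt N3597 F25689) (tt N9781 D19957) (tt N3596 (iv D14741)) (tt N4947 F29025) (tt N9782 D19958))
theorem Q6056 : ∀ i, i < 6056 → P i := stepQ 6055 Q6055 (allL N6055 (tt N8256 (iv F31904)) (tt N9783 D19959) (tt N3598 F25690) (tt N5381 F29235) (tt N9782 (iv F37716)) (tt N8255 (iv F31903)) (tt N3596 (iv D14742)))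
theorem Q6057 : ∀ i, i < 6057 → P i := stepQ 6056 Q6056 (allL N6056 (tt N9774 (iv F37702)) (tt N7980 (iv F30177)) (tt N9782 (iv F37715)) (tt N9568 (iv F37203)) (tt N3598 F25691) (tt N9784 D19960) (tt N3597 (iv D14743)))
theorem Q6058 : ∀ i, i < 6058 → P i := stepQ 6057 Q6057 (allL N6057 (tt N5966 F25692) (tt N9785 D19961) (tt N8255 (iv F31901)) (tt N3599 F25693) (tt N9784 (iv F37722)) (tt N3598 (iv D14744)) (tt N5964 F25694))
theorem Q6059 : ∀ i, i < 6059 → P i := stepQ 6058 Q6058 (allL N6058 (tt N9786 D19962) (tt N3599 (iv D14745)) (tt N9787 D19963) (tt N9785 (iv F37724)) (tt N9570 (iv F37208)) (tt N7984 (iv F30184)) (tt N9788 D19964))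
theorem Q6060 : ∀ i, i < 6060 → P i := stepQ 6059 Q6059 (allL N6059 (tt N9789 D19965) (tt N3600 (iv D14746)) (tt N9790 D19966) (tt N9736 (iv F37617)) (tt N9571 (iv F37209)) (tt N9791 D19967) (tt N9792 D19968))
theorem Q6061 : ∀ i, i < 6061 → P i := stepQ 6060 Q6060 (allL N6060 (tt N3601 F25695) (tt N9793 D19969) (tt N3600 (iv D14747)) (tt N9794 D19970) (tt N9572 (iv F37211)) (tt N6078 (iv F25712)) (tt N3605 F25696))
theorem Q6062 : ∀ i, i < 6062 → P i := stepQ 6061 Q6061 (allL N6061 (tt N9794 (iv F37733)) (tt N7962 (iv F30157)) (tt N9795 D19971) (tt N3601 (iv D14748)) (tt N9796 D19972) (tt N9797 D19973) (tt N3607 F25697))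
theorem Q6063 : ∀ i, i < 6063 → P i := stepQ 6062 Q6062 (allL N6062 (tt N6078 (iv F25710)) (tt N9798 D19974) (tt N3602 F25698) (tt N9797 (iv F37737)) (tt N9574 (iv F37215)) (tt N3601 (iv D14749)) (tt N6073 (iv F25704)))
theorem Q6064 : ∀ i, i < 6064 → P i := stepQ 6063 Q6063 (allL N6063 (tt N9799 D19975) (tt N3602 (iv D14750)) (tt N7558 (iv F29472)) (tt N9740 (iv F37625)) (tt N9575 (iv F37216)) (tt N3603 F25699) (tt N7554 (iv F29470)))
theorem Q6065 : ∀ i, i < 6065 → P i := stepQ 6064 Q6064 (allL N6064 (tt N3603 (iv D14751)) (tt N9144 F37635) (tt N9800 D19976) (tt N9741 (iv F37631)) (tt N9576 (iv F37219)) (tt N9799 (iv F37739)) (tt N9801 D19977))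
theorem Q6066 : ∀ i, i < 6066 → P i := stepQ 6065 Q6065 (allL N6065 (tt N9800 (iv F37741)) (tt N9787 (iv F37725)) (tt N3603 (iv D14752)) (tt N5461 F36230) (tt N9577 (iv F37220)) (tt N7558 F29473) (tt N9802 D19978))
theorem Q6067 : ∀ i, i < 6067 → P i := stepQ 6066 Q6066 (allL N6066 (tt N9801 (iv F37744)) (tt N5962 F25700) (tt N9802 (iv F37749)) (tt N8166 (iv F33039)) (tt N9578 (iv F37222)) (tt N9803 D19979) (tt N3603 (iv D14753)))
theorem Q6068 : ∀ i, i < 6068 → P i := stepQ 6067 Q6067 (allL N6067 (tt N3604 (iv D14754)) (tt N6105 (iv F25747)) (tt N3909 F29201) (tt N8584 (iv F34879)) (tt N9579 (iv F37223)) (tt N5530 (iv F29200)) (tt N8582 F35192))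
theorem Q6069 : ∀ i, i < 6069 → P i := stepQ 6068 Q6068 (allL N6068 (tt N3909 F29204) (tt N9804 D19980) (tt N3604 (iv D14755)) (tt N9805 D19981) (tt N9580 (iv F37227)) (tt N9806 D19982) (tt N9807 D19983))
theorem Q6070 : ∀ i, i < 6070 → P i := stepQ 6069 Q6069 (allL N6069 (tt N5530 F29199) (tt N6513 F26638) (tt N9806 (iv F37759)) (tt N8585 (iv F33451)) (tt N9581 (iv F37230)) (tt N3604 (iv D14756)) (tt N9655 (iv F37429)))
theorem Q6071 : ∀ i, i < 6071 → P i := stepQ 6070 Q6070 (allL N6070 (tt N8582 (iv F35197)) (tt N9792 (iv F37732)) (tt N9807 (iv F37761)) (tt N8583 F35199) (tt N9582 (iv F37232)) (tt N9089 F35896) (tt N3604 (iv D14757)))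
theorem Q6072 : ∀ i, i < 6072 → P i := stepQ 6071 Q6071 (allL N6071 (tt N9808 D19984) (tt N3605 (iv D14758)) (tt N9804 (iv F37756)) (tt N9809 D19985) (tt N9583 (iv F37233)) (tt N9810 D19986) (tt N9811 D19987))
theorem Q6073 : ∀ i, i < 6073 → P i := stepQ 6072 Q6072 (allL N6072 (tt N3607 F25701) (tt N9809 (iv F37763)) (tt N9812 D19988) (tt N3605 (iv D14759)) (tt N9813 D19989) (tt N9814 D19990) (tt N9794 (iv F37734)))
theorem Q6074 : ∀ i, i < 6074 → P i := stepQ 6073 Q6073 (allL N6073 (tt N3608 F25702) (tt N9815 D19991) (tt N3606 F25703) (tt N9814 (iv F37768)) (tt N9585 (iv F37237)) (tt N3605 (iv D14760)) (tt N6062 F25704))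
theorem Q6075 : ∀ i, i < 6075 → P i := stepQ 6074 Q6074 (allL N6074 (tt N6503 (iv F26600)) (tt N3606 (iv D14761)) (tt N4510 (iv F25705)) (tt N9728 (iv F37594)) (tt N9551 (iv F37158)) (tt N6513 (iv F26637)) (tt N4509 F25706))
theorem Q6076 : ∀ i, i < 6076 → P i := stepQ 6075 Q6075 (allL N6075 (tt N9812 (iv F37764)) (tt N9816 D19992) (tt N3607 (iv D14762)) (tt N9817 D19993) (tt N9818 D19994) (tt N6541 F43968) (tt N9795 (iv F37735)))
theorem Q6077 : ∀ i, i < 6077 → P i := stepQ 6076 Q6076 (allL N6076 (tt N9813 (iv F37766)) (tt N3637 F25707) (tt N9818 (iv F37778)) (tt N9587 (iv F37240)) (tt N3607 (iv D14763)) (tt N9819 D19996) (tt N9796 (iv F37736)))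
theorem Q6078 : ∀ i, i < 6078 → P i := stepQ 6077 Q6077 (allL N6077 (tt N9814 (iv F37767)) (tt N6077 F25708) (tt N6541 (iv F43967)) (tt N3608 F25709) (tt N9819 (iv F37781)) (tt N3607 (iv D14764)) (tt N9820 D19997))
theorem Q6079 : ∀ i, i < 6079 → P i := stepQ 6078 Q6078 (allL N6078 (tt N6062 F25710) (tt N9821 D19998) (tt N3609 F25711) (tt N9820 (iv F37783)) (tt N9589 (iv F37245)) (tt N6060 F25712) (tt N3608 (iv D14765)))
theorem Q6080 : ∀ i, i < 6080 → P i := stepQ 6079 Q6079 (allL N6079 (tt N9822 D19999) (tt N3609 (iv D14766)) (tt N9823 D20000) (tt N6819 F37544) (tt N9590 (iv F37247)) (tt N9824 D20001) (tt N5845 F25713))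
theorem Q6081 : ∀ i, i < 6081 → P i := stepQ 6080 Q6080 (allL N6080 (tt N3613 F25716) (tt N6396 F35179) (tt N5159 (iv F34552)) (tt N5644 F34528) (tt N9591 (iv F37253)) (tt N6083 (iv F25721)) (tt N3610 (iv D14769)))
theorem Q6082 : ∀ i, i < 6082 → P i := stepQ 6081 Q6081 (allL N6081 (tt N8001 (iv F30246)) (tt N9825 D20002) (tt N3612 F25718) (tt N5111 F34524) (tt N9592 (iv F37255)) (tt N3611 (iv D14772)) (tt N8527 F34525))
theorem Q6083 : ∀ i, i < 6083 → P i := stepQ 6082 Q6082 (allL N6082 (tt N6510 (iv F26628)) (tt N3612 (iv D14774)) (tt N6509 F26619) (tt N9200 (iv F36202)) (tt N9593 (iv F37256)) (tt N3617 F25720) (tt N9826 D20003))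
theorem Q6084 : ∀ i, i < 6084 → P i := stepQ 6083 Q6083 (allL N6083 (tt N6084 (iv F25722)) (tt N9778 (iv F37708)) (tt N8527 F35358) (tt N9195 (iv F36184)) (tt N9594 (iv F37258)) (tt N6080 F25721) (tt N3612 (iv D14775)))
theorem Q6085 : ∀ i, i < 6085 → P i := stepQ 6084 Q6084 (allL N6084 (tt N6083 F25722) (tt N5611 F29189) (tt N5163 F34534) (tt N5614 (iv F29190)) (tt N9595 (iv F37263)) (tt N3613 (iv D14776)) (tt N5618 (iv F29193)))
theorem Q6086 : ∀ i, i < 6086 → P i := stepQ 6085 Q6085 (allL N6085 (tt N3618 F25725) (tt N5414 (iv F34563)) (tt N3615 (iv D14781)) (tt N5383 (iv F34443)) (tt N9827 D20004) (tt N8259 F34377) (tt N4977 F34378))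
theorem Q6087 : ∀ i, i < 6087 → P i := stepQ 6086 Q6086 (allL N6086 (tt N3619 F25727) (tt N5250 F34561) (tt N9827 (iv F37799)) (tt N9598 (iv F37275)) (tt N3615 (iv D14782)) (tt N9828 D20005) (tt N9693 (iv F37508)))
theorem Q6088 : ∀ i, i < 6088 → P i := stepQ 6087 Q6087 (allL N6087 (tt N3620 F25728) (tt N9054 (iv F35817)) (tt N8259 (iv F35376)) (tt N3616 F25729) (tt N9828 (iv F37802)) (tt N3615 (iv D14783)) (tt N5981 F25730))
theorem Q6089 : ∀ i, i < 6089 → P i := stepQ 6088 Q6088 (allL N6088 (tt N9829 D20006) (tt N3616 (iv D14784)) (tt N9830 D20007) (tt N9054 (iv F35818)) (tt N9600 (iv F37279)) (tt N9047 (iv F35808)) (tt N9831 D20008))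
theorem Q6090 : ∀ i, i < 6090 → P i := stepQ 6089 Q6089 (allL N6089 (tt N3617 (iv D14785)) (tt N7781 (iv F29861)) (tt N6506 F26618) (tt N9750 (iv F37647)) (tt N9601 (iv F37281)) (tt N6510 (iv F26630)) (tt N9772 (iv F37697)))
theorem Q6091 : ∀ i, i < 6091 → P i := stepQ 6090 Q6090 (allL N6090 (tt N6506 (iv F26617)) (tt N9830 (iv F37804)) (tt N3617 (iv D14786)) (tt N9832 D20009) (tt N9602 (iv F37283)) (tt N6509 (iv F26616)) (tt N9833 D20010))
theorem Q6092 : ∀ i, i < 6092 → P i := stepQ 6091 Q6091 (allL N6091 (tt N9772 (iv F37696)) (tt N5985 F25731) (tt N9833 (iv F37806)) (tt N9751 (iv F37652)) (tt N9603 (iv F37285)) (tt N9440 (iv F36854)) (tt N3617 (iv D14787)))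
theorem Q6093 : ∀ i, i < 6093 → P i := stepQ 6092 Q6092 (allL N6092 (tt N9827 (iv F37797)) (tt N4944 F34380) (tt N3619 F25735) (tt N9834 D20011) (tt N3618 (iv D14790)) (tt N9835 D20012) (tt N4948 F34381))
theorem Q6094 : ∀ i, i < 6094 → P i := stepQ 6093 Q6093 (allL N6093 (tt N8259 F34382) (tt N9836 D20013) (tt N3620 F25736) (tt N5385 F34383) (tt N9835 (iv F37812)) (tt N3618 (iv D14791)) (tt N8258 F34384))
theorem Q6095 : ∀ i, i < 6095 → P i := stepQ 6094 Q6094 (allL N6094 (tt N9828 (iv F37801)) (tt N8037 (iv F30317)) (tt N9835 (iv F37811)) (tt N9606 (iv F37289)) (tt N3620 F25737) (tt N3619 (iv D14792)) (tt N9837 D20014))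
theorem Q6096 : ∀ i, i < 6096 → P i := stepQ 6095 Q6095 (allL N6095 (tt N5981 F25738) (tt N9838 D20015) (tt N8258 F35372) (tt N3621 F25739) (tt N9837 (iv F37818)) (tt N5979 F25740) (tt N3620 (iv D14793)))
theorem Q6097 : ∀ i, i < 6097 → P i := stepQ 6096 Q6096 (allL N6096 (tt N9839 D20016) (tt N3621 (iv D14794)) (tt N9840 D20017) (tt N9838 (iv F37820)) (tt N9608 (iv F37294)) (tt N9841 D20018) (tt N8041 (iv F30325)))
theorem Q6098 : ∀ i, i < 6098 → P i := stepQ 6097 Q6097 (allL N6097 (tt N9842 D20019) (tt N3622 (iv D14795)) (tt N9843 D20020) (tt N9756 (iv F37664)) (tt N9609 (iv F37295)) (tt N9844 D20021) (tt N9845 D20022))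
theorem Q6099 : ∀ i, i < 6099 → P i := stepQ 6098 Q6098 (allL N6098 (tt N3623 F25741) (tt N9846 D20023) (tt N3622 (iv D14796)) (tt N9847 D20024) (tt N9610 (iv F37297)) (tt N3627 F25742) (tt N6116 (iv F25757)))
theorem Q6100 : ∀ i, i < 6100 → P i := stepQ 6099 Q6099 (allL N6099 (tt N9847 (iv F37829)) (tt N8019 (iv F30293)) (tt N9848 D20025) (tt N3623 (iv D14797)) (tt N9849 D20026) (tt N3629 F25743) (tt N9850 D20027))
theorem Q6101 : ∀ i, i < 6101 → P i := stepQ 6100 Q6100 (allL N6100 (tt N6116 (iv F25755)) (tt N9851 D20028) (tt N3624 F25744) (tt N9850 (iv F37833)) (tt N9612 (iv F37301)) (tt N6111 (iv F25751)) (tt N3623 (iv D14798)))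
theorem Q6102 : ∀ i, i < 6102 → P i := stepQ 6101 Q6101 (allL N6101 (tt N9852 D20029) (tt N3624 (iv D14799)) (tt N7602 F36883) (tt N9760 (iv F37672)) (tt N9613 (iv F37303)) (tt N7599 (iv F36882)) (tt N3625 F25745))
theorem Q6103 : ∀ i, i < 6103 → P i := stepQ 6102 Q6102 (allL N6102 (tt N3625 (iv D14800)) (tt N9088 F37682) (tt N9853 D20030) (tt N9761 (iv F37678)) (tt N9614 (iv F37306)) (tt N9854 D20031) (tt N9852 (iv F37835)))
theorem Q6104 : ∀ i, i < 6104 → P i := stepQ 6103 Q6103 (allL N6103 (tt N9853 (iv F37837)) (tt N9840 (iv F37821)) (tt N3625 (iv D14801)) (tt N5502 F36332) (tt N9615 (iv F37307)) (tt N9855 D20032) (tt N7602 (iv F36884)))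
theorem Q6105 : ∀ i, i < 6105 → P i := stepQ 6104 Q6104 (allL N6104 (tt N9854 (iv F37840)) (tt N5977 F25746) (tt N9855 (iv F37845)) (tt N8196 (iv F35360)) (tt N9616 (iv F37309)) (tt N3625 (iv D14802)) (tt N9856 D20033))
theorem Q6106 : ∀ i, i < 6106 → P i := stepQ 6105 Q6105 (allL N6105 (tt N3626 (iv D14803)) (tt N6067 F25747) (tt N3937 F29202) (tt N8575 (iv F33405)) (tt N9617 (iv F37311)) (tt N8573 (iv F33399)) (tt N5574 (iv F34885)))
theorem Q6107 : ∀ i, i < 6107 → P i := stepQ 6106 Q6106 (allL N6106 (tt N3937 F29203) (tt N9857 D20034) (tt N3626 (iv D14804)) (tt N9858 D20035) (tt N9618 (iv F37315)) (tt N9859 D20036) (tt N9860 D20037))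
theorem Q6108 : ∀ i, i < 6108 → P i := stepQ 6107 Q6107 (allL N6107 (tt N8573 F33400) (tt N9844 (iv F37826)) (tt N9859 (iv F37856)) (tt N8574 (iv F33402)) (tt N9619 (iv F37316)) (tt N3626 (iv D14805)) (tt N9142 (iv F36029)))
theorem Q6109 : ∀ i, i < 6109 → P i := stepQ 6108 Q6108 (allL N6108 (tt N5574 F35191) (tt N6479 (iv F36871)) (tt N9860 (iv F37858)) (tt N8576 (iv F35204)) (tt N9620 (iv F37320)) (tt N9654 (iv F37423)) (tt N3626 (iv D14806)))
theorem Q6110 : ∀ i, i < 6110 → P i := stepQ 6109 Q6109 (allL N6109 (tt N9861 D20038) (tt N3627 (iv D14807)) (tt N9857 (iv F37853)) (tt N9862 D20039) (tt N9621 (iv F37322)) (tt N9863 D20040) (tt N9864 D20041))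
theorem Q6111 : ∀ i, i < 6111 → P i := stepQ 6110 Q6110 (allL N6110 (tt N3629 F25748) (tt N9862 (iv F37860)) (tt N9865 D20042) (tt N3627 (iv D14808)) (tt N9866 D20043) (tt N9847 (iv F37830)) (tt N9867 D20044))
theorem Q6112 : ∀ i, i < 6112 → P i := stepQ 6111 Q6111 (allL N6111 (tt N3630 F25749) (tt N9868 D20045) (tt N3628 F25750) (tt N9867 (iv F37865)) (tt N9623 (iv F37326)) (tt N6100 F25751) (tt N3627 (iv D14809)))
theorem Q6113 : ∀ i, i < 6113 → P i := stepQ 6112 Q6112 (allL N6112 (tt N6468 F36878) (tt N3628 (iv D14810)) (tt N4545 F36879) (tt N9720 (iv F37562)) (tt N9538 (iv F37116)) (tt N4544 F36880) (tt N6479 F36881))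
theorem Q6114 : ∀ i, i < 6114 → P i := stepQ 6113 Q6113 (allL N6113 (tt N9865 (iv F37861)) (tt N9869 D20046) (tt N3629 (iv D14811)) (tt N9870 D20047) (tt N9871 D20048) (tt N9848 (iv F37831)) (tt N6579 F39573))
theorem Q6115 : ∀ i, i < 6115 → P i := stepQ 6114 Q6114 (allL N6114 (tt N9866 (iv F37863)) (tt N3643 F25752) (tt N9871 (iv F37875)) (tt N9625 (iv F37329)) (tt N3629 (iv D14812)) (tt N9849 (iv F37832)) (tt N9872 D20050))
theorem Q6116 : ∀ i, i < 6116 → P i := stepQ 6115 Q6115 (allL N6115 (tt N9867 (iv F37864)) (tt N6115 F25753) (tt N6579 F39572) (tt N3630 F25754) (tt N9872 (iv F37878)) (tt N9873 D20051) (tt N3629 (iv D14813)))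
theorem Q6117 : ∀ i, i < 6117 → P i := stepQ 6116 Q6116 (allL N6116 (tt N6100 F25755) (tt N9874 D20052) (tt N3631 F25756) (tt N9873 (iv F37880)) (tt N9627 (iv F37334)) (tt N3630 (iv D14814)) (tt N6098 F25757))
theorem Q6118 : ∀ i, i < 6118 → P i := stepQ 6117 Q6117 (allL N6117 (tt N9875 D20053) (tt N3631 (iv D14815)) (tt N9876 D20054) (tt N6745 F37576) (tt N9628 (iv F37336)) (tt N5841 F25758) (tt N9877 D20055))
theorem Q6119 : ∀ i, i < 6119 → P i := stepQ 6118 Q6118 (allL N6118 (tt N5029 F29030) (tt N3633 F25760) (tt N4943 F29028) (tt N5029 F29031) (tt N3632 (iv D14817)) (tt N4941 (iv F29029)) (tt N8349 (iv F32188)))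
theorem Q6120 : ∀ i, i < 6120 → P i := stepQ 6119 Q6119 (allL N6119 (tt N6143 (iv F25814)) (tt N5029 (iv F29032)) (tt N3958 F25768) (tt N3633 (iv D14820)) (tt N3961 F25765) (tt N3902 F25766) (tt N4860 F25767))
theorem Q6121 : ∀ i, i < 6121 → P i := stepQ 6120 Q6120 (allL N6120 (tt N3634 (iv D14821)) (tt N9878 D20056) (tt N3925 F25769) (tt N9879 D20057) (tt N9629 (iv F37339)) (tt N9880 D20058) (tt N9881 D20059))
theorem Q6122 : ∀ i, i < 6122 → P i := stepQ 6121 Q6121 (allL N6121 (tt N9879 (iv F37889)) (tt N3635 F25770) (tt N6551 (iv F35705)) (tt N3634 (iv D14822)) (tt N9882 D20060) (tt N6132 F35706) (tt N9883 D20061))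
theorem Q6123 : ∀ i, i < 6123 → P i := stepQ 6122 Q6122 (allL N6122 (tt N9880 (iv F37892)) (tt N6122 F25771) (tt N3920 F25772) (tt N6132 (iv F35707)) (tt N9631 (iv F37367)) (tt N3634 (iv D14823)) (tt N6130 F35708))
theorem Q6124 : ∀ i, i < 6124 → P i := stepQ 6123 Q6123 (allL N6123 (tt N9881 (iv F37894)) (tt N7954 (iv F30146)) (tt N3926 F25773) (tt N9883 (iv F37902)) (tt N9632 (iv F37369)) (tt N9884 D20062) (tt N3634 (iv D14824)))
theorem Q6125 : ∀ i, i < 6125 → P i := stepQ 6124 Q6124 (allL N6124 (tt N3637 F25774) (tt N9882 (iv F37898)) (tt N6148 (iv F25835)) (tt N9633 (iv F37371)) (tt N3635 (iv D14825)) (tt N6124 F25775) (tt N7955 (iv F30149)))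
theorem Q6126 : ∀ i, i < 6126 → P i := stepQ 6125 Q6125 (allL N6125 (tt N9885 D20063) (tt N3636 (iv D14826)) (tt N9816 (iv F37775)) (tt N5634 (iv F32937)) (tt N9886 D20064) (tt N9887 D20065) (tt N9888 D20066))
theorem Q6127 : ∀ i, i < 6127 → P i := stepQ 6126 Q6126 (allL N6126 (tt N6148 (iv F25834)) (tt N9886 (iv F37909)) (tt N3637 F25776) (tt N5637 (iv F33007)) (tt N3636 (iv D14827)) (tt N6126 F25777) (tt N7966 (iv F30165)))
theorem Q6128 : ∀ i, i < 6128 → P i := stepQ 6127 Q6127 (allL N6127 (tt N5030 F34286) (tt N3639 F25779) (tt N4944 F34287) (tt N5030 F34288) (tt N3638 (iv D14829)) (tt N8348 F34289) (tt N4941 F34290))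
theorem Q6129 : ∀ i, i < 6129 → P i := stepQ 6128 Q6128 (allL N6128 (tt N6156 (iv F25855)) (tt N5030 F34181) (tt N3988 F25787) (tt N3639 (iv D14832)) (tt N3991 F25784) (tt N4885 F25785) (tt N3930 F25786))
theorem Q6130 : ∀ i, i < 6130 → P i := stepQ 6129 Q6129 (allL N6129 (tt N3640 (iv D14833)) (tt N9889 D20067) (tt N3896 F25788) (tt N9884 (iv F37906)) (tt N9636 (iv F37377)) (tt N9883 F37903) (tt N9890 D20068))
theorem Q6131 : ∀ i, i < 6131 → P i := stepQ 6130 Q6130 (allL N6130 (tt N9884 (iv F37904)) (tt N3641 F25789) (tt N6589 F35709) (tt N3640 (iv D14834)) (tt N9891 D20069) (tt N9881 (iv F37897)) (tt N6122 (iv F35708)))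
theorem Q6132 : ∀ i, i < 6132 → P i := stepQ 6131 Q6131 (allL N6131 (tt N9883 (iv F37900)) (tt N8011 (iv F30273)) (tt N3897 F25790) (tt N9881 (iv F37896)) (tt N9638 (iv F37380)) (tt N3640 (iv D14835)) (tt N9879 F37891))
theorem Q6133 : ∀ i, i < 6133 → P i := stepQ 6132 Q6132 (allL N6132 (tt N9890 (iv F37914)) (tt N6132 F25791) (tt N3892 F25792) (tt N6122 F35707) (tt N9639 (iv F37383)) (tt N6121 (iv F35706)) (tt N3640 (iv D14836)))
theorem Q6134 : ∀ i, i < 6134 → P i := stepQ 6133 Q6133 (allL N6133 (tt N3643 F25793) (tt N9891 (iv F37918)) (tt N6161 (iv F25876)) (tt N9640 (iv F37385)) (tt N3641 (iv D14837)) (tt N8013 (iv F30278)) (tt N6133 F25794))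
theorem Q6135 : ∀ i, i < 6135 → P i := stepQ 6134 Q6134 (allL N6134 (tt N9892 D20070) (tt N3642 (iv D14838)) (tt N9869 (iv F37872)) (tt N5667 (iv F32647)) (tt N9893 D20071) (tt N9894 D20072) (tt N9895 D20073))
theorem Q6136 : ∀ i, i < 6136 → P i := stepQ 6135 Q6135 (allL N6135 (tt N6161 (iv F25875)) (tt N9893 (iv F37921)) (tt N3643 F25795) (tt N5670 (iv F33035)) (tt N3642 (iv D14839)) (tt N8024 (iv F30302)) (tt N6135 F25796))
theorem Q6137 : ∀ i, i < 6137 → P i := stepQ 6136 Q6136 (allL N6136 (tt N3645 F25797) (tt N5388 (iv F28936)) (tt N9896 D20074) (tt N3644 (iv D14841)) (tt N9897 D20075) (tt N5015 F29172) (tt N9898 D20076))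
theorem Q6138 : ∀ i, i < 6138 → P i := stepQ 6137 Q6137 (allL N6137 (tt N3648 F25800) (tt N9899 D20077) (tt N5948 (iv F29221)) (tt N9898 (iv F37935)) (tt N5952 F29222) (tt N6142 (iv F25811)) (tt N3644 (iv D14844)))
theorem Q6139 : ∀ i, i < 6139 → P i := stepQ 6138 Q6138 (allL N6138 (tt N9896 (iv F37926)) (tt N4765 F25801) (tt N3645 (iv D14845)) (tt N7479 (iv F29311)) (tt N9900 D20078) (tt N5139 F28925) (tt N9901 D20079))
theorem Q6140 : ∀ i, i < 6140 → P i := stepQ 6139 Q6139 (allL N6139 (tt N9897 (iv F37930)) (tt N3649 F25802) (tt N9900 (iv F37940)) (tt N5226 (iv F29245)) (tt N3645 (iv D14846)) (tt N9902 D20080) (tt N9903 D20081))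
theorem Q6141 : ∀ i, i < 6141 → P i := stepQ 6140 Q6140 (allL N6140 (tt N5015 (iv F29171)) (tt N3950 F25803) (tt N5139 (iv F28926)) (tt N3647 F25804) (tt N9902 (iv F37947)) (tt N3645 (iv D14847)) (tt N9904 D20082))
theorem Q6142 : ∀ i, i < 6142 → P i := stepQ 6141 Q6141 (allL N6141 (tt N9898 (iv F37934)) (tt N4791 F25805) (tt N9901 (iv F37942)) (tt N3648 F25806) (tt N9903 (iv F37950)) (tt N8332 (iv F32145)) (tt N3645 (iv D14848)))
theorem Q6143 : ∀ i, i < 6143 → P i := stepQ 6142 Q6142 (allL N6142 (tt N5999 (iv F28957)) (tt N6672 (iv F35002)) (tt N5998 F29223) (tt N9904 (iv F37953)) (tt N6010 (iv F29224)) (tt N6137 F25811) (tt N3647 (iv D14852)))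
theorem Q6144 : ∀ i, i < 6144 → P i := stepQ 6143 Q6143 (allL N6143 (tt N6119 F25814) (tt N5226 F29246) (tt N3902 F25815) (tt N3649 (iv D14854)) (tt N3650 F25816) (tt N3958 F25817) (tt N4792 F25818))
theorem Q6145 : ∀ i, i < 6145 → P i := stepQ 6144 Q6144 (allL N6144 (tt N3651 (iv D14860)) (tt N9905 D20083) (tt N8576 (iv F33406)) (tt N9906 D20084) (tt N9210 (iv F36223)) (tt N9907 D20085) (tt N9762 (iv F37684)))
theorem Q6146 : ∀ i, i < 6146 → P i := stepQ 6145 Q6145 (allL N6145 (tt N9906 (iv F37955)) (tt N3652 F25831) (tt N9908 D20086) (tt N3651 (iv D14861)) (tt N9909 D20087) (tt N9910 D20088) (tt N9911 D20089))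
theorem Q6147 : ∀ i, i < 6147 → P i := stepQ 6146 Q6146 (allL N6146 (tt N9907 (iv F37956)) (tt N6146 F25833) (tt N8578 (iv F33410)) (tt N9910 (iv F37967)) (tt N9211 (iv F36228)) (tt N3651 (iv D14863)) (tt N9912 D20090))
theorem Q6148 : ∀ i, i < 6148 → P i := stepQ 6147 Q6147 (allL N6147 (tt N9762 (iv F37683)) (tt N8056 (iv F30363)) (tt N8575 (iv F34882)) (tt N9911 (iv F37968)) (tt N8168 (iv F35208)) (tt N8066 F35206) (tt N3651 (iv D14864)))
theorem Q6149 : ∀ i, i < 6149 → P i := stepQ 6148 Q6148 (allL N6148 (tt N6126 F25834) (tt N9909 (iv F37963)) (tt N6124 F25835) (tt N5556 F33008) (tt N3652 (iv D14865)) (tt N6148 F25836) (tt N8057 (iv F30367)))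
theorem Q6150 : ∀ i, i < 6150 → P i := stepQ 6149 Q6149 (allL N6149 (tt N3654 F25838) (tt N5393 F35068) (tt N9913 D20091) (tt N3653 (iv D14868)) (tt N9914 D20092) (tt N9915 D20093) (tt N5021 F35069))
theorem Q6151 : ∀ i, i < 6151 → P i := stepQ 6150 Q6150 (allL N6150 (tt N3656 F25840) (tt N9916 D20094) (tt N5949 (iv F34514)) (tt N9915 (iv F37982)) (tt N5957 F35013) (tt N3653 (iv D14870)) (tt N6155 (iv F25854)))
theorem Q6152 : ∀ i, i < 6152 → P i := stepQ 6151 Q6151 (allL N6151 (tt N9913 (iv F37973)) (tt N4803 F25842) (tt N3654 (iv D14872)) (tt N7488 F35075) (tt N9917 D20095) (tt N9918 D20096) (tt N5158 F34631))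
theorem Q6153 : ∀ i, i < 6153 → P i := stepQ 6152 Q6152 (allL N6152 (tt N9914 (iv F37977)) (tt N3658 F25843) (tt N9917 (iv F37987)) (tt N5229 F35505) (tt N3654 (iv D14873)) (tt N9919 D20097) (tt N9920 D20098))
theorem Q6154 : ∀ i, i < 6154 → P i := stepQ 6153 Q6153 (allL N6153 (tt N9915 (iv F37981)) (tt N4828 F25844) (tt N9918 (iv F37989)) (tt N3656 F25845) (tt N9919 (iv F37992)) (tt N3654 (iv D14874)) (tt N8340 (iv F35067)))
theorem Q6155 : ∀ i, i < 6155 → P i := stepQ 6154 Q6154 (allL N6154 (tt N5021 F34218) (tt N3981 F25846) (tt N5158 F34219) (tt N3657 F25847) (tt N9920 (iv F37997)) (tt N9921 D20099) (tt N3654 (iv D14875)))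
theorem Q6156 : ∀ i, i < 6156 → P i := stepQ 6155 Q6155 (allL N6155 (tt N6005 (iv F34503)) (tt N6624 F35011) (tt N6004 (iv F34499)) (tt N9921 (iv F38000)) (tt N6026 (iv F35012)) (tt N3657 (iv D14880)) (tt N6150 F25854))
theorem Q6157 : ∀ i, i < 6157 → P i := stepQ 6156 Q6156 (allL N6156 (tt N6128 F25855) (tt N5229 F34182) (tt N3930 F25856) (tt N3658 (iv D14881)) (tt N3659 F25857) (tt N4830 F25858) (tt N3988 F25859))
theorem Q6158 : ∀ i, i < 6158 → P i := stepQ 6157 Q6157 (allL N6157 (tt N3660 (iv D14887)) (tt N9922 D20100) (tt N8585 (iv F33450)) (tt N9923 D20101) (tt N9246 (iv F36325)) (tt N9742 (iv F37637)) (tt N9924 D20102))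
theorem Q6159 : ∀ i, i < 6159 → P i := stepQ 6158 Q6158 (allL N6158 (tt N9923 (iv F38002)) (tt N3661 F25872) (tt N9925 D20103) (tt N3660 (iv D14888)) (tt N9926 D20104) (tt N9927 D20105) (tt N9928 D20106))
theorem Q6160 : ∀ i, i < 6160 → P i := stepQ 6159 Q6159 (allL N6159 (tt N9742 (iv F37636)) (tt N8099 (iv F30488)) (tt N8584 (iv F34878)) (tt N9927 (iv F38012)) (tt N8199 F35212) (tt N3660 (iv D14890)) (tt N8110 (iv F35211)))
theorem Q6161 : ∀ i, i < 6161 → P i := stepQ 6160 Q6160 (allL N6160 (tt N9924 (iv F38003)) (tt N6160 F25874) (tt N8587 (iv F33460)) (tt N9928 (iv F38015)) (tt N9247 (iv F36330)) (tt N9929 D20107) (tt N3660 (iv D14891)))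
theorem Q6162 : ∀ i, i < 6162 → P i := stepQ 6161 Q6161 (allL N6161 (tt N6135 F25875) (tt N9926 (iv F38010)) (tt N6133 F25876) (tt N5600 F33036) (tt N3661 (iv D14892)) (tt N8101 (iv F30491)) (tt N6161 F25877))
theorem Q6163 : ∀ i, i < 6163 → P i := stepQ 6162 Q6162 (allL N6162 (tt N7167 (iv F28093)) (tt N3662 (iv D14916)) (tt N9930 D20108) (tt N8224 (iv F31809)) (tt N3777 F25936) (tt N4127 F25937) (tt N9931 D20109))
theorem Q6164 : ∀ i, i < 6164 → P i := stepQ 6163 Q6163 (allL N6163 (tt N7270 (iv F28309)) (tt N3663 (iv D14917)) (tt N9932 D20110) (tt N8225 (iv F31812)) (tt N3778 F25938) (tt N9933 D20111) (tt N4128 F25939))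
theorem Q6165 : ∀ i, i < 6165 → P i := stepQ 6164 Q6164 (allL N6164 (tt N6185 (iv F25990)) (tt N3664 (iv D14918)) (tt N9934 D20112) (tt N3666 F25940) (tt N4136 F25941) (tt N3673 F25942) (tt N9935 D20113))
theorem Q6166 : ∀ i, i < 6166 → P i := stepQ 6165 Q6165 (allL N6165 (tt N6167 (iv F25950)) (tt N9936 D20114) (tt N4954 F25943) (tt N3667 F25944) (tt N4137 F25945) (tt N4950 F25946) (tt N3664 (iv D14919)))
theorem Q6167 : ∀ i, i < 6167 → P i := stepQ 6166 Q6166 (allL N6166 (tt N6189 F35288) (tt N3665 (iv D14920)) (tt N9937 D20115) (tt N3668 F25947) (tt N4138 F25948) (tt N9938 D20116) (tt N3674 F25949))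
theorem Q6168 : ∀ i, i < 6168 → P i := stepQ 6167 Q6167 (allL N6167 (tt N6165 F25950) (tt N9939 D20117) (tt N4952 F25951) (tt N3669 F25952) (tt N4139 F25953) (tt N3665 (iv D14921)) (tt N4949 F25954))
theorem Q6169 : ∀ i, i < 6169 → P i := stepQ 6168 Q6168 (allL N6168 (tt N6186 (iv F25992)) (tt N9940 D20118) (tt N6184 (iv F25987)) (tt N9935 (iv F38032)) (tt N3783 F25955) (tt N6184 (iv F25989)) (tt N3666 (iv D14922)))
theorem Q6170 : ∀ i, i < 6170 → P i := stepQ 6169 Q6169 (allL N6169 (tt N7225 (iv F28224)) (tt N3667 (iv D14923)) (tt N9941 D20119) (tt N9936 (iv F38034)) (tt N3784 F25956) (tt N7223 F28222) (tt N9940 (iv F38045)))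
theorem Q6171 : ∀ i, i < 6171 → P i := stepQ 6170 Q6170 (allL N6170 (tt N6190 (iv F34732)) (tt N9942 D20120) (tt N6188 F35286) (tt N9938 (iv F38038)) (tt N3785 F25961) (tt N3668 (iv D14926)) (tt N6188 (iv F26002)))
theorem Q6172 : ∀ i, i < 6172 → P i := stepQ 6171 Q6171 (allL N6171 (tt N7326 (iv F28428)) (tt N3669 (iv D14927)) (tt N9943 D20121) (tt N9939 (iv F38040)) (tt N3786 F25962) (tt N9942 (iv F38049)) (tt N7323 F28424))
theorem Q6173 : ∀ i, i < 6173 → P i := stepQ 6172 Q6172 (allL N6172 (tt N3670 (iv D14928)) (tt N9944 D20122) (tt N8211 (iv F31776)) (tt N6172 F25963) (tt N4148 F25964) (tt N9945 D20123) (tt N9946 D20124))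
theorem Q6174 : ∀ i, i < 6174 → P i := stepQ 6173 Q6173 (allL N6173 (tt N9945 (iv F38058)) (tt N9947 D20125) (tt N8214 (iv F31787)) (tt N6173 F25965) (tt N4150 F25966) (tt N3670 (iv D14929)) (tt N9948 D20126))
theorem Q6175 : ∀ i, i < 6175 → P i := stepQ 6174 Q6174 (allL N6174 (tt N9946 (iv F38062)) (tt N9949 D20127) (tt N8215 (iv F31790)) (tt N6174 F25967) (tt N4151 F25968) (tt N9950 D20128) (tt N3670 (iv D14930)))
theorem Q6176 : ∀ i, i < 6176 → P i := stepQ 6175 Q6175 (allL N6175 (tt N9951 D20129) (tt N3671 (iv D14931)) (tt N9952 D20130) (tt N6175 F25969) (tt N4154 F25970) (tt N9947 (iv F38068)) (tt N9953 D20131))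
theorem Q6177 : ∀ i, i < 6177 → P i := stepQ 6176 Q6176 (allL N6176 (tt N9954 D20132) (tt N3672 (iv D14932)) (tt N9955 D20133) (tt N6176 F25971) (tt N4155 F25972) (tt N9956 D20134) (tt N9949 (iv F38074)))
theorem Q6178 : ∀ i, i < 6178 → P i := stepQ 6177 Q6177 (allL N6177 (tt N3673 (iv D14933)) (tt N9957 D20135) (tt N9958 D20136) (tt N3675 F25973) (tt N4156 F25974) (tt N6185 (iv F25991)) (tt N9959 D20137))
theorem Q6179 : ∀ i, i < 6179 → P i := stepQ 6178 Q6178 (allL N6178 (tt N9958 (iv F38099)) (tt N9952 (iv F38082)) (tt N3673 (iv D14934)) (tt N9960 D20138) (tt N4157 F25975) (tt N9934 (iv F38031)) (tt N9961 D20139))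
theorem Q6180 : ∀ i, i < 6180 → P i := stepQ 6179 Q6179 (allL N6179 (tt N9959 (iv F38101)) (tt N6212 (iv F26060)) (tt N9961 (iv F38105)) (tt N3677 F25976) (tt N4158 F25977) (tt N9962 D20140) (tt N3673 (iv D14935)))
theorem Q6181 : ∀ i, i < 6181 → P i := stepQ 6180 Q6180 (allL N6180 (tt N3674 (iv D14936)) (tt N9963 D20141) (tt N9964 D20142) (tt N3678 F25978) (tt N4159 F25979) (tt N9965 D20143) (tt N6189 F35289))
theorem Q6182 : ∀ i, i < 6182 → P i := stepQ 6181 Q6181 (allL N6181 (tt N9964 (iv F38115)) (tt N9955 (iv F38090)) (tt N3674 (iv D14937)) (tt N9966 D20144) (tt N4160 F25980) (tt N9967 D20145) (tt N9937 (iv F38037)))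
theorem Q6183 : ∀ i, i < 6183 → P i := stepQ 6182 Q6182 (allL N6182 (tt N9965 (iv F38117)) (tt N6204 (iv F26043)) (tt N9967 (iv F38121)) (tt N3680 F25981) (tt N4161 F25982) (tt N3674 (iv D14938)) (tt N9968 D20146))
theorem Q6184 : ∀ i, i < 6184 → P i := stepQ 6183 Q6183 (allL N6183 (tt N6963 (iv F27666)) (tt N3675 (iv D14939)) (tt N5762 F25983) (tt N9957 (iv F38096)) (tt N3787 F25984) (tt N5775 F25985) (tt N9969 D20147))
theorem Q6185 : ∀ i, i < 6185 → P i := stepQ 6184 Q6184 (allL N6184 (tt N3677 F25986) (tt N7249 (iv F28275)) (tt N6168 F25987) (tt N9959 (iv F38102)) (tt N3788 F25988) (tt N6168 F25989) (tt N3675 (iv D14940)))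
theorem Q6186 : ∀ i, i < 6186 → P i := stepQ 6185 Q6185 (allL N6185 (tt N6164 F25990) (tt N9491 (iv F36986)) (tt N9970 D20148) (tt N3676 (iv D14941)) (tt N6909 (iv F27579)) (tt N6177 F25991) (tt N9962 (iv F38110)))
theorem Q6187 : ∀ i, i < 6187 → P i := stepQ 6186 Q6186 (allL N6186 (tt N6168 F25992) (tt N4362 (iv F25996)) (tt N3677 F25993) (tt N9962 (iv F38108)) (tt N3789 F25994) (tt N3677 F25995) (tt N3676 (iv D14942)))
theorem Q6188 : ∀ i, i < 6188 → P i := stepQ 6187 Q6187 (allL N6187 (tt N6975 (iv F27693)) (tt N3678 (iv D14943)) (tt N5764 F35281) (tt N9963 (iv F38112)) (tt N3790 F25997) (tt N9971 D20149) (tt N5778 (iv F34707)))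
theorem Q6189 : ∀ i, i < 6189 → P i := stepQ 6188 Q6188 (allL N6188 (tt N3680 F26000) (tt N7348 F28476) (tt N6170 (iv F35286)) (tt N9965 (iv F38118)) (tt N3791 F26001) (tt N3678 (iv D14945)) (tt N6170 F26002))
theorem Q6190 : ∀ i, i < 6190 → P i := stepQ 6189 Q6189 (allL N6189 (tt N6166 (iv F35288)) (tt N9492 (iv F36989)) (tt N9972 D20150) (tt N3679 (iv D14946)) (tt N6913 F35287) (tt N9968 (iv F38126)) (tt N6180 (iv F35289)))
theorem Q6191 : ∀ i, i < 6191 → P i := stepQ 6190 Q6190 (allL N6190 (tt N6170 F34732) (tt N4311 F34733) (tt N3680 F26003) (tt N9968 (iv F38124)) (tt N3792 F26004) (tt N3679 (iv D14947)) (tt N3680 F34734))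
theorem Q6192 : ∀ i, i < 6192 → P i := stepQ 6191 Q6191 (allL N6191 (tt N6191 F26009) (tt N3686 F26010) (tt N3681 (iv D14949)) (tt N9973 D20151) (tt N4178 F26011) (tt N6191 F26012) (tt N9973 (iv F38193)))
theorem Q6193 : ∀ i, i < 6193 → P i := stepQ 6192 Q6192 (allL N6192 (tt N6192 F26013) (tt N9974 D20153) (tt N9973 (iv F38191)) (tt N6192 F26014) (tt N4179 F26015) (tt N6192 F26016) (tt N3681 (iv D14950)))
theorem Q6194 : ∀ i, i < 6194 → P i := stepQ 6193 Q6193 (allL N6193 (tt N9975 D20154) (tt N3682 (iv D14951)) (tt N9976 D20155) (tt N6193 F26017) (tt N4180 F26018) (tt N9953 F38086) (tt N9974 (iv F38151)))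
theorem Q6195 : ∀ i, i < 6195 → P i := stepQ 6194 Q6194 (allL N6194 (tt N6194 F35344) (tt N3690 F26022) (tt N3683 (iv D14953)) (tt N9977 D20156) (tt N4181 F26023) (tt N9977 (iv F40980)) (tt N6194 F26024))
theorem Q6196 : ∀ i, i < 6196 → P i := stepQ 6195 Q6195 (allL N6195 (tt N6195 F35341) (tt N9978 D20158) (tt N9977 (iv F40978)) (tt N6195 F26025) (tt N4182 F26026) (tt N3683 (iv D14954)) (tt N6195 F35328))
theorem Q6197 : ∀ i, i < 6197 → P i := stepQ 6196 Q6196 (allL N6196 (tt N9979 D20159) (tt N3684 (iv D14955)) (tt N9980 D20160) (tt N6196 F26027) (tt N4183 F26028) (tt N9978 (iv F38168)) (tt N9956 F38095))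
theorem Q6198 : ∀ i, i < 6198 → P i := stepQ 6197 Q6197 (allL N6197 (tt N9531 (iv F37091)) (tt N3685 (iv D14956)) (tt N9981 D20161) (tt N3693 F26029) (tt N4184 F26030) (tt N9982 D20162) (tt N9983 D20163))
theorem Q6199 : ∀ i, i < 6199 → P i := stepQ 6198 Q6198 (allL N6198 (tt N3686 F26031) (tt N9984 D20164) (tt N3685 (iv D14957)) (tt N9985 D20165) (tt N4185 F26032) (tt N3710 F26033) (tt N6261 (iv F26145)))
theorem Q6200 : ∀ i, i < 6200 → P i := stepQ 6199 Q6199 (allL N6199 (tt N9985 (iv F38186)) (tt N9973 (iv F38143)) (tt N9986 D20166) (tt N3686 (iv D14958)) (tt N9987 D20167) (tt N3712 F26034) (tt N9988 D20168))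
theorem Q6201 : ∀ i, i < 6201 → P i := stepQ 6200 Q6200 (allL N6200 (tt N6261 (iv F26142)) (tt N9988 (iv F38199)) (tt N3687 F26035) (tt N9988 (iv F38200)) (tt N4187 F26036) (tt N6255 (iv F26134)) (tt N3686 (iv D14959)))
theorem Q6202 : ∀ i, i < 6202 → P i := stepQ 6201 Q6201 (allL N6201 (tt N9989 D20169) (tt N3687 (iv D14960)) (tt N9990 D20170) (tt N3697 F26037) (tt N4188 F26038) (tt N9991 D20171) (tt N3688 F26039))
theorem Q6203 : ∀ i, i < 6203 → P i := stepQ 6202 Q6202 (allL N6202 (tt N3688 (iv D14961)) (tt N9992 D20172) (tt N9993 D20173) (tt N3698 F26040) (tt N4189 F26041) (tt N9994 D20174) (tt N9989 (iv F38204)))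
theorem Q6204 : ∀ i, i < 6204 → P i := stepQ 6203 Q6203 (allL N6203 (tt N9993 (iv F38212)) (tt N9976 (iv F38157)) (tt N3688 (iv D14962)) (tt N9995 D20175) (tt N4190 F26042) (tt N9996 D20176) (tt N9990 (iv F38206)))
theorem Q6205 : ∀ i, i < 6205 → P i := stepQ 6204 Q6204 (allL N6204 (tt N9994 (iv F38214)) (tt N6182 F26043) (tt N9996 (iv F38219)) (tt N3700 F26044) (tt N4191 F26045) (tt N3688 (iv D14963)) (tt N9997 D20177))
theorem Q6206 : ∀ i, i < 6206 → P i := stepQ 6205 Q6205 (allL N6205 (tt N9544 (iv F37133)) (tt N3689 (iv D14964)) (tt N9998 D20178) (tt N3701 F26046) (tt N4192 F26047) (tt N9999 D20179) (tt N10000 D20180))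
theorem Q6207 : ∀ i, i < 6207 → P i := stepQ 6206 Q6206 (allL N6206 (tt N3690 F26048) (tt N10001 D20181) (tt N3689 (iv D14965)) (tt N10002 D20182) (tt N4193 F26049) (tt N6273 (iv F26168)) (tt N3716 F26050))
theorem Q6208 : ∀ i, i < 6208 → P i := stepQ 6207 Q6207 (allL N6207 (tt N10002 (iv F38235)) (tt N9977 (iv F38160)) (tt N10003 D20183) (tt N3690 (iv D14966)) (tt N10004 D20184) (tt N10005 D20185) (tt N3718 F26051))
theorem Q6209 : ∀ i, i < 6209 → P i := stepQ 6208 Q6208 (allL N6208 (tt N6273 (iv F26165)) (tt N10005 (iv F40982)) (tt N3691 F26052) (tt N10005 (iv F38243)) (tt N4195 F26053) (tt N3690 (iv D14967)) (tt N6267 (iv F26157)))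
theorem Q6210 : ∀ i, i < 6210 → P i := stepQ 6209 Q6209 (allL N6209 (tt N10006 D20187) (tt N3691 (iv D14968)) (tt N10007 D20188) (tt N3705 F26054) (tt N4196 F26055) (tt N3692 F26056) (tt N10008 D20189))
theorem Q6211 : ∀ i, i < 6211 → P i := stepQ 6210 Q6210 (allL N6210 (tt N3692 (iv D14969)) (tt N10009 D20190) (tt N10010 D20191) (tt N3706 F26057) (tt N4197 F26058) (tt N10006 (iv F38247)) (tt N10011 D20192))
theorem Q6212 : ∀ i, i < 6212 → P i := stepQ 6211 Q6211 (allL N6211 (tt N10010 (iv F38255)) (tt N9980 (iv F38174)) (tt N3692 (iv D14970)) (tt N10012 D20193) (tt N4198 F26059) (tt N10007 (iv F38249)) (tt N10013 D20194))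
theorem Q6213 : ∀ i, i < 6213 → P i := stepQ 6212 Q6212 (allL N6212 (tt N10011 (iv F38257)) (tt N6179 F26060) (tt N10013 (iv F38262)) (tt N3708 F26061) (tt N4199 F26062) (tt N10014 D20195) (tt N3692 (iv D14971)))
theorem Q6214 : ∀ i, i < 6214 → P i := stepQ 6213 Q6213 (allL N6213 (tt N3693 (iv D14972)) (tt N6963 (iv F27667)) (tt N10015 D20196) (tt N9531 (iv F37092)) (tt N3793 F26063) (tt N6917 F27591) (tt N7282 (iv F28348)))
theorem Q6215 : ∀ i, i < 6215 → P i := stepQ 6214 Q6214 (allL N6214 (tt N10015 (iv F38268)) (tt N10016 D20197) (tt N3693 (iv D14973)) (tt N10017 D20198) (tt N3794 F26064) (tt N10018 D20199) (tt N10019 D20200))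
theorem Q6216 : ∀ i, i < 6216 → P i := stepQ 6215 Q6215 (allL N6215 (tt N6917 (iv F27589)) (tt N3722 F26065) (tt N10018 (iv F38273)) (tt N9982 (iv F38178)) (tt N3795 F26066) (tt N3693 (iv D14974)) (tt N10020 D20201))
theorem Q6217 : ∀ i, i < 6217 → P i := stepQ 6216 Q6216 (allL N6216 (tt N7282 (iv F28346)) (tt N6301 (iv F26225)) (tt N10019 (iv F38275)) (tt N9983 (iv F38180)) (tt N3796 F26067) (tt N10021 D20202) (tt N3693 (iv D14975)))
theorem Q6218 : ∀ i, i < 6218 → P i := stepQ 6217 Q6217 (allL N6217 (tt N10022 D20203) (tt N3694 (iv D14976)) (tt N10016 (iv F38271)) (tt N10023 D20204) (tt N3797 F26068) (tt N10024 D20205) (tt N10025 D20206))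
theorem Q6219 : ∀ i, i < 6219 → P i := stepQ 6218 Q6218 (allL N6218 (tt N3695 F26069) (tt N10023 (iv F38286)) (tt N10026 D20207) (tt N3694 (iv D14977)) (tt N10027 D20208) (tt N3725 F26070) (tt N6295 (iv F26217)))
theorem Q6220 : ∀ i, i < 6220 → P i := stepQ 6219 Q6219 (allL N6219 (tt N10026 (iv F38292)) (tt N10028 D20209) (tt N3695 (iv D14978)) (tt N10029 D20210) (tt N10030 D20211) (tt N3728 F26071) (tt N10031 D20212))
theorem Q6221 : ∀ i, i < 6221 → P i := stepQ 6220 Q6220 (allL N6220 (tt N10027 (iv F38295)) (tt N9497 (iv F37001)) (tt N10030 (iv F38301)) (tt N3800 F26072) (tt N3695 (iv D14979)) (tt N3729 F26073) (tt N10032 D20213))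
theorem Q6222 : ∀ i, i < 6222 → P i := stepQ 6221 Q6221 (allL N6221 (tt N6295 (iv F26215)) (tt N10033 D20214) (tt N10031 (iv F38303)) (tt N3696 F26074) (tt N10032 (iv F38305)) (tt N6285 (iv F26200)) (tt N3695 (iv D14980)))
theorem Q6223 : ∀ i, i < 6223 → P i := stepQ 6222 Q6222 (allL N6222 (tt N10034 D20215) (tt N3696 (iv D14981)) (tt N10035 D20216) (tt N10033 (iv F38306)) (tt N3802 F26075) (tt N10036 D20217) (tt N9499 (iv F37006)))
theorem Q6224 : ∀ i, i < 6224 → P i := stepQ 6223 Q6223 (allL N6223 (tt N3697 (iv D14982)) (tt N10037 D20218) (tt N10038 D20219) (tt N9989 (iv F38202)) (tt N3803 F26076) (tt N6231 (iv F26093)) (tt N3698 F26077))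
theorem Q6225 : ∀ i, i < 6225 → P i := stepQ 6224 Q6224 (allL N6224 (tt N10038 (iv F38314)) (tt N10035 (iv F38308)) (tt N3697 (iv D14983)) (tt N10039 D20220) (tt N3804 F26078) (tt N10040 D20221) (tt N3699 F26079))
theorem Q6226 : ∀ i, i < 6226 → P i := stepQ 6225 Q6225 (allL N6225 (tt N6231 (iv F26091)) (tt N6289 (iv F26204)) (tt N10040 (iv F38318)) (tt N9991 (iv F38207)) (tt N3805 F26080) (tt N3697 (iv D14984)) (tt N6228 (iv F26088)))
theorem Q6227 : ∀ i, i < 6227 → P i := stepQ 6226 Q6226 (allL N6226 (tt N7281 (iv F28342)) (tt N3698 (iv D14985)) (tt N10041 D20222) (tt N9992 (iv F38209)) (tt N3806 F26081) (tt N4346 (iv F26082)) (tt N7279 F28339))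
theorem Q6228 : ∀ i, i < 6228 → P i := stepQ 6227 Q6227 (allL N6227 (tt N3699 F26083) (tt N10042 D20223) (tt N3698 (iv D14986)) (tt N10043 D20224) (tt N3807 F26084) (tt N10044 D20225) (tt N10038 (iv F38316)))
theorem Q6229 : ∀ i, i < 6229 → P i := stepQ 6228 Q6228 (allL N6228 (tt N3700 F26085) (tt N4230 F26086) (tt N10044 (iv F38325)) (tt N9994 (iv F38216)) (tt N3808 F26087) (tt N3698 (iv D14987)) (tt N6225 F26088))
theorem Q6230 : ∀ i, i < 6230 → P i := stepQ 6229 Q6229 (allL N6229 (tt N10043 (iv F38323)) (tt N9506 (iv F37018)) (tt N10045 D20226) (tt N3699 (iv D14988)) (tt N10046 D20227) (tt N10047 D20228) (tt N10039 (iv F38317)))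
theorem Q6231 : ∀ i, i < 6231 → P i := stepQ 6230 Q6230 (allL N6230 (tt N10044 (iv F38324)) (tt N7236 (iv F35277)) (tt N3700 F26089) (tt N10047 (iv F38329)) (tt N3810 F26090) (tt N3699 (iv D14989)) (tt N10048 D20229))
theorem Q6232 : ∀ i, i < 6232 → P i := stepQ 6231 Q6231 (allL N6231 (tt N6225 F26091) (tt N7237 (iv F28247)) (tt N10048 (iv F38331)) (tt N9997 (iv F38222)) (tt N3811 F26092) (tt N6223 F26093) (tt N3700 (iv D14990)))
theorem Q6233 : ∀ i, i < 6233 → P i := stepQ 6232 Q6232 (allL N6232 (tt N3701 (iv D14991)) (tt N6975 (iv F27694)) (tt N10049 D20230) (tt N9544 (iv F37134)) (tt N3812 F26094) (tt N7177 (iv F28123)) (tt N6925 F27609))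
theorem Q6234 : ∀ i, i < 6234 → P i := stepQ 6233 Q6233 (allL N6233 (tt N10049 (iv F38334)) (tt N10050 D20231) (tt N3701 (iv D14992)) (tt N10051 D20232) (tt N3813 F26095) (tt N10052 D20233) (tt N10053 D20234))
theorem Q6235 : ∀ i, i < 6235 → P i := stepQ 6234 Q6234 (allL N6234 (tt N7177 F28124) (tt N6328 (iv F26282)) (tt N10052 (iv F38339)) (tt N9999 (iv F38226)) (tt N3814 F26096) (tt N3701 (iv D14993)) (tt N10054 D20235))
theorem Q6236 : ∀ i, i < 6236 → P i := stepQ 6235 Q6235 (allL N6235 (tt N6925 (iv F27607)) (tt N3736 F26097) (tt N10053 (iv F38341)) (tt N10000 (iv F38229)) (tt N3815 F26098) (tt N10055 D20236) (tt N3701 (iv D14994)))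
theorem Q6237 : ∀ i, i < 6237 → P i := stepQ 6236 Q6236 (allL N6236 (tt N10056 D20237) (tt N3702 (iv D14995)) (tt N10050 (iv F38337)) (tt N10057 D20238) (tt N3816 F26099) (tt N10058 D20239) (tt N10059 D20240))
theorem Q6238 : ∀ i, i < 6238 → P i := stepQ 6237 Q6237 (allL N6237 (tt N3703 F26100) (tt N10057 (iv F38352)) (tt N10060 D20241) (tt N3702 (iv D14996)) (tt N10061 D20242) (tt N6322 (iv F26274)) (tt N3738 F26101))
theorem Q6239 : ∀ i, i < 6239 → P i := stepQ 6238 Q6238 (allL N6238 (tt N10060 (iv F38358)) (tt N10062 D20243) (tt N3703 (iv D14997)) (tt N10063 D20244) (tt N10064 D20245) (tt N10065 D20246) (tt N3741 F26102))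
theorem Q6240 : ∀ i, i < 6240 → P i := stepQ 6239 Q6239 (allL N6239 (tt N10061 (iv F38361)) (tt N9513 (iv F37034)) (tt N10064 (iv F38367)) (tt N3819 F26103) (tt N3703 (iv D14998)) (tt N10066 D20247) (tt N3742 F26104))
theorem Q6241 : ∀ i, i < 6241 → P i := stepQ 6240 Q6240 (allL N6240 (tt N6322 (iv F26272)) (tt N10067 D20248) (tt N10065 (iv F38369)) (tt N3704 F26105) (tt N10066 (iv F38371)) (tt N3703 (iv D14999)) (tt N6312 (iv F26257)))
theorem Q6242 : ∀ i, i < 6242 → P i := stepQ 6241 Q6241 (allL N6241 (tt N10068 D20249) (tt N3704 (iv D15000)) (tt N10069 D20250) (tt N10067 (iv F38372)) (tt N3821 F26106) (tt N9515 (iv F37039)) (tt N10070 D20251))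
theorem Q6243 : ∀ i, i < 6243 → P i := stepQ 6242 Q6242 (allL N6242 (tt N3705 (iv D15001)) (tt N10071 D20252) (tt N10072 D20253) (tt N10006 (iv F38245)) (tt N3822 F26107) (tt N3706 F26108) (tt N6250 (iv F26124)))
theorem Q6244 : ∀ i, i < 6244 → P i := stepQ 6243 Q6243 (allL N6243 (tt N10072 (iv F38380)) (tt N10069 (iv F38374)) (tt N3705 (iv D15002)) (tt N10073 D20254) (tt N3823 F26109) (tt N3707 F26110) (tt N10074 D20255))
theorem Q6245 : ∀ i, i < 6245 → P i := stepQ 6244 Q6244 (allL N6244 (tt N6250 (iv F26122)) (tt N6316 (iv F26261)) (tt N10074 (iv F38384)) (tt N10008 (iv F38250)) (tt N3824 F26111) (tt N6247 (iv F26119)) (tt N3705 (iv D15003)))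
theorem Q6246 : ∀ i, i < 6246 → P i := stepQ 6245 Q6245 (allL N6245 (tt N7180 (iv F28130)) (tt N3706 (iv D15004)) (tt N10075 D20256) (tt N10009 (iv F38252)) (tt N3825 F26112) (tt N7178 (iv F28127)) (tt N4295 (iv F26113)))
theorem Q6247 : ∀ i, i < 6247 → P i := stepQ 6246 Q6246 (allL N6246 (tt N3707 F26114) (tt N10076 D20257) (tt N3706 (iv D15005)) (tt N10077 D20258) (tt N3826 F26115) (tt N10072 (iv F38382)) (tt N10078 D20259))
theorem Q6248 : ∀ i, i < 6248 → P i := stepQ 6247 Q6247 (allL N6247 (tt N3708 F26116) (tt N4213 F26117) (tt N10078 (iv F38391)) (tt N10011 (iv F38259)) (tt N3827 F26118) (tt N6244 F26119) (tt N3706 (iv D15006)))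
theorem Q6249 : ∀ i, i < 6249 → P i := stepQ 6248 Q6248 (allL N6248 (tt N10077 (iv F38389)) (tt N9522 (iv F37055)) (tt N10079 D20260) (tt N3707 (iv D15007)) (tt N10080 D20261) (tt N10073 (iv F38383)) (tt N10081 D20262))
theorem Q6250 : ∀ i, i < 6250 → P i := stepQ 6249 Q6249 (allL N6249 (tt N10078 (iv F38390)) (tt N7336 (iv F28447)) (tt N3708 F26120) (tt N10081 (iv F38395)) (tt N3829 F26121) (tt N10082 D20263) (tt N3707 (iv D15008)))
theorem Q6251 : ∀ i, i < 6251 → P i := stepQ 6250 Q6250 (allL N6250 (tt N6244 F26122) (tt N7337 (iv F28450)) (tt N10082 (iv F38397)) (tt N10014 (iv F38265)) (tt N3830 F26123) (tt N3708 (iv D15009)) (tt N6242 F26124))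
theorem Q6252 : ∀ i, i < 6252 → P i := stepQ 6251 Q6251 (allL N6251 (tt N8227 (iv F31819)) (tt N9982 (iv F38177)) (tt N8226 F31818) (tt N3722 F26125) (tt N4234 F26126) (tt N3709 (iv D15010)) (tt N10083 D20264))
theorem Q6253 : ∀ i, i < 6253 → P i := stepQ 6252 Q6252 (allL N6252 (tt N8243 (iv F31857)) (tt N10084 D20265) (tt N8242 (iv F31853)) (tt N3723 F26127) (tt N4235 F26128) (tt N10085 D20266) (tt N3709 (iv D15011)))
theorem Q6254 : ∀ i, i < 6254 → P i := stepQ 6253 Q6253 (allL N6253 (tt N4186 (iv F27754)) (tt N3710 (iv D15012)) (tt N7039 (iv F27818)) (tt N4185 F27753) (tt N4236 F26129) (tt N4237 (iv F27755)) (tt N7103 (iv F27989)))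
theorem Q6255 : ∀ i, i < 6255 → P i := stepQ 6254 Q6254 (allL N6254 (tt N3712 F26130) (tt N4185 (iv F27752)) (tt N6290 (iv F26208)) (tt N3710 (iv D15013)) (tt N9984 (iv F38182)) (tt N9985 (iv F38189)) (tt N10086 D20267))
theorem Q6256 : ∀ i, i < 6256 → P i := stepQ 6255 Q6255 (allL N6255 (tt N3713 F26131) (tt N10087 D20268) (tt N3711 F26132) (tt N10086 (iv F38415)) (tt N4238 F26133) (tt N6200 F26134) (tt N3710 (iv D15014)))
theorem Q6257 : ∀ i, i < 6257 → P i := stepQ 6256 Q6256 (allL N6256 (tt N10088 D20269) (tt N3711 (iv D15015)) (tt N10089 D20270) (tt N3727 F26135) (tt N4239 F26136) (tt N10090 D20271) (tt N10084 (iv F38407)))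
theorem Q6258 : ∀ i, i < 6258 → P i := stepQ 6257 Q6257 (allL N6257 (tt N6290 (iv F26207)) (tt N10091 D20272) (tt N3712 (iv D15016)) (tt N6283 (iv F26195)) (tt N10092 D20273) (tt N9986 (iv F38190)) (tt N10093 D20274))
theorem Q6259 : ∀ i, i < 6259 → P i := stepQ 6258 Q6258 (allL N6258 (tt N9984 (iv F38185)) (tt N6258 F26137) (tt N10092 (iv F38426)) (tt N4241 F26138) (tt N3712 (iv D15017)) (tt N9987 (iv F38197)) (tt N10094 D20275))
theorem Q6260 : ∀ i, i < 6260 → P i := stepQ 6259 Q6259 (allL N6259 (tt N10086 (iv F38414)) (tt N10095 D20276) (tt N10093 (iv F38427)) (tt N3713 F26139) (tt N10094 (iv F38429)) (tt N10096 D20277) (tt N3712 (iv D15018)))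
theorem Q6261 : ∀ i, i < 6261 → P i := stepQ 6260 Q6260 (allL N6260 (tt N4243 (iv F41326)) (tt N3713 (iv D15019)) (tt N7164 (iv F28083)) (tt N10095 (iv F38430)) (tt N4243 F26140) (tt N10097 D20279) (tt N6260 F26141))
theorem Q6262 : ∀ i, i < 6262 → P i := stepQ 6261 Q6261 (allL N6261 (tt N6200 F26142) (tt N10098 D20280) (tt N3714 F26143) (tt N10096 (iv F38433)) (tt N4244 F26144) (tt N3713 (iv D15020)) (tt N6198 F26145))
theorem Q6263 : ∀ i, i < 6263 → P i := stepQ 6262 Q6262 (allL N6262 (tt N10099 D20281) (tt N3714 (iv D15021)) (tt N10100 D20282) (tt N3733 F26146) (tt N4248 F26147) (tt N7166 (iv F28092)) (tt N10101 D20283))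
theorem Q6264 : ∀ i, i < 6264 → P i := stepQ 6263 Q6263 (allL N6263 (tt N8246 (iv F31873)) (tt N10102 D20284) (tt N8245 (iv F31869)) (tt N3735 F26148) (tt N4255 F26149) (tt N3715 (iv D15022)) (tt N10103 D20285))
theorem Q6265 : ∀ i, i < 6265 → P i := stepQ 6264 Q6264 (allL N6264 (tt N8231 (iv F31831)) (tt N10000 (iv F38228)) (tt N8230 F31830) (tt N3736 F26150) (tt N4256 F26151) (tt N10104 D20286) (tt N3715 (iv D15023)))
theorem Q6266 : ∀ i, i < 6266 → P i := stepQ 6265 Q6265 (allL N6265 (tt N4194 F34657) (tt N3716 (iv D15024)) (tt N7067 F34658) (tt N4193 F34659) (tt N4257 F26152) (tt N7143 F34660) (tt N4258 F34661))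
theorem Q6267 : ∀ i, i < 6267 → P i := stepQ 6266 Q6266 (allL N6266 (tt N3718 F26153) (tt N4193 F34685) (tt N6317 (iv F26265)) (tt N3716 (iv D15025)) (tt N10001 (iv F38231)) (tt N10105 D20287) (tt N10002 (iv F38238)))
theorem Q6268 : ∀ i, i < 6268 → P i := stepQ 6267 Q6267 (allL N6267 (tt N3719 F26154) (tt N10106 D20288) (tt N3717 F26155) (tt N10105 (iv F38461)) (tt N4259 F26156) (tt N3716 (iv D15026)) (tt N6208 F26157))
theorem Q6269 : ∀ i, i < 6269 → P i := stepQ 6268 Q6268 (allL N6268 (tt N10107 D20289) (tt N3717 (iv D15027)) (tt N10108 D20290) (tt N3740 F26158) (tt N4260 F26159) (tt N10102 (iv F38448)) (tt N10109 D20291))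
theorem Q6270 : ∀ i, i < 6270 → P i := stepQ 6269 Q6269 (allL N6269 (tt N6317 (iv F26264)) (tt N10110 D20292) (tt N3718 (iv D15028)) (tt N6310 (iv F26252)) (tt N10111 D20293) (tt N10112 D20294) (tt N10003 (iv F38239)))
theorem Q6271 : ∀ i, i < 6271 → P i := stepQ 6270 Q6270 (allL N6270 (tt N10001 (iv F38234)) (tt N6270 F26160) (tt N10111 (iv F38472)) (tt N4262 F26161) (tt N3718 (iv D15029)) (tt N10113 D20295) (tt N10004 (iv F38242)))
theorem Q6272 : ∀ i, i < 6272 → P i := stepQ 6271 Q6271 (allL N6271 (tt N10105 (iv F38460)) (tt N10114 D20296) (tt N10112 (iv F38473)) (tt N3719 F26162) (tt N10113 (iv F38475)) (tt N3718 (iv D15030)) (tt N10115 D20297))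
theorem Q6273 : ∀ i, i < 6273 → P i := stepQ 6272 Q6272 (allL N6272 (tt N4264 F37353) (tt N3719 (iv D15031)) (tt N7124 (iv F28013)) (tt N10114 (iv F38476)) (tt N4264 F26163) (tt N6272 F26164) (tt N10116 D20298))
theorem Q6274 : ∀ i, i < 6274 → P i := stepQ 6273 Q6273 (allL N6273 (tt N6208 F26165) (tt N10117 D20299) (tt N3720 F26166) (tt N10115 (iv F38480)) (tt N4265 F26167) (tt N6206 F26168) (tt N3719 (iv D15032)))
theorem Q6275 : ∀ i, i < 6275 → P i := stepQ 6274 Q6274 (allL N6274 (tt N10118 D20300) (tt N3720 (iv D15033)) (tt N10119 D20301) (tt N3746 F26169) (tt N4269 F26170) (tt N10120 D20302) (tt N7126 (iv F28019)))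
theorem Q6276 : ∀ i, i < 6276 → P i := stepQ 6275 Q6275 (allL N6275 (tt N3722 F26171) (tt N6893 F27536) (tt N3722 F26172) (tt N8227 (iv F31822)) (tt N3831 F26173) (tt N3721 (iv D15034)) (tt N6279 (iv F26184)))
theorem Q6277 : ∀ i, i < 6277 → P i := stepQ 6276 Q6276 (allL N6276 (tt N3723 F26174) (tt N9398 (iv F36745)) (tt N3723 F26175) (tt N8243 (iv F31859)) (tt N3832 F26176) (tt N6277 (iv F26178)) (tt N3721 (iv D15035)))
theorem Q6278 : ∀ i, i < 6278 → P i := stepQ 6277 Q6277 (allL N6277 (tt N6279 (iv F26181)) (tt N5884 (iv F34712)) (tt N6279 (iv F26182)) (tt N10083 (iv F38401)) (tt N3833 F26177) (tt N6276 F26178) (tt N3722 (iv D15036)))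
theorem Q6279 : ∀ i, i < 6279 → P i := stepQ 6278 Q6278 (allL N6278 (tt N7077 (iv F27939)) (tt N3723 (iv D15037)) (tt N5880 F35310) (tt N10084 (iv F38405)) (tt N3834 F26179) (tt N5879 (iv F35309)) (tt N3727 F26180))
theorem Q6280 : ∀ i, i < 6280 → P i := stepQ 6279 Q6279 (allL N6279 (tt N6277 F26181) (tt N9547 (iv F37143)) (tt N6277 F26182) (tt N10085 (iv F38411)) (tt N3835 F26183) (tt N3723 (iv D15038)) (tt N6275 F26184))
theorem Q6281 : ∀ i, i < 6281 → P i := stepQ 6280 Q6280 (allL N6280 (tt N4279 F26185) (tt N3725 F26186) (tt N5278 F26187) (tt N3724 (iv D15039)) (tt N10121 D20303) (tt N10122 D20304) (tt N10123 D20305))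
theorem Q6282 : ∀ i, i < 6282 → P i := stepQ 6281 Q6281 (allL N6281 (tt N4280 F26188) (tt N10024 (iv F38288)) (tt N4276 F26189) (tt N10122 (iv F38500)) (tt N3837 F26190) (tt N3724 (iv D15040)) (tt N7176 (iv F28121)))
theorem Q6283 : ∀ i, i < 6283 → P i := stepQ 6282 Q6282 (allL N6282 (tt N4281 F26191) (tt N10124 D20306) (tt N4277 F26192) (tt N10123 (iv F38504)) (tt N3838 F26193) (tt N7174 (iv F28116)) (tt N3724 (iv D15041)))
theorem Q6284 : ∀ i, i < 6284 → P i := stepQ 6283 Q6283 (allL N6283 (tt N3728 F26194) (tt N10125 D20307) (tt N3725 (iv D15042)) (tt N6257 F26195) (tt N10126 D20308) (tt N10026 (iv F38293)) (tt N10127 D20309))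
theorem Q6285 : ∀ i, i < 6285 → P i := stepQ 6284 Q6284 (allL N6284 (tt N3729 F26196) (tt N10121 (iv F38494)) (tt N10126 (iv F38512)) (tt N3839 F26197) (tt N3725 (iv D15043)) (tt N10027 (iv F38297)) (tt N10128 D20310))
theorem Q6286 : ∀ i, i < 6286 → P i := stepQ 6285 Q6285 (allL N6285 (tt N3730 F26198) (tt N10129 D20311) (tt N10127 (iv F38514)) (tt N3726 F26199) (tt N10128 (iv F38519)) (tt N6221 F26200) (tt N3725 (iv D15044)))
theorem Q6287 : ∀ i, i < 6287 → P i := stepQ 6286 Q6286 (allL N6286 (tt N10130 D20312) (tt N3726 (iv D15045)) (tt N10131 D20313) (tt N10129 (iv F38521)) (tt N3841 F26201) (tt N10132 D20314) (tt N10124 (iv F38507)))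
theorem Q6288 : ∀ i, i < 6288 → P i := stepQ 6287 Q6287 (allL N6287 (tt N3727 (iv D15046)) (tt N10133 D20315) (tt N9535 (iv F37106)) (tt N10088 (iv F38418)) (tt N3842 F26202) (tt N9534 F37104) (tt N7077 (iv F27941)))
theorem Q6289 : ∀ i, i < 6289 → P i := stepQ 6288 Q6288 (allL N6288 (tt N9535 (iv F37105)) (tt N10131 (iv F38526)) (tt N3727 (iv D15047)) (tt N5911 F35313) (tt N3843 F26203) (tt N9533 (iv F37098)) (tt N5880 (iv F35312)))
theorem Q6290 : ∀ i, i < 6290 → P i := stepQ 6289 Q6289 (allL N6289 (tt N9534 (iv F37100)) (tt N6225 F26204) (tt N9533 F37099) (tt N10090 (iv F38422)) (tt N3844 F26205) (tt N3727 (iv D15048)) (tt N4228 (iv F26206)))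
theorem Q6291 : ∀ i, i < 6291 → P i := stepQ 6290 Q6290 (allL N6290 (tt N6257 F26207) (tt N6999 F27751) (tt N6254 F26208) (tt N3728 (iv D15049)) (tt N10134 D20316) (tt N10029 (iv F38300)) (tt N10135 D20317))
theorem Q6292 : ∀ i, i < 6292 → P i := stepQ 6291 Q6291 (allL N6291 (tt N10126 (iv F38511)) (tt N9566 (iv F37200)) (tt N3729 F26209) (tt N10136 D20318) (tt N3728 (iv D15050)) (tt N10030 (iv F38302)) (tt N10137 D20319))
theorem Q6293 : ∀ i, i < 6293 → P i := stepQ 6292 Q6292 (allL N6292 (tt N10127 (iv F38513)) (tt N10138 D20320) (tt N3730 F26210) (tt N10135 (iv F38541)) (tt N10137 (iv F38543)) (tt N10139 D20321) (tt N3728 (iv D15051)))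
theorem Q6294 : ∀ i, i < 6294 → P i := stepQ 6293 Q6293 (allL N6293 (tt N10128 (iv F38517)) (tt N10140 D20322) (tt N10137 (iv F38542)) (tt N3848 F26211) (tt N3730 F26212) (tt N10141 D20323) (tt N3729 (iv D15052)))
theorem Q6295 : ∀ i, i < 6295 → P i := stepQ 6294 Q6294 (allL N6294 (tt N10142 D20324) (tt N3730 (iv D15053)) (tt N10143 D20325) (tt N3731 F26213) (tt N10140 (iv F38548)) (tt N10144 D20326) (tt N3754 F26214))
theorem Q6296 : ∀ i, i < 6296 → P i := stepQ 6295 Q6295 (allL N6295 (tt N6221 F26215) (tt N10145 D20327) (tt N10139 (iv F38545)) (tt N3732 F26216) (tt N10141 (iv F38552)) (tt N3730 (iv D15054)) (tt N6218 F26217))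
theorem Q6297 : ∀ i, i < 6297 → P i := stepQ 6296 Q6296 (allL N6296 (tt N3731 (iv D15055)) (tt N10146 D20328) (tt N6367 (iv F26357)) (tt N10142 (iv F38554)) (tt N3851 F26218) (tt N6348 (iv F26323)) (tt N3755 F26219))
theorem Q6298 : ∀ i, i < 6298 → P i := stepQ 6297 Q6297 (allL N6297 (tt N6348 (iv F26320)) (tt N10147 D20329) (tt N6368 (iv F26361)) (tt N10144 (iv F38557)) (tt N3852 F26220) (tt N3731 (iv D15056)) (tt N6347 (iv F26319)))
theorem Q6299 : ∀ i, i < 6299 → P i := stepQ 6298 Q6298 (allL N6298 (tt N10148 D20330) (tt N3732 (iv D15057)) (tt N10149 D20331) (tt N10145 (iv F38558)) (tt N3853 F26221) (tt N10147 (iv F38561)) (tt N10150 D20332))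
theorem Q6300 : ∀ i, i < 6300 → P i := stepQ 6299 Q6299 (allL N6299 (tt N3733 (iv D15058)) (tt N4173 (iv F26223)) (tt N10151 D20333) (tt N10099 (iv F38439)) (tt N3854 F26222) (tt N7366 (iv F28505)) (tt N7058 (iv F27879)))
theorem Q6301 : ∀ i, i < 6301 → P i := stepQ 6300 Q6300 (allL N6300 (tt N10151 (iv F38567)) (tt N10149 (iv F38563)) (tt N3733 (iv D15059)) (tt N5255 F39712) (tt N3855 F26224) (tt N7367 (iv F28507)) (tt N10152 D20335))
theorem Q6302 : ∀ i, i < 6302 → P i := stepQ 6301 Q6301 (allL N6301 (tt N7058 F27880) (tt N6216 F26225) (tt N10152 (iv F38569)) (tt N10101 (iv F38444)) (tt N3856 F26226) (tt N10153 D20336) (tt N3733 (iv D15060)))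
theorem Q6303 : ∀ i, i < 6303 → P i := stepQ 6302 Q6302 (allL N6302 (tt N3735 F26227) (tt N9393 (iv F36723)) (tt N3735 F26228) (tt N8246 (iv F31875)) (tt N3857 F26229) (tt N3734 (iv D15061)) (tt N6306 (iv F26240)))
theorem Q6304 : ∀ i, i < 6304 → P i := stepQ 6303 Q6303 (allL N6303 (tt N3736 F26230) (tt N6896 F27540) (tt N3736 F26231) (tt N8231 (iv F31834)) (tt N3858 F26232) (tt N6305 (iv F26236)) (tt N3734 (iv D15062)))
theorem Q6305 : ∀ i, i < 6305 → P i := stepQ 6304 Q6304 (allL N6304 (tt N7049 (iv F27859)) (tt N3735 (iv D15063)) (tt N5889 (iv F35299)) (tt N10102 (iv F38446)) (tt N3859 F26233) (tt N3740 F26234) (tt N5888 (iv F35306)))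
theorem Q6306 : ∀ i, i < 6306 → P i := stepQ 6305 Q6305 (allL N6305 (tt N6306 (iv F26237)) (tt N9534 (iv F37101)) (tt N6306 (iv F26238)) (tt N10103 (iv F38451)) (tt N3860 F26235) (tt N6303 F26236) (tt N3735 (iv D15064)))
theorem Q6307 : ∀ i, i < 6307 → P i := stepQ 6306 Q6306 (allL N6306 (tt N6305 F26237) (tt N5875 F26241) (tt N6305 F26238) (tt N10104 (iv F38456)) (tt N3861 F26239) (tt N3736 (iv D15065)) (tt N6302 F26240))
theorem Q6308 : ∀ i, i < 6308 → P i := stepQ 6307 Q6307 (allL N6307 (tt N4330 F26242) (tt N3738 F26243) (tt N5300 F26244) (tt N3737 (iv D15066)) (tt N10154 D20337) (tt N10155 D20338) (tt N10156 D20339))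
theorem Q6309 : ∀ i, i < 6309 → P i := stepQ 6308 Q6308 (allL N6308 (tt N4331 F26245) (tt N10157 D20340) (tt N4327 F26246) (tt N10155 (iv F38581)) (tt N3863 F26247) (tt N3737 (iv D15067)) (tt N7278 (iv F28336)))
theorem Q6310 : ∀ i, i < 6310 → P i := stepQ 6309 Q6309 (allL N6309 (tt N4332 F26248) (tt N10059 (iv F38355)) (tt N4328 F26249) (tt N10156 (iv F38584)) (tt N3864 F26250) (tt N7277 (iv F28331)) (tt N3737 (iv D15068)))
theorem Q6311 : ∀ i, i < 6311 → P i := stepQ 6310 Q6310 (allL N6310 (tt N3741 F26251) (tt N10158 D20341) (tt N3738 (iv D15069)) (tt N6269 F26252) (tt N10159 D20342) (tt N10160 D20343) (tt N10060 (iv F38359)))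
theorem Q6312 : ∀ i, i < 6312 → P i := stepQ 6311 Q6311 (allL N6311 (tt N3742 F26253) (tt N10154 (iv F38575)) (tt N10159 (iv F38593)) (tt N3865 F26254) (tt N3738 (iv D15070)) (tt N10161 D20344) (tt N10061 (iv F38363)))
theorem Q6313 : ∀ i, i < 6313 → P i := stepQ 6312 Q6312 (allL N6312 (tt N3743 F26255) (tt N10162 D20345) (tt N10160 (iv F38595)) (tt N3739 F26256) (tt N10161 (iv F38600)) (tt N3738 (iv D15071)) (tt N6240 F26257))
theorem Q6314 : ∀ i, i < 6314 → P i := stepQ 6313 Q6313 (allL N6313 (tt N10163 D20346) (tt N3739 (iv D15072)) (tt N10164 D20347) (tt N10162 (iv F38602)) (tt N3867 F26258) (tt N10157 (iv F38588)) (tt N10165 D20348))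
theorem Q6315 : ∀ i, i < 6315 → P i := stepQ 6314 Q6314 (allL N6314 (tt N3740 (iv D15073)) (tt N10166 D20349) (tt N9548 (iv F37148)) (tt N10107 (iv F38464)) (tt N3868 F26259) (tt N7049 F27861) (tt N9547 F37146))
theorem Q6316 : ∀ i, i < 6316 → P i := stepQ 6315 Q6315 (allL N6315 (tt N9548 (iv F37147)) (tt N10164 (iv F38607)) (tt N3740 (iv D15074)) (tt N5933 F35301) (tt N3869 F26260) (tt N5889 (iv F35300)) (tt N9546 F37140))
theorem Q6317 : ∀ i, i < 6317 → P i := stepQ 6316 Q6316 (allL N6316 (tt N9547 (iv F37142)) (tt N6244 F26261) (tt N9546 (iv F37141)) (tt N10109 (iv F38468)) (tt N3870 F26262) (tt N4211 (iv F26263)) (tt N3740 (iv D15075)))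
theorem Q6318 : ∀ i, i < 6318 → P i := stepQ 6317 Q6317 (allL N6317 (tt N6269 F26264) (tt N7015 (iv F34692)) (tt N6266 F26265) (tt N3741 (iv D15076)) (tt N10167 D20350) (tt N10168 D20351) (tt N10063 (iv F38366)))
theorem Q6319 : ∀ i, i < 6319 → P i := stepQ 6318 Q6318 (allL N6318 (tt N10159 (iv F38592)) (tt N9604 (iv F37286)) (tt N3742 F26266) (tt N10169 D20352) (tt N3741 (iv D15077)) (tt N10170 D20353) (tt N10064 (iv F38368)))
theorem Q6320 : ∀ i, i < 6320 → P i := stepQ 6319 Q6319 (allL N6319 (tt N10160 (iv F38594)) (tt N10171 D20354) (tt N3743 F26267) (tt N10168 (iv F38622)) (tt N10170 (iv F38624)) (tt N3741 (iv D15078)) (tt N10172 D20355))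
theorem Q6321 : ∀ i, i < 6321 → P i := stepQ 6320 Q6320 (allL N6320 (tt N10161 (iv F38598)) (tt N10173 D20356) (tt N10170 (iv F38623)) (tt N3874 F26268) (tt N3743 F26269) (tt N3742 (iv D15079)) (tt N10174 D20357))
theorem Q6322 : ∀ i, i < 6322 → P i := stepQ 6321 Q6321 (allL N6321 (tt N10175 D20358) (tt N3743 (iv D15080)) (tt N10176 D20359) (tt N3744 F26270) (tt N10173 (iv F38629)) (tt N3764 F26271) (tt N10177 D20360))
theorem Q6323 : ∀ i, i < 6323 → P i := stepQ 6322 Q6322 (allL N6322 (tt N6240 F26272) (tt N10178 D20361) (tt N10172 (iv F38626)) (tt N3745 F26273) (tt N10174 (iv F38633)) (tt N6237 F26274) (tt N3743 (iv D15081)))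
theorem Q6324 : ∀ i, i < 6324 → P i := stepQ 6323 Q6323 (allL N6323 (tt N3744 (iv D15082)) (tt N10179 D20362) (tt N6347 (iv F26317)) (tt N10175 (iv F38635)) (tt N3877 F26275) (tt N3765 F26276) (tt N6368 (iv F26363)))
theorem Q6325 : ∀ i, i < 6325 → P i := stepQ 6324 Q6324 (allL N6324 (tt N6368 (iv F26360)) (tt N10180 D20363) (tt N6348 (iv F26321)) (tt N10177 (iv F38638)) (tt N3878 F26277) (tt N6367 (iv F26359)) (tt N3744 (iv D15083)))
theorem Q6326 : ∀ i, i < 6326 → P i := stepQ 6325 Q6325 (allL N6325 (tt N10181 D20364) (tt N3745 (iv D15084)) (tt N10182 D20365) (tt N10178 (iv F38639)) (tt N3879 F26278) (tt N10183 D20366) (tt N10180 (iv F38642)))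
theorem Q6327 : ∀ i, i < 6327 → P i := stepQ 6326 Q6326 (allL N6326 (tt N3746 (iv D15085)) (tt N4167 (iv F26280)) (tt N10184 D20367) (tt N10118 (iv F38486)) (tt N3880 F26279) (tt N7086 (iv F27959)) (tt N7266 (iv F28301)))
theorem Q6328 : ∀ i, i < 6328 → P i := stepQ 6327 Q6327 (allL N6327 (tt N10184 (iv F38648)) (tt N10182 (iv F38644)) (tt N3746 (iv D15086)) (tt N5247 F39756) (tt N3881 F26281) (tt N10185 D20369) (tt N7267 (iv F28303)))
theorem Q6329 : ∀ i, i < 6329 → P i := stepQ 6328 Q6328 (allL N6328 (tt N7086 F27960) (tt N6234 F26282) (tt N10185 (iv F38650)) (tt N10120 (iv F38491)) (tt N3882 F26283) (tt N3746 (iv D15087)) (tt N10186 D20370))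
theorem Q6330 : ∀ i, i < 6330 → P i := stepQ 6329 Q6329 (allL N6329 (tt N4278 F26284) (tt N3747 (iv D15088)) (tt N4285 (iv F26286)) (tt N10187 D20371) (tt N3883 F26285) (tt N9081 (iv F35882)) (tt N10188 D20372))
theorem Q6331 : ∀ i, i < 6331 → P i := stepQ 6330 Q6330 (allL N6330 (tt N3748 F26287) (tt N10187 (iv F38657)) (tt N10189 D20373) (tt N3747 (iv D15089)) (tt N10190 D20374) (tt N10191 D20375) (tt N10192 D20376))
theorem Q6332 : ∀ i, i < 6332 → P i := stepQ 6331 Q6331 (allL N6331 (tt N3749 F26288) (tt N10193 D20377) (tt N6331 F26289) (tt N10191 (iv F38667)) (tt N3885 F26290) (tt N3747 (iv D15090)) (tt N6339 (iv F26306)))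
theorem Q6333 : ∀ i, i < 6333 → P i := stepQ 6332 Q6332 (allL N6332 (tt N3750 F26291) (tt N10194 D20378) (tt N6332 F26292) (tt N10192 (iv F38669)) (tt N3886 F26293) (tt N6337 (iv F26300)) (tt N3747 (iv D15091)))
theorem Q6334 : ∀ i, i < 6334 → P i := stepQ 6333 Q6333 (allL N6333 (tt N10189 (iv F38663)) (tt N6373 (iv F26372)) (tt N3748 (iv D15092)) (tt N10195 D20379) (tt N10196 D20380) (tt N10197 D20381) (tt N10198 D20382))
theorem Q6335 : ∀ i, i < 6335 → P i := stepQ 6334 Q6334 (allL N6334 (tt N10190 (iv F38664)) (tt N3751 F26294) (tt N10196 (iv F38673)) (tt N3888 F26295) (tt N3748 (iv D15093)) (tt N10199 D20383) (tt N10200 D20384))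
theorem Q6336 : ∀ i, i < 6336 → P i := stepQ 6335 Q6335 (allL N6335 (tt N10191 (iv F38666)) (tt N6375 (iv F26375)) (tt N10197 (iv F38674)) (tt N3749 F26296) (tt N10199 (iv F38677)) (tt N3748 (iv D15094)) (tt N10201 D20385))
theorem Q6337 : ∀ i, i < 6337 → P i := stepQ 6336 Q6336 (allL N6336 (tt N10192 (iv F38668)) (tt N7399 (iv F28582)) (tt N10198 (iv F38675)) (tt N3750 F26297) (tt N10200 (iv F38679)) (tt N10202 D20386) (tt N3748 (iv D15095)))
theorem Q6338 : ∀ i, i < 6338 → P i := stepQ 6337 Q6337 (allL N6337 (tt N6339 (iv F26303)) (tt N10203 D20387) (tt N6337 F26298) (tt N10201 (iv F38680)) (tt N3891 F26299) (tt N6332 F26300) (tt N3749 (iv D15096)))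
theorem Q6339 : ∀ i, i < 6339 → P i := stepQ 6338 Q6338 (allL N6338 (tt N10204 D20388) (tt N3750 (iv D15097)) (tt N9639 (iv F37382)) (tt N7399 (iv F28583)) (tt N3892 F26301) (tt N10205 D20389) (tt N3752 F26302))
theorem Q6340 : ∀ i, i < 6340 → P i := stepQ 6339 Q6339 (allL N6339 (tt N6337 F26303) (tt N10206 D20390) (tt N6339 F26304) (tt N10202 (iv F38683)) (tt N3893 F26305) (tt N3750 (iv D15098)) (tt N6331 F26306))
theorem Q6341 : ∀ i, i < 6341 → P i := stepQ 6340 Q6340 (allL N6340 (tt N3752 (iv D15099)) (tt N10207 D20391) (tt N9636 (iv F37376)) (tt N7396 (iv F28577)) (tt N3896 F26307) (tt N10208 D20392) (tt N10204 (iv F38687)))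
theorem Q6342 : ∀ i, i < 6342 → P i := stepQ 6341 Q6341 (allL N6341 (tt N10208 (iv F38692)) (tt N4389 F26308) (tt N9638 (iv F37379)) (tt N7398 (iv F28581)) (tt N3897 F26309) (tt N3752 (iv D15100)) (tt N10209 D20393))
theorem Q6343 : ∀ i, i < 6343 → P i := stepQ 6342 Q6342 (allL N6342 (tt N10210 D20394) (tt N3753 (iv D15101)) (tt N10211 D20395) (tt N3905 F26310) (tt N3754 F26311) (tt N10212 D20396) (tt N10140 (iv F38549)))
theorem Q6344 : ∀ i, i < 6344 → P i := stepQ 6343 Q6343 (allL N6343 (tt N3754 (iv D15102)) (tt N10213 D20397) (tt N10214 D20398) (tt N3755 F26312) (tt N10210 (iv F38699)) (tt N10215 D20399) (tt N10142 (iv F38555)))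
theorem Q6345 : ∀ i, i < 6345 → P i := stepQ 6344 Q6344 (allL N6344 (tt N10214 (iv F38705)) (tt N7390 (iv F28566)) (tt N3754 (iv D15103)) (tt N10216 D20400) (tt N10211 (iv F38700)) (tt N10217 D20401) (tt N10143 (iv F38556)))
theorem Q6346 : ∀ i, i < 6346 → P i := stepQ 6345 Q6345 (allL N6345 (tt N10215 (iv F38706)) (tt N4324 F26313) (tt N10217 (iv F38709)) (tt N3756 F26314) (tt N10212 (iv F38703)) (tt N3754 (iv D15104)) (tt N10218 D20402))
theorem Q6347 : ∀ i, i < 6347 → P i := stepQ 6346 Q6346 (allL N6346 (tt N9580 (iv F37226)) (tt N3755 (iv D15105)) (tt N9579 F37224) (tt N10213 (iv F38704)) (tt N3909 F26315) (tt N10219 D20403) (tt N10220 D20404))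
theorem Q6348 : ∀ i, i < 6348 → P i := stepQ 6347 Q6347 (allL N6347 (tt N3756 F26316) (tt N9093 (iv F35902)) (tt N6323 F26317) (tt N10215 (iv F38707)) (tt N3910 F26318) (tt N3755 (iv D15106)) (tt N6297 F26319))
theorem Q6349 : ∀ i, i < 6349 → P i := stepQ 6348 Q6348 (allL N6348 (tt N6297 F26320) (tt N10221 D20405) (tt N6324 F26321) (tt N10218 (iv F38711)) (tt N3911 F26322) (tt N6296 F26323) (tt N3756 (iv D15107)))
theorem Q6350 : ∀ i, i < 6350 → P i := stepQ 6349 Q6349 (allL N6349 (tt N4329 F26324) (tt N3757 (iv D15108)) (tt N4336 (iv F26326)) (tt N10222 D20406) (tt N3912 F26325) (tt N10223 D20407) (tt N9135 (iv F36016)))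
theorem Q6351 : ∀ i, i < 6351 → P i := stepQ 6350 Q6350 (allL N6350 (tt N3758 F26327) (tt N10222 (iv F38720)) (tt N10224 D20408) (tt N3757 (iv D15109)) (tt N10225 D20409) (tt N10226 D20410) (tt N10227 D20411))
theorem Q6352 : ∀ i, i < 6352 → P i := stepQ 6351 Q6351 (allL N6351 (tt N3759 F26328) (tt N10228 D20412) (tt N6351 F26329) (tt N10226 (iv F38730)) (tt N3914 F26330) (tt N3757 (iv D15110)) (tt N6359 (iv F26346)))
theorem Q6353 : ∀ i, i < 6353 → P i := stepQ 6352 Q6352 (allL N6352 (tt N3760 F26331) (tt N10229 D20413) (tt N6352 F26332) (tt N10227 (iv F38732)) (tt N3915 F26333) (tt N6358 (iv F26342)) (tt N3757 (iv D15111)))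
theorem Q6354 : ∀ i, i < 6354 → P i := stepQ 6353 Q6353 (allL N6353 (tt N10224 (iv F38726)) (tt N6383 (iv F26394)) (tt N3758 (iv D15112)) (tt N10230 D20414) (tt N10231 D20415) (tt N10232 D20416) (tt N10233 D20417))
theorem Q6355 : ∀ i, i < 6355 → P i := stepQ 6354 Q6354 (allL N6354 (tt N10225 (iv F38727)) (tt N3761 F26334) (tt N10231 (iv F38736)) (tt N3917 F26335) (tt N3758 (iv D15113)) (tt N10234 D20418) (tt N10235 D20419))
theorem Q6356 : ∀ i, i < 6356 → P i := stepQ 6355 Q6355 (allL N6355 (tt N10226 (iv F38729)) (tt N7429 (iv F28643)) (tt N10232 (iv F38737)) (tt N3759 F26336) (tt N10234 (iv F38740)) (tt N3758 (iv D15114)) (tt N10236 D20420))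
theorem Q6357 : ∀ i, i < 6357 → P i := stepQ 6356 Q6356 (allL N6356 (tt N10227 (iv F38731)) (tt N6386 (iv F26399)) (tt N10233 (iv F38738)) (tt N3760 F26337) (tt N10235 (iv F38742)) (tt N10237 D20421) (tt N3758 (iv D15115)))
theorem Q6358 : ∀ i, i < 6358 → P i := stepQ 6357 Q6357 (allL N6357 (tt N10238 D20422) (tt N3759 (iv D15116)) (tt N9631 (iv F37366)) (tt N7429 (iv F28644)) (tt N3920 F26338) (tt N3762 F26339) (tt N10239 D20423))
theorem Q6359 : ∀ i, i < 6359 → P i := stepQ 6358 Q6358 (allL N6358 (tt N6359 (iv F26343)) (tt N10240 D20424) (tt N6358 F26340) (tt N10236 (iv F38743)) (tt N3921 F26341) (tt N6352 F26342) (tt N3759 (iv D15117)))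
theorem Q6360 : ∀ i, i < 6360 → P i := stepQ 6359 Q6359 (allL N6359 (tt N6358 F26343) (tt N10241 D20425) (tt N6359 F26344) (tt N10237 (iv F38746)) (tt N3922 F26345) (tt N3760 (iv D15118)) (tt N6351 F26346))
theorem Q6361 : ∀ i, i < 6361 → P i := stepQ 6360 Q6360 (allL N6360 (tt N3762 (iv D15119)) (tt N10242 D20426) (tt N9629 (iv F37338)) (tt N7427 (iv F28640)) (tt N3925 F26347) (tt N10238 (iv F38749)) (tt N10243 D20427))
theorem Q6362 : ∀ i, i < 6362 → P i := stepQ 6361 Q6361 (allL N6361 (tt N10243 (iv F38755)) (tt N4406 F26348) (tt N9632 (iv F37368)) (tt N7430 (iv F28646)) (tt N3926 F26349) (tt N10244 D20428) (tt N3762 (iv D15120)))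
theorem Q6363 : ∀ i, i < 6363 → P i := stepQ 6362 Q6362 (allL N6362 (tt N10245 D20429) (tt N3763 (iv D15121)) (tt N10246 D20430) (tt N3933 F26350) (tt N3764 F26351) (tt N10173 (iv F38630)) (tt N10247 D20431))
theorem Q6364 : ∀ i, i < 6364 → P i := stepQ 6363 Q6363 (allL N6363 (tt N3764 (iv D15122)) (tt N10248 D20432) (tt N10249 D20433) (tt N3765 F26352) (tt N10245 (iv F38762)) (tt N10175 (iv F38636)) (tt N10250 D20434))
theorem Q6365 : ∀ i, i < 6365 → P i := stepQ 6364 Q6364 (allL N6364 (tt N10249 (iv F38768)) (tt N7421 (iv F28629)) (tt N3764 (iv D15123)) (tt N10251 D20435) (tt N10246 (iv F38763)) (tt N10176 (iv F38637)) (tt N10252 D20436))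
theorem Q6366 : ∀ i, i < 6366 → P i := stepQ 6365 Q6365 (allL N6365 (tt N10250 (iv F38769)) (tt N4375 F26353) (tt N10252 (iv F38772)) (tt N3766 F26354) (tt N10247 (iv F38766)) (tt N10253 D20437) (tt N3764 (iv D15124)))
theorem Q6367 : ∀ i, i < 6367 → P i := stepQ 6366 Q6366 (allL N6366 (tt N9618 (iv F37314)) (tt N3765 (iv D15125)) (tt N9617 F37312) (tt N10248 (iv F38767)) (tt N3937 F26355) (tt N10254 D20438) (tt N10255 D20439))
theorem Q6368 : ∀ i, i < 6368 → P i := stepQ 6367 Q6367 (allL N6367 (tt N3766 F26356) (tt N9147 (iv F36036)) (tt N6296 F26357) (tt N10250 (iv F38770)) (tt N3938 F26358) (tt N6324 F26359) (tt N3765 (iv D15126)))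
theorem Q6369 : ∀ i, i < 6369 → P i := stepQ 6368 Q6368 (allL N6368 (tt N6324 F26360) (tt N10256 D20440) (tt N6297 F26361) (tt N10253 (iv F38774)) (tt N3939 F26362) (tt N3766 (iv D15127)) (tt N6323 F26363))
theorem Q6370 : ∀ i, i < 6370 → P i := stepQ 6369 Q6369 (allL N6369 (tt N5891 (iv F28913)) (tt N3767 (iv D15128)) (tt N5890 F28914) (tt N10257 D20441) (tt N4762 F26364) (tt N8497 (iv F33216)) (tt N10258 D20442))
theorem Q6371 : ∀ i, i < 6371 → P i := stepQ 6370 Q6370 (allL N6370 (tt N3768 F26365) (tt N10257 (iv F38783)) (tt N10259 D20443) (tt N3767 (iv D15129)) (tt N10260 D20444) (tt N10261 D20445) (tt N10262 D20446))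
theorem Q6372 : ∀ i, i < 6372 → P i := stepQ 6371 Q6371 (allL N6371 (tt N3769 F26366) (tt N10263 D20447) (tt N4382 F26367) (tt N10261 (iv F38793)) (tt N4764 F26368) (tt N3767 (iv D15130)) (tt N6378 (iv F26385)))
theorem Q6373 : ∀ i, i < 6373 → P i := stepQ 6372 Q6372 (allL N6372 (tt N3770 F26369) (tt N10264 D20448) (tt N4303 F26370) (tt N10262 (iv F38795)) (tt N4604 F26371) (tt N6377 (iv F26381)) (tt N3767 (iv D15131)))
theorem Q6374 : ∀ i, i < 6374 → P i := stepQ 6373 Q6373 (allL N6373 (tt N10259 (iv F38789)) (tt N6333 F26372) (tt N3768 (iv D15132)) (tt N10265 D20449) (tt N10266 D20450) (tt N10267 D20451) (tt N10268 D20452))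
theorem Q6375 : ∀ i, i < 6375 → P i := stepQ 6374 Q6374 (allL N6374 (tt N10260 (iv F38790)) (tt N3771 F26373) (tt N10266 (iv F38803)) (tt N4766 F26374) (tt N3768 (iv D15133)) (tt N10269 D20453) (tt N10270 D20454))
theorem Q6376 : ∀ i, i < 6376 → P i := stepQ 6375 Q6375 (allL N6375 (tt N10261 (iv F38792)) (tt N6335 F26375) (tt N10267 (iv F38804)) (tt N3769 F26376) (tt N10269 (iv F38808)) (tt N3768 (iv D15134)) (tt N10271 D20455))
theorem Q6377 : ∀ i, i < 6377 → P i := stepQ 6376 Q6376 (allL N6376 (tt N10262 (iv F38794)) (tt N4308 F26377) (tt N10268 (iv F38805)) (tt N3770 F26378) (tt N10270 (iv F38811)) (tt N10272 D20456) (tt N3768 (iv D15135)))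
theorem Q6378 : ∀ i, i < 6378 → P i := stepQ 6377 Q6377 (allL N6377 (tt N6378 (iv F26382)) (tt N10273 D20457) (tt N4383 F26379) (tt N10271 (iv F38812)) (tt N4768 F26380) (tt N6372 F26381) (tt N3769 (iv D15136)))
theorem Q6379 : ∀ i, i < 6379 → P i := stepQ 6378 Q6378 (allL N6378 (tt N6377 F26382) (tt N10274 D20458) (tt N4304 F26383) (tt N10272 (iv F38815)) (tt N4606 F26384) (tt N3770 (iv D15137)) (tt N6371 F26385))
theorem Q6380 : ∀ i, i < 6380 → P i := stepQ 6379 Q6379 (allL N6379 (tt N5913 F26625) (tt N3772 (iv D15138)) (tt N5912 (iv F26624)) (tt N10275 D20459) (tt N4800 F26386) (tt N10276 D20460) (tt N8526 F35357))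
theorem Q6381 : ∀ i, i < 6381 → P i := stepQ 6380 Q6380 (allL N6380 (tt N3773 F26387) (tt N10275 (iv F38822)) (tt N10277 D20461) (tt N3772 (iv D15139)) (tt N10278 D20462) (tt N10279 D20463) (tt N10280 D20464))
theorem Q6382 : ∀ i, i < 6382 → P i := stepQ 6381 Q6381 (allL N6381 (tt N3774 F26388) (tt N10281 D20465) (tt N4354 F26389) (tt N10279 (iv F38832)) (tt N4704 F26390) (tt N3772 (iv D15140)) (tt N6388 (iv F26407)))
theorem Q6383 : ∀ i, i < 6383 → P i := stepQ 6382 Q6382 (allL N6382 (tt N3775 F26391) (tt N10282 D20466) (tt N4398 F26392) (tt N10280 (iv F38834)) (tt N4802 F26393) (tt N6387 (iv F26403)) (tt N3772 (iv D15141)))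
theorem Q6384 : ∀ i, i < 6384 → P i := stepQ 6383 Q6383 (allL N6383 (tt N10277 (iv F38828)) (tt N6353 F26394) (tt N3773 (iv D15142)) (tt N10283 D20467) (tt N10284 D20468) (tt N10285 D20469) (tt N10286 D20470))
theorem Q6385 : ∀ i, i < 6385 → P i := stepQ 6384 Q6384 (allL N6384 (tt N10278 (iv F38829)) (tt N3776 F26395) (tt N10284 (iv F38842)) (tt N4804 F26396) (tt N3773 (iv D15143)) (tt N10287 D20471) (tt N10288 D20472))
theorem Q6386 : ∀ i, i < 6386 → P i := stepQ 6385 Q6385 (allL N6385 (tt N10279 (iv F38831)) (tt N4359 F26397) (tt N10285 (iv F38843)) (tt N3774 F26398) (tt N10287 (iv F38847)) (tt N3773 (iv D15144)) (tt N10289 D20473))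
theorem Q6387 : ∀ i, i < 6387 → P i := stepQ 6386 Q6386 (allL N6386 (tt N10280 (iv F38833)) (tt N6356 F26399) (tt N10286 (iv F38844)) (tt N3775 F26400) (tt N10288 (iv F38850)) (tt N10290 D20474) (tt N3773 (iv D15145)))
theorem Q6388 : ∀ i, i < 6388 → P i := stepQ 6387 Q6387 (allL N6387 (tt N6388 (iv F26404)) (tt N10291 D20475) (tt N4355 F26401) (tt N10289 (iv F38851)) (tt N4706 F26402) (tt N6382 F26403) (tt N3774 (iv D15146)))
theorem Q6389 : ∀ i, i < 6389 → P i := stepQ 6388 Q6388 (allL N6388 (tt N6387 F26404) (tt N10292 D20476) (tt N4399 F26405) (tt N10290 (iv F38854)) (tt N4806 F26406) (tt N3775 (iv D15147)) (tt N6381 F26407))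
theorem Q6390 : ∀ i, i < 6390 → P i := stepQ 6389 Q6389 (allL N6389 (tt N7615 (iv F29594)) (tt N9408 (iv F36769)) (tt N3777 (iv D15148)) (tt N10293 D20477) (tt N9930 (iv F38020)) (tt N4423 F26408) (tt N10294 D20478))
theorem Q6391 : ∀ i, i < 6391 → P i := stepQ 6390 Q6390 (allL N6390 (tt N4687 F26409) (tt N4711 F26410) (tt N10294 (iv F38864)) (tt N4424 F26411) (tt N9931 (iv F38024)) (tt N6512 F26635) (tt N3777 (iv D15149)))
theorem Q6392 : ∀ i, i < 6392 → P i := stepQ 6391 Q6391 (allL N6391 (tt N7782 (iv F29863)) (tt N9409 (iv F36773)) (tt N3778 (iv D15150)) (tt N10295 D20479) (tt N9932 (iv F38025)) (tt N10296 D20480) (tt N4426 F26412))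
theorem Q6393 : ∀ i, i < 6393 → P i := stepQ 6392 Q6392 (allL N6392 (tt N4586 F26413) (tt N4611 F26414) (tt N10296 (iv F38869)) (tt N4427 F26415) (tt N9933 (iv F38029)) (tt N3778 (iv D15151)) (tt N6478 (iv F26559)))
theorem Q6394 : ∀ i, i < 6394 → P i := stepQ 6393 Q6393 (allL N6393 (tt N3779 (iv D15152)) (tt N6042 F29167) (tt N4463 F26416) (tt N9186 F36161) (tt N9374 (iv F36672)) (tt N4462 F26417) (tt N7781 (iv F29862)))
theorem Q6395 : ∀ i, i < 6395 → P i := stepQ 6394 Q6394 (allL N6394 (tt N7781 (iv F29860)) (tt N9842 (iv F37824)) (tt N6403 (iv F26433)) (tt N9425 (iv F36829)) (tt N9375 (iv F36675)) (tt N7498 (iv F29347)) (tt N3779 (iv D15153)))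
theorem Q6396 : ∀ i, i < 6396 → P i := stepQ 6395 Q6395 (allL N6395 (tt N9845 (iv F37827)) (tt N3780 (iv D15154)) (tt N10297 D20481) (tt N9426 (iv F36831)) (tt N9376 (iv F36677)) (tt N10298 D20482) (tt N9842 F37825))
theorem Q6397 : ∀ i, i < 6397 → P i := stepQ 6396 Q6396 (allL N6396 (tt N3781 (iv D15155)) (tt N6080 (iv F35179)) (tt N4476 F34776) (tt N9226 F36279) (tt N9377 (iv F36680)) (tt N7616 F34777) (tt N4474 F34778))
theorem Q6398 : ∀ i, i < 6398 → P i := stepQ 6397 Q6397 (allL N6397 (tt N7616 F35272) (tt N9789 (iv F37728)) (tt N6404 F35271) (tt N9427 (iv F36833)) (tt N9378 (iv F36683)) (tt N3781 (iv D15157)) (tt N7512 (iv F35270)))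
theorem Q6399 : ∀ i, i < 6399 → P i := stepQ 6398 Q6398 (allL N6398 (tt N9791 (iv F37730)) (tt N3782 (iv D15158)) (tt N10299 D20483) (tt N9428 (iv F36835)) (tt N9379 (iv F36685)) (tt N9789 F37729) (tt N10300 D20484))
theorem Q6400 : ∀ i, i < 6400 → P i := stepQ 6399 Q6399 (allL N6399 (tt N4539 F26419) (tt N3783 (iv D15159)) (tt N7898 (iv F39588)) (tt N4449 F26420) (tt N9940 (iv F38043)) (tt N4614 F26421) (tt N3784 F26422))
theorem Q6401 : ∀ i, i < 6401 → P i := stepQ 6400 Q6400 (allL N6400 (tt N7706 (iv F29760)) (tt N10297 (iv F38870)) (tt N3784 (iv D15160)) (tt N7900 (iv F39613)) (tt N9941 (iv F38046)) (tt N7703 (iv F29758)) (tt N7898 (iv F39590)))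
theorem Q6402 : ∀ i, i < 6402 → P i := stepQ 6401 Q6401 (allL N6401 (tt N4504 F26427) (tt N3785 (iv D15164)) (tt N7737 (iv F39602)) (tt N4457 F26428) (tt N9942 (iv F38048)) (tt N3786 F26429) (tt N4713 F26430))
theorem Q6403 : ∀ i, i < 6403 → P i := stepQ 6402 Q6402 (allL N6402 (tt N7871 (iv F30020)) (tt N10299 (iv F38874)) (tt N3786 (iv D15165)) (tt N7738 (iv F39627)) (tt N9943 (iv F38051)) (tt N7737 (iv F39603)) (tt N7867 (iv F30017)))
theorem Q6404 : ∀ i, i < 6404 → P i := stepQ 6403 Q6403 (allL N6403 (tt N4657 F26431) (tt N4630 F26432) (tt N6394 F26433) (tt N4464 F26434) (tt N9969 (iv F38131)) (tt N4464 F26435) (tt N3787 (iv D15166)))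
theorem Q6405 : ∀ i, i < 6405 → P i := stepQ 6404 Q6404 (allL N6404 (tt N4556 F26436) (tt N4731 F26437) (tt N6397 (iv F35271)) (tt N4475 F26438) (tt N9971 (iv F38138)) (tt N3790 (iv D15168)) (tt N4475 F26439))
theorem Q6406 : ∀ i, i < 6406 → P i := stepQ 6405 Q6405 (allL N6405 (tt N3794 F26448) (tt N5140 (iv F29168)) (tt N3793 (iv D15177)) (tt N5139 F29169) (tt N10015 (iv F38270)) (tt N7479 (iv F29310)) (tt N7796 (iv F29899)))
theorem Q6407 : ∀ i, i < 6407 → P i := stepQ 6406 Q6406 (allL N6406 (tt N6414 (iv F26462)) (tt N3794 (iv D15178)) (tt N3797 F26449) (tt N10301 D20489) (tt N10016 (iv F38272)) (tt N6412 (iv F26460)) (tt N10302 D20490))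
theorem Q6408 : ∀ i, i < 6408 → P i := stepQ 6407 Q6407 (allL N6407 (tt N5139 (iv F29170)) (tt N10301 (iv F38887)) (tt N5015 (iv F28813)) (tt N3794 (iv D15179)) (tt N10303 D20491) (tt N9896 (iv F37929)) (tt N10304 D20492))
theorem Q6409 : ∀ i, i < 6409 → P i := stepQ 6408 Q6408 (allL N6408 (tt N7479 (iv F29308)) (tt N7446 (iv F28727)) (tt N3795 F26451) (tt N9896 (iv F37928)) (tt N10018 (iv F38274)) (tt N3794 (iv D15180)) (tt N10305 D20493))
theorem Q6410 : ∀ i, i < 6410 → P i := stepQ 6409 Q6409 (allL N6409 (tt N7796 (iv F29898)) (tt N10306 D20494) (tt N3796 F26452) (tt N10304 (iv F38898)) (tt N10019 (iv F38276)) (tt N10307 D20495) (tt N3794 (iv D15181)))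
theorem Q6411 : ∀ i, i < 6411 → P i := stepQ 6410 Q6410 (allL N6410 (tt N6411 (iv F26456)) (tt N4524 F26453) (tt N10305 (iv F38900)) (tt N4488 F26454) (tt N10020 (iv F38278)) (tt N4668 F26455) (tt N3795 (iv D15182)))
theorem Q6412 : ∀ i, i < 6412 → P i := stepQ 6411 Q6411 (allL N6411 (tt N6410 F26456) (tt N4654 F26459) (tt N10307 (iv F38903)) (tt N4489 F26457) (tt N10021 (iv F38281)) (tt N3796 (iv D15183)) (tt N4445 F26458))
theorem Q6413 : ∀ i, i < 6413 → P i := stepQ 6412 Q6412 (allL N6412 (tt N3797 (iv D15184)) (tt N7615 (iv F29595)) (tt N6414 (iv F26464)) (tt N10308 D20496) (tt N10022 (iv F38284)) (tt N6406 F26460) (tt N10309 D20497))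
theorem Q6414 : ∀ i, i < 6414 → P i := stepQ 6413 Q6413 (allL N6413 (tt N10308 (iv F38906)) (tt N3798 F26461) (tt N10310 D20498) (tt N3797 (iv D15185)) (tt N10311 D20499) (tt N8553 (iv F33335)) (tt N10312 D20500))
theorem Q6415 : ∀ i, i < 6415 → P i := stepQ 6414 Q6414 (allL N6414 (tt N6406 F26462) (tt N3837 F26463) (tt N6412 F26464) (tt N8553 (iv F33334)) (tt N10024 (iv F38290)) (tt N3797 (iv D15186)) (tt N10313 D20501))
theorem Q6416 : ∀ i, i < 6416 → P i := stepQ 6415 Q6415 (allL N6415 (tt N10309 (iv F38908)) (tt N6497 (iv F26590)) (tt N10302 (iv F38892)) (tt N10312 (iv F38916)) (tt N10025 (iv F38291)) (tt N10302 (iv F38893)) (tt N3797 (iv D15187)))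
theorem Q6417 : ∀ i, i < 6417 → P i := stepQ 6416 Q6416 (allL N6416 (tt N3800 F26465) (tt N10311 (iv F38913)) (tt N7540 (iv F29449)) (tt N10027 (iv F38296)) (tt N3798 (iv D15188)) (tt N3839 F26466) (tt N6490 (iv F26582)))
theorem Q6418 : ∀ i, i < 6418 → P i := stepQ 6417 Q6417 (allL N6417 (tt N7540 (iv F29448)) (tt N4928 F29020) (tt N3800 F26467) (tt N9352 (iv F36605)) (tt N3799 (iv D15190)) (tt N3846 F26468) (tt N10314 D20502))
theorem Q6419 : ∀ i, i < 6419 → P i := stepQ 6418 Q6418 (allL N6418 (tt N6488 (iv F26574)) (tt N8210 (iv F31771)) (tt N3801 F26469) (tt N4596 F26470) (tt N10314 (iv F38921)) (tt N4592 F26471) (tt N3799 (iv D15191)))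
theorem Q6420 : ∀ i, i < 6420 → P i := stepQ 6419 Q6419 (allL N6419 (tt N6490 (iv F26580)) (tt N10315 D20503) (tt N10314 (iv F38920)) (tt N10032 (iv F38304)) (tt N3801 F26472) (tt N6473 (iv F26552)) (tt N3800 (iv D15192)))
theorem Q6421 : ∀ i, i < 6421 → P i := stepQ 6420 Q6420 (allL N6420 (tt N10316 D20504) (tt N3801 (iv D15193)) (tt N8192 (iv F39829)) (tt N3802 F26473) (tt N10315 (iv F38923)) (tt N8190 (iv F39833)) (tt N9673 (iv F37479)))
theorem Q6422 : ∀ i, i < 6422 → P i := stepQ 6421 Q6421 (allL N6421 (tt N3802 (iv D15194)) (tt N10317 D20507) (tt N10318 D20508) (tt N10316 (iv F38924)) (tt N10034 (iv F38307)) (tt N10319 D20509) (tt N9674 (iv F37480)))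
theorem Q6423 : ∀ i, i < 6423 → P i := stepQ 6422 Q6422 (allL N6422 (tt N10318 (iv F38926)) (tt N3804 F26474) (tt N3802 (iv D15195)) (tt N8154 (iv F39826)) (tt N10035 (iv F38309)) (tt N10320 D20511) (tt N9675 (iv F37482)))
theorem Q6424 : ∀ i, i < 6424 → P i := stepQ 6423 Q6423 (allL N6423 (tt N10319 (iv F38927)) (tt N6477 (iv F26555)) (tt N10320 (iv F38934)) (tt N8190 (iv F39832)) (tt N10036 (iv F38310)) (tt N3802 (iv D15196)) (tt N10321 D20512))
theorem Q6425 : ∀ i, i < 6425 → P i := stepQ 6424 Q6424 (allL N6424 (tt N4457 F26475) (tt N3803 (iv D15197)) (tt N10322 D20513) (tt N4504 F26476) (tt N10037 (iv F38312)) (tt N4458 F26477) (tt N7496 (iv F29342)))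
theorem Q6426 : ∀ i, i < 6426 → P i := stepQ 6425 Q6425 (allL N6425 (tt N3804 F26478) (tt N10323 D20514) (tt N3803 (iv D15198)) (tt N10324 D20515) (tt N10038 (iv F38315)) (tt N6435 (iv F26491)) (tt N3807 F26479))
theorem Q6427 : ∀ i, i < 6427 → P i := stepQ 6426 Q6426 (allL N6426 (tt N10324 (iv F38941)) (tt N8154 (iv F39825)) (tt N8094 (iv F39542)) (tt N3804 (iv D15199)) (tt N8119 (iv F39550)) (tt N10325 D20518) (tt N3809 F26480))
theorem Q6428 : ∀ i, i < 6428 → P i := stepQ 6427 Q6427 (allL N6427 (tt N6435 (iv F26489)) (tt N10326 D20519) (tt N3805 F26481) (tt N10325 (iv F38945)) (tt N10040 (iv F38319)) (tt N3804 (iv D15200)) (tt N6431 (iv F26486)))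
theorem Q6429 : ∀ i, i < 6429 → P i := stepQ 6428 Q6428 (allL N6428 (tt N7795 (iv F29895)) (tt N10327 D20520) (tt N3806 (iv D15201)) (tt N10328 D20521) (tt N10041 (iv F38320)) (tt N4690 F26482) (tt N7793 (iv F29893)))
theorem Q6430 : ∀ i, i < 6430 → P i := stepQ 6429 Q6429 (allL N6429 (tt N10329 D20522) (tt N3807 (iv D15202)) (tt N10327 (iv F38949)) (tt N6002 F39552) (tt N10042 (iv F38322)) (tt N10330 D20524) (tt N10331 D20525))
theorem Q6431 : ∀ i, i < 6431 → P i := stepQ 6430 Q6430 (allL N6430 (tt N3809 F26483) (tt N6002 (iv F39547)) (tt N5123 F39545) (tt N3807 (iv D15203)) (tt N5136 (iv F39549)) (tt N10332 D20527) (tt N10324 (iv F38942)))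
theorem Q6432 : ∀ i, i < 6432 → P i := stepQ 6431 Q6431 (allL N6431 (tt N3810 F26484) (tt N10333 D20528) (tt N3808 F26485) (tt N10332 (iv F38955)) (tt N10044 (iv F38326)) (tt N3807 (iv D15204)) (tt N6427 F26486))
theorem Q6433 : ∀ i, i < 6433 → P i := stepQ 6432 Q6432 (allL N6432 (tt N5123 (iv F39531)) (tt N6653 (iv F39540)) (tt N3809 (iv D15205)) (tt N7559 (iv F29475)) (tt N5135 (iv F39541)) (tt N10334 D20531) (tt N8094 (iv F39543)))
theorem Q6434 : ∀ i, i < 6434 → P i := stepQ 6433 Q6433 (allL N6433 (tt N5136 (iv F39548)) (tt N9688 (iv F37495)) (tt N5135 F39546) (tt N10046 (iv F38328)) (tt N3809 (iv D15206)) (tt N10335 D20532) (tt N8119 (iv F39551)))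
theorem Q6435 : ∀ i, i < 6435 → P i := stepQ 6434 Q6434 (allL N6434 (tt N10332 (iv F38954)) (tt N7726 (iv F35276)) (tt N10334 (iv F38959)) (tt N3810 F26487) (tt N10335 (iv F38960)) (tt N3809 (iv D15207)) (tt N10336 D20533))
theorem Q6436 : ∀ i, i < 6436 → P i := stepQ 6435 Q6435 (allL N6435 (tt N6427 F26489) (tt N10337 D20534) (tt N3811 F26490) (tt N10336 (iv F38962)) (tt N10048 (iv F38332)) (tt N6425 F26491) (tt N3810 (iv D15209)))
theorem Q6437 : ∀ i, i < 6437 → P i := stepQ 6436 Q6436 (allL N6436 (tt N3813 F26492) (tt N5159 F35070) (tt N3812 (iv D15210)) (tt N5158 F35071) (tt N10049 (iv F38336)) (tt N7627 (iv F29615)) (tt N7488 (iv F29329)))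
theorem Q6438 : ∀ i, i < 6438 → P i := stepQ 6437 Q6437 (allL N6437 (tt N6446 (iv F35178)) (tt N3813 (iv D15211)) (tt N3816 F26493) (tt N10338 D20535) (tt N10050 (iv F38338)) (tt N10339 D20536) (tt N6443 F35182))
theorem Q6439 : ∀ i, i < 6439 → P i := stepQ 6438 Q6438 (allL N6438 (tt N5158 F35072) (tt N10338 (iv F38966)) (tt N5021 F35073) (tt N3813 (iv D15212)) (tt N10340 D20537) (tt N10341 D20538) (tt N9913 (iv F37976)))
theorem Q6440 : ∀ i, i < 6440 → P i := stepQ 6439 Q6439 (allL N6439 (tt N7627 (iv F29614)) (tt N10342 D20539) (tt N3814 F26494) (tt N10341 (iv F38977)) (tt N10052 (iv F38340)) (tt N3813 (iv D15213)) (tt N10343 D20540))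
theorem Q6441 : ∀ i, i < 6441 → P i := stepQ 6440 Q6440 (allL N6440 (tt N7488 (iv F29328)) (tt N7449 (iv F28730)) (tt N3815 F26495) (tt N9913 (iv F37975)) (tt N10053 (iv F38342)) (tt N10344 D20541) (tt N3813 (iv D15214)))
theorem Q6442 : ∀ i, i < 6442 → P i := stepQ 6441 Q6441 (allL N6441 (tt N6442 (iv F26499)) (tt N4752 (iv F26498)) (tt N10343 (iv F38979)) (tt N4523 F26496) (tt N10054 (iv F38343)) (tt N4453 F26497) (tt N3814 (iv D15215)))
theorem Q6443 : ∀ i, i < 6443 → P i := stepQ 6442 Q6442 (allL N6442 (tt N6441 F26499) (tt N4488 F26500) (tt N10344 (iv F38983)) (tt N4524 F26501) (tt N10055 (iv F38348)) (tt N3815 (iv D15216)) (tt N4563 F26502))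
theorem Q6444 : ∀ i, i < 6444 → P i := stepQ 6443 Q6443 (allL N6443 (tt N3816 (iv D15217)) (tt N7782 F35183) (tt N6446 F35181) (tt N10345 D20542) (tt N10056 (iv F38350)) (tt N10346 D20543) (tt N6437 (iv F35182)))
theorem Q6445 : ∀ i, i < 6445 → P i := stepQ 6444 Q6444 (allL N6444 (tt N10345 (iv F38985)) (tt N3817 F26503) (tt N10347 D20544) (tt N3816 (iv D15218)) (tt N10348 D20545) (tt N10349 D20546) (tt N8562 (iv F35279)))
theorem Q6446 : ∀ i, i < 6446 → P i := stepQ 6445 Q6445 (allL N6445 (tt N10346 (iv F38987)) (tt N6530 (iv F26664)) (tt N10339 (iv F38971)) (tt N10349 (iv F38995)) (tt N10058 (iv F38353)) (tt N3816 (iv D15219)) (tt N10339 (iv F38972)))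
theorem Q6447 : ∀ i, i < 6447 → P i := stepQ 6446 Q6446 (allL N6446 (tt N6437 F35178) (tt N3864 F26504) (tt N6443 (iv F35181)) (tt N8562 F35280) (tt N10059 (iv F38357)) (tt N10350 D20547) (tt N3816 (iv D15220)))
theorem Q6448 : ∀ i, i < 6448 → P i := stepQ 6447 Q6447 (allL N6447 (tt N3819 F26505) (tt N10348 (iv F38992)) (tt N7585 (iv F29537)) (tt N10061 (iv F38362)) (tt N3817 (iv D15221)) (tt N6523 (iv F26656)) (tt N3865 F26506))
theorem Q6449 : ∀ i, i < 6449 → P i := stepQ 6448 Q6448 (allL N6448 (tt N7585 (iv F29536)) (tt N4929 F34440) (tt N3819 F26507) (tt N9353 (iv F36609)) (tt N3818 (iv D15223)) (tt N10351 D20548) (tt N3872 F26508))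
theorem Q6450 : ∀ i, i < 6450 → P i := stepQ 6449 Q6449 (allL N6449 (tt N6521 (iv F26648)) (tt N8208 F34441) (tt N3820 F26509) (tt N4696 F26510) (tt N10351 (iv F39000)) (tt N3818 (iv D15224)) (tt N4692 F26511))
theorem Q6451 : ∀ i, i < 6451 → P i := stepQ 6450 Q6450 (allL N6450 (tt N6523 (iv F26654)) (tt N10352 D20549) (tt N10351 (iv F38999)) (tt N10066 (iv F38370)) (tt N3820 F26512) (tt N3819 (iv D15225)) (tt N6507 (iv F26614)))
theorem Q6452 : ∀ i, i < 6452 → P i := stepQ 6451 Q6451 (allL N6451 (tt N10353 D20550) (tt N3820 (iv D15226)) (tt N8162 (iv F39685)) (tt N3821 F26513) (tt N10352 (iv F39002)) (tt N9695 (iv F37512)) (tt N8160 (iv F39689)))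
theorem Q6453 : ∀ i, i < 6453 → P i := stepQ 6452 Q6452 (allL N6452 (tt N3821 (iv D15227)) (tt N10354 D20553) (tt N10355 D20554) (tt N10353 (iv F39003)) (tt N10068 (iv F38373)) (tt N9696 (iv F37513)) (tt N10356 D20555))
theorem Q6454 : ∀ i, i < 6454 → P i := stepQ 6453 Q6453 (allL N6453 (tt N10355 (iv F39005)) (tt N3823 F26514) (tt N3821 (iv D15228)) (tt N8133 (iv F39682)) (tt N10069 (iv F38375)) (tt N9697 (iv F37515)) (tt N10357 D20557))
theorem Q6455 : ∀ i, i < 6455 → P i := stepQ 6454 Q6454 (allL N6454 (tt N10356 (iv F39006)) (tt N6511 (iv F26631)) (tt N10357 (iv F39013)) (tt N8160 (iv F39688)) (tt N10070 (iv F38376)) (tt N10358 D20558) (tt N3821 (iv D15229)))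
theorem Q6456 : ∀ i, i < 6456 → P i := stepQ 6455 Q6455 (allL N6455 (tt N4449 F26515) (tt N3822 (iv D15230)) (tt N10359 D20559) (tt N4539 F26516) (tt N10071 (iv F38378)) (tt N7487 (iv F29327)) (tt N4450 F26517))
theorem Q6457 : ∀ i, i < 6457 → P i := stepQ 6456 Q6456 (allL N6456 (tt N3823 F26518) (tt N10360 D20560) (tt N3822 (iv D15231)) (tt N10361 D20561) (tt N10072 (iv F38381)) (tt N3826 F26519) (tt N6466 (iv F26530)))
theorem Q6458 : ∀ i, i < 6458 → P i := stepQ 6457 Q6457 (allL N6457 (tt N10361 (iv F39020)) (tt N8133 (iv F39681)) (tt N8076 (iv F39656)) (tt N3823 (iv D15232)) (tt N8075 (iv F39666)) (tt N3828 F26520) (tt N10362 D20564))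
theorem Q6459 : ∀ i, i < 6459 → P i := stepQ 6458 Q6458 (allL N6458 (tt N6466 (iv F26528)) (tt N10363 D20565) (tt N3824 F26521) (tt N10362 (iv F39024)) (tt N10074 (iv F38385)) (tt N6462 (iv F26526)) (tt N3823 (iv D15233)))
theorem Q6460 : ∀ i, i < 6460 → P i := stepQ 6459 Q6459 (allL N6459 (tt N7630 (iv F29620)) (tt N10328 (iv F39643)) (tt N3825 (iv D15234)) (tt N10327 (iv F39553)) (tt N10075 (iv F38386)) (tt N7628 (iv F29617)) (tt N4590 F26522))
theorem Q6461 : ∀ i, i < 6461 → P i := stepQ 6460 Q6460 (allL N6460 (tt N10364 D20568) (tt N3826 (iv D15235)) (tt N10328 F39644) (tt N6008 (iv F39645)) (tt N10076 (iv F38388)) (tt N10365 D20570) (tt N10366 D20571))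
theorem Q6462 : ∀ i, i < 6462 → P i := stepQ 6461 Q6461 (allL N6461 (tt N3828 F26523) (tt N6008 F39646) (tt N5119 (iv F39647)) (tt N3826 (iv D15236)) (tt N5129 (iv F39648)) (tt N10361 (iv F39021)) (tt N10367 D20573))
theorem Q6463 : ∀ i, i < 6463 → P i := stepQ 6462 Q6462 (allL N6462 (tt N3829 F26524) (tt N10368 D20574) (tt N3827 F26525) (tt N10367 (iv F39034)) (tt N10078 (iv F38392)) (tt N6458 F26526) (tt N3826 (iv D15237)))
theorem Q6464 : ∀ i, i < 6464 → P i := stepQ 6463 Q6463 (allL N6463 (tt N5119 F39649) (tt N6697 (iv F39652)) (tt N3828 (iv D15238)) (tt N7604 (iv F29572)) (tt N5128 (iv F39655)) (tt N8076 (iv F39657)) (tt N10369 D20577))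
theorem Q6465 : ∀ i, i < 6465 → P i := stepQ 6464 Q6464 (allL N6464 (tt N5129 F39651) (tt N9710 (iv F37529)) (tt N5128 (iv F39654)) (tt N10080 (iv F38394)) (tt N3828 (iv D15239)) (tt N8075 (iv F39667)) (tt N10370 D20578))
theorem Q6466 : ∀ i, i < 6466 → P i := stepQ 6465 Q6465 (allL N6465 (tt N10367 (iv F39033)) (tt N7888 (iv F30041)) (tt N10369 (iv F39038)) (tt N3829 F26527) (tt N10370 (iv F39039)) (tt N10371 D20579) (tt N3828 (iv D15240)))
theorem Q6467 : ∀ i, i < 6467 → P i := stepQ 6466 Q6466 (allL N6466 (tt N6458 F26528) (tt N10372 D20580) (tt N3830 F26529) (tt N10371 (iv F39041)) (tt N10082 (iv F38398)) (tt N3829 (iv D15241)) (tt N6456 F26530))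
theorem Q6468 : ∀ i, i < 6468 → P i := stepQ 6467 Q6467 (allL N6467 (tt N4475 (iv F26534)) (tt N3832 (iv D15242)) (tt N9389 (iv F36706)) (tt N4556 F26531) (tt N9398 (iv F36747)) (tt N4473 F26532) (tt N4556 F26533))
theorem Q6469 : ∀ i, i < 6469 → P i := stepQ 6468 Q6468 (allL N6468 (tt N6112 (iv F36878)) (tt N9389 (iv F36705)) (tt N3834 (iv D15243)) (tt N6003 (iv F35316)) (tt N5880 (iv F35311)) (tt N5869 (iv F35319)) (tt N3843 F26535))
theorem Q6470 : ∀ i, i < 6470 → P i := stepQ 6469 Q6469 (allL N6469 (tt N3870 F26536) (tt N3835 (iv D15244)) (tt N9526 (iv F37070)) (tt N4567 F26537) (tt N9547 (iv F37144)) (tt N4508 F26538) (tt N3868 (iv F26539)))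
theorem Q6471 : ∀ i, i < 6471 → P i := stepQ 6470 Q6470 (allL N6470 (tt N4558 F26540) (tt N3839 F26541) (tt N6470 F26542) (tt N10121 (iv F38496)) (tt N3836 (iv D15245)) (tt N5357 (iv F29016)) (tt N8860 (iv F34010)))
theorem Q6472 : ∀ i, i < 6472 → P i := stepQ 6471 Q6471 (allL N6471 (tt N4559 F26546) (tt N10373 D20581) (tt N6471 F26547) (tt N3838 F26548) (tt N8860 (iv F34009)) (tt N5177 (iv F29033)) (tt N3836 (iv D15247)))
theorem Q6473 : ∀ i, i < 6473 → P i := stepQ 6472 Q6472 (allL N6472 (tt N6052 F36876) (tt N3838 (iv D15248)) (tt N6051 (iv F36875)) (tt N10373 (iv F39044)) (tt N10124 (iv F38506)) (tt N10374 D20582) (tt N3841 F26549))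
theorem Q6474 : ∀ i, i < 6474 → P i := stepQ 6473 Q6473 (allL N6473 (tt N3848 F26550) (tt N10375 D20583) (tt N7669 (iv F29690)) (tt N10128 (iv F38518)) (tt N3840 F26551) (tt N6419 F26552) (tt N3839 (iv D15249)))
theorem Q6475 : ∀ i, i < 6475 → P i := stepQ 6474 Q6474 (allL N6474 (tt N10376 D20584) (tt N3840 (iv D15250)) (tt N10377 D20585) (tt N3841 F26553) (tt N10375 (iv F39049)) (tt N10378 D20586) (tt N10373 (iv F39045)))
theorem Q6476 : ∀ i, i < 6476 → P i := stepQ 6475 Q6475 (allL N6475 (tt N3841 (iv D15251)) (tt N10379 D20587) (tt N6045 F36872) (tt N10376 (iv F39050)) (tt N10130 (iv F38522)) (tt N10380 D20588) (tt N6052 (iv F36877)))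
theorem Q6477 : ∀ i, i < 6477 → P i := stepQ 6476 Q6476 (allL N6476 (tt N6045 (iv F36870)) (tt N3843 F26554) (tt N3841 (iv D15252)) (tt N10381 D20589) (tt N10131 (iv F38527)) (tt N9449 (iv F36869)) (tt N6051 F36873))
theorem Q6478 : ∀ i, i < 6478 → P i := stepQ 6477 Q6477 (allL N6477 (tt N10380 (iv F39055)) (tt N6423 F26555) (tt N9449 F36889) (tt N10378 (iv F39053)) (tt N10132 (iv F38531)) (tt N3841 (iv D15253)) (tt N9780 (iv F37711)))
theorem Q6479 : ∀ i, i < 6479 → P i := stepQ 6478 Q6478 (allL N6478 (tt N4427 F26556) (tt N3842 (iv D15254)) (tt N10382 D20590) (tt N4586 F26557) (tt N10133 (iv F38533)) (tt N4425 (iv F26558)) (tt N6392 F26559))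
theorem Q6480 : ∀ i, i < 6480 → P i := stepQ 6479 Q6479 (allL N6479 (tt N3843 F26560) (tt N6108 F36871) (tt N3842 (iv D15255)) (tt N9717 (iv F37555)) (tt N9535 (iv F37108)) (tt N9525 F37066) (tt N6112 (iv F36881)))
theorem Q6481 : ∀ i, i < 6481 → P i := stepQ 6480 Q6480 (allL N6480 (tt N3844 F26561) (tt N3860 F26562) (tt N9525 (iv F37062)) (tt N4588 F26563) (tt N9534 (iv F37102)) (tt N3842 (iv D15256)) (tt N4543 F26564))
theorem Q6482 : ∀ i, i < 6482 → P i := stepQ 6481 Q6481 (allL N6481 (tt N9717 (iv F37553)) (tt N10381 (iv F39059)) (tt N10383 D20591) (tt N3843 (iv D15257)) (tt N6025 (iv F35314)) (tt N9715 (iv F37550)) (tt N6003 F35315))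
theorem Q6483 : ∀ i, i < 6483 → P i := stepQ 6482 Q6482 (allL N6482 (tt N9525 (iv F37067)) (tt N9446 F36888) (tt N3844 F26565) (tt N9715 (iv F37547)) (tt N9533 (iv F37096)) (tt N3843 (iv D15258)) (tt N4544 (iv F26566)))
theorem Q6484 : ∀ i, i < 6484 → P i := stepQ 6483 Q6483 (allL N6483 (tt N3845 (iv D15259)) (tt N10384 D20592) (tt N3898 F26567) (tt N4433 F28851) (tt N4130 F28852) (tt N4129 F28853) (tt N6518 (iv F34329)))
theorem Q6485 : ∀ i, i < 6485 → P i := stepQ 6484 Q6484 (allL N6484 (tt N4130 F28860) (tt N3846 F26568) (tt N3899 F26569) (tt N4125 F28861) (tt N3845 (iv D15260)) (tt N4124 F28862) (tt N6902 F28863))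
theorem Q6486 : ∀ i, i < 6486 → P i := stepQ 6485 Q6485 (allL N6485 (tt N6518 (iv F34326)) (tt N6521 (iv F35137)) (tt N3901 F26571) (tt N7464 (iv F29257)) (tt N6902 F29256) (tt N6516 (iv F34320)) (tt N3845 (iv D15262)))
theorem Q6487 : ∀ i, i < 6487 → P i := stepQ 6486 Q6486 (allL N6486 (tt N7668 (iv F29686)) (tt N4125 F29155) (tt N10385 D20593) (tt N3846 (iv D15263)) (tt N4420 F29156) (tt N9352 (iv F36607)) (tt N10386 D20594))
theorem Q6488 : ∀ i, i < 6488 → P i := stepQ 6487 Q6487 (allL N6487 (tt N7669 (iv F29689)) (tt N6520 F35160) (tt N3848 F26572) (tt N10386 (iv F39079)) (tt N3847 F26573) (tt N10387 D20595) (tt N3846 (iv D15264)))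
theorem Q6489 : ∀ i, i < 6489 → P i := stepQ 6488 Q6488 (allL N6488 (tt N6418 F26574) (tt N6518 (iv F34327)) (tt N3850 F26575) (tt N4499 F26576) (tt N10387 (iv F39086)) (tt N3847 (iv D15266)) (tt N4497 F26577))
theorem Q6490 : ∀ i, i < 6490 → P i := stepQ 6489 Q6489 (allL N6489 (tt N10388 D20596) (tt N3848 (iv D15267)) (tt N6522 (iv F35159)) (tt N10140 (iv F38547)) (tt N3849 F26578) (tt N6605 F35158) (tt N3905 F26579))
theorem Q6491 : ∀ i, i < 6491 → P i := stepQ 6490 Q6490 (allL N6490 (tt N6419 F26580) (tt N10389 D20597) (tt N10387 (iv F39084)) (tt N10141 (iv F38551)) (tt N3850 F26581) (tt N3848 (iv D15268)) (tt N6416 F26582))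
theorem Q6492 : ∀ i, i < 6492 → P i := stepQ 6491 Q6491 (allL N6491 (tt N3849 (iv D15269)) (tt N10390 D20598) (tt N6524 F35164) (tt N3851 F26583) (tt N10388 (iv F39088)) (tt N6570 (iv F26733)) (tt N3906 F26584))
theorem Q6493 : ∀ i, i < 6493 → P i := stepQ 6492 Q6492 (allL N6492 (tt N10391 D20599) (tt N3850 (iv D15272)) (tt N6598 (iv F35167)) (tt N3853 F26587) (tt N10389 (iv F39091)) (tt N6602 F35166) (tt N10392 D20600))
theorem Q6494 : ∀ i, i < 6494 → P i := stepQ 6493 Q6493 (allL N6493 (tt N10393 D20601) (tt N3851 (iv D15273)) (tt N9151 (iv F36044)) (tt N10390 (iv F39092)) (tt N10146 (iv F38559)) (tt N10394 D20602) (tt N9153 (iv F36052)))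
theorem Q6495 : ∀ i, i < 6495 → P i := stepQ 6494 Q6494 (allL N6494 (tt N10395 D20603) (tt N3852 (iv D15274)) (tt N10396 D20604) (tt N6602 (iv F35165)) (tt N10147 (iv F38560)) (tt N3853 F26588) (tt N10397 D20605))
theorem Q6496 : ∀ i, i < 6496 → P i := stepQ 6495 Q6495 (allL N6495 (tt N3853 (iv D15275)) (tt N10398 D20606) (tt N10399 D20607) (tt N10391 (iv F39095)) (tt N10148 (iv F38562)) (tt N10395 (iv F39100)) (tt N10400 D20608))
theorem Q6497 : ∀ i, i < 6497 → P i := stepQ 6496 Q6496 (allL N6496 (tt N10399 (iv F39107)) (tt N3855 F26589) (tt N3853 (iv D15276)) (tt N10401 D20609) (tt N10149 (iv F38564)) (tt N10396 (iv F39102)) (tt N10402 D20610))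
theorem Q6498 : ∀ i, i < 6498 → P i := stepQ 6497 Q6497 (allL N6497 (tt N10400 (iv F39108)) (tt N6415 F26590) (tt N10402 (iv F39111)) (tt N10392 (iv F39097)) (tt N10150 (iv F38566)) (tt N10403 D20611) (tt N3853 (iv D15277)))
theorem Q6499 : ∀ i, i < 6499 → P i := stepQ 6498 Q6498 (allL N6498 (tt N3855 F26591) (tt N10404 D20612) (tt N3854 (iv D15278)) (tt N10405 D20613) (tt N10151 (iv F38568)) (tt N7932 (iv F30103)) (tt N7569 (iv F29495)))
theorem Q6500 : ∀ i, i < 6500 → P i := stepQ 6499 Q6499 (allL N6499 (tt N10405 (iv F39116)) (tt N10401 (iv F39110)) (tt N5688 (iv F39708)) (tt N3855 (iv D15279)) (tt N5426 (iv F39709)) (tt N7933 (iv F30104)) (tt N6740 F39707))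
theorem Q6501 : ∀ i, i < 6501 → P i := stepQ 6500 Q6500 (allL N6500 (tt N7569 (iv F29494)) (tt N10406 D20617) (tt N3856 F26592) (tt N6740 (iv F39706)) (tt N10152 (iv F38570)) (tt N6739 (iv F39703)) (tt N3855 (iv D15280)))
theorem Q6502 : ∀ i, i < 6502 → P i := stepQ 6501 Q6501 (allL N6501 (tt N4754 F26593) (tt N6534 (iv F26668)) (tt N6739 (iv F39702)) (tt N4628 F26594) (tt N10153 (iv F38572)) (tt N3856 (iv D15281)) (tt N4752 F26595))
theorem Q6503 : ∀ i, i < 6503 → P i := stepQ 6502 Q6502 (allL N6502 (tt N4464 (iv F26599)) (tt N3857 (iv D15282)) (tt N9388 (iv F36700)) (tt N4657 F26596) (tt N9393 (iv F36725)) (tt N4657 F26597) (tt N4461 F26598))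
theorem Q6504 : ∀ i, i < 6504 → P i := stepQ 6503 Q6503 (allL N6503 (tt N6074 F26600) (tt N9388 (iv F36699)) (tt N3859 (iv D15283)) (tt N6009 F35297) (tt N5889 F35298) (tt N3869 F26601) (tt N5871 (iv F35296)))
theorem Q6505 : ∀ i, i < 6505 → P i := stepQ 6504 Q6504 (allL N6504 (tt N4660 F26602) (tt N3865 F26603) (tt N6504 F26604) (tt N10154 (iv F38577)) (tt N3862 (iv D15284)) (tt N8874 F34785) (tt N5367 F34786))
theorem Q6506 : ∀ i, i < 6506 → P i := stepQ 6505 Q6505 (allL N6505 (tt N4661 F26605) (tt N10407 D20619) (tt N6505 F26606) (tt N3863 F26607) (tt N8874 F34773) (tt N3862 (iv D15285)) (tt N5188 F34774))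
theorem Q6507 : ∀ i, i < 6507 → P i := stepQ 6506 Q6506 (allL N6506 (tt N6090 F26617) (tt N3863 (iv D15287)) (tt N6089 (iv F26618)) (tt N10407 (iv F39122)) (tt N10157 (iv F38587)) (tt N3867 F26611) (tt N10408 D20620))
theorem Q6508 : ∀ i, i < 6508 → P i := stepQ 6507 Q6507 (allL N6507 (tt N3874 F26612) (tt N10409 D20621) (tt N7833 (iv F29967)) (tt N10161 (iv F38599)) (tt N3866 F26613) (tt N3865 (iv D15288)) (tt N6450 F26614))
theorem Q6509 : ∀ i, i < 6509 → P i := stepQ 6508 Q6508 (allL N6508 (tt N10410 D20622) (tt N3866 (iv D15289)) (tt N10411 D20623) (tt N3867 F26615) (tt N10409 (iv F39127)) (tt N10407 (iv F39123)) (tt N10412 D20624))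
theorem Q6510 : ∀ i, i < 6510 → P i := stepQ 6509 Q6509 (allL N6509 (tt N3867 (iv D15290)) (tt N10413 D20625) (tt N6082 (iv F26619)) (tt N10410 (iv F39128)) (tt N10163 (iv F38603)) (tt N6090 F26616) (tt N10414 D20626))
theorem Q6511 : ∀ i, i < 6511 → P i := stepQ 6510 Q6510 (allL N6510 (tt N6082 F26628) (tt N3869 F26629) (tt N3867 (iv D15291)) (tt N10415 D20627) (tt N10164 (iv F38608)) (tt N6089 F26630) (tt N9440 F36855))
theorem Q6512 : ∀ i, i < 6512 → P i := stepQ 6511 Q6511 (allL N6511 (tt N10414 (iv F39133)) (tt N6454 F26631) (tt N9440 (iv F36857)) (tt N10412 (iv F39131)) (tt N10165 (iv F38612)) (tt N9833 (iv F37807)) (tt N3867 (iv D15292)))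
theorem Q6513 : ∀ i, i < 6513 → P i := stepQ 6512 Q6512 (allL N6512 (tt N4424 F26632) (tt N3868 (iv D15293)) (tt N10416 D20628) (tt N4687 F26633) (tt N10166 (iv F38614)) (tt N6390 (iv F26635)) (tt N4422 F26634))
theorem Q6514 : ∀ i, i < 6514 → P i := stepQ 6513 Q6513 (allL N6513 (tt N3869 F26636) (tt N6069 (iv F26638)) (tt N3868 (iv D15294)) (tt N9725 (iv F37587)) (tt N9548 (iv F37150)) (tt N6074 F26637) (tt N9526 (iv F37075)))
theorem Q6515 : ∀ i, i < 6515 → P i := stepQ 6514 Q6514 (allL N6514 (tt N9725 (iv F37585)) (tt N10415 (iv F39137)) (tt N10417 D20629) (tt N3869 (iv D15295)) (tt N6041 (iv F35302)) (tt N6009 F35303) (tt N9723 F37582))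
theorem Q6516 : ∀ i, i < 6516 → P i := stepQ 6515 Q6515 (allL N6515 (tt N9526 (iv F37074)) (tt N9437 (iv F36856)) (tt N3870 F26639) (tt N9723 (iv F37579)) (tt N9546 (iv F37138)) (tt N4509 F26640) (tt N3869 (iv D15296)))
theorem Q6517 : ∀ i, i < 6517 → P i := stepQ 6516 Q6516 (allL N6516 (tt N3871 (iv D15297)) (tt N10418 D20630) (tt N3927 F26641) (tt N4434 (iv F34371)) (tt N4131 F34319) (tt N6485 F34320) (tt N4129 F34321))
theorem Q6518 : ∀ i, i < 6518 → P i := stepQ 6517 Q6517 (allL N6517 (tt N4131 F34231) (tt N3872 F26642) (tt N3928 F26643) (tt N4126 F34232) (tt N3871 (iv D15298)) (tt N6900 F34233) (tt N4124 F34234))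
theorem Q6519 : ∀ i, i < 6519 → P i := stepQ 6518 Q6518 (allL N6518 (tt N6485 F34326) (tt N6488 F34327) (tt N3929 F26644) (tt N7462 (iv F34374)) (tt N6900 F34328) (tt N3871 (iv D15299)) (tt N6483 F34329))
theorem Q6520 : ∀ i, i < 6520 → P i := stepQ 6519 Q6519 (allL N6519 (tt N7832 (iv F29963)) (tt N4126 F34463) (tt N10419 D20631) (tt N3872 (iv D15301)) (tt N4421 F34464) (tt N10420 D20632) (tt N9353 (iv F36611)))
theorem Q6521 : ∀ i, i < 6521 → P i := stepQ 6520 Q6520 (allL N6520 (tt N7833 (iv F29966)) (tt N6487 (iv F35160)) (tt N3874 F26646) (tt N10420 (iv F39158)) (tt N3873 F26647) (tt N3872 (iv D15302)) (tt N10421 D20633))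
theorem Q6522 : ∀ i, i < 6522 → P i := stepQ 6521 Q6521 (allL N6521 (tt N6449 F26648) (tt N6485 F35137) (tt N3876 F26649) (tt N4534 F26650) (tt N10421 (iv F39165)) (tt N4532 F26651) (tt N3873 (iv D15304)))
theorem Q6523 : ∀ i, i < 6523 → P i := stepQ 6522 Q6522 (allL N6522 (tt N10422 D20634) (tt N3874 (iv D15305)) (tt N6489 F35159) (tt N10173 (iv F38628)) (tt N3875 F26652) (tt N3933 F26653) (tt N6566 (iv F35161)))
theorem Q6524 : ∀ i, i < 6524 → P i := stepQ 6523 Q6523 (allL N6523 (tt N6450 F26654) (tt N10423 D20635) (tt N10421 (iv F39163)) (tt N10174 (iv F38632)) (tt N3876 F26655) (tt N6447 F26656) (tt N3874 (iv D15306)))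
theorem Q6525 : ∀ i, i < 6525 → P i := stepQ 6524 Q6524 (allL N6524 (tt N3875 (iv D15307)) (tt N10424 D20636) (tt N6491 (iv F35164)) (tt N3877 F26657) (tt N10422 (iv F39168)) (tt N3934 F26658) (tt N6569 (iv F35145)))
theorem Q6526 : ∀ i, i < 6526 → P i := stepQ 6525 Q6525 (allL N6525 (tt N10425 D20637) (tt N3876 (iv D15310)) (tt N6559 (iv F35138)) (tt N3879 F26661) (tt N10423 (iv F39171)) (tt N10426 D20638) (tt N6563 F35139))
theorem Q6527 : ∀ i, i < 6527 → P i := stepQ 6526 Q6526 (allL N6526 (tt N10427 D20639) (tt N3877 (iv D15311)) (tt N9097 (iv F35910)) (tt N10424 (iv F39173)) (tt N10179 (iv F38640)) (tt N9099 (iv F35918)) (tt N10428 D20640))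
theorem Q6528 : ∀ i, i < 6528 → P i := stepQ 6527 Q6527 (allL N6527 (tt N10429 D20641) (tt N3878 (iv D15312)) (tt N10430 D20642) (tt N6563 (iv F35155)) (tt N10180 (iv F38641)) (tt N10431 D20643) (tt N3879 F26662))
theorem Q6529 : ∀ i, i < 6529 → P i := stepQ 6528 Q6528 (allL N6528 (tt N3879 (iv D15313)) (tt N10432 D20644) (tt N10433 D20645) (tt N10425 (iv F39175)) (tt N10181 (iv F38643)) (tt N10434 D20646) (tt N10429 (iv F39180)))
theorem Q6530 : ∀ i, i < 6530 → P i := stepQ 6529 Q6529 (allL N6529 (tt N10433 (iv F39184)) (tt N3881 F26663) (tt N3879 (iv D15314)) (tt N10435 D20647) (tt N10182 (iv F38645)) (tt N10436 D20648) (tt N10430 (iv F39181)))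
theorem Q6531 : ∀ i, i < 6531 → P i := stepQ 6530 Q6530 (allL N6530 (tt N10434 (iv F39185)) (tt N6445 F26664) (tt N10436 (iv F39188)) (tt N10426 (iv F39177)) (tt N10183 (iv F38647)) (tt N3879 (iv D15315)) (tt N10437 D20649))
theorem Q6532 : ∀ i, i < 6532 → P i := stepQ 6531 Q6531 (allL N6531 (tt N3881 F26665) (tt N10438 D20650) (tt N3880 (iv D15316)) (tt N10439 D20651) (tt N10184 (iv F38649)) (tt N7614 (iv F29593)) (tt N7778 (iv F29856)))
theorem Q6533 : ∀ i, i < 6533 → P i := stepQ 6532 Q6532 (allL N6532 (tt N10439 (iv F39193)) (tt N10435 (iv F39187)) (tt N5723 (iv F39752)) (tt N3881 (iv D15317)) (tt N5410 (iv F39753)) (tt N6814 F39751) (tt N7779 (iv F29857)))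
theorem Q6534 : ∀ i, i < 6534 → P i := stepQ 6533 Q6533 (allL N6533 (tt N7614 (iv F29592)) (tt N10440 D20655) (tt N3882 F26666) (tt N6814 (iv F39750)) (tt N10185 (iv F38651)) (tt N3881 (iv D15318)) (tt N6813 (iv F39748)))
theorem Q6535 : ∀ i, i < 6535 → P i := stepQ 6534 Q6534 (allL N6534 (tt N4656 F26667) (tt N6501 F26668) (tt N6813 (iv F39746)) (tt N4728 F26669) (tt N10186 (iv F38654)) (tt N4654 F26670) (tt N3882 (iv D15319)))
theorem Q6536 : ∀ i, i < 6536 → P i := stepQ 6535 Q6535 (allL N6535 (tt N4557 F26675) (tt N10441 D20657) (tt N4570 F26676) (tt N5524 (iv F29014)) (tt N10188 (iv F38661)) (tt N5522 F29013) (tt N3883 (iv D15322)))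
theorem Q6537 : ∀ i, i < 6537 → P i := stepQ 6536 Q6536 (allL N6536 (tt N3887 F26677) (tt N6707 (iv F27109)) (tt N3884 (iv D15323)) (tt N6617 (iv F26850)) (tt N10442 D20658) (tt N8451 (iv F33091)) (tt N10443 D20659))
theorem Q6538 : ∀ i, i < 6538 → P i := stepQ 6537 Q6537 (allL N6537 (tt N3888 F26678) (tt N8786 F33854) (tt N10442 (iv F39203)) (tt N10190 (iv F38665)) (tt N3884 (iv D15324)) (tt N10444 D20660) (tt N10445 D20661))
theorem Q6539 : ∀ i, i < 6539 → P i := stepQ 6538 Q6538 (allL N6538 (tt N3889 F26679) (tt N8947 (iv F35587)) (tt N8451 (iv F33089)) (tt N3885 F26680) (tt N10444 (iv F39209)) (tt N3884 (iv D15325)) (tt N6548 (iv F26694)))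
theorem Q6540 : ∀ i, i < 6540 → P i := stepQ 6539 Q6539 (allL N6539 (tt N3890 F26681) (tt N10446 D20662) (tt N10443 (iv F39206)) (tt N3886 F26682) (tt N10445 (iv F39211)) (tt N6546 (iv F26689)) (tt N3884 (iv D15326)))
theorem Q6541 : ∀ i, i < 6541 → P i := stepQ 6540 Q6540 (allL N6540 (tt N7442 F29147) (tt N3885 (iv D15327)) (tt N4593 (iv F29152)) (tt N8947 (iv F35589)) (tt N10193 (iv F38670)) (tt N8946 F35575) (tt N10447 D20663))
theorem Q6542 : ∀ i, i < 6542 → P i := stepQ 6541 Q6541 (allL N6541 (tt N10448 D20664) (tt N3886 (iv D15328)) (tt N6077 F43967) (tt N10446 (iv F39212)) (tt N10194 (iv F38672)) (tt N6075 (iv F43968)) (tt N10441 (iv F39200)))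
theorem Q6543 : ∀ i, i < 6543 → P i := stepQ 6542 Q6542 (allL N6542 (tt N10442 (iv F39201)) (tt N6621 (iv F26859)) (tt N3888 F26683) (tt N10449 D20667) (tt N3887 (iv D15329)) (tt N8358 (iv F32215)) (tt N10450 D20668))
theorem Q6544 : ∀ i, i < 6544 → P i := stepQ 6543 Q6543 (allL N6543 (tt N10443 (iv F39205)) (tt N8911 (iv F34164)) (tt N3890 F26685) (tt N6620 (iv F26857)) (tt N10450 (iv F39223)) (tt N10451 D20669) (tt N3887 (iv D15331)))
theorem Q6545 : ∀ i, i < 6545 → P i := stepQ 6544 Q6544 (allL N6544 (tt N10444 (iv F39208)) (tt N7946 (iv F30133)) (tt N8358 F32216) (tt N10199 (iv F38676)) (tt N3889 F26686) (tt N3888 (iv D15332)) (tt N10452 D20670))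
theorem Q6546 : ∀ i, i < 6546 → P i := stepQ 6545 Q6545 (allL N6545 (tt N10445 (iv F39210)) (tt N10453 D20671) (tt N10450 (iv F39222)) (tt N10200 (iv F38678)) (tt N3890 F26687) (tt N10454 D20672) (tt N3888 (iv D15333)))
theorem Q6547 : ∀ i, i < 6547 → P i := stepQ 6546 Q6546 (allL N6546 (tt N6548 (iv F26692)) (tt N10455 D20673) (tt N8452 (iv F33092)) (tt N3891 F26688) (tt N10452 (iv F39229)) (tt N6539 F26689) (tt N3889 (iv D15334)))
theorem Q6548 : ∀ i, i < 6548 → P i := stepQ 6547 Q6547 (allL N6547 (tt N10456 D20674) (tt N3890 (iv D15335)) (tt N8912 (iv F35506)) (tt N3892 F26690) (tt N10453 (iv F39231)) (tt N10457 D20675) (tt N3895 F26691))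
theorem Q6549 : ∀ i, i < 6549 → P i := stepQ 6548 Q6548 (allL N6548 (tt N6546 F26692) (tt N10458 D20676) (tt N10451 (iv F39226)) (tt N3893 F26693) (tt N10454 (iv F39234)) (tt N3890 (iv D15336)) (tt N6538 F26694))
theorem Q6550 : ∀ i, i < 6550 → P i := stepQ 6549 Q6549 (allL N6549 (tt N10459 D20677) (tt N3891 (iv D15337)) (tt N9887 (iv F43970)) (tt N10455 (iv F39236)) (tt N10203 (iv F38685)) (tt N9816 (iv F43969)) (tt N7948 (iv F30140)))
theorem Q6551 : ∀ i, i < 6551 → P i := stepQ 6550 Q6550 (allL N6550 (tt N3892 (iv D15338)) (tt N10460 D20680) (tt N9890 (iv F37915)) (tt N10456 (iv F39238)) (tt N10204 (iv F38686)) (tt N6557 (iv F26703)) (tt N3896 F26695))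
theorem Q6552 : ∀ i, i < 6552 → P i := stepQ 6551 Q6551 (allL N6551 (tt N6557 (iv F26702)) (tt N9908 (iv F37961)) (tt N6121 F35705) (tt N10457 (iv F39243)) (tt N10205 (iv F38689)) (tt N3892 (iv D15339)) (tt N6556 (iv F26701)))
theorem Q6553 : ∀ i, i < 6553 → P i := stepQ 6552 Q6552 (allL N6552 (tt N10461 D20681) (tt N3893 (iv D15340)) (tt N9910 (iv F37966)) (tt N10458 (iv F39245)) (tt N10206 (iv F38690)) (tt N9908 F37962) (tt N10462 D20682))
theorem Q6554 : ∀ i, i < 6554 → P i := stepQ 6553 Q6553 (allL N6553 (tt N10463 D20683) (tt N3894 (iv D15341)) (tt N8729 (iv F33740)) (tt N7397 (iv F28579)) (tt N3895 F26696) (tt N8728 F33739) (tt N10453 (iv F39232)))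
theorem Q6555 : ∀ i, i < 6555 → P i := stepQ 6554 Q6554 (allL N6554 (tt N3895 (iv D15342)) (tt N10464 D20684) (tt N9004 (iv F35699)) (tt N3896 F26697) (tt N10463 (iv F39249)) (tt N8559 F34134) (tt N10456 (iv F39239)))
theorem Q6556 : ∀ i, i < 6556 → P i := stepQ 6555 Q6555 (allL N6555 (tt N9804 (iv F37755)) (tt N3896 (iv D15345)) (tt N9808 (iv F37762)) (tt N10464 (iv F39250)) (tt N10207 (iv F38691)) (tt N10465 D20685) (tt N10466 D20686))
theorem Q6557 : ∀ i, i < 6557 → P i := stepQ 6556 Q6556 (allL N6556 (tt N3897 F26700) (tt N8558 (iv F34135)) (tt N9883 (iv F37901)) (tt N8559 F34133) (tt N10208 (iv F38693)) (tt N3896 (iv D15346)) (tt N6551 F26701))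
theorem Q6558 : ∀ i, i < 6558 → P i := stepQ 6557 Q6557 (allL N6557 (tt N6551 F26702) (tt N10467 D20687) (tt N9879 (iv F37890)) (tt N9006 (iv F35704)) (tt N10209 (iv F38696)) (tt N6550 F26703) (tt N3897 (iv D15347)))
theorem Q6559 : ∀ i, i < 6559 → P i := stepQ 6558 Q6558 (allL N6558 (tt N6707 (iv F27108)) (tt N3898 (iv D15348)) (tt N10468 D20688) (tt N5092 (iv F28873)) (tt N5031 F29253) (tt N5007 F29254) (tt N10469 D20689))
theorem Q6560 : ∀ i, i < 6560 → P i := stepQ 6559 Q6559 (allL N6559 (tt N10470 D20690) (tt N3901 (iv D15356)) (tt N6525 F35138) (tt N6614 (iv F26837)) (tt N8357 (iv F32212)) (tt N10471 D20691) (tt N3904 F26711))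
theorem Q6561 : ∀ i, i < 6561 → P i := stepQ 6560 Q6560 (allL N6560 (tt N6641 (iv F26900)) (tt N8373 (iv F32245)) (tt N4792 F26714) (tt N3903 F26715) (tt N4045 F32491) (tt N4792 F26717) (tt N3902 (iv D15358)))
theorem Q6562 : ∀ i, i < 6562 → P i := stepQ 6561 Q6561 (allL N6561 (tt N10472 D20692) (tt N3903 (iv D15359)) (tt N10473 D20693) (tt N8373 (iv F32246)) (tt N3904 F26718) (tt N10474 D20694) (tt N8357 (iv F32213)))
theorem Q6563 : ∀ i, i < 6563 → P i := stepQ 6562 Q6562 (allL N6562 (tt N3904 (iv D15360)) (tt N5166 (iv F33256)) (tt N10475 D20695) (tt N6615 (iv F26842)) (tt N10472 (iv F39260)) (tt N10476 D20696) (tt N10470 (iv F39257)))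
theorem Q6564 : ∀ i, i < 6564 → P i := stepQ 6563 Q6563 (allL N6563 (tt N10475 (iv F39266)) (tt N3907 F26719) (tt N3904 (iv D15361)) (tt N6527 F35155) (tt N10473 (iv F39262)) (tt N9048 (iv F35809)) (tt N6525 (iv F35139)))
theorem Q6565 : ∀ i, i < 6565 → P i := stepQ 6564 Q6564 (allL N6564 (tt N10476 (iv F39269)) (tt N4790 F26720) (tt N9048 F35810) (tt N6616 (iv F26845)) (tt N10474 (iv F39265)) (tt N3904 (iv D15362)) (tt N10477 D20697))
theorem Q6566 : ∀ i, i < 6566 → P i := stepQ 6565 Q6565 (allL N6565 (tt N3905 (iv D15363)) (tt N10478 D20698) (tt N10479 D20699) (tt N10210 (iv F38698)) (tt N3906 F26721) (tt N8800 F33887) (tt N10388 (iv F39089)))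
theorem Q6567 : ∀ i, i < 6567 → P i := stepQ 6566 Q6566 (allL N6566 (tt N10479 (iv F39276)) (tt N10473 (iv F39261)) (tt N3905 (iv D15364)) (tt N10480 D20700) (tt N3907 F26722) (tt N8837 (iv F35240)) (tt N6522 F35161))
theorem Q6568 : ∀ i, i < 6568 → P i := stepQ 6567 Q6567 (allL N6567 (tt N8800 (iv F33885)) (tt N4651 F26723) (tt N8837 (iv F35238)) (tt N10212 (iv F38702)) (tt N3908 F26724) (tt N3905 (iv D15365)) (tt N10481 D20701))
theorem Q6569 : ∀ i, i < 6569 → P i := stepQ 6568 Q6568 (allL N6568 (tt N9805 (iv F37757)) (tt N3906 (iv D15366)) (tt N10482 D20702) (tt N3909 F26725) (tt N10478 (iv F39275)) (tt N9102 (iv F35925)) (tt N10483 D20703))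
theorem Q6570 : ∀ i, i < 6570 → P i := stepQ 6569 Q6569 (allL N6569 (tt N3907 F26726) (tt N10484 D20704) (tt N3906 (iv D15367)) (tt N3939 F35143) (tt N10479 (iv F39277)) (tt N3936 F35144) (tt N6524 F35145))
theorem Q6571 : ∀ i, i < 6571 → P i := stepQ 6570 Q6570 (allL N6570 (tt N3935 F35150) (tt N10485 D20705) (tt N3934 F35151) (tt N3911 F26732) (tt N10481 (iv F39284)) (tt N6491 F26733) (tt N3908 (iv D15371)))
theorem Q6572 : ∀ i, i < 6572 → P i := stepQ 6571 Q6571 (allL N6571 (tt N9806 (iv F37758)) (tt N5534 (iv F29206)) (tt N5530 F29205) (tt N9102 (iv F35924)) (tt N10219 (iv F38715)) (tt N3909 (iv D15374)) (tt N10486 D20706))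
theorem Q6573 : ∀ i, i < 6573 → P i := stepQ 6572 Q6572 (allL N6572 (tt N9807 (iv F37760)) (tt N9153 (iv F36051)) (tt N8582 (iv F35198)) (tt N10483 (iv F39286)) (tt N10220 (iv F38716)) (tt N10487 D20707) (tt N3909 (iv D15375)))
theorem Q6574 : ∀ i, i < 6574 → P i := stepQ 6573 Q6573 (allL N6573 (tt N10488 D20708) (tt N3911 (iv D15377)) (tt N10489 D20709) (tt N10485 (iv F39289)) (tt N10221 (iv F38717)) (tt N10490 D20710) (tt N4653 F26734))
theorem Q6575 : ∀ i, i < 6575 → P i := stepQ 6574 Q6574 (allL N6574 (tt N4659 F26737) (tt N10491 D20711) (tt N4670 F26738) (tt N5567 F35267) (tt N10223 (iv F38724)) (tt N3912 (iv D15379)) (tt N5566 (iv F34757)))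
theorem Q6576 : ∀ i, i < 6576 → P i := stepQ 6575 Q6575 (allL N6575 (tt N3916 F26741) (tt N6783 (iv F27267)) (tt N3913 (iv D15381)) (tt N6665 (iv F26991)) (tt N10492 D20712) (tt N10493 D20713) (tt N8462 (iv F35440)))
theorem Q6577 : ∀ i, i < 6577 → P i := stepQ 6576 Q6576 (allL N6576 (tt N3917 F26742) (tt N8824 F35269) (tt N10492 (iv F39309)) (tt N10225 (iv F38728)) (tt N3913 (iv D15382)) (tt N10494 D20714) (tt N10495 D20715))
theorem Q6578 : ∀ i, i < 6578 → P i := stepQ 6577 Q6577 (allL N6577 (tt N3918 F26743) (tt N10496 D20716) (tt N10493 (iv F39312)) (tt N3914 F26744) (tt N10494 (iv F39315)) (tt N3913 (iv D15383)) (tt N6587 (iv F26758)))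
theorem Q6579 : ∀ i, i < 6579 → P i := stepQ 6578 Q6578 (allL N6578 (tt N3919 F26745) (tt N9015 (iv F35739)) (tt N8462 (iv F35441)) (tt N3915 F26746) (tt N10495 (iv F39317)) (tt N6586 (iv F26755)) (tt N3913 (iv D15384)))
theorem Q6580 : ∀ i, i < 6580 → P i := stepQ 6579 Q6579 (allL N6579 (tt N10497 D20717) (tt N3914 (iv D15385)) (tt N6115 (iv F39572)) (tt N10496 (iv F39318)) (tt N10228 (iv F38733)) (tt N10491 (iv F39306)) (tt N6113 (iv F39573)))
theorem Q6581 : ∀ i, i < 6581 → P i := stepQ 6580 Q6580 (allL N6580 (tt N7444 F35101) (tt N3915 (iv D15386)) (tt N4693 F35102) (tt N9015 (iv F35741)) (tt N10229 (iv F38734)) (tt N10498 D20720) (tt N9013 F35733))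
theorem Q6582 : ∀ i, i < 6582 → P i := stepQ 6581 Q6581 (allL N6581 (tt N10492 (iv F39307)) (tt N6669 (iv F27000)) (tt N3917 F26747) (tt N10499 D20721) (tt N3916 (iv D15387)) (tt N10500 D20722) (tt N8366 F35356))
theorem Q6583 : ∀ i, i < 6583 → P i := stepQ 6582 Q6582 (allL N6582 (tt N10493 (iv F39311)) (tt N8904 (iv F35018)) (tt N3918 F26748) (tt N6667 (iv F26997)) (tt N10500 (iv F39329)) (tt N3916 (iv D15388)) (tt N10501 D20723))
theorem Q6584 : ∀ i, i < 6584 → P i := stepQ 6583 Q6583 (allL N6583 (tt N10494 (iv F39314)) (tt N10502 D20724) (tt N10500 (iv F39328)) (tt N10234 (iv F38739)) (tt N3918 F26750) (tt N3917 (iv D15390)) (tt N10503 D20725))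
theorem Q6585 : ∀ i, i < 6585 → P i := stepQ 6584 Q6584 (allL N6584 (tt N10495 (iv F39316)) (tt N8004 (iv F30262)) (tt N8366 (iv F35355)) (tt N10235 (iv F38741)) (tt N3919 F26751) (tt N10504 D20726) (tt N3917 (iv D15391)))
theorem Q6586 : ∀ i, i < 6586 → P i := stepQ 6585 Q6585 (allL N6585 (tt N10505 D20727) (tt N3918 (iv D15392)) (tt N8905 F35019) (tt N3920 F26752) (tt N10502 (iv F39335)) (tt N3924 F26753) (tt N10506 D20728))
theorem Q6587 : ∀ i, i < 6587 → P i := stepQ 6586 Q6586 (allL N6586 (tt N6587 (iv F26756)) (tt N10507 D20729) (tt N10501 (iv F39332)) (tt N3921 F26754) (tt N10503 (iv F39337)) (tt N6578 F26755) (tt N3918 (iv D15393)))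
theorem Q6588 : ∀ i, i < 6588 → P i := stepQ 6587 Q6587 (allL N6587 (tt N6586 F26756) (tt N10508 D20730) (tt N8463 (iv F35442)) (tt N3922 F26757) (tt N10504 (iv F39340)) (tt N3919 (iv D15394)) (tt N6577 F26758))
theorem Q6589 : ∀ i, i < 6589 → P i := stepQ 6588 Q6588 (allL N6588 (tt N3920 (iv D15395)) (tt N10509 D20731) (tt N9880 (iv F37893)) (tt N10505 (iv F39343)) (tt N10238 (iv F38748)) (tt N3925 F26759) (tt N6596 (iv F26767)))
theorem Q6590 : ∀ i, i < 6590 → P i := stepQ 6589 Q6589 (allL N6589 (tt N6596 (iv F26766)) (tt N9925 (iv F38008)) (tt N6130 (iv F35709)) (tt N10506 (iv F39348)) (tt N10239 (iv F38751)) (tt N6595 (iv F26765)) (tt N3920 (iv D15396)))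
theorem Q6591 : ∀ i, i < 6591 → P i := stepQ 6590 Q6590 (allL N6590 (tt N10510 D20732) (tt N3921 (iv D15397)) (tt N9928 (iv F38014)) (tt N10507 (iv F39350)) (tt N10240 (iv F38752)) (tt N10511 D20733) (tt N9925 F38009))
theorem Q6592 : ∀ i, i < 6592 → P i := stepQ 6591 Q6591 (allL N6591 (tt N10512 D20734) (tt N3922 (iv D15398)) (tt N9895 (iv F39575)) (tt N10508 (iv F39351)) (tt N10241 (iv F38753)) (tt N8006 (iv F30267)) (tt N9869 (iv F39574)))
theorem Q6593 : ∀ i, i < 6593 → P i := stepQ 6592 Q6592 (allL N6592 (tt N10513 D20737) (tt N3923 (iv D15399)) (tt N8775 F35042) (tt N7428 (iv F28642)) (tt N3924 F26760) (tt N10502 (iv F39336)) (tt N8773 (iv F35041)))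
theorem Q6594 : ∀ i, i < 6594 → P i := stepQ 6593 Q6593 (allL N6593 (tt N3924 (iv D15400)) (tt N10514 D20738) (tt N9067 (iv F35845)) (tt N3925 F26761) (tt N10513 (iv F39355)) (tt N10505 (iv F39344)) (tt N8568 F35043))
theorem Q6595 : ∀ i, i < 6595 → P i := stepQ 6594 Q6594 (allL N6594 (tt N9857 (iv F37852)) (tt N3925 (iv D15403)) (tt N9861 (iv F37859)) (tt N10514 (iv F39356)) (tt N10242 (iv F38754)) (tt N10515 D20739) (tt N10516 D20740))
theorem Q6596 : ∀ i, i < 6596 → P i := stepQ 6595 Q6595 (allL N6595 (tt N3926 F26764) (tt N8567 F35045) (tt N9881 (iv F37895)) (tt N8568 (iv F35044)) (tt N10243 (iv F38756)) (tt N6589 F26765) (tt N3925 (iv D15404)))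
theorem Q6597 : ∀ i, i < 6597 → P i := stepQ 6596 Q6596 (allL N6596 (tt N6589 F26766) (tt N10517 D20741) (tt N9884 (iv F37905)) (tt N9068 (iv F35848)) (tt N10244 (iv F38759)) (tt N3926 (iv D15405)) (tt N6588 F26767))
theorem Q6598 : ∀ i, i < 6598 → P i := stepQ 6597 Q6597 (allL N6597 (tt N6783 (iv F27266)) (tt N3927 (iv D15406)) (tt N10518 D20742) (tt N5093 F34316) (tt N5033 F34317) (tt N10519 D20743) (tt N5008 F34318))
theorem Q6599 : ∀ i, i < 6599 → P i := stepQ 6598 Q6598 (allL N6598 (tt N10520 D20744) (tt N3929 (iv D15413)) (tt N6492 F35167) (tt N6662 (iv F26976)) (tt N8353 (iv F35497)) (tt N3932 F26774) (tt N10521 D20745))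
theorem Q6600 : ∀ i, i < 6600 → P i := stepQ 6599 Q6599 (allL N6599 (tt N6686 (iv F27041)) (tt N8365 F34187) (tt N4830 F26778) (tt N3931 F26779) (tt N4091 F32953) (tt N3930 (iv D15416)) (tt N4830 F26781))
theorem Q6601 : ∀ i, i < 6601 → P i := stepQ 6600 Q6600 (allL N6600 (tt N10522 D20746) (tt N3931 (iv D15417)) (tt N10523 D20747) (tt N8365 (iv F35499)) (tt N3932 F26782) (tt N8353 F35498) (tt N10524 D20748))
theorem Q6602 : ∀ i, i < 6602 → P i := stepQ 6601 Q6601 (allL N6601 (tt N3932 (iv D15418)) (tt N5147 F35062) (tt N10525 D20749) (tt N6663 (iv F26983)) (tt N10522 (iv F39368)) (tt N10520 (iv F39364)) (tt N10526 D20750))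
theorem Q6603 : ∀ i, i < 6603 → P i := stepQ 6602 Q6602 (allL N6602 (tt N10525 (iv F39374)) (tt N3935 F26783) (tt N3932 (iv D15419)) (tt N6494 F35165) (tt N10523 (iv F39370)) (tt N6492 (iv F35166)) (tt N8983 (iv F35660)))
theorem Q6604 : ∀ i, i < 6604 → P i := stepQ 6603 Q6603 (allL N6603 (tt N10526 (iv F39377)) (tt N4829 F26784) (tt N8983 F35661) (tt N6664 (iv F26986)) (tt N10524 (iv F39373)) (tt N10527 D20751) (tt N3932 (iv D15420)))
theorem Q6605 : ∀ i, i < 6605 → P i := stepQ 6604 Q6604 (allL N6604 (tt N3933 (iv D15421)) (tt N10528 D20752) (tt N10481 (iv F39283)) (tt N10245 (iv F38761)) (tt N3934 F26785) (tt N10422 (iv F39169)) (tt N8837 (iv F35239)))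
theorem Q6606 : ∀ i, i < 6606 → P i := stepQ 6605 Q6605 (allL N6605 (tt N10481 (iv F39282)) (tt N10523 (iv F39369)) (tt N3933 (iv D15422)) (tt N10529 D20753) (tt N3935 F26786) (tt N6489 (iv F35158)) (tt N8800 F35156))
theorem Q6607 : ∀ i, i < 6607 → P i := stepQ 6606 Q6606 (allL N6606 (tt N8837 F35237) (tt N4749 F26787) (tt N8800 (iv F35157)) (tt N10247 (iv F38765)) (tt N3936 F26788) (tt N10479 (iv F39278)) (tt N3933 (iv D15423)))
theorem Q6608 : ∀ i, i < 6608 → P i := stepQ 6607 Q6607 (allL N6607 (tt N9858 (iv F37854)) (tt N3934 (iv D15424)) (tt N10530 D20754) (tt N3937 F26789) (tt N10528 (iv F39383)) (tt N10531 D20755) (tt N9156 (iv F36059)))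
theorem Q6609 : ∀ i, i < 6609 → P i := stepQ 6608 Q6608 (allL N6608 (tt N9859 (iv F37855)) (tt N9099 (iv F35917)) (tt N8573 F33401) (tt N10531 (iv F39386)) (tt N10254 (iv F38776)) (tt N3937 (iv D15432)) (tt N10532 D20756))
theorem Q6610 : ∀ i, i < 6610 → P i := stepQ 6609 Q6609 (allL N6609 (tt N9860 (iv F37857)) (tt N5578 (iv F35194)) (tt N5574 F35193) (tt N9156 (iv F36058)) (tt N10255 (iv F38779)) (tt N10533 D20757) (tt N3937 (iv D15433)))
theorem Q6611 : ∀ i, i < 6611 → P i := stepQ 6610 Q6610 (allL N6610 (tt N10534 D20758) (tt N3939 (iv D15435)) (tt N10535 D20759) (tt N10484 (iv F39287)) (tt N10256 (iv F38780)) (tt N4751 F26799) (tt N10536 D20760))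
theorem Q6612 : ∀ i, i < 6612 → P i := stepQ 6611 Q6611 (allL N6611 (tt N8439 (iv F32444)) (tt N3941 F26801) (tt N10537 D20761) (tt N3940 (iv D15437)) (tt N9356 (iv F36620)) (tt N8436 (iv F32421)) (tt N10538 D20762))
theorem Q6613 : ∀ i, i < 6613 → P i := stepQ 6612 Q6612 (allL N6612 (tt N6660 (iv F34272)) (tt N6853 (iv F33051)) (tt N3942 F26806) (tt N10538 (iv F39409)) (tt N5091 F29250) (tt N5087 (iv F29251)) (tt N3940 (iv D15440)))
theorem Q6614 : ∀ i, i < 6614 → P i := stepQ 6613 Q6613 (allL N6613 (tt N6613 F26807) (tt N9356 F36621) (tt N6613 F26808) (tt N6863 (iv F33053)) (tt N3941 (iv D15441)) (tt N6613 F26809) (tt N6854 F33052))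
theorem Q6615 : ∀ i, i < 6615 → P i := stepQ 6614 Q6614 (allL N6614 (tt N10539 D20763) (tt N3942 (iv D15456)) (tt N6743 F33050) (tt N6559 F26837) (tt N5101 (iv F29249)) (tt N10540 D20764) (tt N3943 F26838))
theorem Q6616 : ∀ i, i < 6616 → P i := stepQ 6615 Q6615 (allL N6615 (tt N3943 (iv D15458)) (tt N8488 F33253) (tt N6742 F33049) (tt N6562 F26842) (tt N6758 (iv F32493)) (tt N10541 D20765) (tt N10539 (iv F39413)))
theorem Q6617 : ∀ i, i < 6617 → P i := stepQ 6616 Q6616 (allL N6616 (tt N10541 (iv F39417)) (tt N4845 F26844) (tt N6741 F33045) (tt N6564 F26845) (tt N6755 (iv F32494)) (tt N3943 (iv D15460)) (tt N10542 D20766))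
theorem Q6618 : ∀ i, i < 6618 → P i := stepQ 6617 Q6617 (allL N6617 (tt N3944 (iv D15464)) (tt N4005 (iv F26852)) (tt N3944 F26851) (tt N6536 F26850) (tt N6619 (iv F29181)) (tt N6618 F29178) (tt N10543 D20767))
theorem Q6619 : ∀ i, i < 6619 → P i := stepQ 6618 Q6618 (allL N6618 (tt N6619 F29179) (tt N3946 F26855) (tt N6619 F29180) (tt N8451 (iv F33090)) (tt N3944 (iv D15465)) (tt N6617 (iv F29178)) (tt N9916 (iv F37985)))
theorem Q6620 : ∀ i, i < 6620 → P i := stepQ 6619 Q6619 (allL N6619 (tt N6618 (iv F29179)) (tt N5094 F29182) (tt N6618 (iv F29180)) (tt N5102 (iv F28923)) (tt N6617 F29181) (tt N3944 (iv D15466)) (tt N10544 D20768))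
theorem Q6621 : ∀ i, i < 6621 → P i := stepQ 6620 Q6620 (allL N6620 (tt N10543 (iv F39424)) (tt N5957 (iv F35369)) (tt N10543 (iv F39425)) (tt N6543 F26857) (tt N9916 (iv F37983)) (tt N9916 (iv F37984)) (tt N3944 (iv D15467)))
theorem Q6622 : ∀ i, i < 6622 → P i := stepQ 6621 Q6621 (allL N6621 (tt N3949 F26858) (tt N6542 F26859) (tt N3949 F26860) (tt N10545 D20769) (tt N3945 (iv D15468)) (tt N5051 (iv F29238)) (tt N10546 D20770))
theorem Q6623 : ∀ i, i < 6623 → P i := stepQ 6622 Q6622 (allL N6622 (tt N3951 F26864) (tt N8895 (iv F34102)) (tt N3951 F26865) (tt N3948 F26866) (tt N10546 (iv F39448)) (tt N6628 (iv F26879)) (tt N3945 (iv D15470)))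
theorem Q6624 : ∀ i, i < 6624 → P i := stepQ 6623 Q6623 (allL N6623 (tt N3952 F26867) (tt N8451 (iv F33088)) (tt N8949 (iv F35595)) (tt N3946 (iv D15471)) (tt N10545 (iv F39444)) (tt N6716 (iv F29185)) (tt N10547 D20771))
theorem Q6625 : ∀ i, i < 6625 → P i := stepQ 6624 Q6624 (allL N6624 (tt N3954 F26871) (tt N6155 (iv F35011)) (tt N4009 F26872) (tt N10547 (iv F39452)) (tt N3948 F26873) (tt N6633 (iv F26890)) (tt N3946 (iv D15473)))
theorem Q6626 : ∀ i, i < 6626 → P i := stepQ 6625 Q6625 (allL N6625 (tt N10545 (iv F39442)) (tt N3958 F26874) (tt N10548 D20772) (tt N3949 (iv D15476)) (tt N3952 F26875) (tt N10549 D20773) (tt N10550 D20774))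
theorem Q6627 : ∀ i, i < 6627 → P i := stepQ 6626 Q6626 (allL N6626 (tt N5051 F29239) (tt N9902 (iv F37944)) (tt N5051 F29240) (tt N10549 (iv F39459)) (tt N3950 F26876) (tt N3949 (iv D15477)) (tt N10551 D20775))
theorem Q6628 : ∀ i, i < 6628 → P i := stepQ 6627 Q6627 (allL N6627 (tt N10546 (iv F39446)) (tt N10552 D20776) (tt N10546 (iv F39447)) (tt N10550 (iv F39461)) (tt N3951 F26877) (tt N8388 (iv F32295)) (tt N3949 (iv D15478)))
theorem Q6629 : ∀ i, i < 6629 → P i := stepQ 6628 Q6628 (allL N6628 (tt N5138 (iv F28931)) (tt N10553 D20777) (tt N5138 (iv F28932)) (tt N3955 F26878) (tt N10551 (iv F39465)) (tt N6622 F26879) (tt N3950 (iv D15479)))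
theorem Q6630 : ∀ i, i < 6630 → P i := stepQ 6629 Q6629 (allL N6629 (tt N8530 (iv F33284)) (tt N3951 (iv D15480)) (tt N8896 F34101) (tt N3956 F26880) (tt N10552 (iv F39467)) (tt N8898 (iv F34120)) (tt N3960 F26881))
theorem Q6631 : ∀ i, i < 6631 → P i := stepQ 6630 Q6630 (allL N6630 (tt N8949 (iv F35594)) (tt N4971 F29230) (tt N3952 (iv D15482)) (tt N5377 (iv F29229)) (tt N10548 (iv F39454)) (tt N5377 (iv F29228)) (tt N10554 D20778))
theorem Q6632 : ∀ i, i < 6632 → P i := stepQ 6631 Q6631 (allL N6631 (tt N6716 F29186) (tt N5380 (iv F29226)) (tt N5377 F29227) (tt N3953 F26886) (tt N10549 (iv F39460)) (tt N3952 (iv D15483)) (tt N10555 D20779))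
theorem Q6633 : ∀ i, i < 6633 → P i := stepQ 6632 Q6632 (allL N6632 (tt N10547 (iv F39449)) (tt N10556 D20780) (tt N10554 (iv F39474)) (tt N3954 F26887) (tt N10550 (iv F39462)) (tt N10557 D20781) (tt N3952 (iv D15484)))
theorem Q6634 : ∀ i, i < 6634 → P i := stepQ 6633 Q6633 (allL N6633 (tt N6635 (iv F26893)) (tt N3987 F35004) (tt N4013 F26888) (tt N10555 (iv F39478)) (tt N3955 F26889) (tt N6624 F26890) (tt N3953 (iv D15485)))
theorem Q6635 : ∀ i, i < 6635 → P i := stepQ 6634 Q6634 (allL N6634 (tt N10558 D20782) (tt N3954 (iv D15486)) (tt N10559 D20783) (tt N10556 (iv F39481)) (tt N3956 F26891) (tt N10560 D20784) (tt N3963 F26892))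
theorem Q6636 : ∀ i, i < 6636 → P i := stepQ 6635 Q6635 (allL N6635 (tt N6633 F26893) (tt N10561 D20785) (tt N4012 (iv F29062)) (tt N10557 (iv F39485)) (tt N3957 F26895) (tt N3954 (iv D15487)) (tt N4011 F29054))
theorem Q6637 : ∀ i, i < 6637 → P i := stepQ 6636 Q6636 (allL N6636 (tt N6682 F35006) (tt N3955 (iv D15488)) (tt N4060 F35007) (tt N10553 (iv F39470)) (tt N3987 F35008) (tt N3984 F35009) (tt N6672 F35010))
theorem Q6638 : ∀ i, i < 6638 → P i := stepQ 6637 Q6637 (allL N6637 (tt N3956 (iv D15489)) (tt N10562 D20786) (tt N10563 D20787) (tt N8530 (iv F33286)) (tt N10558 (iv F39489)) (tt N6653 (iv F26924)) (tt N3964 F26897))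
theorem Q6639 : ∀ i, i < 6639 → P i := stepQ 6638 Q6638 (allL N6638 (tt N10563 (iv F39507)) (tt N4017 F26898) (tt N3956 (iv D15490)) (tt N10564 D20788) (tt N10559 (iv F39493)) (tt N10565 D20789) (tt N3965 F26899))
theorem Q6640 : ∀ i, i < 6640 → P i := stepQ 6639 Q6639 (allL N6639 (tt N6653 (iv F26923)) (tt N6685 F35059) (tt N10565 (iv F39511)) (tt N8898 F34122) (tt N10560 (iv F39497)) (tt N3956 (iv D15491)) (tt N6650 (iv F26919)))
theorem Q6641 : ∀ i, i < 6641 → P i := stepQ 6640 Q6640 (allL N6640 (tt N3996 F35049) (tt N3957 (iv D15492)) (tt N10566 D20790) (tt N8495 (iv F33212)) (tt N10561 (iv F39499)) (tt N6685 F35050) (tt N3994 (iv F35051)))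
theorem Q6642 : ∀ i, i < 6642 → P i := stepQ 6641 Q6641 (allL N6641 (tt N6560 F26900) (tt N10567 D20791) (tt N4860 F26901) (tt N3959 F26902) (tt N3962 F26903) (tt N4860 F26904) (tt N3958 (iv D15493)))
theorem Q6643 : ∀ i, i < 6643 → P i := stepQ 6642 Q6642 (allL N6642 (tt N8411 F33257) (tt N3959 (iv D15494)) (tt N10568 D20792) (tt N10567 (iv F39515)) (tt N3960 F26905) (tt N10569 D20793) (tt N10552 (iv F39468)))
theorem Q6644 : ∀ i, i < 6644 → P i := stepQ 6643 Q6643 (allL N6643 (tt N8529 (iv F33283)) (tt N5465 (iv F33247)) (tt N3960 (iv D15496)) (tt N9057 (iv F35822)) (tt N10568 (iv F39518)) (tt N5470 F33249) (tt N8896 (iv F34100)))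
theorem Q6645 : ∀ i, i < 6645 → P i := stepQ 6644 Q6644 (allL N6644 (tt N8524 F33271) (tt N4855 F26908) (tt N5470 (iv F33241)) (tt N3966 F26909) (tt N10569 (iv F39522)) (tt N3960 (iv D15497)) (tt N10570 D20794))
theorem Q6646 : ∀ i, i < 6646 → P i := stepQ 6645 Q6645 (allL N6645 (tt N10571 D20795) (tt N3962 (iv D15499)) (tt N10572 D20796) (tt N3963 F26911) (tt N10567 (iv F39516)) (tt N8546 F33315) (tt N10556 (iv F39482)))
theorem Q6647 : ∀ i, i < 6647 → P i := stepQ 6646 Q6646 (allL N6646 (tt N3963 (iv D15500)) (tt N8476 F33254) (tt N10573 D20797) (tt N10571 (iv F39847)) (tt N3964 F26912) (tt N10574 D20798) (tt N10558 (iv F39490)))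
theorem Q6648 : ∀ i, i < 6648 → P i := stepQ 6647 Q6647 (allL N6647 (tt N10573 (iv F39850)) (tt N3967 F26913) (tt N3963 (iv D15501)) (tt N10575 D20799) (tt N3965 F26914) (tt N10576 D20800) (tt N10559 (iv F39494)))
theorem Q6649 : ∀ i, i < 6649 → P i := stepQ 6648 Q6648 (allL N6648 (tt N10574 (iv F39852)) (tt N4858 F26915) (tt N10576 (iv F39858)) (tt N8546 (iv F33313)) (tt N3966 F26916) (tt N3963 (iv D15502)) (tt N8491 F33202))
theorem Q6650 : ∀ i, i < 6650 → P i := stepQ 6649 Q6649 (allL N6649 (tt N3965 F26917) (tt N10577 D20801) (tt N3964 (iv D15504)) (tt N10578 D20802) (tt N10573 (iv F39851)) (tt N10579 D20803) (tt N10563 (iv F39508)))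
theorem Q6651 : ∀ i, i < 6651 → P i := stepQ 6650 Q6650 (allL N6650 (tt N3966 F26918) (tt N3986 F34255) (tt N10579 (iv F39871)) (tt N8524 (iv F33269)) (tt N10574 (iv F39854)) (tt N3964 (iv D15505)) (tt N6639 F26919))
theorem Q6652 : ∀ i, i < 6652 → P i := stepQ 6651 Q6651 (allL N6651 (tt N10578 (iv F39867)) (tt N3969 F26920) (tt N10580 D20804) (tt N3965 (iv D15506)) (tt N10581 D20805) (tt N10582 D20806) (tt N10564 (iv F39510)))
theorem Q6653 : ∀ i, i < 6653 → P i := stepQ 6652 Q6652 (allL N6652 (tt N10579 (iv F39869)) (tt N4897 F26921) (tt N3966 F26922) (tt N10582 (iv F39875)) (tt N10576 (iv F39859)) (tt N3965 (iv D15507)) (tt N10583 D20807))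
theorem Q6654 : ∀ i, i < 6654 → P i := stepQ 6653 Q6653 (allL N6653 (tt N6639 F26923) (tt N6432 F39540) (tt N10583 (iv F39877)) (tt N10570 (iv F39525)) (tt N8491 (iv F33203)) (tt N6637 F26924) (tt N3966 (iv D15508)))
theorem Q6655 : ∀ i, i < 6655 → P i := stepQ 6654 Q6654 (allL N6654 (tt N8097 F32547) (tt N10575 (iv F39856)) (tt N4870 (iv F32605)) (tt N3967 (iv D15510)) (tt N10584 D20808) (tt N4891 (iv F32606)) (tt N4037 F26930))
theorem Q6656 : ∀ i, i < 6656 → P i := stepQ 6655 Q6655 (allL N6655 (tt N10585 D20809) (tt N3968 (iv D15511)) (tt N8098 F33043) (tt N10586 D20810) (tt N8096 (iv F33042)) (tt N10587 D20811) (tt N10588 D20812))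
theorem Q6657 : ∀ i, i < 6657 → P i := stepQ 6656 Q6656 (allL N6656 (tt N3969 F26931) (tt N10586 (iv F39887)) (tt N3999 F26934) (tt N3968 (iv D15512)) (tt N10589 D20813) (tt N4087 F26932) (tt N4040 F26933))
theorem Q6658 : ∀ i, i < 6658 → P i := stepQ 6657 Q6657 (allL N6657 (tt N3999 F26935) (tt N10590 D20814) (tt N3969 (iv D15513)) (tt N3998 F26936) (tt N10591 D20815) (tt N4086 F26937) (tt N4041 F26938))
theorem Q6659 : ∀ i, i < 6659 → P i := stepQ 6658 Q6658 (allL N6658 (tt N10589 (iv F39892)) (tt N10581 (iv F39873)) (tt N10591 (iv F39898)) (tt N10584 (iv F39881)) (tt N3969 (iv D15514)) (tt N4906 F26939) (tt N4042 F26940))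
theorem Q6660 : ∀ i, i < 6660 → P i := stepQ 6659 Q6659 (allL N6659 (tt N8440 (iv F35502)) (tt N3971 F26942) (tt N10592 D20816) (tt N3970 (iv D15516)) (tt N9357 (iv F36623)) (tt N10593 D20817) (tt N8436 F35501))
theorem Q6661 : ∀ i, i < 6661 → P i := stepQ 6660 Q6660 (allL N6660 (tt N6612 F34272) (tt N6874 (iv F33000)) (tt N3972 F26945) (tt N10593 (iv F39907)) (tt N5089 F34273) (tt N3970 (iv D15518)) (tt N5086 F34274))
theorem Q6662 : ∀ i, i < 6662 → P i := stepQ 6661 Q6661 (allL N6661 (tt N6661 F26948) (tt N9357 F36624) (tt N6661 F26949) (tt N6884 (iv F32995)) (tt N3971 (iv D15520)) (tt N6875 F32994) (tt N6661 F26950))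
theorem Q6663 : ∀ i, i < 6663 → P i := stepQ 6662 Q6662 (allL N6662 (tt N10594 D20818) (tt N3972 (iv D15534)) (tt N6817 F33002) (tt N6598 F26976) (tt N5097 F34279) (tt N3973 F26977) (tt N10595 D20819))
theorem Q6664 : ∀ i, i < 6664 → P i := stepQ 6663 Q6663 (allL N6663 (tt N3973 (iv D15537)) (tt N8480 (iv F35064)) (tt N6816 F33006) (tt N6601 F26983) (tt N6832 (iv F32955)) (tt N10594 (iv F39911)) (tt N10596 D20820))
theorem Q6665 : ∀ i, i < 6665 → P i := stepQ 6664 Q6664 (allL N6664 (tt N10596 (iv F39915)) (tt N4875 F26985) (tt N6815 F33009) (tt N6603 F26986) (tt N6829 (iv F32926)) (tt N10597 D20821) (tt N3973 (iv D15539)))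
theorem Q6666 : ∀ i, i < 6666 → P i := stepQ 6665 Q6665 (allL N6665 (tt N3974 (iv D15543)) (tt N4051 (iv F26993)) (tt N3974 F26992) (tt N6575 F26991) (tt N6668 F35436) (tt N10598 D20822) (tt N6666 (iv F35437)))
theorem Q6667 : ∀ i, i < 6667 → P i := stepQ 6666 Q6666 (allL N6666 (tt N6668 F35434) (tt N3976 F26996) (tt N6668 F35435) (tt N8462 F35438) (tt N3974 (iv D15544)) (tt N9899 (iv F37937)) (tt N6665 F35437))
theorem Q6668 : ∀ i, i < 6668 → P i := stepQ 6667 Q6667 (allL N6667 (tt N10598 (iv F39922)) (tt N5952 F35003) (tt N10598 (iv F39923)) (tt N6582 F26997) (tt N9899 (iv F37936)) (tt N3974 (iv D15545)) (tt N9899 (iv F37938)))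
theorem Q6669 : ∀ i, i < 6669 → P i := stepQ 6668 Q6668 (allL N6668 (tt N6666 (iv F35434)) (tt N5098 F34429) (tt N6666 (iv F35435)) (tt N5109 F34430) (tt N6665 (iv F35436)) (tt N10599 D20823) (tt N3974 (iv D15546)))
theorem Q6670 : ∀ i, i < 6670 → P i := stepQ 6669 Q6669 (allL N6669 (tt N3979 F26999) (tt N6581 F27000) (tt N3979 F27001) (tt N10600 D20824) (tt N3975 (iv D15547)) (tt N10601 D20825) (tt N5061 F34306))
theorem Q6671 : ∀ i, i < 6671 → P i := stepQ 6670 Q6670 (allL N6670 (tt N3980 F27002) (tt N8889 F34265) (tt N3980 F27003) (tt N3977 F27004) (tt N10601 (iv F39938)) (tt N3975 (iv D15548)) (tt N6677 (iv F27026)))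
theorem Q6672 : ∀ i, i < 6672 → P i := stepQ 6671 Q6671 (allL N6671 (tt N3982 F27008) (tt N8462 (iv F35439)) (tt N9017 (iv F35743)) (tt N3976 (iv D15550)) (tt N10600 (iv F39934)) (tt N10602 D20826) (tt N6792 (iv F35489)))
theorem Q6673 : ∀ i, i < 6673 → P i := stepQ 6672 Q6672 (allL N6672 (tt N3983 F27009) (tt N6142 F35002) (tt N4055 F27010) (tt N10602 (iv F39942)) (tt N3977 F27011) (tt N3976 (iv D15551)) (tt N6636 (iv F35010)))
theorem Q6674 : ∀ i, i < 6674 → P i := stepQ 6673 Q6673 (allL N6673 (tt N10600 (iv F39932)) (tt N3988 F27015) (tt N10603 D20827) (tt N3979 (iv D15555)) (tt N3982 F27016) (tt N10604 D20828) (tt N10605 D20829))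
theorem Q6675 : ∀ i, i < 6675 → P i := stepQ 6674 Q6674 (allL N6674 (tt N10601 (iv F39936)) (tt N10606 D20830) (tt N10601 (iv F39937)) (tt N10604 (iv F39947)) (tt N3980 F27017) (tt N3979 (iv D15556)) (tt N8407 F35492))
theorem Q6676 : ∀ i, i < 6676 → P i := stepQ 6675 Q6675 (allL N6675 (tt N5061 F34220) (tt N9920 (iv F37994)) (tt N5061 F34221) (tt N10605 (iv F39952)) (tt N3981 F27018) (tt N10607 D20831) (tt N3979 (iv D15557)))
theorem Q6677 : ∀ i, i < 6677 → P i := stepQ 6676 Q6676 (allL N6676 (tt N8501 F35057) (tt N3980 (iv D15558)) (tt N8890 (iv F35022)) (tt N3985 F27019) (tt N10606 (iv F39954)) (tt N3990 F27020) (tt N8892 (iv F35055)))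
theorem Q6678 : ∀ i, i < 6678 → P i := stepQ 6677 Q6677 (allL N6677 (tt N5157 (iv F34251)) (tt N10555 (iv F39476)) (tt N5157 (iv F34252)) (tt N3987 F27025) (tt N10607 (iv F39958)) (tt N3981 (iv D15560)) (tt N6670 F27026))
theorem Q6679 : ∀ i, i < 6679 → P i := stepQ 6678 Q6678 (allL N6678 (tt N9017 (iv F35742)) (tt N4972 F34168) (tt N3982 (iv D15561)) (tt N5378 F34169) (tt N10603 (iv F39945)) (tt N10608 D20832) (tt N5378 F34170))
theorem Q6680 : ∀ i, i < 6680 → P i := stepQ 6679 Q6679 (allL N6679 (tt N10602 (iv F39939)) (tt N10609 D20833) (tt N10608 (iv F39962)) (tt N3983 F27027) (tt N10604 (iv F39948)) (tt N3982 (iv D15562)) (tt N10610 D20834))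
theorem Q6681 : ∀ i, i < 6681 → P i := stepQ 6680 Q6680 (allL N6680 (tt N6792 F34171) (tt N5384 F34172) (tt N5378 F34173) (tt N3984 F27028) (tt N10605 (iv F39953)) (tt N10553 (iv F39471)) (tt N3982 (iv D15563)))
theorem Q6682 : ∀ i, i < 6682 → P i := stepQ 6681 Q6681 (allL N6681 (tt N10611 D20835) (tt N3983 (iv D15564)) (tt N10612 D20836) (tt N10609 (iv F39965)) (tt N3985 F27029) (tt N3993 F27030) (tt N10613 D20837))
theorem Q6683 : ∀ i, i < 6683 → P i := stepQ 6682 Q6682 (allL N6682 (tt N6636 (iv F35006)) (tt N10574 (iv F39853)) (tt N4058 (iv F34210)) (tt N10610 (iv F39969)) (tt N3986 F27032) (tt N4057 F34193) (tt N3983 (iv D15565)))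
theorem Q6684 : ∀ i, i < 6684 → P i := stepQ 6683 Q6683 (allL N6683 (tt N3985 (iv D15567)) (tt N10614 D20838) (tt N10615 D20839) (tt N8501 (iv F35058)) (tt N10611 (iv F39973)) (tt N3994 F27038) (tt N6697 (iv F27065)))
theorem Q6685 : ∀ i, i < 6685 → P i := stepQ 6684 Q6684 (allL N6684 (tt N10615 (iv F39990)) (tt N4062 F27039) (tt N3985 (iv D15568)) (tt N10616 D20840) (tt N10612 (iv F39977)) (tt N3995 F27040) (tt N10617 D20841))
theorem Q6686 : ∀ i, i < 6686 → P i := stepQ 6685 Q6685 (allL N6685 (tt N6697 (iv F27064)) (tt N6639 (iv F35059)) (tt N10617 (iv F39994)) (tt N8892 F35056) (tt N10613 (iv F39982)) (tt N6640 (iv F35050)) (tt N3985 (iv D15569)))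
theorem Q6687 : ∀ i, i < 6687 → P i := stepQ 6686 Q6686 (allL N6686 (tt N6599 F27041) (tt N10618 D20842) (tt N4885 F27042) (tt N3989 F27043) (tt N3992 F27044) (tt N3988 (iv D15572)) (tt N4885 F27045))
theorem Q6688 : ∀ i, i < 6688 → P i := stepQ 6687 Q6687 (allL N6687 (tt N8392 (iv F35063)) (tt N3989 (iv D15573)) (tt N10619 D20843) (tt N10618 (iv F39996)) (tt N3990 F27046) (tt N10606 (iv F39955)) (tt N10620 D20844))
theorem Q6689 : ∀ i, i < 6689 → P i := stepQ 6688 Q6688 (allL N6688 (tt N8500 (iv F35023)) (tt N5507 (iv F35027)) (tt N3990 (iv D15575)) (tt N8994 (iv F35677)) (tt N10619 (iv F39999)) (tt N8890 F35021) (tt N5510 (iv F35024)))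
theorem Q6690 : ∀ i, i < 6690 → P i := stepQ 6689 Q6689 (allL N6689 (tt N8495 (iv F35031)) (tt N4883 F27049) (tt N5510 F35030) (tt N3996 F27050) (tt N10620 (iv F40003)) (tt N10621 D20845) (tt N3990 (iv D15576)))
theorem Q6691 : ∀ i, i < 6691 → P i := stepQ 6690 Q6690 (allL N6690 (tt N10622 D20846) (tt N3992 (iv D15578)) (tt N10623 D20847) (tt N3993 F27052) (tt N10618 (iv F39997)) (tt N10609 (iv F39966)) (tt N8516 (iv F35493)))
theorem Q6692 : ∀ i, i < 6692 → P i := stepQ 6691 Q6691 (allL N6691 (tt N3993 (iv D15579)) (tt N8473 F35065) (tt N10624 D20848) (tt N10622 (iv F40009)) (tt N3994 F27053) (tt N10611 (iv F39974)) (tt N10561 (iv F39500)))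
theorem Q6693 : ∀ i, i < 6693 → P i := stepQ 6692 Q6692 (allL N6692 (tt N10624 (iv F40012)) (tt N3997 F27054) (tt N3993 (iv D15580)) (tt N10625 D20849) (tt N3995 F27055) (tt N10612 (iv F39978)) (tt N10626 D20850))
theorem Q6694 : ∀ i, i < 6694 → P i := stepQ 6693 Q6693 (allL N6693 (tt N10561 (iv F39498)) (tt N4851 F34301) (tt N10626 (iv F40016)) (tt N8516 F34302) (tt N3996 F27057) (tt N8483 F34303) (tt N3993 (iv D15581)))
theorem Q6695 : ∀ i, i < 6695 → P i := stepQ 6694 Q6694 (allL N6694 (tt N3995 F27058) (tt N10627 D20851) (tt N3994 (iv D15583)) (tt N10628 D20852) (tt N10624 (iv F40013)) (tt N10615 (iv F39991)) (tt N10566 (iv F39514)))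
theorem Q6696 : ∀ i, i < 6696 → P i := stepQ 6695 Q6695 (allL N6695 (tt N10628 (iv F40023)) (tt N3999 F27061) (tt N10629 D20853) (tt N3995 (iv D15585)) (tt N10630 D20854) (tt N10616 (iv F39993)) (tt N10631 D20855))
theorem Q6697 : ∀ i, i < 6697 → P i := stepQ 6696 Q6696 (allL N6696 (tt N10566 (iv F39512)) (tt N4917 F27062) (tt N3996 F27063) (tt N10631 (iv F40028)) (tt N10626 (iv F40017)) (tt N10632 D20856) (tt N3995 (iv D15586)))
theorem Q6698 : ∀ i, i < 6698 → P i := stepQ 6697 Q6697 (allL N6697 (tt N6685 F27064) (tt N6463 F39652) (tt N10632 (iv F40030)) (tt N10621 (iv F40006)) (tt N8483 (iv F35061)) (tt N3996 (iv D15587)) (tt N6683 F27065))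
theorem Q6699 : ∀ i, i < 6699 → P i := stepQ 6698 Q6698 (allL N6698 (tt N8053 F32707) (tt N10625 (iv F40014)) (tt N4841 F32708) (tt N3997 (iv D15589)) (tt N10633 D20857) (tt N4083 F27070) (tt N4912 (iv F32748)))
theorem Q6700 : ∀ i, i < 6700 → P i := stepQ 6699 Q6699 (allL N6699 (tt N10634 D20858) (tt N3998 (iv D15590)) (tt N8054 F33024) (tt N10590 (iv F39896)) (tt N8052 (iv F33023)) (tt N10635 D20859) (tt N10636 D20860))
theorem Q6701 : ∀ i, i < 6701 → P i := stepQ 6700 Q6700 (allL N6700 (tt N10591 (iv F39897)) (tt N10630 (iv F40026)) (tt N10589 (iv F39893)) (tt N10633 (iv F40034)) (tt N3999 (iv D15591)) (tt N4088 F27072) (tt N4925 F27073))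
theorem Q6702 : ∀ i, i < 6702 → P i := stepQ 6701 Q6701 (allL N6701 (tt N4000 (iv D15592)) (tt N4004 F27074) (tt N8441 (iv F32447)) (tt N4004 F27075) (tt N4104 F29087) (tt N4101 F29088) (tt N6866 F29089))
theorem Q6703 : ∀ i, i < 6703 → P i := stepQ 6702 Q6702 (allL N6702 (tt N8441 (iv F32450)) (tt N6702 F27076) (tt N4000 (iv D15593)) (tt N10637 D20861) (tt N4096 F29090) (tt N4092 F29091) (tt N10638 D20862))
theorem Q6704 : ∀ i, i < 6704 → P i := stepQ 6703 Q6703 (allL N6703 (tt N6866 F29092) (tt N10639 D20863) (tt N10638 (iv F40046)) (tt N4008 F27079) (tt N4106 F29093) (tt N6865 F29094) (tt N4000 (iv D15596)))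
theorem Q6705 : ∀ i, i < 6705 → P i := stepQ 6704 Q6704 (allL N6704 (tt N10640 D20864) (tt N4001 (iv D15601)) (tt N10641 D20865) (tt N4010 F27089) (tt N6705 F29184) (tt N10642 D20866) (tt N10639 (iv F40050)))
theorem Q6706 : ∀ i, i < 6706 → P i := stepQ 6705 Q6705 (allL N6705 (tt N10643 D20867) (tt N4003 (iv D15607)) (tt N10644 D20868) (tt N4015 F27103) (tt N6704 (iv F29184)) (tt N10645 D20869) (tt N6870 (iv F27465)))
theorem Q6707 : ∀ i, i < 6707 → P i := stepQ 6706 Q6706 (allL N6706 (tt N4008 F27107) (tt N9240 (iv F36315)) (tt N8443 (iv F33057)) (tt N6866 (iv F29177)) (tt N8445 (iv F33071)) (tt N6710 (iv F27117)) (tt N4004 (iv D15611)))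
theorem Q6708 : ∀ i, i < 6708 → P i := stepQ 6707 Q6707 (allL N6707 (tt N6558 F27108) (tt N6536 F27109) (tt N10646 D20870) (tt N4005 (iv D15612)) (tt N8350 (iv F32196)) (tt N8320 (iv F32070)) (tt N10647 D20871))
theorem Q6709 : ∀ i, i < 6709 → P i := stepQ 6708 Q6708 (allL N6708 (tt N8443 (iv F33056)) (tt N10648 D20872) (tt N4008 F27112) (tt N10647 (iv F40072)) (tt N5127 F29099) (tt N5118 (iv F29101)) (tt N4005 (iv D15615)))
theorem Q6710 : ∀ i, i < 6710 → P i := stepQ 6709 Q6709 (allL N6709 (tt N8445 (iv F33068)) (tt N10649 D20873) (tt N5127 (iv F29100)) (tt N5678 (iv F29110)) (tt N4008 F27115) (tt N5125 F29105) (tt N4006 (iv D15618)))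
theorem Q6711 : ∀ i, i < 6711 → P i := stepQ 6710 Q6710 (allL N6710 (tt N6712 (iv F27119)) (tt N10650 D20874) (tt N8473 (iv F33124)) (tt N4102 F29085) (tt N5677 F29086) (tt N6706 F27117) (tt N4007 (iv D15620)))
theorem Q6712 : ∀ i, i < 6712 → P i := stepQ 6711 Q6711 (allL N6711 (tt N10651 D20875) (tt N4008 (iv D15621)) (tt N9751 (iv F37651)) (tt N10639 (iv F40048)) (tt N10649 (iv F40082)) (tt N10652 D20876) (tt N4010 F27118))
theorem Q6713 : ∀ i, i < 6713 → P i := stepQ 6712 Q6712 (allL N6712 (tt N6710 F27119) (tt N9335 F36560) (tt N5118 F29102) (tt N6865 (iv F29109)) (tt N5125 (iv F29103)) (tt N4008 (iv D15622)) (tt N5117 (iv F29078)))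
theorem Q6714 : ∀ i, i < 6714 → P i := stepQ 6713 Q6713 (allL N6713 (tt N6746 F36523) (tt N4009 (iv D15627)) (tt N9722 (iv F37568)) (tt N6718 (iv F29183)) (tt N4010 F27127) (tt N6744 (iv F36522)) (tt N10649 (iv F40083)))
theorem Q6715 : ∀ i, i < 6715 → P i := stepQ 6714 Q6714 (allL N6714 (tt N4010 (iv D15631)) (tt N10653 D20877) (tt N9750 (iv F37646)) (tt N10640 (iv F40051)) (tt N6746 (iv F36529)) (tt N6736 F36528) (tt N10651 (iv F40090)))
theorem Q6716 : ∀ i, i < 6716 → P i := stepQ 6715 Q6715 (allL N6715 (tt N6736 (iv F36525)) (tt N6724 (iv F27149)) (tt N9200 F36204) (tt N10642 (iv F40053)) (tt N6744 F36524) (tt N4010 (iv D15633)) (tt N10654 D20878))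
theorem Q6717 : ∀ i, i < 6717 → P i := stepQ 6716 Q6716 (allL N6716 (tt N6631 (iv F29186)) (tt N8320 (iv F32067)) (tt N8884 (iv F34080)) (tt N4011 (iv D15635)) (tt N8374 (iv F32250)) (tt N6623 F29185) (tt N10557 (iv F39486)))
theorem Q6718 : ∀ i, i < 6718 → P i := stepQ 6717 Q6717 (allL N6717 (tt N10655 D20879) (tt N4012 (iv D15639)) (tt N7724 F39721) (tt N4014 F27137) (tt N4019 F29075) (tt N7728 F39728) (tt N4021 F27138))
theorem Q6719 : ∀ i, i < 6719 → P i := stepQ 6718 Q6718 (allL N6718 (tt N9341 (iv F36574)) (tt N4013 (iv D15641)) (tt N4065 F35005) (tt N6713 F29183) (tt N4015 F27142) (tt N9323 (iv F36517)) (tt N9268 (iv F36383)))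
theorem Q6720 : ∀ i, i < 6720 → P i := stepQ 6719 Q6719 (allL N6719 (tt N4014 (iv D15642)) (tt N10656 D20880) (tt N7933 F39715) (tt N10655 (iv F40097)) (tt N4016 F27143) (tt N5688 (iv F34932)) (tt N4022 F27144))
theorem Q6721 : ∀ i, i < 6721 → P i := stepQ 6720 Q6720 (allL N6720 (tt N7933 F39714) (tt N10559 (iv F39492)) (tt N4014 (iv D15643)) (tt N7932 (iv F39733)) (tt N4017 F27145) (tt N10405 F39732) (tt N4023 F27146))
theorem Q6722 : ∀ i, i < 6722 → P i := stepQ 6721 Q6721 (allL N6721 (tt N5688 (iv F34930)) (tt N7728 F39726) (tt N10405 (iv F39731)) (tt N7728 F39727) (tt N4018 F27147) (tt N4014 (iv D15644)) (tt N6738 (iv F27172)))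
theorem Q6723 : ∀ i, i < 6723 → P i := stepQ 6722 Q6722 (allL N6722 (tt N4015 (iv D15646)) (tt N10657 D20881) (tt N9300 (iv F36512)) (tt N10643 (iv F40057)) (tt N9341 (iv F36577)) (tt N9340 F36572) (tt N9270 (iv F36389)))
theorem Q6724 : ∀ i, i < 6724 → P i := stepQ 6723 Q6723 (allL N6723 (tt N9300 (iv F36496)) (tt N4060 F35014) (tt N4015 (iv D15647)) (tt N6789 (iv F35016)) (tt N4065 F35015) (tt N9320 (iv F36494)) (tt N9271 (iv F36391)))
theorem Q6725 : ∀ i, i < 6725 → P i := stepQ 6724 Q6724 (allL N6724 (tt N9340 (iv F36570)) (tt N6715 F27149) (tt N9320 (iv F36492)) (tt N10645 (iv F40063)) (tt N9323 (iv F36516)) (tt N4015 (iv D15648)) (tt N10658 D20882))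
theorem Q6726 : ∀ i, i < 6726 → P i := stepQ 6725 Q6725 (allL N6725 (tt N10659 D20883) (tt N4016 (iv D15649)) (tt N10660 D20884) (tt N9347 (iv F36591)) (tt N10656 (iv F40101)) (tt N9332 (iv F36548)) (tt N10661 D20885))
theorem Q6727 : ∀ i, i < 6727 → P i := stepQ 6726 Q6726 (allL N6726 (tt N4017 F27150) (tt N10662 D20886) (tt N4016 (iv D15650)) (tt N5421 F36122) (tt N7933 (iv F39713)) (tt N5426 F36123) (tt N4027 F27151))
theorem Q6728 : ∀ i, i < 6728 → P i := stepQ 6727 Q6727 (allL N6727 (tt N5421 F36114) (tt N10564 (iv F39509)) (tt N5420 F36115) (tt N4017 (iv D15651)) (tt N10663 D20887) (tt N5424 F36116) (tt N4029 F27152))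
theorem Q6729 : ∀ i, i < 6729 → P i := stepQ 6728 Q6728 (allL N6728 (tt N5426 F36119) (tt N10585 (iv F39884)) (tt N4018 F27153) (tt N5424 F36120) (tt N10405 (iv F39710)) (tt N4017 (iv D15652)) (tt N6750 (iv F27189)))
theorem Q6730 : ∀ i, i < 6730 → P i := stepQ 6729 Q6729 (allL N6729 (tt N10664 D20888) (tt N4018 (iv D15653)) (tt N7729 F39724) (tt N9351 (iv F36602)) (tt N7728 (iv F39725)) (tt N4019 F27154) (tt N10665 D20889))
theorem Q6731 : ∀ i, i < 6731 → P i := stepQ 6730 Q6730 (allL N6730 (tt N4019 (iv D15654)) (tt N10666 D20890) (tt N10667 D20891) (tt N9345 (iv F36587)) (tt N10655 (iv F40098)) (tt N10664 (iv F40122)) (tt N9343 F36583))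
theorem Q6732 : ∀ i, i < 6732 → P i := stepQ 6731 Q6731 (allL N6731 (tt N10667 (iv F40127)) (tt N10566 (iv F39513)) (tt N4019 (iv D15655)) (tt N10668 D20892) (tt N7724 F39722) (tt N7729 (iv F39723)) (tt N9348 (iv F36594)))
theorem Q6733 : ∀ i, i < 6733 → P i := stepQ 6732 Q6732 (allL N6732 (tt N10669 D20893) (tt N4020 (iv D15660)) (tt N10670 D20894) (tt N4025 F27163) (tt N5684 F27164) (tt N10671 D20895) (tt N10650 (iv F40089)))
theorem Q6734 : ∀ i, i < 6734 → P i := stepQ 6733 Q6733 (allL N6733 (tt N4021 (iv D15661)) (tt N10672 D20896) (tt N10673 D20897) (tt N4022 F27165) (tt N9343 (iv F36582)) (tt N10674 D20898) (tt N10655 (iv F40100)))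
theorem Q6735 : ∀ i, i < 6735 → P i := stepQ 6734 Q6734 (allL N6734 (tt N10673 (iv F40140)) (tt N10670 (iv F40132)) (tt N4021 (iv D15662)) (tt N7725 F39719) (tt N9348 (iv F36593)) (tt N10675 D20899) (tt N7724 (iv F39720)))
theorem Q6736 : ∀ i, i < 6736 → P i := stepQ 6735 Q6735 (allL N6735 (tt N10674 (iv F40143)) (tt N10671 (iv F40134)) (tt N10675 (iv F40149)) (tt N4024 F27166) (tt N9349 (iv F36597)) (tt N4021 (iv D15663)) (tt N6757 (iv F34929)))
theorem Q6737 : ∀ i, i < 6737 → P i := stepQ 6736 Q6736 (allL N6736 (tt N6715 F36525) (tt N4022 (iv D15664)) (tt N10415 F39140) (tt N10672 (iv F40137)) (tt N4026 F27167) (tt N6714 (iv F36528)) (tt N10652 (iv F40092)))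
theorem Q6738 : ∀ i, i < 6738 → P i := stepQ 6737 Q6737 (allL N6737 (tt N4023 F27168) (tt N10417 (iv F39145)) (tt N4022 (iv D15665)) (tt N7934 (iv F39718)) (tt N4027 F27169) (tt N10676 D20900) (tt N7933 F39717))
theorem Q6739 : ∀ i, i < 6739 → P i := stepQ 6738 Q6738 (allL N6738 (tt N4024 F27170) (tt N10677 D20901) (tt N10676 (iv F40153)) (tt N10674 (iv F40145)) (tt N4028 F27171) (tt N4022 (iv D15666)) (tt N6721 F27172))
theorem Q6740 : ∀ i, i < 6740 → P i := stepQ 6739 Q6739 (allL N6739 (tt N7934 F39701) (tt N4037 F27173) (tt N6501 F39702) (tt N4023 (iv D15667)) (tt N10678 D20902) (tt N6500 F39703) (tt N7932 F39704))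
theorem Q6741 : ∀ i, i < 6741 → P i := stepQ 6740 Q6740 (allL N6740 (tt N10676 (iv F40152)) (tt N8062 F33044) (tt N4024 F27174) (tt N6500 F39706) (tt N4030 F27175) (tt N4023 (iv D15668)) (tt N6499 (iv F39707)))
theorem Q6742 : ∀ i, i < 6742 → P i := stepQ 6741 Q6741 (allL N6741 (tt N10679 D20903) (tt N4024 (iv D15669)) (tt N6616 (iv F33045)) (tt N10671 (iv F40135)) (tt N4031 F27176) (tt N4025 F27177) (tt N9273 (iv F36394)))
theorem Q6743 : ∀ i, i < 6743 → P i := stepQ 6742 Q6742 (allL N6742 (tt N4025 (iv D15671)) (tt N10664 (iv F40119)) (tt N6615 (iv F33049)) (tt N10669 (iv F40129)) (tt N4033 F27181) (tt N10679 (iv F40165)) (tt N10680 D20904))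
theorem Q6744 : ∀ i, i < 6744 → P i := stepQ 6743 Q6743 (allL N6743 (tt N10680 (iv F40166)) (tt N4102 F27184) (tt N6614 (iv F33050)) (tt N10650 (iv F40086)) (tt N4035 F27185) (tt N10681 D20905) (tt N4025 (iv D15673)))
theorem Q6745 : ∀ i, i < 6745 → P i := stepQ 6744 Q6744 (allL N6744 (tt N4026 (iv D15674)) (tt N9323 (iv F36519)) (tt N9232 F36526) (tt N9323 (iv F36521)) (tt N6715 (iv F36524)) (tt N6713 F36522) (tt N10682 D20906))
theorem Q6746 : ∀ i, i < 6746 → P i := stepQ 6745 Q6745 (allL N6745 (tt N9232 (iv F36527)) (tt N6041 (iv F37575)) (tt N4026 (iv D15675)) (tt N6117 (iv F37576)) (tt N10415 (iv F39138)) (tt N9469 F37574) (tt N10683 D20907))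
theorem Q6747 : ∀ i, i < 6747 → P i := stepQ 6746 Q6746 (allL N6746 (tt N6713 (iv F36523)) (tt N10684 D20908) (tt N9469 F37573) (tt N9341 (iv F36576)) (tt N6714 F36529) (tt N4026 (iv D15676)) (tt N10685 D20909))
theorem Q6748 : ∀ i, i < 6748 → P i := stepQ 6747 Q6747 (allL N6747 (tt N10682 (iv F40178)) (tt N10661 (iv F40112)) (tt N10683 (iv F40180)) (tt N9342 (iv F36578)) (tt N10652 (iv F40091)) (tt N10649 F40084) (tt N4026 (iv D15677)))
theorem Q6749 : ∀ i, i < 6749 → P i := stepQ 6748 Q6748 (allL N6748 (tt N9759 (iv F37669)) (tt N4027 (iv D15678)) (tt N6041 F37577) (tt N10686 D20910) (tt N10417 (iv F39146)) (tt N6040 (iv F37578)) (tt N9757 (iv F37667)))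
theorem Q6750 : ∀ i, i < 6750 → P i := stepQ 6749 Q6749 (allL N6749 (tt N4029 F27186) (tt N10686 (iv F40189)) (tt N5422 F36110) (tt N4027 (iv D15679)) (tt N10687 D20911) (tt N8943 F36111) (tt N5421 F36112))
theorem Q6751 : ∀ i, i < 6751 → P i := stepQ 6750 Q6750 (allL N6750 (tt N4030 F27187) (tt N10688 D20912) (tt N4028 F27188) (tt N8943 (iv F36136)) (tt N10676 (iv F40155)) (tt N4027 (iv D15680)) (tt N6728 F27189))
theorem Q6752 : ∀ i, i < 6752 → P i := stepQ 6751 Q6751 (allL N6751 (tt N10689 D20913) (tt N4028 (iv D15681)) (tt N10690 D20914) (tt N9346 (iv F36590)) (tt N10677 (iv F40157)) (tt N10684 (iv F40183)) (tt N10691 D20915))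
theorem Q6753 : ∀ i, i < 6753 → P i := stepQ 6752 Q6752 (allL N6752 (tt N10687 (iv F40191)) (tt N4042 F27190) (tt N8668 (iv F36140)) (tt N10678 (iv F40161)) (tt N4029 (iv D15683)) (tt N8667 F36139) (tt N10663 (iv F40118)))
theorem Q6754 : ∀ i, i < 6754 → P i := stepQ 6753 Q6753 (allL N6753 (tt N9754 (iv F37658)) (tt N4030 (iv D15685)) (tt N8071 (iv F32508)) (tt N8944 (iv F36137)) (tt N8062 (iv F33046)) (tt N4044 F27192) (tt N10692 D20916))
theorem Q6755 : ∀ i, i < 6755 → P i := stepQ 6754 Q6754 (allL N6754 (tt N4031 (iv D15687)) (tt N10693 D20917) (tt N10562 (iv F39506)) (tt N5690 F27196) (tt N10679 (iv F40164)) (tt N4033 F27197) (tt N6760 (iv F27209)))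
theorem Q6756 : ∀ i, i < 6756 → P i := stepQ 6755 Q6755 (allL N6755 (tt N10562 (iv F39501)) (tt N8071 (iv F32507)) (tt N4031 (iv D15688)) (tt N8472 (iv F33121)) (tt N6616 F32494) (tt N4034 F27198) (tt N10694 D20918))
theorem Q6757 : ∀ i, i < 6757 → P i := stepQ 6756 Q6756 (allL N6756 (tt N6760 (iv F27207)) (tt N9269 F36388) (tt N10694 (iv F40205)) (tt N5693 F27199) (tt N9273 (iv F36393)) (tt N6759 (iv F27204)) (tt N4031 (iv D15689)))
theorem Q6758 : ∀ i, i < 6758 → P i := stepQ 6757 Q6757 (allL N6757 (tt N7728 F39729) (tt N4033 (iv D15691)) (tt N7726 (iv F39730)) (tt N5688 F27200) (tt N10664 (iv F40121)) (tt N10655 (iv F40099)) (tt N6735 F34929))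
theorem Q6759 : ∀ i, i < 6759 → P i := stepQ 6758 Q6758 (allL N6758 (tt N4034 F27201) (tt N10334 F39734) (tt N4033 (iv D15692)) (tt N8469 (iv F33116)) (tt N6615 F32493) (tt N10562 F39505) (tt N8450 (iv F33087)))
theorem Q6760 : ∀ i, i < 6760 → P i := stepQ 6759 Q6759 (allL N6759 (tt N4035 F27202) (tt N10695 D20919) (tt N8450 (iv F33085)) (tt N5681 F27203) (tt N10680 (iv F40170)) (tt N6756 F27204) (tt N4033 (iv D15693)))
theorem Q6761 : ∀ i, i < 6761 → P i := stepQ 6760 Q6760 (allL N6760 (tt N6756 F27207) (tt N5729 (iv F34928)) (tt N8449 F33084) (tt N5683 F27208) (tt N10681 (iv F40175)) (tt N4035 (iv D15696)) (tt N6754 F27209))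
theorem Q6762 : ∀ i, i < 6762 → P i := stepQ 6761 Q6761 (allL N6761 (tt N10696 D20920) (tt N4036 (iv D15697)) (tt N9202 (iv F36207)) (tt N10697 D20921) (tt N4039 F27210) (tt N10698 D20922) (tt N10699 D20923))
theorem Q6763 : ∀ i, i < 6763 → P i := stepQ 6762 Q6762 (allL N6762 (tt N4037 F27211) (tt N10697 (iv F40216)) (tt N6836 (iv F27367)) (tt N4036 (iv D15698)) (tt N10700 D20924) (tt N8059 (iv F32690)) (tt N8097 F33028))
theorem Q6764 : ∀ i, i < 6764 → P i := stepQ 6763 Q6763 (allL N6763 (tt N10700 (iv F40219)) (tt N10678 (iv F40159)) (tt N6837 (iv F27368)) (tt N4042 F27212) (tt N4037 (iv D15699)) (tt N8064 F33037) (tt N10584 (iv F39883)))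
theorem Q6765 : ∀ i, i < 6765 → P i := stepQ 6764 Q6764 (allL N6764 (tt N10701 D20925) (tt N4038 (iv D15704)) (tt N4039 F27219) (tt N10702 D20926) (tt N9202 (iv F36208)) (tt N10703 D20927) (tt N10704 D20928))
theorem Q6766 : ∀ i, i < 6766 → P i := stepQ 6765 Q6765 (allL N6765 (tt N6891 (iv F34974)) (tt N10702 (iv F40222)) (tt N6839 (iv F27378)) (tt N4038 (iv D15705)) (tt N10705 D20929) (tt N9203 (iv F36211)) (tt N5699 F27220))
theorem Q6767 : ∀ i, i < 6767 → P i := stepQ 6766 Q6766 (allL N6766 (tt N4039 (iv D15706)) (tt N10706 D20930) (tt N10701 (iv F40221)) (tt N10707 D20931) (tt N10696 (iv F40215)) (tt N10708 D20932) (tt N10709 D20933))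
theorem Q6768 : ∀ i, i < 6768 → P i := stepQ 6767 Q6767 (allL N6767 (tt N10707 (iv F40230)) (tt N4040 F27221) (tt N10378 (iv F39837)) (tt N4039 (iv D15707)) (tt N10710 D20934) (tt N10377 F39838) (tt N10711 D20935))
theorem Q6769 : ∀ i, i < 6769 → P i := stepQ 6768 Q6768 (allL N6768 (tt N10708 (iv F40231)) (tt N8172 (iv F30885)) (tt N10703 (iv F40224)) (tt N10377 (iv F39839)) (tt N10698 (iv F40217)) (tt N4039 (iv D15708)) (tt N10712 D20936))
theorem Q6770 : ∀ i, i < 6770 → P i := stepQ 6769 Q6769 (allL N6769 (tt N10709 (iv F40232)) (tt N10588 (iv F39891)) (tt N10704 (iv F40228)) (tt N10711 (iv F40234)) (tt N10699 (iv F40218)) (tt N10713 D20937) (tt N4039 (iv D15709)))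
theorem Q6771 : ∀ i, i < 6771 → P i := stepQ 6770 Q6770 (allL N6770 (tt N4042 F27222) (tt N10710 (iv F40233)) (tt N4925 F27223) (tt N10700 (iv F40220)) (tt N4040 (iv D15710)) (tt N8170 F30883) (tt N10589 (iv F39895)))
theorem Q6772 : ∀ i, i < 6772 → P i := stepQ 6771 Q6771 (allL N6771 (tt N10714 D20938) (tt N4041 (iv D15711)) (tt N8945 (iv F36108)) (tt N4924 F27224) (tt N10715 D20939) (tt N10716 D20940) (tt N9181 F36107))
theorem Q6773 : ∀ i, i < 6773 → P i := stepQ 6772 Q6772 (allL N6772 (tt N4925 F27225) (tt N10715 (iv F40243)) (tt N4042 F27226) (tt N10717 D20941) (tt N4041 (iv D15712)) (tt N6847 F27388) (tt N10591 (iv F39900)))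
theorem Q6774 : ∀ i, i < 6774 → P i := stepQ 6773 Q6773 (allL N6773 (tt N8170 (iv F30881)) (tt N10718 D20942) (tt N6847 (iv F27386)) (tt N8064 (iv F33038)) (tt N4043 F27227) (tt N4042 (iv D15713)) (tt N6846 (iv F27385)))
theorem Q6775 : ∀ i, i < 6775 → P i := stepQ 6774 Q6774 (allL N6774 (tt N10719 D20943) (tt N4043 (iv D15714)) (tt N10720 D20944) (tt N4044 F27228) (tt N10718 (iv F40252)) (tt N8944 F36138) (tt N10721 D20945))
theorem Q6776 : ∀ i, i < 6776 → P i := stepQ 6775 Q6775 (allL N6775 (tt N4044 (iv D15715)) (tt N8485 F35378) (tt N8067 (iv F32509)) (tt N10719 (iv F40253)) (tt N8060 F33047) (tt N9754 (iv F37660)) (tt N10722 D20946))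
theorem Q6777 : ∀ i, i < 6777 → P i := stepQ 6776 Q6776 (allL N6776 (tt N10722 (iv F40259)) (tt N8169 (iv F30880)) (tt N8072 (iv F32511)) (tt N10721 (iv F40258)) (tt N8063 F33048) (tt N10723 D20947) (tt N4044 (iv D15716)))
theorem Q6778 : ∀ i, i < 6778 → P i := stepQ 6777 Q6777 (allL N6777 (tt N4046 (iv D15720)) (tt N4050 F27232) (tt N8442 F35085) (tt N4050 F27233) (tt N4121 F34350) (tt N6887 F34351) (tt N4117 F34352))
theorem Q6779 : ∀ i, i < 6779 → P i := stepQ 6778 Q6778 (allL N6778 (tt N8442 F35084) (tt N6778 F27234) (tt N4046 (iv D15721)) (tt N10724 D20948) (tt N4113 F34360) (tt N10725 D20949) (tt N4108 F34361))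
theorem Q6780 : ∀ i, i < 6780 → P i := stepQ 6779 Q6779 (allL N6779 (tt N6887 F34362) (tt N10726 D20950) (tt N10725 (iv F40266)) (tt N4053 F27236) (tt N4123 F34363) (tt N4046 (iv D15723)) (tt N6886 F34364))
theorem Q6781 : ∀ i, i < 6781 → P i := stepQ 6780 Q6780 (allL N6780 (tt N10727 D20951) (tt N4047 (iv D15728)) (tt N10712 (iv F40236)) (tt N4056 F27246) (tt N6781 (iv F35017)) (tt N10726 (iv F40270)) (tt N10703 F40226))
theorem Q6782 : ∀ i, i < 6782 → P i := stepQ 6781 Q6781 (allL N6781 (tt N10728 D20952) (tt N4049 (iv D15736)) (tt N10729 D20953) (tt N4065 F27262) (tt N6780 F35017) (tt N6892 (iv F27524)) (tt N10730 D20954))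
theorem Q6783 : ∀ i, i < 6783 → P i := stepQ 6782 Q6782 (allL N6782 (tt N4053 F27264) (tt N9204 (iv F36213)) (tt N8444 F35486) (tt N6887 F35487) (tt N8448 (iv F35485)) (tt N4050 (iv D15738)) (tt N6788 (iv F27278)))
theorem Q6784 : ∀ i, i < 6784 → P i := stepQ 6783 Q6783 (allL N6783 (tt N6597 F27266) (tt N6575 F27267) (tt N10731 D20955) (tt N4051 (iv D15740)) (tt N8354 (iv F35490)) (tt N10732 D20956) (tt N8323 F35488))
theorem Q6785 : ∀ i, i < 6785 → P i := stepQ 6784 Q6784 (allL N6784 (tt N8444 F34355) (tt N10733 D20957) (tt N4053 F27269) (tt N10732 (iv F40294)) (tt N5134 F34356) (tt N4051 (iv D15742)) (tt N5122 F34357))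
theorem Q6786 : ∀ i, i < 6786 → P i := stepQ 6785 Q6785 (allL N6785 (tt N8448 F34258) (tt N10734 D20958) (tt N5134 F34259) (tt N5717 F34260) (tt N4053 F27272) (tt N4052 (iv D15745)) (tt N5132 F34261))
theorem Q6787 : ∀ i, i < 6787 → P i := stepQ 6786 Q6786 (allL N6786 (tt N10735 D20959) (tt N4053 (iv D15747)) (tt N9731 (iv F37605)) (tt N10726 (iv F40268)) (tt N10734 (iv F40304)) (tt N4056 F27274) (tt N10736 D20960))
theorem Q6788 : ∀ i, i < 6788 → P i := stepQ 6787 Q6787 (allL N6787 (tt N6788 (iv F27277)) (tt N9288 (iv F36488)) (tt N5122 F34431) (tt N6886 F34432) (tt N5132 F34433) (tt N5121 F34434) (tt N4053 (iv D15748)))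
theorem Q6789 : ∀ i, i < 6789 → P i := stepQ 6788 Q6788 (allL N6788 (tt N6787 F27277) (tt N10737 D20961) (tt N8476 F34367) (tt N4118 F34368) (tt N5716 F34369) (tt N4054 (iv D15750)) (tt N6782 F27278))
theorem Q6790 : ∀ i, i < 6790 → P i := stepQ 6789 Q6789 (allL N6789 (tt N6821 F36501) (tt N4055 (iv D15754)) (tt N9714 (iv F37536)) (tt N6723 F35016) (tt N4056 F27284) (tt N10734 (iv F40305)) (tt N6818 (iv F36500)))
theorem Q6791 : ∀ i, i < 6791 → P i := stepQ 6790 Q6790 (allL N6790 (tt N4056 (iv D15756)) (tt N10738 D20962) (tt N9730 (iv F37600)) (tt N10727 (iv F40275)) (tt N6821 (iv F36508)) (tt N10735 (iv F40308)) (tt N6810 F36507))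
theorem Q6792 : ∀ i, i < 6792 → P i := stepQ 6791 Q6791 (allL N6791 (tt N6810 (iv F36503)) (tt N6805 (iv F27310)) (tt N9236 F36306) (tt N10703 (iv F40225)) (tt N6818 F36502) (tt N10702 F40223) (tt N4056 (iv D15758)))
theorem Q6793 : ∀ i, i < 6793 → P i := stepQ 6792 Q6792 (allL N6792 (tt N6680 (iv F34171)) (tt N8323 F32115) (tt N8886 F34166) (tt N4057 (iv D15763)) (tt N8381 (iv F32273)) (tt N10610 (iv F39970)) (tt N6671 F35489))
theorem Q6794 : ∀ i, i < 6794 → P i := stepQ 6793 Q6793 (allL N6793 (tt N10739 D20963) (tt N4058 (iv D15766)) (tt N7886 F39765) (tt N4059 F27290) (tt N4064 F34250) (tt N4067 F27291) (tt N7890 F39772))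
theorem Q6795 : ∀ i, i < 6795 → P i := stepQ 6794 Q6794 (allL N6794 (tt N4059 (iv D15769)) (tt N10740 D20964) (tt N7779 F39759) (tt N10739 (iv F40319)) (tt N4061 F27297) (tt N4068 F27298) (tt N5723 (iv F34969)))
theorem Q6796 : ∀ i, i < 6796 → P i := stepQ 6795 Q6795 (allL N6795 (tt N7779 F39758) (tt N10612 (iv F39976)) (tt N4059 (iv D15770)) (tt N7778 (iv F39777)) (tt N4062 F27299) (tt N4069 F27300) (tt N10439 F39776))
theorem Q6797 : ∀ i, i < 6797 → P i := stepQ 6796 Q6796 (allL N6796 (tt N5723 (iv F34966)) (tt N7890 F39770) (tt N10439 (iv F39775)) (tt N7890 F39771) (tt N4063 F27301) (tt N6812 (iv F27327)) (tt N4059 (iv D15771)))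
theorem Q6798 : ∀ i, i < 6798 → P i := stepQ 6797 Q6797 (allL N6797 (tt N10741 D20965) (tt N4061 (iv D15774)) (tt N10742 D20966) (tt N9304 (iv F36452)) (tt N10740 (iv F40323)) (tt N10743 D20967) (tt N9285 (iv F36412)))
theorem Q6799 : ∀ i, i < 6799 → P i := stepQ 6798 Q6798 (allL N6798 (tt N4062 F27304) (tt N10744 D20968) (tt N4061 (iv D15775)) (tt N5405 F35977) (tt N7779 (iv F39757)) (tt N4073 F27305) (tt N5410 F35978))
theorem Q6800 : ∀ i, i < 6800 → P i := stepQ 6799 Q6799 (allL N6799 (tt N5405 F35968) (tt N10616 (iv F39992)) (tt N5404 F35969) (tt N4062 (iv D15776)) (tt N10745 D20969) (tt N4075 F27306) (tt N5408 F35970))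
theorem Q6801 : ∀ i, i < 6801 → P i := stepQ 6800 Q6800 (allL N6800 (tt N5410 F35974) (tt N10634 (iv F40037)) (tt N4063 F27307) (tt N5408 F35975) (tt N10439 (iv F39754)) (tt N6824 (iv F27344)) (tt N4062 (iv D15777)))
theorem Q6802 : ∀ i, i < 6802 → P i := stepQ 6801 Q6801 (allL N6801 (tt N10746 D20970) (tt N4063 (iv D15778)) (tt N7891 F39768) (tt N9308 (iv F36459)) (tt N7890 (iv F39769)) (tt N10747 D20971) (tt N4064 F27308))
theorem Q6803 : ∀ i, i < 6803 → P i := stepQ 6802 Q6802 (allL N6802 (tt N4064 (iv D15779)) (tt N10748 D20972) (tt N10749 D20973) (tt N9302 (iv F36448)) (tt N10739 (iv F40320)) (tt N9301 F36446) (tt N10746 (iv F40339)))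
theorem Q6804 : ∀ i, i < 6804 → P i := stepQ 6803 Q6803 (allL N6803 (tt N10749 (iv F40344)) (tt N10579 (iv F39870)) (tt N4064 (iv D15780)) (tt N10750 D20974) (tt N7886 F39766) (tt N9306 (iv F36455)) (tt N7891 (iv F39767)))
theorem Q6805 : ∀ i, i < 6805 → P i := stepQ 6804 Q6804 (allL N6804 (tt N4065 (iv D15782)) (tt N10751 D20975) (tt N9341 (iv F36575)) (tt N10728 (iv F40277)) (tt N9300 F36510) (tt N9322 (iv F36515)) (tt N9298 (iv F36509)))
theorem Q6806 : ∀ i, i < 6806 → P i := stepQ 6805 Q6805 (allL N6805 (tt N9298 F36506) (tt N6791 F27310) (tt N9268 (iv F36381)) (tt N10730 (iv F40285)) (tt N9271 (iv F36390)) (tt N10752 D20976) (tt N4065 (iv D15784)))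
theorem Q6807 : ∀ i, i < 6807 → P i := stepQ 6806 Q6806 (allL N6806 (tt N10753 D20977) (tt N4066 (iv D15788)) (tt N10754 D20978) (tt N4071 F27318) (tt N5720 F27319) (tt N10737 (iv F40317)) (tt N10755 D20979))
theorem Q6808 : ∀ i, i < 6808 → P i := stepQ 6807 Q6807 (allL N6807 (tt N4067 (iv D15789)) (tt N10756 D20980) (tt N10757 D20981) (tt N4068 F27320) (tt N9301 (iv F36445)) (tt N10739 (iv F40321)) (tt N10758 D20982))
theorem Q6809 : ∀ i, i < 6809 → P i := stepQ 6808 Q6808 (allL N6808 (tt N10757 (iv F40364)) (tt N10754 (iv F40354)) (tt N4067 (iv D15790)) (tt N7887 F39763) (tt N9306 (iv F36454)) (tt N7886 (iv F39764)) (tt N10759 D20983))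
theorem Q6810 : ∀ i, i < 6810 → P i := stepQ 6809 Q6809 (allL N6809 (tt N10758 (iv F40367)) (tt N10755 (iv F40356)) (tt N10759 (iv F40373)) (tt N4070 F27321) (tt N9307 (iv F36457)) (tt N6831 F34970) (tt N4067 (iv D15791)))
theorem Q6811 : ∀ i, i < 6811 → P i := stepQ 6810 Q6810 (allL N6810 (tt N6791 F36503) (tt N4068 (iv D15792)) (tt N10381 F39062) (tt N10756 (iv F40359)) (tt N4072 F27322) (tt N10736 (iv F40313)) (tt N6790 (iv F36507)))
theorem Q6812 : ∀ i, i < 6812 → P i := stepQ 6811 Q6811 (allL N6811 (tt N4069 F27323) (tt N10383 (iv F39067)) (tt N4068 (iv D15793)) (tt N7780 (iv F39762)) (tt N4073 F27324) (tt N7779 F39761) (tt N10760 D20984))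
theorem Q6813 : ∀ i, i < 6813 → P i := stepQ 6812 Q6812 (allL N6812 (tt N4070 F27325) (tt N10761 D20985) (tt N10760 (iv F40377)) (tt N10758 (iv F40369)) (tt N4074 F27326) (tt N6796 F27327) (tt N4068 (iv D15794)))
theorem Q6814 : ∀ i, i < 6814 → P i := stepQ 6813 Q6813 (allL N6813 (tt N7780 F39745) (tt N4083 F27328) (tt N6534 F39746) (tt N4069 (iv D15795)) (tt N10762 D20986) (tt N7778 F39747) (tt N6533 F39748))
theorem Q6815 : ∀ i, i < 6815 → P i := stepQ 6814 Q6814 (allL N6814 (tt N10760 (iv F40376)) (tt N8107 F33010) (tt N4070 F27329) (tt N6533 F39750) (tt N4076 F27330) (tt N6532 (iv F39751)) (tt N4069 (iv D15796)))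
theorem Q6816 : ∀ i, i < 6816 → P i := stepQ 6815 Q6815 (allL N6815 (tt N10763 D20987) (tt N4070 (iv D15797)) (tt N6664 (iv F33009)) (tt N10755 (iv F40357)) (tt N4077 F27331) (tt N9321 (iv F36514)) (tt N4071 F27332))
theorem Q6817 : ∀ i, i < 6817 → P i := stepQ 6816 Q6816 (allL N6816 (tt N4071 (iv D15799)) (tt N10746 (iv F40336)) (tt N6663 (iv F33006)) (tt N10753 (iv F40351)) (tt N4079 F27336) (tt N10764 D20988) (tt N10763 (iv F40389)))
theorem Q6818 : ∀ i, i < 6818 → P i := stepQ 6817 Q6817 (allL N6817 (tt N10764 (iv F40390)) (tt N4118 F27339) (tt N6662 (iv F33002)) (tt N10737 (iv F40315)) (tt N4081 F27340) (tt N4071 (iv D15801)) (tt N10765 D20989))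
theorem Q6819 : ∀ i, i < 6819 → P i := stepQ 6818 Q6818 (allL N6818 (tt N4072 (iv D15802)) (tt N9271 (iv F36498)) (tt N9194 F36504) (tt N9271 (iv F36499)) (tt N6791 (iv F36502)) (tt N10766 D20990) (tt N6789 F36500))
theorem Q6820 : ∀ i, i < 6820 → P i := stepQ 6819 Q6819 (allL N6819 (tt N9194 (iv F36505)) (tt N6025 (iv F37543)) (tt N4072 (iv D15803)) (tt N6079 (iv F37544)) (tt N10381 (iv F39060)) (tt N10767 D20991) (tt N9474 F37542))
theorem Q6821 : ∀ i, i < 6821 → P i := stepQ 6820 Q6820 (allL N6820 (tt N10766 (iv F40402)) (tt N10743 (iv F40329)) (tt N10767 (iv F40405)) (tt N9299 (iv F36442)) (tt N10736 (iv F40312)) (tt N4072 (iv D15804)) (tt N10734 (iv F40306)))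
theorem Q6822 : ∀ i, i < 6822 → P i := stepQ 6821 Q6821 (allL N6821 (tt N6789 (iv F36501)) (tt N10768 D20992) (tt N9474 F37541) (tt N9300 (iv F36443)) (tt N6790 F36508) (tt N10769 D20993) (tt N4072 (iv D15805)))
theorem Q6823 : ∀ i, i < 6823 → P i := stepQ 6822 Q6822 (allL N6822 (tt N9739 (iv F37622)) (tt N4073 (iv D15806)) (tt N6025 F37545) (tt N10770 D20994) (tt N10383 (iv F39068)) (tt N9737 (iv F37619)) (tt N6024 (iv F37546)))
theorem Q6824 : ∀ i, i < 6824 → P i := stepQ 6823 Q6823 (allL N6823 (tt N4075 F27341) (tt N10770 (iv F40417)) (tt N5406 F35965) (tt N4073 (iv D15807)) (tt N10771 D20995) (tt N5405 F35966) (tt N8927 F35967))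
theorem Q6825 : ∀ i, i < 6825 → P i := stepQ 6824 Q6824 (allL N6824 (tt N4076 F27342) (tt N10772 D20996) (tt N4074 F27343) (tt N8927 (iv F35991)) (tt N10760 (iv F40379)) (tt N6800 F27344) (tt N4073 (iv D15808)))
theorem Q6826 : ∀ i, i < 6826 → P i := stepQ 6825 Q6825 (allL N6825 (tt N10773 D20997) (tt N4074 (iv D15809)) (tt N10774 D20998) (tt N9305 (iv F36453)) (tt N10761 (iv F40381)) (tt N10775 D20999) (tt N10768 (iv F40408)))
theorem Q6827 : ∀ i, i < 6827 → P i := stepQ 6826 Q6826 (allL N6826 (tt N10771 (iv F40419)) (tt N4088 F27345) (tt N8652 (iv F35995)) (tt N10762 (iv F40385)) (tt N4075 (iv D15811)) (tt N10745 (iv F40334)) (tt N8651 F35994))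
theorem Q6828 : ∀ i, i < 6828 → P i := stepQ 6827 Q6827 (allL N6827 (tt N9734 (iv F37612)) (tt N4076 (iv D15813)) (tt N8116 (iv F32893)) (tt N8928 (iv F35992)) (tt N8107 (iv F33011)) (tt N10776 D21000) (tt N4090 F27347))
theorem Q6829 : ∀ i, i < 6829 → P i := stepQ 6828 Q6828 (allL N6828 (tt N4077 (iv D15815)) (tt N10777 D21001) (tt N10614 F39989) (tt N5725 F27351) (tt N10763 (iv F40388)) (tt N6834 (iv F27364)) (tt N4079 F27352))
theorem Q6830 : ∀ i, i < 6830 → P i := stepQ 6829 Q6829 (allL N6829 (tt N10614 (iv F39984)) (tt N8116 F32925) (tt N4077 (iv D15816)) (tt N8461 (iv F35504)) (tt N6664 F32926) (tt N10778 D21002) (tt N4080 F27353))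
theorem Q6831 : ∀ i, i < 6831 → P i := stepQ 6830 Q6830 (allL N6830 (tt N6834 (iv F27362)) (tt N9274 F36399) (tt N10778 (iv F40433)) (tt N5728 F27354) (tt N9321 (iv F36513)) (tt N4077 (iv D15817)) (tt N6833 (iv F27359)))
theorem Q6832 : ∀ i, i < 6832 → P i := stepQ 6831 Q6831 (allL N6831 (tt N7890 (iv F39773)) (tt N4079 (iv D15819)) (tt N7888 F39774) (tt N5723 F27355) (tt N10746 (iv F40338)) (tt N6809 (iv F34970)) (tt N10739 (iv F40322)))
theorem Q6833 : ∀ i, i < 6833 → P i := stepQ 6832 Q6832 (allL N6832 (tt N4080 F27356) (tt N10369 (iv F39778)) (tt N4079 (iv D15820)) (tt N8458 (iv F35496)) (tt N6663 F32955) (tt N8447 F35495) (tt N10614 (iv F39988)))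
theorem Q6834 : ∀ i, i < 6834 → P i := stepQ 6833 Q6833 (allL N6833 (tt N4081 F27357) (tt N10779 D21003) (tt N8447 (iv F35494)) (tt N5718 F27358) (tt N10764 (iv F40394)) (tt N4079 (iv D15821)) (tt N6830 F27359))
theorem Q6835 : ∀ i, i < 6835 → P i := stepQ 6834 Q6834 (allL N6834 (tt N6830 F27362) (tt N5694 (iv F34978)) (tt N8446 F34980) (tt N5686 (iv F34947)) (tt N10765 (iv F40399)) (tt N6828 F27364) (tt N4081 (iv D15824)))
theorem Q6836 : ∀ i, i < 6836 → P i := stepQ 6835 Q6835 (allL N6835 (tt N10780 D21004) (tt N4082 (iv D15825)) (tt N9238 (iv F36309)) (tt N10781 D21005) (tt N4085 F27365) (tt N10782 D21006) (tt N10783 D21007))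
theorem Q6837 : ∀ i, i < 6837 → P i := stepQ 6836 Q6836 (allL N6836 (tt N4083 F27366) (tt N10781 (iv F40444)) (tt N6762 F27367) (tt N4082 (iv D15826)) (tt N10784 D21008) (tt N8053 F33025) (tt N8103 (iv F32688)))
theorem Q6838 : ∀ i, i < 6838 → P i := stepQ 6837 Q6837 (allL N6837 (tt N10784 (iv F40449)) (tt N10762 (iv F40383)) (tt N6763 F27368) (tt N4088 F27369) (tt N4083 (iv D15827)) (tt N10633 (iv F40035)) (tt N8108 F33027))
theorem Q6839 : ∀ i, i < 6839 → P i := stepQ 6838 Q6838 (allL N6838 (tt N10785 D21009) (tt N4084 (iv D15832)) (tt N4085 F27376) (tt N10654 (iv F40094)) (tt N9238 (iv F36310)) (tt N10786 D21010) (tt N10642 F40054))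
theorem Q6840 : ∀ i, i < 6840 → P i := stepQ 6839 Q6839 (allL N6839 (tt N6871 (iv F34924)) (tt N10654 F40096) (tt N6765 F27378) (tt N4084 (iv D15833)) (tt N10787 D21011) (tt N5732 F27377) (tt N9239 (iv F36314)))
theorem Q6841 : ∀ i, i < 6841 → P i := stepQ 6840 Q6840 (allL N6840 (tt N4085 (iv D15834)) (tt N10788 D21012) (tt N10785 (iv F40452)) (tt N10789 D21013) (tt N10780 (iv F40443)) (tt N10790 D21014) (tt N10791 D21015))
theorem Q6842 : ∀ i, i < 6842 → P i := stepQ 6841 Q6841 (allL N6841 (tt N10789 (iv F40464)) (tt N4086 F27379) (tt N10412 (iv F39693)) (tt N4085 (iv D15835)) (tt N10792 D21016) (tt N10793 D21017) (tt N10411 F39694))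
theorem Q6843 : ∀ i, i < 6843 → P i := stepQ 6842 Q6842 (allL N6842 (tt N10790 (iv F40465)) (tt N10635 (iv F40039)) (tt N10786 (iv F40458)) (tt N10793 (iv F40471)) (tt N10782 (iv F40445)) (tt N4085 (iv D15836)) (tt N10794 D21018))
theorem Q6844 : ∀ i, i < 6844 → P i := stepQ 6843 Q6843 (allL N6843 (tt N10791 (iv F40468)) (tt N8202 (iv F31115)) (tt N10642 (iv F40055)) (tt N10411 (iv F39695)) (tt N10783 (iv F40447)) (tt N10641 F40056) (tt N4085 (iv D15837)))
theorem Q6845 : ∀ i, i < 6845 → P i := stepQ 6844 Q6844 (allL N6844 (tt N4088 F27380) (tt N10792 (iv F40470)) (tt N4906 F27381) (tt N10784 (iv F40451)) (tt N4086 (iv D15838)) (tt N10591 (iv F39899)) (tt N8200 (iv F31113)))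
theorem Q6846 : ∀ i, i < 6846 → P i := stepQ 6845 Q6845 (allL N6845 (tt N10795 D21019) (tt N4087 (iv D15839)) (tt N8929 (iv F35963)) (tt N4905 F27382) (tt N10796 D21020) (tt N9127 F35962) (tt N10797 D21021))
theorem Q6847 : ∀ i, i < 6847 → P i := stepQ 6846 Q6846 (allL N6846 (tt N4906 F27383) (tt N10796 (iv F40478)) (tt N4088 F27384) (tt N10798 D21022) (tt N4087 (iv D15840)) (tt N10589 (iv F39894)) (tt N6773 F27385))
theorem Q6848 : ∀ i, i < 6848 → P i := stepQ 6847 Q6847 (allL N6847 (tt N8200 (iv F31110)) (tt N10799 D21023) (tt N6773 F27386) (tt N8108 (iv F33026)) (tt N4089 F27387) (tt N6772 (iv F27388)) (tt N4088 (iv D15841)))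
theorem Q6849 : ∀ i, i < 6849 → P i := stepQ 6848 Q6848 (allL N6848 (tt N10800 D21024) (tt N4089 (iv D15842)) (tt N10801 D21025) (tt N4090 F27389) (tt N10799 (iv F40488)) (tt N10802 D21026) (tt N8928 F35993))
theorem Q6850 : ∀ i, i < 6850 → P i := stepQ 6849 Q6849 (allL N6849 (tt N4090 (iv D15843)) (tt N8493 (iv F34994)) (tt N8111 (iv F32891)) (tt N10800 (iv F40489)) (tt N8104 F33016) (tt N10803 D21027) (tt N9734 (iv F37614)))
theorem Q6851 : ∀ i, i < 6851 → P i := stepQ 6850 Q6850 (allL N6850 (tt N10803 (iv F40497)) (tt N8198 (iv F31109)) (tt N8115 (iv F32892)) (tt N10802 (iv F40496)) (tt N8106 F33015) (tt N4090 (iv D15844)) (tt N10804 D21028))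
theorem Q6852 : ∀ i, i < 6852 → P i := stepQ 6851 Q6851 (allL N6851 (tt N4092 (iv D15856)) (tt N5802 (iv F29173)) (tt N4101 F27409) (tt N7639 (iv F29645)) (tt N4094 F27410) (tt N8441 (iv F32449)) (tt N10805 D21029))
theorem Q6853 : ∀ i, i < 6853 → P i := stepQ 6852 Q6852 (allL N6852 (tt N7639 (iv F29642)) (tt N4093 F27411) (tt N7633 (iv F29630)) (tt N4092 (iv D15857)) (tt N7632 (iv F29627)) (tt N10637 (iv F40045)) (tt N10806 D21030))
theorem Q6854 : ∀ i, i < 6854 → P i := stepQ 6853 Q6853 (allL N6853 (tt N10805 (iv F40502)) (tt N6612 F33051) (tt N4102 F27415) (tt N10806 (iv F40507)) (tt N4097 F27416) (tt N10807 D21031) (tt N4092 (iv D15859)))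
theorem Q6855 : ∀ i, i < 6855 → P i := stepQ 6854 Q6854 (allL N6854 (tt N6854 F27417) (tt N7632 (iv F29625)) (tt N6854 F27418) (tt N4098 F27419) (tt N4093 (iv D15860)) (tt N6854 F27420) (tt N6613 (iv F33052)))
theorem Q6856 : ∀ i, i < 6856 → P i := stepQ 6855 Q6855 (allL N6855 (tt N4095 F27426) (tt N5800 (iv F29176)) (tt N7534 (iv F29433)) (tt N4094 (iv D15864)) (tt N7638 F29641) (tt N7532 F29427) (tt N10808 D21032))
theorem Q6857 : ∀ i, i < 6857 → P i := stepQ 6856 Q6856 (allL N6856 (tt N4097 F27429) (tt N10809 D21033) (tt N4105 F27430) (tt N10808 (iv F40513)) (tt N10805 (iv F40504)) (tt N6861 (iv F27437)) (tt N4094 (iv D15866)))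
theorem Q6858 : ∀ i, i < 6858 → P i := stepQ 6857 Q6857 (allL N6857 (tt N7534 (iv F29431)) (tt N6857 F27431) (tt N4095 (iv D15867)) (tt N7530 (iv F29422)) (tt N9077 (iv F35872)) (tt N7529 F29418) (tt N10810 D21034))
theorem Q6859 : ∀ i, i < 6859 → P i := stepQ 6858 Q6858 (allL N6858 (tt N7638 (iv F29640)) (tt N4098 F27432) (tt N9077 (iv F35870)) (tt N7632 F29626) (tt N4095 (iv D15868)) (tt N9076 F35868) (tt N10811 D21035))
theorem Q6860 : ∀ i, i < 6860 → P i := stepQ 6859 Q6859 (allL N6859 (tt N7532 (iv F29424)) (tt N6859 F27433) (tt N7529 (iv F29417)) (tt N4096 F27434) (tt N9076 (iv F35867)) (tt N4095 (iv D15869)) (tt N10812 D21036))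
theorem Q6861 : ∀ i, i < 6861 → P i := stepQ 6860 Q6860 (allL N6860 (tt N10808 (iv F40512)) (tt N8205 (iv F33055)) (tt N10810 (iv F40515)) (tt N4097 F27435) (tt N10811 (iv F40519)) (tt N10813 D21037) (tt N4095 (iv D15870)))
theorem Q6862 : ∀ i, i < 6862 → P i := stepQ 6861 Q6861 (allL N6861 (tt N6862 (iv F27439)) (tt N10814 D21038) (tt N4106 F27436) (tt N10812 (iv F40520)) (tt N10638 (iv F40047)) (tt N6856 F27437) (tt N4096 (iv D15871)))
theorem Q6863 : ∀ i, i < 6863 → P i := stepQ 6862 Q6862 (allL N6862 (tt N6861 F27439) (tt N6882 (iv F34325)) (tt N4107 F27440) (tt N10813 (iv F40524)) (tt N10807 (iv F40510)) (tt N4097 (iv D15873)) (tt N5088 (iv F29128)))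
theorem Q6864 : ∀ i, i < 6864 → P i := stepQ 6863 Q6863 (allL N6863 (tt N6863 F27442) (tt N5752 (iv F33054)) (tt N6863 F27443) (tt N6613 F33053) (tt N4099 F27444) (tt N6863 F27445) (tt N4098 (iv D15874)))
theorem Q6865 : ∀ i, i < 6865 → P i := stepQ 6864 Q6864 (allL N6864 (tt N10815 D21039) (tt N4101 (iv D15878)) (tt N5806 F29129) (tt N5823 (iv F29175)) (tt N4103 F27448) (tt N5823 (iv F29174)) (tt N10816 D21040))
theorem Q6866 : ∀ i, i < 6866 → P i := stepQ 6865 Q6865 (allL N6865 (tt N4102 F27451) (tt N10817 D21041) (tt N10805 (iv F40503)) (tt N6712 F29109) (tt N4105 F27452) (tt N6703 (iv F29094)) (tt N4101 (iv D15880)))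
theorem Q6867 : ∀ i, i < 6867 → P i := stepQ 6866 Q6866 (allL N6866 (tt N6703 (iv F29092)) (tt N10818 D21042) (tt N10807 (iv F40509)) (tt N6706 F29177) (tt N4107 F27456) (tt N4102 (iv D15882)) (tt N6701 (iv F29089)))
theorem Q6868 : ∀ i, i < 6868 → P i := stepQ 6867 Q6867 (allL N6867 (tt N4103 (iv D15883)) (tt N5671 F27458) (tt N5605 (iv F29133)) (tt N5671 F27459) (tt N10815 (iv F40530)) (tt N5829 (iv F29137)) (tt N9468 (iv F36939)))
theorem Q6869 : ∀ i, i < 6869 → P i := stepQ 6868 Q6868 (allL N6868 (tt N9468 (iv F36936)) (tt N10819 D21043) (tt N5810 F29130) (tt N5673 F27461) (tt N10816 (iv F40534)) (tt N9465 (iv F36932)) (tt N4103 (iv D15886)))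
theorem Q6870 : ∀ i, i < 6870 → P i := stepQ 6869 Q6869 (allL N6869 (tt N10820 D21044) (tt N4105 (iv D15888)) (tt N10821 D21045) (tt N5676 F27463) (tt N10817 (iv F40537)) (tt N10822 D21046) (tt N10819 (iv F40544)))
theorem Q6871 : ∀ i, i < 6871 → P i := stepQ 6870 Q6870 (allL N6870 (tt N10823 D21047) (tt N4106 (iv D15889)) (tt N10824 D21048) (tt N5680 F27464) (tt N10639 (iv F40049)) (tt N10825 D21049) (tt N6705 F27465))
theorem Q6872 : ∀ i, i < 6872 → P i := stepQ 6871 Q6871 (allL N6871 (tt N6839 F34924) (tt N4107 (iv D15890)) (tt N6891 (iv F34975)) (tt N5659 (iv F34923)) (tt N10818 (iv F40540)) (tt N5729 F34925) (tt N5661 F34926))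
theorem Q6873 : ∀ i, i < 6873 → P i := stepQ 6872 Q6872 (allL N6872 (tt N4108 (iv D15891)) (tt N5803 F35081) (tt N4117 F27467) (tt N7804 (iv F29918)) (tt N4110 F27468) (tt N10826 D21050) (tt N8442 (iv F35083)))
theorem Q6874 : ∀ i, i < 6874 → P i := stepQ 6873 Q6873 (allL N6873 (tt N7804 (iv F29916)) (tt N4109 F27469) (tt N7798 (iv F29906)) (tt N4108 (iv D15892)) (tt N7797 (iv F29903)) (tt N10827 D21051) (tt N10724 (iv F40265)))
theorem Q6875 : ∀ i, i < 6875 → P i := stepQ 6874 Q6874 (allL N6874 (tt N10826 (iv F40566)) (tt N6660 F33000) (tt N4118 F27470) (tt N10827 (iv F40571)) (tt N4112 F27471) (tt N4108 (iv D15893)) (tt N10828 D21052))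
theorem Q6876 : ∀ i, i < 6876 → P i := stepQ 6875 Q6875 (allL N6875 (tt N6875 F27475) (tt N7797 (iv F29902)) (tt N6875 F27476) (tt N4114 F27477) (tt N4109 (iv D15895)) (tt N6661 (iv F32994)) (tt N6875 F27478))
theorem Q6877 : ∀ i, i < 6877 → P i := stepQ 6876 Q6876 (allL N6876 (tt N4111 F27484) (tt N5801 (iv F34820)) (tt N7580 (iv F34821)) (tt N4110 (iv D15899)) (tt N7803 F29915) (tt N10829 D21053) (tt N7577 F34819))
theorem Q6878 : ∀ i, i < 6878 → P i := stepQ 6877 Q6877 (allL N6877 (tt N4112 F27485) (tt N10830 D21054) (tt N4120 F27486) (tt N10829 (iv F40578)) (tt N10826 (iv F40568)) (tt N4110 (iv D15900)) (tt N6883 (iv F27499)))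
theorem Q6879 : ∀ i, i < 6879 → P i := stepQ 6878 Q6878 (allL N6878 (tt N7580 F34822) (tt N6878 F27489) (tt N4111 (iv D15902)) (tt N7576 F34824) (tt N9132 (iv F36008)) (tt N10831 D21055) (tt N7574 (iv F34815)))
theorem Q6880 : ∀ i, i < 6880 → P i := stepQ 6879 Q6879 (allL N6879 (tt N7803 (iv F29914)) (tt N4114 F27490) (tt N9132 (iv F36006)) (tt N7797 F29901) (tt N4111 (iv D15903)) (tt N10832 D21056) (tt N9130 F36002))
theorem Q6881 : ∀ i, i < 6881 → P i := stepQ 6880 Q6880 (allL N6880 (tt N10829 (iv F40577)) (tt N8206 (iv F35500)) (tt N10831 (iv F40580)) (tt N4112 F27491) (tt N10832 (iv F40584)) (tt N4111 (iv D15904)) (tt N10833 D21057))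
theorem Q6882 : ∀ i, i < 6882 → P i := stepQ 6881 Q6881 (allL N6881 (tt N7577 (iv F34814)) (tt N6881 F27492) (tt N7574 F34813) (tt N4113 F27493) (tt N9130 (iv F36001)) (tt N10834 D21058) (tt N4111 (iv D15905)))
theorem Q6883 : ∀ i, i < 6883 → P i := stepQ 6882 Q6882 (allL N6882 (tt N6883 (iv F27497)) (tt N6862 F34325) (tt N4122 F27495) (tt N10833 (iv F40587)) (tt N10828 (iv F40575)) (tt N5090 (iv F34372)) (tt N4112 (iv D15907)))
theorem Q6884 : ∀ i, i < 6884 → P i := stepQ 6883 Q6883 (allL N6883 (tt N6882 F27497) (tt N10835 D21059) (tt N4123 F27498) (tt N10834 (iv F40595)) (tt N10725 (iv F40267)) (tt N4113 (iv D15908)) (tt N6877 F27499))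
theorem Q6885 : ∀ i, i < 6885 → P i := stepQ 6884 Q6884 (allL N6884 (tt N6884 F27500) (tt N5753 (iv F35503)) (tt N6884 F27501) (tt N6661 F32995) (tt N4115 F27502) (tt N4114 (iv D15909)) (tt N6884 F27503))
theorem Q6886 : ∀ i, i < 6886 → P i := stepQ 6885 Q6885 (allL N6885 (tt N10836 D21060) (tt N4117 (iv D15913)) (tt N5808 (iv F35082)) (tt N5826 (iv F32107)) (tt N4119 F27506) (tt N10837 D21061) (tt N5826 F35089))
theorem Q6887 : ∀ i, i < 6887 → P i := stepQ 6886 Q6886 (allL N6886 (tt N4118 F27507) (tt N10838 D21062) (tt N10826 (iv F40567)) (tt N6787 (iv F34432)) (tt N4120 F27508) (tt N4117 (iv D15914)) (tt N6779 (iv F34364)))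
theorem Q6888 : ∀ i, i < 6888 → P i := stepQ 6887 Q6887 (allL N6887 (tt N6779 (iv F34362)) (tt N10839 D21063) (tt N10828 (iv F40574)) (tt N6782 (iv F35487)) (tt N4122 F27511) (tt N6777 (iv F34351)) (tt N4118 (iv D15916)))
theorem Q6889 : ∀ i, i < 6889 → P i := stepQ 6888 Q6888 (allL N6888 (tt N4119 (iv D15918)) (tt N5710 F27516) (tt N5642 (iv F35094)) (tt N5710 F27517) (tt N10836 (iv F40601)) (tt N9473 (iv F36952)) (tt N5834 F35093))
theorem Q6890 : ∀ i, i < 6890 → P i := stepQ 6889 Q6889 (allL N6889 (tt N9473 (iv F36949)) (tt N10840 D21064) (tt N5812 (iv F35096)) (tt N5712 F27518) (tt N10837 (iv F40605)) (tt N4119 (iv D15920)) (tt N9470 (iv F36945)))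
theorem Q6891 : ∀ i, i < 6891 → P i := stepQ 6890 Q6890 (allL N6890 (tt N10841 D21065) (tt N4120 (iv D15922)) (tt N10842 D21066) (tt N5715 F27520) (tt N10838 (iv F40608)) (tt N10840 (iv F40616)) (tt N10843 D21067))
theorem Q6892 : ∀ i, i < 6892 → P i := stepQ 6891 Q6891 (allL N6891 (tt N6765 F34974) (tt N4122 (iv D15924)) (tt N6871 F34975) (tt N5626 (iv F34973)) (tt N10839 (iv F40612)) (tt N5628 F34976) (tt N5694 F34977))
theorem Q6893 : ∀ i, i < 6893 → P i := stepQ 6892 Q6892 (allL N6892 (tt N10844 D21068) (tt N4123 (iv D15925)) (tt N10845 D21069) (tt N5719 F27523) (tt N10726 (iv F40269)) (tt N6781 F27524) (tt N10846 D21070))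
theorem Q6894 : ∀ i, i < 6894 → P i := stepQ 6893 Q6893 (allL N6893 (tt N4127 (iv D15930)) (tt N6275 (iv F27536)) (tt N10847 D21071) (tt N8621 (iv F33529)) (tt N4422 F27535) (tt N7167 (iv F28095)) (tt N10166 (iv F38615)))
theorem Q6895 : ∀ i, i < 6895 → P i := stepQ 6894 Q6894 (allL N6894 (tt N10847 (iv F40638)) (tt N10385 (iv F39076)) (tt N4127 (iv D15931)) (tt N10848 D21072) (tt N4423 F27537) (tt N9930 (iv F38021)) (tt N10849 D21073))
theorem Q6896 : ∀ i, i < 6896 → P i := stepQ 6895 Q6895 (allL N6895 (tt N10166 (iv F38613)) (tt N6932 (iv F27622)) (tt N10849 (iv F40641)) (tt N8623 (iv F33539)) (tt N4424 F27538) (tt N7299 F28383) (tt N4127 (iv D15932)))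
theorem Q6897 : ∀ i, i < 6897 → P i := stepQ 6896 Q6896 (allL N6896 (tt N4128 (iv D15933)) (tt N6303 (iv F27540)) (tt N10850 D21074) (tt N8624 (iv F33540)) (tt N4425 F27539) (tt N10133 (iv F38534)) (tt N7270 (iv F28312)))
theorem Q6898 : ∀ i, i < 6898 → P i := stepQ 6897 Q6897 (allL N6897 (tt N10850 (iv F40643)) (tt N10419 (iv F39154)) (tt N4128 (iv D15934)) (tt N10851 D21075) (tt N4426 F27541) (tt N10852 D21076) (tt N9932 (iv F38026)))
theorem Q6899 : ∀ i, i < 6899 → P i := stepQ 6898 Q6898 (allL N6898 (tt N10133 (iv F38532)) (tt N6924 (iv F27605)) (tt N10852 (iv F40646)) (tt N8626 (iv F33548)) (tt N4427 F27542) (tt N4128 (iv D15935)) (tt N7198 F28170))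
theorem Q6900 : ∀ i, i < 6900 → P i := stepQ 6899 Q6899 (allL N6899 (tt N6899 F27553) (tt N4130 (iv D15938)) (tt N10853 D21077) (tt N4132 F27551) (tt N10384 (iv F39072)) (tt N6899 F27552) (tt N10854 D21078))
theorem Q6901 : ∀ i, i < 6901 → P i := stepQ 6900 Q6900 (allL N6900 (tt N6902 (iv F27559)) (tt N10387 (iv F39083)) (tt N5032 F27554) (tt N4133 F27555) (tt N6518 (iv F34328)) (tt N6517 (iv F34233)) (tt N4130 (iv D15939)))
theorem Q6902 : ∀ i, i < 6902 → P i := stepQ 6901 Q6901 (allL N6901 (tt N6901 F29299) (tt N4131 (iv D15940)) (tt N10855 D21079) (tt N4134 F27557) (tt N10418 (iv F39150)) (tt N10856 D21080) (tt N6901 F27558))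
theorem Q6903 : ∀ i, i < 6903 → P i := stepQ 6902 Q6902 (allL N6902 (tt N6900 F27559) (tt N10421 (iv F39162)) (tt N5034 F27560) (tt N4135 F27561) (tt N6485 (iv F29256)) (tt N4131 (iv D15941)) (tt N6484 (iv F28863)))
theorem Q6904 : ∀ i, i < 6904 → P i := stepQ 6903 Q6903 (allL N6903 (tt N6903 F27563) (tt N4141 F27564) (tt N4132 (iv D15942)) (tt N10857 D21081) (tt N4439 F27565) (tt N6903 F27566) (tt N10858 D21082))
theorem Q6905 : ∀ i, i < 6905 → P i := stepQ 6904 Q6904 (allL N6904 (tt N6904 F27567) (tt N10859 D21083) (tt N10858 (iv F40671)) (tt N10854 (iv F40653)) (tt N4440 F27568) (tt N6904 F27569) (tt N4132 (iv D15943)))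
theorem Q6906 : ∀ i, i < 6906 → P i := stepQ 6905 Q6905 (allL N6905 (tt N10860 D21084) (tt N4133 (iv D15944)) (tt N10861 D21085) (tt N10387 (iv F39085)) (tt N4441 F27570) (tt N10386 F39081) (tt N10859 (iv F40677)))
theorem Q6907 : ∀ i, i < 6907 → P i := stepQ 6906 Q6906 (allL N6906 (tt N6906 F29298) (tt N4145 F27573) (tt N4134 (iv D15946)) (tt N10862 D21086) (tt N4442 F27574) (tt N10863 D21087) (tt N6906 F27575))
theorem Q6908 : ∀ i, i < 6908 → P i := stepQ 6907 Q6907 (allL N6907 (tt N6907 F29295) (tt N10864 D21088) (tt N10863 (iv F40692)) (tt N10856 (iv F40661)) (tt N4443 F27576) (tt N4134 (iv D15947)) (tt N6907 F29294))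
theorem Q6909 : ∀ i, i < 6909 → P i := stepQ 6908 Q6908 (allL N6908 (tt N10865 D21089) (tt N4135 (iv D15948)) (tt N10866 D21090) (tt N10421 (iv F39164)) (tt N4444 F27577) (tt N10864 (iv F40698)) (tt N10420 F39160))
theorem Q6910 : ∀ i, i < 6910 → P i := stepQ 6909 Q6909 (allL N6909 (tt N4136 (iv D15949)) (tt N10867 D21091) (tt N10868 D21092) (tt N4140 F27578) (tt N6185 F27579) (tt N4156 F27580) (tt N6956 (iv F27656)))
theorem Q6911 : ∀ i, i < 6911 → P i := stepQ 6910 Q6910 (allL N6910 (tt N10868 (iv F40710)) (tt N8606 (iv F33501)) (tt N4136 (iv D15950)) (tt N10869 D21093) (tt N9934 (iv F38030)) (tt N4157 F27581) (tt N10870 D21094))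
theorem Q6912 : ∀ i, i < 6912 → P i := stepQ 6911 Q6911 (allL N6911 (tt N6956 (iv F27654)) (tt N10871 D21095) (tt N10870 (iv F40714)) (tt N4142 F27582) (tt N9935 (iv F38033)) (tt N6953 (iv F27652)) (tt N4136 (iv D15951)))
theorem Q6913 : ∀ i, i < 6913 → P i := stepQ 6912 Q6912 (allL N6912 (tt N10872 D21096) (tt N4137 (iv D15952)) (tt N10873 D21097) (tt N4143 F27583) (tt N9936 (iv F38035)) (tt N10874 D21098) (tt N10871 (iv F40716)))
theorem Q6914 : ∀ i, i < 6914 → P i := stepQ 6913 Q6913 (allL N6913 (tt N4138 (iv D15953)) (tt N10875 D21099) (tt N10876 D21100) (tt N4144 F27584) (tt N6189 (iv F35287)) (tt N6962 (iv F27665)) (tt N4159 F27585))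
theorem Q6915 : ∀ i, i < 6915 → P i := stepQ 6914 Q6914 (allL N6914 (tt N10876 (iv F40727)) (tt N8609 (iv F33504)) (tt N4138 (iv D15954)) (tt N10877 D21101) (tt N9937 (iv F38036)) (tt N10878 D21102) (tt N4160 F27586))
theorem Q6916 : ∀ i, i < 6916 → P i := stepQ 6915 Q6915 (allL N6915 (tt N6962 (iv F27663)) (tt N10879 D21103) (tt N10878 (iv F40731)) (tt N4146 F27587) (tt N9938 (iv F38039)) (tt N4138 (iv D15955)) (tt N6959 (iv F27661)))
theorem Q6917 : ∀ i, i < 6917 → P i := stepQ 6916 Q6916 (allL N6916 (tt N10880 D21104) (tt N4139 (iv D15956)) (tt N10881 D21105) (tt N4147 F27588) (tt N9939 (iv F38041)) (tt N10879 (iv F40733)) (tt N10882 D21106))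
theorem Q6918 : ∀ i, i < 6918 → P i := stepQ 6917 Q6917 (allL N6917 (tt N6215 F27589) (tt N4140 (iv D15957)) (tt N10263 (iv F38796)) (tt N10867 (iv F40707)) (tt N4445 F27590) (tt N6213 (iv F27591)) (tt N10021 (iv F38282)))
theorem Q6919 : ∀ i, i < 6919 → P i := stepQ 6918 Q6918 (allL N6918 (tt N4141 F27592) (tt N4382 F27595) (tt N4140 (iv D15958)) (tt N10883 D21107) (tt N4446 F27593) (tt N4163 F27594) (tt N6973 (iv F27687)))
theorem Q6920 : ∀ i, i < 6920 → P i := stepQ 6919 Q6919 (allL N6919 (tt N10883 (iv F40740)) (tt N10857 (iv F40665)) (tt N10311 (iv F38914)) (tt N4141 (iv D15959)) (tt N10310 F38912) (tt N4165 F27596) (tt N10884 D21108))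
theorem Q6921 : ∀ i, i < 6921 → P i := stepQ 6920 Q6920 (allL N6920 (tt N6973 (iv F27684)) (tt N7189 F29359) (tt N4142 F27597) (tt N10884 (iv F40743)) (tt N4448 F27598) (tt N6967 (iv F27676)) (tt N4141 (iv D15960)))
theorem Q6922 : ∀ i, i < 6922 → P i := stepQ 6921 Q6921 (allL N6921 (tt N10071 (iv F38377)) (tt N4142 (iv D15961)) (tt N10885 D21109) (tt N10871 (iv F40715)) (tt N4449 F27599) (tt N7349 (iv F28478)) (tt N4143 F27600))
theorem Q6923 : ∀ i, i < 6923 → P i := stepQ 6922 Q6922 (allL N6922 (tt N4143 (iv D15962)) (tt N7335 (iv F28444)) (tt N10886 D21110) (tt N10872 (iv F40717)) (tt N4450 F27601) (tt N4372 (iv F27602)) (tt N10071 (iv F38379)))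
theorem Q6924 : ∀ i, i < 6924 → P i := stepQ 6923 Q6923 (allL N6923 (tt N10886 (iv F40746)) (tt N10861 (iv F40683)) (tt N4143 (iv D15963)) (tt N10887 D21111) (tt N4451 F27603) (tt N10888 D21112) (tt N10885 (iv F40745)))
theorem Q6925 : ∀ i, i < 6925 → P i := stepQ 6924 Q6924 (allL N6924 (tt N4372 F27604) (tt N6898 F27605) (tt N10888 (iv F40750)) (tt N10874 (iv F40722)) (tt N4452 F27606) (tt N4143 (iv D15964)) (tt N10889 D21113))
theorem Q6926 : ∀ i, i < 6926 → P i := stepQ 6925 Q6925 (allL N6925 (tt N6235 F27607) (tt N4144 (iv D15965)) (tt N10282 (iv F38836)) (tt N10875 (iv F40724)) (tt N4453 F27608) (tt N10054 (iv F38344)) (tt N6232 (iv F27609)))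
theorem Q6927 : ∀ i, i < 6927 → P i := stepQ 6926 Q6926 (allL N6926 (tt N4145 F27610) (tt N4398 F34852) (tt N4144 (iv D15966)) (tt N10890 D21114) (tt N4454 F27611) (tt N6984 (iv F27712)) (tt N4169 F27612))
theorem Q6928 : ∀ i, i < 6928 → P i := stepQ 6927 Q6927 (allL N6927 (tt N10890 (iv F40756)) (tt N10862 (iv F40686)) (tt N10348 (iv F38993)) (tt N4145 (iv D15967)) (tt N10347 F38991) (tt N10891 D21115) (tt N4171 F27613))
theorem Q6929 : ∀ i, i < 6929 → P i := stepQ 6928 Q6928 (allL N6928 (tt N6984 (iv F27709)) (tt N7289 F35253) (tt N4146 F27614) (tt N10891 (iv F40759)) (tt N4456 F27615) (tt N4145 (iv D15968)) (tt N6978 (iv F27701)))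
theorem Q6930 : ∀ i, i < 6930 → P i := stepQ 6929 Q6929 (allL N6929 (tt N10037 (iv F38311)) (tt N4146 (iv D15969)) (tt N10892 D21116) (tt N10879 (iv F40732)) (tt N4457 F27616) (tt N4147 F27617) (tt N7248 (iv F28271)))
theorem Q6931 : ∀ i, i < 6931 → P i := stepQ 6930 Q6930 (allL N6930 (tt N4147 (iv D15970)) (tt N7235 (iv F28242)) (tt N10893 D21117) (tt N10880 (iv F40734)) (tt N4458 F27618) (tt N10037 (iv F38313)) (tt N4321 (iv F27619)))
theorem Q6932 : ∀ i, i < 6932 → P i := stepQ 6931 Q6931 (allL N6931 (tt N10893 (iv F40762)) (tt N10866 (iv F40704)) (tt N4147 (iv D15971)) (tt N10894 D21118) (tt N4459 F27620) (tt N10892 (iv F40761)) (tt N10895 D21119))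
theorem Q6933 : ∀ i, i < 6933 → P i := stepQ 6932 Q6932 (allL N6932 (tt N4321 F27621) (tt N6895 F27622) (tt N10895 (iv F40766)) (tt N10882 (iv F40739)) (tt N4460 F27623) (tt N10896 D21120) (tt N4147 (iv D15972)))
theorem Q6934 : ∀ i, i < 6934 → P i := stepQ 6933 Q6933 (allL N6933 (tt N6933 F27624) (tt N4148 (iv D15973)) (tt N9944 (iv F38053)) (tt N10897 D21121) (tt N9944 (iv F38055)) (tt N6933 F33537) (tt N6933 F35336))
theorem Q6935 : ∀ i, i < 6935 → P i := stepQ 6934 Q6934 (allL N6934 (tt N4149 F27625) (tt N10897 (iv F40773)) (tt N6934 F27626) (tt N4148 (iv D15974)) (tt N6934 F27627) (tt N10898 D21122) (tt N10899 D21123))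
theorem Q6936 : ∀ i, i < 6936 → P i := stepQ 6935 Q6935 (allL N6935 (tt N4150 F27628) (tt N6935 F33536) (tt N8589 (iv F33466)) (tt N10898 (iv F40780)) (tt N9945 (iv F38061)) (tt N4148 (iv D15975)) (tt N6942 (iv F27640)))
theorem Q6937 : ∀ i, i < 6937 → P i := stepQ 6936 Q6936 (allL N6936 (tt N4151 F27629) (tt N6936 F35335) (tt N8590 (iv F33469)) (tt N10899 (iv F40785)) (tt N9946 (iv F38065)) (tt N6940 (iv F27637)) (tt N4148 (iv D15976)))
theorem Q6938 : ∀ i, i < 6938 → P i := stepQ 6937 Q6937 (allL N6937 (tt N10898 (iv F40777)) (tt N10900 D21124) (tt N6937 F27630) (tt N4150 F27631) (tt N6937 F27632) (tt N4149 (iv D15977)) (tt N10901 D21125))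
theorem Q6939 : ∀ i, i < 6939 → P i := stepQ 6938 Q6938 (allL N6938 (tt N10899 (iv F40782)) (tt N10902 D21126) (tt N6938 F27633) (tt N4151 F27634) (tt N6938 F27635) (tt N10903 D21127) (tt N4149 (iv D15978)))
theorem Q6940 : ∀ i, i < 6940 → P i := stepQ 6939 Q6939 (allL N6939 (tt N6991 (iv F35332)) (tt N4150 (iv D15979)) (tt N10904 D21128) (tt N10900 (iv F40787)) (tt N9947 (iv F38067)) (tt N4154 F27636) (tt N6992 F35333))
theorem Q6941 : ∀ i, i < 6941 → P i := stepQ 6940 Q6940 (allL N6940 (tt N6942 (iv F27639)) (tt N10905 D21129) (tt N8594 (iv F33475)) (tt N10901 (iv F40791)) (tt N9948 (iv F38070)) (tt N6936 F27637) (tt N4150 (iv D15980)))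
theorem Q6942 : ∀ i, i < 6942 → P i := stepQ 6941 Q6941 (allL N6941 (tt N6996 F35339) (tt N4151 (iv D15981)) (tt N10906 D21130) (tt N10902 (iv F40794)) (tt N9949 (iv F38073)) (tt N6997 (iv F35338)) (tt N4155 F27638))
theorem Q6943 : ∀ i, i < 6943 → P i := stepQ 6942 Q6942 (allL N6942 (tt N6940 F27639) (tt N10907 D21131) (tt N8596 (iv F33481)) (tt N10903 (iv F40799)) (tt N9950 (iv F38077)) (tt N4151 (iv D15982)) (tt N6935 F27640))
theorem Q6944 : ∀ i, i < 6944 → P i := stepQ 6943 Q6943 (allL N6943 (tt N10908 D21132) (tt N4152 (iv D15983)) (tt N10909 D21133) (tt N4154 F27641) (tt N6943 F27642) (tt N10900 (iv F40789)) (tt N10910 D21134))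
theorem Q6945 : ∀ i, i < 6945 → P i := stepQ 6944 Q6944 (allL N6944 (tt N10911 D21135) (tt N4153 (iv D15984)) (tt N10912 D21136) (tt N4155 F27643) (tt N6944 F27644) (tt N10913 D21137) (tt N10902 (iv F40796)))
theorem Q6946 : ∀ i, i < 6946 → P i := stepQ 6945 Q6945 (allL N6945 (tt N4154 (iv D15985)) (tt N6945 F27645) (tt N10914 D21138) (tt N10908 (iv F40807)) (tt N9951 (iv F38081)) (tt N6991 F35334) (tt N10915 D21139))
theorem Q6947 : ∀ i, i < 6947 → P i := stepQ 6946 Q6946 (allL N6946 (tt N10914 (iv F40839)) (tt N4157 F27646) (tt N4154 (iv D15986)) (tt N10916 D21140) (tt N9952 (iv F38083)) (tt N10904 (iv F40802)) (tt N10917 D21141))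
theorem Q6948 : ∀ i, i < 6948 → P i := stepQ 6947 Q6947 (allL N6947 (tt N10915 (iv F40840)) (tt N6950 F35330) (tt N10917 (iv F40843)) (tt N10910 (iv F40819)) (tt N9953 (iv F38085)) (tt N4180 F35331) (tt N4154 (iv D15987)))
theorem Q6949 : ∀ i, i < 6949 → P i := stepQ 6948 Q6948 (allL N6948 (tt N4155 (iv D15988)) (tt N6948 F35340) (tt N10918 D21142) (tt N10911 (iv F40823)) (tt N9954 (iv F38089)) (tt N10919 D21143) (tt N6996 (iv F35337)))
theorem Q6950 : ∀ i, i < 6950 → P i := stepQ 6949 Q6949 (allL N6949 (tt N10918 (iv F40845)) (tt N4160 F27647) (tt N4155 (iv D15989)) (tt N10920 D21144) (tt N9955 (iv F38091)) (tt N10921 D21145) (tt N10906 (iv F40804)))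
theorem Q6951 : ∀ i, i < 6951 → P i := stepQ 6950 Q6950 (allL N6950 (tt N10919 (iv F40846)) (tt N6947 (iv F35330)) (tt N10921 (iv F40849)) (tt N10913 (iv F40828)) (tt N9956 (iv F38094)) (tt N4155 (iv D15990)) (tt N4183 F35329))
theorem Q6952 : ∀ i, i < 6952 → P i := stepQ 6951 Q6951 (allL N6951 (tt N9392 (iv F36719)) (tt N4156 (iv D15991)) (tt N9392 (iv F36721)) (tt N4162 F27648) (tt N9957 (iv F38097)) (tt N10922 D21146) (tt N10923 D21147))
theorem Q6953 : ∀ i, i < 6953 → P i := stepQ 6952 Q6952 (allL N6952 (tt N4157 F27649) (tt N9530 (iv F37090)) (tt N4156 (iv D15992)) (tt N10924 D21148) (tt N9958 (iv F38100)) (tt N10868 (iv F40712)) (tt N10925 D21149))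
theorem Q6954 : ∀ i, i < 6954 → P i := stepQ 6953 Q6953 (allL N6953 (tt N4158 F27650) (tt N10926 D21150) (tt N10925 (iv F40862)) (tt N4164 F27651) (tt N9959 (iv F38103)) (tt N6911 F27652) (tt N4156 (iv D15993)))
theorem Q6955 : ∀ i, i < 6955 → P i := stepQ 6954 Q6954 (allL N6954 (tt N10924 (iv F40859)) (tt N10916 (iv F40842)) (tt N10927 D21151) (tt N4157 (iv D15994)) (tt N10928 D21152) (tt N10869 (iv F40713)) (tt N10929 D21153))
theorem Q6956 : ∀ i, i < 6956 → P i := stepQ 6955 Q6955 (allL N6955 (tt N10925 (iv F40861)) (tt N10930 D21154) (tt N4158 F27653) (tt N10929 (iv F40868)) (tt N9961 (iv F38106)) (tt N10931 D21155) (tt N4157 (iv D15995)))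
theorem Q6957 : ∀ i, i < 6957 → P i := stepQ 6956 Q6956 (allL N6956 (tt N6911 F27654) (tt N10118 F38488) (tt N10931 (iv F40870)) (tt N4167 F27655) (tt N9962 (iv F38109)) (tt N4158 (iv D15996)) (tt N6909 F27656))
theorem Q6958 : ∀ i, i < 6958 → P i := stepQ 6957 Q6957 (allL N6957 (tt N9397 (iv F36741)) (tt N4159 (iv D15997)) (tt N9397 (iv F36743)) (tt N4168 F27657) (tt N9963 (iv F38113)) (tt N10932 D21156) (tt N10933 D21157))
theorem Q6959 : ∀ i, i < 6959 → P i := stepQ 6958 Q6958 (allL N6958 (tt N4160 F27658) (tt N9543 (iv F37132)) (tt N4159 (iv D15998)) (tt N10934 D21158) (tt N9964 (iv F38116)) (tt N10935 D21159) (tt N10876 (iv F40729)))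
theorem Q6960 : ∀ i, i < 6960 → P i := stepQ 6959 Q6959 (allL N6959 (tt N4161 F27659) (tt N10936 D21160) (tt N10935 (iv F40883)) (tt N4170 F27660) (tt N9965 (iv F38119)) (tt N4159 (iv D15999)) (tt N6915 F27661))
theorem Q6961 : ∀ i, i < 6961 → P i := stepQ 6960 Q6960 (allL N6960 (tt N10934 (iv F40880)) (tt N10920 (iv F40848)) (tt N10937 D21161) (tt N4160 (iv D16000)) (tt N10938 D21162) (tt N10939 D21163) (tt N10877 (iv F40730)))
theorem Q6962 : ∀ i, i < 6962 → P i := stepQ 6961 Q6961 (allL N6961 (tt N10935 (iv F40882)) (tt N10940 D21164) (tt N4161 F27662) (tt N10939 (iv F40889)) (tt N9967 (iv F38122)) (tt N4160 (iv D16001)) (tt N10941 D21165))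
theorem Q6963 : ∀ i, i < 6963 → P i := stepQ 6962 Q6962 (allL N6962 (tt N6915 F27663) (tt N10099 F38441) (tt N10941 (iv F40891)) (tt N4173 F27664) (tt N9968 (iv F38125)) (tt N6913 F27665) (tt N4161 (iv D16002)))
theorem Q6964 : ∀ i, i < 6964 → P i := stepQ 6963 Q6963 (allL N6963 (tt N6183 F27666) (tt N6213 F27667) (tt N9374 (iv F36670)) (tt N10922 (iv F40854)) (tt N4463 F27668) (tt N4162 (iv D16003)) (tt N7269 F28308))
theorem Q6965 : ∀ i, i < 6965 → P i := stepQ 6964 Q6964 (allL N6964 (tt N9393 (iv F36722)) (tt N7342 F28464) (tt N9391 (iv F36715)) (tt N10923 (iv F40857)) (tt N4464 F27669) (tt N9969 (iv F38132)) (tt N4162 (iv D16004)))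
theorem Q6966 : ∀ i, i < 6966 → P i := stepQ 6965 Q6965 (allL N6965 (tt N8309 (iv F32032)) (tt N4163 (iv D16005)) (tt N9390 (iv F36710)) (tt N8307 F32027) (tt N4465 F27670) (tt N4381 F27671) (tt N10942 D21166))
theorem Q6967 : ∀ i, i < 6967 → P i := stepQ 6966 Q6966 (allL N6966 (tt N4165 F27672) (tt N8307 (iv F32028)) (tt N10943 D21167) (tt N4163 (iv D16006)) (tt N8333 (iv F32146)) (tt N10883 (iv F40742)) (tt N10944 D21168))
theorem Q6968 : ∀ i, i < 6968 → P i := stepQ 6967 Q6967 (allL N6967 (tt N4166 F27673) (tt N10945 D21169) (tt N4164 F27674) (tt N10944 (iv F40899)) (tt N4467 F27675) (tt N6920 F27676) (tt N4163 (iv D16007)))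
theorem Q6969 : ∀ i, i < 6969 → P i := stepQ 6968 Q6968 (allL N6968 (tt N7348 (iv F28473)) (tt N4164 (iv D16008)) (tt N10946 D21170) (tt N10926 (iv F40864)) (tt N4468 F27677) (tt N4368 (iv F27678)) (tt N7342 (iv F28463)))
theorem Q6970 : ∀ i, i < 6970 → P i := stepQ 6969 Q6969 (allL N6969 (tt N10943 (iv F40894)) (tt N5357 F38890) (tt N4165 (iv D16009)) (tt N10947 D21171) (tt N8553 F38891) (tt N10311 (iv F38915)) (tt N10948 D21172))
theorem Q6971 : ∀ i, i < 6971 → P i := stepQ 6970 Q6970 (allL N6970 (tt N8333 F32147) (tt N6970 F27679) (tt N8553 F38889) (tt N4469 F27680) (tt N4165 (iv D16010)) (tt N10310 (iv F38910)) (tt N10949 D21173))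
theorem Q6972 : ∀ i, i < 6972 → P i := stepQ 6971 Q6971 (allL N6971 (tt N10944 (iv F40898)) (tt N10950 D21174) (tt N10948 (iv F40909)) (tt N4166 F27681) (tt N10949 (iv F40911)) (tt N10951 D21175) (tt N4165 (iv D16011)))
theorem Q6973 : ∀ i, i < 6973 → P i := stepQ 6972 Q6972 (allL N6972 (tt N4207 F29372) (tt N4166 (iv D16012)) (tt N7084 (iv F27951)) (tt N10950 (iv F40912)) (tt N4471 F27682) (tt N10952 D21176) (tt N6972 F27683))
theorem Q6974 : ∀ i, i < 6974 → P i := stepQ 6973 Q6973 (allL N6973 (tt N6920 F27684) (tt N10953 D21177) (tt N4167 F27685) (tt N10951 (iv F40916)) (tt N4472 F27686) (tt N4166 (iv D16013)) (tt N6918 F27687))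
theorem Q6975 : ∀ i, i < 6975 → P i := stepQ 6974 Q6974 (allL N6974 (tt N9398 (iv F36744)) (tt N7243 F28262) (tt N9396 (iv F36737)) (tt N10932 (iv F40872)) (tt N4475 F27692) (tt N4168 (iv D16016)) (tt N9971 (iv F38139)))
theorem Q6976 : ∀ i, i < 6976 → P i := stepQ 6975 Q6975 (allL N6975 (tt N6187 F27693) (tt N6232 F27694) (tt N9377 (iv F36678)) (tt N10933 (iv F40877)) (tt N4476 F27695) (tt N7168 F28097) (tt N4168 (iv D16017)))
theorem Q6977 : ∀ i, i < 6977 → P i := stepQ 6976 Q6976 (allL N6976 (tt N8315 F34843) (tt N4169 (iv D16018)) (tt N9395 (iv F36732)) (tt N8313 F34844) (tt N4477 F27696) (tt N10954 D21178) (tt N4397 F34845))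
theorem Q6978 : ∀ i, i < 6978 → P i := stepQ 6977 Q6977 (allL N6977 (tt N4171 F27697) (tt N8313 (iv F35257)) (tt N10955 D21179) (tt N4169 (iv D16019)) (tt N8341 F35258) (tt N10956 D21180) (tt N10890 (iv F40758)))
theorem Q6979 : ∀ i, i < 6979 → P i := stepQ 6978 Q6978 (allL N6978 (tt N4172 F27698) (tt N10957 D21181) (tt N4170 F27699) (tt N10956 (iv F40929)) (tt N4479 F27700) (tt N4169 (iv D16020)) (tt N6928 F27701))
theorem Q6980 : ∀ i, i < 6980 → P i := stepQ 6979 Q6979 (allL N6979 (tt N7249 (iv F28272)) (tt N4170 (iv D16021)) (tt N10958 D21182) (tt N10936 (iv F40885)) (tt N4480 F27702) (tt N7243 (iv F28261)) (tt N4316 (iv F27703)))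
theorem Q6981 : ∀ i, i < 6981 → P i := stepQ 6980 Q6980 (allL N6980 (tt N10955 (iv F40924)) (tt N5367 F38969) (tt N4171 (iv D16022)) (tt N10959 D21183) (tt N8562 F38970) (tt N10960 D21184) (tt N10348 (iv F38994)))
theorem Q6982 : ∀ i, i < 6982 → P i := stepQ 6981 Q6981 (allL N6981 (tt N8341 (iv F35259)) (tt N6981 F27704) (tt N8562 F38968) (tt N4481 F27705) (tt N4171 (iv D16023)) (tt N10961 D21185) (tt N10347 (iv F38989)))
theorem Q6983 : ∀ i, i < 6983 → P i := stepQ 6982 Q6982 (allL N6982 (tt N10956 (iv F40928)) (tt N10962 D21186) (tt N10960 (iv F40939)) (tt N4172 F27706) (tt N10961 (iv F40941)) (tt N4171 (iv D16024)) (tt N10963 D21187))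
theorem Q6984 : ∀ i, i < 6984 → P i := stepQ 6983 Q6983 (allL N6983 (tt N4224 F34858) (tt N4172 (iv D16025)) (tt N7056 (iv F27871)) (tt N10962 (iv F40942)) (tt N4483 F27707) (tt N6983 F27708) (tt N10964 D21188))
theorem Q6985 : ∀ i, i < 6985 → P i := stepQ 6984 Q6984 (allL N6984 (tt N6928 F27709) (tt N10965 D21189) (tt N4173 F27710) (tt N10963 (iv F40946)) (tt N4484 F27711) (tt N6926 F27712) (tt N4172 (iv D16026)))
theorem Q6986 : ∀ i, i < 6986 → P i := stepQ 6985 Q6985 (allL N6985 (tt N6985 F27713) (tt N10909 (iv F40809)) (tt N4174 (iv D16027)) (tt N4179 F40815) (tt N6985 F27714) (tt N6985 F27715) (tt N4174 F40816))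
theorem Q6987 : ∀ i, i < 6987 → P i := stepQ 6986 Q6986 (allL N6986 (tt N10966 D21190) (tt N4175 (iv D16029)) (tt N10910 (iv F40818)) (tt N4180 F27720) (tt N6986 F27721) (tt N10910 (iv F40821)) (tt N10909 F40817))
theorem Q6988 : ∀ i, i < 6988 → P i := stepQ 6987 Q6987 (allL N6987 (tt N6987 F35345) (tt N10912 (iv F40825)) (tt N4176 (iv D16031)) (tt N4182 F40833) (tt N6987 F27725) (tt N4176 F40834) (tt N6987 F27726))
theorem Q6989 : ∀ i, i < 6989 → P i := stepQ 6988 Q6988 (allL N6988 (tt N10967 D21191) (tt N4177 (iv D16033)) (tt N10913 F40831) (tt N4183 F27729) (tt N6988 F27730) (tt N10912 (iv F40832)) (tt N10913 F40830))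
theorem Q6990 : ∀ i, i < 6990 → P i := stepQ 6989 Q6989 (allL N6989 (tt N6989 F27731) (tt N4186 F27732) (tt N10968 D21192) (tt N4178 (iv D16034)) (tt N10968 F40963) (tt N6989 F27733) (tt N10968 F40964))
theorem Q6991 : ∀ i, i < 6991 → P i := stepQ 6990 Q6990 (allL N6990 (tt N6990 F27734) (tt N9987 (iv F38195)) (tt N4179 F27735) (tt N10968 (iv F40962)) (tt N9973 (iv F38192)) (tt N6990 F27736) (tt N4178 (iv D16035)))
theorem Q6992 : ∀ i, i < 6992 → P i := stepQ 6991 Q6991 (allL N6991 (tt N6939 F35332) (tt N4179 (iv D16036)) (tt N10969 D21193) (tt N10909 (iv F40814)) (tt N9974 (iv F38150)) (tt N6945 (iv F35334)) (tt N4180 F27737))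
theorem Q6993 : ∀ i, i < 6993 → P i := stepQ 6992 Q6992 (allL N6992 (tt N4180 (iv D16037)) (tt N10970 D21194) (tt N10971 D21195) (tt N10966 (iv F40953)) (tt N9975 (iv F38155)) (tt N10915 (iv F40841)) (tt N6939 (iv F35333)))
theorem Q6994 : ∀ i, i < 6994 → P i := stepQ 6993 Q6993 (allL N6993 (tt N10971 (iv F40969)) (tt N4190 F27738) (tt N4180 (iv D16038)) (tt N10972 D21196) (tt N9976 (iv F38158)) (tt N10917 F40844) (tt N10969 (iv F40967)))
theorem Q6995 : ∀ i, i < 6995 → P i := stepQ 6994 Q6994 (allL N6994 (tt N6994 F35346) (tt N4194 F27744) (tt N10973 D21197) (tt N4181 (iv D16043)) (tt N10973 (iv F40984)) (tt N10973 F40977) (tt N6994 F27745))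
theorem Q6996 : ∀ i, i < 6996 → P i := stepQ 6995 Q6995 (allL N6995 (tt N6995 F35343) (tt N10004 F40976) (tt N4182 F27746) (tt N10973 (iv F40975)) (tt N9977 (iv F40979)) (tt N4181 (iv D16044)) (tt N6995 F35326))
theorem Q6997 : ∀ i, i < 6997 → P i := stepQ 6996 Q6996 (allL N6996 (tt N6941 (iv F35339)) (tt N4182 (iv D16045)) (tt N10974 D21198) (tt N10912 F40835) (tt N9978 (iv F38167)) (tt N4183 F27747) (tt N6948 F35337))
theorem Q6998 : ∀ i, i < 6998 → P i := stepQ 6997 Q6997 (allL N6997 (tt N4183 (iv D16046)) (tt N10975 D21199) (tt N10976 D21200) (tt N10967 (iv F40956)) (tt N9979 (iv F38172)) (tt N6941 F35338) (tt N10919 (iv F40847)))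
theorem Q6999 : ∀ i, i < 6999 → P i := stepQ 6998 Q6998 (allL N6998 (tt N10976 (iv F40989)) (tt N4198 F27748) (tt N4183 (iv D16047)) (tt N10977 D21201) (tt N9980 (iv F38175)) (tt N10974 (iv F40986)) (tt N10921 F40850))
theorem Q7000 : ∀ i, i < 7000 → P i := stepQ 6999 Q6999 (allL N6999 (tt N9530 (iv F37089)) (tt N6290 (iv F27751)) (tt N4184 (iv D16049)) (tt N5898 F27750) (tt N9981 (iv F38176)) (tt N10978 D21202) (tt N10979 D21203))
theorem Q7001 : ∀ i, i < 7001 → P i := stepQ 7000 Q7000 (allL N7000 (tt N9491 (iv F36985)) (tt N4234 F27756) (tt N10978 (iv F40992)) (tt N4200 F27757) (tt N9982 (iv F38179)) (tt N4184 (iv D16050)) (tt N10980 D21204))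
theorem Q7002 : ∀ i, i < 7002 → P i := stepQ 7001 Q7001 (allL N7001 (tt N9532 (iv F37093)) (tt N7114 (iv F28001)) (tt N10979 (iv F40994)) (tt N4201 F27758) (tt N9983 (iv F38181)) (tt N10981 D21205) (tt N4184 (iv D16051)))
theorem Q7003 : ∀ i, i < 7003 → P i := stepQ 7002 Q7002 (allL N7002 (tt N7039 (iv F27817)) (tt N8669 (iv F33620)) (tt N4186 (iv D16052)) (tt N7037 (iv F27812)) (tt N8669 (iv F33623)) (tt N4240 F27759) (tt N10982 D21206))
theorem Q7004 : ∀ i, i < 7004 → P i := stepQ 7003 Q7003 (allL N7003 (tt N4236 F27760) (tt N10968 (iv F40960)) (tt N8669 (iv F33621)) (tt N9987 (iv F38196)) (tt N4186 (iv D16053)) (tt N4241 F27761) (tt N10983 D21207))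
theorem Q7005 : ∀ i, i < 7005 → P i := stepQ 7004 Q7004 (allL N7004 (tt N7103 (iv F27986)) (tt N10983 (iv F41005)) (tt N10982 (iv F41001)) (tt N4187 F27762) (tt N10983 (iv F41007)) (tt N7093 (iv F27975)) (tt N4186 (iv D16054)))
theorem Q7006 : ∀ i, i < 7006 → P i := stepQ 7005 Q7005 (allL N7005 (tt N10984 D21208) (tt N4187 (iv D16055)) (tt N10985 D21209) (tt N10983 (iv F41006)) (tt N9988 (iv F38201)) (tt N10986 D21210) (tt N9987 F38198))
theorem Q7007 : ∀ i, i < 7007 → P i := stepQ 7006 Q7006 (allL N7006 (tt N4188 (iv D16056)) (tt N10987 D21211) (tt N10988 D21212) (tt N4208 F27763) (tt N9989 (iv F38203)) (tt N7014 (iv F27775)) (tt N4189 F27764))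
theorem Q7008 : ∀ i, i < 7008 → P i := stepQ 7007 Q7007 (allL N7007 (tt N10988 (iv F41017)) (tt N10985 (iv F41012)) (tt N4188 (iv D16057)) (tt N10989 D21213) (tt N9990 (iv F38205)) (tt N10990 D21214) (tt N4190 F27765))
theorem Q7009 : ∀ i, i < 7009 → P i := stepQ 7008 Q7008 (allL N7008 (tt N7014 (iv F27773)) (tt N7097 (iv F27977)) (tt N10990 (iv F41020)) (tt N4210 F27766) (tt N9991 (iv F38208)) (tt N4188 (iv D16058)) (tt N7011 (iv F27771)))
theorem Q7010 : ∀ i, i < 7010 → P i := stepQ 7009 Q7009 (allL N7009 (tt N9552 (iv F37161)) (tt N4189 (iv D16059)) (tt N10991 D21215) (tt N4211 F27767) (tt N9992 (iv F38210)) (tt N10109 F38470) (tt N10992 D21216))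
theorem Q7011 : ∀ i, i < 7011 → P i := stepQ 7010 Q7010 (allL N7010 (tt N4190 F27768) (tt N10993 D21217) (tt N4189 (iv D16060)) (tt N10994 D21218) (tt N9993 (iv F38213)) (tt N10995 D21219) (tt N10988 (iv F41018)))
theorem Q7012 : ∀ i, i < 7012 → P i := stepQ 7011 Q7011 (allL N7011 (tt N4191 F27769) (tt N10011 (iv F38258)) (tt N10995 (iv F41027)) (tt N4213 F27770) (tt N9994 (iv F38217)) (tt N4189 (iv D16061)) (tt N7008 F27771))
theorem Q7013 : ∀ i, i < 7013 → P i := stepQ 7012 Q7012 (allL N7012 (tt N10994 (iv F41025)) (tt N10972 (iv F40971)) (tt N10996 D21220) (tt N4190 (iv D16062)) (tt N10997 D21221) (tt N10998 D21222) (tt N10989 (iv F41019)))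
theorem Q7014 : ∀ i, i < 7014 → P i := stepQ 7013 Q7013 (allL N7013 (tt N10995 (iv F41026)) (tt N10999 D21223) (tt N4191 F27772) (tt N10998 (iv F41029)) (tt N9996 (iv F38220)) (tt N4190 (iv D16063)) (tt N11000 D21224))
theorem Q7015 : ∀ i, i < 7015 → P i := stepQ 7014 Q7014 (allL N7014 (tt N7008 F27773) (tt N11001 D21225) (tt N11000 (iv F41032)) (tt N4216 F27774) (tt N9997 (iv F38223)) (tt N7006 F27775) (tt N4191 (iv D16064)))
theorem Q7016 : ∀ i, i < 7016 → P i := stepQ 7015 Q7015 (allL N7015 (tt N9543 (iv F37131)) (tt N6317 F34692) (tt N4192 (iv D16066)) (tt N5920 (iv F34693)) (tt N9998 (iv F38225)) (tt N11002 D21226) (tt N11003 D21227))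
theorem Q7017 : ∀ i, i < 7017 → P i := stepQ 7016 Q7016 (allL N7016 (tt N9545 (iv F37135)) (tt N7154 (iv F28062)) (tt N11002 (iv F41037)) (tt N4217 F27777) (tt N9999 (iv F38227)) (tt N4192 (iv D16067)) (tt N11004 D21228))
theorem Q7018 : ∀ i, i < 7018 → P i := stepQ 7017 Q7017 (allL N7017 (tt N9492 (iv F36988)) (tt N4256 F27778) (tt N11003 (iv F41039)) (tt N4218 F27779) (tt N10000 (iv F38230)) (tt N11005 D21229) (tt N4192 (iv D16068)))
theorem Q7019 : ∀ i, i < 7019 → P i := stepQ 7018 Q7018 (allL N7018 (tt N7067 (iv F27912)) (tt N8681 (iv F35351)) (tt N4194 (iv D16071)) (tt N7065 (iv F27907)) (tt N8681 F34682) (tt N11006 D21230) (tt N4261 F27782))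
theorem Q7020 : ∀ i, i < 7020 → P i := stepQ 7019 Q7019 (allL N7019 (tt N4257 F34679) (tt N10973 (iv F40973)) (tt N8681 F34680) (tt N10004 (iv F38241)) (tt N4194 (iv D16072)) (tt N11007 D21231) (tt N4262 F27783))
theorem Q7021 : ∀ i, i < 7021 → P i := stepQ 7020 Q7020 (allL N7020 (tt N7143 (iv F28043)) (tt N11007 (iv F41050)) (tt N11006 (iv F41046)) (tt N4195 F27784) (tt N11007 (iv F41052)) (tt N4194 (iv D16073)) (tt N7133 (iv F28033)))
theorem Q7022 : ∀ i, i < 7022 → P i := stepQ 7021 Q7021 (allL N7021 (tt N11008 D21232) (tt N4195 (iv D16074)) (tt N11009 D21233) (tt N11007 (iv F41051)) (tt N10005 (iv F40983)) (tt N10004 (iv F40981)) (tt N11010 D21234))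
theorem Q7023 : ∀ i, i < 7023 → P i := stepQ 7022 Q7022 (allL N7022 (tt N4196 (iv D16075)) (tt N11011 D21235) (tt N11012 D21236) (tt N4225 F27785) (tt N10006 (iv F38246)) (tt N4197 F27786) (tt N7030 (iv F27797)))
theorem Q7024 : ∀ i, i < 7024 → P i := stepQ 7023 Q7023 (allL N7023 (tt N11012 (iv F41062)) (tt N11009 (iv F41057)) (tt N4196 (iv D16076)) (tt N11013 D21237) (tt N10007 (iv F38248)) (tt N4198 F27787) (tt N11014 D21238))
theorem Q7025 : ∀ i, i < 7025 → P i := stepQ 7024 Q7024 (allL N7024 (tt N7030 (iv F27795)) (tt N7137 (iv F28035)) (tt N11014 (iv F41065)) (tt N4227 F27788) (tt N10008 (iv F38251)) (tt N7027 (iv F27793)) (tt N4196 (iv D16077)))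
theorem Q7026 : ∀ i, i < 7026 → P i := stepQ 7025 Q7025 (allL N7025 (tt N9539 (iv F37119)) (tt N4197 (iv D16078)) (tt N11015 D21239) (tt N4228 F27789) (tt N10009 (iv F38253)) (tt N11016 D21240) (tt N10090 (iv F38424)))
theorem Q7027 : ∀ i, i < 7027 → P i := stepQ 7026 Q7026 (allL N7026 (tt N4198 F27790) (tt N11017 D21241) (tt N4197 (iv D16079)) (tt N11018 D21242) (tt N10010 (iv F38256)) (tt N11012 (iv F41063)) (tt N11019 D21243))
theorem Q7028 : ∀ i, i < 7028 → P i := stepQ 7027 Q7027 (allL N7027 (tt N4199 F27791) (tt N9994 (iv F38215)) (tt N11019 (iv F41072)) (tt N4230 F27792) (tt N10011 (iv F38260)) (tt N7024 F27793) (tt N4197 (iv D16080)))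
theorem Q7029 : ∀ i, i < 7029 → P i := stepQ 7028 Q7028 (allL N7028 (tt N11018 (iv F41070)) (tt N10977 (iv F40991)) (tt N11020 D21244) (tt N4198 (iv D16081)) (tt N11021 D21245) (tt N11013 (iv F41064)) (tt N11022 D21246))
theorem Q7030 : ∀ i, i < 7030 → P i := stepQ 7029 Q7029 (allL N7029 (tt N11019 (iv F41071)) (tt N11023 D21247) (tt N4199 F27794) (tt N11022 (iv F41074)) (tt N10013 (iv F38263)) (tt N11024 D21248) (tt N4198 (iv D16082)))
theorem Q7031 : ∀ i, i < 7031 → P i := stepQ 7030 Q7030 (allL N7030 (tt N7024 F27795) (tt N11025 D21249) (tt N11024 (iv F41077)) (tt N4233 F27796) (tt N10014 (iv F38266)) (tt N4199 (iv D16083)) (tt N7022 F27797))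
theorem Q7032 : ∀ i, i < 7032 → P i := stepQ 7031 Q7031 (allL N7031 (tt N7032 (iv F27801)) (tt N10055 (iv F38347)) (tt N5877 F27798) (tt N10980 (iv F40996)) (tt N4488 F27799) (tt N5875 F27800) (tt N4200 (iv D16084)))
theorem Q7033 : ∀ i, i < 7033 → P i := stepQ 7032 Q7032 (allL N7032 (tt N7031 F27801) (tt N7333 F28441) (tt N5848 F27802) (tt N10981 (iv F40999)) (tt N4489 F27803) (tt N4201 (iv D16085)) (tt N5847 F27804))
theorem Q7034 : ∀ i, i < 7034 → P i := stepQ 7033 Q7033 (allL N7033 (tt N4202 (iv D16086)) (tt N5318 (iv F27833)) (tt N9527 (iv F37079)) (tt N5317 F27832) (tt N4490 F27805) (tt N11026 D21250) (tt N11027 D21251))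
theorem Q7035 : ∀ i, i < 7035 → P i := stepQ 7034 Q7034 (allL N7034 (tt N5317 (iv F27830)) (tt N4203 F27806) (tt N5319 (iv F27831)) (tt N4202 (iv D16087)) (tt N5513 F27829) (tt N11028 D21252) (tt N11029 D21253))
theorem Q7036 : ∀ i, i < 7036 → P i := stepQ 7035 Q7035 (allL N7035 (tt N11026 (iv F41082)) (tt N4287 F27807) (tt N5610 (iv F29004)) (tt N11028 (iv F41093)) (tt N4492 F27808) (tt N4202 (iv D16088)) (tt N11030 D21254))
theorem Q7037 : ∀ i, i < 7037 → P i := stepQ 7036 Q7036 (allL N7036 (tt N11027 (iv F41087)) (tt N7222 (iv F28219)) (tt N9528 (iv F37083)) (tt N11029 (iv F41097)) (tt N4493 F27809) (tt N11031 D21255) (tt N4202 (iv D16089)))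
theorem Q7038 : ∀ i, i < 7038 → P i := stepQ 7037 Q7037 (allL N7037 (tt N4204 F27810) (tt N5273 F27824) (tt N4203 (iv D16090)) (tt N7002 F27812) (tt N4989 (iv F27825)) (tt N4289 F27811) (tt N7212 (iv F28201)))
theorem Q7039 : ∀ i, i < 7039 → P i := stepQ 7038 Q7038 (allL N7038 (tt N4205 F27813) (tt N5513 (iv F27828)) (tt N4989 F27826) (tt N4495 F27814) (tt N4203 (iv D16091)) (tt N4290 F27815) (tt N7214 (iv F28208)))
theorem Q7040 : ∀ i, i < 7040 → P i := stepQ 7039 Q7039 (allL N7039 (tt N7002 F27817) (tt N4961 (iv F27820)) (tt N6253 F27818) (tt N4204 (iv D16093)) (tt N5257 (iv F27821)) (tt N4297 F27819) (tt N11032 D21256))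
theorem Q7041 : ∀ i, i < 7041 → P i := stepQ 7040 Q7040 (allL N7040 (tt N7212 (iv F28199)) (tt N11033 D21257) (tt N4206 F27836) (tt N11032 (iv F41107)) (tt N4990 F27837) (tt N7192 (iv F28158)) (tt N4204 (iv D16094)))
theorem Q7042 : ∀ i, i < 7042 → P i := stepQ 7041 Q7041 (allL N7041 (tt N7214 (iv F28205)) (tt N11034 D21258) (tt N4990 F27838) (tt N4500 F27839) (tt N4206 F27840) (tt N7193 (iv F28162)) (tt N4205 (iv D16095)))
theorem Q7043 : ∀ i, i < 7043 → P i := stepQ 7042 Q7042 (allL N7042 (tt N10950 F40914) (tt N4206 (iv D16096)) (tt N11035 D21259) (tt N4207 F27841) (tt N11034 (iv F41113)) (tt N11036 D21260) (tt N7042 F27842))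
theorem Q7044 : ∀ i, i < 7044 → P i := stepQ 7043 Q7043 (allL N7043 (tt N7084 F29374) (tt N4209 F27845) (tt N4207 (iv D16098)) (tt N11037 D21261) (tt N4502 F27846) (tt N11038 D21262) (tt N7043 F27847))
theorem Q7045 : ∀ i, i < 7045 → P i := stepQ 7044 Q7044 (allL N7044 (tt N10952 (iv F40918)) (tt N7197 (iv F28167)) (tt N11038 (iv F41119)) (tt N11036 (iv F41116)) (tt N4503 F27848) (tt N4207 (iv D16099)) (tt N10952 (iv F40920)))
theorem Q7046 : ∀ i, i < 7046 → P i := stepQ 7045 Q7045 (allL N7045 (tt N9942 (iv F38047)) (tt N4208 (iv D16100)) (tt N11039 D21263) (tt N10987 (iv F41016)) (tt N4504 F27849) (tt N7326 F28430) (tt N11040 D21264))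
theorem Q7047 : ∀ i, i < 7047 → P i := stepQ 7046 Q7046 (allL N7046 (tt N4209 F27850) (tt N11041 D21265) (tt N4208 (iv D16101)) (tt N11042 D21266) (tt N4505 F27851) (tt N7057 (iv F27877)) (tt N4212 F27852))
theorem Q7048 : ∀ i, i < 7048 → P i := stepQ 7047 Q7047 (allL N7047 (tt N11042 (iv F41127)) (tt N11037 (iv F41117)) (tt N11043 D21267) (tt N4209 (iv D16102)) (tt N11044 D21268) (tt N11045 D21269) (tt N4214 F27853))
theorem Q7049 : ∀ i, i < 7049 → P i := stepQ 7048 Q7048 (allL N7048 (tt N7057 (iv F27874)) (tt N11046 D21270) (tt N4210 F27854) (tt N11045 (iv F41132)) (tt N4507 F27855) (tt N4209 (iv D16103)) (tt N7052 (iv F27867)))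
theorem Q7050 : ∀ i, i < 7050 → P i := stepQ 7049 Q7049 (allL N7049 (tt N6304 F27859) (tt N11040 (iv F41123)) (tt N9551 (iv F37156)) (tt N10992 (iv F41023)) (tt N4510 F27860) (tt N6314 (iv F27861)) (tt N4211 (iv D16106)))
theorem Q7051 : ∀ i, i < 7051 → P i := stepQ 7050 Q7050 (allL N7050 (tt N11047 D21271) (tt N4212 (iv D16107)) (tt N9550 (iv F37152)) (tt N11048 D21272) (tt N4511 F27862) (tt N11049 D21273) (tt N11050 D21274))
theorem Q7052 : ∀ i, i < 7052 → P i := stepQ 7051 Q7051 (allL N7051 (tt N4214 F27863) (tt N11048 (iv F41135)) (tt N11051 D21275) (tt N4212 (iv D16108)) (tt N11052 D21276) (tt N11053 D21277) (tt N11042 (iv F41128)))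
theorem Q7053 : ∀ i, i < 7053 → P i := stepQ 7052 Q7052 (allL N7052 (tt N4215 F27864) (tt N11054 D21278) (tt N4213 F27865) (tt N11053 (iv F41145)) (tt N4513 F27866) (tt N4212 (iv D16109)) (tt N7048 F27867))
theorem Q7054 : ∀ i, i < 7054 → P i := stepQ 7053 Q7053 (allL N7053 (tt N11051 (iv F41140)) (tt N8866 (iv F58171)) (tt N4214 (iv D16110)) (tt N11055 D21280) (tt N11056 D21281) (tt N11057 D21282) (tt N11043 (iv F41129)))
theorem Q7055 : ∀ i, i < 7055 → P i := stepQ 7054 Q7054 (allL N7054 (tt N11052 (iv F41142)) (tt N7054 F27868) (tt N11056 (iv F41151)) (tt N4515 F27869) (tt N4214 (iv D16111)) (tt N11058 D21283) (tt N11044 (iv F41131)))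
theorem Q7056 : ∀ i, i < 7056 → P i := stepQ 7055 Q7055 (allL N7055 (tt N11053 (iv F41144)) (tt N11059 D21284) (tt N11057 (iv F41152)) (tt N4215 F27870) (tt N11058 (iv F41154)) (tt N4214 (iv D16112)) (tt N11060 D21285))
theorem Q7057 : ∀ i, i < 7057 → P i := stepQ 7056 Q7056 (allL N7056 (tt N7071 F35217) (tt N4215 (iv D16113)) (tt N6983 F27871) (tt N11059 (iv F41155)) (tt N4517 F27872) (tt N7056 F27873) (tt N11061 D21286))
theorem Q7058 : ∀ i, i < 7058 → P i := stepQ 7057 Q7057 (allL N7057 (tt N7048 F27874) (tt N11062 D21287) (tt N4216 F27875) (tt N11060 (iv F41158)) (tt N4518 F27876) (tt N7046 F27877) (tt N4215 (iv D16114)))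
theorem Q7059 : ∀ i, i < 7059 → P i := stepQ 7058 Q7058 (allL N7058 (tt N6301 (iv F27880)) (tt N4216 (iv D16115)) (tt N11063 D21288) (tt N11001 (iv F41034)) (tt N4519 F27878) (tt N7368 (iv F28510)) (tt N6299 F27879))
theorem Q7060 : ∀ i, i < 7060 → P i := stepQ 7059 Q7059 (allL N7059 (tt N7060 (iv F27897)) (tt N7233 F28239) (tt N5851 (iv F35290)) (tt N11004 (iv F41041)) (tt N4523 F27895) (tt N5850 (iv F34716)) (tt N4217 (iv D16123)))
theorem Q7061 : ∀ i, i < 7061 → P i := stepQ 7060 Q7060 (allL N7060 (tt N7059 F27897) (tt N10020 (iv F38277)) (tt N5886 F35291) (tt N11005 (iv F41044)) (tt N4524 F27898) (tt N4218 (iv D16124)) (tt N5884 (iv F34714)))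
theorem Q7062 : ∀ i, i < 7062 → P i := stepQ 7061 Q7061 (allL N7061 (tt N4219 (iv D16125)) (tt N5338 F34799) (tt N9540 (iv F37121)) (tt N5337 F34800) (tt N4525 F27900) (tt N11064 D21289) (tt N11065 D21290))
theorem Q7063 : ∀ i, i < 7063 → P i := stepQ 7062 Q7062 (allL N7062 (tt N5337 F34801) (tt N4220 F27901) (tt N5339 F34802) (tt N4219 (iv D16126)) (tt N5557 F34803) (tt N11066 D21291) (tt N11067 D21292))
theorem Q7064 : ∀ i, i < 7064 → P i := stepQ 7063 Q7063 (allL N7063 (tt N11064 (iv F41166)) (tt N7322 (iv F28421)) (tt N9541 (iv F37125)) (tt N11066 (iv F41176)) (tt N4527 F27902) (tt N4219 (iv D16127)) (tt N11068 D21293))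
theorem Q7065 : ∀ i, i < 7065 → P i := stepQ 7064 Q7064 (allL N7064 (tt N11065 (iv F41169)) (tt N4339 F27903) (tt N5647 F35284) (tt N11067 (iv F41181)) (tt N4528 F27904) (tt N11069 D21294) (tt N4219 (iv D16128)))
theorem Q7066 : ∀ i, i < 7066 → P i := stepQ 7065 Q7065 (allL N7065 (tt N4221 F27905) (tt N5295 F34651) (tt N4220 (iv D16129)) (tt N7018 F27907) (tt N4993 F34652) (tt N7312 (iv F28403)) (tt N4340 F27906))
theorem Q7067 : ∀ i, i < 7067 → P i := stepQ 7066 Q7066 (allL N7066 (tt N4222 F27908) (tt N5557 F34648) (tt N4993 F34649) (tt N4530 F27909) (tt N4220 (iv D16130)) (tt N7314 (iv F28410)) (tt N4341 F27910))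
theorem Q7068 : ∀ i, i < 7068 → P i := stepQ 7067 Q7067 (allL N7067 (tt N7018 F27912) (tt N4964 F34654) (tt N6265 (iv F34658)) (tt N4221 (iv D16132)) (tt N5265 F34655) (tt N11070 D21295) (tt N4348 F27914))
theorem Q7069 : ∀ i, i < 7069 → P i := stepQ 7068 Q7068 (allL N7068 (tt N7312 (iv F28401)) (tt N11071 D21296) (tt N4223 F27917) (tt N11070 (iv F41191)) (tt N4994 F34656) (tt N4221 (iv D16134)) (tt N7293 (iv F28370)))
theorem Q7070 : ∀ i, i < 7070 → P i := stepQ 7069 Q7069 (allL N7069 (tt N7314 (iv F28407)) (tt N11072 D21297) (tt N4994 F34650) (tt N4535 F27918) (tt N4223 F27919) (tt N4222 (iv D16135)) (tt N7294 (iv F28374)))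
theorem Q7071 : ∀ i, i < 7071 → P i := stepQ 7070 Q7070 (allL N7070 (tt N10962 F40944) (tt N4223 (iv D16136)) (tt N11073 D21298) (tt N4224 F27920) (tt N11072 (iv F41197)) (tt N7070 F27921) (tt N11074 D21299))
theorem Q7072 : ∀ i, i < 7072 → P i := stepQ 7071 Q7071 (allL N7071 (tt N7056 (iv F35217)) (tt N4226 F27924) (tt N4224 (iv D16138)) (tt N11075 D21300) (tt N4537 F27925) (tt N7071 F27926) (tt N11076 D21301))
theorem Q7073 : ∀ i, i < 7073 → P i := stepQ 7072 Q7072 (allL N7072 (tt N10964 (iv F40948)) (tt N7298 (iv F28379)) (tt N11076 (iv F41205)) (tt N11074 (iv F41200)) (tt N4538 F27927) (tt N10964 (iv F40950)) (tt N4224 (iv D16139)))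
theorem Q7074 : ∀ i, i < 7074 → P i := stepQ 7073 Q7073 (allL N7073 (tt N9940 (iv F38042)) (tt N4225 (iv D16140)) (tt N11077 D21302) (tt N11011 (iv F41061)) (tt N4539 F27928) (tt N11078 D21303) (tt N7225 F28226))
theorem Q7075 : ∀ i, i < 7075 → P i := stepQ 7074 Q7074 (allL N7074 (tt N4226 F27929) (tt N11079 D21304) (tt N4225 (iv D16141)) (tt N11080 D21305) (tt N4540 F27930) (tt N4229 F27931) (tt N7085 (iv F27957)))
theorem Q7076 : ∀ i, i < 7076 → P i := stepQ 7075 Q7075 (allL N7075 (tt N11080 (iv F41214)) (tt N11075 (iv F41202)) (tt N11081 D21306) (tt N4226 (iv D16142)) (tt N11082 D21307) (tt N4231 F27932) (tt N11083 D21308))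
theorem Q7077 : ∀ i, i < 7077 → P i := stepQ 7076 Q7076 (allL N7076 (tt N7085 (iv F27954)) (tt N11084 D21309) (tt N4227 F27933) (tt N11083 (iv F41219)) (tt N4542 F27934) (tt N7080 (iv F27947)) (tt N4226 (iv D16143)))
theorem Q7078 : ∀ i, i < 7078 → P i := stepQ 7077 Q7077 (allL N7077 (tt N6278 F27939) (tt N11078 (iv F41210)) (tt N9538 (iv F37114)) (tt N11016 (iv F41068)) (tt N4545 F27940) (tt N4228 (iv D16146)) (tt N6287 F27941))
theorem Q7079 : ∀ i, i < 7079 → P i := stepQ 7078 Q7078 (allL N7078 (tt N11085 D21310) (tt N4229 (iv D16147)) (tt N9537 (iv F37110)) (tt N11086 D21311) (tt N4546 F27942) (tt N11087 D21312) (tt N11088 D21313))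
theorem Q7080 : ∀ i, i < 7080 → P i := stepQ 7079 Q7079 (allL N7079 (tt N4231 F27943) (tt N11086 (iv F41222)) (tt N11089 D21314) (tt N4229 (iv D16148)) (tt N11090 D21315) (tt N11080 (iv F41215)) (tt N11091 D21316))
theorem Q7081 : ∀ i, i < 7081 → P i := stepQ 7080 Q7080 (allL N7080 (tt N4232 F27944) (tt N11092 D21317) (tt N4230 F27945) (tt N11091 (iv F41232)) (tt N4548 F27946) (tt N7076 F27947) (tt N4229 (iv D16149)))
theorem Q7082 : ∀ i, i < 7082 → P i := stepQ 7081 Q7081 (allL N7081 (tt N11089 (iv F41227)) (tt N8880 (iv F58271)) (tt N4231 (iv D16150)) (tt N11093 D21319) (tt N11094 D21320) (tt N11081 (iv F41216)) (tt N11095 D21321))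
theorem Q7083 : ∀ i, i < 7083 → P i := stepQ 7082 Q7082 (allL N7082 (tt N11090 (iv F41229)) (tt N7082 F27948) (tt N11094 (iv F41238)) (tt N4550 F27949) (tt N4231 (iv D16151)) (tt N11082 (iv F41218)) (tt N11096 D21322))
theorem Q7084 : ∀ i, i < 7084 → P i := stepQ 7083 Q7083 (allL N7083 (tt N11091 (iv F41231)) (tt N11097 D21323) (tt N11095 (iv F41239)) (tt N4232 F27950) (tt N11096 (iv F41241)) (tt N11098 D21324) (tt N4231 (iv D16152)))
theorem Q7085 : ∀ i, i < 7085 → P i := stepQ 7084 Q7084 (allL N7084 (tt N7043 (iv F29374)) (tt N4232 (iv D16153)) (tt N6972 F27951) (tt N11097 (iv F41242)) (tt N4552 F27952) (tt N11099 D21325) (tt N7084 F27953))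
theorem Q7086 : ∀ i, i < 7086 → P i := stepQ 7085 Q7085 (allL N7085 (tt N7076 F27954) (tt N11100 D21326) (tt N4233 F27955) (tt N11098 (iv F41246)) (tt N4553 F27956) (tt N4232 (iv D16154)) (tt N7074 F27957))
theorem Q7087 : ∀ i, i < 7087 → P i := stepQ 7086 Q7086 (allL N7086 (tt N6328 (iv F27960)) (tt N4233 (iv D16155)) (tt N11101 D21327) (tt N11025 (iv F41079)) (tt N4554 F27958) (tt N6326 F27959) (tt N7268 (iv F28306)))
theorem Q7088 : ∀ i, i < 7088 → P i := stepQ 7087 Q7087 (allL N7087 (tt N7089 (iv F27966)) (tt N11102 D21328) (tt N5261 F27961) (tt N4282 F27962) (tt N10083 (iv F38402)) (tt N5259 F27963) (tt N4234 (iv D16156)))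
theorem Q7089 : ∀ i, i < 7089 → P i := stepQ 7088 Q7088 (allL N7088 (tt N11103 D21329) (tt N4235 (iv D16157)) (tt N11104 D21330) (tt N4283 F27964) (tt N10084 (iv F38406)) (tt N11105 D21331) (tt N4239 F27965))
theorem Q7090 : ∀ i, i < 7090 → P i := stepQ 7089 Q7089 (allL N7089 (tt N7087 F27966) (tt N11106 D21332) (tt N5235 F27967) (tt N4284 F27968) (tt N10085 (iv F38412)) (tt N4235 (iv D16158)) (tt N5234 F27969))
theorem Q7091 : ∀ i, i < 7091 → P i := stepQ 7090 Q7090 (allL N7090 (tt N9987 (iv F38194)) (tt N4237 F27970) (tt N11107 D21333) (tt N4236 (iv D16159)) (tt N9985 (iv F38188)) (tt N9984 (iv F38183)) (tt N10984 (iv F41010)))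
theorem Q7092 : ∀ i, i < 7092 → P i := stepQ 7091 Q7091 (allL N7091 (tt N4241 F27971) (tt N9985 (iv F38187)) (tt N7208 (iv F28190)) (tt N9984 F38184) (tt N4237 F27972) (tt N4236 (iv D16160)) (tt N11108 D21334))
theorem Q7093 : ∀ i, i < 7093 → P i := stepQ 7092 Q7092 (allL N7092 (tt N10983 (iv F41004)) (tt N11109 D21335) (tt N8670 (iv F33625)) (tt N10984 (iv F41008)) (tt N7103 (iv F27988)) (tt N7101 (iv F27983)) (tt N4236 (iv D16161)))
theorem Q7094 : ∀ i, i < 7094 → P i := stepQ 7093 Q7093 (allL N7093 (tt N4242 F27973) (tt N11110 D21336) (tt N7209 (iv F28194)) (tt N4238 F27974) (tt N11108 (iv F41275)) (tt N7004 F27975) (tt N4237 (iv D16162)))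
theorem Q7095 : ∀ i, i < 7095 → P i := stepQ 7094 Q7094 (allL N7094 (tt N11111 D21337) (tt N4238 (iv D16163)) (tt N11112 D21338) (tt N11110 (iv F41278)) (tt N10087 (iv F38417)) (tt N11113 D21339) (tt N11109 (iv F41277)))
theorem Q7096 : ∀ i, i < 7096 → P i := stepQ 7095 Q7095 (allL N7095 (tt N4239 (iv D16164)) (tt N11114 D21340) (tt N11115 D21341) (tt N4293 F27976) (tt N10088 (iv F38419)) (tt N11116 D21342) (tt N11103 (iv F41262)))
theorem Q7097 : ∀ i, i < 7097 → P i := stepQ 7096 Q7096 (allL N7096 (tt N11115 (iv F41286)) (tt N11112 (iv F41279)) (tt N4239 (iv D16165)) (tt N11117 D21343) (tt N10089 (iv F38420)) (tt N11118 D21344) (tt N11104 (iv F41264)))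
theorem Q7098 : ∀ i, i < 7098 → P i := stepQ 7097 Q7097 (allL N7097 (tt N11116 (iv F41287)) (tt N7008 F27977) (tt N11118 (iv F41291)) (tt N4295 F27978) (tt N10090 (iv F38423)) (tt N4239 (iv D16166)) (tt N10009 F38254))
theorem Q7099 : ∀ i, i < 7099 → P i := stepQ 7098 Q7098 (allL N7098 (tt N11119 D21345) (tt N4240 (iv D16167)) (tt N7098 F27979) (tt N7190 (iv F28150)) (tt N11120 D21346) (tt N11120 F41297) (tt N11121 D21347))
theorem Q7100 : ∀ i, i < 7100 → P i := stepQ 7099 Q7099 (allL N7099 (tt N7208 (iv F28189)) (tt N11120 (iv F41295)) (tt N4241 F27980) (tt N8694 (iv F33678)) (tt N4240 (iv D16168)) (tt N8669 (iv F33624)) (tt N11122 D21348))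
theorem Q7101 : ∀ i, i < 7101 → P i := stepQ 7100 Q7100 (allL N7100 (tt N7209 (iv F28193)) (tt N11123 D21349) (tt N4242 F27981) (tt N7192 (iv F28157)) (tt N11122 (iv F41301)) (tt N11032 (iv F41109)) (tt N4240 (iv D16169)))
theorem Q7102 : ∀ i, i < 7102 → P i := stepQ 7101 Q7101 (allL N7101 (tt N11108 (iv F41273)) (tt N11124 D21350) (tt N11122 (iv F41299)) (tt N10094 (iv F38428)) (tt N4242 F27982) (tt N7092 F27983) (tt N4241 (iv D16170)))
theorem Q7103 : ∀ i, i < 7103 → P i := stepQ 7102 Q7102 (allL N7102 (tt N10095 (iv F41328)) (tt N4242 (iv D16171)) (tt N11125 D21352) (tt N4243 F27984) (tt N11124 (iv F41303)) (tt N11126 D21353) (tt N7102 F27985))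
theorem Q7104 : ∀ i, i < 7104 → P i := stepQ 7103 Q7103 (allL N7103 (tt N7004 F27986) (tt N11127 D21354) (tt N11032 (iv F41106)) (tt N4244 F27987) (tt N7092 F27988) (tt N4242 (iv D16172)) (tt N6253 F27989))
theorem Q7105 : ∀ i, i < 7105 → P i := stepQ 7104 Q7104 (allL N7104 (tt N7164 (iv F41327)) (tt N4246 F27991) (tt N4243 (iv D16174)) (tt N11128 D21358) (tt N7164 (iv F28084)) (tt N11129 D21359) (tt N7104 F27992))
theorem Q7106 : ∀ i, i < 7106 → P i := stepQ 7105 Q7105 (allL N7105 (tt N10097 (iv F41329)) (tt N11130 D21360) (tt N11129 (iv F41318)) (tt N11126 (iv F41308)) (tt N10097 (iv F38437)) (tt N4243 (iv D16175)) (tt N10097 (iv F41330)))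
theorem Q7107 : ∀ i, i < 7107 → P i := stepQ 7106 Q7106 (allL N7106 (tt N11131 D21361) (tt N4244 (iv D16176)) (tt N11132 D21362) (tt N11127 (iv F41309)) (tt N10098 (iv F38438)) (tt N11130 (iv F41319)) (tt N11133 D21363))
theorem Q7108 : ∀ i, i < 7108 → P i := stepQ 7107 Q7107 (allL N7107 (tt N11134 D21364) (tt N4245 (iv D16177)) (tt N11135 D21365) (tt N4306 F27993) (tt N7160 (iv F28079)) (tt N11136 D21366) (tt N11137 D21367))
theorem Q7109 : ∀ i, i < 7109 → P i := stepQ 7108 Q7108 (allL N7108 (tt N4246 F27994) (tt N11138 D21368) (tt N4245 (iv D16178)) (tt N11139 D21369) (tt N7159 (iv F28076)) (tt N7125 (iv F28017)) (tt N4250 F27995))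
theorem Q7110 : ∀ i, i < 7110 → P i := stepQ 7109 Q7109 (allL N7109 (tt N11139 (iv F41343)) (tt N11128 (iv F41316)) (tt N11140 D21370) (tt N4246 (iv D16179)) (tt N11141 D21371) (tt N11142 D21372) (tt N4252 F27996))
theorem Q7111 : ∀ i, i < 7111 → P i := stepQ 7110 Q7110 (allL N7110 (tt N7125 (iv F28015)) (tt N11143 D21373) (tt N4247 F27997) (tt N11142 (iv F41347)) (tt N7165 (iv F28088)) (tt N4246 (iv D16180)) (tt N7119 (iv F28009)))
theorem Q7112 : ∀ i, i < 7112 → P i := stepQ 7111 Q7111 (allL N7111 (tt N11144 D21374) (tt N4247 (iv D16181)) (tt N11145 D21375) (tt N4310 F27998) (tt N7166 (iv F28091)) (tt N4248 F27999) (tt N11146 D21376))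
theorem Q7113 : ∀ i, i < 7113 → P i := stepQ 7112 Q7112 (allL N7112 (tt N4248 (iv D16182)) (tt N9968 F38127) (tt N11147 D21377) (tt N4311 F28000) (tt N10099 (iv F38440)) (tt N11144 (iv F41349)) (tt N11148 D21378))
theorem Q7114 : ∀ i, i < 7114 → P i := stepQ 7113 Q7113 (allL N7113 (tt N11147 (iv F41354)) (tt N11132 (iv F41320)) (tt N4248 (iv D16183)) (tt N11149 D21379) (tt N10100 (iv F38442)) (tt N11145 (iv F41351)) (tt N11150 D21380))
theorem Q7115 : ∀ i, i < 7115 → P i := stepQ 7114 Q7114 (allL N7114 (tt N11148 (iv F41355)) (tt N7001 F28001) (tt N11150 (iv F41360)) (tt N4313 F28002) (tt N10101 (iv F38445)) (tt N11151 D21381) (tt N4248 (iv D16184)))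
theorem Q7116 : ∀ i, i < 7116 → P i := stepQ 7115 Q7115 (allL N7115 (tt N8686 (iv F37359)) (tt N11152 D21382) (tt N8685 F37349) (tt N4316 F28004) (tt N7155 (iv F28069)) (tt N4249 (iv D16187)) (tt N10936 F40888))
theorem Q7117 : ∀ i, i < 7117 → P i := stepQ 7116 Q7116 (allL N7116 (tt N8691 (iv F37354)) (tt N11137 (iv F41341)) (tt N8690 F37350) (tt N4317 F28005) (tt N7156 (iv F28071)) (tt N11153 D21383) (tt N4249 (iv D16188)))
theorem Q7118 : ∀ i, i < 7118 → P i := stepQ 7117 Q7117 (allL N7117 (tt N11154 D21384) (tt N4250 (iv D16189)) (tt N8689 F37348) (tt N11155 D21385) (tt N7157 (iv F28072)) (tt N11156 D21386) (tt N11157 D21387))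
theorem Q7119 : ∀ i, i < 7119 → P i := stepQ 7118 Q7118 (allL N7118 (tt N4252 F28006) (tt N11155 (iv F41373)) (tt N7260 (iv F28291)) (tt N4250 (iv D16190)) (tt N11158 D21388) (tt N11159 D21389) (tt N11139 (iv F41344)))
theorem Q7120 : ∀ i, i < 7120 → P i := stepQ 7119 Q7119 (allL N7119 (tt N4253 F28007) (tt N11160 D21390) (tt N4251 F28008) (tt N11159 (iv F41376)) (tt N7148 (iv F28053)) (tt N4250 (iv D16191)) (tt N7110 F28009))
theorem Q7121 : ∀ i, i < 7121 → P i := stepQ 7120 Q7120 (allL N7120 (tt N10882 (iv F40737)) (tt N4251 (iv D16192)) (tt N11161 D21391) (tt N4321 F28010) (tt N7147 (iv F28051)) (tt N11152 (iv F41365)) (tt N10880 F40735))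

end Cfsg.Agent.Helper17.SuzbTC
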