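import Cfsg.Agent.Helper17.SuzbTC.Fin3

set_option autoImplicit false
set_option linter.all false
set_option maxRecDepth 100000

noncomputable section

namespace Cfsg.Agent.Helper17.SuzbTC

theorem Q7122 : ∀ i, i < 7122 → P i := stepQ 7121 Q7121 (allL N7121 (tt N7260 (iv F28290)) (tt N11162 D21392) (tt N4252 (iv D16193)) (tt N7254 (iv F28281)) (tt N11163 D21393) (tt N11164 D21394) (tt N11140 (iv F41345)))
theorem Q7123 : ∀ i, i < 7123 → P i := stepQ 7122 Q7122 (allL N7122 (tt N11158 (iv F41374)) (tt N7122 F28011) (tt N11163 (iv F41379)) (tt N7162 (iv F28081)) (tt N4252 (iv D16194)) (tt N11165 D21395) (tt N11141 (iv F41346)))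
theorem Q7124 : ∀ i, i < 7124 → P i := stepQ 7123 Q7123 (allL N7123 (tt N11159 (iv F41375)) (tt N11166 D21396) (tt N11164 (iv F41380)) (tt N4253 F28012) (tt N11165 (iv F41381)) (tt N4252 (iv D16195)) (tt N11167 D21397))
theorem Q7125 : ∀ i, i < 7125 → P i := stepQ 7124 Q7124 (allL N7124 (tt N7144 F37352) (tt N4253 (iv D16196)) (tt N6272 F28013) (tt N11166 (iv F41382)) (tt N7144 (iv F28048)) (tt N7124 F28014) (tt N11168 D21398))
theorem Q7126 : ∀ i, i < 7126 → P i := stepQ 7125 Q7125 (allL N7125 (tt N7110 F28015) (tt N11169 D21399) (tt N4254 F28016) (tt N11167 (iv F41385)) (tt N7150 (iv F28057)) (tt N7108 F28017) (tt N4253 (iv D16197)))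
theorem Q7127 : ∀ i, i < 7127 → P i := stepQ 7126 Q7126 (allL N7126 (tt N11170 D21400) (tt N4254 (iv D16198)) (tt N11171 D21401) (tt N4326 F28018) (tt N7151 (iv F28059)) (tt N11172 D21402) (tt N6274 F28019))
theorem Q7128 : ∀ i, i < 7128 → P i := stepQ 7127 Q7127 (allL N7127 (tt N11173 D21403) (tt N4255 (iv D16199)) (tt N11174 D21404) (tt N4333 F28020) (tt N10102 (iv F38447)) (tt N4260 F28021) (tt N11175 D21405))
theorem Q7129 : ∀ i, i < 7129 → P i := stepQ 7128 Q7128 (allL N7128 (tt N7129 (iv F28025)) (tt N11116 (iv F41288)) (tt N5239 F28022) (tt N4334 F28023) (tt N10103 (iv F38452)) (tt N5238 F28024) (tt N4255 (iv D16200)))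
theorem Q7130 : ∀ i, i < 7130 → P i := stepQ 7129 Q7129 (allL N7129 (tt N7128 F28025) (tt N11176 D21406) (tt N5269 F28026) (tt N4335 F28027) (tt N10104 (iv F38457)) (tt N4256 (iv D16201)) (tt N5267 F28028))
theorem Q7131 : ∀ i, i < 7131 → P i := stepQ 7130 Q7130 (allL N7130 (tt N10004 (iv F38240)) (tt N4258 F28029) (tt N11177 D21407) (tt N4257 (iv D16203)) (tt N10002 (iv F38237)) (tt N11008 (iv F41055)) (tt N10001 (iv F38232)))
theorem Q7132 : ∀ i, i < 7132 → P i := stepQ 7131 Q7131 (allL N7131 (tt N11007 (iv F41049)) (tt N11178 D21408) (tt N8682 (iv F33645)) (tt N11008 (iv F41053)) (tt N7143 (iv F34684)) (tt N4257 (iv D16204)) (tt N7141 F34683))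
theorem Q7133 : ∀ i, i < 7133 → P i := stepQ 7132 Q7132 (allL N7132 (tt N4262 F34673) (tt N10002 (iv F38236)) (tt N7308 (iv F34675)) (tt N10001 F38233) (tt N4258 F34674) (tt N11179 D21409) (tt N4257 (iv D16205)))
theorem Q7134 : ∀ i, i < 7134 → P i := stepQ 7133 Q7133 (allL N7133 (tt N4263 F28031) (tt N11180 D21410) (tt N7309 (iv F28397)) (tt N4259 F28032) (tt N11179 (iv F41413)) (tt N4258 (iv D16207)) (tt N7020 F28033))
theorem Q7135 : ∀ i, i < 7135 → P i := stepQ 7134 Q7134 (allL N7134 (tt N11181 D21411) (tt N4259 (iv D16208)) (tt N11182 D21412) (tt N11180 (iv F41415)) (tt N10106 (iv F38463)) (tt N11178 (iv F41410)) (tt N11183 D21413))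
theorem Q7136 : ∀ i, i < 7136 → P i := stepQ 7135 Q7135 (allL N7135 (tt N4260 (iv D16209)) (tt N11184 D21414) (tt N11185 D21415) (tt N4344 F28034) (tt N10107 (iv F38465)) (tt N11173 (iv F41396)) (tt N11106 F41270))
theorem Q7137 : ∀ i, i < 7137 → P i := stepQ 7136 Q7136 (allL N7136 (tt N11185 (iv F41423)) (tt N11182 (iv F41416)) (tt N4260 (iv D16210)) (tt N11186 D21416) (tt N10108 (iv F38466)) (tt N11174 (iv F41398)) (tt N11187 D21417))
theorem Q7138 : ∀ i, i < 7138 → P i := stepQ 7137 Q7137 (allL N7137 (tt N11106 (iv F41268)) (tt N7024 F28035) (tt N11187 (iv F41424)) (tt N4346 F28036) (tt N10109 (iv F38469)) (tt N9992 F38211) (tt N4260 (iv D16211)))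
theorem Q7139 : ∀ i, i < 7139 → P i := stepQ 7138 Q7138 (allL N7138 (tt N11188 D21418) (tt N4261 (iv D16212)) (tt N7138 F28037) (tt N7291 (iv F28364)) (tt N11189 D21419) (tt N11190 D21420) (tt N11189 F41430))
theorem Q7140 : ∀ i, i < 7140 → P i := stepQ 7139 Q7139 (allL N7139 (tt N7308 (iv F28394)) (tt N11189 (iv F41428)) (tt N4262 F28038) (tt N8740 F34681) (tt N4261 (iv D16213)) (tt N11191 D21421) (tt N8681 (iv F34678)))
theorem Q7141 : ∀ i, i < 7141 → P i := stepQ 7140 Q7140 (allL N7140 (tt N7309 (iv F28396)) (tt N11192 D21422) (tt N4263 F28039) (tt N7293 (iv F28369)) (tt N11191 (iv F41434)) (tt N4261 (iv D16214)) (tt N11070 (iv F41193)))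
theorem Q7142 : ∀ i, i < 7142 → P i := stepQ 7141 Q7141 (allL N7141 (tt N11179 (iv F41411)) (tt N11193 D21423) (tt N11191 (iv F41432)) (tt N10113 (iv F38474)) (tt N4263 F28040) (tt N4262 (iv D16215)) (tt N7131 (iv F34683)))
theorem Q7143 : ∀ i, i < 7143 → P i := stepQ 7142 Q7142 (allL N7142 (tt N10114 F38478) (tt N4263 (iv D16216)) (tt N11194 D21424) (tt N4264 F28041) (tt N11193 (iv F41436)) (tt N7142 F28042) (tt N11195 D21425))
theorem Q7144 : ∀ i, i < 7144 → P i := stepQ 7143 Q7143 (allL N7143 (tt N7020 F28043) (tt N11196 D21426) (tt N11070 (iv F41190)) (tt N4265 F28044) (tt N7131 F34684) (tt N6265 (iv F34660)) (tt N4263 (iv D16217)))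
theorem Q7145 : ∀ i, i < 7145 → P i := stepQ 7144 Q7144 (allL N7144 (tt N7124 (iv F37352)) (tt N4267 F28047) (tt N4264 (iv D16219)) (tt N11197 D21427) (tt N7124 F28048) (tt N7144 F28049) (tt N11198 D21428))
theorem Q7146 : ∀ i, i < 7146 → P i := stepQ 7145 Q7145 (allL N7145 (tt N10116 (iv F38482)) (tt N11199 D21429) (tt N11198 (iv F41447)) (tt N11195 (iv F41439)) (tt N10116 (iv F38483)) (tt N10116 (iv F38484)) (tt N4264 (iv D16220)))
theorem Q7147 : ∀ i, i < 7147 → P i := stepQ 7146 Q7146 (allL N7146 (tt N11200 D21430) (tt N4265 (iv D16221)) (tt N11201 D21431) (tt N11196 (iv F41440)) (tt N10117 (iv F38485)) (tt N11202 D21432) (tt N11199 (iv F41450)))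
theorem Q7148 : ∀ i, i < 7148 → P i := stepQ 7147 Q7147 (allL N7147 (tt N11203 D21433) (tt N4266 (iv D16222)) (tt N11204 D21434) (tt N4357 F28050) (tt N7120 F28051) (tt N11205 D21435) (tt N11206 D21436))
theorem Q7149 : ∀ i, i < 7149 → P i := stepQ 7148 Q7148 (allL N7148 (tt N4267 F28052) (tt N11207 D21437) (tt N4266 (iv D16223)) (tt N11208 D21438) (tt N7119 F28053) (tt N4271 F28054) (tt N7165 (iv F28089)))
theorem Q7150 : ∀ i, i < 7150 → P i := stepQ 7149 Q7149 (allL N7149 (tt N11208 (iv F41472)) (tt N11197 (iv F41444)) (tt N11209 D21439) (tt N4267 (iv D16224)) (tt N11210 D21440) (tt N4273 F28055) (tt N11211 D21441))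
theorem Q7151 : ∀ i, i < 7151 → P i := stepQ 7150 Q7150 (allL N7150 (tt N7165 (iv F28086)) (tt N11212 D21442) (tt N4268 F28056) (tt N11211 (iv F41477)) (tt N7125 F28057) (tt N7159 (iv F28077)) (tt N4267 (iv D16225)))
theorem Q7152 : ∀ i, i < 7152 → P i := stepQ 7151 Q7151 (allL N7151 (tt N11213 D21443) (tt N4268 (iv D16226)) (tt N11214 D21444) (tt N4361 F28058) (tt N7126 F28059) (tt N11215 D21445) (tt N4269 F28060))
theorem Q7153 : ∀ i, i < 7153 → P i := stepQ 7152 Q7152 (allL N7152 (tt N4269 (iv D16227)) (tt N9962 F38111) (tt N11216 D21446) (tt N4362 F28061) (tt N10118 (iv F38487)) (tt N11217 D21447) (tt N11213 (iv F41481)))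
theorem Q7154 : ∀ i, i < 7154 → P i := stepQ 7153 Q7153 (allL N7153 (tt N11216 (iv F41488)) (tt N11201 (iv F41451)) (tt N4269 (iv D16228)) (tt N11218 D21448) (tt N10119 (iv F38489)) (tt N11219 D21449) (tt N11214 (iv F41484)))
theorem Q7155 : ∀ i, i < 7155 → P i := stepQ 7154 Q7154 (allL N7154 (tt N11217 (iv F41489)) (tt N7016 F28062) (tt N11219 (iv F41494)) (tt N4364 F28063) (tt N10120 (iv F38492)) (tt N4269 (iv D16229)) (tt N11220 D21450))
theorem Q7156 : ∀ i, i < 7156 → P i := stepQ 7155 Q7155 (allL N7155 (tt N8679 F37361) (tt N11205 (iv F41464)) (tt N8678 (iv F37360)) (tt N4367 F28068) (tt N7115 F28069) (tt N4270 (iv D16232)) (tt N11221 D21451))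
theorem Q7157 : ∀ i, i < 7157 → P i := stepQ 7156 Q7156 (allL N7156 (tt N8674 F37356) (tt N11222 D21452) (tt N8673 (iv F37355)) (tt N4368 F28070) (tt N7116 F28071) (tt N10926 F40867) (tt N4270 (iv D16233)))
theorem Q7158 : ∀ i, i < 7158 → P i := stepQ 7157 Q7157 (allL N7157 (tt N11223 D21453) (tt N4271 (iv D16234)) (tt N8677 (iv F37364)) (tt N11224 D21454) (tt N7117 F28072) (tt N11225 D21455) (tt N11226 D21456))
theorem Q7159 : ∀ i, i < 7159 → P i := stepQ 7158 Q7158 (allL N7158 (tt N4273 F28073) (tt N11224 (iv F41510)) (tt N7360 (iv F28495)) (tt N4271 (iv D16235)) (tt N11227 D21457) (tt N11208 (iv F41473)) (tt N11228 D21458))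
theorem Q7160 : ∀ i, i < 7160 → P i := stepQ 7159 Q7159 (allL N7159 (tt N4274 F28074) (tt N11229 D21459) (tt N4272 F28075) (tt N11228 (iv F41516)) (tt N7108 F28076) (tt N7150 F28077) (tt N4271 (iv D16236)))
theorem Q7161 : ∀ i, i < 7161 → P i := stepQ 7160 Q7160 (allL N7160 (tt N10874 (iv F40720)) (tt N4272 (iv D16237)) (tt N11230 D21460) (tt N4372 F28078) (tt N7107 F28079) (tt N10872 F40718) (tt N11222 (iv F41508)))
theorem Q7162 : ∀ i, i < 7162 → P i := stepQ 7161 Q7161 (allL N7161 (tt N7360 (iv F28494)) (tt N11231 D21461) (tt N4273 (iv D16238)) (tt N7354 (iv F28485)) (tt N11232 D21462) (tt N11209 (iv F41474)) (tt N11233 D21463))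
theorem Q7163 : ∀ i, i < 7163 → P i := stepQ 7162 Q7162 (allL N7162 (tt N11227 (iv F41513)) (tt N7162 F28080) (tt N11232 (iv F41521)) (tt N7122 F28081) (tt N4273 (iv D16239)) (tt N11210 (iv F41476)) (tt N11234 D21464))
theorem Q7164 : ∀ i, i < 7164 → P i := stepQ 7163 Q7163 (allL N7163 (tt N11228 (iv F41515)) (tt N11235 D21465) (tt N11233 (iv F41522)) (tt N4274 F28082) (tt N11234 (iv F41524)) (tt N11236 D21466) (tt N4273 (iv D16240)))
theorem Q7165 : ∀ i, i < 7165 → P i := stepQ 7164 Q7164 (allL N7164 (tt N7104 F41327) (tt N4274 (iv D16241)) (tt N6260 F28083) (tt N11235 (iv F41525)) (tt N7104 F28084) (tt N11237 D21467) (tt N7164 F28085))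
theorem Q7166 : ∀ i, i < 7166 → P i := stepQ 7165 Q7165 (allL N7165 (tt N7150 F28086) (tt N11238 D21468) (tt N4275 F28087) (tt N11236 (iv F41529)) (tt N7110 F28088) (tt N4274 (iv D16242)) (tt N7148 F28089))
theorem Q7167 : ∀ i, i < 7167 → P i := stepQ 7166 Q7166 (allL N7166 (tt N11239 D21469) (tt N4275 (iv D16243)) (tt N11240 D21470) (tt N4377 F28090) (tt N7111 F28091) (tt N6262 F28092) (tt N11241 D21471))
theorem Q7168 : ∀ i, i < 7168 → P i := stepQ 7167 Q7167 (allL N7167 (tt N6162 F28093) (tt N4276 (iv D16244)) (tt N11242 D21472) (tt N8622 F33538) (tt N4555 F28094) (tt N6893 F28095) (tt N7299 (iv F28382)))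
theorem Q7169 : ∀ i, i < 7169 → P i := stepQ 7168 Q7168 (allL N7168 (tt N9971 (iv F38135)) (tt N4277 (iv D16245)) (tt N9399 (iv F36750)) (tt N8672 (iv F33628)) (tt N4556 F28096) (tt N6975 (iv F28097)) (tt N9398 (iv F36748)))
theorem Q7170 : ∀ i, i < 7170 → P i := stepQ 7169 Q7169 (allL N7169 (tt N10187 (iv F38656)) (tt N4279 F28098) (tt N5054 F28099) (tt N4278 (iv D16246)) (tt N8790 (iv F33868)) (tt N8789 F33864) (tt N11243 D21473))
theorem Q7171 : ∀ i, i < 7171 → P i := stepQ 7170 Q7170 (allL N7170 (tt N10188 (iv F38659)) (tt N11244 D21474) (tt N4288 F28105) (tt N11243 (iv F41550)) (tt N4557 F28106) (tt N11245 D21475) (tt N4278 (iv D16248)))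
theorem Q7172 : ∀ i, i < 7172 → P i := stepQ 7171 Q7171 (allL N7171 (tt N10121 (iv F38493)) (tt N8790 (iv F33865)) (tt N5281 F28107) (tt N4558 F28108) (tt N4279 (iv D16249)) (tt N5358 (iv F29017)) (tt N11246 D21476))
theorem Q7173 : ∀ i, i < 7173 → P i := stepQ 7172 Q7172 (allL N7172 (tt N10122 (iv F38498)) (tt N5360 (iv F29019)) (tt N5243 F28109) (tt N4280 F28110) (tt N5358 F29018) (tt N4279 (iv D16250)) (tt N11247 D21477))
theorem Q7174 : ∀ i, i < 7174 → P i := stepQ 7173 Q7173 (allL N7173 (tt N10123 (iv F38502)) (tt N11248 D21478) (tt N5282 F28111) (tt N4281 F28112) (tt N11246 (iv F41560)) (tt N11249 D21479) (tt N4279 (iv D16251)))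
theorem Q7175 : ∀ i, i < 7175 → P i := stepQ 7174 Q7174 (allL N7174 (tt N7176 (iv F28118)) (tt N11250 D21480) (tt N4282 F28114) (tt N11247 (iv F41562)) (tt N4560 F28115) (tt N6282 F28116) (tt N4280 (iv D16253)))
theorem Q7176 : ∀ i, i < 7176 → P i := stepQ 7175 Q7175 (allL N7175 (tt N11251 D21481) (tt N4281 (iv D16254)) (tt N11252 D21482) (tt N11248 (iv F41565)) (tt N4561 F28117) (tt N11253 D21483) (tt N11244 (iv F41552)))
theorem Q7177 : ∀ i, i < 7177 → P i := stepQ 7176 Q7176 (allL N7176 (tt N7174 F28118) (tt N11254 D21484) (tt N4284 F28119) (tt N11249 (iv F41568)) (tt N4562 F28120) (tt N4281 (iv D16255)) (tt N6281 F28121))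
theorem Q7178 : ∀ i, i < 7178 → P i := stepQ 7177 Q7177 (allL N7177 (tt N6234 (iv F28124)) (tt N4282 (iv D16256)) (tt N11255 D21485) (tt N11102 (iv F41256)) (tt N4563 F28122) (tt N6232 F28123) (tt N10055 (iv F38349)))
theorem Q7179 : ∀ i, i < 7179 → P i := stepQ 7178 Q7178 (allL N7178 (tt N4283 (iv D16257)) (tt N10889 (iv F40753)) (tt N11256 D21486) (tt N11103 (iv F41260)) (tt N4564 F28125) (tt N6245 F28127) (tt N4293 F28126))
theorem Q7180 : ∀ i, i < 7180 → P i := stepQ 7179 Q7179 (allL N7179 (tt N11256 (iv F41580)) (tt N11252 (iv F41573)) (tt N4283 (iv D16258)) (tt N11257 D21487) (tt N4565 F28128) (tt N11258 D21488) (tt N4294 F28129))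
theorem Q7181 : ∀ i, i < 7181 → P i := stepQ 7180 Q7180 (allL N7180 (tt N6245 F28130) (tt N7281 (iv F28343)) (tt N11258 (iv F41586)) (tt N11105 (iv F41266)) (tt N4566 F28131) (tt N4283 (iv D16259)) (tt N7200 (iv F28175)))
theorem Q7182 : ∀ i, i < 7182 → P i := stepQ 7181 Q7181 (allL N7181 (tt N4346 F28132) (tt N4284 (iv D16260)) (tt N11259 D21489) (tt N11106 (iv F41269)) (tt N4567 F28133) (tt N7281 (iv F28345)) (tt N4344 (iv F28134)))
theorem Q7183 : ∀ i, i < 7183 → P i := stepQ 7182 Q7182 (allL N7182 (tt N4287 F28135) (tt N10858 (iv F40670)) (tt N9081 (iv F35881)) (tt N8351 F32201) (tt N4569 F28136) (tt N4285 (iv D16261)) (tt N7189 (iv F28149)))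
theorem Q7184 : ∀ i, i < 7184 → P i := stepQ 7183 Q7183 (allL N7183 (tt N4288 F28137) (tt N11260 D21490) (tt N10188 (iv F38660)) (tt N8376 (iv F32257)) (tt N4570 F28138) (tt N7187 (iv F28144)) (tt N4285 (iv D16262)))
theorem Q7185 : ∀ i, i < 7185 → P i := stepQ 7184 Q7184 (allL N7184 (tt N8321 (iv F32072)) (tt N4290 F28139) (tt N8320 (iv F32071)) (tt N4572 F28140) (tt N4286 (iv D16263)) (tt N10646 (iv F40069)) (tt N11261 D21491))
theorem Q7186 : ∀ i, i < 7186 → P i := stepQ 7185 Q7185 (allL N7185 (tt N8351 (iv F32199)) (tt N11028 (iv F41091)) (tt N8350 F32198) (tt N4287 F28141) (tt N10646 (iv F40068)) (tt N4286 (iv D16264)) (tt N11262 D21492))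
theorem Q7187 : ∀ i, i < 7187 → P i := stepQ 7186 Q7186 (allL N7186 (tt N8376 (iv F32255)) (tt N11263 D21493) (tt N8375 (iv F32252)) (tt N4288 F28142) (tt N11261 (iv F41594)) (tt N11264 D21494) (tt N4286 (iv D16265)))
theorem Q7188 : ∀ i, i < 7188 → P i := stepQ 7187 Q7187 (allL N7187 (tt N7189 (iv F28147)) (tt N11265 D21495) (tt N9083 (iv F35885)) (tt N11262 (iv F41596)) (tt N4575 F28143) (tt N7183 F28144) (tt N4287 (iv D16266)))
theorem Q7189 : ∀ i, i < 7189 → P i := stepQ 7188 Q7188 (allL N7188 (tt N11266 D21496) (tt N4288 (iv D16267)) (tt N11267 D21497) (tt N11263 (iv F41598)) (tt N4576 F28145) (tt N10945 (iv F40902)) (tt N4292 F28146))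
theorem Q7190 : ∀ i, i < 7190 → P i := stepQ 7189 Q7189 (allL N7189 (tt N7187 F28147) (tt N6920 (iv F29359)) (tt N11245 (iv F41554)) (tt N11264 (iv F41602)) (tt N4577 F28148) (tt N4288 (iv D16268)) (tt N7182 F28149))
theorem Q7191 : ∀ i, i < 7191 → P i := stepQ 7190 Q7190 (allL N7190 (tt N8591 (iv F33488)) (tt N4289 (iv D16269)) (tt N8374 (iv F32248)) (tt N7098 F28150) (tt N8884 (iv F34081)) (tt N11268 D21498) (tt N11269 D21499))
theorem Q7192 : ∀ i, i < 7192 → P i := stepQ 7191 Q7191 (allL N7191 (tt N4298 F28151) (tt N8884 F34082) (tt N4290 F28152) (tt N5430 (iv F28154)) (tt N4289 (iv D16270)) (tt N4989 F28153) (tt N8284 (iv F31967)))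
theorem Q7193 : ∀ i, i < 7193 → P i := stepQ 7192 Q7192 (allL N7192 (tt N4299 F28155) (tt N11270 D21500) (tt N4291 F28156) (tt N7100 F28157) (tt N8284 (iv F31966)) (tt N7040 F28158) (tt N4289 (iv D16271)))
theorem Q7194 : ∀ i, i < 7194 → P i := stepQ 7193 Q7193 (allL N7193 (tt N4300 F28159) (tt N11271 D21501) (tt N8284 (iv F31964)) (tt N4581 F28160) (tt N4291 F28161) (tt N7041 F28162) (tt N4290 (iv D16272)))
theorem Q7195 : ∀ i, i < 7195 → P i := stepQ 7194 Q7194 (allL N7194 (tt N11272 D21502) (tt N4291 (iv D16273)) (tt N11273 D21503) (tt N4292 F28163) (tt N11271 (iv F41618)) (tt N11274 D21504) (tt N11263 (iv F41599)))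
theorem Q7196 : ∀ i, i < 7196 → P i := stepQ 7195 Q7195 (allL N7195 (tt N4292 (iv D16274)) (tt N11275 D21505) (tt N11276 D21506) (tt N11272 (iv F41619)) (tt N4583 F28164) (tt N11277 D21507) (tt N11266 (iv F41607)))
theorem Q7197 : ∀ i, i < 7197 → P i := stepQ 7196 Q7196 (allL N7196 (tt N11276 (iv F41623)) (tt N4294 F28165) (tt N4292 (iv D16275)) (tt N11278 D21508) (tt N4584 F28166) (tt N11279 D21509) (tt N11267 (iv F41609)))
theorem Q7198 : ∀ i, i < 7198 → P i := stepQ 7197 Q7197 (allL N7197 (tt N11277 (iv F41625)) (tt N7044 F28167) (tt N11279 (iv F41630)) (tt N11274 (iv F41621)) (tt N4585 F28168) (tt N4292 (iv D16276)) (tt N11280 D21510))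
theorem Q7199 : ∀ i, i < 7199 → P i := stepQ 7198 Q7198 (allL N7198 (tt N9933 (iv F38027)) (tt N4293 (iv D16277)) (tt N11281 D21511) (tt N11114 (iv F41282)) (tt N4586 F28169) (tt N7270 (iv F28311)) (tt N6898 (iv F28170)))
theorem Q7200 : ∀ i, i < 7200 → P i := stepQ 7199 Q7199 (allL N7199 (tt N4294 F28171) (tt N11282 D21512) (tt N4293 (iv D16278)) (tt N11283 D21513) (tt N4587 F28172) (tt N11284 D21514) (tt N11256 (iv F41583)))
theorem Q7201 : ∀ i, i < 7201 → P i := stepQ 7200 Q7200 (allL N7200 (tt N4295 F28173) (tt N4334 (iv F28176)) (tt N11284 (iv F41641)) (tt N11116 (iv F41289)) (tt N4588 F28174) (tt N4293 (iv D16279)) (tt N7180 F28175))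
theorem Q7202 : ∀ i, i < 7202 → P i := stepQ 7201 Q7201 (allL N7201 (tt N11283 (iv F41639)) (tt N11278 (iv F41629)) (tt N11285 D21515) (tt N4294 (iv D16280)) (tt N11286 D21516) (tt N11287 D21517) (tt N11257 (iv F41584)))
theorem Q7203 : ∀ i, i < 7203 → P i := stepQ 7202 Q7202 (allL N7202 (tt N11284 (iv F41640)) (tt N11288 D21518) (tt N4295 F28177) (tt N11287 (iv F41645)) (tt N4590 F28178) (tt N4294 (iv D16281)) (tt N10075 (iv F38387)))
theorem Q7204 : ∀ i, i < 7204 → P i := stepQ 7203 Q7203 (allL N7203 (tt N4296 (iv D16282)) (tt N8597 F33487) (tt N4378 F28179) (tt N11289 D21519) (tt N8888 (iv F34087)) (tt N11290 D21520) (tt N11291 D21521))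
theorem Q7205 : ∀ i, i < 7205 → P i := stepQ 7204 Q7204 (allL N7204 (tt N11289 (iv F41648)) (tt N4297 F28180) (tt N11292 D21522) (tt N4296 (iv D16283)) (tt N11293 D21523) (tt N11294 D21524) (tt N11295 D21525))
theorem Q7206 : ∀ i, i < 7206 → P i := stepQ 7205 Q7205 (allL N7205 (tt N8888 (iv F34084)) (tt N4298 F28181) (tt N4379 F28182) (tt N5399 (iv F28183)) (tt N4296 (iv D16284)) (tt N4979 (iv F28184)) (tt N11296 D21526))
theorem Q7207 : ∀ i, i < 7207 → P i := stepQ 7206 Q7206 (allL N7206 (tt N11290 (iv F41650)) (tt N4955 F28185) (tt N4380 F28186) (tt N11294 (iv F41662)) (tt N4979 F28187) (tt N4296 (iv D16285)) (tt N11297 D21527))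
theorem Q7208 : ∀ i, i < 7208 → P i := stepQ 7207 Q7207 (allL N7207 (tt N11291 (iv F41653)) (tt N11298 D21528) (tt N4301 F28188) (tt N11295 (iv F41664)) (tt N11296 (iv F41668)) (tt N11299 D21529) (tt N4296 (iv D16286)))
theorem Q7209 : ∀ i, i < 7209 → P i := stepQ 7208 Q7208 (allL N7208 (tt N7099 F28189) (tt N11293 (iv F41658)) (tt N7091 F28190) (tt N5275 F28191) (tt N4297 (iv D16287)) (tt N5257 F28192) (tt N11300 D21530))
theorem Q7210 : ∀ i, i < 7210 → P i := stepQ 7209 Q7209 (allL N7209 (tt N7100 F28193) (tt N11301 D21531) (tt N7093 F28194) (tt N4299 F28195) (tt N11300 (iv F41685)) (tt N10982 (iv F41003)) (tt N4297 (iv D16288)))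
theorem Q7211 : ∀ i, i < 7211 → P i := stepQ 7210 Q7210 (allL N7210 (tt N8284 (iv F31963)) (tt N8930 (iv F35542)) (tt N4300 F28196) (tt N5436 F28197) (tt N4299 F28198) (tt N8282 (iv F31960)) (tt N4298 (iv D16289)))
theorem Q7212 : ∀ i, i < 7212 → P i := stepQ 7211 Q7211 (allL N7211 (tt N8655 (iv F35544)) (tt N4299 (iv D16290)) (tt N11298 (iv F41673)) (tt N11301 (iv F41686)) (tt N8930 F35543) (tt N8653 (iv F35545)) (tt N11298 (iv F41675)))
theorem Q7213 : ∀ i, i < 7213 → P i := stepQ 7212 Q7212 (allL N7212 (tt N7040 F28199) (tt N11302 D21532) (tt N4302 F28200) (tt N10982 (iv F41002)) (tt N8282 (iv F31959)) (tt N4299 (iv D16291)) (tt N7037 F28201))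
theorem Q7214 : ∀ i, i < 7214 → P i := stepQ 7213 Q7213 (allL N7213 (tt N11303 D21533) (tt N4300 (iv D16292)) (tt N11296 (iv F41666)) (tt N4597 F28202) (tt N4301 F28203) (tt N11304 D21534) (tt N4379 F28204))
theorem Q7215 : ∀ i, i < 7215 → P i := stepQ 7214 Q7214 (allL N7214 (tt N7041 F28205) (tt N11305 D21535) (tt N8282 (iv F31957)) (tt N4598 F28206) (tt N4302 F28207) (tt N4300 (iv D16293)) (tt N7038 F28208))
theorem Q7216 : ∀ i, i < 7216 → P i := stepQ 7215 Q7215 (allL N7215 (tt N4301 (iv D16294)) (tt N11306 D21536) (tt N11291 (iv F41654)) (tt N4303 F28209) (tt N11303 (iv F41688)) (tt N7373 (iv F28538)) (tt N4378 F28210))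
theorem Q7217 : ∀ i, i < 7217 → P i := stepQ 7216 Q7216 (allL N7216 (tt N7373 (iv F28536)) (tt N11307 D21537) (tt N11299 (iv F41679)) (tt N4304 F28211) (tt N11304 (iv F41692)) (tt N4301 (iv D16295)) (tt N7371 (iv F28516)))
theorem Q7218 : ∀ i, i < 7218 → P i := stepQ 7217 Q7217 (allL N7217 (tt N11308 D21538) (tt N4302 (iv D16296)) (tt N11309 D21539) (tt N4305 F28212) (tt N11305 (iv F41694)) (tt N11307 (iv F41697)) (tt N11310 D21540))
theorem Q7219 : ∀ i, i < 7219 → P i := stepQ 7218 Q7218 (allL N7218 (tt N11311 D21541) (tt N4303 (iv D16297)) (tt N11312 D21542) (tt N11306 (iv F41695)) (tt N4603 F28213) (tt N11313 D21543) (tt N11314 D21544))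
theorem Q7220 : ∀ i, i < 7220 → P i := stepQ 7219 Q7219 (allL N7219 (tt N11315 D21545) (tt N4304 (iv D16298)) (tt N11316 D21546) (tt N11307 (iv F41696)) (tt N4607 F28214) (tt N4305 F28215) (tt N10953 (iv F40922)))
theorem Q7221 : ∀ i, i < 7221 → P i := stepQ 7220 Q7220 (allL N7220 (tt N4305 (iv D16299)) (tt N11280 F41635) (tt N11317 D21547) (tt N11308 (iv F41698)) (tt N4608 F28216) (tt N11315 (iv F41709)) (tt N11318 D21548))
theorem Q7222 : ∀ i, i < 7222 → P i := stepQ 7221 Q7221 (allL N7221 (tt N11317 (iv F41712)) (tt N4312 F28217) (tt N4305 (iv D16300)) (tt N11319 D21549) (tt N4609 F28218) (tt N11316 (iv F41711)) (tt N11320 D21550))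
theorem Q7223 : ∀ i, i < 7223 → P i := stepQ 7222 Q7222 (allL N7222 (tt N11318 (iv F41715)) (tt N7036 F28219) (tt N11320 (iv F41720)) (tt N11310 (iv F41700)) (tt N4610 F28220) (tt N11321 D21551) (tt N4305 (iv D16301)))
theorem Q7224 : ∀ i, i < 7224 → P i := stepQ 7223 Q7223 (allL N7223 (tt N4306 (iv D16302)) (tt N9933 (iv F38028)) (tt N11322 D21552) (tt N11134 (iv F41334)) (tt N4611 F28221) (tt N6169 (iv F28222)) (tt N11078 (iv F41212)))
theorem Q7225 : ∀ i, i < 7225 → P i := stepQ 7224 Q7224 (allL N7224 (tt N11322 (iv F41725)) (tt N11323 D21553) (tt N4306 (iv D16303)) (tt N11324 D21554) (tt N4612 F28223) (tt N11325 D21555) (tt N11326 D21556))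
theorem Q7226 : ∀ i, i < 7226 → P i := stepQ 7225 Q7225 (allL N7225 (tt N6169 F28224) (tt N7268 (iv F28304)) (tt N11325 (iv F41731)) (tt N11136 (iv F41338)) (tt N4613 F28225) (tt N4306 (iv D16304)) (tt N7073 (iv F28226)))
theorem Q7227 : ∀ i, i < 7227 → P i := stepQ 7226 Q7226 (allL N7226 (tt N11078 (iv F41209)) (tt N4317 F28227) (tt N11326 (iv F41734)) (tt N11137 (iv F41342)) (tt N4614 F28228) (tt N9940 (iv F38044)) (tt N4306 (iv D16305)))
theorem Q7228 : ∀ i, i < 7228 → P i := stepQ 7227 Q7227 (allL N7227 (tt N11327 D21557) (tt N4307 (iv D16306)) (tt N11323 (iv F41728)) (tt N11328 D21558) (tt N4615 F28229) (tt N11329 D21559) (tt N11330 D21560))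
theorem Q7229 : ∀ i, i < 7229 → P i := stepQ 7228 Q7228 (allL N7228 (tt N4308 F28230) (tt N11328 (iv F41739)) (tt N11331 D21561) (tt N4307 (iv D16307)) (tt N11332 D21562) (tt N7264 (iv F28298)) (tt N4319 F28231))
theorem Q7230 : ∀ i, i < 7230 → P i := stepQ 7229 Q7229 (allL N7229 (tt N11331 (iv F41744)) (tt N11333 D21563) (tt N4308 (iv D16308)) (tt N11334 D21564) (tt N11335 D21565) (tt N11336 D21566) (tt N4322 F28232))
theorem Q7231 : ∀ i, i < 7231 → P i := stepQ 7230 Q7230 (allL N7230 (tt N11332 (iv F41747)) (tt N10270 (iv F38809)) (tt N11335 (iv F41753)) (tt N4618 F28233) (tt N4308 (iv D16309)) (tt N11337 D21567) (tt N4323 F28234))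
theorem Q7232 : ∀ i, i < 7232 → P i := stepQ 7231 Q7231 (allL N7231 (tt N7264 (iv F28296)) (tt N11338 D21568) (tt N11336 (iv F41755)) (tt N4309 F28235) (tt N11337 (iv F41757)) (tt N4308 (iv D16310)) (tt N7256 (iv F28286)))
theorem Q7233 : ∀ i, i < 7233 → P i := stepQ 7232 Q7232 (allL N7232 (tt N11339 D21569) (tt N4309 (iv D16311)) (tt N11340 D21570) (tt N11338 (iv F41758)) (tt N4620 F28236) (tt N10274 (iv F38820)) (tt N11341 D21571))
theorem Q7234 : ∀ i, i < 7234 → P i := stepQ 7233 Q7233 (allL N7233 (tt N4310 (iv D16312)) (tt N7059 (iv F28239)) (tt N11342 D21572) (tt N11144 (iv F41348)) (tt N4621 F28237) (tt N4311 F28238) (tt N7240 (iv F28254)))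
theorem Q7235 : ∀ i, i < 7235 → P i := stepQ 7234 Q7234 (allL N7234 (tt N11342 (iv F41763)) (tt N11340 (iv F41760)) (tt N4310 (iv D16313)) (tt N11343 D21573) (tt N4622 F28240) (tt N4312 F28241) (tt N11344 D21574))
theorem Q7236 : ∀ i, i < 7236 → P i := stepQ 7235 Q7235 (allL N7235 (tt N7240 (iv F28252)) (tt N6930 F28242) (tt N11344 (iv F41769)) (tt N11146 (iv F41353)) (tt N4623 F28243) (tt N7237 (iv F28249)) (tt N4310 (iv D16314)))
theorem Q7237 : ∀ i, i < 7237 → P i := stepQ 7236 Q7236 (allL N7236 (tt N4312 F28244) (tt N6230 F35277) (tt N4311 (iv D16315)) (tt N11345 D21575) (tt N4624 F28245) (tt N11342 (iv F41766)) (tt N11346 D21576))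
theorem Q7238 : ∀ i, i < 7238 → P i := stepQ 7237 Q7237 (allL N7237 (tt N4313 F28246) (tt N6231 F28247) (tt N11346 (iv F41774)) (tt N11148 (iv F41357)) (tt N4625 F28248) (tt N7235 F28249) (tt N4311 (iv D16316)))
theorem Q7239 : ∀ i, i < 7239 → P i := stepQ 7238 Q7238 (allL N7238 (tt N11345 (iv F41771)) (tt N11319 (iv F41719)) (tt N11347 D21577) (tt N4312 (iv D16317)) (tt N11348 D21578) (tt N11343 (iv F41768)) (tt N11349 D21579))
theorem Q7240 : ∀ i, i < 7240 → P i := stepQ 7239 Q7239 (allL N7239 (tt N11346 (iv F41773)) (tt N11350 D21580) (tt N4313 F28250) (tt N11349 (iv F41779)) (tt N4627 F28251) (tt N11351 D21581) (tt N4312 (iv D16318)))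
theorem Q7241 : ∀ i, i < 7241 → P i := stepQ 7240 Q7240 (allL N7240 (tt N7235 F28252) (tt N7340 (iv F28456)) (tt N11351 (iv F41783)) (tt N11151 (iv F41362)) (tt N4628 F28253) (tt N4313 (iv D16319)) (tt N7233 F28254))
theorem Q7242 : ∀ i, i < 7242 → P i := stepQ 7241 Q7241 (allL N7241 (tt N4315 F28255) (tt N11352 D21582) (tt N4314 (iv D16320)) (tt N11353 D21583) (tt N4629 F28256) (tt N11354 D21584) (tt N11355 D21585))
theorem Q7243 : ∀ i, i < 7243 → P i := stepQ 7242 Q7242 (allL N7242 (tt N4316 F28257) (tt N9969 (iv F38129)) (tt N11354 (iv F41791)) (tt N8686 F37363) (tt N4630 F28258) (tt N4314 (iv D16321)) (tt N7249 (iv F28274)))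
theorem Q7244 : ∀ i, i < 7244 → P i := stepQ 7243 Q7243 (allL N7243 (tt N4317 F28259) (tt N6974 (iv F28262)) (tt N11355 (iv F41795)) (tt N8691 F37358) (tt N4631 F28260) (tt N6979 F28261) (tt N4314 (iv D16322)))
theorem Q7245 : ∀ i, i < 7245 → P i := stepQ 7244 Q7244 (allL N7244 (tt N11356 D21586) (tt N4315 (iv D16323)) (tt N4318 F28263) (tt N11357 D21587) (tt N4632 F28264) (tt N11358 D21588) (tt N11359 D21589))
theorem Q7246 : ∀ i, i < 7246 → P i := stepQ 7245 Q7245 (allL N7245 (tt N11353 (iv F41788)) (tt N11357 (iv F41801)) (tt N5314 F37351) (tt N4315 (iv D16324)) (tt N11360 D21590) (tt N11361 D21591) (tt N11362 D21592))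
theorem Q7247 : ∀ i, i < 7247 → P i := stepQ 7246 Q7246 (allL N7246 (tt N11354 (iv F41790)) (tt N11363 D21593) (tt N4316 F28265) (tt N11361 (iv F41810)) (tt N4634 F28266) (tt N4315 (iv D16325)) (tt N10958 (iv F40935)))
theorem Q7248 : ∀ i, i < 7248 → P i := stepQ 7247 Q7247 (allL N7247 (tt N11355 (iv F41794)) (tt N11364 D21594) (tt N4317 F28267) (tt N11362 (iv F41812)) (tt N4635 F28268) (tt N7901 (iv F39808)) (tt N4315 (iv D16326)))
theorem Q7249 : ∀ i, i < 7249 → P i := stepQ 7248 Q7248 (allL N7248 (tt N10896 (iv F40768)) (tt N4316 (iv D16327)) (tt N11365 D21595) (tt N11152 (iv F41364)) (tt N4636 F28269) (tt N4321 F28270) (tt N6929 F28271))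
theorem Q7250 : ∀ i, i < 7250 → P i := stepQ 7249 Q7249 (allL N7249 (tt N6979 F28272) (tt N6184 F28275) (tt N7901 F39809) (tt N11153 (iv F41369)) (tt N4637 F28273) (tt N4317 (iv D16328)) (tt N7242 F28274))
theorem Q7251 : ∀ i, i < 7251 → P i := stepQ 7250 Q7250 (allL N7250 (tt N4318 (iv D16329)) (tt N11366 D21596) (tt N11356 (iv F41799)) (tt N11367 D21597) (tt N4638 F28276) (tt N11368 D21598) (tt N11369 D21599))
theorem Q7252 : ∀ i, i < 7252 → P i := stepQ 7251 Q7251 (allL N7251 (tt N11367 (iv F41821)) (tt N4319 F28277) (tt N11370 D21600) (tt N4318 (iv D16330)) (tt N11371 D21601) (tt N11372 D21602) (tt N11373 D21603))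
theorem Q7253 : ∀ i, i < 7253 → P i := stepQ 7252 Q7252 (allL N7252 (tt N11368 (iv F41822)) (tt N11374 D21604) (tt N11358 (iv F41803)) (tt N11372 (iv F41828)) (tt N4640 F28278) (tt N4318 (iv D16331)) (tt N11375 D21605))
theorem Q7254 : ∀ i, i < 7254 → P i := stepQ 7253 Q7253 (allL N7253 (tt N11369 (iv F41824)) (tt N11330 (iv F41742)) (tt N11359 (iv F41805)) (tt N11373 (iv F41829)) (tt N4641 F28279) (tt N11376 D21606) (tt N4318 (iv D16332)))
theorem Q7255 : ∀ i, i < 7255 → P i := stepQ 7254 Q7254 (allL N7254 (tt N4322 F28280) (tt N11377 D21607) (tt N4319 (iv D16333)) (tt N7121 F28281) (tt N11378 D21608) (tt N11379 D21609) (tt N11331 (iv F41745)))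
theorem Q7256 : ∀ i, i < 7256 → P i := stepQ 7255 Q7255 (allL N7255 (tt N4323 F28282) (tt N11371 (iv F41826)) (tt N11378 (iv F41839)) (tt N4643 F28283) (tt N4319 (iv D16334)) (tt N11380 D21610) (tt N11332 (iv F41749)))
theorem Q7257 : ∀ i, i < 7257 → P i := stepQ 7256 Q7256 (allL N7256 (tt N4324 F28284) (tt N11381 D21611) (tt N11379 (iv F41841)) (tt N4320 F28285) (tt N11380 (iv F41846)) (tt N4319 (iv D16335)) (tt N7231 F28286))
theorem Q7258 : ∀ i, i < 7258 → P i := stepQ 7257 Q7257 (allL N7257 (tt N8549 (iv F33325)) (tt N4320 (iv D16336)) (tt N11382 D21612) (tt N11381 (iv F41848)) (tt N4645 F28287) (tt N11374 (iv F41831)) (tt N11383 D21613))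
theorem Q7259 : ∀ i, i < 7259 → P i := stepQ 7258 Q7258 (allL N7258 (tt N10895 (iv F40765)) (tt N11382 (iv F41849)) (tt N4321 (iv D16337)) (tt N11384 D21614) (tt N4646 F28288) (tt N11365 (iv F41816)) (tt N10893 (iv F40764)))
theorem Q7260 : ∀ i, i < 7260 → P i := stepQ 7259 Q7259 (allL N7259 (tt N11385 D21615) (tt N4322 (iv D16338)) (tt N4392 F28289) (tt N11386 D21616) (tt N11387 D21617) (tt N11388 D21618) (tt N11389 D21619))
theorem Q7261 : ∀ i, i < 7261 → P i := stepQ 7260 Q7260 (allL N7260 (tt N7121 F28290) (tt N11386 (iv F41854)) (tt N7118 F28291) (tt N4322 (iv D16339)) (tt N11390 D21620) (tt N11391 D21621) (tt N11334 (iv F41752)))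
theorem Q7262 : ∀ i, i < 7262 → P i := stepQ 7261 Q7261 (allL N7261 (tt N11378 (iv F41838)) (tt N11387 (iv F41855)) (tt N4323 F28292) (tt N11392 D21622) (tt N4322 (iv D16340)) (tt N11393 D21623) (tt N11335 (iv F41754)))
theorem Q7263 : ∀ i, i < 7263 → P i := stepQ 7262 Q7262 (allL N7262 (tt N11379 (iv F41840)) (tt N11394 D21624) (tt N4324 F28293) (tt N11391 (iv F41863)) (tt N11393 (iv F41865)) (tt N4322 (iv D16341)) (tt N11395 D21625))
theorem Q7264 : ∀ i, i < 7264 → P i := stepQ 7263 Q7263 (allL N7263 (tt N11380 (iv F41844)) (tt N10212 (iv F38701)) (tt N11393 (iv F41864)) (tt N4651 F28294) (tt N4324 F28295) (tt N4323 (iv D16342)) (tt N11396 D21626))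
theorem Q7265 : ∀ i, i < 7265 → P i := stepQ 7264 Q7264 (allL N7264 (tt N7231 F28296) (tt N11397 D21627) (tt N11395 (iv F41867)) (tt N4325 F28297) (tt N11396 (iv F41871)) (tt N7228 F28298) (tt N4324 (iv D16343)))
theorem Q7266 : ∀ i, i < 7266 → P i := stepQ 7265 Q7265 (allL N7265 (tt N11398 D21628) (tt N4325 (iv D16344)) (tt N11399 D21629) (tt N11397 (iv F41873)) (tt N4653 F28299) (tt N11400 D21630) (tt N10221 (iv F38718)))
theorem Q7267 : ∀ i, i < 7267 → P i := stepQ 7266 Q7266 (allL N7266 (tt N4326 (iv D16345)) (tt N10021 (iv F38283)) (tt N11401 D21631) (tt N11170 (iv F41388)) (tt N4654 F28300) (tt N10186 (iv F38655)) (tt N6326 F28301))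
theorem Q7268 : ∀ i, i < 7268 → P i := stepQ 7267 Q7267 (allL N7267 (tt N11401 (iv F41879)) (tt N11399 (iv F41875)) (tt N4326 (iv D16346)) (tt N8646 (iv F39760)) (tt N4655 F28302) (tt N11402 D21632) (tt N6327 F28303))
theorem Q7269 : ∀ i, i < 7269 → P i := stepQ 7268 Q7268 (allL N7268 (tt N10186 (iv F38652)) (tt N7225 F28304) (tt N11402 (iv F41885)) (tt N11172 (iv F41392)) (tt N4656 F28305) (tt N4326 (iv D16347)) (tt N7086 F28306))
theorem Q7270 : ∀ i, i < 7270 → P i := stepQ 7269 Q7269 (allL N7269 (tt N9969 (iv F38128)) (tt N4327 (iv D16348)) (tt N9394 (iv F36728)) (tt N8684 (iv F33650)) (tt N4657 F28307) (tt N9393 (iv F36726)) (tt N6963 (iv F28308)))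
theorem Q7271 : ∀ i, i < 7271 → P i := stepQ 7270 Q7270 (allL N7270 (tt N6163 F28309) (tt N4328 (iv D16349)) (tt N11403 D21633) (tt N8625 F33547) (tt N4658 F28310) (tt N7198 F28311) (tt N6896 F28312))
theorem Q7272 : ∀ i, i < 7272 → P i := stepQ 7271 Q7271 (allL N7271 (tt N10222 (iv F38719)) (tt N4330 F28313) (tt N5064 F28314) (tt N4329 (iv D16350)) (tt N8828 (iv F35263)) (tt N11404 D21634) (tt N8826 F35264))
theorem Q7273 : ∀ i, i < 7273 → P i := stepQ 7272 Q7272 (allL N7272 (tt N10223 (iv F38722)) (tt N11405 D21635) (tt N4338 F28318) (tt N11404 (iv F41895)) (tt N4659 F28319) (tt N4329 (iv D16351)) (tt N11406 D21636))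
theorem Q7274 : ∀ i, i < 7274 → P i := stepQ 7273 Q7273 (allL N7273 (tt N10154 (iv F38574)) (tt N8828 F34787) (tt N5303 F28322) (tt N4660 F28323) (tt N4330 (iv D16353)) (tt N11407 D21637) (tt N5368 F34788))
theorem Q7275 : ∀ i, i < 7275 → P i := stepQ 7274 Q7274 (allL N7274 (tt N10155 (iv F38579)) (tt N11408 D21638) (tt N5304 F28324) (tt N4331 F28325) (tt N11407 (iv F41905)) (tt N4330 (iv D16354)) (tt N11409 D21639))
theorem Q7276 : ∀ i, i < 7276 → P i := stepQ 7275 Q7275 (allL N7275 (tt N10156 (iv F38582)) (tt N5370 F34762) (tt N5251 F28326) (tt N4332 F28327) (tt N5368 F34763) (tt N11410 D21640) (tt N4330 (iv D16355)))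
theorem Q7277 : ∀ i, i < 7277 → P i := stepQ 7276 Q7276 (allL N7276 (tt N11411 D21641) (tt N4331 (iv D16356)) (tt N11412 D21642) (tt N11408 (iv F41906)) (tt N4662 F28328) (tt N11405 (iv F41897)) (tt N11413 D21643))
theorem Q7278 : ∀ i, i < 7278 → P i := stepQ 7277 Q7277 (allL N7277 (tt N7278 (iv F28333)) (tt N11414 D21644) (tt N4334 F28329) (tt N11409 (iv F41908)) (tt N4663 F28330) (tt N6309 F28331) (tt N4331 (iv D16357)))
theorem Q7279 : ∀ i, i < 7279 → P i := stepQ 7278 Q7278 (allL N7278 (tt N7277 F28333) (tt N11415 D21645) (tt N4335 F28334) (tt N11410 (iv F41912)) (tt N4664 F28335) (tt N4332 (iv D16359)) (tt N6308 F28336))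
theorem Q7280 : ∀ i, i < 7280 → P i := stepQ 7279 Q7279 (allL N7279 (tt N4333 (iv D16360)) (tt N10896 (iv F40769)) (tt N11416 D21646) (tt N11173 (iv F41394)) (tt N4665 F28337) (tt N4344 F28338) (tt N6226 (iv F28339)))
theorem Q7281 : ∀ i, i < 7281 → P i := stepQ 7280 Q7280 (allL N7280 (tt N11416 (iv F41922)) (tt N11412 (iv F41916)) (tt N4333 (iv D16361)) (tt N11417 D21647) (tt N4666 F28340) (tt N4345 F28341) (tt N11418 D21648))
theorem Q7282 : ∀ i, i < 7282 → P i := stepQ 7281 Q7281 (allL N7281 (tt N6226 F28342) (tt N7180 F28343) (tt N11418 (iv F41928)) (tt N11175 (iv F41401)) (tt N4667 F28344) (tt N7181 F28345) (tt N4333 (iv D16362)))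
theorem Q7283 : ∀ i, i < 7283 → P i := stepQ 7282 Q7282 (allL N7282 (tt N6216 F28346) (tt N4335 (iv D16363)) (tt N11419 D21649) (tt N11176 (iv F41405)) (tt N4668 F28347) (tt N10020 (iv F38279)) (tt N6213 F28348))
theorem Q7284 : ∀ i, i < 7284 → P i := stepQ 7283 Q7283 (allL N7283 (tt N4338 F28349) (tt N11420 D21650) (tt N10223 (iv F38723)) (tt N8383 (iv F32280)) (tt N4670 F28350) (tt N4336 (iv D16364)) (tt N7290 (iv F28363)))
theorem Q7285 : ∀ i, i < 7285 → P i := stepQ 7284 Q7284 (allL N7284 (tt N4339 F28351) (tt N10863 (iv F40691)) (tt N9135 (iv F36015)) (tt N8355 F32209) (tt N4671 F28352) (tt N7289 (iv F28360)) (tt N4336 (iv D16365)))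
theorem Q7286 : ∀ i, i < 7286 → P i := stepQ 7285 Q7285 (allL N7285 (tt N8324 (iv F32116)) (tt N4341 F28353) (tt N8323 F32080) (tt N4673 F28354) (tt N4337 (iv D16366)) (tt N11421 D21651) (tt N10731 (iv F40291)))
theorem Q7287 : ∀ i, i < 7287 → P i := stepQ 7286 Q7286 (allL N7286 (tt N8383 (iv F32278)) (tt N11422 D21652) (tt N8382 (iv F32275)) (tt N4338 F28355) (tt N11421 (iv F41937)) (tt N4337 (iv D16367)) (tt N11423 D21653))
theorem Q7288 : ∀ i, i < 7288 → P i := stepQ 7287 Q7287 (allL N7287 (tt N8355 (iv F32207)) (tt N11067 (iv F41179)) (tt N8354 F32206) (tt N4339 F28356) (tt N10731 (iv F40290)) (tt N11424 D21654) (tt N4337 (iv D16368)))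
theorem Q7289 : ∀ i, i < 7289 → P i := stepQ 7288 Q7288 (allL N7288 (tt N11425 D21655) (tt N4338 (iv D16369)) (tt N11426 D21656) (tt N11422 (iv F41938)) (tt N4676 F28357) (tt N4343 F28358) (tt N10957 (iv F40932)))
theorem Q7290 : ∀ i, i < 7290 → P i := stepQ 7289 Q7289 (allL N7289 (tt N7290 (iv F28361)) (tt N6928 (iv F35253)) (tt N11406 (iv F41899)) (tt N11423 (iv F41941)) (tt N4677 F28359) (tt N7284 F28360) (tt N4338 (iv D16370)))
theorem Q7291 : ∀ i, i < 7291 → P i := stepQ 7290 Q7290 (allL N7290 (tt N7289 F28361) (tt N11427 D21657) (tt N9137 (iv F36019)) (tt N11424 (iv F41946)) (tt N4678 F28362) (tt N4339 (iv D16371)) (tt N7283 F28363))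
theorem Q7292 : ∀ i, i < 7292 → P i := stepQ 7291 Q7291 (allL N7291 (tt N8592 F34575) (tt N4340 (iv D16372)) (tt N8381 (iv F32271)) (tt N7138 F28364) (tt N8886 (iv F34576)) (tt N11428 D21658) (tt N11429 D21659))
theorem Q7293 : ∀ i, i < 7293 → P i := stepQ 7292 Q7292 (allL N7292 (tt N4349 F28365) (tt N8886 F34572) (tt N4341 F28366) (tt N5475 F34638) (tt N4340 (iv D16373)) (tt N8293 F34639) (tt N4993 F34640))
theorem Q7294 : ∀ i, i < 7294 → P i := stepQ 7293 Q7293 (allL N7293 (tt N4350 F28367) (tt N11430 D21660) (tt N4342 F28368) (tt N7140 F28369) (tt N8293 (iv F35348)) (tt N4340 (iv D16374)) (tt N7068 F28370))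
theorem Q7295 : ∀ i, i < 7295 → P i := stepQ 7294 Q7294 (allL N7294 (tt N4351 F28371) (tt N11431 D21661) (tt N8293 F35349) (tt N4682 F28372) (tt N4342 F28373) (tt N4341 (iv D16375)) (tt N7069 F28374))
theorem Q7296 : ∀ i, i < 7296 → P i := stepQ 7295 Q7295 (allL N7295 (tt N11432 D21662) (tt N4342 (iv D16376)) (tt N11433 D21663) (tt N4343 F28375) (tt N11431 (iv F41961)) (tt N11422 (iv F41939)) (tt N11434 D21664))
theorem Q7297 : ∀ i, i < 7297 → P i := stepQ 7296 Q7296 (allL N7296 (tt N4343 (iv D16377)) (tt N11435 D21665) (tt N11436 D21666) (tt N11432 (iv F41962)) (tt N4684 F28376) (tt N11425 (iv F41949)) (tt N11437 D21667))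
theorem Q7298 : ∀ i, i < 7298 → P i := stepQ 7297 Q7297 (allL N7297 (tt N11436 (iv F41966)) (tt N4345 F28377) (tt N4343 (iv D16378)) (tt N11438 D21668) (tt N4685 F28378) (tt N11426 (iv F41951)) (tt N11439 D21669))
theorem Q7299 : ∀ i, i < 7299 → P i := stepQ 7298 Q7298 (allL N7298 (tt N11437 (iv F41968)) (tt N7072 F28379) (tt N11439 (iv F41973)) (tt N11434 (iv F41964)) (tt N4686 F28380) (tt N11440 D21670) (tt N4343 (iv D16379)))
theorem Q7300 : ∀ i, i < 7300 → P i := stepQ 7299 Q7299 (allL N7299 (tt N9931 (iv F38022)) (tt N4344 (iv D16380)) (tt N11441 D21671) (tt N11184 (iv F41419)) (tt N4687 F28381) (tt N6895 (iv F28383)) (tt N7167 F28382))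
theorem Q7301 : ∀ i, i < 7301 → P i := stepQ 7300 Q7300 (allL N7300 (tt N4345 F28384) (tt N11442 D21672) (tt N4344 (iv D16381)) (tt N11443 D21673) (tt N4688 F28385) (tt N11416 (iv F41924)) (tt N11259 (iv F41590)))
theorem Q7302 : ∀ i, i < 7302 → P i := stepQ 7301 Q7301 (allL N7301 (tt N11443 (iv F41987)) (tt N11438 (iv F41972)) (tt N11444 D21674) (tt N4345 (iv D16382)) (tt N11445 D21675) (tt N11417 (iv F41926)) (tt N11446 D21676))
theorem Q7303 : ∀ i, i < 7303 → P i := stepQ 7302 Q7302 (allL N7302 (tt N11259 (iv F41588)) (tt N11447 D21677) (tt N4346 F28386) (tt N11446 (iv F41989)) (tt N4690 F28387) (tt N10041 (iv F38321)) (tt N4345 (iv D16383)))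
theorem Q7304 : ∀ i, i < 7304 → P i := stepQ 7303 Q7303 (allL N7303 (tt N4347 (iv D16384)) (tt N8601 (iv F34574)) (tt N4394 F28388) (tt N11448 D21678) (tt N8894 F34573) (tt N11449 D21679) (tt N11450 D21680))
theorem Q7305 : ∀ i, i < 7305 → P i := stepQ 7304 Q7304 (allL N7304 (tt N11448 (iv F41992)) (tt N4348 F28389) (tt N11451 D21681) (tt N4347 (iv D16385)) (tt N11452 D21682) (tt N11453 D21683) (tt N11454 D21684))
theorem Q7306 : ∀ i, i < 7306 → P i := stepQ 7305 Q7305 (allL N7305 (tt N8894 (iv F34571)) (tt N4349 F28390) (tt N4395 F28391) (tt N5416 F34636) (tt N4347 (iv D16386)) (tt N11455 D21685) (tt N4984 F34637))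
theorem Q7307 : ∀ i, i < 7307 → P i := stepQ 7306 Q7306 (allL N7306 (tt N11449 (iv F41994)) (tt N11456 D21686) (tt N4352 F28392) (tt N11453 (iv F42005)) (tt N11455 (iv F42012)) (tt N4347 (iv D16387)) (tt N11457 D21687))
theorem Q7308 : ∀ i, i < 7308 → P i := stepQ 7307 Q7307 (allL N7307 (tt N11450 (iv F41996)) (tt N4958 F34634) (tt N4396 F28393) (tt N11454 (iv F42007)) (tt N4984 F34635) (tt N11458 D21688) (tt N4347 (iv D16388)))
theorem Q7309 : ∀ i, i < 7309 → P i := stepQ 7308 Q7308 (allL N7308 (tt N7139 F28394) (tt N11452 (iv F42002)) (tt N7132 F34675) (tt N5298 F34676) (tt N4348 (iv D16389)) (tt N11459 D21689) (tt N5265 F34677))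
theorem Q7310 : ∀ i, i < 7310 → P i := stepQ 7309 Q7309 (allL N7309 (tt N7140 F28396) (tt N11460 D21690) (tt N7133 F28397) (tt N4350 F28398) (tt N11459 (iv F42029)) (tt N4348 (iv D16390)) (tt N11006 (iv F41048)))
theorem Q7311 : ∀ i, i < 7311 → P i := stepQ 7310 Q7310 (allL N7310 (tt N8293 F34642) (tt N8914 F35512) (tt N4351 F28399) (tt N5482 F34643) (tt N4350 F28400) (tt N4349 (iv D16392)) (tt N8291 F34644))
theorem Q7312 : ∀ i, i < 7312 → P i := stepQ 7311 Q7311 (allL N7311 (tt N8640 F35514) (tt N4350 (iv D16393)) (tt N11456 (iv F42014)) (tt N11460 (iv F42030)) (tt N8914 (iv F35513)) (tt N11456 (iv F42016)) (tt N8637 F35515))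
theorem Q7313 : ∀ i, i < 7313 → P i := stepQ 7312 Q7312 (allL N7312 (tt N7068 F28401) (tt N11461 D21691) (tt N4353 F28402) (tt N11006 (iv F41047)) (tt N8291 (iv F35347)) (tt N7065 F28403) (tt N4350 (iv D16394)))
theorem Q7314 : ∀ i, i < 7314 → P i := stepQ 7313 Q7313 (allL N7313 (tt N11462 D21692) (tt N4351 (iv D16395)) (tt N11455 (iv F42010)) (tt N4697 F28404) (tt N4352 F28405) (tt N4395 F28406) (tt N11463 D21693))
theorem Q7315 : ∀ i, i < 7315 → P i := stepQ 7314 Q7314 (allL N7314 (tt N7069 F28407) (tt N11464 D21694) (tt N8291 F35350) (tt N4698 F28408) (tt N4353 F28409) (tt N7066 F28410) (tt N4351 (iv D16396)))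
theorem Q7316 : ∀ i, i < 7316 → P i := stepQ 7315 Q7315 (allL N7315 (tt N4352 (iv D16397)) (tt N11465 D21695) (tt N11449 (iv F41995)) (tt N4354 F28411) (tt N11462 (iv F42032)) (tt N4394 F28412) (tt N7404 (iv F28595)))
theorem Q7317 : ∀ i, i < 7317 → P i := stepQ 7316 Q7316 (allL N7316 (tt N7404 (iv F28593)) (tt N11466 D21696) (tt N11457 (iv F42019)) (tt N4355 F28413) (tt N11463 (iv F42036)) (tt N7402 (iv F28589)) (tt N4352 (iv D16398)))
theorem Q7318 : ∀ i, i < 7318 → P i := stepQ 7317 Q7317 (allL N7317 (tt N11467 D21697) (tt N4353 (iv D16399)) (tt N11468 D21698) (tt N4356 F28414) (tt N11464 (iv F42038)) (tt N11469 D21699) (tt N11466 (iv F42041)))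
theorem Q7319 : ∀ i, i < 7319 → P i := stepQ 7318 Q7318 (allL N7318 (tt N11470 D21700) (tt N4354 (iv D16400)) (tt N11471 D21701) (tt N11465 (iv F42039)) (tt N4703 F28415) (tt N11472 D21702) (tt N11473 D21703))
theorem Q7320 : ∀ i, i < 7320 → P i := stepQ 7319 Q7319 (allL N7319 (tt N11474 D21704) (tt N4355 (iv D16401)) (tt N11475 D21705) (tt N11466 (iv F42040)) (tt N4707 F28416) (tt N10965 (iv F40952)) (tt N4356 F28417))
theorem Q7321 : ∀ i, i < 7321 → P i := stepQ 7320 Q7320 (allL N7320 (tt N4356 (iv D16402)) (tt N11440 F41978) (tt N11476 D21706) (tt N11467 (iv F42042)) (tt N4708 F28418) (tt N11477 D21707) (tt N11474 (iv F42053)))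
theorem Q7322 : ∀ i, i < 7322 → P i := stepQ 7321 Q7321 (allL N7321 (tt N11476 (iv F42056)) (tt N4363 F28419) (tt N4356 (iv D16403)) (tt N11478 D21708) (tt N4709 F28420) (tt N11479 D21709) (tt N11475 (iv F42055)))
theorem Q7323 : ∀ i, i < 7323 → P i := stepQ 7322 Q7322 (allL N7322 (tt N11477 (iv F42059)) (tt N7063 F28421) (tt N11479 (iv F42064)) (tt N11469 (iv F42044)) (tt N4710 F28422) (tt N4356 (iv D16404)) (tt N11480 D21710))
theorem Q7324 : ∀ i, i < 7324 → P i := stepQ 7323 Q7323 (allL N7323 (tt N4357 (iv D16405)) (tt N9931 (iv F38023)) (tt N11481 D21711) (tt N11203 (iv F41460)) (tt N4711 F28423) (tt N11040 (iv F41125)) (tt N6171 (iv F28424)))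
theorem Q7325 : ∀ i, i < 7325 → P i := stepQ 7324 Q7324 (allL N7324 (tt N11481 (iv F42069)) (tt N11482 D21712) (tt N4357 (iv D16406)) (tt N11483 D21713) (tt N4712 F28425) (tt N11484 D21714) (tt N11485 D21715))
theorem Q7326 : ∀ i, i < 7326 → P i := stepQ 7325 Q7325 (allL N7325 (tt N11040 (iv F41122)) (tt N4367 F28426) (tt N11484 (iv F42074)) (tt N11205 (iv F41465)) (tt N4713 F28427) (tt N4357 (iv D16407)) (tt N9942 (iv F38050)))
theorem Q7327 : ∀ i, i < 7327 → P i := stepQ 7326 Q7326 (allL N7326 (tt N6171 F28428) (tt N7368 (iv F28508)) (tt N11485 (iv F42077)) (tt N11206 (iv F41468)) (tt N4714 F28429) (tt N7045 (iv F28430)) (tt N4357 (iv D16408)))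
theorem Q7328 : ∀ i, i < 7328 → P i := stepQ 7327 Q7327 (allL N7327 (tt N11486 D21716) (tt N4358 (iv D16409)) (tt N11482 (iv F42072)) (tt N11487 D21717) (tt N4715 F28431) (tt N11488 D21718) (tt N11489 D21719))
theorem Q7329 : ∀ i, i < 7329 → P i := stepQ 7328 Q7328 (allL N7328 (tt N4359 F28432) (tt N11487 (iv F42081)) (tt N11490 D21720) (tt N4358 (iv D16410)) (tt N11491 D21721) (tt N4370 F28433) (tt N7364 (iv F28502)))
theorem Q7330 : ∀ i, i < 7330 → P i := stepQ 7329 Q7329 (allL N7329 (tt N11490 (iv F42085)) (tt N11492 D21722) (tt N4359 (iv D16411)) (tt N11493 D21723) (tt N11494 D21724) (tt N4373 F28434) (tt N11495 D21725))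
theorem Q7331 : ∀ i, i < 7331 → P i := stepQ 7330 Q7330 (allL N7330 (tt N11491 (iv F42088)) (tt N10287 (iv F38845)) (tt N11494 (iv F42094)) (tt N4718 F28435) (tt N4359 (iv D16412)) (tt N4374 F28436) (tt N11496 D21726))
theorem Q7332 : ∀ i, i < 7332 → P i := stepQ 7331 Q7331 (allL N7331 (tt N7364 (iv F28500)) (tt N11497 D21727) (tt N11495 (iv F42096)) (tt N4360 F28437) (tt N11496 (iv F42098)) (tt N7356 (iv F28490)) (tt N4359 (iv D16413)))
theorem Q7333 : ∀ i, i < 7333 → P i := stepQ 7332 Q7332 (allL N7332 (tt N11498 D21728) (tt N4360 (iv D16414)) (tt N11499 D21729) (tt N11497 (iv F42099)) (tt N4720 F28438) (tt N11500 D21730) (tt N10291 (iv F38857)))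
theorem Q7334 : ∀ i, i < 7334 → P i := stepQ 7333 Q7333 (allL N7333 (tt N4361 (iv D16415)) (tt N7032 (iv F28441)) (tt N11501 D21731) (tt N11213 (iv F41479)) (tt N4721 F28439) (tt N7340 (iv F28458)) (tt N4362 F28440))
theorem Q7335 : ∀ i, i < 7335 → P i := stepQ 7334 Q7334 (allL N7334 (tt N11501 (iv F42104)) (tt N11499 (iv F42101)) (tt N4361 (iv D16416)) (tt N11502 D21732) (tt N4722 F28442) (tt N11503 D21733) (tt N4363 F28443))
theorem Q7336 : ∀ i, i < 7336 → P i := stepQ 7335 Q7335 (allL N7335 (tt N7340 (iv F28455)) (tt N6922 F28444) (tt N11503 (iv F42110)) (tt N11215 (iv F41486)) (tt N4723 F28445) (tt N4361 (iv D16417)) (tt N7337 (iv F28452)))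
theorem Q7337 : ∀ i, i < 7337 → P i := stepQ 7336 Q7336 (allL N7336 (tt N4363 F28446) (tt N6249 F28447) (tt N4362 (iv D16418)) (tt N11504 D21734) (tt N4724 F28448) (tt N11505 D21735) (tt N11501 (iv F42107)))
theorem Q7338 : ∀ i, i < 7338 → P i := stepQ 7337 Q7337 (allL N7337 (tt N4364 F28449) (tt N6250 F28450) (tt N11505 (iv F42115)) (tt N11217 (iv F41491)) (tt N4725 F28451) (tt N4362 (iv D16419)) (tt N7335 F28452))
theorem Q7339 : ∀ i, i < 7339 → P i := stepQ 7338 Q7338 (allL N7338 (tt N11504 (iv F42112)) (tt N11478 (iv F42063)) (tt N11506 D21736) (tt N4363 (iv D16420)) (tt N11507 D21737) (tt N11508 D21738) (tt N11502 (iv F42109)))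
theorem Q7340 : ∀ i, i < 7340 → P i := stepQ 7339 Q7339 (allL N7339 (tt N11505 (iv F42114)) (tt N11509 D21739) (tt N4364 F28453) (tt N11508 (iv F42120)) (tt N4727 F28454) (tt N4363 (iv D16421)) (tt N11510 D21740))
theorem Q7341 : ∀ i, i < 7341 → P i := stepQ 7340 Q7340 (allL N7340 (tt N7335 F28455) (tt N7240 F28456) (tt N11510 (iv F42124)) (tt N11220 (iv F41497)) (tt N4728 F28457) (tt N7333 F28458) (tt N4364 (iv D16422)))
theorem Q7342 : ∀ i, i < 7342 → P i := stepQ 7341 Q7341 (allL N7341 (tt N4366 F28459) (tt N11511 D21741) (tt N4365 (iv D16423)) (tt N11512 D21742) (tt N4729 F28460) (tt N11513 D21743) (tt N11514 D21744))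
theorem Q7343 : ∀ i, i < 7343 → P i := stepQ 7342 Q7342 (allL N7342 (tt N4367 F28461) (tt N6964 (iv F28464)) (tt N11513 (iv F42133)) (tt N8679 (iv F37362)) (tt N4730 F28462) (tt N4365 (iv D16424)) (tt N6968 F28463))
theorem Q7344 : ∀ i, i < 7344 → P i := stepQ 7343 Q7343 (allL N7343 (tt N4368 F28465) (tt N9971 (iv F38136)) (tt N11514 (iv F42137)) (tt N8674 (iv F37357)) (tt N4731 F28466) (tt N7348 (iv F28475)) (tt N4365 (iv D16425)))
theorem Q7345 : ∀ i, i < 7345 → P i := stepQ 7344 Q7344 (allL N7344 (tt N11515 D21745) (tt N4366 (iv D16426)) (tt N4369 F28467) (tt N11516 D21746) (tt N4732 F28468) (tt N11517 D21747) (tt N11518 D21748))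
theorem Q7346 : ∀ i, i < 7346 → P i := stepQ 7345 Q7345 (allL N7345 (tt N11512 (iv F42130)) (tt N11516 (iv F42144)) (tt N5292 F37341) (tt N4366 (iv D16427)) (tt N11519 D21749) (tt N11520 D21750) (tt N11521 D21751))
theorem Q7347 : ∀ i, i < 7347 → P i := stepQ 7346 Q7346 (allL N7346 (tt N11513 (iv F42132)) (tt N11522 D21752) (tt N4367 F28469) (tt N11520 (iv F42155)) (tt N4734 F28470) (tt N4366 (iv D16428)) (tt N7740 F39621))
theorem Q7348 : ∀ i, i < 7348 → P i := stepQ 7347 Q7347 (allL N7347 (tt N11514 (iv F42136)) (tt N11523 D21753) (tt N4368 F28471) (tt N11521 (iv F42159)) (tt N4735 F28472) (tt N10946 (iv F40905)) (tt N4366 (iv D16429)))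
theorem Q7349 : ∀ i, i < 7349 → P i := stepQ 7348 Q7348 (allL N7348 (tt N6968 F28473) (tt N6188 (iv F28476)) (tt N7740 (iv F39620)) (tt N11221 (iv F41501)) (tt N4736 F28474) (tt N7343 F28475) (tt N4367 (iv D16430)))
theorem Q7350 : ∀ i, i < 7350 → P i := stepQ 7349 Q7349 (allL N7349 (tt N10889 (iv F40752)) (tt N4368 (iv D16431)) (tt N11524 D21754) (tt N11222 (iv F41505)) (tt N4737 F28477) (tt N6921 F28478) (tt N4372 F28479))
theorem Q7351 : ∀ i, i < 7351 → P i := stepQ 7350 Q7350 (allL N7350 (tt N4369 (iv D16432)) (tt N11525 D21755) (tt N11515 (iv F42141)) (tt N11526 D21756) (tt N4738 F28480) (tt N11527 D21757) (tt N11528 D21758))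
theorem Q7352 : ∀ i, i < 7352 → P i := stepQ 7351 Q7351 (allL N7351 (tt N11526 (iv F42168)) (tt N4370 F28481) (tt N11529 D21759) (tt N4369 (iv D16433)) (tt N11530 D21760) (tt N11531 D21761) (tt N11532 D21762))
theorem Q7353 : ∀ i, i < 7353 → P i := stepQ 7352 Q7352 (allL N7352 (tt N11527 (iv F42169)) (tt N11488 (iv F42082)) (tt N11517 (iv F42146)) (tt N11531 (iv F42177)) (tt N4740 F28482) (tt N4369 (iv D16434)) (tt N11533 D21763))
theorem Q7354 : ∀ i, i < 7354 → P i := stepQ 7353 Q7353 (allL N7353 (tt N11528 (iv F42171)) (tt N11534 D21764) (tt N11518 (iv F42149)) (tt N11532 (iv F42178)) (tt N4741 F28483) (tt N11535 D21765) (tt N4369 (iv D16435)))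
theorem Q7355 : ∀ i, i < 7355 → P i := stepQ 7354 Q7354 (allL N7354 (tt N4373 F28484) (tt N11536 D21766) (tt N4370 (iv D16436)) (tt N7161 F28485) (tt N11537 D21767) (tt N11490 (iv F42086)) (tt N11538 D21768))
theorem Q7356 : ∀ i, i < 7356 → P i := stepQ 7355 Q7355 (allL N7355 (tt N4374 F28486) (tt N11530 (iv F42175)) (tt N11537 (iv F42188)) (tt N4742 F28487) (tt N4370 (iv D16437)) (tt N11491 (iv F42090)) (tt N11539 D21769))
theorem Q7357 : ∀ i, i < 7357 → P i := stepQ 7356 Q7356 (allL N7356 (tt N4375 F28488) (tt N11540 D21770) (tt N11538 (iv F42190)) (tt N4371 F28489) (tt N11539 (iv F42195)) (tt N7331 F28490) (tt N4370 (iv D16438)))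
theorem Q7358 : ∀ i, i < 7358 → P i := stepQ 7357 Q7357 (allL N7357 (tt N8520 (iv F35250)) (tt N4371 (iv D16439)) (tt N11541 D21771) (tt N11540 (iv F42197)) (tt N4744 F28491) (tt N11542 D21772) (tt N11534 (iv F42182)))
theorem Q7359 : ∀ i, i < 7359 → P i := stepQ 7358 Q7358 (allL N7358 (tt N10888 (iv F40749)) (tt N11541 (iv F42198)) (tt N4372 (iv D16440)) (tt N11543 D21773) (tt N4745 F28492) (tt N10886 (iv F40748)) (tt N11524 (iv F42164)))
theorem Q7360 : ∀ i, i < 7360 → P i := stepQ 7359 Q7359 (allL N7359 (tt N11544 D21774) (tt N4373 (iv D16441)) (tt N4408 F28493) (tt N11545 D21775) (tt N11546 D21776) (tt N11547 D21777) (tt N11548 D21778))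
theorem Q7361 : ∀ i, i < 7361 → P i := stepQ 7360 Q7360 (allL N7360 (tt N7161 F28494) (tt N11545 (iv F42203)) (tt N7158 F28495) (tt N4373 (iv D16442)) (tt N11549 D21779) (tt N11493 (iv F42093)) (tt N11550 D21780))
theorem Q7362 : ∀ i, i < 7362 → P i := stepQ 7361 Q7361 (allL N7361 (tt N11537 (iv F42187)) (tt N11546 (iv F42204)) (tt N4374 F28496) (tt N11551 D21781) (tt N4373 (iv D16443)) (tt N11494 (iv F42095)) (tt N11552 D21782))
theorem Q7363 : ∀ i, i < 7363 → P i := stepQ 7362 Q7362 (allL N7362 (tt N11538 (iv F42189)) (tt N11553 D21783) (tt N4375 F28497) (tt N11550 (iv F42212)) (tt N11552 (iv F42214)) (tt N11554 D21784) (tt N4373 (iv D16444)))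
theorem Q7364 : ∀ i, i < 7364 → P i := stepQ 7363 Q7363 (allL N7363 (tt N11539 (iv F42193)) (tt N10247 (iv F38764)) (tt N11552 (iv F42213)) (tt N4749 F28498) (tt N4375 F28499) (tt N11555 D21785) (tt N4374 (iv D16445)))
theorem Q7365 : ∀ i, i < 7365 → P i := stepQ 7364 Q7364 (allL N7364 (tt N7331 F28500) (tt N11556 D21786) (tt N11554 (iv F42216)) (tt N4376 F28501) (tt N11555 (iv F42220)) (tt N4375 (iv D16446)) (tt N7328 F28502))
theorem Q7366 : ∀ i, i < 7366 → P i := stepQ 7365 Q7365 (allL N7365 (tt N11557 D21787) (tt N4376 (iv D16447)) (tt N11558 D21788) (tt N11556 (iv F42222)) (tt N4751 F28503) (tt N10256 (iv F38781)) (tt N11559 D21789))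
theorem Q7367 : ∀ i, i < 7367 → P i := stepQ 7366 Q7366 (allL N7366 (tt N4377 (iv D16448)) (tt N10054 F38345) (tt N11560 D21790) (tt N11239 (iv F41536)) (tt N4752 F28504) (tt N6299 F28505) (tt N10153 (iv F38573)))
theorem Q7368 : ∀ i, i < 7368 → P i := stepQ 7367 Q7367 (allL N7367 (tt N11560 (iv F42228)) (tt N11558 (iv F42224)) (tt N4377 (iv D16449)) (tt N8662 (iv F39716)) (tt N4753 F28506) (tt N6300 F28507) (tt N11561 D21791))
theorem Q7369 : ∀ i, i < 7369 → P i := stepQ 7368 Q7368 (allL N7368 (tt N10153 (iv F38571)) (tt N7326 F28508) (tt N11561 (iv F42234)) (tt N11241 (iv F41542)) (tt N4754 F28509) (tt N7058 F28510) (tt N4377 (iv D16450)))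
theorem Q7370 : ∀ i, i < 7370 → P i := stepQ 7369 Q7369 (allL N7369 (tt N8301 (iv F32007)) (tt N4378 (iv D16451)) (tt N8300 (iv F32005)) (tt N4381 F28511) (tt N8326 (iv F32123)) (tt N8307 (iv F32026)) (tt N11562 D21792))
theorem Q7371 : ∀ i, i < 7371 → P i := stepQ 7370 Q7370 (allL N7370 (tt N4379 F28512) (tt N8326 (iv F32125)) (tt N8888 (iv F34085)) (tt N4755 F28513) (tt N4378 (iv D16452)) (tt N11563 D21793) (tt N11303 (iv F41689)))
theorem Q7372 : ∀ i, i < 7372 → P i := stepQ 7371 Q7371 (allL N7371 (tt N4380 F28514) (tt N10883 (iv F40741)) (tt N11290 (iv F41651)) (tt N4382 F28515) (tt N11563 (iv F42245)) (tt N4378 (iv D16453)) (tt N7216 F28516))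
theorem Q7373 : ∀ i, i < 7373 → P i := stepQ 7372 Q7372 (allL N7372 (tt N11563 (iv F42242)) (tt N7372 F28517) (tt N4979 F28518) (tt N4756 (iv F28521)) (tt N4380 F28520) (tt N4379 (iv D16454)) (tt N11564 D21794))
theorem Q7374 : ∀ i, i < 7374 → P i := stepQ 7373 Q7373 (allL N7373 (tt N7216 F28536) (tt N11565 D21795) (tt N11297 (iv F41670)) (tt N4383 F28537) (tt N11564 (iv F42250)) (tt N7215 F28538) (tt N4380 (iv D16455)))
theorem Q7375 : ∀ i, i < 7375 → P i := stepQ 7374 Q7374 (allL N7374 (tt N4381 (iv D16456)) (tt N7374 F28539) (tt N5780 (iv F29243)) (tt N8301 F32011) (tt N4759 F28540) (tt N8309 (iv F32034)) (tt N11566 D21796))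
theorem Q7376 : ∀ i, i < 7376 → P i := stepQ 7375 Q7375 (allL N7375 (tt N5780 F29242) (tt N5890 (iv F29241)) (tt N4381 (iv D16457)) (tt N9400 (iv F36756)) (tt N4760 F28541) (tt N9390 F36713) (tt N11567 D21797))
theorem Q7377 : ∀ i, i < 7377 → P i := stepQ 7376 Q7376 (allL N7376 (tt N11566 (iv F42254)) (tt N11314 (iv F41705)) (tt N11567 (iv F42260)) (tt N11562 (iv F42239)) (tt N4761 F28542) (tt N11568 D21798) (tt N4381 (iv D16458)))
theorem Q7378 : ∀ i, i < 7378 → P i := stepQ 7377 Q7377 (allL N7377 (tt N11569 D21799) (tt N4383 (iv D16459)) (tt N11570 D21800) (tt N11565 (iv F42252)) (tt N4769 F28543) (tt N11571 D21801) (tt N7377 F28544))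
theorem Q7379 : ∀ i, i < 7379 → P i := stepQ 7378 Q7378 (allL N7378 (tt N11511 F42129) (tt N4384 (iv D16460)) (tt N7409 (iv F28607)) (tt N11572 D21802) (tt N4770 F28545) (tt N11573 D21803) (tt N11574 D21804))
theorem Q7380 : ∀ i, i < 7380 → P i := stepQ 7379 Q7379 (allL N7379 (tt N4386 F28546) (tt N11572 (iv F42273)) (tt N7434 (iv F28658)) (tt N4384 (iv D16461)) (tt N11575 D21805) (tt N4386 F28547) (tt N5935 F28548))
theorem Q7381 : ∀ i, i < 7381 → P i := stepQ 7380 Q7380 (allL N7380 (tt N4385 (iv D16462)) (tt N11515 (iv F42140)) (tt N4387 F28549) (tt N11576 D21806) (tt N4772 F28550) (tt N11577 D21807) (tt N11578 D21808))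
theorem Q7382 : ∀ i, i < 7382 → P i := stepQ 7381 Q7381 (allL N7381 (tt N11576 (iv F42282)) (tt N4386 F28551) (tt N11579 D21809) (tt N4385 (iv D16463)) (tt N11580 D21810) (tt N11581 D21811) (tt N11582 D21812))
theorem Q7383 : ∀ i, i < 7383 → P i := stepQ 7382 Q7382 (allL N7382 (tt N11577 (iv F42283)) (tt N11573 (iv F42274)) (tt N4389 F28552) (tt N11581 (iv F42292)) (tt N4774 F28553) (tt N4385 (iv D16464)) (tt N11583 D21813))
theorem Q7384 : ∀ i, i < 7384 → P i := stepQ 7383 Q7383 (allL N7383 (tt N11578 (iv F42286)) (tt N5903 F28554) (tt N4390 F28555) (tt N11582 (iv F42294)) (tt N4775 F28556) (tt N11584 D21814) (tt N4385 (iv D16465)))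
theorem Q7385 : ∀ i, i < 7385 → P i := stepQ 7384 Q7384 (allL N7384 (tt N7434 (iv F28657)) (tt N11585 D21815) (tt N4386 (iv D16466)) (tt N7432 (iv F28652)) (tt N11586 D21816) (tt N7434 (iv F28659)) (tt N5936 F28557))
theorem Q7386 : ∀ i, i < 7386 → P i := stepQ 7385 Q7385 (allL N7385 (tt N11575 (iv F42278)) (tt N11580 (iv F42290)) (tt N11586 (iv F42302)) (tt N4777 F28558) (tt N4386 (iv D16467)) (tt N11575 (iv F42280)) (tt N5937 F28559))
theorem Q7387 : ∀ i, i < 7387 → P i := stepQ 7386 Q7386 (allL N7386 (tt N11366 (iv F41818)) (tt N4387 (iv D16468)) (tt N11525 (iv F42166)) (tt N11587 D21817) (tt N4778 F28560) (tt N11588 D21818) (tt N11589 D21819))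
theorem Q7388 : ∀ i, i < 7388 → P i := stepQ 7387 Q7387 (allL N7387 (tt N4388 F28561) (tt N11587 (iv F42304)) (tt N11590 D21820) (tt N4387 (iv D16469)) (tt N11591 D21821) (tt N11592 D21822) (tt N11593 D21823))
theorem Q7389 : ∀ i, i < 7389 → P i := stepQ 7388 Q7388 (allL N7388 (tt N4389 F28562) (tt N11594 D21824) (tt N11577 (iv F42284)) (tt N11592 (iv F42312)) (tt N4780 F28563) (tt N4387 (iv D16470)) (tt N7395 (iv F28576)))
theorem Q7390 : ∀ i, i < 7390 → P i := stepQ 7389 Q7389 (allL N7389 (tt N4390 F28564) (tt N11595 D21825) (tt N11578 (iv F42288)) (tt N11593 (iv F42314)) (tt N4781 F28565) (tt N7394 (iv F28573)) (tt N4387 (iv D16471)))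
theorem Q7391 : ∀ i, i < 7391 → P i := stepQ 7390 Q7390 (allL N7390 (tt N11590 (iv F42308)) (tt N6344 F28566) (tt N4388 (iv D16472)) (tt N11596 D21826) (tt N11597 D21827) (tt N11598 D21828) (tt N11599 D21829))
theorem Q7392 : ∀ i, i < 7392 → P i := stepQ 7391 Q7391 (allL N7391 (tt N11591 (iv F42309)) (tt N4391 F28567) (tt N11597 (iv F42323)) (tt N4783 F28568) (tt N4388 (iv D16473)) (tt N11600 D21830) (tt N11601 D21831))
theorem Q7393 : ∀ i, i < 7393 → P i := stepQ 7392 Q7392 (allL N7392 (tt N11592 (iv F42311)) (tt N7398 (iv F28580)) (tt N11598 (iv F42324)) (tt N4389 F28569) (tt N11600 (iv F42327)) (tt N4388 (iv D16474)) (tt N11602 D21832))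
theorem Q7394 : ∀ i, i < 7394 → P i := stepQ 7393 Q7393 (allL N7393 (tt N11593 (iv F42313)) (tt N5900 F28570) (tt N11599 (iv F42325)) (tt N4390 F28571) (tt N11601 (iv F42330)) (tt N11603 D21833) (tt N4388 (iv D16475)))
theorem Q7395 : ∀ i, i < 7395 → P i := stepQ 7394 Q7394 (allL N7394 (tt N7395 (iv F28574)) (tt N11604 D21834) (tt N11583 (iv F42295)) (tt N11602 (iv F42331)) (tt N4786 F28572) (tt N7389 F28573) (tt N4389 (iv D16476)))
theorem Q7396 : ∀ i, i < 7396 → P i := stepQ 7395 Q7395 (allL N7395 (tt N7394 F28574) (tt N11605 D21835) (tt N11584 (iv F42299)) (tt N11603 (iv F42334)) (tt N4787 F28575) (tt N4390 (iv D16477)) (tt N7388 F28576))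
theorem Q7397 : ∀ i, i < 7397 → P i := stepQ 7396 Q7396 (allL N7396 (tt N4392 (iv D16478)) (tt N11606 D21836) (tt N11385 (iv F41853)) (tt N6340 F28577) (tt N11607 D21837) (tt N11608 D21838) (tt N11609 D21839))
theorem Q7398 : ∀ i, i < 7398 → P i := stepQ 7397 Q7397 (allL N7397 (tt N11607 (iv F42340)) (tt N4393 F28578) (tt N11387 (iv F41856)) (tt N6553 F28579) (tt N4392 (iv D16479)) (tt N11610 D21840) (tt N11611 D21841))
theorem Q7399 : ∀ i, i < 7399 → P i := stepQ 7398 Q7398 (allL N7398 (tt N11608 (iv F42342)) (tt N7392 F28580) (tt N11388 (iv F41857)) (tt N6341 F28581) (tt N11610 (iv F42348)) (tt N4392 (iv D16480)) (tt N11612 D21842))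
theorem Q7400 : ∀ i, i < 7400 → P i := stepQ 7399 Q7399 (allL N7399 (tt N11609 (iv F42344)) (tt N6336 F28582) (tt N11389 (iv F41858)) (tt N6338 F28583) (tt N11611 (iv F42351)) (tt N11613 D21843) (tt N4392 (iv D16481)))
theorem Q7401 : ∀ i, i < 7401 → P i := stepQ 7400 Q7400 (allL N7400 (tt N8304 F34580) (tt N4394 (iv D16482)) (tt N8303 F34581) (tt N4397 F28584) (tt N8329 (iv F34579)) (tt N11614 D21844) (tt N8313 F34582))
theorem Q7402 : ∀ i, i < 7402 → P i := stepQ 7401 Q7401 (allL N7401 (tt N4395 F28585) (tt N8329 F34577) (tt N8894 (iv F34570)) (tt N4793 F28586) (tt N4394 (iv D16483)) (tt N11462 (iv F42033)) (tt N11615 D21845))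
theorem Q7403 : ∀ i, i < 7403 → P i := stepQ 7402 Q7402 (allL N7402 (tt N4396 F28587) (tt N10890 (iv F40757)) (tt N11450 (iv F41997)) (tt N4398 F28588) (tt N11615 (iv F42364)) (tt N7316 F28589) (tt N4394 (iv D16484)))
theorem Q7404 : ∀ i, i < 7404 → P i := stepQ 7403 Q7403 (allL N7403 (tt N11615 (iv F42361)) (tt N7403 F28590) (tt N4984 F34624) (tt N4794 F34625) (tt N4396 F28592) (tt N11616 D21846) (tt N4395 (iv D16485)))
theorem Q7405 : ∀ i, i < 7405 → P i := stepQ 7404 Q7404 (allL N7404 (tt N7316 F28593) (tt N11617 D21847) (tt N11458 (iv F42023)) (tt N4399 F28594) (tt N11616 (iv F42369)) (tt N4396 (iv D16486)) (tt N7315 F28595))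
theorem Q7406 : ∀ i, i < 7406 → P i := stepQ 7405 Q7405 (allL N7405 (tt N4397 (iv D16487)) (tt N7405 F28596) (tt N5783 (iv F28598)) (tt N8304 F34601) (tt N4797 F28597) (tt N11618 D21848) (tt N8315 (iv F34600)))
theorem Q7407 : ∀ i, i < 7407 → P i := stepQ 7406 Q7406 (allL N7406 (tt N5783 F28599) (tt N5912 F28600) (tt N4397 (iv D16488)) (tt N9405 (iv F36764)) (tt N4798 F28601) (tt N11619 D21849) (tt N9395 F36735))
theorem Q7408 : ∀ i, i < 7408 → P i := stepQ 7407 Q7407 (allL N7407 (tt N11618 (iv F42373)) (tt N11472 (iv F42048)) (tt N11619 (iv F42379)) (tt N11614 (iv F42358)) (tt N4799 F28602) (tt N4397 (iv D16489)) (tt N11620 D21850))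
theorem Q7409 : ∀ i, i < 7409 → P i := stepQ 7408 Q7408 (allL N7408 (tt N11621 D21851) (tt N4399 (iv D16492)) (tt N11622 D21852) (tt N11617 (iv F42371)) (tt N4807 F28605) (tt N7408 F28606) (tt N11623 D21853))
theorem Q7410 : ∀ i, i < 7410 → P i := stepQ 7409 Q7409 (allL N7409 (tt N11352 F41787) (tt N4400 (iv D16493)) (tt N7378 F28607) (tt N11624 D21854) (tt N4808 F28608) (tt N11625 D21855) (tt N11626 D21856))
theorem Q7411 : ∀ i, i < 7411 → P i := stepQ 7410 Q7410 (allL N7410 (tt N4402 F28609) (tt N11624 (iv F42392)) (tt N7438 (iv F28676)) (tt N4400 (iv D16494)) (tt N11627 D21857) (tt N5939 F28610) (tt N4402 F28611))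
theorem Q7412 : ∀ i, i < 7412 → P i := stepQ 7411 Q7411 (allL N7411 (tt N4401 (iv D16495)) (tt N11356 (iv F41798)) (tt N4403 F28612) (tt N11628 D21858) (tt N4810 F28613) (tt N11629 D21859) (tt N11630 D21860))
theorem Q7413 : ∀ i, i < 7413 → P i := stepQ 7412 Q7412 (allL N7412 (tt N11628 (iv F42403)) (tt N4402 F28614) (tt N11631 D21861) (tt N4401 (iv D16496)) (tt N11632 D21862) (tt N11633 D21863) (tt N11634 D21864))
theorem Q7414 : ∀ i, i < 7414 → P i := stepQ 7413 Q7413 (allL N7413 (tt N11629 (iv F42404)) (tt N5925 F28615) (tt N4405 F28616) (tt N11633 (iv F42414)) (tt N4812 F28617) (tt N4401 (iv D16497)) (tt N11635 D21865))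
theorem Q7415 : ∀ i, i < 7415 → P i := stepQ 7414 Q7414 (allL N7414 (tt N11630 (iv F42408)) (tt N11626 (iv F42396)) (tt N4406 F28618) (tt N11634 (iv F42415)) (tt N4813 F28619) (tt N11636 D21866) (tt N4401 (iv D16498)))
theorem Q7416 : ∀ i, i < 7416 → P i := stepQ 7415 Q7415 (allL N7415 (tt N7438 (iv F28675)) (tt N11637 D21867) (tt N4402 (iv D16499)) (tt N7436 (iv F28670)) (tt N11638 D21868) (tt N5940 F28620) (tt N7438 (iv F28678)))
theorem Q7417 : ∀ i, i < 7417 → P i := stepQ 7416 Q7416 (allL N7416 (tt N11627 (iv F42399)) (tt N11632 (iv F42411)) (tt N11638 (iv F42423)) (tt N4815 F28621) (tt N4402 (iv D16500)) (tt N5941 F28622) (tt N11627 (iv F42402)))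
theorem Q7418 : ∀ i, i < 7418 → P i := stepQ 7417 Q7417 (allL N7417 (tt N11525 (iv F42165)) (tt N4403 (iv D16501)) (tt N11366 (iv F41819)) (tt N11639 D21869) (tt N4816 F28623) (tt N11640 D21870) (tt N11641 D21871))
theorem Q7419 : ∀ i, i < 7419 → P i := stepQ 7418 Q7418 (allL N7418 (tt N4404 F28624) (tt N11639 (iv F42425)) (tt N11642 D21872) (tt N4403 (iv D16502)) (tt N11643 D21873) (tt N11644 D21874) (tt N11645 D21875))
theorem Q7420 : ∀ i, i < 7420 → P i := stepQ 7419 Q7419 (allL N7419 (tt N4405 F28625) (tt N11646 D21876) (tt N11629 (iv F42406)) (tt N11644 (iv F42433)) (tt N4818 F28626) (tt N4403 (iv D16503)) (tt N7426 (iv F28639)))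
theorem Q7421 : ∀ i, i < 7421 → P i := stepQ 7420 Q7420 (allL N7420 (tt N4406 F28627) (tt N11647 D21877) (tt N11630 (iv F42409)) (tt N11645 (iv F42435)) (tt N4819 F28628) (tt N7425 (iv F28636)) (tt N4403 (iv D16504)))
theorem Q7422 : ∀ i, i < 7422 → P i := stepQ 7421 Q7421 (allL N7421 (tt N11642 (iv F42429)) (tt N6364 F28629) (tt N4404 (iv D16505)) (tt N11648 D21878) (tt N11649 D21879) (tt N11650 D21880) (tt N11651 D21881))
theorem Q7423 : ∀ i, i < 7423 → P i := stepQ 7422 Q7422 (allL N7422 (tt N11643 (iv F42430)) (tt N4407 F28630) (tt N11649 (iv F42444)) (tt N4821 F28631) (tt N4404 (iv D16506)) (tt N11652 D21882) (tt N11653 D21883))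
theorem Q7424 : ∀ i, i < 7424 → P i := stepQ 7423 Q7423 (allL N7423 (tt N11644 (iv F42432)) (tt N5922 F28632) (tt N11650 (iv F42445)) (tt N4405 F28633) (tt N11652 (iv F42449)) (tt N4404 (iv D16507)) (tt N11654 D21884))
theorem Q7425 : ∀ i, i < 7425 → P i := stepQ 7424 Q7424 (allL N7424 (tt N11645 (iv F42434)) (tt N7430 (iv F28645)) (tt N11651 (iv F42446)) (tt N4406 F28634) (tt N11653 (iv F42451)) (tt N11655 D21885) (tt N4404 (iv D16508)))
theorem Q7426 : ∀ i, i < 7426 → P i := stepQ 7425 Q7425 (allL N7425 (tt N7426 (iv F28637)) (tt N11656 D21886) (tt N11635 (iv F42416)) (tt N11654 (iv F42452)) (tt N4824 F28635) (tt N7420 F28636) (tt N4405 (iv D16509)))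
theorem Q7427 : ∀ i, i < 7427 → P i := stepQ 7426 Q7426 (allL N7426 (tt N7425 F28637) (tt N11657 D21887) (tt N11636 (iv F42420)) (tt N11655 (iv F42455)) (tt N4825 F28638) (tt N4406 (iv D16510)) (tt N7419 F28639))
theorem Q7428 : ∀ i, i < 7428 → P i := stepQ 7427 Q7427 (allL N7427 (tt N4408 (iv D16511)) (tt N11658 D21888) (tt N11544 (iv F42202)) (tt N6360 F28640) (tt N11659 D21889) (tt N11660 D21890) (tt N11661 D21891))
theorem Q7429 : ∀ i, i < 7429 → P i := stepQ 7428 Q7428 (allL N7428 (tt N11659 (iv F42461)) (tt N4409 F28641) (tt N11546 (iv F42205)) (tt N6592 F28642) (tt N4408 (iv D16512)) (tt N11662 D21892) (tt N11663 D21893))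
theorem Q7430 : ∀ i, i < 7430 → P i := stepQ 7429 Q7429 (allL N7429 (tt N11660 (iv F42463)) (tt N6355 F28643) (tt N11547 (iv F42206)) (tt N6357 F28644) (tt N11662 (iv F42469)) (tt N4408 (iv D16513)) (tt N11664 D21894))
theorem Q7431 : ∀ i, i < 7431 → P i := stepQ 7430 Q7430 (allL N7430 (tt N11661 (iv F42465)) (tt N7424 F28645) (tt N11548 (iv F42207)) (tt N6361 F28646) (tt N11663 (iv F42472)) (tt N11665 D21895) (tt N4408 (iv D16514)))
theorem Q7432 : ∀ i, i < 7432 → P i := stepQ 7431 Q7431 (allL N7431 (tt N7431 F28647) (tt N4411 F28648) (tt N11666 D21896) (tt N4410 (iv D16515)) (tt N8861 (iv F34013)) (tt N7435 (iv F28665)) (tt N7435 (iv F28666)))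
theorem Q7433 : ∀ i, i < 7433 → P i := stepQ 7432 Q7432 (allL N7432 (tt N4412 F28649) (tt N11667 D21897) (tt N4411 (iv D16516)) (tt N7384 F28652) (tt N8862 (iv F34015)) (tt N4412 F28650) (tt N5942 F28651))
theorem Q7434 : ∀ i, i < 7434 → P i := stepQ 7433 Q7433 (allL N7433 (tt N11668 D21898) (tt N4412 (iv D16518)) (tt N9649 (iv F37405)) (tt N11669 D21899) (tt N8863 (iv F34019)) (tt N11670 D21900) (tt N11671 D21901))
theorem Q7435 : ∀ i, i < 7435 → P i := stepQ 7434 Q7434 (allL N7434 (tt N7384 F28657) (tt N11669 (iv F42480)) (tt N7379 F28658) (tt N4412 (iv D16519)) (tt N11672 D21902) (tt N7384 F28659) (tt N5944 F28660))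
theorem Q7436 : ∀ i, i < 7436 → P i := stepQ 7435 Q7435 (allL N7435 (tt N7435 F28663) (tt N4414 F28664) (tt N11673 D21903) (tt N4413 (iv D16521)) (tt N8875 (iv F34056)) (tt N7431 F28665) (tt N7431 F28666))
theorem Q7437 : ∀ i, i < 7437 → P i := stepQ 7436 Q7436 (allL N7436 (tt N4415 F28667) (tt N11674 D21904) (tt N4414 (iv D16522)) (tt N7415 F28670) (tt N8876 (iv F34060)) (tt N5945 F28668) (tt N4415 F28669))
theorem Q7438 : ∀ i, i < 7438 → P i := stepQ 7437 Q7437 (allL N7437 (tt N11675 D21905) (tt N4415 (iv D16524)) (tt N9643 (iv F37390)) (tt N11676 D21906) (tt N8877 (iv F34065)) (tt N11677 D21907) (tt N11678 D21908))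
theorem Q7439 : ∀ i, i < 7439 → P i := stepQ 7438 Q7438 (allL N7438 (tt N7415 F28675) (tt N11676 (iv F42490)) (tt N7410 F28676) (tt N4415 (iv D16525)) (tt N11679 D21909) (tt N5947 F28677) (tt N7415 F28678))
theorem Q7440 : ∀ i, i < 7440 → P i := stepQ 7439 Q7439 (allL N7439 (tt N4430 F28702) (tt N5798 F28703) (tt N4417 F28704) (tt N5799 F28705) (tt N4416 (iv D16535)) (tt N7637 F29639) (tt N7802 F35080))
theorem Q7441 : ∀ i, i < 7441 → P i := stepQ 7440 Q7440 (allL N7440 (tt N4431 F28706) (tt N7639 (iv F29643)) (tt N4418 F28707) (tt N5802 F28708) (tt N7637 (iv F29637)) (tt N4416 (iv D16536)) (tt N7460 (iv F28763)))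
theorem Q7442 : ∀ i, i < 7442 → P i := stepQ 7441 Q7441 (allL N7441 (tt N4432 F28709) (tt N7804 F35079) (tt N4419 F28710) (tt N5803 F28711) (tt N7802 (iv F35077)) (tt N7459 (iv F28760)) (tt N4416 (iv D16537)))
theorem Q7443 : ∀ i, i < 7443 → P i := stepQ 7442 Q7442 (allL N7442 (tt N6540 (iv F29147)) (tt N4423 F28721) (tt N4420 (iv D16543)) (tt N5434 F29149) (tt N10385 (iv F39077)) (tt N5433 (iv F29146)) (tt N11680 D21910))
theorem Q7444 : ∀ i, i < 7444 → P i := stepQ 7443 Q7443 (allL N7443 (tt N7671 (iv F29694)) (tt N7445 (iv F28723)) (tt N11680 (iv F42497)) (tt N7650 (iv F29662)) (tt N10386 (iv F39080)) (tt N4441 (iv F28724)) (tt N4420 (iv D16544)))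
theorem Q7445 : ∀ i, i < 7445 → P i := stepQ 7444 Q7444 (allL N7444 (tt N6580 (iv F35101)) (tt N4426 F28722) (tt N4421 (iv D16546)) (tt N5479 (iv F35097)) (tt N10419 (iv F39155)) (tt N11681 D21911) (tt N5477 F35099))
theorem Q7446 : ∀ i, i < 7446 → P i := stepQ 7445 Q7445 (allL N7445 (tt N7835 (iv F35114)) (tt N7443 F28723) (tt N11681 (iv F42501)) (tt N7815 F35115) (tt N10420 (iv F39159)) (tt N4421 (iv D16547)) (tt N4444 (iv F28725)))
theorem Q7447 : ∀ i, i < 7447 → P i := stepQ 7446 Q7446 (allL N7446 (tt N4423 F28726) (tt N6408 F28727) (tt N4422 (iv D16548)) (tt N8901 F34144) (tt N10847 (iv F40640)) (tt N7615 (iv F29596)) (tt N10416 (iv F39144)))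
theorem Q7448 : ∀ i, i < 7448 → P i := stepQ 7447 Q7447 (allL N7447 (tt N8901 (iv F34143)) (tt N5434 (iv F29150)) (tt N8900 F34141) (tt N4423 (iv D16549)) (tt N11682 D21912) (tt N10293 (iv F38861)) (tt N11683 D21913))
theorem Q7449 : ∀ i, i < 7449 → P i := stepQ 7448 Q7448 (allL N7448 (tt N10416 (iv F39141)) (tt N11684 D21914) (tt N4424 F28728) (tt N11683 (iv F42505)) (tt N10849 (iv F40642)) (tt N7825 (iv F29954)) (tt N4423 (iv D16550)))
theorem Q7450 : ∀ i, i < 7450 → P i := stepQ 7449 Q7449 (allL N7449 (tt N4426 F28729) (tt N6440 F28730) (tt N4425 (iv D16551)) (tt N8908 (iv F35177)) (tt N10850 (iv F40645)) (tt N10382 (iv F39065)) (tt N7782 (iv F29865)))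
theorem Q7451 : ∀ i, i < 7451 → P i := stepQ 7450 Q7450 (allL N7450 (tt N8908 F35176) (tt N5479 F35098) (tt N8907 (iv F35175)) (tt N4426 (iv D16552)) (tt N11685 D21915) (tt N11686 D21916) (tt N10295 (iv F38866)))
theorem Q7452 : ∀ i, i < 7452 → P i := stepQ 7451 Q7451 (allL N7451 (tt N10382 (iv F39063)) (tt N11687 D21917) (tt N4427 F28731) (tt N11686 (iv F42510)) (tt N10852 (iv F40647)) (tt N4426 (iv D16553)) (tt N7660 (iv F29679)))
theorem Q7453 : ∀ i, i < 7453 → P i := stepQ 7452 Q7452 (allL N7452 (tt N7452 F28734) (tt N4429 F28733) (tt N5790 (iv F28735)) (tt N4428 (iv D16555)) (tt N5790 (iv F28736)) (tt N7452 F28796) (tt N7452 F29718))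
theorem Q7454 : ∀ i, i < 7454 → P i := stepQ 7453 Q7453 (allL N7453 (tt N7453 F28738) (tt N4430 F28739) (tt N7453 F28740) (tt N11688 D21918) (tt N4428 (iv D16556)) (tt N7453 F28794) (tt N7453 F29719))
theorem Q7455 : ∀ i, i < 7455 → P i := stepQ 7454 Q7454 (allL N7454 (tt N5802 F28745) (tt N7454 F28798) (tt N5786 F28746) (tt N4431 F28747) (tt N5792 F28748) (tt N4429 (iv D16559)) (tt N9422 (iv F36826)))
theorem Q7456 : ∀ i, i < 7456 → P i := stepQ 7455 Q7455 (allL N7455 (tt N5803 F28749) (tt N7455 F29715) (tt N5787 F28750) (tt N4432 F28751) (tt N5793 F28752) (tt N9421 (iv F36821)) (tt N4429 (iv D16560)))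
theorem Q7457 : ∀ i, i < 7457 → P i := stepQ 7456 Q7456 (allL N7456 (tt N5799 F28753) (tt N11688 (iv F42515)) (tt N8436 (iv F32419)) (tt N4430 (iv D16561)) (tt N5791 F28754) (tt N10537 (iv F39408)) (tt N10592 (iv F39905)))
theorem Q7458 : ∀ i, i < 7458 → P i := stepQ 7457 Q7457 (allL N7457 (tt N7637 F29638) (tt N7457 F28793) (tt N4433 F28755) (tt N10537 (iv F39406)) (tt N4431 F28756) (tt N4430 (iv D16562)) (tt N11689 D21919))
theorem Q7459 : ∀ i, i < 7459 → P i := stepQ 7458 Q7458 (allL N7458 (tt N7802 F35078) (tt N7458 F29716) (tt N4434 F28757) (tt N10592 (iv F39903)) (tt N4432 F28758) (tt N11690 D21920) (tt N4430 (iv D16563)))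
theorem Q7460 : ∀ i, i < 7460 → P i := stepQ 7459 Q7459 (allL N7459 (tt N7460 (iv F28761)) (tt N11691 D21921) (tt N4436 F28759) (tt N9422 (iv F36824)) (tt N11689 (iv F42521)) (tt N7441 F28760) (tt N4431 (iv D16565)))
theorem Q7461 : ∀ i, i < 7461 → P i := stepQ 7460 Q7460 (allL N7460 (tt N7459 F28761) (tt N11692 D21922) (tt N4438 F28762) (tt N9421 (iv F36819)) (tt N11690 (iv F42526)) (tt N4432 (iv D16567)) (tt N7440 F28763))
theorem Q7462 : ∀ i, i < 7462 → P i := stepQ 7461 Q7461 (allL N7461 (tt N7461 F28766) (tt N4433 (iv D16568)) (tt N7461 F28791) (tt N10384 (iv F39071)) (tt N4435 F28764) (tt N7461 F28765) (tt N4496 (iv F29274)))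
theorem Q7463 : ∀ i, i < 7463 → P i := stepQ 7462 Q7462 (allL N7462 (tt N7464 (iv F28771)) (tt N4499 F29273) (tt N11689 (iv F42520)) (tt N6518 F34374) (tt N4436 F28767) (tt N4679 F34375) (tt N4433 (iv D16569)))
theorem Q7464 : ∀ i, i < 7464 → P i := stepQ 7463 Q7463 (allL N7463 (tt N7463 F29301) (tt N4434 (iv D16570)) (tt N7463 F29723) (tt N10418 (iv F39149)) (tt N4437 F28769) (tt N4531 F35121) (tt N7463 F28770))
theorem Q7465 : ∀ i, i < 7465 → P i := stepQ 7464 Q7464 (allL N7464 (tt N7462 F28771) (tt N4534 F35122) (tt N11690 (iv F42525)) (tt N6485 F29257) (tt N4438 F28772) (tt N4434 (iv D16571)) (tt N4578 (iv F28859)))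
theorem Q7466 : ∀ i, i < 7466 → P i := stepQ 7465 Q7465 (allL N7465 (tt N7465 F28776) (tt N4498 F29269) (tt N7465 F28792) (tt N4440 F28777) (tt N4496 F29275) (tt N7465 F28778) (tt N4435 (iv D16573)))
theorem Q7467 : ∀ i, i < 7467 → P i := stepQ 7466 Q7466 (allL N7466 (tt N7673 (iv F29699)) (tt N4436 (iv D16574)) (tt N4500 (iv F29271)) (tt N4441 F28779) (tt N4499 (iv F29272)) (tt N7650 (iv F29664)) (tt N4498 F29270))
theorem Q7468 : ∀ i, i < 7468 → P i := stepQ 7467 Q7467 (allL N7467 (tt N7467 F29296) (tt N4533 F35118) (tt N7467 F29724) (tt N4443 F28783) (tt N4531 F35119) (tt N4437 (iv D16577)) (tt N7467 F29293))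
theorem Q7469 : ∀ i, i < 7469 → P i := stepQ 7468 Q7468 (allL N7468 (tt N7837 F35108) (tt N4438 (iv D16578)) (tt N4535 F35109) (tt N4444 F28784) (tt N4534 F35110) (tt N4533 F35111) (tt N7815 F35112))
theorem Q7470 : ∀ i, i < 7470 → P i := stepQ 7469 Q7469 (allL N7469 (tt N7469 F28785) (tt N4447 F28786) (tt N7469 F28788) (tt N4439 (iv D16579)) (tt N11693 D21923) (tt N7469 F28787) (tt N11694 D21924))
theorem Q7471 : ∀ i, i < 7471 → P i := stepQ 7470 Q7470 (allL N7470 (tt N7470 F29262) (tt N4569 F29360) (tt N4440 F29263) (tt N11694 (iv F42542)) (tt N10858 (iv F40673)) (tt N7470 F29264) (tt N4439 (iv D16580)))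
theorem Q7472 : ∀ i, i < 7472 → P i := stepQ 7471 Q7471 (allL N7471 (tt N5749 F29267) (tt N4440 (iv D16581)) (tt N8946 (iv F35574)) (tt N4498 (iv F29268)) (tt N10859 (iv F40676)) (tt N4593 (iv F29266)) (tt N4441 F29265))
theorem Q7473 : ∀ i, i < 7473 → P i := stepQ 7472 Q7472 (allL N7472 (tt N4441 (iv D16582)) (tt N9367 (iv F36651)) (tt N8954 (iv F35603)) (tt N7673 (iv F29701)) (tt N10860 (iv F40681)) (tt N7671 (iv F29696)) (tt N5749 F29276))
theorem Q7474 : ∀ i, i < 7474 → P i := stepQ 7473 Q7473 (allL N7473 (tt N8954 (iv F35602)) (tt N4451 F29277) (tt N4441 (iv D16583)) (tt N8948 (iv F35592)) (tt N10861 (iv F40684)) (tt N11680 (iv F42499)) (tt N8946 F35576))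
theorem Q7475 : ∀ i, i < 7475 → P i := stepQ 7474 Q7474 (allL N7474 (tt N7474 F29302) (tt N4455 F29282) (tt N7474 F29725) (tt N4442 (iv D16587)) (tt N11695 D21925) (tt N11696 D21926) (tt N7474 F29283))
theorem Q7476 : ∀ i, i < 7476 → P i := stepQ 7475 Q7475 (allL N7475 (tt N7475 F29297) (tt N4671 F35220) (tt N4443 F29284) (tt N11696 (iv F42551)) (tt N10863 (iv F40694)) (tt N4442 (iv D16588)) (tt N7475 F29292))
theorem Q7477 : ∀ i, i < 7477 → P i := stepQ 7476 Q7476 (allL N7476 (tt N5750 (iv F29304)) (tt N4443 (iv D16589)) (tt N9013 (iv F35731)) (tt N4533 F34472) (tt N10864 (iv F40697)) (tt N4444 F29285) (tt N4693 F34473))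
theorem Q7478 : ∀ i, i < 7478 → P i := stepQ 7477 Q7477 (allL N7477 (tt N4444 (iv D16590)) (tt N9364 (iv F36645)) (tt N9021 (iv F35753)) (tt N7837 (iv F35107)) (tt N10865 (iv F40702)) (tt N5750 F29306) (tt N7835 F35113))
theorem Q7479 : ∀ i, i < 7479 → P i := stepQ 7478 Q7478 (allL N7478 (tt N9021 (iv F35752)) (tt N4459 F29307) (tt N4444 (iv D16591)) (tt N9014 (iv F35736)) (tt N10866 (iv F40705)) (tt N9013 F35732) (tt N11681 (iv F42503)))
theorem Q7480 : ∀ i, i < 7480 → P i := stepQ 7479 Q7479 (allL N7479 (tt N6408 F29308) (tt N4764 F29309) (tt N4445 (iv D16592)) (tt N6138 F29311) (tt N10263 (iv F38797)) (tt N6405 F29310) (tt N10307 (iv F38905)))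
theorem Q7481 : ∀ i, i < 7481 → P i := stepQ 7480 Q7480 (allL N7480 (tt N4447 F29312) (tt N4758 F29313) (tt N4466 F29314) (tt N4446 (iv D16593)) (tt N11697 D21927) (tt N4466 F29315) (tt N7508 (iv F29368)))
theorem Q7482 : ∀ i, i < 7482 → P i := stepQ 7481 Q7481 (allL N7481 (tt N11697 (iv F42553)) (tt N11693 (iv F42536)) (tt N4469 F29316) (tt N10310 (iv F38911)) (tt N4447 (iv D16594)) (tt N4469 F29317) (tt N11698 D21928))
theorem Q7483 : ∀ i, i < 7483 → P i := stepQ 7482 Q7482 (allL N7482 (tt N7508 (iv F29365)) (tt N7646 F29657) (tt N4470 F29318) (tt N4448 F29319) (tt N11698 (iv F42558)) (tt N7503 (iv F29356)) (tt N4447 (iv D16595)))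
theorem Q7484 : ∀ i, i < 7484 → P i := stepQ 7483 Q7483 (allL N7483 (tt N10359 (iv F39017)) (tt N7618 F29603) (tt N4449 (iv D16597)) (tt N9082 (iv F35883)) (tt N10885 (iv F40744)) (tt N7904 (iv F30066)) (tt N4451 F29320))
theorem Q7485 : ∀ i, i < 7485 → P i := stepQ 7484 Q7484 (allL N7484 (tt N4451 F29321) (tt N10395 F39101) (tt N4450 (iv D16598)) (tt N11699 D21929) (tt N10886 (iv F40747)) (tt N4745 F29322) (tt N10359 (iv F39019)))
theorem Q7486 : ∀ i, i < 7486 → P i := stepQ 7485 Q7485 (allL N7485 (tt N11699 (iv F42559)) (tt N8948 F35593) (tt N11700 D21930) (tt N4451 (iv D16599)) (tt N11701 D21931) (tt N11702 D21932) (tt N9082 (iv F35884)))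
theorem Q7487 : ∀ i, i < 7487 → P i := stepQ 7486 Q7486 (allL N7486 (tt N4745 F29323) (tt N7969 F35579) (tt N4452 F29324) (tt N11702 (iv F42568)) (tt N10888 (iv F40751)) (tt N4451 (iv D16600)) (tt N7975 (iv F35577)))
theorem Q7488 : ∀ i, i < 7488 → P i := stepQ 7487 Q7487 (allL N7487 (tt N4737 F29325) (tt N4564 F29326) (tt N7975 F35580) (tt N7592 (iv F29557)) (tt N10889 (iv F40754)) (tt N6455 F29327) (tt N4452 (iv D16601)))
theorem Q7489 : ∀ i, i < 7489 → P i := stepQ 7488 Q7488 (allL N7488 (tt N6440 F29328) (tt N4802 F35076) (tt N4453 (iv D16602)) (tt N6151 (iv F35075)) (tt N10282 (iv F38837)) (tt N10343 (iv F38981)) (tt N6436 F29329))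
theorem Q7490 : ∀ i, i < 7490 → P i := stepQ 7489 Q7489 (allL N7489 (tt N4455 F29330) (tt N4796 F34851) (tt N4478 F34764) (tt N4454 (iv D16604)) (tt N11703 D21933) (tt N7522 (iv F29402)) (tt N4478 F29331))
theorem Q7491 : ∀ i, i < 7491 → P i := stepQ 7490 Q7490 (allL N7490 (tt N11703 (iv F42569)) (tt N11695 (iv F42545)) (tt N4481 F34792) (tt N10347 (iv F38990)) (tt N4455 (iv D16606)) (tt N11704 D21934) (tt N4481 F29333))
theorem Q7492 : ∀ i, i < 7492 → P i := stepQ 7491 Q7491 (allL N7491 (tt N7522 (iv F29400)) (tt N7810 F35252) (tt N4482 F34793) (tt N4456 F29334) (tt N11704 (iv F42574)) (tt N4455 (iv D16607)) (tt N7517 (iv F29390)))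
theorem Q7493 : ∀ i, i < 7493 → P i := stepQ 7492 Q7492 (allL N7492 (tt N10322 (iv F38938)) (tt N7784 F35251) (tt N4457 (iv D16609)) (tt N9136 (iv F36017)) (tt N10892 (iv F40760)) (tt N4459 F29335) (tt N7744 (iv F29809)))
theorem Q7494 : ∀ i, i < 7494 → P i := stepQ 7493 Q7493 (allL N7493 (tt N4459 F29336) (tt N10429 (iv F39395)) (tt N4458 (iv D16610)) (tt N11705 D21935) (tt N10893 (iv F40763)) (tt N10322 (iv F38939)) (tt N4646 F29337))
theorem Q7495 : ∀ i, i < 7495 → P i := stepQ 7494 Q7494 (allL N7494 (tt N11705 (iv F42575)) (tt N9014 F35737) (tt N11706 D21936) (tt N4459 (iv D16611)) (tt N11707 D21937) (tt N9136 (iv F36018)) (tt N11708 D21938))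
theorem Q7496 : ∀ i, i < 7496 → P i := stepQ 7495 Q7495 (allL N7495 (tt N4646 F29338) (tt N8026 (iv F30313)) (tt N4460 F29339) (tt N11708 (iv F42584)) (tt N10895 (iv F40767)) (tt N8032 F30312) (tt N4459 (iv D16612)))
theorem Q7497 : ∀ i, i < 7497 → P i := stepQ 7496 Q7496 (allL N7496 (tt N4636 F29340) (tt N4665 F29341) (tt N8032 (iv F30310)) (tt N7547 (iv F29460)) (tt N10896 (iv F40770)) (tt N4460 (iv D16613)) (tt N6424 F29342))
theorem Q7498 : ∀ i, i < 7498 → P i := stepQ 7497 Q7497 (allL N7497 (tt N5838 F29345) (tt N4462 (iv D16614)) (tt N4465 F29343) (tt N9455 (iv F36894)) (tt N9390 (iv F36712)) (tt N4760 F29344) (tt N9477 (iv F36962)))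
theorem Q7499 : ∀ i, i < 7499 → P i := stepQ 7498 Q7498 (allL N7498 (tt N9388 (iv F36698)) (tt N9486 (iv F36978)) (tt N4464 F29346) (tt N9457 (iv F36902)) (tt N9391 (iv F36717)) (tt N6394 F29347) (tt N4462 (iv D16615)))
theorem Q7500 : ∀ i, i < 7500 → P i := stepQ 7499 Q7499 (allL N7499 (tt N4465 (iv D16616)) (tt N8318 (iv F32056)) (tt N5838 F29348) (tt N8336 (iv F32160)) (tt N8309 F32035) (tt N4759 F29349) (tt N7942 (iv F30123)))
theorem Q7501 : ∀ i, i < 7501 → P i := stepQ 7500 Q7500 (allL N7500 (tt N8336 (iv F32157)) (tt N4466 F29350) (tt N4757 (iv F29352)) (tt N4465 (iv D16617)) (tt N8334 (iv F32152)) (tt N4757 F29351) (tt N11709 D21939))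
theorem Q7502 : ∀ i, i < 7502 → P i := stepQ 7501 Q7501 (allL N7501 (tt N7942 (iv F30122)) (tt N7656 F29673) (tt N9477 (iv F36961)) (tt N11709 (iv F42586)) (tt N10942 (iv F40893)) (tt N7939 (iv F30117)) (tt N4465 (iv D16618)))
theorem Q7503 : ∀ i, i < 7503 → P i := stepQ 7502 Q7502 (allL N7502 (tt N4469 F29353) (tt N8334 (iv F32150)) (tt N11697 (iv F42555)) (tt N8333 F32148) (tt N4466 (iv D16619)) (tt N11697 (iv F42556)) (tt N11710 D21940))
theorem Q7504 : ∀ i, i < 7504 → P i := stepQ 7503 Q7503 (allL N7503 (tt N4470 F29354) (tt N11711 D21941) (tt N7508 (iv F29366)) (tt N4467 F29355) (tt N11710 (iv F42588)) (tt N7482 F29356) (tt N4466 (iv D16620)))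
theorem Q7505 : ∀ i, i < 7505 → P i := stepQ 7504 Q7504 (allL N7504 (tt N7659 (iv F29676)) (tt N4467 (iv D16621)) (tt N11712 D21942) (tt N11711 (iv F42590)) (tt N10945 (iv F40901)) (tt N4576 (iv F29357)) (tt N7656 (iv F29672)))
theorem Q7506 : ∀ i, i < 7506 → P i := stepQ 7505 Q7505 (allL N7505 (tt N4633 F39599) (tt N11712 (iv F42593)) (tt N4468 (iv D16622)) (tt N4629 F39600) (tt N10946 (iv F40904)) (tt N4735 F29361) (tt N7896 (iv F30054)))
theorem Q7507 : ∀ i, i < 7507 → P i := stepQ 7506 Q7506 (allL N7506 (tt N11710 (iv F42587)) (tt N11713 D21943) (tt N11698 (iv F42557)) (tt N10949 (iv F40910)) (tt N4470 F29362) (tt N11714 D21944) (tt N4469 (iv D16623)))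
theorem Q7508 : ∀ i, i < 7508 → P i := stepQ 7507 Q7507 (allL N7507 (tt N4501 (iv F29376)) (tt N4470 (iv D16624)) (tt N11715 D21945) (tt N4471 F29363) (tt N11713 (iv F42596)) (tt N11716 D21946) (tt N7507 F29364))
theorem Q7509 : ∀ i, i < 7509 → P i := stepQ 7508 Q7508 (allL N7508 (tt N7482 F29365) (tt N11717 D21947) (tt N7503 F29366) (tt N4472 F29367) (tt N11714 (iv F42601)) (tt N4470 (iv D16625)) (tt N7480 F29368))
theorem Q7510 : ∀ i, i < 7510 → P i := stepQ 7509 Q7509 (allL N7509 (tt N4503 F29373) (tt N7699 (iv F29751)) (tt N7612 (iv F29590)) (tt N11716 (iv F42606)) (tt N10952 (iv F40919)) (tt N4471 (iv D16627)) (tt N4503 (iv F29370)))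
theorem Q7511 : ∀ i, i < 7511 → P i := stepQ 7510 Q7510 (allL N7510 (tt N7702 (iv F29755)) (tt N4472 (iv D16628)) (tt N10438 (iv F39191)) (tt N11717 (iv F42608)) (tt N10953 (iv F40921)) (tt N7699 (iv F29752)) (tt N4607 F29377))
theorem Q7512 : ∀ i, i < 7512 → P i := stepQ 7511 Q7511 (allL N7511 (tt N5843 F34831) (tt N4474 (iv D16630)) (tt N4477 F29380) (tt N9460 (iv F36912)) (tt N9395 (iv F36734)) (tt N9484 (iv F36972)) (tt N4798 F34832))
theorem Q7513 : ∀ i, i < 7513 → P i := stepQ 7512 Q7512 (allL N7512 (tt N9389 (iv F36704)) (tt N9478 (iv F36963)) (tt N4475 F29381) (tt N9462 (iv F36920)) (tt N9396 (iv F36739)) (tt N4474 (iv D16632)) (tt N6397 F35270))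
theorem Q7514 : ∀ i, i < 7514 → P i := stepQ 7513 Q7513 (allL N7513 (tt N4477 (iv D16634)) (tt N8319 F34833) (tt N5843 F34834) (tt N8344 F34835) (tt N8315 F34836) (tt N8000 F34837) (tt N4797 F34838))
theorem Q7515 : ∀ i, i < 7515 → P i := stepQ 7514 Q7514 (allL N7514 (tt N8344 F34839) (tt N4478 F29384) (tt N4795 F34840) (tt N4477 (iv D16635)) (tt N8342 F34841) (tt N11718 D21948) (tt N4795 F34842))
theorem Q7516 : ∀ i, i < 7516 → P i := stepQ 7515 Q7515 (allL N7515 (tt N8000 F34846) (tt N7821 F34847) (tt N9484 (iv F36971)) (tt N11718 (iv F42613)) (tt N10954 (iv F40923)) (tt N4477 (iv D16636)) (tt N7997 F34848))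
theorem Q7517 : ∀ i, i < 7517 → P i := stepQ 7516 Q7516 (allL N7516 (tt N4481 F29387) (tt N8342 F35261) (tt N11703 (iv F42571)) (tt N8341 (iv F35260)) (tt N4478 (iv D16639)) (tt N11719 D21949) (tt N11703 (iv F42572)))
theorem Q7518 : ∀ i, i < 7518 → P i := stepQ 7517 Q7517 (allL N7517 (tt N4482 F29388) (tt N11720 D21950) (tt N7522 F35266) (tt N4479 F29389) (tt N11719 (iv F42615)) (tt N4478 (iv D16640)) (tt N7491 F29390))
theorem Q7519 : ∀ i, i < 7519 → P i := stepQ 7518 Q7518 (allL N7518 (tt N7824 F35254) (tt N4479 (iv D16641)) (tt N11721 D21951) (tt N11720 (iv F42617)) (tt N10957 (iv F40931)) (tt N7821 F35255) (tt N4676 F35256))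
theorem Q7520 : ∀ i, i < 7520 → P i := stepQ 7519 Q7519 (allL N7519 (tt N4733 F39591) (tt N11721 (iv F42620)) (tt N4480 (iv D16642)) (tt N4729 F39592) (tt N10958 (iv F40934)) (tt N7735 (iv F29798)) (tt N4634 F29391))
theorem Q7521 : ∀ i, i < 7521 → P i := stepQ 7520 Q7520 (allL N7520 (tt N11719 (iv F42614)) (tt N11722 D21952) (tt N11704 (iv F42573)) (tt N10961 (iv F40940)) (tt N4482 F29397) (tt N4481 (iv D16647)) (tt N11723 D21953))
theorem Q7522 : ∀ i, i < 7522 → P i := stepQ 7521 Q7521 (allL N7521 (tt N4536 F34857) (tt N4482 (iv D16648)) (tt N11724 D21954) (tt N4483 F29398) (tt N11722 (iv F42623)) (tt N7521 F29399) (tt N11725 D21955))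
theorem Q7523 : ∀ i, i < 7523 → P i := stepQ 7522 Q7522 (allL N7522 (tt N7491 F29400) (tt N11726 D21956) (tt N7517 (iv F35266)) (tt N4484 F29401) (tt N11723 (iv F42628)) (tt N7489 F29402) (tt N4482 (iv D16649)))
theorem Q7524 : ∀ i, i < 7524 → P i := stepQ 7523 Q7523 (allL N7523 (tt N4538 F34859) (tt N7863 F34860) (tt N7567 (iv F29493)) (tt N11725 (iv F42633)) (tt N10964 (iv F40949)) (tt N4538 F34861) (tt N4483 (iv D16651)))
theorem Q7525 : ∀ i, i < 7525 → P i := stepQ 7524 Q7524 (allL N7524 (tt N7866 F34853) (tt N4484 (iv D16652)) (tt N10404 (iv F39114)) (tt N11726 (iv F42635)) (tt N10965 (iv F40951)) (tt N4707 F34854) (tt N7863 F34855))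
theorem Q7526 : ∀ i, i < 7526 → P i := stepQ 7525 Q7525 (allL N7525 (tt N4486 (iv D16653)) (tt N5838 F29404) (tt N4490 F29405) (tt N5608 F29406) (tt N9527 (iv F37081)) (tt N5606 F29407) (tt N9193 (iv F36182)))
theorem Q7527 : ∀ i, i < 7527 → P i := stepQ 7526 Q7526 (allL N7526 (tt N9193 (iv F36178)) (tt N9822 (iv F37786)) (tt N4493 F29408) (tt N5613 F29409) (tt N9528 (iv F37085)) (tt N9188 (iv F36167)) (tt N4486 (iv D16654)))
theorem Q7528 : ∀ i, i < 7528 → P i := stepQ 7527 Q7527 (allL N7527 (tt N5845 F37068) (tt N4487 (iv D16655)) (tt N7731 (iv F29789)) (tt N9714 (iv F37537)) (tt N9529 (iv F37087)) (tt N9713 (iv F37534)) (tt N9822 (iv F37788)))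
theorem Q7529 : ∀ i, i < 7529 → P i := stepQ 7528 Q7528 (allL N7528 (tt N7528 F29410) (tt N4490 (iv D16656)) (tt N8318 (iv F32057)) (tt N5517 (iv F29412)) (tt N5318 F29411) (tt N7528 F29413) (tt N8318 (iv F32060)))
theorem Q7530 : ∀ i, i < 7530 → P i := stepQ 7529 Q7529 (allL N7529 (tt N4491 F29414) (tt N5517 F29415) (tt N6859 F29417) (tt N4490 (iv D16657)) (tt N5514 F29416) (tt N6857 (iv F29418)) (tt N11727 D21957))
theorem Q7531 : ∀ i, i < 7531 → P i := stepQ 7530 Q7530 (allL N7530 (tt N4492 F29419) (tt N7530 F29420) (tt N5606 F29421) (tt N6857 F29422) (tt N11026 (iv F41086)) (tt N4490 (iv D16658)) (tt N7537 (iv F29439)))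
theorem Q7532 : ∀ i, i < 7532 → P i := stepQ 7531 Q7531 (allL N7531 (tt N4493 F29423) (tt N7942 (iv F30124)) (tt N9193 (iv F36180)) (tt N11727 (iv F42641)) (tt N11027 (iv F41089)) (tt N7536 (iv F29437)) (tt N4490 (iv D16659)))
theorem Q7533 : ∀ i, i < 7533 → P i := stepQ 7532 Q7532 (allL N7532 (tt N6859 F29424) (tt N5083 F29425) (tt N4491 (iv D16660)) (tt N5088 F29426) (tt N11728 D21958) (tt N6855 (iv F29427)) (tt N10813 (iv F40525)))
theorem Q7534 : ∀ i, i < 7534 → P i := stepQ 7533 Q7533 (allL N7533 (tt N5514 F29428) (tt N4495 F29429) (tt N11728 (iv F42645)) (tt N5513 F29430) (tt N4491 (iv D16661)) (tt N11729 D21959) (tt N11730 D21960))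
theorem Q7535 : ∀ i, i < 7535 → P i := stepQ 7534 Q7534 (allL N7534 (tt N6857 F29431) (tt N4573 F29432) (tt N6855 F29433) (tt N4492 F29434) (tt N11729 (iv F42652)) (tt N4491 (iv D16662)) (tt N11731 D21961))
theorem Q7536 : ∀ i, i < 7536 → P i := stepQ 7535 Q7535 (allL N7535 (tt N11727 (iv F42639)) (tt N7686 (iv F29736)) (tt N10813 (iv F40523)) (tt N4493 F29435) (tt N11730 (iv F42655)) (tt N10810 (iv F40517)) (tt N4491 (iv D16663)))
theorem Q7537 : ∀ i, i < 7537 → P i := stepQ 7536 Q7536 (allL N7536 (tt N7537 (iv F29438)) (tt N11732 D21962) (tt N5611 F29436) (tt N11731 (iv F42658)) (tt N11030 (iv F41100)) (tt N7531 F29437) (tt N4492 (iv D16664)))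
theorem Q7538 : ∀ i, i < 7538 → P i := stepQ 7537 Q7537 (allL N7537 (tt N7536 F29438) (tt N7949 (iv F43066)) (tt N9188 (iv F36165)) (tt N10810 (iv F40516)) (tt N11031 (iv F41103)) (tt N4493 (iv D16665)) (tt N7530 F29439))
theorem Q7539 : ∀ i, i < 7539 → P i := stepQ 7538 Q7538 (allL N7538 (tt N4498 F29440) (tt N5747 F29441) (tt N4495 F29442) (tt N5749 F29444) (tt N4494 (iv D16666)) (tt N4579 F29443) (tt N7673 (iv F29703)))
theorem Q7540 : ∀ i, i < 7540 → P i := stepQ 7539 Q7539 (allL N7539 (tt N7539 F29445) (tt N4497 F29446) (tt N11733 D21964) (tt N4496 (iv D16667)) (tt N10854 (iv F40654)) (tt N7539 F29447) (tt N10384 (iv F39074)))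
theorem Q7541 : ∀ i, i < 7541 → P i := stepQ 7540 Q7540 (allL N7540 (tt N6417 F29448) (tt N10854 (iv F40652)) (tt N6416 F29449) (tt N10859 (iv F40675)) (tt N4497 (iv D16668)) (tt N4591 F29450) (tt N10387 (iv F39087)))
theorem Q7542 : ∀ i, i < 7542 → P i := stepQ 7541 Q7541 (allL N7541 (tt N11713 F42598) (tt N4500 (iv D16669)) (tt N11691 (iv F42529)) (tt N11034 (iv F41112)) (tt N4501 F29451) (tt N11734 D21965) (tt N7541 F29452))
theorem Q7543 : ∀ i, i < 7543 → P i := stepQ 7542 Q7542 (allL N7542 (tt N11715 (iv F42603)) (tt N11689 F42523) (tt N4501 (iv D16670)) (tt N11735 D21966) (tt N11691 (iv F42530)) (tt N11736 D21967) (tt N7542 F29453))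
theorem Q7544 : ∀ i, i < 7544 → P i := stepQ 7543 Q7543 (allL N7543 (tt N11716 (iv F42605)) (tt N7653 (iv F29668)) (tt N11736 (iv F42676)) (tt N4503 F29454) (tt N11734 (iv F42673)) (tt N4501 (iv D16671)) (tt N11716 (iv F42607)))
theorem Q7545 : ∀ i, i < 7545 → P i := stepQ 7544 Q7544 (allL N7544 (tt N7610 F29585) (tt N4506 F29455) (tt N11737 D21968) (tt N4502 (iv D16672)) (tt N11738 D21969) (tt N11739 D21970) (tt N7544 F29456))
theorem Q7546 : ∀ i, i < 7546 → P i := stepQ 7545 Q7545 (allL N7545 (tt N7612 (iv F29589)) (tt N11740 D21971) (tt N4503 F29457) (tt N11739 (iv F42681)) (tt N11038 (iv F41120)) (tt N4502 (iv D16673)) (tt N7612 (iv F29591)))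
theorem Q7547 : ∀ i, i < 7547 → P i := stepQ 7546 Q7546 (allL N7546 (tt N7737 (iv F39601)) (tt N8014 (iv F39630)) (tt N4504 (iv D16674)) (tt N7736 F39629) (tt N11039 (iv F41121)) (tt N7871 F30022) (tt N9815 F37773))
theorem Q7548 : ∀ i, i < 7548 → P i := stepQ 7547 Q7547 (allL N7547 (tt N4713 F29458) (tt N4510 F29459) (tt N9815 (iv F37770)) (tt N7496 F29460) (tt N11040 (iv F41124)) (tt N4711 F29461) (tt N4504 (iv D16675)))
theorem Q7549 : ∀ i, i < 7549 → P i := stepQ 7548 Q7548 (allL N7548 (tt N8017 (iv F39806)) (tt N4505 (iv D16676)) (tt N8014 F39634) (tt N11741 D21972) (tt N11041 (iv F41126)) (tt N11742 D21973) (tt N11743 D21974))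
theorem Q7550 : ∀ i, i < 7550 → P i := stepQ 7549 Q7549 (allL N7549 (tt N4506 F29462) (tt N11741 (iv F42685)) (tt N11744 D21975) (tt N4505 (iv D16677)) (tt N11745 D21976) (tt N7566 (iv F29490)) (tt N4512 F29463))
theorem Q7551 : ∀ i, i < 7551 → P i := stepQ 7550 Q7550 (allL N7550 (tt N11744 (iv F42691)) (tt N5011 F39537) (tt N4506 (iv D16678)) (tt N8478 F39538) (tt N8387 F39539) (tt N11746 D21977) (tt N4514 F29464))
theorem Q7552 : ∀ i, i < 7552 → P i := stepQ 7551 Q7551 (allL N7551 (tt N11745 (iv F42695)) (tt N11738 (iv F42679)) (tt N8387 (iv F39846)) (tt N11044 (iv F41130)) (tt N4506 (iv D16679)) (tt N11747 D21978) (tt N4515 F29465))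
theorem Q7553 : ∀ i, i < 7553 → P i := stepQ 7552 Q7552 (allL N7552 (tt N7566 (iv F29488)) (tt N11748 D21979) (tt N11746 (iv F42698)) (tt N4507 F29466) (tt N11747 (iv F42699)) (tt N4506 (iv D16680)) (tt N7561 (iv F29479)))
theorem Q7554 : ∀ i, i < 7554 → P i := stepQ 7553 Q7553 (allL N7553 (tt N11749 D21980) (tt N4507 (iv D16681)) (tt N7667 (iv F29685)) (tt N11748 (iv F42700)) (tt N11046 (iv F41133)) (tt N11740 (iv F42683)) (tt N11742 (iv F42687)))
theorem Q7555 : ∀ i, i < 7555 → P i := stepQ 7554 Q7554 (allL N7554 (tt N9803 (iv F37752)) (tt N4509 (iv D16683)) (tt N4511 F29469) (tt N9726 (iv F37589)) (tt N9550 (iv F37154)) (tt N9801 (iv F37747)) (tt N6063 F29470))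
theorem Q7556 : ∀ i, i < 7556 → P i := stepQ 7555 Q7555 (allL N7555 (tt N4511 (iv D16685)) (tt N11750 D21981) (tt N9803 (iv F37753)) (tt N11751 D21982) (tt N11047 (iv F41134)) (tt N9802 F37751) (tt N11752 D21983))
theorem Q7557 : ∀ i, i < 7557 → P i := stepQ 7556 Q7556 (allL N7556 (tt N11751 (iv F42703)) (tt N4512 F29471) (tt N8999 (iv F36233)) (tt N4511 (iv D16686)) (tt N11753 D21984) (tt N11754 D21985) (tt N8998 F36232))
theorem Q7558 : ∀ i, i < 7558 → P i := stepQ 7557 Q7557 (allL N7557 (tt N9802 (iv F37748)) (tt N11755 D21986) (tt N9801 (iv F37746)) (tt N11754 (iv F42713)) (tt N11049 (iv F41136)) (tt N4511 (iv D16687)) (tt N9800 F37743))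
theorem Q7559 : ∀ i, i < 7559 → P i := stepQ 7558 Q7558 (allL N7558 (tt N11752 (iv F42706)) (tt N11743 (iv F42689)) (tt N6063 F29472) (tt N8998 (iv F36231)) (tt N11050 (iv F41138)) (tt N6065 (iv F29473)) (tt N4511 (iv D16688)))
theorem Q7560 : ∀ i, i < 7560 → P i := stepQ 7559 Q7559 (allL N7559 (tt N4514 F29474) (tt N10570 F39528) (tt N4512 (iv D16689)) (tt N6432 F29475) (tt N8386 F39529) (tt N11756 D21987) (tt N11744 (iv F42694)))
theorem Q7561 : ∀ i, i < 7561 → P i := stepQ 7560 Q7560 (allL N7560 (tt N4515 F29476) (tt N11753 (iv F42710)) (tt N8386 (iv F39844)) (tt N11052 (iv F41143)) (tt N4512 (iv D16690)) (tt N11757 D21988) (tt N11745 (iv F42696)))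
theorem Q7562 : ∀ i, i < 7562 → P i := stepQ 7561 Q7561 (allL N7561 (tt N4516 F29477) (tt N11758 D21989) (tt N11756 (iv F42718)) (tt N4513 F29478) (tt N11757 (iv F42722)) (tt N4512 (iv D16691)) (tt N7552 F29479))
theorem Q7563 : ∀ i, i < 7563 → P i := stepQ 7562 Q7562 (allL N7562 (tt N11759 D21990) (tt N4513 (iv D16692)) (tt N10368 (iv F39036)) (tt N11758 (iv F42724)) (tt N11054 (iv F41147)) (tt N11755 (iv F42715)) (tt N11760 D21991))
theorem Q7564 : ∀ i, i < 7564 → P i := stepQ 7563 Q7563 (allL N7563 (tt N11756 (iv F42716)) (tt N8325 F39534) (tt N4516 F29484) (tt N8477 F39535) (tt N8384 F39536) (tt N4514 (iv D16696)) (tt N11761 D21992))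
theorem Q7565 : ∀ i, i < 7565 → P i := stepQ 7564 Q7564 (allL N7564 (tt N11757 (iv F42721)) (tt N11762 D21993) (tt N8384 (iv F39845)) (tt N11058 (iv F41153)) (tt N4516 F29485) (tt N4515 (iv D16697)) (tt N11763 D21994))
theorem Q7566 : ∀ i, i < 7566 → P i := stepQ 7565 Q7565 (allL N7565 (tt N7589 F35216) (tt N4516 (iv D16698)) (tt N11764 D21995) (tt N4517 F29486) (tt N11762 (iv F42732)) (tt N7565 F29487) (tt N11765 D21996))
theorem Q7567 : ∀ i, i < 7567 → P i := stepQ 7566 Q7566 (allL N7566 (tt N7552 F29488) (tt N11766 D21997) (tt N11761 (iv F42730)) (tt N4518 F29489) (tt N11763 (iv F42735)) (tt N7549 F29490) (tt N4516 (iv D16699)))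
theorem Q7568 : ∀ i, i < 7568 → P i := stepQ 7567 Q7567 (allL N7567 (tt N7590 F35218) (tt N11767 D21998) (tt N7523 F29493) (tt N11765 (iv F42738)) (tt N11061 (iv F41161)) (tt N7590 F35219) (tt N4517 (iv D16701)))
theorem Q7569 : ∀ i, i < 7569 → P i := stepQ 7568 Q7568 (allL N7568 (tt N11768 D21999) (tt N4518 (iv D16702)) (tt N11769 D22000) (tt N11766 (iv F42739)) (tt N11062 (iv F41162)) (tt N11760 (iv F42728)) (tt N11767 (iv F42740)))
theorem Q7570 : ∀ i, i < 7570 → P i := stepQ 7569 Q7569 (allL N7569 (tt N6500 F29494) (tt N11769 (iv F42744)) (tt N4519 (iv D16703)) (tt N10676 (iv F40154)) (tt N11063 (iv F41164)) (tt N7934 (iv F30106)) (tt N6498 F29495))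
theorem Q7571 : ∀ i, i < 7571 → P i := stepQ 7570 Q7570 (allL N7570 (tt N4521 (iv D16708)) (tt N5843 (iv F34830)) (tt N4525 F29501) (tt N5646 F34816) (tt N9540 (iv F37123)) (tt N9198 F36196) (tt N5643 (iv F34825)))
theorem Q7572 : ∀ i, i < 7572 → P i := stepQ 7571 Q7571 (allL N7571 (tt N9198 (iv F36197)) (tt N9875 (iv F37883)) (tt N4527 F29503) (tt N5649 F35293) (tt N9541 (iv F37127)) (tt N4521 (iv D16710)) (tt N9228 (iv F36285)))
theorem Q7573 : ∀ i, i < 7573 → P i := stepQ 7572 Q7572 (allL N7572 (tt N5841 F37076) (tt N4522 (iv D16716)) (tt N7893 (iv F30046)) (tt N9722 (iv F37569)) (tt N9542 (iv F37129)) (tt N9875 (iv F37885)) (tt N9691 (iv F37500)))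
theorem Q7574 : ∀ i, i < 7574 → P i := stepQ 7573 Q7573 (allL N7573 (tt N7573 F29513) (tt N4525 (iv D16720)) (tt N8319 F34808) (tt N5561 F34809) (tt N5338 F34810) (tt N8319 F34811) (tt N7573 F34812))
theorem Q7575 : ∀ i, i < 7575 → P i := stepQ 7574 Q7574 (allL N7574 (tt N4526 F29514) (tt N5561 F34807) (tt N6881 (iv F34813)) (tt N4525 (iv D16721)) (tt N5558 (iv F34806)) (tt N11770 D22001) (tt N6878 F34815))
theorem Q7576 : ∀ i, i < 7576 → P i := stepQ 7575 Q7575 (allL N7575 (tt N4527 F29515) (tt N8000 F34828) (tt N9198 (iv F36198)) (tt N11770 (iv F42747)) (tt N11064 (iv F41168)) (tt N4525 (iv D16722)) (tt N7582 (iv F29523)))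
theorem Q7577 : ∀ i, i < 7577 → P i := stepQ 7576 Q7576 (allL N7576 (tt N4528 F29516) (tt N7576 F34826) (tt N5643 F34823) (tt N6878 (iv F34824)) (tt N11065 (iv F41173)) (tt N7581 (iv F29521)) (tt N4525 (iv D16723)))
theorem Q7578 : ∀ i, i < 7578 → P i := stepQ 7577 Q7577 (allL N7577 (tt N6881 F34814) (tt N5084 F34817) (tt N4526 (iv D16724)) (tt N5090 F34818) (tt N11771 D22002) (tt N10833 (iv F40588)) (tt N6876 (iv F34819)))
theorem Q7579 : ∀ i, i < 7579 → P i := stepQ 7578 Q7578 (allL N7578 (tt N5558 F34805) (tt N4530 F29517) (tt N11771 (iv F42751)) (tt N5557 (iv F34804)) (tt N4526 (iv D16725)) (tt N11772 D22003) (tt N11773 D22004))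
theorem Q7580 : ∀ i, i < 7580 → P i := stepQ 7579 Q7579 (allL N7579 (tt N11770 (iv F42745)) (tt N7850 (iv F29995)) (tt N10833 (iv F40586)) (tt N4527 F29518) (tt N11772 (iv F42756)) (tt N4526 (iv D16726)) (tt N10831 (iv F40582)))
theorem Q7581 : ∀ i, i < 7581 → P i := stepQ 7580 Q7580 (allL N7580 (tt N6878 (iv F34822)) (tt N4675 F29519) (tt N6876 F34821) (tt N4528 F29520) (tt N11773 (iv F42761)) (tt N11774 D22005) (tt N4526 (iv D16727)))
theorem Q7582 : ∀ i, i < 7582 → P i := stepQ 7581 Q7581 (allL N7581 (tt N7582 (iv F29522)) (tt N8007 (iv F43617)) (tt N9228 (iv F36283)) (tt N10831 (iv F40581)) (tt N11068 (iv F41183)) (tt N7576 F29521) (tt N4527 (iv D16728)))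
theorem Q7583 : ∀ i, i < 7583 → P i := stepQ 7582 Q7582 (allL N7582 (tt N7581 F29522) (tt N11775 D22007) (tt N5648 (iv F35292)) (tt N11774 (iv F42764)) (tt N11069 (iv F41187)) (tt N4528 (iv D16729)) (tt N7575 F29523))
theorem Q7584 : ∀ i, i < 7584 → P i := stepQ 7583 Q7583 (allL N7583 (tt N4533 F29525) (tt N5748 F35106) (tt N4530 F29526) (tt N5750 (iv F35105)) (tt N4529 (iv D16731)) (tt N7837 (iv F29977)) (tt N4680 F29527))
theorem Q7585 : ∀ i, i < 7585 → P i := stepQ 7584 Q7584 (allL N7584 (tt N7584 F35168) (tt N4532 F29530) (tt N11776 D22008) (tt N4531 (iv D16733)) (tt N10856 (iv F40662)) (tt N10418 (iv F39151)) (tt N7584 F29531))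
theorem Q7586 : ∀ i, i < 7586 → P i := stepQ 7585 Q7585 (allL N7585 (tt N6448 F29536) (tt N10856 (iv F40660)) (tt N6447 F29537) (tt N10864 (iv F40696)) (tt N4532 (iv D16736)) (tt N10421 (iv F39166)) (tt N4691 F29538))
theorem Q7587 : ∀ i, i < 7587 → P i := stepQ 7586 Q7586 (allL N7586 (tt N11722 (iv F42625)) (tt N4535 (iv D16740)) (tt N11692 (iv F42532)) (tt N11072 (iv F41196)) (tt N4536 F29542) (tt N7586 F29543) (tt N11777 D22009))
theorem Q7588 : ∀ i, i < 7588 → P i := stepQ 7587 Q7587 (allL N7587 (tt N11724 (iv F42630)) (tt N11690 F42528) (tt N4536 (iv D16742)) (tt N11778 D22010) (tt N11692 (iv F42533)) (tt N7587 F29546) (tt N11779 D22011))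
theorem Q7589 : ∀ i, i < 7589 → P i := stepQ 7588 Q7588 (allL N7588 (tt N11725 (iv F42632)) (tt N7818 (iv F29945)) (tt N11779 (iv F42782)) (tt N4538 F29547) (tt N11777 (iv F42779)) (tt N11725 (iv F42634)) (tt N4536 (iv D16743)))
theorem Q7590 : ∀ i, i < 7590 → P i := stepQ 7589 Q7589 (allL N7589 (tt N7565 (iv F35216)) (tt N4541 F29552) (tt N11780 D22012) (tt N4537 (iv D16747)) (tt N11781 D22013) (tt N7589 F29553) (tt N11782 D22014))
theorem Q7591 : ∀ i, i < 7591 → P i := stepQ 7590 Q7590 (allL N7590 (tt N7567 (iv F35218)) (tt N11783 D22015) (tt N4538 F29554) (tt N11782 (iv F42790)) (tt N11076 (iv F41206)) (tt N7567 (iv F35219)) (tt N4537 (iv D16748)))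
theorem Q7592 : ∀ i, i < 7592 → P i := stepQ 7591 Q7591 (allL N7591 (tt N7898 (iv F39587)) (tt N7956 F39584) (tt N4539 (iv D16749)) (tt N7897 (iv F39586)) (tt N11077 (iv F41208)) (tt N9868 F37869) (tt N7706 F29762))
theorem Q7593 : ∀ i, i < 7593 → P i := stepQ 7592 Q7592 (allL N7592 (tt N4614 F29555) (tt N4545 F29556) (tt N9868 (iv F37867)) (tt N7487 F29557) (tt N11078 (iv F41211)) (tt N4539 (iv D16750)) (tt N4611 F29558))
theorem Q7594 : ∀ i, i < 7594 → P i := stepQ 7593 Q7593 (allL N7593 (tt N7959 F39810) (tt N4540 (iv D16751)) (tt N7956 (iv F39585)) (tt N11784 D22016) (tt N11079 (iv F41213)) (tt N11785 D22017) (tt N11786 D22018))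
theorem Q7595 : ∀ i, i < 7595 → P i := stepQ 7594 Q7594 (allL N7594 (tt N4541 F29559) (tt N11784 (iv F42795)) (tt N11787 D22019) (tt N4540 (iv D16752)) (tt N11788 D22020) (tt N4547 F29560) (tt N7611 (iv F29588)))
theorem Q7596 : ∀ i, i < 7596 → P i := stepQ 7595 Q7595 (allL N7595 (tt N11787 (iv F42801)) (tt N5014 F39660) (tt N4541 (iv D16753)) (tt N8475 F39661) (tt N8380 F39662) (tt N4549 F29561) (tt N11789 D22021))
theorem Q7597 : ∀ i, i < 7597 → P i := stepQ 7596 Q7596 (allL N7596 (tt N11788 (iv F42805)) (tt N11781 (iv F42787)) (tt N8380 (iv F39678)) (tt N11082 (iv F41217)) (tt N4541 (iv D16754)) (tt N4550 F29562) (tt N11790 D22022))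
theorem Q7598 : ∀ i, i < 7598 → P i := stepQ 7597 Q7597 (allL N7597 (tt N7611 (iv F29586)) (tt N11791 D22023) (tt N11789 (iv F42808)) (tt N4542 F29563) (tt N11790 (iv F42809)) (tt N7606 (iv F29576)) (tt N4541 (iv D16755)))
theorem Q7599 : ∀ i, i < 7599 → P i := stepQ 7598 Q7598 (allL N7598 (tt N11792 D22024) (tt N4542 (iv D16756)) (tt N7831 (iv F29962)) (tt N11791 (iv F42810)) (tt N11084 (iv F41220)) (tt N11786 (iv F42800)) (tt N11783 (iv F42794)))
theorem Q7600 : ∀ i, i < 7600 → P i := stepQ 7599 Q7599 (allL N7599 (tt N9856 (iv F37848)) (tt N4544 (iv D16758)) (tt N4546 F29566) (tt N9718 (iv F37557)) (tt N9537 (iv F37112)) (tt N6101 F36882) (tt N9854 (iv F37843)))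
theorem Q7601 : ∀ i, i < 7601 → P i := stepQ 7600 Q7600 (allL N7600 (tt N4546 (iv D16761)) (tt N11793 D22025) (tt N9856 (iv F37850)) (tt N11794 D22026) (tt N11085 (iv F41221)) (tt N11795 D22027) (tt N9855 (iv F37847)))
theorem Q7602 : ∀ i, i < 7602 → P i := stepQ 7601 Q7601 (allL N7601 (tt N11794 (iv F42816)) (tt N4547 F29570) (tt N9061 (iv F36887)) (tt N4546 (iv D16762)) (tt N11796 D22028) (tt N9060 F36886) (tt N11797 D22029))
theorem Q7603 : ∀ i, i < 7603 → P i := stepQ 7602 Q7602 (allL N7602 (tt N11795 (iv F42819)) (tt N11785 (iv F42798)) (tt N6101 (iv F36883)) (tt N9060 (iv F36885)) (tt N11087 (iv F41224)) (tt N4546 (iv D16763)) (tt N6103 F36884))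
theorem Q7604 : ∀ i, i < 7604 → P i := stepQ 7603 Q7603 (allL N7603 (tt N9855 (iv F37844)) (tt N11798 D22030) (tt N9854 (iv F37842)) (tt N11797 (iv F42826)) (tt N11088 (iv F41226)) (tt N9853 (iv F37839)) (tt N4546 (iv D16764)))
theorem Q7605 : ∀ i, i < 7605 → P i := stepQ 7604 Q7604 (allL N7604 (tt N4549 F29571) (tt N10621 F40008) (tt N4547 (iv D16765)) (tt N6463 F29572) (tt N8379 F39653) (tt N11787 (iv F42804)) (tt N11799 D22031))
theorem Q7606 : ∀ i, i < 7606 → P i := stepQ 7605 Q7605 (allL N7605 (tt N4550 F29573) (tt N11796 (iv F42823)) (tt N8379 (iv F39677)) (tt N11090 (iv F41230)) (tt N4547 (iv D16766)) (tt N11788 (iv F42806)) (tt N11800 D22032))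
theorem Q7607 : ∀ i, i < 7607 → P i := stepQ 7606 Q7606 (allL N7606 (tt N4551 F29574) (tt N11801 D22033) (tt N11799 (iv F42831)) (tt N4548 F29575) (tt N11800 (iv F42835)) (tt N7597 F29576) (tt N4547 (iv D16767)))
theorem Q7608 : ∀ i, i < 7608 → P i := stepQ 7607 Q7607 (allL N7607 (tt N11802 D22034) (tt N4548 (iv D16768)) (tt N10333 (iv F38957)) (tt N11801 (iv F42837)) (tt N11092 (iv F41234)) (tt N11803 D22035) (tt N11798 (iv F42828)))
theorem Q7609 : ∀ i, i < 7609 → P i := stepQ 7608 Q7608 (allL N7608 (tt N11799 (iv F42829)) (tt N8322 F39663) (tt N4551 F29581) (tt N8474 F39664) (tt N8377 F39665) (tt N11804 D22036) (tt N4549 (iv D16772)))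
theorem Q7610 : ∀ i, i < 7610 → P i := stepQ 7609 Q7609 (allL N7609 (tt N11800 (iv F42834)) (tt N11805 D22037) (tt N8377 (iv F39679)) (tt N11096 (iv F41240)) (tt N4551 F29582) (tt N11806 D22038) (tt N4550 (iv D16773)))
theorem Q7611 : ∀ i, i < 7611 → P i := stepQ 7610 Q7610 (allL N7610 (tt N7544 (iv F29585)) (tt N4551 (iv D16774)) (tt N11807 D22039) (tt N4552 F29583) (tt N11805 (iv F42845)) (tt N11808 D22040) (tt N7610 F29584))
theorem Q7612 : ∀ i, i < 7612 → P i := stepQ 7611 Q7611 (allL N7611 (tt N7597 F29586) (tt N11809 D22041) (tt N11804 (iv F42843)) (tt N4553 F29587) (tt N11806 (iv F42849)) (tt N4551 (iv D16775)) (tt N7594 F29588))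
theorem Q7613 : ∀ i, i < 7613 → P i := stepQ 7612 Q7612 (allL N7612 (tt N7545 F29589) (tt N11810 D22042) (tt N7509 F29590) (tt N11808 (iv F42854)) (tt N11099 (iv F41250)) (tt N4552 (iv D16776)) (tt N7545 F29591))
theorem Q7614 : ∀ i, i < 7614 → P i := stepQ 7613 Q7613 (allL N7613 (tt N11811 D22043) (tt N4553 (iv D16777)) (tt N11812 D22044) (tt N11809 (iv F42856)) (tt N11100 (iv F41252)) (tt N11810 (iv F42858)) (tt N11803 F42841))
theorem Q7615 : ∀ i, i < 7615 → P i := stepQ 7614 Q7614 (allL N7614 (tt N6533 F29592) (tt N11812 (iv F42861)) (tt N4554 (iv D16778)) (tt N10760 (iv F40378)) (tt N11101 (iv F41254)) (tt N6531 F29593) (tt N7780 (iv F29859)))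
theorem Q7616 : ∀ i, i < 7616 → P i := stepQ 7615 Q7615 (allL N7615 (tt N6389 F29594) (tt N6412 F29595) (tt N4555 (iv D16779)) (tt N11813 D22045) (tt N11242 (iv F41547)) (tt N7446 F29596) (tt N7825 (iv F29955)))
theorem Q7617 : ∀ i, i < 7617 → P i := stepQ 7616 Q7616 (allL N7616 (tt N6397 (iv F35272)) (tt N6051 (iv F36874)) (tt N4556 (iv D16780)) (tt N9464 (iv F36926)) (tt N9399 (iv F36752)) (tt N6396 (iv F34777)) (tt N9389 (iv F36709)))
theorem Q7618 : ∀ i, i < 7618 → P i := stepQ 7617 Q7617 (allL N7617 (tt N11814 D22046) (tt N4557 (iv D16781)) (tt N11815 D22047) (tt N9084 (iv F35887)) (tt N11244 (iv F41551)) (tt N11816 D22048) (tt N4561 F29598))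
theorem Q7619 : ∀ i, i < 7619 → P i := stepQ 7618 Q7618 (allL N7618 (tt N5522 F29599) (tt N7483 (iv F29603)) (tt N4577 F29600) (tt N5520 F29601) (tt N11245 (iv F41555)) (tt N4557 (iv D16782)) (tt N5518 F29602))
theorem Q7620 : ∀ i, i < 7620 → P i := stepQ 7619 Q7619 (allL N7619 (tt N8860 (iv F34007)) (tt N11817 D22049) (tt N7619 F29604) (tt N11246 (iv F41559)) (tt N4559 F29605) (tt N8858 (iv F34005)) (tt N4558 (iv D16783)))
theorem Q7621 : ∀ i, i < 7621 → P i := stepQ 7620 Q7620 (allL N7620 (tt N11818 D22050) (tt N4559 (iv D16784)) (tt N11819 D22051) (tt N4561 F29606) (tt N11817 (iv F42873)) (tt N11820 D22052) (tt N9084 (iv F35888)))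
theorem Q7622 : ∀ i, i < 7622 → P i := stepQ 7621 Q7621 (allL N7621 (tt N5177 F29607) (tt N11821 D22053) (tt N7621 F29608) (tt N4562 F29609) (tt N8858 (iv F34004)) (tt N4559 (iv D16785)) (tt N5176 F29610))
theorem Q7623 : ∀ i, i < 7623 → P i := stepQ 7622 Q7622 (allL N7622 (tt N11822 D22054) (tt N4560 (iv D16786)) (tt N11823 D22055) (tt N5545 F29611) (tt N11250 (iv F41570)) (tt N11824 D22056) (tt N5536 F29612))
theorem Q7624 : ∀ i, i < 7624 → P i := stepQ 7623 Q7623 (allL N7623 (tt N4561 (iv D16787)) (tt N11825 D22057) (tt N11826 D22058) (tt N11818 (iv F42874)) (tt N11251 (iv F41572)) (tt N11827 D22059) (tt N11814 (iv F42866)))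
theorem Q7625 : ∀ i, i < 7625 → P i := stepQ 7624 Q7624 (allL N7624 (tt N11826 (iv F42890)) (tt N4565 F29613) (tt N4561 (iv D16788)) (tt N11828 D22060) (tt N11252 (iv F41574)) (tt N11829 D22061) (tt N11815 (iv F42868)))
theorem Q7626 : ∀ i, i < 7626 → P i := stepQ 7625 Q7625 (allL N7625 (tt N11827 (iv F42891)) (tt N7708 F35275) (tt N11829 (iv F42894)) (tt N11820 (iv F42876)) (tt N11253 (iv F41575)) (tt N4561 (iv D16789)) (tt N11830 D22062))
theorem Q7627 : ∀ i, i < 7627 → P i := stepQ 7626 Q7626 (allL N7626 (tt N7710 F35273) (tt N4562 (iv D16790)) (tt N11831 D22063) (tt N11821 (iv F42877)) (tt N11254 (iv F41576)) (tt N7708 (iv F35274)) (tt N11832 D22064))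
theorem Q7628 : ∀ i, i < 7628 → P i := stepQ 7627 Q7627 (allL N7627 (tt N6439 F29614) (tt N11823 (iv F42882)) (tt N4563 (iv D16791)) (tt N8525 (iv F35074)) (tt N11255 (iv F41578)) (tt N6436 F29615) (tt N10344 (iv F38984)))
theorem Q7629 : ∀ i, i < 7629 → P i := stepQ 7628 Q7628 (allL N7628 (tt N4565 F29616) (tt N7958 (iv F35581)) (tt N4564 (iv D16792)) (tt N11833 D22065) (tt N11256 (iv F41581)) (tt N6459 F29617) (tt N4587 F29618))
theorem Q7630 : ∀ i, i < 7630 → P i := stepQ 7629 Q7629 (allL N7629 (tt N11833 (iv F42901)) (tt N11828 (iv F42893)) (tt N11834 D22066) (tt N4565 (iv D16793)) (tt N11835 D22067) (tt N11836 D22068) (tt N4589 F29619))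
theorem Q7631 : ∀ i, i < 7631 → P i := stepQ 7630 Q7630 (allL N7630 (tt N6459 F29620) (tt N11837 D22069) (tt N4566 F29621) (tt N11836 (iv F42913)) (tt N11258 (iv F41587)) (tt N4565 (iv D16794)) (tt N7663 (iv F29683)))
theorem Q7632 : ∀ i, i < 7632 → P i := stepQ 7631 Q7631 (allL N7631 (tt N4690 F29622) (tt N11831 (iv F42898)) (tt N4567 (iv D16795)) (tt N11838 D22070) (tt N11259 (iv F41589)) (tt N7795 (iv F29897)) (tt N4688 F29623))
theorem Q7633 : ∀ i, i < 7633 → P i := stepQ 7632 Q7632 (allL N7632 (tt N4571 F29624) (tt N6854 F29625) (tt N4568 (iv D16796)) (tt N6858 (iv F29626)) (tt N6852 F29627) (tt N11839 D22071) (tt N11840 D22072))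
theorem Q7634 : ∀ i, i < 7634 → P i := stepQ 7633 Q7633 (allL N7633 (tt N4572 F29628) (tt N7633 F29629) (tt N6852 F29630) (tt N8321 (iv F32074)) (tt N4568 (iv D16797)) (tt N11841 D22073) (tt N11842 D22074))
theorem Q7635 : ∀ i, i < 7635 → P i := stepQ 7634 Q7634 (allL N7634 (tt N4573 F29631) (tt N11694 (iv F42540)) (tt N11839 (iv F42918)) (tt N4569 F29632) (tt N11841 (iv F42928)) (tt N4568 (iv D16798)) (tt N7646 (iv F29656)))
theorem Q7636 : ∀ i, i < 7636 → P i := stepQ 7635 Q7635 (allL N7635 (tt N4574 F29633) (tt N11843 D22075) (tt N11840 (iv F42922)) (tt N4570 F29634) (tt N11842 (iv F42931)) (tt N7644 (iv F29651)) (tt N4568 (iv D16799)))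
theorem Q7637 : ∀ i, i < 7637 → P i := stepQ 7636 Q7636 (allL N7636 (tt N11844 D22076) (tt N4570 (iv D16800)) (tt N11845 D22077) (tt N11843 (iv F42932)) (tt N11260 (iv F41591)) (tt N11846 D22078) (tt N7636 F29635))
theorem Q7638 : ∀ i, i < 7638 → P i := stepQ 7637 Q7637 (allL N7637 (tt N7457 (iv F29638)) (tt N4571 (iv D16801)) (tt N4578 F29636) (tt N9417 (iv F36806)) (tt N7440 F29637) (tt N7439 (iv F29639)) (tt N11690 (iv F42527)))
theorem Q7639 : ∀ i, i < 7639 → P i := stepQ 7638 Q7638 (allL N7638 (tt N6858 F29640) (tt N9417 F36808) (tt N11729 (iv F42650)) (tt N4571 (iv D16802)) (tt N6855 (iv F29641)) (tt N11728 (iv F42646)) (tt N11847 D22079))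
theorem Q7640 : ∀ i, i < 7640 → P i := stepQ 7639 Q7639 (allL N7639 (tt N6852 F29642) (tt N7440 F29643) (tt N4572 F29644) (tt N6851 F29645) (tt N4571 (iv D16803)) (tt N11848 D22080) (tt N11849 D22081))
theorem Q7641 : ∀ i, i < 7641 → P i := stepQ 7640 Q7640 (allL N7640 (tt N11839 (iv F42916)) (tt N9415 (iv F36796)) (tt N4573 F29646) (tt N11728 (iv F42647)) (tt N11848 (iv F42948)) (tt N4571 (iv D16804)) (tt N11850 D22082))
theorem Q7642 : ∀ i, i < 7642 → P i := stepQ 7641 Q7641 (allL N7641 (tt N11840 (iv F42921)) (tt N11779 (iv F42781)) (tt N4574 F29647) (tt N11847 (iv F42942)) (tt N11849 (iv F42952)) (tt N11851 D22083) (tt N4571 (iv D16805)))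
theorem Q7643 : ∀ i, i < 7643 → P i := stepQ 7642 Q7642 (allL N7642 (tt N11841 (iv F42925)) (tt N11729 (iv F42649)) (tt N11848 (iv F42946)) (tt N10646 F40070) (tt N4573 F29648) (tt N4572 (iv D16806)) (tt N11852 D22084))
theorem Q7644 : ∀ i, i < 7644 → P i := stepQ 7643 Q7643 (allL N7643 (tt N11842 (iv F42929)) (tt N11853 D22085) (tt N11849 (iv F42950)) (tt N11261 (iv F41593)) (tt N4574 F29649) (tt N11854 D22086) (tt N4572 (iv D16807)))
theorem Q7645 : ∀ i, i < 7645 → P i := stepQ 7644 Q7644 (allL N7644 (tt N7646 (iv F29654)) (tt N11855 D22087) (tt N11850 (iv F42953)) (tt N4575 F29650) (tt N11852 (iv F42959)) (tt N7635 F29651) (tt N4573 (iv D16808)))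
theorem Q7646 : ∀ i, i < 7646 → P i := stepQ 7645 Q7645 (allL N7645 (tt N11856 D22088) (tt N4574 (iv D16809)) (tt N7818 F35172) (tt N4576 F29652) (tt N11853 (iv F42961)) (tt N11711 (iv F42591)) (tt N4582 F29653))
theorem Q7647 : ∀ i, i < 7647 → P i := stepQ 7646 Q7646 (allL N7646 (tt N7644 F29654) (tt N7482 (iv F29657)) (tt N11851 (iv F42956)) (tt N4577 F29655) (tt N11854 (iv F42964)) (tt N4574 (iv D16810)) (tt N7634 F29656))
theorem Q7648 : ∀ i, i < 7648 → P i := stepQ 7647 Q7647 (allL N7647 (tt N7689 F42663) (tt N4575 (iv D16811)) (tt N11857 D22089) (tt N11855 (iv F42967)) (tt N11265 (iv F41605)) (tt N7687 (iv F42664)) (tt N11732 (iv F42662)))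
theorem Q7649 : ∀ i, i < 7649 → P i := stepQ 7648 Q7648 (allL N7648 (tt N4576 (iv D16812)) (tt N11858 D22090) (tt N11859 D22091) (tt N11856 (iv F42968)) (tt N11266 (iv F41606)) (tt N7659 (iv F29677)) (tt N4583 F29658))
theorem Q7650 : ∀ i, i < 7650 → P i := stepQ 7649 Q7649 (allL N7649 (tt N11859 (iv F42976)) (tt N11815 (iv F42867)) (tt N4576 (iv D16813)) (tt N11860 D22092) (tt N11267 (iv F41608)) (tt N11712 (iv F42594)) (tt N4584 F29659))
theorem Q7651 : ∀ i, i < 7651 → P i := stepQ 7650 Q7650 (allL N7650 (tt N4594 F29660) (tt N7815 (iv F35116)) (tt N4581 F29661) (tt N7443 F29662) (tt N4580 F29663) (tt N7466 F29664) (tt N4579 (iv D16814)))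
theorem Q7652 : ∀ i, i < 7652 → P i := stepQ 7651 Q7651 (allL N7651 (tt N11861 D22093) (tt N4581 (iv D16816)) (tt N7816 F35117) (tt N11271 (iv F41617)) (tt N4582 F29666) (tt N11862 D22094) (tt N11853 (iv F42962)))
theorem Q7653 : ∀ i, i < 7653 → P i := stepQ 7652 Q7652 (allL N7652 (tt N4582 (iv D16817)) (tt N11863 D22095) (tt N7817 F35170) (tt N4583 F29667) (tt N11861 (iv F42984)) (tt N11864 D22096) (tt N11856 (iv F42969)))
theorem Q7654 : ∀ i, i < 7654 → P i := stepQ 7653 Q7653 (allL N7653 (tt N11864 (iv F42988)) (tt N7543 F29668) (tt N7809 F35171) (tt N4585 F29669) (tt N11862 (iv F42986)) (tt N4582 (iv D16819)) (tt N11865 D22097))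
theorem Q7655 : ∀ i, i < 7655 → P i := stepQ 7654 Q7654 (allL N7654 (tt N11846 (iv F42939)) (tt N4583 (iv D16820)) (tt N11866 D22098) (tt N11863 (iv F42987)) (tt N11275 (iv F41622)) (tt N11844 (iv F42938)) (tt N11846 F42937))
theorem Q7656 : ∀ i, i < 7656 → P i := stepQ 7655 Q7655 (allL N7655 (tt N4584 F29670) (tt N11867 D22099) (tt N4583 (iv D16821)) (tt N11868 D22100) (tt N11276 (iv F41624)) (tt N11869 D22101) (tt N11859 (iv F42979)))
theorem Q7657 : ∀ i, i < 7657 → P i := stepQ 7656 Q7656 (allL N7656 (tt N4585 F29671) (tt N7501 (iv F29673)) (tt N11869 (iv F43002)) (tt N11864 (iv F42989)) (tt N11277 (iv F41626)) (tt N4583 (iv D16822)) (tt N7504 F29672))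
theorem Q7658 : ∀ i, i < 7658 → P i := stepQ 7657 Q7657 (allL N7657 (tt N11868 (iv F42998)) (tt N4589 F29674) (tt N11870 D22102) (tt N4584 (iv D16823)) (tt N11871 D22103) (tt N8012 (iv F39560)) (tt N11860 (iv F42983)))
theorem Q7659 : ∀ i, i < 7659 → P i := stepQ 7658 Q7658 (allL N7658 (tt N11869 (iv F43001)) (tt N8020 (iv F39562)) (tt N4585 F29675) (tt N8012 F39561) (tt N11279 (iv F41631)) (tt N4584 (iv D16824)) (tt N8010 (iv F39563)))
theorem Q7660 : ∀ i, i < 7660 → P i := stepQ 7659 Q7659 (allL N7659 (tt N7504 F29676) (tt N4608 (iv F29678)) (tt N8010 F39564) (tt N11865 (iv F42994)) (tt N11280 (iv F41633)) (tt N7648 F29677) (tt N4585 (iv D16825)))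
theorem Q7661 : ∀ i, i < 7661 → P i := stepQ 7660 Q7660 (allL N7660 (tt N10296 (iv F38868)) (tt N7908 F35585) (tt N4586 (iv D16826)) (tt N11872 D22104) (tt N11281 (iv F41636)) (tt N7782 (iv F29864)) (tt N7451 F29679))
theorem Q7662 : ∀ i, i < 7662 → P i := stepQ 7661 Q7661 (allL N7661 (tt N7900 (iv F35583)) (tt N4587 (iv D16827)) (tt N7908 (iv F35584)) (tt N7706 (iv F39609)) (tt N11282 (iv F41638)) (tt N7705 F39615) (tt N7897 F35582))
theorem Q7663 : ∀ i, i < 7663 → P i := stepQ 7662 Q7662 (allL N7662 (tt N4589 F29680) (tt N7706 F39614) (tt N11873 D22105) (tt N4587 (iv D16828)) (tt N11874 D22106) (tt N11875 D22107) (tt N11833 (iv F42903)))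
theorem Q7664 : ∀ i, i < 7664 → P i := stepQ 7663 Q7663 (allL N7663 (tt N4590 F29681) (tt N11876 D22108) (tt N4588 F29682) (tt N11875 (iv F43019)) (tt N11284 (iv F41642)) (tt N4587 (iv D16829)) (tt N7630 F29683))
theorem Q7665 : ∀ i, i < 7665 → P i := stepQ 7664 Q7664 (allL N7664 (tt N11873 (iv F43012)) (tt N11877 D22109) (tt N4589 (iv D16830)) (tt N11878 D22110) (tt N11879 D22111) (tt N10331 (iv F39557)) (tt N11834 (iv F42908)))
theorem Q7666 : ∀ i, i < 7666 → P i := stepQ 7665 Q7665 (allL N7665 (tt N11874 (iv F43016)) (tt N11871 (iv F43007)) (tt N11879 (iv F43027)) (tt N11286 (iv F41644)) (tt N4589 (iv D16831)) (tt N11880 D22112) (tt N11835 (iv F42910)))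
theorem Q7667 : ∀ i, i < 7667 → P i := stepQ 7666 Q7666 (allL N7666 (tt N11875 (iv F43018)) (tt N8022 F39555) (tt N10331 F39556) (tt N4590 F29684) (tt N11880 (iv F43029)) (tt N4589 (iv D16832)) (tt N10327 (iv F39554)))
theorem Q7668 : ∀ i, i < 7668 → P i := stepQ 7667 Q7667 (allL N7667 (tt N11881 D22113) (tt N4590 (iv D16833)) (tt N7553 F29685) (tt N8022 (iv F39559)) (tt N11288 (iv F41647)) (tt N8020 F39569) (tt N11882 D22114))
theorem Q7669 : ∀ i, i < 7669 → P i := stepQ 7668 Q7668 (allL N7668 (tt N6486 F29686) (tt N7668 F29687) (tt N10193 F38671) (tt N4591 (iv D16834)) (tt N4593 F29688) (tt N10859 F40678) (tt N11883 D22115))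
theorem Q7670 : ∀ i, i < 7670 → P i := stepQ 7669 Q7669 (allL N7669 (tt N6487 F29689) (tt N11884 D22116) (tt N6473 F29690) (tt N11883 (iv F43040)) (tt N4592 F29691) (tt N10314 (iv F38922)) (tt N4591 (iv D16835)))
theorem Q7671 : ∀ i, i < 7671 → P i := stepQ 7670 Q7670 (allL N7670 (tt N4938 F35130) (tt N4592 (iv D16836)) (tt N11885 D22117) (tt N4595 F29692) (tt N11884 (iv F43043)) (tt N11886 D22118) (tt N7670 F29693))
theorem Q7672 : ∀ i, i < 7672 → P i := stepQ 7671 Q7671 (allL N7671 (tt N7443 F29694) (tt N9362 F36642) (tt N10447 (iv F39214)) (tt N4594 F29695) (tt N11883 (iv F43041)) (tt N7472 F29696) (tt N4593 (iv D16837)))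
theorem Q7673 : ∀ i, i < 7673 → P i := stepQ 7672 Q7672 (allL N7672 (tt N9360 F36635) (tt N4594 (iv D16838)) (tt N11887 D22119) (tt N9362 (iv F36640)) (tt N4595 F29697) (tt N11888 D22120) (tt N7672 F29698))
theorem Q7674 : ∀ i, i < 7674 → P i := stepQ 7673 Q7673 (allL N7673 (tt N7466 F29699) (tt N11889 D22121) (tt N4598 F29700) (tt N7472 F29701) (tt N4596 F29702) (tt N4594 (iv D16839)) (tt N7538 F29703))
theorem Q7675 : ∀ i, i < 7675 → P i := stepQ 7674 Q7674 (allL N7674 (tt N4595 (iv D16840)) (tt N4936 F35131) (tt N11890 D22122) (tt N4938 F35132) (tt N9360 (iv F36633)) (tt N7841 (iv F35133)) (tt N7674 F29704))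
theorem Q7676 : ∀ i, i < 7676 → P i := stepQ 7675 Q7675 (allL N7675 (tt N11890 (iv F43062)) (tt N4600 F29705) (tt N4595 (iv D16841)) (tt N4769 (iv F29707)) (tt N11887 (iv F43056)) (tt N11891 D22123) (tt N7675 F29706))
theorem Q7677 : ∀ i, i < 7677 → P i := stepQ 7676 Q7676 (allL N7676 (tt N7841 (iv F35135)) (tt N7840 F35124) (tt N11891 (iv F43069)) (tt N11886 (iv F43053)) (tt N11888 (iv F43058)) (tt N4595 (iv D16842)) (tt N7841 F35134))
theorem Q7678 : ∀ i, i < 7678 → P i := stepQ 7677 Q7677 (allL N7677 (tt N7840 F35125) (tt N4596 (iv D16843)) (tt N11892 D22124) (tt N8210 (iv F31772)) (tt N11889 (iv F43060)) (tt N7840 (iv F35123)) (tt N7838 (iv F35128)))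
theorem Q7679 : ∀ i, i < 7679 → P i := stepQ 7678 Q7678 (allL N7678 (tt N4597 (iv D16844)) (tt N11893 D22125) (tt N7680 (iv F29729)) (tt N11303 (iv F41687)) (tt N4599 F29708) (tt N7679 F29712) (tt N4755 F29709))
theorem Q7680 : ∀ i, i < 7680 → P i := stepQ 7679 Q7679 (allL N7679 (tt N7680 (iv F29728)) (tt N11887 (iv F43055)) (tt N4597 (iv D16845)) (tt N11564 (iv F42249)) (tt N4600 F29710) (tt N7678 (iv F29712)) (tt N4756 F29711))
theorem Q7681 : ∀ i, i < 7681 → P i := stepQ 7680 Q7680 (allL N7680 (tt N7679 F29728) (tt N11894 D22126) (tt N7678 F29729) (tt N11304 (iv F41691)) (tt N4601 F29730) (tt N4597 (iv D16846)) (tt N7936 (iv F30110)))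
theorem Q7682 : ∀ i, i < 7682 → P i := stepQ 7681 Q7681 (allL N7681 (tt N11895 D22127) (tt N4598 (iv D16847)) (tt N11896 D22128) (tt N11305 (iv F41693)) (tt N4602 F29731) (tt N11894 (iv F43074)) (tt N11897 D22129))
theorem Q7683 : ∀ i, i < 7683 → P i := stepQ 7682 Q7682 (allL N7682 (tt N11898 D22130) (tt N4599 (iv D16848)) (tt N11899 D22131) (tt N4603 F29732) (tt N11893 (iv F43072)) (tt N11900 D22132) (tt N11901 D22133))
theorem Q7684 : ∀ i, i < 7684 → P i := stepQ 7683 Q7683 (allL N7683 (tt N11902 D22134) (tt N4601 (iv D16849)) (tt N11903 D22135) (tt N4607 F29733) (tt N11894 (iv F43073)) (tt N4602 F29734) (tt N11717 (iv F42609)))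
theorem Q7685 : ∀ i, i < 7685 → P i := stepQ 7684 Q7684 (allL N7684 (tt N4602 (iv D16850)) (tt N11865 F42996) (tt N11726 (iv F42638)) (tt N4608 F29735) (tt N11895 (iv F43075)) (tt N11902 (iv F43087)) (tt N11904 D22136))
theorem Q7686 : ∀ i, i < 7686 → P i := stepQ 7685 Q7685 (allL N7685 (tt N11726 F42637) (tt N11892 (iv F43071)) (tt N4602 (iv D16851)) (tt N7866 (iv F40592)) (tt N11896 (iv F43076)) (tt N11903 (iv F43092)) (tt N7850 F40591))
theorem Q7687 : ∀ i, i < 7687 → P i := stepQ 7686 Q7686 (allL N7686 (tt N11904 (iv F43095)) (tt N7535 F29736) (tt N7850 (iv F40589)) (tt N4610 F29737) (tt N11897 (iv F43078)) (tt N7849 F40590) (tt N4602 (iv D16852)))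
theorem Q7688 : ∀ i, i < 7688 → P i := stepQ 7687 Q7687 (allL N7687 (tt N4603 (iv D16853)) (tt N11846 (iv F42936)) (tt N11905 D22137) (tt N11898 (iv F43079)) (tt N11311 (iv F41701)) (tt N7647 F42664) (tt N11858 (iv F42974)))
theorem Q7689 : ∀ i, i < 7689 → P i := stepQ 7688 Q7688 (allL N7688 (tt N11905 (iv F43099)) (tt N8508 F34914) (tt N4603 (iv D16854)) (tt N5196 F34915) (tt N11312 (iv F41702)) (tt N10354 F39008) (tt N5194 F34916))
theorem Q7690 : ∀ i, i < 7690 → P i := stepQ 7689 Q7689 (allL N7689 (tt N7647 (iv F42663)) (tt N7951 (iv F30143)) (tt N10354 (iv F39009)) (tt N11900 (iv F43083)) (tt N11313 (iv F41704)) (tt N4603 (iv D16855)) (tt N11906 D22138))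
theorem Q7691 : ∀ i, i < 7691 → P i := stepQ 7690 Q7690 (allL N7690 (tt N11858 (iv F42973)) (tt N4761 F29738) (tt N5194 F34913) (tt N11901 (iv F43085)) (tt N11314 (iv F41707)) (tt N11732 (iv F42661)) (tt N4603 (iv D16856)))
theorem Q7692 : ∀ i, i < 7692 → P i := stepQ 7691 Q7691 (allL N7691 (tt N11907 D22139) (tt N4604 (iv D16857)) (tt N8508 (iv F34917)) (tt N11908 D22140) (tt N10264 (iv F38800)) (tt N11909 D22141) (tt N8519 F34918))
theorem Q7693 : ∀ i, i < 7693 → P i := stepQ 7692 Q7692 (allL N7692 (tt N4605 F29739) (tt N11908 (iv F43110)) (tt N7947 (iv F30137)) (tt N4604 (iv D16858)) (tt N11910 D22142) (tt N7947 (iv F30139)) (tt N4763 F29740))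
theorem Q7694 : ∀ i, i < 7694 → P i := stepQ 7693 Q7693 (allL N7693 (tt N7947 (iv F30136)) (tt N11911 D22143) (tt N4605 (iv D16859)) (tt N4606 F29742) (tt N11912 D22144) (tt N4605 (iv F29743)) (tt N4765 F29741))
theorem Q7695 : ∀ i, i < 7695 → P i := stepQ 7694 Q7694 (allL N7694 (tt N11910 (iv F43113)) (tt N4618 F29744) (tt N11912 (iv F43118)) (tt N10270 (iv F38810)) (tt N4605 (iv D16860)) (tt N11912 (iv F43119)) (tt N4766 F29745))
theorem Q7696 : ∀ i, i < 7696 → P i := stepQ 7695 Q7695 (allL N7695 (tt N11913 D22145) (tt N4606 (iv D16861)) (tt N11914 D22146) (tt N11911 (iv F43116)) (tt N10274 (iv F38819)) (tt N4620 F29746) (tt N11915 D22147))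
theorem Q7697 : ∀ i, i < 7697 → P i := stepQ 7696 Q7696 (allL N7696 (tt N4607 (iv D16862)) (tt N11906 F43106) (tt N11916 D22148) (tt N11902 (iv F43086)) (tt N11315 (iv F41708)) (tt N4608 F29747) (tt N7702 (iv F29756)))
theorem Q7698 : ∀ i, i < 7698 → P i := stepQ 7697 Q7697 (allL N7697 (tt N11916 (iv F43126)) (tt N11914 (iv F43123)) (tt N4607 (iv D16863)) (tt N11917 D22149) (tt N11316 (iv F41710)) (tt N4609 F29748) (tt N10438 F39192))
theorem Q7699 : ∀ i, i < 7699 → P i := stepQ 7698 Q7698 (allL N7698 (tt N4609 F29749) (tt N4866 F39565) (tt N4608 (iv D16864)) (tt N4865 F39566) (tt N11317 (iv F41713)) (tt N11916 (iv F43127)) (tt N11918 D22150))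
theorem Q7700 : ∀ i, i < 7700 → P i := stepQ 7699 Q7699 (allL N7699 (tt N4610 F29750) (tt N7509 F29751) (tt N11918 (iv F43133)) (tt N11904 (iv F43097)) (tt N11318 (iv F41717)) (tt N7510 F29752) (tt N4608 (iv D16865)))
theorem Q7701 : ∀ i, i < 7701 → P i := stepQ 7700 Q7700 (allL N7700 (tt N4865 F39567) (tt N4626 F29753) (tt N11919 D22151) (tt N4609 (iv D16866)) (tt N11920 D22152) (tt N11917 (iv F43131)) (tt N11921 D22153))
theorem Q7702 : ∀ i, i < 7702 → P i := stepQ 7701 Q7701 (allL N7701 (tt N11918 (iv F43132)) (tt N11922 D22154) (tt N4610 F29754) (tt N11921 (iv F43147)) (tt N11320 (iv F41721)) (tt N11923 D22155) (tt N4609 (iv D16867)))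
theorem Q7703 : ∀ i, i < 7703 → P i := stepQ 7702 Q7702 (allL N7702 (tt N7510 F29755) (tt N11924 D22156) (tt N11923 (iv F43158)) (tt N7849 (iv F40593)) (tt N11321 (iv F41723)) (tt N4610 (iv D16868)) (tt N7696 F29756))
theorem Q7704 : ∀ i, i < 7704 → P i := stepQ 7703 Q7703 (allL N7703 (tt N4612 F29757) (tt N9864 (iv F37871)) (tt N4611 (iv D16869)) (tt N11925 D22157) (tt N11322 (iv F41726)) (tt N6400 F29758) (tt N9868 F37870))
theorem Q7705 : ∀ i, i < 7705 → P i := stepQ 7704 Q7704 (allL N7704 (tt N11926 D22158) (tt N4612 (iv D16870)) (tt N4615 F29759) (tt N11927 D22159) (tt N11323 (iv F41729)) (tt N11928 D22160) (tt N11929 D22161))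
theorem Q7706 : ∀ i, i < 7706 → P i := stepQ 7705 Q7705 (allL N7705 (tt N11925 (iv F43164)) (tt N11927 (iv F43170)) (tt N7913 F39616) (tt N4612 (iv D16871)) (tt N11930 D22162) (tt N7661 (iv F39615)) (tt N7899 F39617))
theorem Q7707 : ∀ i, i < 7707 → P i := stepQ 7706 Q7706 (allL N7706 (tt N6400 F29760) (tt N7662 (iv F39614)) (tt N4613 F29761) (tt N7661 F39609) (tt N11325 (iv F41732)) (tt N4612 (iv D16872)) (tt N7591 (iv F29762)))
theorem Q7708 : ∀ i, i < 7708 → P i := stepQ 7707 Q7707 (allL N7707 (tt N9868 F37868) (tt N11931 D22163) (tt N4614 F29763) (tt N7899 (iv F39618)) (tt N11326 (iv F41735)) (tt N7898 (iv F39589)) (tt N4612 (iv D16873)))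
theorem Q7709 : ∀ i, i < 7709 → P i := stepQ 7708 Q7708 (allL N7708 (tt N4615 (iv D16874)) (tt N7625 (iv F35275)) (tt N11926 (iv F43168)) (tt N11932 D22164) (tt N11327 (iv F41736)) (tt N7626 F35274) (tt N11933 D22165))
theorem Q7710 : ∀ i, i < 7710 → P i := stepQ 7709 Q7709 (allL N7709 (tt N11932 (iv F43187)) (tt N4616 F29764) (tt N11934 D22166) (tt N4615 (iv D16875)) (tt N11935 D22167) (tt N11936 D22168) (tt N11937 D22169))
theorem Q7711 : ∀ i, i < 7711 → P i := stepQ 7710 Q7710 (allL N7710 (tt N7626 (iv F35273)) (tt N7777 (iv F29854)) (tt N11928 (iv F43174)) (tt N11936 (iv F43193)) (tt N11329 (iv F41741)) (tt N4615 (iv D16876)) (tt N11938 D22170))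
theorem Q7712 : ∀ i, i < 7712 → P i := stepQ 7711 Q7711 (allL N7711 (tt N11933 (iv F43190)) (tt N4641 F29765) (tt N11929 (iv F43176)) (tt N11937 (iv F43195)) (tt N11330 (iv F41743)) (tt N11832 (iv F42900)) (tt N4615 (iv D16877)))
theorem Q7713 : ∀ i, i < 7713 → P i := stepQ 7712 Q7712 (allL N7712 (tt N4617 F29766) (tt N9100 (iv F35920)) (tt N4616 (iv D16878)) (tt N4748 F29768) (tt N11939 D22171) (tt N7772 (iv F29848)) (tt N4642 F29767))
theorem Q7714 : ∀ i, i < 7714 → P i := stepQ 7713 Q7713 (allL N7713 (tt N4618 F29769) (tt N11935 (iv F43191)) (tt N11939 (iv F43199)) (tt N11332 (iv F41748)) (tt N4616 (iv D16879)) (tt N7773 (iv F29851)) (tt N4643 F29770))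
theorem Q7715 : ∀ i, i < 7715 → P i := stepQ 7714 Q7714 (allL N7714 (tt N11940 D22172) (tt N4617 (iv D16880)) (tt N11911 (iv F43115)) (tt N8515 F35243) (tt N11941 D22173) (tt N11942 D22174) (tt N11943 D22175))
theorem Q7716 : ∀ i, i < 7716 → P i := stepQ 7715 Q7715 (allL N7715 (tt N4748 F29771) (tt N8515 (iv F35232)) (tt N4743 F29772) (tt N4617 (iv D16881)) (tt N11944 D22176) (tt N7879 (iv F30031)) (tt N4648 F29773))
theorem Q7717 : ∀ i, i < 7717 → P i := stepQ 7716 Q7716 (allL N7716 (tt N11939 (iv F43198)) (tt N11941 (iv F43201)) (tt N4618 F29774) (tt N11945 D22177) (tt N4617 (iv D16882)) (tt N11946 D22178) (tt N4649 F29775))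
theorem Q7718 : ∀ i, i < 7718 → P i := stepQ 7717 Q7717 (allL N7717 (tt N7772 (iv F29846)) (tt N11947 D22179) (tt N4619 F29776) (tt N7879 (iv F30030)) (tt N11946 (iv F43209)) (tt N4617 (iv D16883)) (tt N7758 (iv F29827)))
theorem Q7719 : ∀ i, i < 7719 → P i := stepQ 7718 Q7718 (allL N7718 (tt N7773 (iv F29849)) (tt N11948 D22180) (tt N11946 (iv F43208)) (tt N11337 (iv F41756)) (tt N4619 F29777) (tt N4618 (iv D16884)) (tt N7759 (iv F29830)))
theorem Q7720 : ∀ i, i < 7720 → P i := stepQ 7719 Q7719 (allL N7719 (tt N11949 D22181) (tt N4619 (iv D16885)) (tt N11942 (iv F43202)) (tt N4620 F29778) (tt N11948 (iv F43210)) (tt N11911 (iv F43117)) (tt N11950 D22182))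
theorem Q7721 : ∀ i, i < 7721 → P i := stepQ 7720 Q7720 (allL N7720 (tt N4620 (iv D16886)) (tt N11951 D22183) (tt N11952 D22184) (tt N11949 (iv F43211)) (tt N11339 (iv F41759)) (tt N11913 (iv F43121)) (tt N11953 D22185))
theorem Q7722 : ∀ i, i < 7722 → P i := stepQ 7721 Q7721 (allL N7721 (tt N11952 (iv F43216)) (tt N4622 F29779) (tt N4620 (iv D16887)) (tt N11954 D22186) (tt N11340 (iv F41761)) (tt N11914 (iv F43124)) (tt N11955 D22187))
theorem Q7723 : ∀ i, i < 7723 → P i := stepQ 7722 Q7722 (allL N7722 (tt N11953 (iv F43217)) (tt N7761 (iv F29832)) (tt N11955 (iv F43228)) (tt N11950 (iv F43213)) (tt N11341 (iv F41762)) (tt N11956 D22188) (tt N4620 (iv D16888)))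
theorem Q7724 : ∀ i, i < 7724 → P i := stepQ 7723 Q7723 (allL N7723 (tt N4622 F29780) (tt N5975 F35278) (tt N4621 (iv D16889)) (tt N11957 D22189) (tt N11342 (iv F41765)) (tt N4624 F29781) (tt N7732 (iv F29792)))
theorem Q7725 : ∀ i, i < 7725 → P i := stepQ 7724 Q7724 (allL N7724 (tt N11957 (iv F43234)) (tt N11954 (iv F43219)) (tt N6717 (iv F39721)) (tt N4622 (iv D16890)) (tt N6731 (iv F39722)) (tt N4626 F29782) (tt N6734 F39720))
theorem Q7726 : ∀ i, i < 7726 → P i := stepQ 7725 Q7725 (allL N7725 (tt N7732 (iv F29790)) (tt N11958 D22190) (tt N4623 F29783) (tt N6734 (iv F39719)) (tt N11344 (iv F41770)) (tt N7727 (iv F29787)) (tt N4622 (iv D16891)))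
theorem Q7727 : ∀ i, i < 7727 → P i := stepQ 7726 Q7726 (allL N7726 (tt N4626 F29784) (tt N6434 F35276) (tt N6757 F39730) (tt N4624 (iv D16893)) (tt N11959 D22191) (tt N11957 (iv F43237)) (tt N10675 (iv F40151)))
theorem Q7728 : ∀ i, i < 7728 → P i := stepQ 7727 Q7727 (allL N7727 (tt N4627 F29785) (tt N11960 D22192) (tt N4625 F29786) (tt N10675 (iv F40150)) (tt N11346 (iv F41775)) (tt N7725 F29787) (tt N4624 (iv D16894)))
theorem Q7729 : ∀ i, i < 7729 → P i := stepQ 7728 Q7728 (allL N7728 (tt N6757 (iv F39729)) (tt N6721 (iv F39726)) (tt N4626 (iv D16895)) (tt N6721 (iv F39727)) (tt N6729 F39725) (tt N6717 (iv F39728)) (tt N10674 (iv F40147)))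
theorem Q7730 : ∀ i, i < 7730 → P i := stepQ 7729 Q7729 (allL N7729 (tt N11959 (iv F43244)) (tt N11920 (iv F43142)) (tt N6729 (iv F39724)) (tt N11348 (iv F41777)) (tt N4626 (iv D16896)) (tt N6731 F39723) (tt N11961 D22193))
theorem Q7731 : ∀ i, i < 7731 → P i := stepQ 7730 Q7730 (allL N7730 (tt N10675 (iv F40148)) (tt N11962 D22194) (tt N10674 (iv F40144)) (tt N4627 F29788) (tt N11961 (iv F43253)) (tt N10673 F40142) (tt N4626 (iv D16897)))
theorem Q7732 : ∀ i, i < 7732 → P i := stepQ 7731 Q7731 (allL N7731 (tt N9489 (iv F37069)) (tt N4627 (iv D16898)) (tt N7527 F29789) (tt N11962 (iv F43254)) (tt N11350 (iv F41781)) (tt N11963 D22195) (tt N11922 (iv F43153)))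
theorem Q7733 : ∀ i, i < 7733 → P i := stepQ 7732 Q7732 (allL N7732 (tt N7725 F29790) (tt N11964 D22196) (tt N4628 F29791) (tt N10673 (iv F40141)) (tt N11351 (iv F41784)) (tt N4627 (iv D16899)) (tt N7723 F29792))
theorem Q7734 : ∀ i, i < 7734 → P i := stepQ 7733 Q7733 (allL N7733 (tt N4808 F30285) (tt N4629 (iv D16900)) (tt N7895 (iv F30050)) (tt N11712 F42595) (tt N11352 (iv F41786)) (tt N11860 (iv F42982)) (tt N11965 D22197))
theorem Q7735 : ∀ i, i < 7735 → P i := stepQ 7734 Q7734 (allL N7734 (tt N4634 F29794) (tt N11966 D22198) (tt N4630 F29795) (tt N4735 F39595) (tt N11354 (iv F41792)) (tt N4629 (iv D16902)) (tt N4733 F39596))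
theorem Q7736 : ∀ i, i < 7736 → P i := stepQ 7735 Q7735 (allL N7735 (tt N4635 F29796) (tt N11967 D22199) (tt N4631 F29797) (tt N7896 F39619) (tt N11355 (iv F41796)) (tt N7519 F29798) (tt N4629 (iv D16903)))
theorem Q7737 : ∀ i, i < 7737 → P i := stepQ 7736 Q7736 (allL N7736 (tt N4632 (iv D16904)) (tt N4810 F30284) (tt N4638 F29799) (tt N7546 (iv F39629)) (tt N11356 (iv F41800)) (tt N7826 (iv F29959)) (tt N11968 D22200))
theorem Q7738 : ∀ i, i < 7738 → P i := stepQ 7737 Q7737 (allL N7737 (tt N7546 F39601) (tt N4633 F29800) (tt N6401 F39602) (tt N4632 (iv D16905)) (tt N11969 D22201) (tt N6402 F39603) (tt N7870 F39604))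
theorem Q7739 : ∀ i, i < 7739 → P i := stepQ 7738 Q7738 (allL N7738 (tt N7826 (iv F29956)) (tt N11970 D22202) (tt N4640 F29801) (tt N6402 F39627) (tt N11358 (iv F41804)) (tt N4632 (iv D16906)) (tt N11971 D22203))
theorem Q7740 : ∀ i, i < 7740 → P i := stepQ 7739 Q7739 (allL N7739 (tt N11968 (iv F43269)) (tt N11972 D22204) (tt N4641 F29802) (tt N7870 (iv F39622)) (tt N11359 (iv F41806)) (tt N7869 F39623) (tt N4632 (iv D16907)))
theorem Q7741 : ∀ i, i < 7741 → P i := stepQ 7740 Q7740 (allL N7740 (tt N10946 (iv F40903)) (tt N11969 (iv F43274)) (tt N7348 F39620) (tt N11360 (iv F41808)) (tt N4633 (iv D16909)) (tt N11514 (iv F42139)) (tt N7346 (iv F39621)))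
theorem Q7742 : ∀ i, i < 7742 → P i := stepQ 7741 Q7741 (allL N7741 (tt N4735 F39606) (tt N11973 D22205) (tt N4731 F39607) (tt N4634 F29803) (tt N11514 (iv F42138)) (tt N4633 (iv D16910)) (tt N4729 F39608))
theorem Q7743 : ∀ i, i < 7743 → P i := stepQ 7742 Q7742 (allL N7742 (tt N11974 D22206) (tt N4634 (iv D16912)) (tt N11975 D22207) (tt N11973 (iv F43287)) (tt N11363 (iv F41813)) (tt N11970 (iv F43279)) (tt N11976 D22208))
theorem Q7744 : ∀ i, i < 7744 → P i := stepQ 7743 Q7743 (allL N7743 (tt N7743 F43183) (tt N4635 (iv D16913)) (tt N11931 (iv F43181)) (tt N7902 F39807) (tt N11364 (iv F41814)) (tt N11931 (iv F43182)) (tt N11972 (iv F43285)))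
theorem Q7745 : ∀ i, i < 7745 → P i := stepQ 7744 Q7744 (allL N7744 (tt N8032 (iv F30311)) (tt N11975 (iv F43291)) (tt N4636 (iv D16915)) (tt N11977 D22209) (tt N11365 (iv F41815)) (tt N4646 F29808) (tt N7492 F29809))
theorem Q7746 : ∀ i, i < 7746 → P i := stepQ 7745 Q7745 (allL N7745 (tt N4778 F29810) (tt N4638 (iv D16916)) (tt N4816 (iv F30287)) (tt N11978 D22210) (tt N11366 (iv F41820)) (tt N11684 (iv F42507)) (tt N11979 D22211))
theorem Q7747 : ∀ i, i < 7747 → P i := stepQ 7746 Q7746 (allL N7746 (tt N4639 F29811) (tt N11978 (iv F43299)) (tt N9136 F39631) (tt N4638 (iv D16917)) (tt N11980 D22212) (tt N11706 (iv F42582)) (tt N11981 D22213))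
theorem Q7748 : ∀ i, i < 7748 → P i := stepQ 7747 Q7747 (allL N7747 (tt N4640 F29812) (tt N7825 (iv F29958)) (tt N7826 F29957) (tt N11706 (iv F42581)) (tt N11368 (iv F41823)) (tt N4638 (iv D16918)) (tt N7755 (iv F29820)))
theorem Q7749 : ∀ i, i < 7749 → P i := stepQ 7748 Q7748 (allL N7748 (tt N4641 F29813) (tt N11982 D22214) (tt N11968 (iv F43271)) (tt N11981 (iv F43305)) (tt N11369 (iv F41825)) (tt N7754 (iv F29818)) (tt N4638 (iv D16919)))
theorem Q7750 : ∀ i, i < 7750 → P i := stepQ 7749 Q7749 (allL N7749 (tt N9136 F39633) (tt N11983 D22215) (tt N4639 (iv D16920)) (tt N10322 F39632) (tt N11984 D22216) (tt N11705 (iv F42577)) (tt N11985 D22217))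
theorem Q7751 : ∀ i, i < 7751 → P i := stepQ 7750 Q7750 (allL N7750 (tt N11980 (iv F43302)) (tt N4643 F29814) (tt N11984 (iv F43307)) (tt N11371 (iv F41827)) (tt N4639 (iv D16921)) (tt N11986 D22218) (tt N11987 D22219))
theorem Q7752 : ∀ i, i < 7752 → P i := stepQ 7751 Q7751 (allL N7751 (tt N11706 (iv F42580)) (tt N8536 F33301) (tt N11705 (iv F42579)) (tt N4640 F29815) (tt N11986 (iv F43313)) (tt N4639 (iv D16922)) (tt N11988 D22220))
theorem Q7753 : ∀ i, i < 7753 → P i := stepQ 7752 Q7752 (allL N7752 (tt N11981 (iv F43303)) (tt N11937 (iv F43194)) (tt N11985 (iv F43309)) (tt N4641 F29816) (tt N11987 (iv F43314)) (tt N11989 D22221) (tt N4639 (iv D16923)))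
theorem Q7754 : ∀ i, i < 7754 → P i := stepQ 7753 Q7753 (allL N7753 (tt N8537 (iv F33303)) (tt N4640 (iv D16924)) (tt N11990 D22222) (tt N8536 F33302) (tt N11374 (iv F41830)) (tt N4645 F29817) (tt N11991 D22223))
theorem Q7755 : ∀ i, i < 7755 → P i := stepQ 7754 Q7754 (allL N7754 (tt N7755 (iv F29819)) (tt N9812 (iv F43340)) (tt N11971 (iv F43281)) (tt N11988 (iv F43316)) (tt N11375 (iv F41832)) (tt N7748 F29818) (tt N4640 (iv D16925)))
theorem Q7756 : ∀ i, i < 7756 → P i := stepQ 7755 Q7755 (allL N7755 (tt N7754 F29819) (tt N10309 (iv F38909)) (tt N7869 (iv F39624)) (tt N11989 (iv F43320)) (tt N11376 (iv F41835)) (tt N4641 (iv D16926)) (tt N7747 F29820))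
theorem Q7757 : ∀ i, i < 7757 → P i := stepQ 7756 Q7756 (allL N7756 (tt N11992 D22225) (tt N4642 (iv D16927)) (tt N11983 (iv F43306)) (tt N4746 F29821) (tt N11993 D22226) (tt N11994 D22227) (tt N11995 D22228))
theorem Q7758 : ∀ i, i < 7758 → P i := stepQ 7757 Q7757 (allL N7757 (tt N4649 F29822) (tt N11993 (iv F43327)) (tt N4643 F29823) (tt N11996 D22229) (tt N4642 (iv D16928)) (tt N11997 D22230) (tt N11939 (iv F43200)))
theorem Q7759 : ∀ i, i < 7759 → P i := stepQ 7758 Q7758 (allL N7758 (tt N4650 F29824) (tt N8544 (iv F33311)) (tt N4644 F29825) (tt N4717 F29826) (tt N11997 (iv F43334)) (tt N4642 (iv D16929)) (tt N7717 F29827))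
theorem Q7760 : ∀ i, i < 7760 → P i := stepQ 7759 Q7759 (allL N7759 (tt N4651 F29828) (tt N8421 F32360) (tt N11997 (iv F43333)) (tt N11380 (iv F41845)) (tt N4644 F29829) (tt N4643 (iv D16930)) (tt N7718 F29830))
theorem Q7761 : ∀ i, i < 7761 → P i := stepQ 7760 Q7760 (allL N7760 (tt N8548 (iv F33322)) (tt N4646 F29831) (tt N4645 (iv D16931)) (tt N11998 D22231) (tt N11382 (iv F41850)) (tt N11990 (iv F43323)) (tt N10432 F39399))
theorem Q7762 : ∀ i, i < 7762 → P i := stepQ 7761 Q7761 (allL N7761 (tt N8550 (iv F33327)) (tt N7722 F29832) (tt N10432 (iv F39400)) (tt N8547 (iv F33318)) (tt N11383 (iv F41852)) (tt N11999 D22232) (tt N4645 (iv D16932)))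
theorem Q7763 : ∀ i, i < 7763 → P i := stepQ 7762 Q7762 (allL N7762 (tt N11708 (iv F42583)) (tt N11998 (iv F43337)) (tt N11988 (iv F43315)) (tt N4646 (iv D16933)) (tt N12000 D22233) (tt N11977 (iv F43296)) (tt N11705 (iv F42578)))
theorem Q7764 : ∀ i, i < 7764 → P i := stepQ 7763 Q7763 (allL N7763 (tt N4647 (iv D16934)) (tt N12001 D22234) (tt N4788 F29833) (tt N12002 D22235) (tt N12003 D22236) (tt N12004 D22237) (tt N12005 D22238))
theorem Q7765 : ∀ i, i < 7765 → P i := stepQ 7764 Q7764 (allL N7764 (tt N12002 (iv F43345)) (tt N4648 F29834) (tt N12006 D22239) (tt N4647 (iv D16935)) (tt N12007 D22240) (tt N12008 D22241) (tt N12009 D22242))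
theorem Q7766 : ∀ i, i < 7766 → P i := stepQ 7765 Q7765 (allL N7765 (tt N12003 (iv F43346)) (tt N4649 F29835) (tt N4789 F29836) (tt N12010 D22243) (tt N4647 (iv D16936)) (tt N12011 D22244) (tt N12012 D22245))
theorem Q7767 : ∀ i, i < 7767 → P i := stepQ 7766 Q7766 (allL N7766 (tt N12004 (iv F43348)) (tt N9049 (iv F35812)) (tt N4790 F29837) (tt N12008 (iv F43354)) (tt N12011 (iv F43358)) (tt N4647 (iv D16937)) (tt N12013 D22246))
theorem Q7768 : ∀ i, i < 7768 → P i := stepQ 7767 Q7767 (allL N7767 (tt N12005 (iv F43350)) (tt N11943 (iv F43203)) (tt N4791 F29838) (tt N12009 (iv F43355)) (tt N12012 (iv F43360)) (tt N12014 D22247) (tt N4647 (iv D16938)))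
theorem Q7769 : ∀ i, i < 7769 → P i := stepQ 7768 Q7768 (allL N7768 (tt N4747 F29839) (tt N12007 (iv F43353)) (tt N4742 F29840) (tt N12015 D22248) (tt N4648 (iv D16939)) (tt N12016 D22249) (tt N11944 (iv F43206)))
theorem Q7770 : ∀ i, i < 7770 → P i := stepQ 7769 Q7769 (allL N7769 (tt N4717 F29841) (tt N9154 (iv F36054)) (tt N4716 F29842) (tt N4650 F29843) (tt N12016 (iv F43370)) (tt N4648 (iv D16940)) (tt N7926 (iv F30095)))
theorem Q7771 : ∀ i, i < 7771 → P i := stepQ 7770 Q7770 (allL N7770 (tt N11996 (iv F43330)) (tt N12010 (iv F43356)) (tt N12017 D22250) (tt N4649 (iv D16941)) (tt N12015 (iv F43367)) (tt N12018 D22251) (tt N11945 (iv F43207)))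
theorem Q7772 : ∀ i, i < 7772 → P i := stepQ 7771 Q7771 (allL N7771 (tt N11997 (iv F43332)) (tt N8838 F35241) (tt N4651 F29844) (tt N12018 (iv F43371)) (tt N4650 F29845) (tt N4649 (iv D16942)) (tt N12019 D22252))
theorem Q7773 : ∀ i, i < 7773 → P i := stepQ 7772 Q7772 (allL N7772 (tt N7717 F29846) (tt N12020 D22253) (tt N4652 F29847) (tt N7926 (iv F30094)) (tt N12019 (iv F43374)) (tt N7712 F29848) (tt N4650 (iv D16944)))
theorem Q7774 : ∀ i, i < 7774 → P i := stepQ 7773 Q7773 (allL N7773 (tt N7718 F29849) (tt N12021 D22254) (tt N12019 (iv F43373)) (tt N11396 (iv F41870)) (tt N4652 F29850) (tt N7713 F29851) (tt N4651 (iv D16945)))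
theorem Q7775 : ∀ i, i < 7775 → P i := stepQ 7774 Q7774 (allL N7774 (tt N12022 D22255) (tt N4652 (iv D16946)) (tt N12023 D22256) (tt N4653 F29852) (tt N12021 (iv F43376)) (tt N12023 (iv F46881)) (tt N10485 (iv F39290)))
theorem Q7776 : ∀ i, i < 7776 → P i := stepQ 7775 Q7775 (allL N7775 (tt N4653 (iv D16947)) (tt N9413 F39299) (tt N12024 D22258) (tt N12022 (iv F43377)) (tt N11398 (iv F41874)) (tt N12025 D22259) (tt N10488 (iv F39298)))
theorem Q7777 : ∀ i, i < 7777 → P i := stepQ 7776 Q7776 (allL N7776 (tt N12024 (iv F43382)) (tt N4655 F29853) (tt N4653 (iv D16948)) (tt N12026 D22260) (tt N11399 (iv F41876)) (tt N12027 D22261) (tt N10489 (iv F39303)))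
theorem Q7778 : ∀ i, i < 7778 → P i := stepQ 7777 Q7777 (allL N7777 (tt N12025 (iv F43384)) (tt N7710 F29854) (tt N12027 (iv F43388)) (tt N12023 (iv F46880)) (tt N11400 (iv F41878)) (tt N4653 (iv D16949)) (tt N12028 D22262))
theorem Q7779 : ∀ i, i < 7779 → P i := stepQ 7778 Q7778 (allL N7778 (tt N4655 F29855) (tt N12029 D22263) (tt N4654 (iv D16950)) (tt N6795 F39777) (tt N11401 (iv F41880)) (tt N6813 (iv F39747)) (tt N6531 F29856))
theorem Q7780 : ∀ i, i < 7780 → P i := stepQ 7779 Q7779 (allL N7779 (tt N6795 (iv F39758)) (tt N12026 (iv F43386)) (tt N6794 (iv F39759)) (tt N4655 (iv D16951)) (tt N6798 F39757) (tt N6811 (iv F39761)) (tt N6532 F29857))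
theorem Q7781 : ∀ i, i < 7781 → P i := stepQ 7780 Q7780 (allL N7780 (tt N6813 (iv F39745)) (tt N11873 (iv F43013)) (tt N4656 F29858) (tt N6811 F39762) (tt N11402 (iv F41887)) (tt N4655 (iv D16952)) (tt N7614 F29859))
theorem Q7782 : ∀ i, i < 7782 → P i := stepQ 7781 Q7781 (allL N7781 (tt N6394 F29860) (tt N6089 F29861) (tt N4657 (iv D16953)) (tt N9459 (iv F36908)) (tt N9394 (iv F36730)) (tt N9388 (iv F36703)) (tt N6393 F29862))
theorem Q7783 : ∀ i, i < 7783 → P i := stepQ 7782 Q7782 (allL N7782 (tt N6391 F29863) (tt N6443 (iv F35183)) (tt N4658 (iv D16954)) (tt N12030 D22264) (tt N11403 (iv F41891)) (tt N7660 F29864) (tt N7449 F29865))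
theorem Q7784 : ∀ i, i < 7784 → P i := stepQ 7783 Q7783 (allL N7783 (tt N12031 D22265) (tt N4659 (iv D16959)) (tt N11976 (iv F43294)) (tt N9139 (iv F36021)) (tt N11405 (iv F41896)) (tt N4662 F29870) (tt N11975 F43292))
theorem Q7785 : ∀ i, i < 7785 → P i := stepQ 7784 Q7784 (allL N7784 (tt N5566 (iv F34755)) (tt N7492 (iv F35251)) (tt N4677 F29871) (tt N5563 F35268) (tt N11406 (iv F41900)) (tt N5562 (iv F34751)) (tt N4659 (iv D16960)))
theorem Q7786 : ∀ i, i < 7786 → P i := stepQ 7785 Q7785 (allL N7785 (tt N8874 F34789) (tt N12032 D22266) (tt N7785 F29877) (tt N11407 (iv F41904)) (tt N4661 F29878) (tt N4660 (iv D16963)) (tt N8872 F34790))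
theorem Q7787 : ∀ i, i < 7787 → P i := stepQ 7786 Q7786 (allL N7786 (tt N12033 D22267) (tt N4661 (iv D16965)) (tt N12034 D22268) (tt N4662 F29881) (tt N12032 (iv F43402)) (tt N9139 (iv F36022)) (tt N12035 D22269))
theorem Q7788 : ∀ i, i < 7788 → P i := stepQ 7787 Q7787 (allL N7787 (tt N5188 F34768) (tt N12036 D22270) (tt N7787 F29882) (tt N4663 F29883) (tt N8872 F34769) (tt N5187 F34770) (tt N4661 (iv D16966)))
theorem Q7789 : ∀ i, i < 7789 → P i := stepQ 7788 Q7788 (allL N7788 (tt N4662 (iv D16969)) (tt N12037 D22271) (tt N12038 D22272) (tt N12033 (iv F43403)) (tt N11411 (iv F41915)) (tt N12031 (iv F43400)) (tt N12039 D22273))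
theorem Q7790 : ∀ i, i < 7790 → P i := stepQ 7789 Q7789 (allL N7789 (tt N12038 (iv F43410)) (tt N4666 F29890) (tt N4662 (iv D16970)) (tt N12040 D22274) (tt N11412 (iv F41917)) (tt N11976 F43295) (tt N12041 D22275))
theorem Q7791 : ∀ i, i < 7791 → P i := stepQ 7790 Q7790 (allL N7790 (tt N12039 (iv F43412)) (tt N7872 F43416) (tt N12041 (iv F43424)) (tt N12035 (iv F43405)) (tt N11413 (iv F41918)) (tt N12042 D22276) (tt N4662 (iv D16971)))
theorem Q7792 : ∀ i, i < 7792 → P i := stepQ 7791 Q7791 (allL N7791 (tt N7875 F43419) (tt N4663 (iv D16972)) (tt N11876 (iv F43021)) (tt N12036 (iv F43406)) (tt N11414 (iv F41919)) (tt N12043 D22277) (tt N7872 (iv F43418)))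
theorem Q7793 : ∀ i, i < 7793 → P i := stepQ 7792 Q7792 (allL N7792 (tt N12044 D22278) (tt N4664 (iv D16975)) (tt N12045 D22279) (tt N5589 F35282) (tt N11415 (iv F41920)) (tt N5580 (iv F35283)) (tt N12046 D22280))
theorem Q7794 : ∀ i, i < 7794 → P i := stepQ 7793 Q7793 (allL N7793 (tt N4666 F29891) (tt N8015 (iv F30283)) (tt N4665 (iv D16976)) (tt N12047 D22281) (tt N11416 (iv F41923)) (tt N4688 F29892) (tt N6428 F29893))
theorem Q7795 : ∀ i, i < 7795 → P i := stepQ 7794 Q7794 (allL N7794 (tt N12047 (iv F43442)) (tt N12040 (iv F43422)) (tt N12048 D22282) (tt N4666 (iv D16977)) (tt N12049 D22283) (tt N4689 F29894) (tt N12050 D22284))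
theorem Q7796 : ∀ i, i < 7796 → P i := stepQ 7795 Q7795 (allL N7795 (tt N6428 F29895) (tt N12051 D22285) (tt N4667 F29896) (tt N12050 (iv F43455)) (tt N11418 (iv F41929)) (tt N7631 F29897) (tt N4666 (iv D16978)))
theorem Q7797 : ∀ i, i < 7797 → P i := stepQ 7796 Q7796 (allL N7796 (tt N6409 F29898) (tt N12045 (iv F43437)) (tt N4668 (iv D16979)) (tt N8496 (iv F33214)) (tt N11419 (iv F41932)) (tt N10305 (iv F38901)) (tt N6405 F29899))
theorem Q7798 : ∀ i, i < 7798 → P i := stepQ 7797 Q7797 (allL N7797 (tt N4672 F29900) (tt N6875 F29902) (tt N4669 (iv D16980)) (tt N6879 (iv F29901)) (tt N6873 F29903) (tt N12052 D22286) (tt N12053 D22287))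
theorem Q7799 : ∀ i, i < 7799 → P i := stepQ 7798 Q7798 (allL N7798 (tt N4673 F29904) (tt N7798 F29905) (tt N6873 F29906) (tt N8324 (iv F32118)) (tt N4669 (iv D16981)) (tt N12054 D22288) (tt N12055 D22289))
theorem Q7800 : ∀ i, i < 7800 → P i := stepQ 7799 Q7799 (allL N7799 (tt N4674 F29907) (tt N12056 D22290) (tt N12052 (iv F43459)) (tt N4670 F29908) (tt N12054 (iv F43469)) (tt N4669 (iv D16982)) (tt N7811 (iv F29929)))
theorem Q7801 : ∀ i, i < 7801 → P i := stepQ 7800 Q7800 (allL N7800 (tt N4675 F29909) (tt N11696 (iv F42549)) (tt N12053 (iv F43464)) (tt N4671 F29910) (tt N12055 (iv F43473)) (tt N7810 (iv F29926)) (tt N4669 (iv D16983)))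
theorem Q7802 : ∀ i, i < 7802 → P i := stepQ 7801 Q7801 (allL N7801 (tt N12057 D22291) (tt N4670 (iv D16984)) (tt N12058 D22292) (tt N12056 (iv F43474)) (tt N11420 (iv F41934)) (tt N7801 F29911) (tt N12059 D22293))
theorem Q7803 : ∀ i, i < 7803 → P i := stepQ 7802 Q7802 (allL N7802 (tt N7458 (iv F35078)) (tt N4672 (iv D16986)) (tt N4679 F29913) (tt N9418 (iv F36810)) (tt N7441 F35077) (tt N11689 (iv F42522)) (tt N7439 (iv F35080)))
theorem Q7804 : ∀ i, i < 7804 → P i := stepQ 7803 Q7803 (allL N7803 (tt N6879 F29914) (tt N9418 F36812) (tt N11773 (iv F42759)) (tt N4672 (iv D16987)) (tt N6876 (iv F29915)) (tt N12060 D22294) (tt N11771 (iv F42752)))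
theorem Q7805 : ∀ i, i < 7805 → P i := stepQ 7804 Q7804 (allL N7804 (tt N6873 F29916) (tt N7441 (iv F35079)) (tt N4673 F29917) (tt N6872 F29918) (tt N4672 (iv D16988)) (tt N12061 D22295) (tt N12062 D22296))
theorem Q7806 : ∀ i, i < 7806 → P i := stepQ 7805 Q7805 (allL N7805 (tt N12052 (iv F43458)) (tt N11736 (iv F42675)) (tt N4674 F29919) (tt N12060 (iv F43486)) (tt N12061 (iv F43491)) (tt N4672 (iv D16989)) (tt N12063 D22297))
theorem Q7807 : ∀ i, i < 7807 → P i := stepQ 7806 Q7806 (allL N7806 (tt N12053 (iv F43462)) (tt N9416 (iv F36801)) (tt N4675 F29920) (tt N11771 (iv F42753)) (tt N12062 (iv F43496)) (tt N12064 D22298) (tt N4672 (iv D16990)))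
theorem Q7808 : ∀ i, i < 7808 → P i := stepQ 7807 Q7807 (allL N7807 (tt N12054 (iv F43467)) (tt N12065 D22299) (tt N12061 (iv F43489)) (tt N11421 (iv F41936)) (tt N4674 F29921) (tt N4673 (iv D16991)) (tt N12066 D22300))
theorem Q7809 : ∀ i, i < 7809 → P i := stepQ 7808 Q7808 (allL N7808 (tt N12055 (iv F43470)) (tt N11773 (iv F42758)) (tt N12062 (iv F43494)) (tt N10731 F40292) (tt N4675 F29922) (tt N12067 D22301) (tt N4673 (iv D16992)))
theorem Q7810 : ∀ i, i < 7810 → P i := stepQ 7809 Q7809 (allL N7809 (tt N12068 D22302) (tt N4674 (iv D16993)) (tt N7653 (iv F35171)) (tt N4676 F29923) (tt N12065 (iv F43504)) (tt N4683 F29924) (tt N11720 (iv F42618)))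
theorem Q7811 : ∀ i, i < 7811 → P i := stepQ 7810 Q7810 (allL N7810 (tt N7811 (iv F29927)) (tt N7491 (iv F35252)) (tt N12063 (iv F43497)) (tt N4677 F29925) (tt N12066 (iv F43507)) (tt N7800 F29926) (tt N4674 (iv D16994)))
theorem Q7812 : ∀ i, i < 7812 → P i := stepQ 7811 Q7811 (allL N7811 (tt N7810 F29927) (tt N12069 D22303) (tt N12064 (iv F43501)) (tt N4678 F29928) (tt N12067 (iv F43511)) (tt N4675 (iv D16995)) (tt N7799 F29929))
theorem Q7813 : ∀ i, i < 7813 → P i := stepQ 7812 Q7812 (allL N7812 (tt N4676 (iv D16996)) (tt N12070 D22304) (tt N12071 D22305) (tt N12068 (iv F43514)) (tt N11425 (iv F41948)) (tt N4684 F29930) (tt N7824 (iv F29953)))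
theorem Q7814 : ∀ i, i < 7814 → P i := stepQ 7813 Q7813 (allL N7813 (tt N12071 (iv F43521)) (tt N11976 (iv F43293)) (tt N4676 (iv D16997)) (tt N12072 D22306) (tt N11426 (iv F41950)) (tt N4685 F29931) (tt N11721 (iv F42621)))
theorem Q7815 : ∀ i, i < 7815 → P i := stepQ 7814 Q7814 (allL N7814 (tt N7854 (iv F42770)) (tt N4678 (iv D17000)) (tt N12073 D22307) (tt N12069 (iv F43517)) (tt N11427 (iv F41952)) (tt N11775 (iv F42768)) (tt N7851 F42771))
theorem Q7816 : ∀ i, i < 7816 → P i := stepQ 7815 Q7815 (allL N7815 (tt N4694 F29938) (tt N7650 F35116) (tt N4682 F29939) (tt N7445 (iv F35115)) (tt N4681 F29940) (tt N4680 (iv D17006)) (tt N7468 (iv F35112)))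
theorem Q7817 : ∀ i, i < 7817 → P i := stepQ 7816 Q7816 (allL N7816 (tt N12074 D22308) (tt N4682 (iv D17008)) (tt N7651 (iv F35117)) (tt N11431 (iv F41960)) (tt N4683 F29943) (tt N12065 (iv F43505)) (tt N12075 D22309))
theorem Q7818 : ∀ i, i < 7818 → P i := stepQ 7817 Q7817 (allL N7817 (tt N4683 (iv D17009)) (tt N12076 D22310) (tt N7652 (iv F35170)) (tt N4684 F29944) (tt N12074 (iv F43534)) (tt N12068 (iv F43515)) (tt N12077 D22311))
theorem Q7819 : ∀ i, i < 7819 → P i := stepQ 7818 Q7818 (allL N7818 (tt N12077 (iv F43539)) (tt N7588 F29945) (tt N7645 (iv F35172)) (tt N4686 F29946) (tt N12075 (iv F43537)) (tt N12078 D22312) (tt N4683 (iv D17011)))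
theorem Q7820 : ∀ i, i < 7820 → P i := stepQ 7819 Q7819 (allL N7819 (tt N12059 (iv F43482)) (tt N4684 (iv D17012)) (tt N12079 D22313) (tt N12076 (iv F43538)) (tt N11435 (iv F41965)) (tt N12059 (iv F43481)) (tt N12057 (iv F43483)))
theorem Q7821 : ∀ i, i < 7821 → P i := stepQ 7820 Q7820 (allL N7820 (tt N4685 F29947) (tt N12080 D22314) (tt N4684 (iv D17013)) (tt N11870 (iv F43005)) (tt N11436 (iv F41967)) (tt N12071 (iv F43523)) (tt N12081 D22315))
theorem Q7822 : ∀ i, i < 7822 → P i := stepQ 7821 Q7821 (allL N7821 (tt N4686 F29948) (tt N7515 (iv F34847)) (tt N12081 (iv F43551)) (tt N12077 (iv F43541)) (tt N11437 (iv F41969)) (tt N7518 (iv F35255)) (tt N4684 (iv D17014)))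
theorem Q7823 : ∀ i, i < 7823 → P i := stepQ 7822 Q7822 (allL N7822 (tt N11870 (iv F43004)) (tt N4689 F29950) (tt N11868 (iv F43000)) (tt N4685 (iv D17015)) (tt N12082 D22316) (tt N12072 (iv F43528)) (tt N7953 (iv F39669)))
theorem Q7824 : ∀ i, i < 7824 → P i := stepQ 7823 Q7823 (allL N7823 (tt N12081 (iv F43550)) (tt N7961 (iv F39640)) (tt N4686 F29951) (tt N7953 F39670) (tt N11439 (iv F41974)) (tt N7952 (iv F39671)) (tt N4685 (iv D17016)))
theorem Q7825 : ∀ i, i < 7825 → P i := stepQ 7824 Q7824 (allL N7824 (tt N7518 (iv F35254)) (tt N4708 F30011) (tt N7952 F39672) (tt N12078 (iv F43546)) (tt N11440 (iv F41976)) (tt N4686 (iv D17017)) (tt N7812 F29953))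
theorem Q7826 : ∀ i, i < 7826 → P i := stepQ 7825 Q7825 (allL N7825 (tt N10294 (iv F38863)) (tt N7747 F29958) (tt N4687 (iv D17018)) (tt N12083 D22317) (tt N11441 (iv F41979)) (tt N7448 F29954) (tt N7615 F29955))
theorem Q7827 : ∀ i, i < 7827 → P i := stepQ 7826 Q7826 (allL N7826 (tt N7738 F29956) (tt N4688 (iv D17019)) (tt N7747 (iv F29957)) (tt N7871 F39626) (tt N11442 (iv F41984)) (tt N7736 F29959) (tt N7869 (iv F39625)))
theorem Q7828 : ∀ i, i < 7828 → P i := stepQ 7827 Q7827 (allL N7827 (tt N4689 F29960) (tt N7871 (iv F39628)) (tt N12084 D22318) (tt N4688 (iv D17020)) (tt N12085 D22319) (tt N12047 (iv F43444)) (tt N11838 (iv F42915)))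
theorem Q7829 : ∀ i, i < 7829 → P i := stepQ 7828 Q7828 (allL N7828 (tt N12084 (iv F43559)) (tt N12086 D22320) (tt N4689 (iv D17021)) (tt N12087 D22321) (tt N12088 D22322) (tt N12048 (iv F43448)) (tt N10365 (iv F39805)))
theorem Q7830 : ∀ i, i < 7830 → P i := stepQ 7829 Q7829 (allL N7829 (tt N12085 (iv F43563)) (tt N12082 (iv F43553)) (tt N12088 (iv F43570)) (tt N11445 (iv F41988)) (tt N4689 (iv D17022)) (tt N12049 (iv F43452)) (tt N12089 D22323))
theorem Q7831 : ∀ i, i < 7831 → P i := stepQ 7830 Q7830 (allL N7830 (tt N11838 (iv F42914)) (tt N7963 F39642) (tt N10365 F39804) (tt N4690 F29961) (tt N12089 (iv F43572)) (tt N10328 (iv F38950)) (tt N4689 (iv D17023)))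
theorem Q7832 : ∀ i, i < 7832 → P i := stepQ 7831 Q7831 (allL N7831 (tt N12090 D22324) (tt N4690 (iv D17024)) (tt N7598 F29962) (tt N7963 (iv F39641)) (tt N11447 (iv F41991)) (tt N12091 D22325) (tt N7961 F39639))
theorem Q7833 : ∀ i, i < 7833 → P i := stepQ 7832 Q7832 (allL N7832 (tt N6519 F29963) (tt N7832 F29964) (tt N10229 F38735) (tt N4691 (iv D17025)) (tt N4693 F29965) (tt N12092 D22326) (tt N10864 (iv F40700)))
theorem Q7834 : ∀ i, i < 7834 → P i := stepQ 7833 Q7833 (allL N7833 (tt N6520 F29966) (tt N12093 D22327) (tt N6507 F29967) (tt N12092 (iv F43584)) (tt N4692 F29968) (tt N4691 (iv D17026)) (tt N10351 (iv F39001)))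
theorem Q7835 : ∀ i, i < 7835 → P i := stepQ 7834 Q7834 (allL N7834 (tt N4939 F35129) (tt N4692 (iv D17027)) (tt N12094 D22328) (tt N4695 F29969) (tt N12093 (iv F43588)) (tt N7834 F29970) (tt N12095 D22329))
theorem Q7836 : ∀ i, i < 7836 → P i := stepQ 7835 Q7835 (allL N7835 (tt N7445 F35114) (tt N9365 (iv F36646)) (tt N10498 (iv F39321)) (tt N4694 F29971) (tt N12092 (iv F43585)) (tt N4693 (iv D17029)) (tt N7477 (iv F35113)))
theorem Q7837 : ∀ i, i < 7837 → P i := stepQ 7836 Q7836 (allL N7836 (tt N9361 (iv F36636)) (tt N4694 (iv D17030)) (tt N12096 D22330) (tt N9365 (iv F36647)) (tt N4695 F29972) (tt N7836 F29973) (tt N12097 D22331))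
theorem Q7838 : ∀ i, i < 7838 → P i := stepQ 7837 Q7837 (allL N7837 (tt N7468 (iv F35108)) (tt N12098 D22332) (tt N4698 F29975) (tt N7477 F35107) (tt N4696 F29976) (tt N7583 F29977) (tt N4694 (iv D17031)))
theorem Q7839 : ∀ i, i < 7839 → P i := stepQ 7838 Q7838 (allL N7838 (tt N4695 (iv D17032)) (tt N4937 F35126) (tt N12099 D22333) (tt N4939 F35127) (tt N9361 (iv F36638)) (tt N7838 F29978) (tt N7677 F35128))
theorem Q7840 : ∀ i, i < 7840 → P i := stepQ 7839 Q7839 (allL N7839 (tt N12099 (iv F43612)) (tt N4700 F29979) (tt N4695 (iv D17033)) (tt N4807 F34628) (tt N12096 (iv F43601)) (tt N7839 F29980) (tt N12100 D22334))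
theorem Q7841 : ∀ i, i < 7841 → P i := stepQ 7840 Q7840 (allL N7840 (tt N7677 (iv F35125)) (tt N7676 (iv F35124)) (tt N12100 (iv F43621)) (tt N12095 (iv F43598)) (tt N12097 (iv F43604)) (tt N7677 F35123) (tt N4695 (iv D17034)))
theorem Q7842 : ∀ i, i < 7842 → P i := stepQ 7841 Q7841 (allL N7841 (tt N7676 F35135) (tt N4696 (iv D17035)) (tt N12101 D22335) (tt N8208 (iv F35136)) (tt N12098 (iv F43609)) (tt N7674 F35133) (tt N7676 (iv F35134)))
theorem Q7843 : ∀ i, i < 7843 → P i := stepQ 7842 Q7842 (allL N7842 (tt N4697 (iv D17036)) (tt N12102 D22336) (tt N7844 (iv F34633)) (tt N11462 (iv F42031)) (tt N4699 F29981) (tt N4793 F29982) (tt N7843 (iv F34627)))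
theorem Q7844 : ∀ i, i < 7844 → P i := stepQ 7843 Q7843 (allL N7843 (tt N7844 F34626) (tt N12096 (iv F43600)) (tt N4697 (iv D17037)) (tt N11616 (iv F42368)) (tt N4700 F29983) (tt N4794 F29984) (tt N7842 F34627))
theorem Q7845 : ∀ i, i < 7845 → P i := stepQ 7844 Q7844 (allL N7844 (tt N7843 (iv F34626)) (tt N12103 D22337) (tt N7842 F34633) (tt N11463 (iv F42035)) (tt N4701 F29985) (tt N7994 (iv F34619)) (tt N4697 (iv D17038)))
theorem Q7846 : ∀ i, i < 7846 → P i := stepQ 7845 Q7845 (allL N7845 (tt N12104 D22338) (tt N4698 (iv D17039)) (tt N12105 D22339) (tt N11464 (iv F42037)) (tt N4702 F29986) (tt N12106 D22340) (tt N12103 (iv F43631)))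
theorem Q7847 : ∀ i, i < 7847 → P i := stepQ 7846 Q7846 (allL N7846 (tt N12107 D22341) (tt N4699 (iv D17040)) (tt N12108 D22342) (tt N4703 F29987) (tt N12102 (iv F43629)) (tt N12109 D22343) (tt N12110 D22344))
theorem Q7848 : ∀ i, i < 7848 → P i := stepQ 7847 Q7847 (allL N7847 (tt N11903 (iv F43090)) (tt N4701 (iv D17044)) (tt N11902 F43089) (tt N4707 F29992) (tt N12103 (iv F43630)) (tt N11726 (iv F42636)) (tt N4702 F29993))
theorem Q7849 : ∀ i, i < 7849 → P i := stepQ 7848 Q7848 (allL N7848 (tt N4702 (iv D17045)) (tt N12078 F43548) (tt N11717 F42611) (tt N4708 F29994) (tt N12104 (iv F43632)) (tt N12111 D22345) (tt N11903 (iv F43093)))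
theorem Q7850 : ∀ i, i < 7850 → P i := stepQ 7849 Q7849 (allL N7849 (tt N11717 (iv F42610)) (tt N12101 (iv F43625)) (tt N4702 (iv D17046)) (tt N7702 F40593) (tt N12105 (iv F43633)) (tt N7686 (iv F40590)) (tt N11902 (iv F43088)))
theorem Q7851 : ∀ i, i < 7851 → P i := stepQ 7850 Q7850 (allL N7850 (tt N12111 (iv F43651)) (tt N7579 F29995) (tt N7686 F40589) (tt N4710 F29996) (tt N12106 (iv F43637)) (tt N4702 (iv D17047)) (tt N7685 (iv F40591)))
theorem Q7852 : ∀ i, i < 7852 → P i := stepQ 7851 Q7851 (allL N7851 (tt N4703 (iv D17048)) (tt N12059 (iv F43480)) (tt N12112 D22346) (tt N12107 (iv F43639)) (tt N11470 (iv F42045)) (tt N12070 (iv F43519)) (tt N7814 (iv F42771)))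
theorem Q7853 : ∀ i, i < 7853 → P i := stepQ 7852 Q7852 (allL N7852 (tt N12112 (iv F43656)) (tt N8537 (iv F33304)) (tt N4703 (iv D17049)) (tt N5185 F30237) (tt N11471 (iv F42046)) (tt N5183 (iv F30236)) (tt N10317 (iv F38929)))
theorem Q7854 : ∀ i, i < 7854 → P i := stepQ 7853 Q7853 (allL N7853 (tt N12070 (iv F43518)) (tt N4799 F29997) (tt N5183 F30235) (tt N12109 (iv F43645)) (tt N11472 (iv F42050)) (tt N4703 (iv D17050)) (tt N11775 (iv F42769)))
theorem Q7855 : ∀ i, i < 7855 → P i := stepQ 7854 Q7854 (allL N7854 (tt N7814 F42770) (tt N8009 (iv F30270)) (tt N10317 F38930) (tt N12110 (iv F43649)) (tt N11473 (iv F42051)) (tt N12113 D22347) (tt N4703 (iv D17051)))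
theorem Q7856 : ∀ i, i < 7856 → P i := stepQ 7855 Q7855 (allL N7855 (tt N11990 (iv F43322)) (tt N4704 (iv D17052)) (tt N8537 (iv F33306)) (tt N12114 D22348) (tt N10281 (iv F38835)) (tt N8548 (iv F33324)) (tt N12115 D22349))
theorem Q7857 : ∀ i, i < 7857 → P i := stepQ 7856 Q7856 (allL N7856 (tt N4705 F29998) (tt N12114 (iv F43665)) (tt N8005 (iv F34632)) (tt N4704 (iv D17053)) (tt N12116 D22350) (tt N4801 F29999) (tt N8005 (iv F30266)))
theorem Q7858 : ∀ i, i < 7858 → P i := stepQ 7857 Q7857 (allL N7857 (tt N8005 F34610) (tt N12117 D22351) (tt N4705 (iv D17054)) (tt N4706 F34611) (tt N12118 D22352) (tt N4803 F30000) (tt N4705 F34612))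
theorem Q7859 : ∀ i, i < 7859 → P i := stepQ 7858 Q7858 (allL N7858 (tt N12116 (iv F43669)) (tt N4718 F30001) (tt N12118 (iv F43674)) (tt N10287 (iv F38846)) (tt N4705 (iv D17055)) (tt N4804 F30002) (tt N12118 (iv F43676)))
theorem Q7860 : ∀ i, i < 7860 → P i := stepQ 7859 Q7859 (allL N7859 (tt N12119 D22353) (tt N4706 (iv D17057)) (tt N12120 D22354) (tt N12117 (iv F43672)) (tt N10291 (iv F38856)) (tt N12121 D22355) (tt N4720 F30004))
theorem Q7861 : ∀ i, i < 7861 → P i := stepQ 7860 Q7860 (allL N7860 (tt N4707 (iv D17058)) (tt N12113 (iv F43664)) (tt N12122 D22356) (tt N11903 F43094) (tt N11474 (iv F42052)) (tt N7866 (iv F30015)) (tt N4708 F30005))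
theorem Q7862 : ∀ i, i < 7862 → P i := stepQ 7861 Q7861 (allL N7861 (tt N12122 (iv F43681)) (tt N12120 (iv F43678)) (tt N4707 (iv D17059)) (tt N12123 D22357) (tt N11475 (iv F42054)) (tt N10404 F39115) (tt N4709 F30006))
theorem Q7863 : ∀ i, i < 7863 → P i := stepQ 7862 Q7862 (allL N7862 (tt N4709 F30007) (tt N4837 F39673) (tt N4708 (iv D17062)) (tt N4836 F39674) (tt N11476 (iv F42057)) (tt N12124 D22358) (tt N12122 (iv F43682)))
theorem Q7864 : ∀ i, i < 7864 → P i := stepQ 7863 Q7863 (allL N7863 (tt N4710 F30008) (tt N7523 (iv F34860)) (tt N12124 (iv F43690)) (tt N12111 (iv F43654)) (tt N11477 (iv F42061)) (tt N4708 (iv D17063)) (tt N7524 (iv F34855)))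
theorem Q7865 : ∀ i, i < 7865 → P i := stepQ 7864 Q7864 (allL N7864 (tt N4836 F39675) (tt N4726 F30012) (tt N12125 D22359) (tt N4709 (iv D17064)) (tt N12126 D22360) (tt N12127 D22361) (tt N12123 (iv F43688)))
theorem Q7866 : ∀ i, i < 7866 → P i := stepQ 7865 Q7865 (allL N7865 (tt N12124 (iv F43689)) (tt N12128 D22362) (tt N4710 F30013) (tt N12127 (iv F43705)) (tt N11479 (iv F42065)) (tt N4709 (iv D17065)) (tt N12129 D22363))
theorem Q7867 : ∀ i, i < 7867 → P i := stepQ 7866 Q7866 (allL N7866 (tt N7524 (iv F34853)) (tt N12130 D22364) (tt N12129 (iv F43716)) (tt N7685 F40592) (tt N11480 (iv F42067)) (tt N7860 F30015) (tt N4710 (iv D17066)))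
theorem Q7868 : ∀ i, i < 7868 → P i := stepQ 7867 Q7867 (allL N7867 (tt N4712 F30016) (tt N9810 (iv F37774)) (tt N4711 (iv D17067)) (tt N11971 (iv F43282)) (tt N11481 (iv F42070)) (tt N9815 F37772) (tt N6402 F30017))
theorem Q7869 : ∀ i, i < 7869 → P i := stepQ 7868 Q7868 (allL N7868 (tt N12131 D22365) (tt N4712 (iv D17068)) (tt N4715 F30018) (tt N12132 D22366) (tt N11482 (iv F42073)) (tt N12133 D22367) (tt N12134 D22368))
theorem Q7870 : ∀ i, i < 7870 → P i := stepQ 7869 Q7869 (allL N7869 (tt N11971 (iv F43280)) (tt N12132 (iv F43725)) (tt N7755 F39624) (tt N4712 (iv D17069)) (tt N12135 D22369) (tt N7739 (iv F39623)) (tt N7826 F39625))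
theorem Q7871 : ∀ i, i < 7871 → P i := stepQ 7870 Q7870 (allL N7870 (tt N9815 (iv F37771)) (tt N12136 D22370) (tt N4713 F30019) (tt N7739 F39622) (tt N11484 (iv F42075)) (tt N4712 (iv D17070)) (tt N7737 (iv F39604)))
theorem Q7872 : ∀ i, i < 7872 → P i := stepQ 7871 Q7871 (allL N7871 (tt N6402 F30020) (tt N7827 F39628) (tt N4714 F30021) (tt N7826 (iv F39626)) (tt N11485 (iv F42078)) (tt N7546 (iv F30022)) (tt N4712 (iv D17071)))
theorem Q7873 : ∀ i, i < 7873 → P i := stepQ 7872 Q7872 (allL N7872 (tt N4715 (iv D17072)) (tt N7790 (iv F43416)) (tt N12131 (iv F43723)) (tt N12137 D22371) (tt N11486 (iv F42080)) (tt N12138 D22372) (tt N7791 F43418))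
theorem Q7874 : ∀ i, i < 7874 → P i := stepQ 7873 Q7873 (allL N7873 (tt N12137 (iv F43743)) (tt N4716 F30023) (tt N12139 D22373) (tt N4715 (iv D17073)) (tt N12140 D22374) (tt N12141 D22375) (tt N12142 D22376))
theorem Q7875 : ∀ i, i < 7875 → P i := stepQ 7874 Q7874 (allL N7874 (tt N12138 (iv F43746)) (tt N4740 F30024) (tt N12133 (iv F43729)) (tt N12141 (iv F43749)) (tt N11488 (iv F42083)) (tt N4715 (iv D17074)) (tt N12043 (iv F43432)))
theorem Q7876 : ∀ i, i < 7876 → P i := stepQ 7875 Q7875 (allL N7875 (tt N7791 (iv F43419)) (tt N7931 (iv F30101)) (tt N12134 (iv F43734)) (tt N12142 (iv F43751)) (tt N11489 (iv F42084)) (tt N12143 D22377) (tt N4715 (iv D17075)))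
theorem Q7877 : ∀ i, i < 7877 → P i := stepQ 7876 Q7876 (allL N7876 (tt N4718 F30025) (tt N12140 (iv F43747)) (tt N12016 (iv F43369)) (tt N11491 (iv F42089)) (tt N4716 (iv D17076)) (tt N4742 F30026) (tt N7927 (iv F30098)))
theorem Q7878 : ∀ i, i < 7878 → P i := stepQ 7877 Q7877 (allL N7877 (tt N12144 D22378) (tt N4717 (iv D17077)) (tt N12117 (iv F43671)) (tt N8544 F33312) (tt N12145 D22379) (tt N12146 D22380) (tt N12147 D22381))
theorem Q7879 : ∀ i, i < 7879 → P i := stepQ 7878 Q7878 (allL N7878 (tt N12016 (iv F43368)) (tt N12145 (iv F43754)) (tt N4718 F30027) (tt N12148 D22382) (tt N4717 (iv D17078)) (tt N4747 F30028) (tt N12149 D22383))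
theorem Q7880 : ∀ i, i < 7880 → P i := stepQ 7879 Q7879 (allL N7879 (tt N7926 (iv F30092)) (tt N12150 D22384) (tt N4719 F30029) (tt N7717 F30030) (tt N12149 (iv F43759)) (tt N7715 F30031) (tt N4717 (iv D17079)))
theorem Q7881 : ∀ i, i < 7881 → P i := stepQ 7880 Q7880 (allL N7880 (tt N7927 (iv F30096)) (tt N12151 D22385) (tt N12149 (iv F43758)) (tt N11496 (iv F42097)) (tt N4719 F30032) (tt N7916 (iv F30081)) (tt N4718 (iv D17080)))
theorem Q7882 : ∀ i, i < 7882 → P i := stepQ 7881 Q7881 (allL N7881 (tt N12152 D22386) (tt N4719 (iv D17081)) (tt N12147 (iv F43756)) (tt N4720 F30033) (tt N12151 (iv F43762)) (tt N12153 D22387) (tt N12117 (iv F43673)))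
theorem Q7883 : ∀ i, i < 7883 → P i := stepQ 7882 Q7882 (allL N7882 (tt N4720 (iv D17082)) (tt N12154 D22388) (tt N12155 D22389) (tt N12152 (iv F43763)) (tt N11498 (iv F42100)) (tt N12156 D22390) (tt N12119 (iv F43677)))
theorem Q7884 : ∀ i, i < 7884 → P i := stepQ 7883 Q7883 (allL N7883 (tt N12155 (iv F43766)) (tt N4722 F30034) (tt N4720 (iv D17083)) (tt N12157 D22391) (tt N11499 (iv F42102)) (tt N12158 D22392) (tt N12120 (iv F43679)))
theorem Q7885 : ∀ i, i < 7885 → P i := stepQ 7884 Q7884 (allL N7884 (tt N12156 (iv F43767)) (tt N7918 (iv F30084)) (tt N12158 (iv F43778)) (tt N12153 (iv F43765)) (tt N11500 (iv F42103)) (tt N4720 (iv D17084)) (tt N12159 D22393))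
theorem Q7886 : ∀ i, i < 7886 → P i := stepQ 7885 Q7885 (allL N7885 (tt N4722 F30035) (tt N5990 F30036) (tt N4721 (iv D17085)) (tt N12160 D22394) (tt N11501 (iv F42106)) (tt N7894 (iv F30049)) (tt N4724 F30037))
theorem Q7887 : ∀ i, i < 7887 → P i := stepQ 7886 Q7886 (allL N7886 (tt N12160 (iv F43787)) (tt N12157 (iv F43773)) (tt N6793 (iv F39765)) (tt N4722 (iv D17086)) (tt N6803 (iv F39766)) (tt N6808 F39764) (tt N4726 F30038))
theorem Q7888 : ∀ i, i < 7888 → P i := stepQ 7887 Q7887 (allL N7887 (tt N7894 (iv F30047)) (tt N12161 D22395) (tt N4723 F30039) (tt N6808 (iv F39763)) (tt N11503 (iv F42111)) (tt N4722 (iv D17087)) (tt N7889 (iv F30044)))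
theorem Q7889 : ∀ i, i < 7889 → P i := stepQ 7888 Q7888 (allL N7888 (tt N4726 F30040) (tt N6465 F30041) (tt N6831 (iv F39774)) (tt N4724 (iv D17088)) (tt N12162 D22396) (tt N10759 F40375) (tt N12160 (iv F43791)))
theorem Q7890 : ∀ i, i < 7890 → P i := stepQ 7889 Q7889 (allL N7889 (tt N4727 F30042) (tt N12163 D22397) (tt N4725 F30043) (tt N10759 (iv F40374)) (tt N11505 (iv F42116)) (tt N4724 (iv D17089)) (tt N7887 F30044))
theorem Q7891 : ∀ i, i < 7891 → P i := stepQ 7890 Q7890 (allL N7890 (tt N6831 F39773) (tt N6796 (iv F39770)) (tt N4726 (iv D17090)) (tt N6796 (iv F39771)) (tt N6801 F39769) (tt N10758 (iv F40371)) (tt N6793 (iv F39772)))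
theorem Q7892 : ∀ i, i < 7892 → P i := stepQ 7891 Q7891 (allL N7891 (tt N12162 (iv F43797)) (tt N12126 (iv F43700)) (tt N6801 (iv F39768)) (tt N11507 (iv F42118)) (tt N4726 (iv D17091)) (tt N12164 D22398) (tt N6803 F39767))
theorem Q7893 : ∀ i, i < 7893 → P i := stepQ 7892 Q7892 (allL N7892 (tt N10759 (iv F40372)) (tt N12165 D22399) (tt N10758 (iv F40368)) (tt N4727 F30045) (tt N12164 (iv F43806)) (tt N4726 (iv D17092)) (tt N10757 F40366))
theorem Q7894 : ∀ i, i < 7894 → P i := stepQ 7893 Q7893 (allL N7893 (tt N9481 (iv F37077)) (tt N4727 (iv D17093)) (tt N7572 F30046) (tt N12165 (iv F43807)) (tt N11509 (iv F42122)) (tt N12128 (iv F43711)) (tt N12166 D22400))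
theorem Q7895 : ∀ i, i < 7895 → P i := stepQ 7894 Q7894 (allL N7894 (tt N7887 F30047) (tt N12167 D22401) (tt N4728 F30048) (tt N10757 (iv F40365)) (tt N11510 (iv F42125)) (tt N7885 F30049) (tt N4727 (iv D17094)))
theorem Q7896 : ∀ i, i < 7896 → P i := stepQ 7895 Q7895 (allL N7895 (tt N4770 F30286) (tt N4729 (iv D17095)) (tt N7733 F30050) (tt N11721 F42622) (tt N11511 (iv F42128)) (tt N12168 D22402) (tt N12072 (iv F43529)))
theorem Q7897 : ∀ i, i < 7897 → P i := stepQ 7896 Q7896 (allL N7896 (tt N4734 F30052) (tt N12169 D22403) (tt N4730 F30053) (tt N7735 (iv F39619)) (tt N11513 (iv F42134)) (tt N4729 (iv D17097)) (tt N7505 F30054))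
theorem Q7898 : ∀ i, i < 7898 → P i := stepQ 7897 Q7897 (allL N7897 (tt N4732 (iv D17099)) (tt N4772 F30289) (tt N4738 F30057) (tt N7591 F39586) (tt N11515 (iv F42142)) (tt N12170 D22404) (tt N7661 (iv F35582)))
theorem Q7899 : ∀ i, i < 7899 → P i := stepQ 7898 Q7898 (allL N7898 (tt N7591 F39587) (tt N4733 F30058) (tt N6399 F39588) (tt N4732 (iv D17100)) (tt N12171 D22405) (tt N7707 F39589) (tt N6400 F39590))
theorem Q7900 : ∀ i, i < 7900 → P i := stepQ 7899 Q7899 (allL N7899 (tt N12170 (iv F43822)) (tt N12172 D22406) (tt N4740 F30059) (tt N7707 F39618) (tt N11517 (iv F42147)) (tt N4732 (iv D17101)) (tt N7705 (iv F39617)))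
theorem Q7901 : ∀ i, i < 7901 → P i := stepQ 7900 Q7900 (allL N7900 (tt N7661 F35583) (tt N12173 D22407) (tt N4741 F30060) (tt N6400 F39613) (tt N11518 (iv F42150)) (tt N11925 (iv F43165)) (tt N4732 (iv D17102)))
theorem Q7902 : ∀ i, i < 7902 → P i := stepQ 7901 Q7901 (allL N7901 (tt N10958 (iv F40933)) (tt N12171 (iv F43828)) (tt N7249 (iv F39809)) (tt N11519 (iv F42152)) (tt N4733 (iv D17104)) (tt N7247 F39808) (tt N11354 (iv F41793)))
theorem Q7903 : ∀ i, i < 7903 → P i := stepQ 7902 Q7902 (allL N7902 (tt N7902 F43184) (tt N4734 (iv D17107)) (tt N12136 (iv F43740)) (tt N7743 (iv F39807)) (tt N11522 (iv F42160)) (tt N12172 (iv F43834)) (tt N12136 (iv F43742)))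
theorem Q7904 : ∀ i, i < 7904 → P i := stepQ 7903 Q7903 (allL N7903 (tt N12174 D22408) (tt N4735 (iv D17109)) (tt N11816 (iv F42871)) (tt N11966 (iv F43264)) (tt N11523 (iv F42161)) (tt N11815 F42869) (tt N12173 (iv F43837)))
theorem Q7905 : ∀ i, i < 7905 → P i := stepQ 7904 Q7904 (allL N7904 (tt N7975 F35578) (tt N11816 (iv F42870)) (tt N4737 (iv D17110)) (tt N12175 D22409) (tt N11524 (iv F42162)) (tt N7483 F30066) (tt N4745 F30067))
theorem Q7906 : ∀ i, i < 7906 → P i := stepQ 7905 Q7905 (allL N7905 (tt N4816 F30068) (tt N4738 (iv D17111)) (tt N4778 F30288) (tt N12176 D22410) (tt N11525 (iv F42167)) (tt N12177 D22411) (tt N11687 (iv F42512)))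
theorem Q7907 : ∀ i, i < 7907 → P i := stepQ 7906 Q7906 (allL N7906 (tt N4739 F30069) (tt N12176 (iv F43846)) (tt N9082 (iv F39611)) (tt N4738 (iv D17112)) (tt N12178 D22412) (tt N12179 D22413) (tt N11700 (iv F42566)))
theorem Q7908 : ∀ i, i < 7908 → P i := stepQ 7907 Q7907 (allL N7907 (tt N4740 F30070) (tt N12180 D22414) (tt N12170 (iv F43824)) (tt N12179 (iv F43852)) (tt N11527 (iv F42170)) (tt N4738 (iv D17113)) (tt N7915 (iv F30078)))
theorem Q7909 : ∀ i, i < 7909 → P i := stepQ 7908 Q7908 (allL N7908 (tt N4741 F30071) (tt N7660 (iv F35585)) (tt N7661 F35584) (tt N11700 (iv F42565)) (tt N11528 (iv F42173)) (tt N7913 (iv F30075)) (tt N4738 (iv D17114)))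
theorem Q7910 : ∀ i, i < 7910 → P i := stepQ 7909 Q7909 (allL N7909 (tt N9082 F39612) (tt N12006 (iv F43352)) (tt N4739 (iv D17115)) (tt N10359 (iv F39610)) (tt N12181 D22415) (tt N12182 D22416) (tt N11699 (iv F42562)))
theorem Q7911 : ∀ i, i < 7911 → P i := stepQ 7910 Q7910 (allL N7910 (tt N12178 (iv F43849)) (tt N4742 F30072) (tt N12181 (iv F43856)) (tt N11530 (iv F42176)) (tt N4739 (iv D17116)) (tt N12183 D22417) (tt N12184 D22418))
theorem Q7912 : ∀ i, i < 7912 → P i := stepQ 7911 Q7911 (allL N7911 (tt N12179 (iv F43850)) (tt N12141 (iv F43748)) (tt N12182 (iv F43858)) (tt N4740 F30073) (tt N12183 (iv F43862)) (tt N4739 (iv D17117)) (tt N12185 D22419))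
theorem Q7913 : ∀ i, i < 7913 → P i := stepQ 7912 Q7912 (allL N7912 (tt N11700 (iv F42564)) (tt N8507 (iv F35234)) (tt N11699 (iv F42563)) (tt N4741 F30074) (tt N12184 (iv F43863)) (tt N12186 D22420) (tt N4739 (iv D17118)))
theorem Q7914 : ∀ i, i < 7914 → P i := stepQ 7913 Q7913 (allL N7913 (tt N7915 (iv F30077)) (tt N10346 (iv F38988)) (tt N7705 (iv F39616)) (tt N12185 (iv F43865)) (tt N11533 (iv F42179)) (tt N7908 F30075) (tt N4740 (iv D17119)))
theorem Q7915 : ∀ i, i < 7915 → P i := stepQ 7914 Q7914 (allL N7914 (tt N8508 (iv F35236)) (tt N4741 (iv D17120)) (tt N11907 (iv F43108)) (tt N8507 F35235) (tt N11534 (iv F42181)) (tt N12187 D22421) (tt N4744 F30076))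
theorem Q7916 : ∀ i, i < 7916 → P i := stepQ 7915 Q7915 (allL N7915 (tt N7913 F30077) (tt N9865 F43167) (tt N11925 F43166) (tt N12186 (iv F43869)) (tt N11535 (iv F42184)) (tt N4741 (iv D17121)) (tt N7907 F30078))
theorem Q7917 : ∀ i, i < 7917 → P i := stepQ 7916 Q7916 (allL N7916 (tt N4749 F30079) (tt N8402 (iv F35233)) (tt N11944 (iv F43205)) (tt N11539 (iv F42194)) (tt N4743 F30080) (tt N7880 F30081) (tt N4742 (iv D17122)))
theorem Q7918 : ∀ i, i < 7918 → P i := stepQ 7917 Q7917 (allL N7917 (tt N8519 (iv F35249)) (tt N4745 F30083) (tt N4744 (iv D17125)) (tt N12188 D22422) (tt N11541 (iv F42199)) (tt N10398 (iv F39105)) (tt N11907 (iv F43109)))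
theorem Q7919 : ∀ i, i < 7919 → P i := stepQ 7918 Q7918 (allL N7918 (tt N8521 (iv F35222)) (tt N7884 F30084) (tt N10398 F39106) (tt N8518 F35223) (tt N11542 (iv F42201)) (tt N4744 (iv D17126)) (tt N12189 D22423))
theorem Q7920 : ∀ i, i < 7920 → P i := stepQ 7919 Q7919 (allL N7919 (tt N11702 (iv F42567)) (tt N12188 (iv F43875)) (tt N12186 (iv F43868)) (tt N4745 (iv D17127)) (tt N12190 D22424) (tt N11699 (iv F42561)) (tt N12175 (iv F43844)))
theorem Q7921 : ∀ i, i < 7921 → P i := stepQ 7920 Q7920 (allL N7920 (tt N4746 (iv D17128)) (tt N12191 D22425) (tt N4826 F30085) (tt N11992 (iv F43326)) (tt N12192 D22426) (tt N12193 D22427) (tt N12194 D22428))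
theorem Q7922 : ∀ i, i < 7922 → P i := stepQ 7921 Q7921 (allL N7921 (tt N12192 (iv F43882)) (tt N4747 F30086) (tt N4827 F30087) (tt N12195 D22429) (tt N4746 (iv D17129)) (tt N12196 D22430) (tt N12197 D22431))
theorem Q7923 : ∀ i, i < 7923 → P i := stepQ 7922 Q7922 (allL N7922 (tt N12193 (iv F43884)) (tt N12146 (iv F43755)) (tt N4828 F30088) (tt N11994 (iv F43328)) (tt N12196 (iv F43890)) (tt N4746 (iv D17130)) (tt N12198 D22432))
theorem Q7924 : ∀ i, i < 7924 → P i := stepQ 7923 Q7923 (allL N7923 (tt N12194 (iv F43886)) (tt N8984 (iv F35663)) (tt N4829 F30089) (tt N11995 (iv F43329)) (tt N12197 (iv F43892)) (tt N12199 D22433) (tt N4746 (iv D17131)))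
theorem Q7925 : ∀ i, i < 7925 → P i := stepQ 7924 Q7924 (allL N7924 (tt N12015 (iv F43366)) (tt N12195 (iv F43888)) (tt N12200 D22434) (tt N4747 (iv D17132)) (tt N11996 (iv F43331)) (tt N12148 (iv F43757)) (tt N12201 D22435))
theorem Q7926 : ∀ i, i < 7926 → P i := stepQ 7925 Q7925 (allL N7925 (tt N11944 (iv F43204)) (tt N8801 F35162) (tt N4749 F30090) (tt N12201 (iv F43898)) (tt N4748 F30091) (tt N12202 D22436) (tt N4747 (iv D17133)))
theorem Q7927 : ∀ i, i < 7927 → P i := stepQ 7926 Q7926 (allL N7926 (tt N7879 F30092) (tt N12203 D22437) (tt N4750 F30093) (tt N7772 F30094) (tt N12202 (iv F43901)) (tt N4748 (iv D17135)) (tt N7769 F30095))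
theorem Q7928 : ∀ i, i < 7928 → P i := stepQ 7927 Q7927 (allL N7927 (tt N7880 F30096) (tt N12204 D22438) (tt N12202 (iv F43900)) (tt N11555 (iv F42219)) (tt N4750 F30097) (tt N4749 (iv D17136)) (tt N7876 F30098))
theorem Q7929 : ∀ i, i < 7929 → P i := stepQ 7928 Q7928 (allL N7928 (tt N12205 D22439) (tt N4750 (iv D17137)) (tt N12206 D22440) (tt N4751 F30099) (tt N12204 (iv F43904)) (tt N10484 (iv F39288)) (tt N12206 (iv F46888)))
theorem Q7930 : ∀ i, i < 7930 → P i := stepQ 7929 Q7929 (allL N7929 (tt N4751 (iv D17138)) (tt N9414 F39397) (tt N12207 D22442) (tt N12205 (iv F43905)) (tt N11557 (iv F42223)) (tt N10534 (iv F39393)) (tt N12208 D22443))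
theorem Q7931 : ∀ i, i < 7931 → P i := stepQ 7930 Q7930 (allL N7930 (tt N12207 (iv F43910)) (tt N4753 F30100) (tt N4751 (iv D17139)) (tt N12209 D22444) (tt N11558 (iv F42225)) (tt N10535 (iv F39402)) (tt N12210 D22445))
theorem Q7932 : ∀ i, i < 7932 → P i := stepQ 7931 Q7931 (allL N7931 (tt N12208 (iv F43912)) (tt N7875 F30101) (tt N12210 (iv F43916)) (tt N12206 (iv F46887)) (tt N11559 (iv F42227)) (tt N12211 D22446) (tt N4751 (iv D17140)))
theorem Q7933 : ∀ i, i < 7933 → P i := stepQ 7932 Q7932 (allL N7932 (tt N4753 F30102) (tt N12212 D22447) (tt N4752 (iv D17141)) (tt N6720 F39733) (tt N11560 (iv F42229)) (tt N6498 F30103) (tt N6739 (iv F39704)))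
theorem Q7934 : ∀ i, i < 7934 → P i := stepQ 7933 Q7933 (allL N7933 (tt N6720 (iv F39714)) (tt N12209 (iv F43914)) (tt N6719 (iv F39715)) (tt N4753 (iv D17142)) (tt N6726 F39713) (tt N6499 F30104) (tt N6737 (iv F39717)))
theorem Q7935 : ∀ i, i < 7935 → P i := stepQ 7934 Q7934 (allL N7934 (tt N6739 (iv F39701)) (tt N12084 (iv F43560)) (tt N4754 F30105) (tt N6737 F39718) (tt N11561 (iv F42236)) (tt N7569 F30106) (tt N4753 (iv D17143)))
theorem Q7936 : ∀ i, i < 7936 → P i := stepQ 7935 Q7935 (allL N7935 (tt N8327 (iv F32127)) (tt N4755 (iv D17144)) (tt N8334 (iv F32151)) (tt N8326 F32126) (tt N4757 F30107) (tt N8334 (iv F32153)) (tt N12213 D22448))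
theorem Q7937 : ∀ i, i < 7937 → P i := stepQ 7936 Q7936 (allL N7936 (tt N4756 F30108) (tt N11697 (iv F42554)) (tt N4755 (iv D17145)) (tt N11563 (iv F42244)) (tt N4758 F30109) (tt N4755 (iv F30111)) (tt N7680 F30110))
theorem Q7938 : ∀ i, i < 7938 → P i := stepQ 7937 Q7937 (allL N7937 (tt N4757 (iv D17146)) (tt N7937 F30112) (tt N8336 (iv F32159)) (tt N4759 F30113) (tt N8327 (iv F32129)) (tt N8336 (iv F32161)) (tt N12214 D22449))
theorem Q7939 : ∀ i, i < 7939 → P i := stepQ 7938 Q7938 (allL N7938 (tt N12214 (iv F43926)) (tt N11901 (iv F43084)) (tt N11709 (iv F42585)) (tt N4761 F30114) (tt N12213 (iv F43924)) (tt N12215 D22450) (tt N4757 (iv D17147)))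
theorem Q7940 : ∀ i, i < 7940 → P i := stepQ 7939 Q7939 (allL N7939 (tt N4761 F30115) (tt N11844 (iv F42940)) (tt N5839 F30116) (tt N12214 (iv F43927)) (tt N11566 (iv F42256)) (tt N7501 F30117) (tt N4759 (iv D17148)))
theorem Q7941 : ∀ i, i < 7941 → P i := stepQ 7940 Q7940 (allL N7940 (tt N5828 F30118) (tt N5657 (iv F34901)) (tt N9190 (iv F36173)) (tt N4760 (iv D17149)) (tt N9190 (iv F36175)) (tt N9455 (iv F36896)) (tt N5658 (iv F34912)))
theorem Q7942 : ∀ i, i < 7942 → P i := stepQ 7941 Q7941 (allL N7941 (tt N5839 F30120) (tt N5192 F34910) (tt N4761 F30121) (tt N5658 F34911) (tt N11567 (iv F42261)) (tt N9475 (iv F36958)) (tt N4760 (iv D17150)))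
theorem Q7943 : ∀ i, i < 7943 → P i := stepQ 7942 Q7942 (allL N7942 (tt N7501 F30122) (tt N7531 F30124) (tt N9475 (iv F36956)) (tt N12215 (iv F43931)) (tt N11568 (iv F42264)) (tt N4761 (iv D17151)) (tt N7499 F30123))
theorem Q7944 : ∀ i, i < 7944 → P i := stepQ 7943 Q7943 (allL N7943 (tt N6043 F30125) (tt N8519 (iv F34919)) (tt N5652 (iv F34907)) (tt N5146 F30127) (tt N10258 (iv F38787)) (tt N5144 F30128) (tt N4762 (iv D17152)))
theorem Q7945 : ∀ i, i < 7945 → P i := stepQ 7944 Q7944 (allL N7944 (tt N4766 F30129) (tt N8359 (iv F32218)) (tt N7946 (iv F30134)) (tt N10260 (iv F38791)) (tt N4763 (iv D17153)) (tt N7945 (iv F30131)) (tt N11910 (iv F43114)))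
theorem Q7946 : ∀ i, i < 7946 → P i := stepQ 7945 Q7945 (allL N7945 (tt N7946 (iv F30132)) (tt N9900 (iv F37939)) (tt N4766 F30130) (tt N12216 D22451) (tt N4765 (iv D17154)) (tt N7944 F30131) (tt N11912 (iv F43120)))
theorem Q7947 : ∀ i, i < 7947 → P i := stepQ 7946 Q7946 (allL N7946 (tt N7945 F30132) (tt N6544 F30133) (tt N7944 F30134) (tt N10269 (iv F38807)) (tt N4767 F30135) (tt N4766 (iv D17155)) (tt N12217 D22452))
theorem Q7948 : ∀ i, i < 7948 → P i := stepQ 7947 Q7947 (allL N7947 (tt N7693 F30136) (tt N12218 D22453) (tt N7692 F30137) (tt N4768 F30138) (tt N12217 (iv F43940)) (tt N7692 F30139) (tt N4767 (iv D17156)))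
theorem Q7949 : ∀ i, i < 7949 → P i := stepQ 7948 Q7948 (allL N7948 (tt N12219 D22454) (tt N4768 (iv D17157)) (tt N12220 D22455) (tt N12218 (iv F43942)) (tt N10273 (iv F38817)) (tt N12221 D22456) (tt N6549 F30140))
theorem Q7950 : ∀ i, i < 7950 → P i := stepQ 7949 Q7949 (allL N7949 (tt N4769 (iv D17158)) (tt N7537 F43066) (tt N12222 D22457) (tt N11890 F43067) (tt N11569 (iv F42267)) (tt N11924 (iv F43162)) (tt N7949 F30141))
theorem Q7951 : ∀ i, i < 7951 → P i := stepQ 7950 Q7950 (allL N7950 (tt N12222 (iv F43948)) (tt N12220 (iv F43945)) (tt N4769 (iv D17159)) (tt N12223 D22458) (tt N11570 (iv F42269)) (tt N12224 D22459) (tt N7950 F30142))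
theorem Q7952 : ∀ i, i < 7952 → P i := stepQ 7951 Q7951 (allL N7951 (tt N11924 (iv F43161)) (tt N7689 F30143) (tt N12224 (iv F43951)) (tt N11891 (iv F43070)) (tt N11571 (iv F42272)) (tt N4769 (iv D17160)) (tt N11924 (iv F43163)))
theorem Q7953 : ∀ i, i < 7953 → P i := stepQ 7952 Q7952 (allL N7952 (tt N11721 (iv F42619)) (tt N4771 F30144) (tt N7824 (iv F39672)) (tt N4770 (iv D17162)) (tt N12225 D22460) (tt N7823 F39671) (tt N12071 (iv F43524)))
theorem Q7954 : ∀ i, i < 7954 → P i := stepQ 7953 Q7953 (allL N7953 (tt N12168 (iv F43814)) (tt N4774 F30145) (tt N8011 (iv F30274)) (tt N7823 (iv F39670)) (tt N11573 (iv F42275)) (tt N4770 (iv D17163)) (tt N7822 F39669))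
theorem Q7955 : ∀ i, i < 7955 → P i := stepQ 7954 Q7954 (allL N7954 (tt N12072 (iv F43526)) (tt N6123 F30146) (tt N8012 (iv F30276)) (tt N12071 (iv F43525)) (tt N11574 (iv F42277)) (tt N11870 (iv F43006)) (tt N4770 (iv D17164)))
theorem Q7956 : ∀ i, i < 7956 → P i := stepQ 7955 Q7955 (allL N7955 (tt N4777 F30147) (tt N12225 (iv F43953)) (tt N8057 (iv F30365)) (tt N11575 (iv F42279)) (tt N4771 (iv D17165)) (tt N4777 F30148) (tt N6124 F30149))
theorem Q7957 : ∀ i, i < 7957 → P i := stepQ 7956 Q7956 (allL N7956 (tt N4773 F30150) (tt N7591 (iv F39584)) (tt N7593 F39585) (tt N4772 (iv D17167)) (tt N12226 D22461) (tt N9851 F39583) (tt N12091 (iv F43582)))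
theorem Q7958 : ∀ i, i < 7958 → P i := stepQ 7957 Q7957 (allL N7957 (tt N4774 F30151) (tt N9850 F39570) (tt N4780 F30152) (tt N9851 (iv F39571)) (tt N11577 (iv F42285)) (tt N4772 (iv D17168)) (tt N7964 (iv F30163)))
theorem Q7959 : ∀ i, i < 7959 → P i := stepQ 7958 Q7958 (allL N7958 (tt N4775 F30153) (tt N7628 F35581) (tt N4781 F30154) (tt N12091 (iv F43581)) (tt N11578 (iv F42289)) (tt N7963 (iv F30160)) (tt N4772 (iv D17169)))
theorem Q7960 : ∀ i, i < 7960 → P i := stepQ 7959 Q7959 (allL N7959 (tt N7593 (iv F39810)) (tt N11759 (iv F42725)) (tt N4773 (iv D17170)) (tt N12227 D22462) (tt N12228 D22463) (tt N11783 (iv F42793)) (tt N12229 D22464))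
theorem Q7961 : ∀ i, i < 7961 → P i := stepQ 7960 Q7960 (allL N7960 (tt N12226 (iv F43956)) (tt N4777 F30155) (tt N12228 (iv F43961)) (tt N11580 (iv F42291)) (tt N4773 (iv D17171)) (tt N12230 D22465) (tt N12231 D22466))
theorem Q7962 : ∀ i, i < 7962 → P i := stepQ 7961 Q7961 (allL N7961 (tt N9851 F39582) (tt N7823 F39640) (tt N11783 (iv F42792)) (tt N4774 F30156) (tt N12230 (iv F43979)) (tt N4773 (iv D17172)) (tt N7831 (iv F39639)))
theorem Q7963 : ∀ i, i < 7963 → P i := stepQ 7962 Q7962 (allL N7962 (tt N12091 (iv F43578)) (tt N6061 F30157) (tt N12229 (iv F43963)) (tt N4775 F30158) (tt N12231 (iv F43982)) (tt N12090 (iv F43577)) (tt N4773 (iv D17173)))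
theorem Q7964 : ∀ i, i < 7964 → P i := stepQ 7963 Q7963 (allL N7963 (tt N7964 (iv F30161)) (tt N7830 (iv F39642)) (tt N4786 F30159) (tt N7831 F39641) (tt N11583 (iv F42296)) (tt N7958 F30160) (tt N4774 (iv D17174)))
theorem Q7965 : ∀ i, i < 7965 → P i := stepQ 7964 Q7964 (allL N7964 (tt N7963 F30161) (tt N11881 F43034) (tt N4787 F30162) (tt N12090 (iv F43575)) (tt N11584 (iv F42300)) (tt N4775 (iv D17175)) (tt N7957 F30163))
theorem Q7966 : ∀ i, i < 7966 → P i := stepQ 7965 Q7965 (allL N7965 (tt N10368 F39676) (tt N4776 (iv D17176)) (tt N11759 (iv F42726)) (tt N8051 (iv F30346)) (tt N12232 D22467) (tt N12233 D22468) (tt N12234 D22469))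
theorem Q7967 : ∀ i, i < 7967 → P i := stepQ 7966 Q7966 (allL N7966 (tt N8057 (iv F30364)) (tt N12232 (iv F43983)) (tt N4777 F30164) (tt N9209 (iv F36219)) (tt N4776 (iv D17177)) (tt N8057 (iv F30366)) (tt N6126 F30165))
theorem Q7968 : ∀ i, i < 7968 → P i := stepQ 7967 Q7967 (allL N7967 (tt N11978 (iv F43298)) (tt N4779 F30166) (tt N12235 D22470) (tt N4778 (iv D17179)) (tt N12236 D22471) (tt N12237 D22472) (tt N12238 D22473))
theorem Q7969 : ∀ i, i < 7969 → P i := stepQ 7968 Q7968 (allL N7968 (tt N11684 F42508) (tt N12239 D22474) (tt N12177 (iv F43848)) (tt N12237 (iv F43990)) (tt N11588 (iv F42305)) (tt N4778 (iv D17180)) (tt N12240 D22475))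
theorem Q7970 : ∀ i, i < 7970 → P i := stepQ 7969 Q7969 (allL N7969 (tt N11979 (iv F43300)) (tt N7486 (iv F35579)) (tt N11687 (iv F42511)) (tt N12238 (iv F43992)) (tt N11589 (iv F42306)) (tt N12241 D22476) (tt N4778 (iv D17181)))
theorem Q7971 : ∀ i, i < 7971 → P i := stepQ 7970 Q7970 (allL N7970 (tt N4782 F30167) (tt N12242 D22477) (tt N4779 (iv D17182)) (tt N12243 D22478) (tt N12244 D22479) (tt N9008 (iv F35715)) (tt N12245 D22480))
theorem Q7972 : ∀ i, i < 7972 → P i := stepQ 7971 Q7971 (allL N7971 (tt N4783 F30168) (tt N12236 (iv F43988)) (tt N12244 (iv F44006)) (tt N11591 (iv F42310)) (tt N4779 (iv D17183)) (tt N12246 D22481) (tt N12247 D22482))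
theorem Q7973 : ∀ i, i < 7973 → P i := stepQ 7972 Q7972 (allL N7972 (tt N4784 F30169) (tt N5544 F34131) (tt N9008 (iv F35714)) (tt N4780 F30170) (tt N12246 (iv F44011)) (tt N4779 (iv D17184)) (tt N7982 (iv F30183)))
theorem Q7974 : ∀ i, i < 7974 → P i := stepQ 7973 Q7973 (allL N7973 (tt N4785 F30171) (tt N12182 F43861) (tt N12245 (iv F44008)) (tt N4781 F30172) (tt N12247 (iv F44014)) (tt N7981 (iv F30180)) (tt N4779 (iv D17185)))
theorem Q7975 : ∀ i, i < 7975 → P i := stepQ 7974 Q7974 (allL N7974 (tt N5536 F34136) (tt N4780 (iv D17186)) (tt N12248 D22483) (tt N5544 (iv F34137)) (tt N11594 (iv F42315)) (tt N12239 (iv F43995)) (tt N11822 (iv F42879)))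
theorem Q7976 : ∀ i, i < 7976 → P i := stepQ 7975 Q7975 (allL N7975 (tt N7904 (iv F35578)) (tt N4781 (iv D17187)) (tt N7487 (iv F35580)) (tt N12182 (iv F43859)) (tt N11595 (iv F42318)) (tt N10359 (iv F39018)) (tt N7486 F35577))
theorem Q7977 : ∀ i, i < 7977 → P i := stepQ 7976 Q7976 (allL N7976 (tt N12243 (iv F44003)) (tt N8084 (iv F30435)) (tt N11784 (iv F42796)) (tt N4782 (iv D17188)) (tt N12249 D22484) (tt N9009 (iv F35717)) (tt N12250 D22485))
theorem Q7978 : ∀ i, i < 7978 → P i := stepQ 7977 Q7977 (allL N7977 (tt N12244 (iv F44005)) (tt N8085 (iv F30436)) (tt N4783 F30173) (tt N12251 D22486) (tt N4782 (iv D17189)) (tt N8731 F33745) (tt N12252 D22487))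
theorem Q7979 : ∀ i, i < 7979 → P i := stepQ 7978 Q7978 (allL N7978 (tt N12245 (iv F44007)) (tt N12253 D22488) (tt N4785 F30175) (tt N12250 (iv F44019)) (tt N12252 (iv F44021)) (tt N12254 D22489) (tt N4782 (iv D17191)))
theorem Q7980 : ∀ i, i < 7980 → P i := stepQ 7979 Q7979 (allL N7979 (tt N12246 (iv F44010)) (tt N8728 F33738) (tt N8731 (iv F33743)) (tt N11600 (iv F42326)) (tt N4784 F30176) (tt N4783 (iv D17192)) (tt N12255 D22490))
theorem Q7981 : ∀ i, i < 7981 → P i := stepQ 7980 Q7980 (allL N7980 (tt N12247 (iv F44013)) (tt N6056 F30177) (tt N12252 (iv F44020)) (tt N11601 (iv F42329)) (tt N4785 F30178) (tt N12256 D22491) (tt N4783 (iv D17193)))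
theorem Q7982 : ∀ i, i < 7982 → P i := stepQ 7981 Q7981 (allL N7981 (tt N7982 (iv F30181)) (tt N12257 D22492) (tt N9010 (iv F35718)) (tt N4786 F30179) (tt N12255 (iv F44026)) (tt N7973 F30180) (tt N4784 (iv D17194)))
theorem Q7983 : ∀ i, i < 7983 → P i := stepQ 7982 Q7982 (allL N7982 (tt N7981 F30181) (tt N12258 D22493) (tt N12254 (iv F44024)) (tt N4787 F30182) (tt N12256 (iv F44029)) (tt N4785 (iv D17195)) (tt N7972 F30183))
theorem Q7984 : ∀ i, i < 7984 → P i := stepQ 7983 Q7983 (allL N7983 (tt N10306 F44034) (tt N4786 (iv D17196)) (tt N12259 D22494) (tt N12257 (iv F44031)) (tt N11604 (iv F42336)) (tt N12260 D22495) (tt N10467 (iv F39251)))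
theorem Q7985 : ∀ i, i < 7985 → P i := stepQ 7984 Q7984 (allL N7984 (tt N12261 D22496) (tt N4787 (iv D17197)) (tt N12262 D22497) (tt N12258 (iv F44035)) (tt N11605 (iv F42337)) (tt N6058 F30184) (tt N12263 D22498))
theorem Q7986 : ∀ i, i < 7986 → P i := stepQ 7985 Q7985 (allL N7985 (tt N4789 F30185) (tt N8314 (iv F32408)) (tt N12003 (iv F43347)) (tt N12264 D22499) (tt N4788 (iv D17199)) (tt N12265 D22500) (tt N12266 D22501))
theorem Q7987 : ∀ i, i < 7987 → P i := stepQ 7986 Q7986 (allL N7986 (tt N4790 F30186) (tt N8340 (iv F32409)) (tt N12004 (iv F43349)) (tt N8068 (iv F30406)) (tt N12265 (iv F44056)) (tt N4788 (iv D17200)) (tt N7992 (iv F30193)))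
theorem Q7988 : ∀ i, i < 7988 → P i := stepQ 7987 Q7987 (allL N7987 (tt N4791 F30187) (tt N11789 (iv F42807)) (tt N12005 (iv F43351)) (tt N8069 (iv F30408)) (tt N12266 (iv F44058)) (tt N7991 (iv F30191)) (tt N4788 (iv D17201)))
theorem Q7989 : ∀ i, i < 7989 → P i := stepQ 7988 Q7988 (allL N7988 (tt N12264 (iv F44052)) (tt N4792 F30188) (tt N12267 D22502) (tt N4789 (iv D17202)) (tt N8070 (iv F30410)) (tt N12268 D22503) (tt N12269 D22504))
theorem Q7990 : ∀ i, i < 7990 → P i := stepQ 7989 Q7989 (allL N7989 (tt N12265 (iv F44055)) (tt N10474 (iv F39264)) (tt N12011 (iv F43357)) (tt N12268 (iv F44059)) (tt N4790 F30189) (tt N4789 (iv D17203)) (tt N12270 D22505))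
theorem Q7991 : ∀ i, i < 7991 → P i := stepQ 7990 Q7990 (allL N7990 (tt N12266 (iv F44057)) (tt N9903 (iv F37948)) (tt N12012 (iv F43359)) (tt N12269 (iv F44061)) (tt N4791 F30190) (tt N12271 D22506) (tt N4789 (iv D17204)))
theorem Q7992 : ∀ i, i < 7992 → P i := stepQ 7991 Q7991 (allL N7991 (tt N7992 (iv F30192)) (tt N5106 F33222) (tt N12013 (iv F43361)) (tt N8073 (iv F30414)) (tt N12270 (iv F44063)) (tt N7987 F30191) (tt N4790 (iv D17205)))
theorem Q7993 : ∀ i, i < 7993 → P i := stepQ 7992 Q7992 (allL N7992 (tt N7991 F30192) (tt N8049 (iv F34986)) (tt N12014 (iv F43364)) (tt N8074 (iv F30417)) (tt N12271 (iv F44067)) (tt N4791 (iv D17206)) (tt N7986 F30193))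
theorem Q7994 : ∀ i, i < 7994 → P i := stepQ 7993 Q7993 (allL N7993 (tt N8330 F34588) (tt N4793 (iv D17207)) (tt N8342 F34591) (tt N8329 (iv F34578)) (tt N4795 F30194) (tt N12272 D22507) (tt N8342 (iv F34587)))
theorem Q7995 : ∀ i, i < 7995 → P i := stepQ 7994 Q7994 (allL N7994 (tt N4794 F30195) (tt N11703 (iv F42570)) (tt N4793 (iv D17208)) (tt N11615 (iv F42363)) (tt N4796 F30196) (tt N7844 F34619) (tt N4793 F34620))
theorem Q7996 : ∀ i, i < 7996 → P i := stepQ 7995 Q7995 (allL N7995 (tt N4795 (iv D17213)) (tt N7995 F30206) (tt N8344 (iv F34602)) (tt N4797 F30207) (tt N8330 (iv F34589)) (tt N12273 D22508) (tt N8344 F34596))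
theorem Q7997 : ∀ i, i < 7997 → P i := stepQ 7996 Q7996 (allL N7996 (tt N12273 (iv F44072)) (tt N12109 (iv F43644)) (tt N11718 (iv F42612)) (tt N4799 F30208) (tt N12272 (iv F44070)) (tt N4795 (iv D17215)) (tt N12274 D22509))
theorem Q7998 : ∀ i, i < 7998 → P i := stepQ 7997 Q7997 (allL N7997 (tt N4799 F30224) (tt N12057 F43484) (tt N5842 F30225) (tt N12273 (iv F44073)) (tt N11618 (iv F42375)) (tt N4797 (iv D17227)) (tt N7515 (iv F34848)))
theorem Q7999 : ∀ i, i < 7999 → P i := stepQ 7998 Q7998 (allL N7998 (tt N5833 F30228) (tt N5624 F30229) (tt N9230 (iv F36286)) (tt N4798 (iv D17229)) (tt N9230 (iv F36288)) (tt N5625 (iv F30230)) (tt N9460 (iv F36914)))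
theorem Q8000 : ∀ i, i < 8000 → P i := stepQ 7999 Q7999 (allL N7999 (tt N5842 F30231) (tt N5181 F30232) (tt N4799 F30233) (tt N5625 F30234) (tt N11619 (iv F42380)) (tt N4798 (iv D17230)) (tt N9485 (iv F36977)))
theorem Q8001 : ∀ i, i < 8001 → P i := stepQ 8000 Q8000 (allL N8000 (tt N7515 (iv F34846)) (tt N7575 (iv F34828)) (tt N9485 (iv F36975)) (tt N12274 (iv F44077)) (tt N11620 (iv F42383)) (tt N7513 (iv F34837)) (tt N4799 (iv D17232)))
theorem Q8002 : ∀ i, i < 8002 → P i := stepQ 8001 Q8001 (allL N8001 (tt N6081 F30246) (tt N8548 (iv F33323)) (tt N5618 F30247) (tt N5165 F34550) (tt N10276 (iv F38826)) (tt N4800 (iv D17236)) (tt N5163 F34551))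
theorem Q8003 : ∀ i, i < 8003 → P i := stepQ 8002 Q8002 (allL N8002 (tt N4804 F30252) (tt N8367 (iv F34562)) (tt N8004 (iv F35354)) (tt N10278 (iv F38830)) (tt N4801 (iv D17239)) (tt N12116 (iv F43670)) (tt N8003 F35352))
theorem Q8004 : ∀ i, i < 8004 → P i := stepQ 8003 Q8003 (allL N8003 (tt N8004 F35353) (tt N9917 (iv F37986)) (tt N4804 F30260) (tt N12275 D22510) (tt N4803 (iv D17246)) (tt N12118 (iv F43675)) (tt N8002 (iv F35352)))
theorem Q8005 : ∀ i, i < 8005 → P i := stepQ 8004 Q8004 (allL N8004 (tt N8003 (iv F35353)) (tt N6584 F30262) (tt N8002 F35354) (tt N10288 (iv F38849)) (tt N4805 F30263) (tt N12276 D22511) (tt N4804 (iv D17248)))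
theorem Q8006 : ∀ i, i < 8006 → P i := stepQ 8005 Q8005 (allL N8005 (tt N7857 (iv F34610)) (tt N12277 D22512) (tt N7856 F34632) (tt N4806 F30265) (tt N12276 (iv F44086)) (tt N4805 (iv D17249)) (tt N7856 F30266))
theorem Q8007 : ∀ i, i < 8007 → P i := stepQ 8006 Q8006 (allL N8006 (tt N12278 D22513) (tt N4806 (iv D17250)) (tt N12279 D22514) (tt N12277 (iv F44088)) (tt N10292 (iv F38858)) (tt N6591 F30267) (tt N12280 D22515))
theorem Q8008 : ∀ i, i < 8008 → P i := stepQ 8007 Q8007 (allL N8007 (tt N4807 (iv D17251)) (tt N7581 F43617) (tt N12281 D22516) (tt N12099 F43618) (tt N11621 (iv F42386)) (tt N8007 F30268) (tt N12130 (iv F43722)))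
theorem Q8009 : ∀ i, i < 8009 → P i := stepQ 8008 Q8008 (allL N8008 (tt N12281 (iv F44094)) (tt N12279 (iv F44091)) (tt N4807 (iv D17252)) (tt N12282 D22517) (tt N11622 (iv F42388)) (tt N8008 F30269) (tt N12283 D22518))
theorem Q8010 : ∀ i, i < 8010 → P i := stepQ 8009 Q8009 (allL N8009 (tt N12130 (iv F43719)) (tt N7854 F30270) (tt N12283 (iv F44101)) (tt N12100 (iv F43622)) (tt N11623 (iv F42391)) (tt N12130 (iv F43721)) (tt N4807 (iv D17253)))
theorem Q8011 : ∀ i, i < 8011 → P i := stepQ 8010 Q8010 (allL N8010 (tt N11712 (iv F42592)) (tt N4809 F30272) (tt N7659 (iv F39564)) (tt N4808 (iv D17255)) (tt N12284 D22519) (tt N11859 (iv F42978)) (tt N7658 F39563))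
theorem Q8012 : ∀ i, i < 8012 → P i := stepQ 8011 Q8011 (allL N8011 (tt N11860 (iv F42981)) (tt N6131 F30273) (tt N7953 F30274) (tt N11859 (iv F42980)) (tt N11625 (iv F42395)) (tt N4808 (iv D17256)) (tt N11868 (iv F42999)))
theorem Q8013 : ∀ i, i < 8013 → P i := stepQ 8012 Q8012 (allL N8012 (tt N11965 (iv F43260)) (tt N4813 F30275) (tt N7954 F30276) (tt N7658 (iv F39561)) (tt N11626 (iv F42398)) (tt N7657 F39560) (tt N4808 (iv D17257)))
theorem Q8014 : ∀ i, i < 8014 → P i := stepQ 8013 Q8013 (allL N8013 (tt N4815 F30277) (tt N12284 (iv F44103)) (tt N8101 (iv F30490)) (tt N11627 (iv F42400)) (tt N4809 (iv D17258)) (tt N6133 F30278) (tt N4815 F30279))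
theorem Q8015 : ∀ i, i < 8015 → P i := stepQ 8014 Q8014 (allL N8014 (tt N4811 F30280) (tt N7546 F39630) (tt N7548 (iv F39634)) (tt N4810 (iv D17260)) (tt N12285 D22520) (tt N11882 (iv F43038)) (tt N9798 (iv F39635)))
theorem Q8016 : ∀ i, i < 8016 → P i := stepQ 8015 Q8015 (allL N8015 (tt N4812 F30281) (tt N7793 F30283) (tt N4818 F30282) (tt N11882 (iv F43037)) (tt N11629 (iv F42407)) (tt N4810 (iv D17261)) (tt N8022 (iv F30300)))
theorem Q8017 : ∀ i, i < 8017 → P i := stepQ 8016 Q8016 (allL N8016 (tt N4813 F30290) (tt N9797 (iv F39638)) (tt N4819 F30291) (tt N9798 F39637) (tt N11630 (iv F42410)) (tt N8021 (iv F30297)) (tt N4810 (iv D17262)))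
theorem Q8018 : ∀ i, i < 8018 → P i := stepQ 8017 Q8017 (allL N8017 (tt N7548 F39806) (tt N11802 (iv F42838)) (tt N4811 (iv D17263)) (tt N12286 D22521) (tt N12287 D22522) (tt N12288 D22523) (tt N11740 F42684))
theorem Q8019 : ∀ i, i < 8019 → P i := stepQ 8018 Q8018 (allL N8018 (tt N12285 (iv F44106)) (tt N4815 F30292) (tt N12287 (iv F44111)) (tt N11632 (iv F42412)) (tt N4811 (iv D17264)) (tt N12289 D22524) (tt N12290 D22525))
theorem Q8020 : ∀ i, i < 8020 → P i := stepQ 8019 Q8019 (allL N8019 (tt N11882 (iv F43035)) (tt N6099 F30293) (tt N12288 (iv F44113)) (tt N4812 F30294) (tt N12289 (iv F44116)) (tt N4811 (iv D17265)) (tt N11881 F43033))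
theorem Q8021 : ∀ i, i < 8021 → P i := stepQ 8020 Q8020 (allL N8020 (tt N9798 F39636) (tt N7658 F39562) (tt N11740 (iv F42682)) (tt N4813 F30295) (tt N12290 (iv F44118)) (tt N7667 (iv F39569)) (tt N4811 (iv D17266)))
theorem Q8022 : ∀ i, i < 8022 → P i := stepQ 8021 Q8021 (allL N8021 (tt N8022 (iv F30298)) (tt N12090 (iv F43573)) (tt N4824 F30296) (tt N11881 (iv F43031)) (tt N11635 (iv F42417)) (tt N8016 F30297) (tt N4812 (iv D17267)))
theorem Q8023 : ∀ i, i < 8023 → P i := stepQ 8022 Q8022 (allL N8022 (tt N8021 F30298) (tt N7666 (iv F39555)) (tt N4825 F30299) (tt N7667 F39559) (tt N11636 (iv F42421)) (tt N4813 (iv D17268)) (tt N8015 F30300))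
theorem Q8024 : ∀ i, i < 8024 → P i := stepQ 8023 Q8023 (allL N8023 (tt N10333 F39568) (tt N4814 (iv D17269)) (tt N11802 (iv F42839)) (tt N8095 (iv F30477)) (tt N12291 D22526) (tt N12292 D22527) (tt N12293 D22528))
theorem Q8025 : ∀ i, i < 8025 → P i := stepQ 8024 Q8024 (allL N8024 (tt N8101 (iv F30489)) (tt N12291 (iv F44120)) (tt N4815 F30301) (tt N9245 (iv F36321)) (tt N4814 (iv D17270)) (tt N6135 F30302) (tt N8101 (iv F30492)))
theorem Q8026 : ∀ i, i < 8026 → P i := stepQ 8025 Q8025 (allL N8025 (tt N12176 (iv F43845)) (tt N4817 F30303) (tt N12294 D22529) (tt N4816 (iv D17271)) (tt N12295 D22530) (tt N12296 D22531) (tt N12297 D22532))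
theorem Q8027 : ∀ i, i < 8027 → P i := stepQ 8026 Q8026 (allL N8026 (tt N12177 (iv F43847)) (tt N7495 F30313) (tt N11684 (iv F42506)) (tt N12296 (iv F44127)) (tt N11640 (iv F42426)) (tt N4816 (iv D17272)) (tt N12298 D22533))
theorem Q8028 : ∀ i, i < 8028 → P i := stepQ 8027 Q8027 (allL N8027 (tt N11687 F42513) (tt N12299 D22534) (tt N11979 (iv F43301)) (tt N12297 (iv F44129)) (tt N11641 (iv F42428)) (tt N12300 D22535) (tt N4816 (iv D17273)))
theorem Q8029 : ∀ i, i < 8029 → P i := stepQ 8028 Q8028 (allL N8028 (tt N4820 F30304) (tt N12301 D22536) (tt N4817 (iv D17274)) (tt N12302 D22537) (tt N12303 D22538) (tt N12304 D22539) (tt N9070 (iv F35854)))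
theorem Q8030 : ∀ i, i < 8030 → P i := stepQ 8029 Q8029 (allL N8029 (tt N4821 F30305) (tt N12295 (iv F44125)) (tt N12303 (iv F44145)) (tt N11643 (iv F42431)) (tt N4817 (iv D17275)) (tt N12305 D22540) (tt N12306 D22541))
theorem Q8031 : ∀ i, i < 8031 → P i := stepQ 8030 Q8030 (allL N8030 (tt N4822 F30306) (tt N11985 (iv F43312)) (tt N12304 (iv F44147)) (tt N4818 F30307) (tt N12305 (iv F44150)) (tt N4817 (iv D17276)) (tt N8040 (iv F30324)))
theorem Q8032 : ∀ i, i < 8032 → P i := stepQ 8031 Q8031 (allL N8031 (tt N4823 F30308) (tt N5588 (iv F35048)) (tt N9070 (iv F35853)) (tt N4819 F30309) (tt N12306 (iv F44152)) (tt N8039 (iv F30321)) (tt N4817 (iv D17277)))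
theorem Q8033 : ∀ i, i < 8033 → P i := stepQ 8032 Q8032 (allL N8032 (tt N7744 F30311) (tt N4818 (iv D17278)) (tt N7496 F30310) (tt N11985 (iv F43310)) (tt N11646 (iv F42437)) (tt N7495 (iv F30312)) (tt N10322 (iv F38940)))
theorem Q8034 : ∀ i, i < 8034 → P i := stepQ 8033 Q8033 (allL N8033 (tt N5580 (iv F35046)) (tt N4819 (iv D17279)) (tt N12307 D22542) (tt N5588 F35047) (tt N11647 (iv F42440)) (tt N12044 (iv F43434)) (tt N12299 (iv F44135)))
theorem Q8035 : ∀ i, i < 8035 → P i := stepQ 8034 Q8034 (allL N8034 (tt N12302 (iv F44142)) (tt N8125 (iv F30558)) (tt N11741 (iv F42686)) (tt N4820 (iv D17280)) (tt N12308 D22543) (tt N12309 D22544) (tt N8996 (iv F35681)))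
theorem Q8036 : ∀ i, i < 8036 → P i := stepQ 8035 Q8035 (allL N8035 (tt N12303 (iv F44144)) (tt N8126 (iv F30559)) (tt N4821 F30314) (tt N12310 D22545) (tt N4820 (iv D17281)) (tt N12311 D22546) (tt N8776 F35035))
theorem Q8037 : ∀ i, i < 8037 → P i := stepQ 8036 Q8036 (allL N8036 (tt N12304 (iv F44146)) (tt N12312 D22547) (tt N4822 F30315) (tt N12309 (iv F44158)) (tt N12311 (iv F44160)) (tt N4820 (iv D17282)) (tt N12313 D22548))
theorem Q8038 : ∀ i, i < 8038 → P i := stepQ 8037 Q8037 (allL N8037 (tt N12305 (iv F44149)) (tt N6094 F30317) (tt N12311 (iv F44159)) (tt N11652 (iv F42448)) (tt N4822 F30318) (tt N4821 (iv D17284)) (tt N12314 D22549))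
theorem Q8039 : ∀ i, i < 8039 → P i := stepQ 8038 Q8038 (allL N8038 (tt N12306 (iv F44151)) (tt N8773 F35037) (tt N8776 (iv F35036)) (tt N11653 (iv F42450)) (tt N4823 F30319) (tt N12315 D22550) (tt N4821 (iv D17285)))
theorem Q8040 : ∀ i, i < 8040 → P i := stepQ 8039 Q8039 (allL N8039 (tt N8040 (iv F30322)) (tt N12316 D22551) (tt N12313 (iv F44163)) (tt N4824 F30320) (tt N12314 (iv F44165)) (tt N8031 F30321) (tt N4822 (iv D17286)))
theorem Q8041 : ∀ i, i < 8041 → P i := stepQ 8040 Q8040 (allL N8040 (tt N8039 F30322) (tt N12317 D22552) (tt N9071 (iv F35855)) (tt N4825 F30323) (tt N12315 (iv F44168)) (tt N4823 (iv D17287)) (tt N8030 F30324))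
theorem Q8042 : ∀ i, i < 8042 → P i := stepQ 8041 Q8041 (allL N8041 (tt N12318 D22553) (tt N4824 (iv D17288)) (tt N12319 D22554) (tt N12316 (iv F44170)) (tt N11656 (iv F42457)) (tt N12320 D22555) (tt N6096 F30325))
theorem Q8043 : ∀ i, i < 8043 → P i := stepQ 8042 Q8042 (allL N8042 (tt N10342 F44175) (tt N4825 (iv D17289)) (tt N12321 D22556) (tt N12317 (iv F44172)) (tt N11657 (iv F42459)) (tt N10517 (iv F39357)) (tt N12322 D22557))
theorem Q8044 : ∀ i, i < 8044 → P i := stepQ 8043 Q8043 (allL N8043 (tt N4827 F30326) (tt N8308 (iv F34990)) (tt N12192 (iv F43883)) (tt N12323 D22558) (tt N4826 (iv D17291)) (tt N12324 D22559) (tt N12325 D22560))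
theorem Q8045 : ∀ i, i < 8045 → P i := stepQ 8044 Q8044 (allL N8044 (tt N4828 F30327) (tt N11746 (iv F42697)) (tt N12193 (iv F43885)) (tt N8112 (iv F30529)) (tt N12324 (iv F44194)) (tt N4826 (iv D17292)) (tt N8050 (iv F30334)))
theorem Q8046 : ∀ i, i < 8046 → P i := stepQ 8045 Q8045 (allL N8045 (tt N4829 F30328) (tt N8332 (iv F34991)) (tt N12194 (iv F43887)) (tt N8113 (iv F30531)) (tt N12325 (iv F44196)) (tt N8049 (iv F30332)) (tt N4826 (iv D17293)))
theorem Q8047 : ∀ i, i < 8047 → P i := stepQ 8046 Q8046 (allL N8046 (tt N12323 (iv F44190)) (tt N4830 F30329) (tt N12326 D22561) (tt N4827 (iv D17294)) (tt N8114 (iv F30533)) (tt N12327 D22562) (tt N12328 D22563))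
theorem Q8048 : ∀ i, i < 8048 → P i := stepQ 8047 Q8047 (allL N8047 (tt N12324 (iv F44193)) (tt N9919 (iv F37990)) (tt N12196 (iv F43889)) (tt N12327 (iv F44198)) (tt N4828 F30330) (tt N4827 (iv D17295)) (tt N12329 D22564))
theorem Q8049 : ∀ i, i < 8049 → P i := stepQ 8048 Q8048 (allL N8048 (tt N12325 (iv F44195)) (tt N10524 (iv F39372)) (tt N12197 (iv F43891)) (tt N12328 (iv F44200)) (tt N4829 F30331) (tt N12330 D22565) (tt N4827 (iv D17296)))
theorem Q8050 : ∀ i, i < 8050 → P i := stepQ 8049 Q8049 (allL N8049 (tt N8050 (iv F30333)) (tt N7992 F34986) (tt N12198 (iv F43893)) (tt N8117 (iv F30537)) (tt N12329 (iv F44201)) (tt N8045 F30332) (tt N4828 (iv D17297)))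
theorem Q8051 : ∀ i, i < 8051 → P i := stepQ 8050 Q8050 (allL N8050 (tt N8049 F30333) (tt N5113 F35066) (tt N12199 (iv F43896)) (tt N8118 (iv F30540)) (tt N12330 (iv F44205)) (tt N4829 (iv D17298)) (tt N8044 F30334))
theorem Q8052 : ∀ i, i < 8052 → P i := stepQ 8051 Q8051 (allL N8051 (tt N12331 D22566) (tt N4834 (iv D17301)) (tt N5730 F30345) (tt N7965 F30346) (tt N5629 F33018) (tt N12332 D22567) (tt N12333 D22568))
theorem Q8053 : ∀ i, i < 8053 → P i := stepQ 8052 Q8052 (allL N8052 (tt N12125 (iv F43693)) (tt N4835 (iv D17303)) (tt N4836 F30351) (tt N11923 (iv F43159)) (tt N6699 F33023) (tt N11921 (iv F43149)) (tt N8099 (iv F35210)))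
theorem Q8054 : ∀ i, i < 8054 → P i := stepQ 8053 Q8053 (allL N8053 (tt N6698 (iv F32707)) (tt N11923 (iv F43157)) (tt N8059 (iv F30372)) (tt N4835 (iv D17304)) (tt N12334 D22569) (tt N6836 (iv F33025)) (tt N8109 F30514))
theorem Q8055 : ∀ i, i < 8055 → P i := stepQ 8054 Q8054 (allL N8054 (tt N12126 (iv F43699)) (tt N4838 F30362) (tt N6699 (iv F33024)) (tt N9116 (iv F35943)) (tt N4836 (iv D17310)) (tt N12335 D22570) (tt N10587 F39890))
theorem Q8056 : ∀ i, i < 8056 → P i := stepQ 8055 Q8055 (allL N8055 (tt N12127 (iv F43703)) (tt N12332 (iv F44212)) (tt N11921 (iv F43146)) (tt N12124 (iv F43691)) (tt N12335 (iv F44227)) (tt N4836 (iv D17311)) (tt N11919 (iv F43140)))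
theorem Q8057 : ∀ i, i < 8057 → P i := stepQ 8056 Q8056 (allL N8056 (tt N12123 (iv F43685)) (tt N6147 F30363) (tt N8099 F35205) (tt N12122 (iv F43683)) (tt N10587 (iv F39889)) (tt N8096 (iv F35207)) (tt N4836 (iv D17312)))
theorem Q8058 : ∀ i, i < 8058 → P i := stepQ 8057 Q8057 (allL N8057 (tt N7966 F30364) (tt N11476 F42058) (tt N7955 F30365) (tt N9117 (iv F35945)) (tt N4837 (iv D17313)) (tt N7966 F30366) (tt N6148 F30367))
theorem Q8059 : ∀ i, i < 8059 → P i := stepQ 8058 Q8058 (allL N8058 (tt N12336 D22571) (tt N4839 (iv D17315)) (tt N4908 F30369) (tt N12337 D22572) (tt N4908 F32693) (tt N12338 D22573) (tt N12336 (iv F44234)))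
theorem Q8060 : ∀ i, i < 8060 → P i := stepQ 8059 Q8059 (allL N8059 (tt N4841 F30370) (tt N12337 (iv F44236)) (tt N8053 F30372) (tt N4839 (iv D17316)) (tt N12339 D22574) (tt N6762 F32690) (tt N4891 F30371))
theorem Q8061 : ∀ i, i < 8061 → P i := stepQ 8060 Q8060 (allL N8060 (tt N4840 (iv D17320)) (tt N10361 F39696) (tt N4843 F30384) (tt N10360 (iv F39698)) (tt N6775 (iv F33047)) (tt N12340 D22575) (tt N12341 D22576))
theorem Q8062 : ∀ i, i < 8062 → P i := stepQ 8061 Q8061 (allL N8061 (tt N10360 F39699) (tt N4841 F30385) (tt N12342 D22577) (tt N4840 (iv D17321)) (tt N12343 D22578) (tt N10406 F39700) (tt N12344 D22579))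
theorem Q8063 : ∀ i, i < 8063 → P i := stepQ 8062 Q8062 (allL N8062 (tt N12340 (iv F44251)) (tt N6740 (iv F33044)) (tt N4845 F30388) (tt N10406 (iv F39705)) (tt N6753 F33046) (tt N4840 (iv D17323)) (tt N12345 D22580))
theorem Q8064 : ∀ i, i < 8064 → P i := stepQ 8063 Q8063 (allL N8063 (tt N12341 (iv F44256)) (tt N9907 F37960) (tt N4846 F30389) (tt N12344 (iv F44264)) (tt N6776 (iv F33048)) (tt N12346 D22581) (tt N4840 (iv D17324)))
theorem Q8065 : ∀ i, i < 8065 → P i := stepQ 8064 Q8064 (allL N8064 (tt N12339 (iv F44246)) (tt N12343 (iv F44262)) (tt N10633 (iv F40033)) (tt N6773 F33038) (tt N4841 (iv D17326)) (tt N6763 (iv F33037)) (tt N10798 (iv F40487)))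
theorem Q8066 : ∀ i, i < 8066 → P i := stepQ 8065 Q8065 (allL N8065 (tt N4891 F30394) (tt N12347 D22582) (tt N4912 F30395) (tt N4842 F30396) (tt N10798 (iv F40486)) (tt N8097 (iv F30483)) (tt N4841 (iv D17328)))
theorem Q8067 : ∀ i, i < 8067 → P i := stepQ 8066 Q8066 (allL N8066 (tt N9912 (iv F37969)) (tt N4842 (iv D17333)) (tt N5203 F30402) (tt N12347 (iv F44272)) (tt N4905 F32687) (tt N6147 (iv F35206)) (tt N9907 (iv F37959)))
theorem Q8068 : ∀ i, i < 8068 → P i := stepQ 8067 Q8067 (allL N8067 (tt N4844 F30404) (tt N5997 (iv F34488)) (tt N6775 F32509) (tt N8347 (iv F32411)) (tt N4843 (iv D17335)) (tt N6030 (iv F35185)) (tt N12348 D22583))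
theorem Q8069 : ∀ i, i < 8069 → P i := stepQ 8068 Q8068 (allL N8068 (tt N4845 F30405) (tt N6005 (iv F34981)) (tt N12340 (iv F44253)) (tt N7986 F30406) (tt N6030 F34983) (tt N4843 (iv D17336)) (tt N8074 (iv F30418)))
theorem Q8070 : ∀ i, i < 8070 → P i := stepQ 8069 Q8069 (allL N8069 (tt N4846 F30407) (tt N12349 D22584) (tt N12341 (iv F44257)) (tt N7987 F30408) (tt N12348 (iv F44278)) (tt N8073 (iv F30415)) (tt N4843 (iv D17337)))
theorem Q8071 : ∀ i, i < 8071 → P i := stepQ 8070 Q8070 (allL N8070 (tt N8347 F32412) (tt N4847 F30409) (tt N12350 D22585) (tt N4844 (iv D17338)) (tt N7988 F30410) (tt N12351 D22586) (tt N8906 (iv F34153)))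
theorem Q8072 : ∀ i, i < 8072 → P i := stepQ 8071 Q8071 (allL N8071 (tt N6030 (iv F35184)) (tt N6755 F32507) (tt N6753 F32508) (tt N12351 (iv F44290)) (tt N4845 F30411) (tt N4844 (iv D17339)) (tt N12352 D22587))
theorem Q8073 : ∀ i, i < 8073 → P i := stepQ 8072 Q8072 (allL N8072 (tt N12348 (iv F44274)) (tt N6015 F30412) (tt N6776 F32511) (tt N8906 (iv F34152)) (tt N4846 F30413) (tt N9755 (iv F37663)) (tt N4844 (iv D17340)))
theorem Q8074 : ∀ i, i < 8074 → P i := stepQ 8073 Q8073 (allL N8073 (tt N8074 (iv F30416)) (tt N8447 (iv F33223)) (tt N12345 (iv F44265)) (tt N7991 F30414) (tt N12352 (iv F44295)) (tt N8069 F30415) (tt N4845 (iv D17341)))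
theorem Q8075 : ∀ i, i < 8075 → P i := stepQ 8074 Q8074 (allL N8074 (tt N8073 F30416) (tt N8117 F34984) (tt N12346 (iv F44269)) (tt N7992 F30417) (tt N9755 (iv F37662)) (tt N4846 (iv D17342)) (tt N8068 F30418))
theorem Q8076 : ∀ i, i < 8076 → P i := stepQ 8075 Q8075 (allL N8075 (tt N8485 (iv F33171)) (tt N4892 F30419) (tt N4848 (iv D17344)) (tt N12353 D22588) (tt N6457 F39666) (tt N6464 F39667) (tt N12354 D22589))
theorem Q8077 : ∀ i, i < 8077 → P i := stepQ 8076 Q8076 (allL N8076 (tt N8475 (iv F33135)) (tt N4850 F30421) (tt N6457 F39656) (tt N11787 (iv F42803)) (tt N4848 (iv D17346)) (tt N6463 F39657) (tt N12355 D22590))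
theorem Q8078 : ∀ i, i < 8078 → P i := stepQ 8077 Q8077 (allL N8077 (tt N8486 (iv F33173)) (tt N12356 D22591) (tt N12354 (iv F44300)) (tt N5149 (iv F32400)) (tt N12355 (iv F44306)) (tt N5126 F32399) (tt N4848 (iv D17348)))
theorem Q8079 : ∀ i, i < 8079 → P i := stepQ 8078 Q8078 (allL N8078 (tt N4853 F30422) (tt N12357 D22592) (tt N4849 (iv D17349)) (tt N8092 (iv F32527)) (tt N12358 D22593) (tt N12359 D22594) (tt N12360 D22595))
theorem Q8080 : ∀ i, i < 8080 → P i := stepQ 8079 Q8079 (allL N8079 (tt N4854 F30423) (tt N8403 F32407) (tt N12358 (iv F44317)) (tt N12361 D22596) (tt N4849 (iv D17350)) (tt N12362 D22597) (tt N12363 D22598))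
theorem Q8081 : ∀ i, i < 8081 → P i := stepQ 8080 Q8080 (allL N8080 (tt N4855 F30424) (tt N8516 (iv F33234)) (tt N12359 (iv F44319)) (tt N4851 F30425) (tt N12362 (iv F44330)) (tt N4849 (iv D17351)) (tt N4884 F34204))
theorem Q8082 : ∀ i, i < 8082 → P i := stepQ 8081 Q8081 (allL N8081 (tt N4856 F30426) (tt N12364 D22599) (tt N12360 (iv F44322)) (tt N4852 F30427) (tt N12363 (iv F44333)) (tt N8091 (iv F30445)) (tt N4849 (iv D17352)))
theorem Q8083 : ∀ i, i < 8083 → P i := stepQ 8082 Q8082 (allL N8082 (tt N4857 F30428) (tt N11787 (iv F42802)) (tt N8084 F32525) (tt N4850 (iv D17353)) (tt N12361 (iv F44326)) (tt N4883 F34426) (tt N8123 F34427))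
theorem Q8084 : ∀ i, i < 8084 → P i := stepQ 8083 Q8083 (allL N8083 (tt N5955 F37439) (tt N4852 (iv D17357)) (tt N5954 F37440) (tt N12364 (iv F44334)) (tt N8124 F35491) (tt N12365 D22600) (tt N12356 (iv F44311)))
theorem Q8085 : ∀ i, i < 8085 → P i := stepQ 8084 Q8084 (allL N8084 (tt N8092 (iv F32526)) (tt N7976 F30435) (tt N8082 (iv F32525)) (tt N4853 (iv D17358)) (tt N12366 D22601) (tt N8128 (iv F35443)) (tt N12367 D22602))
theorem Q8086 : ∀ i, i < 8086 → P i := stepQ 8085 Q8085 (allL N8085 (tt N12358 (iv F44316)) (tt N7977 F30436) (tt N4854 F30437) (tt N12368 D22603) (tt N4853 (iv D17359)) (tt N12369 D22604) (tt N12370 D22605))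
theorem Q8087 : ∀ i, i < 8087 → P i := stepQ 8086 Q8086 (allL N8086 (tt N12359 (iv F44318)) (tt N5469 F33240) (tt N4855 F30438) (tt N8128 F35444) (tt N12369 (iv F44349)) (tt N4853 (iv D17360)) (tt N8125 (iv F35447)))
theorem Q8088 : ∀ i, i < 8088 → P i := stepQ 8087 Q8087 (allL N8087 (tt N12360 (iv F44321)) (tt N12371 D22606) (tt N4856 F30439) (tt N12367 (iv F44344)) (tt N12370 (iv F44351)) (tt N8132 (iv F35448)) (tt N4853 (iv D17361)))
theorem Q8089 : ∀ i, i < 8089 → P i := stepQ 8088 Q8088 (allL N8088 (tt N12361 (iv F44325)) (tt N4860 F30440) (tt N12372 D22607) (tt N4854 (iv D17362)) (tt N4857 F30441) (tt N12373 D22608) (tt N8130 (iv F35481)))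
theorem Q8090 : ∀ i, i < 8090 → P i := stepQ 8089 Q8089 (allL N8089 (tt N12362 (iv F44328)) (tt N10569 (iv F39520)) (tt N12369 (iv F44348)) (tt N12373 (iv F44357)) (tt N4855 F30442) (tt N4854 (iv D17363)) (tt N12374 D22609))
theorem Q8091 : ∀ i, i < 8091 → P i := stepQ 8090 Q8090 (allL N8090 (tt N12363 (iv F44332)) (tt N8349 F32189) (tt N12370 (iv F44350)) (tt N8130 F35483) (tt N4856 F30443) (tt N8129 (iv F35484)) (tt N4854 (iv D17364)))
theorem Q8092 : ∀ i, i < 8092 → P i := stepQ 8091 Q8091 (allL N8091 (tt N4884 F34201) (tt N11744 (iv F42692)) (tt N8125 F34202) (tt N4859 F30444) (tt N12374 (iv F44362)) (tt N8081 F30445) (tt N4855 (iv D17365)))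
theorem Q8093 : ∀ i, i < 8093 → P i := stepQ 8092 Q8092 (allL N8092 (tt N8084 F32526) (tt N10572 (iv F39849)) (tt N4857 (iv D17367)) (tt N8078 F32527) (tt N12372 (iv F44355)) (tt N12375 D22610) (tt N8127 (iv F35445)))
theorem Q8094 : ∀ i, i < 8094 → P i := stepQ 8093 Q8093 (allL N8093 (tt N4883 F34409) (tt N8546 F33314) (tt N12375 (iv F44365)) (tt N4858 F30449) (tt N12373 (iv F44358)) (tt N4857 (iv D17368)) (tt N4878 F34410))
theorem Q8095 : ∀ i, i < 8095 → P i := stepQ 8094 Q8094 (allL N8094 (tt N8478 F33206) (tt N4859 (iv D17372)) (tt N6426 F39542) (tt N11744 (iv F42693)) (tt N4877 (iv F34338)) (tt N12376 D22611) (tt N6432 F39543))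
theorem Q8096 : ∀ i, i < 8096 → P i := stepQ 8095 Q8095 (allL N8095 (tt N12377 D22612) (tt N4863 (iv D17382)) (tt N5695 F30476) (tt N8023 F30477) (tt N5662 (iv F33033)) (tt N12378 D22613) (tt N12379 D22614))
theorem Q8097 : ∀ i, i < 8097 → P i := stepQ 8096 Q8096 (allL N8096 (tt N11919 (iv F43136)) (tt N4864 (iv D17384)) (tt N4865 F30482) (tt N12129 (iv F43717)) (tt N6655 F33042) (tt N8056 F35207) (tt N12127 (iv F43707)))
theorem Q8098 : ∀ i, i < 8098 → P i := stepQ 8097 Q8097 (allL N8097 (tt N6654 (iv F32547)) (tt N12129 (iv F43715)) (tt N8103 (iv F30497)) (tt N4864 (iv D17385)) (tt N12380 D22615) (tt N8065 F30483) (tt N6762 (iv F33028)))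
theorem Q8099 : ∀ i, i < 8099 → P i := stepQ 8098 Q8098 (allL N8098 (tt N11920 (iv F43141)) (tt N4867 F30487) (tt N6655 (iv F33043)) (tt N9170 (iv F36084)) (tt N4865 (iv D17389)) (tt N10636 F40043) (tt N12381 D22616))
theorem Q8100 : ∀ i, i < 8100 → P i := stepQ 8099 Q8099 (allL N8099 (tt N11917 (iv F43130)) (tt N6159 F30488) (tt N8056 (iv F35205)) (tt N11916 F43129) (tt N10636 (iv F40042)) (tt N4865 (iv D17390)) (tt N8052 F35210))
theorem Q8101 : ∀ i, i < 8101 → P i := stepQ 8100 Q8100 (allL N8100 (tt N11921 (iv F43145)) (tt N12379 (iv F44381)) (tt N12127 (iv F43704)) (tt N11918 (iv F43134)) (tt N12381 (iv F44392)) (tt N12125 F43697) (tt N4865 (iv D17391)))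
theorem Q8102 : ∀ i, i < 8102 → P i := stepQ 8101 Q8101 (allL N8101 (tt N8024 F30489) (tt N11317 F41714) (tt N8013 F30490) (tt N9171 (iv F36086)) (tt N4866 (iv D17392)) (tt N6161 F30491) (tt N8024 F30492))
theorem Q8103 : ∀ i, i < 8103 → P i := stepQ 8102 Q8102 (allL N8102 (tt N12382 D22617) (tt N4868 (iv D17394)) (tt N4927 F30494) (tt N12383 D22618) (tt N4927 F32741) (tt N12382 (iv F44397)) (tt N12384 D22619))
theorem Q8104 : ∀ i, i < 8104 → P i := stepQ 8103 Q8103 (allL N8103 (tt N4870 F30495) (tt N12383 (iv F44401)) (tt N8097 F30497) (tt N4868 (iv D17395)) (tt N12385 D22620) (tt N4912 F30496) (tt N6836 F32688))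
theorem Q8105 : ∀ i, i < 8105 → P i := stepQ 8104 Q8104 (allL N8104 (tt N4869 (iv D17397)) (tt N10324 F39840) (tt N4872 F30501) (tt N10323 (iv F39842)) (tt N6849 (iv F33016)) (tt N12386 D22621) (tt N12387 D22622))
theorem Q8106 : ∀ i, i < 8106 → P i := stepQ 8105 Q8105 (allL N8105 (tt N10323 F39843) (tt N4870 F30502) (tt N12388 D22623) (tt N4869 (iv D17398)) (tt N12389 D22624) (tt N12390 D22625) (tt N10440 (iv F39749)))
theorem Q8107 : ∀ i, i < 8107 → P i := stepQ 8106 Q8106 (allL N8106 (tt N12386 (iv F44416)) (tt N9924 F38007) (tt N4874 F30505) (tt N12390 (iv F44429)) (tt N6850 (iv F33015)) (tt N4869 (iv D17400)) (tt N12391 D22626))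
theorem Q8108 : ∀ i, i < 8108 → P i := stepQ 8107 Q8107 (allL N8107 (tt N12387 (iv F44419)) (tt N6814 (iv F33010)) (tt N4875 F30506) (tt N10440 (iv F39789)) (tt N6827 F33011) (tt N12392 D22627) (tt N4869 (iv D17401)))
theorem Q8109 : ∀ i, i < 8109 → P i := stepQ 8108 Q8108 (allL N8108 (tt N12385 (iv F44411)) (tt N12389 (iv F44427)) (tt N10584 (iv F39880)) (tt N6847 F33026) (tt N4870 (iv D17403)) (tt N10717 (iv F40250)) (tt N6837 (iv F33027)))
theorem Q8110 : ∀ i, i < 8110 → P i := stepQ 8109 Q8109 (allL N8109 (tt N4912 F30511) (tt N12393 D22628) (tt N4891 F30512) (tt N4871 F30513) (tt N10717 (iv F40249)) (tt N4870 (iv D17404)) (tt N8053 (iv F30514)))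
theorem Q8111 : ∀ i, i < 8111 → P i := stepQ 8110 Q8110 (allL N8110 (tt N9929 (iv F38016)) (tt N4871 (iv D17409)) (tt N5211 F30525) (tt N12393 (iv F44437)) (tt N4924 F32796) (tt N9924 (iv F38006)) (tt N6159 F35211))
theorem Q8112 : ∀ i, i < 8112 → P i := stepQ 8111 Q8111 (allL N8111 (tt N4873 F30527) (tt N5995 F34993) (tt N6849 F32891) (tt N8339 (iv F34995)) (tt N4872 (iv D17412)) (tt N12394 D22629) (tt N6014 (iv F34996)))
theorem Q8113 : ∀ i, i < 8113 → P i := stepQ 8112 Q8112 (allL N8112 (tt N4874 F30528) (tt N12395 D22630) (tt N12386 (iv F44417)) (tt N8044 F30529) (tt N12394 (iv F44443)) (tt N4872 (iv D17413)) (tt N8118 (iv F30541)))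
theorem Q8114 : ∀ i, i < 8114 → P i := stepQ 8113 Q8113 (allL N8113 (tt N4875 F30530) (tt N5999 F34987) (tt N12387 (iv F44421)) (tt N8045 F30531) (tt N6014 F34998) (tt N8117 (iv F30538)) (tt N4872 (iv D17414)))
theorem Q8115 : ∀ i, i < 8115 → P i := stepQ 8114 Q8114 (allL N8114 (tt N8339 F34999) (tt N4876 F30532) (tt N12396 D22631) (tt N4873 (iv D17415)) (tt N8046 F30533) (tt N8913 (iv F35509)) (tt N12397 D22632))
theorem Q8116 : ∀ i, i < 8116 → P i := stepQ 8115 Q8115 (allL N8115 (tt N12394 (iv F44439)) (tt N6031 (iv F34480)) (tt N6850 F32892) (tt N8913 (iv F35508)) (tt N4874 F30535) (tt N4873 (iv D17416)) (tt N9735 (iv F37616)))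
theorem Q8117 : ∀ i, i < 8117 → P i := stepQ 8116 Q8116 (allL N8116 (tt N6014 F34997) (tt N6829 (iv F32925)) (tt N6827 F32893) (tt N12397 (iv F44456)) (tt N4875 F30536) (tt N12398 D22633) (tt N4873 (iv D17417)))
theorem Q8118 : ∀ i, i < 8118 → P i := stepQ 8117 Q8117 (allL N8117 (tt N8118 (iv F30539)) (tt N8074 (iv F34984)) (tt N12391 (iv F44430)) (tt N8049 F30537) (tt N9735 (iv F37615)) (tt N8113 F30538) (tt N4874 (iv D17418)))
theorem Q8119 : ∀ i, i < 8119 → P i := stepQ 8118 Q8118 (allL N8118 (tt N8117 F30539) (tt N8450 F34985) (tt N12392 (iv F44434)) (tt N8050 F30540) (tt N12398 (iv F44461)) (tt N4875 (iv D17419)) (tt N8112 F30541))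
theorem Q8120 : ∀ i, i < 8120 → P i := stepQ 8119 Q8119 (allL N8119 (tt N8493 F35429) (tt N4913 F30542) (tt N4877 (iv D17421)) (tt N12399 D22634) (tt N6426 F39550) (tt N12400 D22635) (tt N6433 F39551))
theorem Q8121 : ∀ i, i < 8121 → P i := stepQ 8120 Q8120 (allL N8120 (tt N8494 F34393) (tt N12401 D22636) (tt N12400 (iv F44466)) (tt N5168 F34394) (tt N12376 (iv F44371)) (tt N4877 (iv D17424)) (tt N5133 F34395))
theorem Q8122 : ∀ i, i < 8122 → P i := stepQ 8121 Q8121 (allL N8121 (tt N4880 F30545) (tt N12402 D22637) (tt N4878 (iv D17426)) (tt N8132 (iv F32974)) (tt N12403 D22638) (tt N12367 F44345) (tt N12375 (iv F44367)))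
theorem Q8123 : ∀ i, i < 8123 → P i := stepQ 8122 Q8122 (allL N8122 (tt N4881 F30546) (tt N8422 F34992) (tt N12403 (iv F44479)) (tt N12374 (iv F44361)) (tt N4878 (iv D17427)) (tt N12404 D22639) (tt N12373 (iv F44359)))
theorem Q8124 : ∀ i, i < 8124 → P i := stepQ 8123 Q8123 (allL N8123 (tt N4882 F30547) (tt N12405 D22640) (tt N12367 (iv F44343)) (tt N4879 F30548) (tt N12404 (iv F44482)) (tt N4878 (iv D17428)) (tt N8082 (iv F34427)))
theorem Q8125 : ∀ i, i < 8125 → P i := stepQ 8124 Q8124 (allL N8124 (tt N5960 F37444) (tt N4879 (iv D17433)) (tt N5959 (iv F37443)) (tt N12405 (iv F44485)) (tt N8083 (iv F35491)) (tt N12401 (iv F44472)) (tt N12406 D22641))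
theorem Q8126 : ∀ i, i < 8126 → P i := stepQ 8125 Q8125 (allL N8125 (tt N8132 (iv F32973)) (tt N8034 F30558) (tt N8091 (iv F34202)) (tt N4880 (iv D17435)) (tt N12407 D22642) (tt N12360 (iv F44324)) (tt N8086 F35447))
theorem Q8127 : ∀ i, i < 8127 → P i := stepQ 8126 Q8126 (allL N8126 (tt N12403 (iv F44478)) (tt N8035 F30559) (tt N4881 F30560) (tt N12408 D22643) (tt N4880 (iv D17436)) (tt N12409 D22644) (tt N12410 D22645))
theorem Q8128 : ∀ i, i < 8128 → P i := stepQ 8127 Q8127 (allL N8127 (tt N12367 (iv F44342)) (tt N12411 D22646) (tt N4882 F30561) (tt N12360 (iv F44323)) (tt N12409 (iv F44497)) (tt N4880 (iv D17437)) (tt N8092 F35445))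
theorem Q8129 : ∀ i, i < 8129 → P i := stepQ 8128 Q8128 (allL N8128 (tt N12375 (iv F44364)) (tt N5509 (iv F35032)) (tt N4883 F30562) (tt N8086 (iv F35444)) (tt N12410 (iv F44501)) (tt N8084 F35443) (tt N4880 (iv D17438)))
theorem Q8130 : ∀ i, i < 8130 → P i := stepQ 8129 Q8129 (allL N8129 (tt N12374 (iv F44360)) (tt N4885 F30563) (tt N12412 D22647) (tt N4881 (iv D17439)) (tt N4884 F30564) (tt N8090 F35484) (tt N12362 (iv F44331)))
theorem Q8131 : ∀ i, i < 8131 → P i := stepQ 8130 Q8130 (allL N8130 (tt N12404 (iv F44480)) (tt N8348 (iv F35482)) (tt N12409 (iv F44496)) (tt N8090 (iv F35483)) (tt N4882 F30565) (tt N4881 (iv D17440)) (tt N8088 F35481))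
theorem Q8132 : ∀ i, i < 8132 → P i := stepQ 8131 Q8131 (allL N8131 (tt N12373 (iv F44356)) (tt N10620 (iv F40001)) (tt N12410 (iv F44500)) (tt N12362 (iv F44329)) (tt N4883 F30566) (tt N12361 F44327) (tt N4881 (iv D17441)))
theorem Q8133 : ∀ i, i < 8133 → P i := stepQ 8132 Q8132 (allL N8132 (tt N8125 F32973) (tt N10623 (iv F40011)) (tt N4884 (iv D17444)) (tt N8121 F32974) (tt N12412 (iv F44506)) (tt N8087 F35448) (tt N12359 (iv F44320)))
theorem Q8134 : ∀ i, i < 8134 → P i := stepQ 8133 Q8133 (allL N8133 (tt N8140 (iv F35423)) (tt N6457 F39681) (tt N4886 (iv D17531)) (tt N6453 F39682) (tt N4892 F32634) (tt N12413 D22648) (tt N8138 F35422))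
theorem Q8135 : ∀ i, i < 8135 → P i := stepQ 8134 Q8134 (allL N8134 (tt N8141 F35383) (tt N4914 (iv F35385)) (tt N12413 (iv F44509)) (tt N4893 F30741) (tt N4893 F32635) (tt N4886 (iv D17533)) (tt N4887 F35384))
theorem Q8136 : ∀ i, i < 8136 → P i := stepQ 8135 Q8135 (allL N8135 (tt N4887 (iv D17546)) (tt N12414 D22649) (tt N12415 D22650) (tt N4896 F30764) (tt N4896 F32638) (tt N4888 F30765) (tt N8141 (iv F30787)))
theorem Q8137 : ∀ i, i < 8137 → P i := stepQ 8136 Q8136 (allL N8136 (tt N12415 (iv F44515)) (tt N10576 (iv F39857)) (tt N4887 (iv D17547)) (tt N12416 D22651) (tt N4897 F32639) (tt N4889 F30766) (tt N12413 (iv F44512)))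
theorem Q8138 : ∀ i, i < 8138 → P i := stepQ 8137 Q8137 (allL N8137 (tt N12417 D22652) (tt N4888 (iv D17555)) (tt N12418 D22653) (tt N4899 F30778) (tt N4899 F32781) (tt N12419 D22654) (tt N4915 F35403))
theorem Q8139 : ∀ i, i < 8139 → P i := stepQ 8138 Q8138 (allL N8138 (tt N4889 F30779) (tt N12420 D22655) (tt N4888 (iv D17556)) (tt N10357 (iv F39684)) (tt N4900 F32691) (tt N12415 (iv F44517)) (tt N8133 (iv F35422)))
theorem Q8140 : ∀ i, i < 8140 → P i := stepQ 8139 Q8139 (allL N8139 (tt N10357 F39691) (tt N4891 F30783) (tt N10356 (iv F39690)) (tt N4889 (iv D17558)) (tt N12421 D22656) (tt N12416 (iv F44519)) (tt N10355 (iv F39692)))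
theorem Q8141 : ∀ i, i < 8141 → P i := stepQ 8140 Q8140 (allL N8140 (tt N8133 F35423) (tt N12336 (iv F44229)) (tt N4890 F30784) (tt N10355 (iv F39683)) (tt N4902 F32692) (tt N12422 D22657) (tt N4889 (iv D17559)))
theorem Q8142 : ∀ i, i < 8142 → P i := stepQ 8141 Q8141 (allL N8141 (tt N8134 (iv F35383)) (tt N12423 D22658) (tt N12422 (iv F44542)) (tt N4903 F30786) (tt N4903 F32713) (tt N4890 (iv D17560)) (tt N8135 F30787))
theorem Q8143 : ∀ i, i < 8143 → P i := stepQ 8142 Q8142 (allL N8142 (tt N10798 (iv F40484)) (tt N12421 (iv F44539)) (tt N10717 (iv F40251)) (tt N4906 F32689) (tt N4891 (iv D17562)) (tt N10584 (iv F39882)) (tt N12339 (iv F44250)))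
theorem Q8144 : ∀ i, i < 8144 → P i := stepQ 8143 Q8143 (allL N8143 (tt N8162 (iv F35424)) (tt N12353 (iv F44297)) (tt N10353 (iv F39686)) (tt N4892 (iv D17567)) (tt N12424 D22659) (tt N12425 D22660) (tt N8159 F35421))
theorem Q8145 : ∀ i, i < 8145 → P i := stepQ 8144 Q8144 (allL N8144 (tt N8164 F35393) (tt N12426 D22661) (tt N4893 F30793) (tt N12425 (iv F44550)) (tt N12413 (iv F44511)) (tt N4892 (iv D17569)) (tt N4897 F35394))
theorem Q8146 : ∀ i, i < 8146 → P i := stepQ 8145 Q8145 (allL N8145 (tt N8176 F34422) (tt N4893 (iv D17574)) (tt N12427 D22662) (tt N4914 F35389) (tt N4914 F35390) (tt N4894 F30798) (tt N4898 (iv F35399)))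
theorem Q8147 : ∀ i, i < 8147 → P i := stepQ 8146 Q8146 (allL N8146 (tt N4894 (iv D17583)) (tt N12428 D22663) (tt N12429 D22664) (tt N4916 F34416) (tt N4916 F34417) (tt N8176 F34418) (tt N4909 F34419))
theorem Q8148 : ∀ i, i < 8148 → P i := stepQ 8147 Q8147 (allL N8147 (tt N12429 (iv F44563)) (tt N10626 (iv F40015)) (tt N4894 (iv D17584)) (tt N12430 D22665) (tt N4917 F34420) (tt N12427 (iv F44558)) (tt N4910 F34421))
theorem Q8149 : ∀ i, i < 8149 → P i := stepQ 8148 Q8148 (allL N8148 (tt N4895 (iv D17586)) (tt N12431 D22666) (tt N12432 D22667) (tt N8180 F35433) (tt N8180 F35431) (tt N12433 D22668) (tt N8155 (iv F35416)))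
theorem Q8150 : ∀ i, i < 8150 → P i := stepQ 8149 Q8149 (allL N8149 (tt N12432 (iv F44571)) (tt N5954 F37441) (tt N4895 (iv D17587)) (tt N5971 F37442) (tt N8181 F35432) (tt N12434 D22669) (tt N8156 (iv F35417)))
theorem Q8151 : ∀ i, i < 8151 → P i := stepQ 8150 Q8150 (allL N8150 (tt N12433 (iv F44573)) (tt N4909 F35410) (tt N12434 (iv F44578)) (tt N4918 F35411) (tt N4918 F35412) (tt N4895 (iv D17588)) (tt N12435 D22670))
theorem Q8152 : ∀ i, i < 8152 → P i := stepQ 8151 Q8151 (allL N8151 (tt N12436 D22671) (tt N4896 (iv D17601)) (tt N12437 D22672) (tt N12414 (iv F44513)) (tt N12414 (iv F44514)) (tt N12438 D22673) (tt N12439 D22674))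
theorem Q8153 : ∀ i, i < 8153 → P i := stepQ 8152 Q8152 (allL N8152 (tt N4897 F30828) (tt N12440 D22675) (tt N4896 (iv D17602)) (tt N12441 D22676) (tt N12415 (iv F44516)) (tt N4900 F30829) (tt N8164 (iv F30865)))
theorem Q8154 : ∀ i, i < 8154 → P i := stepQ 8153 Q8153 (allL N8153 (tt N12441 (iv F44595)) (tt N10582 (iv F39874)) (tt N12442 D22677) (tt N4897 (iv D17603)) (tt N12443 D22678) (tt N4901 F30830) (tt N12425 (iv F44551)))
theorem Q8155 : ∀ i, i < 8155 → P i := stepQ 8154 Q8154 (allL N8154 (tt N8175 (iv F35426)) (tt N6426 F39825) (tt N4898 (iv D17607)) (tt N6422 F39826) (tt N4913 F34400) (tt N8173 F35425) (tt N12427 (iv F44559)))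
theorem Q8156 : ∀ i, i < 8156 → P i := stepQ 8155 Q8155 (allL N8155 (tt N4899 (iv D17625)) (tt N12417 (iv F44522)) (tt N12444 D22679) (tt N12417 (iv F44523)) (tt N12417 (iv F44524)) (tt N12435 (iv F44586)) (tt N8148 F35416))
theorem Q8157 : ∀ i, i < 8157 → P i := stepQ 8156 Q8156 (allL N8156 (tt N12444 (iv F44600)) (tt N12445 D22680) (tt N4899 (iv D17626)) (tt N9683 (iv F37489)) (tt N12418 (iv F44527)) (tt N12446 D22681) (tt N8149 F35417))
theorem Q8158 : ∀ i, i < 8158 → P i := stepQ 8157 Q8157 (allL N8157 (tt N12435 (iv F44582)) (tt N12438 (iv F44590)) (tt N12446 (iv F44607)) (tt N12419 (iv F44533)) (tt N12419 (iv F44534)) (tt N4899 (iv D17627)) (tt N12433 (iv F44576)))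
theorem Q8159 : ∀ i, i < 8159 → P i := stepQ 8158 Q8158 (allL N8158 (tt N12447 D22682) (tt N4900 (iv D17629)) (tt N12445 (iv F44605)) (tt N12448 D22683) (tt N12420 (iv F44537)) (tt N12449 D22684) (tt N12450 D22685))
theorem Q8160 : ∀ i, i < 8160 → P i := stepQ 8159 Q8159 (allL N8159 (tt N4901 F30856) (tt N12448 (iv F44612)) (tt N12451 D22686) (tt N4900 (iv D17630)) (tt N12452 D22687) (tt N12441 (iv F44596)) (tt N8143 (iv F35421)))
theorem Q8161 : ∀ i, i < 8161 → P i := stepQ 8160 Q8160 (allL N8160 (tt N12451 (iv F44614)) (tt N10412 F39687) (tt N4901 (iv D17633)) (tt N6454 F39688) (tt N12453 D22688) (tt N12442 (iv F44597)) (tt N6451 F39689))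
theorem Q8162 : ∀ i, i < 8162 → P i := stepQ 8161 Q8161 (allL N8161 (tt N12452 (iv F44617)) (tt N4906 F30860) (tt N12453 (iv F44619)) (tt N12421 (iv F44540)) (tt N4901 (iv D17634)) (tt N12443 (iv F44599)) (tt N12454 D22689))
theorem Q8163 : ∀ i, i < 8163 → P i := stepQ 8162 Q8162 (allL N8162 (tt N8143 F35424) (tt N12455 D22690) (tt N6451 F39685) (tt N4902 F30861) (tt N12454 (iv F44623)) (tt N12456 D22691) (tt N4901 (iv D17635)))
theorem Q8164 : ∀ i, i < 8164 → P i := stepQ 8163 Q8163 (allL N8163 (tt N4908 F35414) (tt N4902 (iv D17636)) (tt N12336 (iv F44230)) (tt N12455 (iv F44625)) (tt N12336 (iv F44231)) (tt N12457 D22692) (tt N4908 F30862))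
theorem Q8165 : ∀ i, i < 8165 → P i := stepQ 8164 Q8164 (allL N8164 (tt N8144 (iv F35393)) (tt N9216 F39861) (tt N4903 F30864) (tt N12456 (iv F44632)) (tt N12422 (iv F44543)) (tt N4902 (iv D17637)) (tt N8152 F30865))
theorem Q8166 : ∀ i, i < 8166 → P i := stepQ 8165 Q8165 (allL N8165 (tt N12458 D22693) (tt N4903 (iv D17638)) (tt N9305 (iv F39862)) (tt N12423 (iv F44545)) (tt N12423 (iv F44546)) (tt N12423 (iv F44547)) (tt N12459 D22694))
theorem Q8167 : ∀ i, i < 8167 → P i := stepQ 8166 Q8166 (allL N8166 (tt N12460 D22695) (tt N4904 (iv D17646)) (tt N4905 F30879) (tt N6066 F33039) (tt N5203 F33029) (tt N12461 D22696) (tt N6019 (iv F33040)))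
theorem Q8168 : ∀ i, i < 8168 → P i := stepQ 8167 Q8167 (allL N8167 (tt N4905 (iv D17648)) (tt N12462 D22697) (tt N12460 (iv F44645)) (tt N10795 (iv F40476)) (tt N9912 (iv F37971)) (tt N12463 D22698) (tt N9211 (iv F36229)))
theorem Q8169 : ∀ i, i < 8169 → P i := stepQ 8168 Q8168 (allL N8168 (tt N12463 (iv F44656)) (tt N10587 (iv F39888)) (tt N12461 (iv F44651)) (tt N9127 (iv F35961)) (tt N6147 F35208) (tt N4905 (iv D17649)) (tt N5631 (iv F35209)))
theorem Q8170 : ∀ i, i < 8170 → P i := stepQ 8169 Q8169 (allL N8169 (tt N9211 (iv F36225)) (tt N6776 F30880) (tt N6019 F33041) (tt N10797 (iv F40482)) (tt N9907 (iv F37958)) (tt N9210 (iv F36224)) (tt N4905 (iv D17650)))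
theorem Q8171 : ∀ i, i < 8171 → P i := stepQ 8170 Q8170 (allL N8170 (tt N6773 F30881) (tt N12464 D22699) (tt N8200 (iv F31111)) (tt N12339 (iv F44248)) (tt N4907 F30882) (tt N6770 (iv F30883)) (tt N4906 (iv D17651)))
theorem Q8172 : ∀ i, i < 8172 → P i := stepQ 8171 Q8171 (allL N8171 (tt N12455 F44628) (tt N4907 (iv D17652)) (tt N11886 (iv F43052)) (tt N4908 F30884) (tt N12464 (iv F44660)) (tt N11885 F43050) (tt N12455 (iv F44626)))
theorem Q8173 : ∀ i, i < 8173 → P i := stepQ 8172 Q8172 (allL N8172 (tt N12457 (iv F44634)) (tt N6768 F30885) (tt N12338 (iv F44242)) (tt N11885 F43049) (tt N12338 (iv F44244)) (tt N4908 (iv D17654)) (tt N8172 F35418))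
theorem Q8174 : ∀ i, i < 8174 → P i := stepQ 8173 Q8173 (allL N8173 (tt N4910 F31014) (tt N12465 D22700) (tt N4909 (iv D17732)) (tt N10320 (iv F39828)) (tt N4919 F32850) (tt N8154 (iv F35425)) (tt N12429 (iv F44565)))
theorem Q8175 : ∀ i, i < 8175 → P i := stepQ 8174 Q8174 (allL N8174 (tt N10320 F39835) (tt N4912 F31018) (tt N10319 (iv F39834)) (tt N4910 (iv D17734)) (tt N12466 D22701) (tt N10318 (iv F39836)) (tt N12430 (iv F44568)))
theorem Q8176 : ∀ i, i < 8176 → P i := stepQ 8175 Q8175 (allL N8175 (tt N8154 F35426) (tt N12382 (iv F44394)) (tt N4911 F31019) (tt N10318 (iv F39827)) (tt N4921 F32851) (tt N4910 (iv D17735)) (tt N12467 D22702))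
theorem Q8177 : ∀ i, i < 8177 → P i := stepQ 8176 Q8176 (allL N8176 (tt N8145 (iv F34422)) (tt N12468 D22703) (tt N12467 (iv F44667)) (tt N4922 F31021) (tt N4922 F32935) (tt N8146 (iv F34418)) (tt N4911 (iv D17736)))
theorem Q8178 : ∀ i, i < 8178 → P i := stepQ 8177 Q8177 (allL N8177 (tt N10717 (iv F40248)) (tt N12466 (iv F44664)) (tt N10798 (iv F40485)) (tt N4925 F32795) (tt N4912 (iv D17738)) (tt N12385 (iv F44414)) (tt N10633 (iv F40036)))
theorem Q8179 : ∀ i, i < 8179 → P i := stepQ 8178 Q8178 (allL N8178 (tt N8192 (iv F35428)) (tt N12399 (iv F44463)) (tt N10316 (iv F39830)) (tt N4913 (iv D17743)) (tt N12469 D22704) (tt N8189 F35427) (tt N12470 D22705))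
theorem Q8180 : ∀ i, i < 8180 → P i := stepQ 8179 Q8179 (allL N8179 (tt N8194 F35387) (tt N12471 D22706) (tt N4914 F31029) (tt N12470 (iv F44676)) (tt N12427 (iv F44557)) (tt N4917 F35388) (tt N4913 (iv D17746)))
theorem Q8181 : ∀ i, i < 8181 → P i := stepQ 8180 Q8180 (allL N8180 (tt N4915 (iv D17759)) (tt N12472 D22707) (tt N12473 D22708) (tt N8148 (iv F35433)) (tt N8148 (iv F35431)) (tt N8185 (iv F35419)) (tt N12417 (iv F44525)))
theorem Q8182 : ∀ i, i < 8182 → P i := stepQ 8181 Q8181 (allL N8181 (tt N12473 (iv F44687)) (tt N5959 F37445) (tt N4915 (iv D17760)) (tt N5986 (iv F37446)) (tt N8149 (iv F35432)) (tt N8186 (iv F35420)) (tt N12418 (iv F44528)))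
theorem Q8183 : ∀ i, i < 8183 → P i := stepQ 8182 Q8182 (allL N8182 (tt N12459 F44642) (tt N4916 (iv D17780)) (tt N12474 D22709) (tt N12428 (iv F44561)) (tt N12428 (iv F44562)) (tt N12475 D22710) (tt N12458 (iv F44643)))
theorem Q8184 : ∀ i, i < 8184 → P i := stepQ 8183 Q8183 (allL N8183 (tt N4917 F31066) (tt N12476 D22711) (tt N4916 (iv D17781)) (tt N12477 D22712) (tt N12429 (iv F44564)) (tt N8194 (iv F31100)) (tt N4919 F31067))
theorem Q8185 : ∀ i, i < 8185 → P i := stepQ 8184 Q8184 (allL N8184 (tt N12477 (iv F44698)) (tt N10631 (iv F40027)) (tt N12478 D22713) (tt N4917 (iv D17782)) (tt N12479 D22714) (tt N12470 (iv F44677)) (tt N4920 F31068))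
theorem Q8186 : ∀ i, i < 8186 → P i := stepQ 8185 Q8185 (allL N8185 (tt N4918 (iv D17801)) (tt N12433 (iv F44577)) (tt N12480 D22715) (tt N12433 (iv F44574)) (tt N12433 (iv F44575)) (tt N8180 F35419) (tt N12419 (iv F44535)))
theorem Q8187 : ∀ i, i < 8187 → P i := stepQ 8186 Q8186 (allL N8186 (tt N12480 (iv F44703)) (tt N12481 D22716) (tt N4918 (iv D17802)) (tt N9705 (iv F37523)) (tt N12434 (iv F44580)) (tt N8181 F35420) (tt N12482 D22717))
theorem Q8188 : ∀ i, i < 8188 → P i := stepQ 8187 Q8187 (allL N8187 (tt N12419 (iv F44531)) (tt N12458 F44644) (tt N12482 (iv F44710)) (tt N12435 (iv F44584)) (tt N12435 (iv F44585)) (tt N12417 (iv F44526)) (tt N4918 (iv D17804)))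
theorem Q8189 : ∀ i, i < 8189 → P i := stepQ 8188 Q8188 (allL N8188 (tt N12483 D22718) (tt N4919 (iv D17805)) (tt N12481 (iv F44708)) (tt N12484 D22719) (tt N12465 (iv F44662)) (tt N12485 D22720) (tt N12486 D22721))
theorem Q8190 : ∀ i, i < 8190 → P i := stepQ 8189 Q8189 (allL N8189 (tt N4920 F31091) (tt N12484 (iv F44715)) (tt N12487 D22722) (tt N4919 (iv D17806)) (tt N12488 D22723) (tt N8178 (iv F35427)) (tt N12477 (iv F44699)))
theorem Q8191 : ∀ i, i < 8191 → P i := stepQ 8190 Q8190 (allL N8190 (tt N12487 (iv F44717)) (tt N10378 F39831) (tt N4920 (iv D17809)) (tt N6423 F39832) (tt N12489 D22724) (tt N6420 F39833) (tt N12478 (iv F44700)))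
theorem Q8192 : ∀ i, i < 8192 → P i := stepQ 8191 Q8191 (allL N8191 (tt N12488 (iv F44720)) (tt N4925 F31095) (tt N12489 (iv F44722)) (tt N12466 (iv F44665)) (tt N4920 (iv D17810)) (tt N12490 D22725) (tt N12479 (iv F44702)))
theorem Q8193 : ∀ i, i < 8193 → P i := stepQ 8192 Q8192 (allL N8192 (tt N8178 F35428) (tt N12491 D22726) (tt N6420 F39829) (tt N4921 F31096) (tt N12490 (iv F44726)) (tt N4920 (iv D17811)) (tt N12492 D22727))
theorem Q8194 : ∀ i, i < 8194 → P i := stepQ 8193 Q8193 (allL N8193 (tt N4927 F33013) (tt N4921 (iv D17812)) (tt N12382 (iv F44395)) (tt N12491 (iv F44728)) (tt N12382 (iv F44396)) (tt N4927 F31097) (tt N12493 D22728))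
theorem Q8195 : ∀ i, i < 8195 → P i := stepQ 8194 Q8194 (allL N8194 (tt N8179 (iv F35387)) (tt N9251 (iv F36342)) (tt N4922 F31099) (tt N12492 (iv F44735)) (tt N12467 (iv F44668)) (tt N8183 F31100) (tt N4921 (iv D17813)))
theorem Q8196 : ∀ i, i < 8196 → P i := stepQ 8195 Q8195 (allL N8195 (tt N12438 (iv F44589)) (tt N4922 (iv D17814)) (tt N9346 (iv F36589)) (tt N12468 (iv F44670)) (tt N12468 (iv F44671)) (tt N12436 (iv F44587)) (tt N12468 (iv F44673)))
theorem Q8197 : ∀ i, i < 8197 → P i := stepQ 8196 Q8196 (allL N8196 (tt N12494 D22729) (tt N4923 (iv D17820)) (tt N4924 F31108) (tt N6104 F35360) (tt N5211 (iv F33017)) (tt N6035 (iv F35361)) (tt N12495 D22730))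
theorem Q8198 : ∀ i, i < 8198 → P i := stepQ 8197 Q8197 (allL N8197 (tt N4924 (iv D17822)) (tt N12496 D22731) (tt N12494 (iv F44743)) (tt N10714 (iv F40241)) (tt N9929 (iv F38018)) (tt N9247 F36331) (tt N12497 D22732))
theorem Q8199 : ∀ i, i < 8199 → P i := stepQ 8198 Q8198 (allL N8198 (tt N9247 (iv F36327)) (tt N6850 F31109) (tt N6035 F35362) (tt N10716 (iv F40246)) (tt N9924 (iv F38005)) (tt N4924 (iv D17823)) (tt N9246 F36326))
theorem Q8200 : ∀ i, i < 8200 → P i := stepQ 8199 Q8199 (allL N8199 (tt N12497 (iv F44755)) (tt N10636 (iv F40040)) (tt N12495 (iv F44750)) (tt N9181 (iv F36106)) (tt N6159 (iv F35212)) (tt N5664 F35213) (tt N4924 (iv D17824)))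
theorem Q8201 : ∀ i, i < 8201 → P i := stepQ 8200 Q8200 (allL N8200 (tt N6847 F31110) (tt N12498 D22733) (tt N8170 F31111) (tt N12385 (iv F44413)) (tt N4926 F31112) (tt N4925 (iv D17825)) (tt N6844 F31113))
theorem Q8202 : ∀ i, i < 8202 → P i := stepQ 8201 Q8201 (allL N8201 (tt N12491 F44730) (tt N4926 (iv D17826)) (tt N12095 (iv F43597)) (tt N4927 F31114) (tt N12498 (iv F44759)) (tt N12491 (iv F44729)) (tt N12094 F43594))
theorem Q8203 : ∀ i, i < 8203 → P i := stepQ 8202 Q8202 (allL N8202 (tt N12493 (iv F44737)) (tt N6843 F31115) (tt N12384 (iv F44407)) (tt N12094 F43593) (tt N12384 (iv F44409)) (tt N8202 F33014) (tt N4927 (iv D17828)))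
theorem Q8204 : ∀ i, i < 8204 → P i := stepQ 8203 Q8203 (allL N8203 (tt N11884 F43045) (tt N4930 (iv D18155)) (tt N12499 D22734) (tt N9354 (iv F36613)) (tt N4938 F31736) (tt N12500 D22735) (tt N8203 F31737))
theorem Q8205 : ∀ i, i < 8205 → P i := stepQ 8204 Q8204 (allL N8204 (tt N12093 (iv F43587)) (tt N4931 (iv D18156)) (tt N12501 D22736) (tt N9355 (iv F36616)) (tt N4939 F31738) (tt N8204 F31739) (tt N12502 D22737))
theorem Q8206 : ∀ i, i < 8206 → P i := stepQ 8205 Q8205 (allL N8205 (tt N8206 (iv F31755)) (tt N6860 F33055) (tt N4936 F31750) (tt N5091 F31751) (tt N9358 (iv F36626)) (tt N5084 F31752) (tt N4934 (iv D18163)))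
theorem Q8207 : ∀ i, i < 8207 → P i := stepQ 8206 Q8206 (allL N8206 (tt N8205 F31755) (tt N6880 F35500) (tt N4937 F31756) (tt N5089 F31757) (tt N9359 (iv F36630)) (tt N4935 (iv D18165)) (tt N5083 F31758))
theorem Q8208 : ∀ i, i < 8208 → P i := stepQ 8207 Q8207 (allL N8207 (tt N11885 (iv F43046)) (tt N4982 F31765) (tt N4938 (iv D18169)) (tt N12457 (iv F44637)) (tt N12499 (iv F44761)) (tt N12455 F44627) (tt N8207 F31766))
theorem Q8209 : ∀ i, i < 8209 → P i := stepQ 8208 Q8208 (allL N8208 (tt N11886 (iv F43051)) (tt N6449 (iv F34441)) (tt N12455 (iv F44624)) (tt N7841 F35136) (tt N12500 (iv F44765)) (tt N4938 (iv D18170)) (tt N11886 (iv F43054)))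
theorem Q8210 : ∀ i, i < 8210 → P i := stepQ 8209 Q8209 (allL N8209 (tt N12094 (iv F43590)) (tt N4987 F31769) (tt N4939 (iv D18172)) (tt N12493 (iv F44740)) (tt N12501 (iv F44767)) (tt N8209 F31770) (tt N12491 F44731))
theorem Q8211 : ∀ i, i < 8211 → P i := stepQ 8210 Q8210 (allL N8210 (tt N12095 (iv F43595)) (tt N6418 F31771) (tt N12491 (iv F44727)) (tt N7677 F31772) (tt N12502 (iv F44771)) (tt N12095 (iv F43599)) (tt N4939 (iv D18173)))
theorem Q8212 : ∀ i, i < 8212 → P i := stepQ 8211 Q8211 (allL N8211 (tt N4942 F31773) (tt N5214 F31774) (tt N6172 F31776) (tt N4940 (iv D18174)) (tt N5214 F31775) (tt N12503 D22738) (tt N12504 D22739))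
theorem Q8213 : ∀ i, i < 8213 → P i := stepQ 8212 Q8212 (allL N8212 (tt N4943 F31777) (tt N10548 (iv F39453)) (tt N5029 F31778) (tt N12503 (iv F44774)) (tt N4971 F31779) (tt N4940 (iv D18175)) (tt N8217 (iv F31799)))
theorem Q8214 : ∀ i, i < 8214 → P i := stepQ 8213 Q8213 (allL N8213 (tt N4944 F31780) (tt N10603 (iv F39944)) (tt N5030 F31781) (tt N12504 (iv F44778)) (tt N4972 F31782) (tt N8216 (iv F31794)) (tt N4940 (iv D18176)))
theorem Q8215 : ∀ i, i < 8215 → P i := stepQ 8214 Q8214 (allL N8214 (tt N12503 (iv F44772)) (tt N9781 (iv F37712)) (tt N6173 F31787) (tt N4943 F31788) (tt N5217 F31789) (tt N4942 (iv D18178)) (tt N12505 D22740))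
theorem Q8216 : ∀ i, i < 8216 → P i := stepQ 8215 Q8215 (allL N8215 (tt N12504 (iv F44776)) (tt N9834 (iv F37808)) (tt N6174 F31790) (tt N4944 F31791) (tt N5218 F31792) (tt N12506 D22741) (tt N4942 (iv D18179)))
theorem Q8217 : ∀ i, i < 8217 → P i := stepQ 8216 Q8216 (allL N8216 (tt N8217 (iv F31797)) (tt N12507 D22742) (tt N8349 (iv F32185)) (tt N12505 (iv F44781)) (tt N4973 F31793) (tt N8213 F31794) (tt N4943 (iv D18180)))
theorem Q8218 : ∀ i, i < 8218 → P i := stepQ 8217 Q8217 (allL N8217 (tt N8216 F31797) (tt N12508 D22743) (tt N8348 (iv F32179)) (tt N12506 (iv F44786)) (tt N4974 F31798) (tt N4944 (iv D18182)) (tt N8212 F31799))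
theorem Q8219 : ∀ i, i < 8219 → P i := stepQ 8218 Q8218 (allL N8218 (tt N12509 D22744) (tt N4945 (iv D18183)) (tt N12510 D22745) (tt N4947 F31800) (tt N5223 F31801) (tt N9781 (iv F37714)) (tt N12511 D22746))
theorem Q8220 : ∀ i, i < 8220 → P i := stepQ 8219 Q8219 (allL N8219 (tt N12512 D22747) (tt N4946 (iv D18184)) (tt N12513 D22748) (tt N4948 F31802) (tt N5224 F31803) (tt N12514 D22749) (tt N9834 (iv F37810)))
theorem Q8221 : ∀ i, i < 8221 → P i := stepQ 8220 Q8220 (allL N8220 (tt N4947 (iv D18185)) (tt N12515 D22750) (tt N9671 (iv F37474)) (tt N12509 (iv F44791)) (tt N4975 F31804) (tt N9773 (iv F37701)) (tt N12516 D22751))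
theorem Q8222 : ∀ i, i < 8222 → P i := stepQ 8221 Q8221 (allL N8221 (tt N12516 (iv F44804)) (tt N8241 (iv F31850)) (tt N9672 (iv F37476)) (tt N12511 (iv F44795)) (tt N4976 F31805) (tt N12517 D22752) (tt N4947 (iv D18186)))
theorem Q8223 : ∀ i, i < 8223 → P i := stepQ 8222 Q8222 (allL N8222 (tt N4948 (iv D18187)) (tt N12518 D22753) (tt N9693 (iv F37507)) (tt N12512 (iv F44797)) (tt N4977 F31806) (tt N12519 D22754) (tt N9827 (iv F37800)))
theorem Q8224 : ∀ i, i < 8224 → P i := stepQ 8223 Q8223 (allL N8223 (tt N12519 (iv F44814)) (tt N8237 (iv F31843)) (tt N9694 (iv F37509)) (tt N12514 (iv F44801)) (tt N4978 F31808) (tt N4948 (iv D18189)) (tt N12520 D22755))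
theorem Q8225 : ∀ i, i < 8225 → P i := stepQ 8224 Q8224 (allL N8224 (tt N8622 (iv F33532)) (tt N4949 (iv D18190)) (tt N8621 (iv F33531)) (tt N6162 F31809) (tt N5231 F31810) (tt N5231 F31811) (tt N12521 D22756))
theorem Q8226 : ∀ i, i < 8226 → P i := stepQ 8225 Q8225 (allL N8225 (tt N8625 (iv F33543)) (tt N4950 (iv D18191)) (tt N8624 (iv F33542)) (tt N6163 F31812) (tt N5232 F31813) (tt N12522 D22757) (tt N5232 F31814))
theorem Q8227 : ∀ i, i < 8227 → P i := stepQ 8226 Q8226 (allL N8226 (tt N4951 (iv D18192)) (tt N11294 (iv F41661)) (tt N6251 (iv F31818)) (tt N4955 F31815) (tt N5233 F31816) (tt N4961 F31817) (tt N8244 (iv F31864)))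
theorem Q8228 : ∀ i, i < 8228 → P i := stepQ 8227 Q8227 (allL N8227 (tt N6251 F31819) (tt N8621 F33530) (tt N4951 (iv D18193)) (tt N6275 F31822) (tt N5234 F31820) (tt N4962 F31821) (tt N10085 (iv F38413)))
theorem Q8229 : ∀ i, i < 8229 → P i := stepQ 8228 Q8228 (allL N8228 (tt N8244 (iv F31861)) (tt N12523 D22758) (tt N10085 (iv F38410)) (tt N4956 F31823) (tt N5235 F31824) (tt N8242 (iv F31856)) (tt N4951 (iv D18194)))
theorem Q8230 : ∀ i, i < 8230 → P i := stepQ 8229 Q8229 (allL N8229 (tt N12524 D22759) (tt N4952 (iv D18195)) (tt N12525 D22760) (tt N4957 F31825) (tt N5236 F31826) (tt N12526 D22761) (tt N12523 (iv F44833)))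
theorem Q8231 : ∀ i, i < 8231 → P i := stepQ 8230 Q8230 (allL N8230 (tt N4953 (iv D18196)) (tt N11454 (iv F42006)) (tt N6264 (iv F31830)) (tt N4958 F31827) (tt N5237 F31828) (tt N8247 (iv F31880)) (tt N4964 F31829))
theorem Q8232 : ∀ i, i < 8232 → P i := stepQ 8231 Q8231 (allL N8231 (tt N6264 F31831) (tt N8624 F33541) (tt N4953 (iv D18197)) (tt N6303 F31834) (tt N5238 F31832) (tt N10103 (iv F38453)) (tt N4965 F31833))
theorem Q8233 : ∀ i, i < 8233 → P i := stepQ 8232 Q8232 (allL N8232 (tt N8247 (iv F31877)) (tt N12527 D22762) (tt N10103 (iv F38450)) (tt N4959 F31835) (tt N5239 F31836) (tt N4953 (iv D18198)) (tt N8245 (iv F31872)))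
theorem Q8234 : ∀ i, i < 8234 → P i := stepQ 8233 Q8233 (allL N8233 (tt N12528 D22763) (tt N4954 (iv D18199)) (tt N12529 D22764) (tt N4960 F31837) (tt N5240 F31838) (tt N12527 (iv F44842)) (tt N12530 D22765))
theorem Q8235 : ∀ i, i < 8235 → P i := stepQ 8234 Q8234 (allL N8234 (tt N12531 D22766) (tt N4956 (iv D18200)) (tt N12532 D22767) (tt N12523 (iv F44831)) (tt N4980 F31839) (tt N12533 D22768) (tt N4957 F31840))
theorem Q8236 : ∀ i, i < 8236 → P i := stepQ 8235 Q8235 (allL N8235 (tt N4957 (iv D18201)) (tt N12534 D22769) (tt N12535 D22770) (tt N12524 (iv F44834)) (tt N4981 F31841) (tt N12536 D22771) (tt N12531 (iv F44850)))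
theorem Q8237 : ∀ i, i < 8237 → P i := stepQ 8236 Q8236 (allL N8236 (tt N12535 (iv F44859)) (tt N12499 (iv F44760)) (tt N4957 (iv D18202)) (tt N12537 D22772) (tt N4982 F31842) (tt N12538 D22773) (tt N12532 (iv F44853)))
theorem Q8238 : ∀ i, i < 8238 → P i := stepQ 8237 Q8237 (allL N8237 (tt N12536 (iv F44861)) (tt N8223 F31843) (tt N12538 (iv F44868)) (tt N12526 (iv F44838)) (tt N4983 F31844) (tt N4957 (iv D18203)) (tt N12539 D22774))
theorem Q8239 : ∀ i, i < 8239 → P i := stepQ 8238 Q8238 (allL N8238 (tt N12540 D22775) (tt N4959 (iv D18205)) (tt N12541 D22776) (tt N12527 (iv F44840)) (tt N4985 F31846) (tt N4960 F31847) (tt N12542 D22777))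
theorem Q8240 : ∀ i, i < 8240 → P i := stepQ 8239 Q8239 (allL N8239 (tt N4960 (iv D18206)) (tt N12543 D22778) (tt N12544 D22779) (tt N12528 (iv F44843)) (tt N4986 F31848) (tt N12540 (iv F44874)) (tt N12545 D22780))
theorem Q8241 : ∀ i, i < 8241 → P i := stepQ 8240 Q8240 (allL N8240 (tt N12544 (iv F44883)) (tt N12501 (iv F44766)) (tt N4960 (iv D18207)) (tt N12546 D22781) (tt N4987 F31849) (tt N12541 (iv F44877)) (tt N12547 D22782))
theorem Q8242 : ∀ i, i < 8242 → P i := stepQ 8241 Q8241 (allL N8241 (tt N12545 (iv F44885)) (tt N8221 F31850) (tt N12547 (iv F44892)) (tt N12530 (iv F44847)) (tt N4988 F31851) (tt N12548 D22783) (tt N4960 (iv D18208)))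
theorem Q8243 : ∀ i, i < 8243 → P i := stepQ 8242 Q8242 (allL N8242 (tt N4963 F31852) (tt N12549 D22784) (tt N6252 F31853) (tt N4967 F31854) (tt N5258 F31855) (tt N8228 F31856) (tt N4961 (iv D18209)))
theorem Q8244 : ∀ i, i < 8244 → P i := stepQ 8243 Q8243 (allL N8243 (tt N6252 F31857) (tt N12550 D22785) (tt N4963 F31858) (tt N6276 F31859) (tt N5259 F31860) (tt N10083 (iv F38403)) (tt N4962 (iv D18210)))
theorem Q8245 : ∀ i, i < 8245 → P i := stepQ 8244 Q8244 (allL N8244 (tt N8228 F31861) (tt N12551 D22786) (tt N10083 (iv F38400)) (tt N4968 F31862) (tt N5261 F31863) (tt N4963 (iv D18211)) (tt N8226 F31864))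
theorem Q8246 : ∀ i, i < 8246 → P i := stepQ 8245 Q8245 (allL N8245 (tt N4966 F31868) (tt N12552 D22787) (tt N6263 F31869) (tt N4969 F31870) (tt N5266 F31871) (tt N4964 (iv D18213)) (tt N8232 F31872))
theorem Q8247 : ∀ i, i < 8247 → P i := stepQ 8246 Q8246 (allL N8246 (tt N6263 F31873) (tt N12553 D22788) (tt N4966 F31874) (tt N6302 F31875) (tt N5267 F31876) (tt N4965 (iv D18214)) (tt N10104 (iv F38458)))
theorem Q8248 : ∀ i, i < 8248 → P i := stepQ 8247 Q8247 (allL N8247 (tt N8232 F31877) (tt N12554 D22789) (tt N10104 (iv F38455)) (tt N4970 F31878) (tt N5269 F31879) (tt N8230 F31880) (tt N4966 (iv D18215)))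
theorem Q8249 : ∀ i, i < 8249 → P i := stepQ 8248 Q8248 (allL N8248 (tt N12555 D22790) (tt N4967 (iv D18216)) (tt N12556 D22791) (tt N12549 (iv F44897)) (tt N4991 F31881) (tt N12557 D22792) (tt N11033 (iv F41111)))
theorem Q8250 : ∀ i, i < 8250 → P i := stepQ 8249 Q8249 (allL N8249 (tt N12558 D22793) (tt N4968 (iv D18217)) (tt N12559 D22794) (tt N12551 (iv F44905)) (tt N4992 F31882) (tt N8782 (iv F33844)) (tt N12560 D22795))
theorem Q8251 : ∀ i, i < 8251 → P i := stepQ 8250 Q8250 (allL N8250 (tt N12561 D22796) (tt N4969 (iv D18222)) (tt N12562 D22797) (tt N12552 (iv F44907)) (tt N4995 F31889) (tt N11071 (iv F41195)) (tt N12563 D22798))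
theorem Q8252 : ∀ i, i < 8252 → P i := stepQ 8251 Q8251 (allL N8251 (tt N12564 D22799) (tt N4970 (iv D18223)) (tt N12565 D22800) (tt N12554 (iv F44915)) (tt N4996 F31890) (tt N12566 D22801) (tt N8737 (iv F33761)))
theorem Q8253 : ∀ i, i < 8253 → P i := stepQ 8252 Q8252 (allL N8252 (tt N8993 (iv F35674)) (tt N4973 (iv D18226)) (tt N12371 (iv F44352)) (tt N5382 F31893) (tt N12507 (iv F44789)) (tt N8991 F35673) (tt N9783 (iv F37720)))
theorem Q8254 : ∀ i, i < 8254 → P i := stepQ 8253 Q8253 (allL N8253 (tt N9058 (iv F35823)) (tt N4974 (iv D18230)) (tt N12411 (iv F44503)) (tt N5386 F31898) (tt N12508 (iv F44790)) (tt N9836 (iv F37815)) (tt N9055 F35820))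
theorem Q8255 : ∀ i, i < 8255 → P i := stepQ 8254 Q8254 (allL N8254 (tt N8902 (iv F34145)) (tt N4975 (iv D18231)) (tt N10293 (iv F38862)) (tt N5387 F31899) (tt N12515 (iv F44803)) (tt N8900 F34142) (tt N12567 D22802))
theorem Q8256 : ∀ i, i < 8256 → P i := stepQ 8255 Q8255 (allL N8255 (tt N4976 F31900) (tt N9007 (iv F35713)) (tt N6057 F31901) (tt N5389 F31902) (tt N12516 (iv F44806)) (tt N6055 F31903) (tt N4975 (iv D18232)))
theorem Q8257 : ∀ i, i < 8257 → P i := stepQ 8256 Q8256 (allL N8256 (tt N6055 F31904) (tt N5501 F35728) (tt N6049 F31905) (tt N5391 F31906) (tt N12517 (iv F44810)) (tt N4976 (iv D18233)) (tt N6047 F31907))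
theorem Q8258 : ∀ i, i < 8258 → P i := stepQ 8257 Q8257 (allL N8257 (tt N8910 F34671) (tt N4977 (iv D18234)) (tt N10295 (iv F38867)) (tt N5392 F31908) (tt N12518 (iv F44813)) (tt N12568 D22803) (tt N8907 (iv F34666)))
theorem Q8259 : ∀ i, i < 8259 → P i := stepQ 8258 Q8258 (allL N8258 (tt N4978 F31910) (tt N9069 F35852) (tt N6095 (iv F35372)) (tt N5394 F31911) (tt N12519 (iv F44816)) (tt N4977 (iv D18236)) (tt N6093 (iv F34384)))
theorem Q8260 : ∀ i, i < 8260 → P i := stepQ 8259 Q8259 (allL N8259 (tt N6093 (iv F34382)) (tt N5460 F35690) (tt N6087 F35376) (tt N5396 F31915) (tt N12520 (iv F44820)) (tt N6085 (iv F34377)) (tt N4978 (iv D18239)))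
theorem Q8261 : ∀ i, i < 8261 → P i := stepQ 8260 Q8260 (allL N8260 (tt N4979 (iv D18240)) (tt N8902 (iv F34146)) (tt N11563 (iv F42243)) (tt N5397 F31917) (tt N11290 (iv F41652)) (tt N8888 F34088) (tt N9028 (iv F35773)))
theorem Q8262 : ∀ i, i < 8262 → P i := stepQ 8261 Q8261 (allL N8261 (tt N9028 (iv F35771)) (tt N8290 (iv F31975)) (tt N11564 (iv F42248)) (tt N5400 F31918) (tt N11297 (iv F41671)) (tt N12569 D22804) (tt N4979 (iv D18241)))
theorem Q8263 : ∀ i, i < 8263 → P i := stepQ 8262 Q8262 (allL N8262 (tt N4980 (iv D18242)) (tt N12570 D22805) (tt N12571 D22806) (tt N5404 F31919) (tt N12531 (iv F44849)) (tt N8270 (iv F31934)) (tt N4981 F31920))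
theorem Q8264 : ∀ i, i < 8264 → P i := stepQ 8263 Q8263 (allL N8263 (tt N12571 (iv F44966)) (tt N8263 F31921) (tt N4980 (iv D18243)) (tt N5635 F35979) (tt N12532 (iv F44852)) (tt N5633 (iv F35980)) (tt N4982 F31922))
theorem Q8265 : ∀ i, i < 8265 → P i := stepQ 8264 Q8264 (allL N8264 (tt N8270 (iv F31932)) (tt N8287 (iv F31970)) (tt N5633 F35983) (tt N5406 F31923) (tt N12533 (iv F44856)) (tt N4980 (iv D18244)) (tt N8267 (iv F31928)))
theorem Q8266 : ∀ i, i < 8266 → P i := stepQ 8265 Q8265 (allL N8265 (tt N9027 (iv F35767)) (tt N4981 (iv D18245)) (tt N12572 D22807) (tt N5407 F31924) (tt N12534 (iv F44857)) (tt N5491 F31930) (tt N9025 F35762))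
theorem Q8267 : ∀ i, i < 8267 → P i := stepQ 8266 Q8266 (allL N8266 (tt N4982 F31925) (tt N12573 D22808) (tt N4981 (iv D18246)) (tt N9221 (iv F36257)) (tt N12535 (iv F44860)) (tt N9218 F36249) (tt N12571 (iv F44969)))
theorem Q8268 : ∀ i, i < 8268 → P i := stepQ 8267 Q8267 (allL N8267 (tt N4983 F31926) (tt N5425 (iv F31929)) (tt N9218 (iv F36247)) (tt N5409 F31927) (tt N12536 (iv F44863)) (tt N4981 (iv D18247)) (tt N8264 F31928))
theorem Q8269 : ∀ i, i < 8269 → P i := stepQ 8268 Q8268 (allL N8268 (tt N9221 (iv F36255)) (tt N12457 (iv F44635)) (tt N5708 F35982) (tt N4982 (iv D18248)) (tt N12574 D22809) (tt N9216 (iv F36244)) (tt N5635 (iv F35981)))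
theorem Q8270 : ∀ i, i < 8270 → P i := stepQ 8269 Q8269 (allL N8269 (tt N9218 (iv F36246)) (tt N12456 (iv F44630)) (tt N4983 F31931) (tt N9216 (iv F36243)) (tt N12538 (iv F44869)) (tt N4982 (iv D18249)) (tt N9213 F36236))
theorem Q8271 : ∀ i, i < 8271 → P i := stepQ 8270 Q8270 (allL N8270 (tt N8264 F31932) (tt N9001 (iv F35688)) (tt N9213 (iv F36235)) (tt N5412 F31933) (tt N12539 (iv F44871)) (tt N8262 F31934) (tt N4983 (iv D18250)))
theorem Q8272 : ∀ i, i < 8272 → P i := stepQ 8271 Q8271 (allL N8271 (tt N4984 (iv D18251)) (tt N8910 (iv F34670)) (tt N11615 (iv F42362)) (tt N5413 F31935) (tt N11450 (iv F41998)) (tt N8958 F35611) (tt N8894 F34667))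
theorem Q8273 : ∀ i, i < 8273 → P i := stepQ 8272 Q8272 (allL N8272 (tt N8958 (iv F35612)) (tt N8299 (iv F32000)) (tt N11616 (iv F42367)) (tt N5415 F31937) (tt N11458 (iv F42024)) (tt N4984 (iv D18253)) (tt N12575 D22810))
theorem Q8274 : ∀ i, i < 8274 → P i := stepQ 8273 Q8273 (allL N8273 (tt N4985 (iv D18255)) (tt N12576 D22811) (tt N12577 D22812) (tt N5420 F31940) (tt N12540 (iv F44873)) (tt N4986 F31941) (tt N8281 (iv F31955)))
theorem Q8275 : ∀ i, i < 8275 → P i := stepQ 8274 Q8274 (allL N8274 (tt N12577 (iv F44989)) (tt N8274 F31942) (tt N4985 (iv D18256)) (tt N5669 F36124) (tt N12541 (iv F44876)) (tt N4987 F31943) (tt N5666 (iv F36126)))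
theorem Q8276 : ∀ i, i < 8276 → P i := stepQ 8275 Q8275 (allL N8275 (tt N8281 (iv F31953)) (tt N8296 (iv F31995)) (tt N5666 F36127) (tt N5422 F31944) (tt N12542 (iv F44880)) (tt N8278 (iv F31949)) (tt N4985 (iv D18257)))
theorem Q8277 : ∀ i, i < 8277 → P i := stepQ 8276 Q8276 (allL N8276 (tt N8961 (iv F35621)) (tt N4986 (iv D18258)) (tt N12578 D22813) (tt N5423 F31945) (tt N12543 (iv F44881)) (tt N8959 (iv F35616)) (tt N5447 (iv F31951)))
theorem Q8278 : ∀ i, i < 8278 → P i := stepQ 8277 Q8277 (allL N8277 (tt N4987 F31946) (tt N12579 D22814) (tt N4986 (iv D18259)) (tt N9257 (iv F36357)) (tt N12544 (iv F44884)) (tt N12577 (iv F44991)) (tt N9254 (iv F36349)))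
theorem Q8279 : ∀ i, i < 8279 → P i := stepQ 8278 Q8278 (allL N8278 (tt N4988 F31947) (tt N5409 F31950) (tt N9254 (iv F36347)) (tt N5425 F31948) (tt N12545 (iv F44887)) (tt N8275 F31949) (tt N4986 (iv D18260)))
theorem Q8280 : ∀ i, i < 8280 → P i := stepQ 8279 Q8279 (allL N8279 (tt N9257 (iv F36355)) (tt N12493 (iv F44738)) (tt N5742 F36133) (tt N4987 (iv D18261)) (tt N12580 D22815) (tt N5669 (iv F36125)) (tt N9251 (iv F36341)))
theorem Q8281 : ∀ i, i < 8281 → P i := stepQ 8280 Q8280 (allL N8280 (tt N9254 (iv F36346)) (tt N12492 (iv F44733)) (tt N4988 F31952) (tt N9251 (iv F36340)) (tt N12547 (iv F44893)) (tt N9249 F36335) (tt N4987 (iv D18262)))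
theorem Q8282 : ∀ i, i < 8282 → P i := stepQ 8281 Q8281 (allL N8281 (tt N8275 F31953) (tt N9063 (iv F35833)) (tt N9249 (iv F36334)) (tt N5428 F31954) (tt N12548 (iv F44895)) (tt N4988 (iv D18263)) (tt N8273 F31955))
theorem Q8283 : ∀ i, i < 8283 → P i := stepQ 8282 Q8282 (allL N8282 (tt N4990 F31956) (tt N12581 D22816) (tt N7214 F31957) (tt N5431 F31958) (tt N7212 F31959) (tt N7210 F31960) (tt N4989 (iv D18264)))
theorem Q8284 : ∀ i, i < 8284 → P i := stepQ 8283 Q8283 (allL N8283 (tt N8941 (iv F35560)) (tt N4990 (iv D18265)) (tt N12582 D22817) (tt N5437 F31961) (tt N11033 (iv F41110)) (tt N8939 (iv F35559)) (tt N4991 F31962))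
theorem Q8285 : ∀ i, i < 8285 → P i := stepQ 8284 Q8284 (allL N8284 (tt N7210 F31963) (tt N12583 D22818) (tt N7193 F31964) (tt N5438 F31965) (tt N7192 F31966) (tt N4990 (iv D18266)) (tt N7191 F31967))
theorem Q8286 : ∀ i, i < 8286 → P i := stepQ 8285 Q8285 (allL N8285 (tt N4991 (iv D18267)) (tt N12584 D22819) (tt N12585 D22820) (tt N5445 F31968) (tt N12555 (iv F44917)) (tt N12586 D22821) (tt N8941 (iv F35561)))
theorem Q8287 : ∀ i, i < 8287 → P i := stepQ 8286 Q8286 (allL N8286 (tt N12585 (iv F45027)) (tt N8286 F31969) (tt N4991 (iv D18268)) (tt N5552 F35985) (tt N12556 (iv F44919)) (tt N5551 F35986) (tt N12582 (iv F45007)))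
theorem Q8288 : ∀ i, i < 8288 → P i := stepQ 8287 Q8287 (allL N8287 (tt N12586 (iv F45030)) (tt N8264 F31970) (tt N5551 F35984) (tt N5447 F31971) (tt N12557 (iv F44923)) (tt N4991 (iv D18269)) (tt N5423 (iv F31972)))
theorem Q8289 : ∀ i, i < 8289 → P i := stepQ 8288 Q8288 (allL N8288 (tt N4992 (iv D18270)) (tt N5396 F35692) (tt N10797 (iv F40481)) (tt N5460 F31973) (tt N12558 (iv F44925)) (tt N9072 (iv F35857)) (tt N8929 F35693))
theorem Q8290 : ∀ i, i < 8290 → P i := stepQ 8289 Q8289 (allL N8289 (tt N10797 (iv F40479)) (tt N8289 F31974) (tt N4992 (iv D18271)) (tt N9211 (iv F36227)) (tt N12559 (iv F44928)) (tt N5555 F35480) (tt N10795 F40477))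
theorem Q8291 : ∀ i, i < 8291 → P i := stepQ 8290 Q8290 (allL N8290 (tt N8929 (iv F35694)) (tt N8261 F31975) (tt N10795 (iv F40475)) (tt N5462 F31976) (tt N12560 (iv F44931)) (tt N12587 D22822) (tt N4992 (iv D18272)))
theorem Q8292 : ∀ i, i < 8292 → P i := stepQ 8291 Q8291 (allL N8291 (tt N4994 F31979) (tt N12588 D22823) (tt N7314 (iv F35350)) (tt N5474 F31980) (tt N7312 F35347) (tt N4993 (iv D18274)) (tt N7310 (iv F34644)))
theorem Q8293 : ∀ i, i < 8293 → P i := stepQ 8292 Q8292 (allL N8292 (tt N8925 (iv F35529)) (tt N4994 (iv D18279)) (tt N12589 D22824) (tt N5480 F31986) (tt N11071 (iv F41194)) (tt N4995 F31987) (tt N8923 F35528))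
theorem Q8294 : ∀ i, i < 8294 → P i := stepQ 8293 Q8293 (allL N8293 (tt N7310 (iv F34642)) (tt N12586 (iv F45031)) (tt N7294 (iv F35349)) (tt N5481 F31988) (tt N7293 F35348) (tt N7292 (iv F34639)) (tt N4994 (iv D18280)))
theorem Q8295 : ∀ i, i < 8295 → P i := stepQ 8294 Q8294 (allL N8294 (tt N4995 (iv D18282)) (tt N12590 D22825) (tt N12591 D22826) (tt N5489 F31993) (tt N12561 (iv F44932)) (tt N8925 F35530) (tt N12583 F45013))
theorem Q8296 : ∀ i, i < 8296 → P i := stepQ 8295 Q8295 (allL N8295 (tt N12591 (iv F45053)) (tt N8295 F31994) (tt N4995 (iv D18283)) (tt N5597 F36131) (tt N12562 (iv F44934)) (tt N12589 (iv F45045)) (tt N5595 F36132))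
theorem Q8297 : ∀ i, i < 8297 → P i := stepQ 8296 Q8296 (allL N8296 (tt N12583 (iv F45009)) (tt N8275 F31995) (tt N5595 F36128) (tt N5491 F31996) (tt N12563 (iv F44938)) (tt N5407 (iv F31997)) (tt N4995 (iv D18284)))
theorem Q8298 : ∀ i, i < 8298 → P i := stepQ 8297 Q8297 (allL N8297 (tt N4996 (iv D18285)) (tt N5391 F35723) (tt N10716 (iv F40245)) (tt N5501 F31998) (tt N12564 (iv F44940)) (tt N8945 F35724) (tt N9011 (iv F35719)))
theorem Q8299 : ∀ i, i < 8299 → P i := stepQ 8298 Q8298 (allL N8298 (tt N10716 (iv F40244)) (tt N8298 F31999) (tt N4996 (iv D18286)) (tt N9247 (iv F36329)) (tt N12565 (iv F44943)) (tt N10714 (iv F40242)) (tt N5599 F35478))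
theorem Q8300 : ∀ i, i < 8300 → P i := stepQ 8299 Q8299 (allL N8299 (tt N8945 (iv F35725)) (tt N8272 F32000) (tt N10714 (iv F40240)) (tt N5503 F32001) (tt N12566 (iv F44946)) (tt N4996 (iv D18287)) (tt N12592 D22827))
theorem Q8301 : ∀ i, i < 8301 → P i := stepQ 8300 Q8300 (allL N8300 (tt N4997 (iv D18288)) (tt N6012 (iv F32006)) (tt N7369 F32005) (tt N4999 F32002) (tt N5009 F32003) (tt N4999 F32004) (tt N8311 (iv F32041)))
theorem Q8302 : ∀ i, i < 8302 → P i := stepQ 8301 Q8301 (allL N8301 (tt N7369 F32007) (tt N8301 F32008) (tt N4997 (iv D18289)) (tt N7374 (iv F32011)) (tt N5010 F32009) (tt N5000 F32010) (tt N12593 D22828))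
theorem Q8303 : ∀ i, i < 8303 → P i := stepQ 8302 Q8302 (allL N8302 (tt N8311 (iv F32038)) (tt N8387 (iv F32291)) (tt N12593 (iv F45061)) (tt N5001 F32012) (tt N5011 F32013) (tt N8308 (iv F32031)) (tt N4997 (iv D18290)))
theorem Q8304 : ∀ i, i < 8304 → P i := stepQ 8303 Q8303 (allL N8303 (tt N4998 (iv D18291)) (tt N6028 F35365) (tt N7400 (iv F34581)) (tt N5002 F32014) (tt N5012 F32015) (tt N8317 (iv F32054)) (tt N5002 F32016))
theorem Q8305 : ∀ i, i < 8305 → P i := stepQ 8304 Q8304 (allL N8304 (tt N7400 (iv F34580)) (tt N8304 F32017) (tt N4998 (iv D18292)) (tt N7405 (iv F34601)) (tt N5013 F32018) (tt N12594 D22829) (tt N5003 F32019))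
theorem Q8306 : ∀ i, i < 8306 → P i := stepQ 8305 Q8305 (allL N8305 (tt N8317 (iv F32051)) (tt N8380 (iv F32268)) (tt N12594 (iv F45065)) (tt N5004 F32020) (tt N5014 F32021) (tt N4998 (iv D18293)) (tt N8314 (iv F32047)))
theorem Q8307 : ∀ i, i < 8307 → P i := stepQ 8306 Q8306 (allL N8306 (tt N9902 (iv F37943)) (tt N4999 (iv D18294)) (tt N10303 (iv F38895)) (tt N6012 F32022) (tt N5015 F32023) (tt N9897 (iv F37933)) (tt N12595 D22830))
theorem Q8308 : ∀ i, i < 8308 → P i := stepQ 8307 Q8307 (allL N8307 (tt N5000 F32024) (tt N6966 F32028) (tt N4999 (iv D18295)) (tt N6965 (iv F32027)) (tt N5016 F32025) (tt N7369 F32026) (tt N12596 D22831))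
theorem Q8309 : ∀ i, i < 8309 → P i := stepQ 8308 Q8308 (allL N8308 (tt N5001 F32029) (tt N8043 F34990) (tt N12596 (iv F45073)) (tt N8311 (iv F32039)) (tt N5017 F32030) (tt N8302 F32031) (tt N4999 (iv D18296)))
theorem Q8310 : ∀ i, i < 8310 → P i := stepQ 8309 Q8309 (allL N8309 (tt N6965 F32032) (tt N5005 F32033) (tt N9400 (iv F36755)) (tt N5000 (iv D18297)) (tt N7499 (iv F32035)) (tt N7374 F32034) (tt N11568 (iv F42265)))
theorem Q8311 : ∀ i, i < 8311 → P i := stepQ 8310 Q8310 (allL N8310 (tt N12596 (iv F45072)) (tt N8784 (iv F33848)) (tt N5001 F32036) (tt N11568 (iv F42263)) (tt N5019 F32037) (tt N11562 (iv F42241)) (tt N5000 (iv D18298)))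
theorem Q8312 : ∀ i, i < 8312 → P i := stepQ 8311 Q8311 (allL N8311 (tt N8302 F32038) (tt N12323 (iv F44191)) (tt N11562 (iv F42238)) (tt N8308 F32039) (tt N5020 F32040) (tt N5001 (iv D18299)) (tt N8300 F32041))
theorem Q8313 : ∀ i, i < 8313 → P i := stepQ 8312 Q8312 (allL N8312 (tt N9920 (iv F37993)) (tt N5002 (iv D18300)) (tt N10340 (iv F38974)) (tt N6028 (iv F35364)) (tt N5021 F32042) (tt N12597 D22832) (tt N9914 (iv F37980)))
theorem Q8314 : ∀ i, i < 8314 → P i := stepQ 8313 Q8313 (allL N8313 (tt N5003 F32043) (tt N6977 F35257) (tt N5002 (iv D18301)) (tt N6976 (iv F34844)) (tt N5022 F32044) (tt N12598 D22833) (tt N7400 (iv F34582)))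
theorem Q8315 : ∀ i, i < 8315 → P i := stepQ 8314 Q8314 (allL N8314 (tt N5004 F32045) (tt N7985 F32408) (tt N12598 (iv F45082)) (tt N8317 (iv F32052)) (tt N5023 F32046) (tt N5002 (iv D18302)) (tt N8305 F32047))
theorem Q8316 : ∀ i, i < 8316 → P i := stepQ 8315 Q8315 (allL N8315 (tt N6976 (iv F34843)) (tt N5006 F32048) (tt N9405 (iv F36763)) (tt N5003 (iv D18303)) (tt N7513 (iv F34836)) (tt N11620 (iv F42384)) (tt N7405 F34600))
theorem Q8317 : ∀ i, i < 8317 → P i := stepQ 8316 Q8316 (allL N8316 (tt N12598 (iv F45081)) (tt N8820 (iv F33924)) (tt N5004 F32049) (tt N11620 (iv F42382)) (tt N5025 F32050) (tt N5003 (iv D18304)) (tt N11614 (iv F42360)))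
theorem Q8318 : ∀ i, i < 8318 → P i := stepQ 8317 Q8317 (allL N8317 (tt N8305 F32051) (tt N12264 (iv F44053)) (tt N11614 (iv F42357)) (tt N8314 F32052) (tt N5026 F32053) (tt N8303 F32054) (tt N5004 (iv D18305)))
theorem Q8319 : ∀ i, i < 8319 → P i := stepQ 8318 Q8318 (allL N8318 (tt N8318 F32055) (tt N7499 F32056) (tt N7528 F32057) (tt N5027 F32058) (tt N5005 (iv D18306)) (tt N8318 F32059) (tt N7528 F32060))
theorem Q8320 : ∀ i, i < 8320 → P i := stepQ 8319 Q8319 (allL N8319 (tt N8319 F32061) (tt N7513 (iv F34833)) (tt N7573 (iv F34808)) (tt N5028 F32062) (tt N5006 (iv D18307)) (tt N7573 (iv F34811)) (tt N8319 F32063))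
theorem Q8321 : ∀ i, i < 8321 → P i := stepQ 8320 Q8320 (allL N8320 (tt N5007 (iv D18309)) (tt N6716 F32067) (tt N7184 F32071) (tt N5116 F32068) (tt N5043 F32069) (tt N6707 F32070) (tt N12599 D22834))
theorem Q8322 : ∀ i, i < 8322 → P i := stepQ 8321 Q8321 (allL N8321 (tt N7184 F32072) (tt N8321 F32073) (tt N5007 (iv D18310)) (tt N7633 F32074) (tt N5044 F32075) (tt N10468 (iv F39253)) (tt N12600 D22835))
theorem Q8323 : ∀ i, i < 8323 → P i := stepQ 8322 Q8322 (allL N8322 (tt N12599 (iv F45086)) (tt N7608 (iv F39663)) (tt N12600 (iv F45093)) (tt N5118 F32076) (tt N5045 F32077) (tt N10647 (iv F40074)) (tt N5007 (iv D18311)))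
theorem Q8324 : ∀ i, i < 8324 → P i := stepQ 8323 Q8323 (allL N8323 (tt N5008 (iv D18312)) (tt N6792 (iv F32115)) (tt N7285 (iv F32080)) (tt N5120 F32078) (tt N5047 F32079) (tt N12601 D22836) (tt N6783 (iv F35488)))
theorem Q8325 : ∀ i, i < 8325 → P i := stepQ 8324 Q8324 (allL N8324 (tt N7285 F32116) (tt N8324 F32117) (tt N5008 (iv D18313)) (tt N7798 F32118) (tt N5048 F32119) (tt N12602 D22837) (tt N10518 (iv F39359)))
theorem Q8326 : ∀ i, i < 8326 → P i := stepQ 8325 Q8325 (allL N8325 (tt N12601 (iv F45097)) (tt N7563 (iv F39534)) (tt N12602 (iv F45104)) (tt N5122 F32120) (tt N5049 F32121) (tt N5008 (iv D18314)) (tt N10732 (iv F40296)))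
theorem Q8327 : ∀ i, i < 8327 → P i := stepQ 8326 Q8326 (allL N8326 (tt N5010 F32122) (tt N7370 F32125) (tt N5009 (iv D18315)) (tt N7935 (iv F32126)) (tt N7369 F32123) (tt N5016 F32124) (tt N8338 (iv F32165)))
theorem Q8328 : ∀ i, i < 8328 → P i := stepQ 8327 Q8327 (allL N8327 (tt N7935 F32127) (tt N8327 F32128) (tt N5018 F32131) (tt N5010 (iv D18316)) (tt N7937 F32129) (tt N5018 F32130) (tt N12603 D22838))
theorem Q8329 : ∀ i, i < 8329 → P i := stepQ 8328 Q8328 (allL N8328 (tt N8338 (iv F32163)) (tt N11737 (iv F42677)) (tt N5011 F32132) (tt N12603 (iv F45110)) (tt N12593 (iv F45063)) (tt N8335 (iv F32156)) (tt N5010 (iv D18317)))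
theorem Q8330 : ∀ i, i < 8330 → P i := stepQ 8329 Q8329 (allL N8329 (tt N5013 F32136) (tt N7401 (iv F34577)) (tt N5012 (iv D18323)) (tt N7993 F34578) (tt N7400 F34579) (tt N8346 (iv F32178)) (tt N5022 F32137))
theorem Q8331 : ∀ i, i < 8331 → P i := stepQ 8330 Q8330 (allL N8330 (tt N7993 (iv F34588)) (tt N8330 F32138) (tt N5024 F34590) (tt N5013 (iv D18324)) (tt N7995 F34589) (tt N12604 D22839) (tt N5024 F32139))
theorem Q8332 : ∀ i, i < 8332 → P i := stepQ 8331 Q8331 (allL N8331 (tt N8346 (iv F32176)) (tt N11780 (iv F42784)) (tt N5014 F32140) (tt N12604 (iv F45114)) (tt N12594 (iv F45067)) (tt N5013 (iv D18325)) (tt N8343 (iv F32172)))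
theorem Q8333 : ∀ i, i < 8333 → P i := stepQ 8332 Q8332 (allL N8332 (tt N9904 (iv F37951)) (tt N8045 F34991) (tt N10304 (iv F38897)) (tt N5999 F32144) (tt N12595 (iv F45070)) (tt N6141 F32145) (tt N5015 (iv D18330)))
theorem Q8334 : ∀ i, i < 8334 → P i := stepQ 8333 Q8333 (allL N8333 (tt N6970 (iv F32147)) (tt N5016 (iv D18331)) (tt N10301 (iv F38888)) (tt N7502 (iv F32148)) (tt N6966 F32146) (tt N12605 D22840) (tt N12606 D22841))
theorem Q8335 : ∀ i, i < 8335 → P i := stepQ 8334 Q8334 (allL N8334 (tt N5018 F32149) (tt N7502 F32150) (tt N7935 F32151) (tt N5016 (iv D18332)) (tt N7500 F32152) (tt N7935 F32153) (tt N12607 D22842))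
theorem Q8336 : ∀ i, i < 8336 → P i := stepQ 8335 Q8335 (allL N8335 (tt N5019 F32154) (tt N12608 D22843) (tt N5017 F32155) (tt N12607 (iv F45126)) (tt N12596 (iv F45075)) (tt N8328 F32156) (tt N5016 (iv D18333)))
theorem Q8337 : ∀ i, i < 8337 → P i := stepQ 8336 Q8336 (allL N8336 (tt N7500 F32157) (tt N5027 F32158) (tt N7937 F32159) (tt N7499 F32160) (tt N5018 (iv D18335)) (tt N7937 F32161) (tt N12215 (iv F43933)))
theorem Q8338 : ∀ i, i < 8338 → P i := stepQ 8337 Q8337 (allL N8337 (tt N12607 (iv F45124)) (tt N9078 (iv F35873)) (tt N12603 (iv F45109)) (tt N5019 F32162) (tt N12215 (iv F43932)) (tt N12213 (iv F43925)) (tt N5018 (iv D18336)))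
theorem Q8339 : ∀ i, i < 8339 → P i := stepQ 8338 Q8338 (allL N8338 (tt N8328 F32163) (tt N12609 D22844) (tt N5020 F32164) (tt N12213 (iv F43923)) (tt N11562 (iv F42240)) (tt N5019 (iv D18337)) (tt N8326 F32165))
theorem Q8340 : ∀ i, i < 8340 → P i := stepQ 8339 Q8339 (allL N8339 (tt N8114 (iv F34999)) (tt N5020 (iv D18338)) (tt N12610 D22845) (tt N8111 F34995) (tt N12323 (iv F44192)) (tt N8552 (iv F33333)) (tt N9733 (iv F37611)))
theorem Q8341 : ∀ i, i < 8341 → P i := stepQ 8340 Q8340 (allL N8340 (tt N9921 (iv F37998)) (tt N7986 F32409) (tt N10341 (iv F38976)) (tt N6005 F34982) (tt N12597 (iv F45079)) (tt N5021 (iv D18341)) (tt N6153 F35067))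
theorem Q8342 : ∀ i, i < 8342 → P i := stepQ 8341 Q8341 (allL N8341 (tt N6981 F35259) (tt N5022 (iv D18343)) (tt N10338 (iv F38967)) (tt N7516 F35260) (tt N6977 (iv F35258)) (tt N12611 D22846) (tt N12612 D22847))
theorem Q8343 : ∀ i, i < 8343 → P i := stepQ 8342 Q8342 (allL N8342 (tt N5024 F32169) (tt N7516 (iv F35261)) (tt N7993 (iv F34591)) (tt N5022 (iv D18344)) (tt N7514 (iv F34841)) (tt N12613 D22848) (tt N7993 F34587))
theorem Q8344 : ∀ i, i < 8344 → P i := stepQ 8343 Q8343 (allL N8343 (tt N5025 F32170) (tt N12614 D22849) (tt N5023 F32171) (tt N12613 (iv F45143)) (tt N12598 (iv F45084)) (tt N5022 (iv D18345)) (tt N8331 F32172))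
theorem Q8345 : ∀ i, i < 8345 → P i := stepQ 8344 Q8344 (allL N8344 (tt N7514 (iv F34839)) (tt N5028 F32174) (tt N7995 F34602) (tt N7513 (iv F34835)) (tt N5024 (iv D18348)) (tt N12274 (iv F44079)) (tt N7995 (iv F34596)))
theorem Q8346 : ∀ i, i < 8346 → P i := stepQ 8345 Q8345 (allL N8345 (tt N12613 (iv F45141)) (tt N9131 (iv F36003)) (tt N12604 (iv F45113)) (tt N5025 F32175) (tt N12274 (iv F44078)) (tt N5024 (iv D18349)) (tt N12272 (iv F44071)))
theorem Q8347 : ∀ i, i < 8347 → P i := stepQ 8346 Q8346 (allL N8346 (tt N8331 F32176) (tt N12615 D22850) (tt N5026 F32177) (tt N12272 (iv F44069)) (tt N11614 (iv F42359)) (tt N8329 F32178) (tt N5025 (iv D18350)))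
theorem Q8348 : ∀ i, i < 8348 → P i := stepQ 8347 Q8347 (allL N8347 (tt N8070 (iv F32412)) (tt N5026 (iv D18351)) (tt N12616 D22851) (tt N8067 F32411) (tt N12264 (iv F44054)) (tt N9753 (iv F37657)) (tt N8523 (iv F33264)))
theorem Q8349 : ∀ i, i < 8349 → P i := stepQ 8348 Q8348 (allL N8348 (tt N8349 (iv F32184)) (tt N8130 F35482) (tt N8217 F32179) (tt N8349 (iv F32186)) (tt N5079 F32180) (tt N6127 (iv F34289)) (tt N5029 (iv D18352)))
theorem Q8350 : ∀ i, i < 8350 → P i := stepQ 8349 Q8349 (allL N8349 (tt N8348 F32184) (tt N8090 (iv F32189)) (tt N8216 F32185) (tt N8348 F32186) (tt N5080 F32187) (tt N5030 (iv D18354)) (tt N6118 F32188))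
theorem Q8351 : ∀ i, i < 8351 → P i := stepQ 8350 Q8350 (allL N8350 (tt N5031 (iv D18359)) (tt N10442 (iv F39202)) (tt N7185 (iv F32198)) (tt N5035 F32195) (tt N6707 F32196) (tt N5043 F32197) (tt N8378 (iv F32263)))
theorem Q8352 : ∀ i, i < 8352 → P i := stepQ 8351 Q8351 (allL N8351 (tt N7185 F32199) (tt N10853 (iv F40649)) (tt N5031 (iv D18360)) (tt N7182 (iv F32201)) (tt N10468 (iv F39252)) (tt N5044 F32200) (tt N11264 (iv F41603)))
theorem Q8353 : ∀ i, i < 8353 → P i := stepQ 8352 Q8352 (allL N8352 (tt N8378 (iv F32261)) (tt N12617 D22852) (tt N11264 (iv F41601)) (tt N5037 F32202) (tt N10469 (iv F39255)) (tt N8375 (iv F32254)) (tt N5031 (iv D18361)))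
theorem Q8354 : ∀ i, i < 8354 → P i := stepQ 8353 Q8353 (allL N8353 (tt N12618 D22853) (tt N5032 (iv D18362)) (tt N10389 (iv F39090)) (tt N5038 F32203) (tt N6598 F35497) (tt N6600 (iv F35498)) (tt N12617 (iv F45152)))
theorem Q8355 : ∀ i, i < 8355 → P i := stepQ 8354 Q8354 (allL N8354 (tt N5033 (iv D18363)) (tt N10492 (iv F39308)) (tt N7287 (iv F32206)) (tt N5039 F32204) (tt N6783 F35490) (tt N8385 (iv F32286)) (tt N5047 F32205))
theorem Q8356 : ∀ i, i < 8356 → P i := stepQ 8355 Q8355 (allL N8355 (tt N7287 F32207) (tt N10855 (iv F40657)) (tt N5033 (iv D18364)) (tt N7284 (iv F32209)) (tt N10518 (iv F39358)) (tt N11423 (iv F41942)) (tt N5048 F32208))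
theorem Q8357 : ∀ i, i < 8357 → P i := stepQ 8356 Q8356 (allL N8356 (tt N8385 (iv F32284)) (tt N12619 D22854) (tt N11423 (iv F41940)) (tt N5041 F32210) (tt N10519 (iv F39362)) (tt N5033 (iv D18365)) (tt N8382 (iv F32277)))
theorem Q8358 : ∀ i, i < 8358 → P i := stepQ 8357 Q8357 (allL N8357 (tt N12620 D22855) (tt N5034 (iv D18366)) (tt N10423 (iv F39170)) (tt N5042 F32211) (tt N6559 F32212) (tt N12619 (iv F45158)) (tt N6561 F32213))
theorem Q8359 : ∀ i, i < 8359 → P i := stepQ 8358 Q8358 (allL N8358 (tt N10449 (iv F39218)) (tt N5035 (iv D18367)) (tt N6544 (iv F32216)) (tt N10442 (iv F39204)) (tt N5102 F32214) (tt N6542 F32215) (tt N12621 D22856))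
theorem Q8360 : ∀ i, i < 8360 → P i := stepQ 8359 Q8359 (allL N8359 (tt N5036 F32217) (tt N7944 F32218) (tt N5035 (iv D18368)) (tt N12622 D22857) (tt N5103 F32219) (tt N5052 F32220) (tt N8396 (iv F32311)))
theorem Q8361 : ∀ i, i < 8361 → P i := stepQ 8360 Q8360 (allL N8360 (tt N12622 (iv F45164)) (tt N5243 F32221) (tt N8789 (iv F33862)) (tt N5036 (iv D18369)) (tt N8788 F33859) (tt N5054 F32222) (tt N12623 D22858))
theorem Q8362 : ∀ i, i < 8362 → P i := stepQ 8361 Q8361 (allL N8361 (tt N8396 (iv F32308)) (tt N12624 D22859) (tt N5037 F32223) (tt N12623 (iv F45168)) (tt N5104 F32224) (tt N8391 (iv F32301)) (tt N5036 (iv D18370)))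
theorem Q8363 : ∀ i, i < 8363 → P i := stepQ 8362 Q8362 (allL N8362 (tt N12625 D22860) (tt N5037 (iv D18371)) (tt N12626 D22861) (tt N12617 (iv F45150)) (tt N5105 F32225) (tt N12627 D22862) (tt N5038 F32226))
theorem Q8364 : ∀ i, i < 8364 → P i := stepQ 8363 Q8363 (allL N8363 (tt N5038 (iv D18372)) (tt N12270 F44065) (tt N12628 D22863) (tt N12618 (iv F45153)) (tt N5106 F32227) (tt N12629 D22864) (tt N12625 (iv F45172)))
theorem Q8365 : ∀ i, i < 8365 → P i := stepQ 8364 Q8364 (allL N8364 (tt N12628 (iv F45176)) (tt N5247 F32228) (tt N5038 (iv D18373)) (tt N10182 F39786) (tt N5107 F32229) (tt N12630 D22865) (tt N12626 (iv F45174)))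
theorem Q8366 : ∀ i, i < 8366 → P i := stepQ 8365 Q8365 (allL N8365 (tt N12629 (iv F45178)) (tt N6599 (iv F34187)) (tt N12630 (iv F45182)) (tt N6600 F35499) (tt N5108 F32231) (tt N5038 (iv D18374)) (tt N12631 D22866))
theorem Q8367 : ∀ i, i < 8367 → P i := stepQ 8366 Q8366 (allL N8366 (tt N10499 (iv F39324)) (tt N5039 (iv D18375)) (tt N6584 F35355) (tt N10492 (iv F39310)) (tt N5109 F32232) (tt N12632 D22867) (tt N6581 (iv F35356)))
theorem Q8368 : ∀ i, i < 8368 → P i := stepQ 8367 Q8367 (allL N8367 (tt N5040 F32233) (tt N8002 F34562) (tt N5039 (iv D18376)) (tt N12633 D22868) (tt N5110 F32234) (tt N8415 (iv F32350)) (tt N5062 F32235))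
theorem Q8369 : ∀ i, i < 8369 → P i := stepQ 8368 Q8368 (allL N8368 (tt N12633 (iv F45192)) (tt N5251 F32236) (tt N8826 (iv F35265)) (tt N5040 (iv D18377)) (tt N8825 (iv F34797)) (tt N12634 D22869) (tt N5064 F32237))
theorem Q8370 : ∀ i, i < 8370 → P i := stepQ 8369 Q8369 (allL N8369 (tt N8415 (iv F32347)) (tt N12635 D22870) (tt N5041 F32238) (tt N12634 (iv F45196)) (tt N5111 F32239) (tt N5040 (iv D18378)) (tt N8410 (iv F32340)))
theorem Q8371 : ∀ i, i < 8371 → P i := stepQ 8370 Q8370 (allL N8370 (tt N12636 D22871) (tt N5041 (iv D18379)) (tt N12637 D22872) (tt N12619 (iv F45156)) (tt N5112 F32240) (tt N5042 F32241) (tt N12638 D22873))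
theorem Q8372 : ∀ i, i < 8372 → P i := stepQ 8371 Q8371 (allL N8371 (tt N5042 (iv D18380)) (tt N12330 F44207) (tt N12639 D22874) (tt N12620 (iv F45159)) (tt N5113 F32242) (tt N12636 (iv F45200)) (tt N12640 D22875))
theorem Q8373 : ∀ i, i < 8373 → P i := stepQ 8372 Q8372 (allL N8372 (tt N12639 (iv F45204)) (tt N5255 F32243) (tt N5042 (iv D18381)) (tt N10149 F39742) (tt N5114 F32244) (tt N12637 (iv F45202)) (tt N12641 D22876))
theorem Q8374 : ∀ i, i < 8374 → P i := stepQ 8373 Q8373 (allL N8373 (tt N12640 (iv F45206)) (tt N6560 F32245) (tt N12641 (iv F45210)) (tt N6561 F32246) (tt N5115 F32247) (tt N12642 D22877) (tt N5042 (iv D18382)))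
theorem Q8375 : ∀ i, i < 8375 → P i := stepQ 8374 Q8374 (allL N8374 (tt N10549 (iv F39456)) (tt N5043 (iv D18383)) (tt N7190 F32248) (tt N5051 F32249) (tt N6716 F32250) (tt N10545 (iv F39445)) (tt N12643 D22878))
theorem Q8376 : ∀ i, i < 8376 → P i := stepQ 8375 Q8375 (allL N8375 (tt N5045 F32251) (tt N12644 D22879) (tt N7186 F32252) (tt N5053 F32253) (tt N12599 (iv F45089)) (tt N8352 F32254) (tt N5043 (iv D18384)))
theorem Q8377 : ∀ i, i < 8377 → P i := stepQ 8376 Q8376 (allL N8376 (tt N7186 F32255) (tt N12645 D22880) (tt N5045 F32256) (tt N7183 F32257) (tt N12600 (iv F45095)) (tt N11262 (iv F41597)) (tt N5044 (iv D18385)))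
theorem Q8378 : ∀ i, i < 8378 → P i := stepQ 8377 Q8377 (allL N8377 (tt N12646 D22881) (tt N5045 (iv D18386)) (tt N7609 F39679) (tt N5056 F32258) (tt N7608 (iv F39665)) (tt N12647 D22882) (tt N5046 F32260))
theorem Q8379 : ∀ i, i < 8379 → P i := stepQ 8378 Q8378 (allL N8378 (tt N8352 F32261) (tt N12648 D22883) (tt N11262 (iv F41595)) (tt N5057 F32262) (tt N10647 (iv F40073)) (tt N5045 (iv D18387)) (tt N8350 F32263))
theorem Q8380 : ∀ i, i < 8380 → P i := stepQ 8379 Q8379 (allL N8379 (tt N5046 (iv D18388)) (tt N12649 D22884) (tt N7605 F39677) (tt N5058 F32264) (tt N7604 (iv F39653)) (tt N12650 D22885) (tt N12646 (iv F45233)))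
theorem Q8381 : ∀ i, i < 8381 → P i := stepQ 8380 Q8380 (allL N8380 (tt N12650 (iv F45243)) (tt N8305 F32268) (tt N7596 F39678) (tt N5060 F32269) (tt N7595 (iv F39662)) (tt N5046 (iv D18390)) (tt N12651 D22886))
theorem Q8382 : ∀ i, i < 8382 → P i := stepQ 8381 Q8381 (allL N8381 (tt N10605 (iv F39949)) (tt N5047 (iv D18391)) (tt N7291 F32271) (tt N5061 F32272) (tt N6792 F32273) (tt N12652 D22887) (tt N10600 (iv F39935)))
theorem Q8383 : ∀ i, i < 8383 → P i := stepQ 8382 Q8382 (allL N8382 (tt N5049 F32274) (tt N12653 D22888) (tt N7286 F32275) (tt N5063 F32276) (tt N12601 (iv F45100)) (tt N5047 (iv D18392)) (tt N8356 F32277))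
theorem Q8384 : ∀ i, i < 8384 → P i := stepQ 8383 Q8383 (allL N8383 (tt N7286 F32278) (tt N12654 D22889) (tt N5049 F32279) (tt N7283 F32280) (tt N12602 (iv F45106)) (tt N5048 (iv D18393)) (tt N11424 (iv F41947)))
theorem Q8385 : ∀ i, i < 8385 → P i := stepQ 8384 Q8384 (allL N8384 (tt N12655 D22890) (tt N5049 (iv D18394)) (tt N7564 F39845) (tt N5066 F32281) (tt N7563 (iv F39536)) (tt N5050 F32283) (tt N12656 D22891))
theorem Q8386 : ∀ i, i < 8386 → P i := stepQ 8385 Q8385 (allL N8385 (tt N8356 F32284) (tt N12657 D22892) (tt N11424 (iv F41945)) (tt N5067 F32285) (tt N10732 (iv F40295)) (tt N8354 F32286) (tt N5049 (iv D18395)))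
theorem Q8387 : ∀ i, i < 8387 → P i := stepQ 8386 Q8386 (allL N8386 (tt N5050 (iv D18396)) (tt N12658 D22893) (tt N7560 F39844) (tt N5068 F32287) (tt N7559 (iv F39529)) (tt N12655 (iv F45270)) (tt N12659 D22894))
theorem Q8388 : ∀ i, i < 8388 → P i := stepQ 8387 Q8387 (allL N8387 (tt N12659 (iv F45280)) (tt N8302 F32291) (tt N7551 F39846) (tt N5070 F32292) (tt N7550 (iv F39539)) (tt N12660 D22895) (tt N5050 (iv D18398)))
theorem Q8389 : ∀ i, i < 8389 → P i := stepQ 8388 Q8388 (allL N8388 (tt N10551 (iv F39463)) (tt N12661 D22896) (tt N10551 (iv F39464)) (tt N12643 (iv F45219)) (tt N5138 F32294) (tt N6627 F32295) (tt N5051 (iv D18399)))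
theorem Q8390 : ∀ i, i < 8390 → P i := stepQ 8389 Q8389 (allL N8389 (tt N10303 (iv F38894)) (tt N5052 (iv D18400)) (tt N9902 (iv F37945)) (tt N12662 D22897) (tt N5139 F32296) (tt N9900 (iv F37941)) (tt N12663 D22898))
theorem Q8391 : ∀ i, i < 8391 → P i := stepQ 8390 Q8390 (allL N8390 (tt N5054 F32297) (tt N12662 (iv F45295)) (tt N10187 (iv F38658)) (tt N5052 (iv D18401)) (tt N12664 D22899) (tt N12622 (iv F45167)) (tt N12665 D22900))
theorem Q8392 : ∀ i, i < 8392 → P i := stepQ 8391 Q8391 (allL N8391 (tt N5055 F32298) (tt N12666 D22901) (tt N5053 F32299) (tt N12665 (iv F45301)) (tt N5141 F32300) (tt N8361 F32301) (tt N5052 (iv D18402)))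
theorem Q8393 : ∀ i, i < 8393 → P i := stepQ 8392 Q8392 (allL N8392 (tt N6687 F35063) (tt N5053 (iv D18403)) (tt N12667 D22902) (tt N12644 (iv F45222)) (tt N5142 F32302) (tt N12668 D22903) (tt N12661 (iv F45293)))
theorem Q8394 : ∀ i, i < 8394 → P i := stepQ 8393 Q8393 (allL N8393 (tt N12664 (iv F45297)) (tt N5071 F32303) (tt N8790 (iv F33866)) (tt N5143 F32304) (tt N5054 (iv D18404)) (tt N8788 F33860) (tt N12669 D22904))
theorem Q8395 : ∀ i, i < 8395 → P i := stepQ 8394 Q8394 (allL N8394 (tt N12665 (iv F45300)) (tt N12670 D22905) (tt N11243 (iv F41549)) (tt N5055 F32305) (tt N12669 (iv F45311)) (tt N12671 D22906) (tt N5054 (iv D18405)))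
theorem Q8396 : ∀ i, i < 8396 → P i := stepQ 8395 Q8395 (allL N8395 (tt N12672 D22907) (tt N5055 (iv D18406)) (tt N8434 (iv F32390)) (tt N12670 (iv F45312)) (tt N5145 F32306) (tt N12673 D22908) (tt N5073 F32307))
theorem Q8397 : ∀ i, i < 8397 → P i := stepQ 8396 Q8396 (allL N8396 (tt N8361 F32308) (tt N10079 (iv F39797)) (tt N5057 F32309) (tt N12671 (iv F45315)) (tt N5146 F32310) (tt N5055 (iv D18407)) (tt N8359 F32311))
theorem Q8398 : ∀ i, i < 8398 → P i := stepQ 8397 Q8397 (allL N8397 (tt N5056 (iv D18408)) (tt N10522 (iv F39367)) (tt N12674 D22909) (tt N12646 (iv F45231)) (tt N5147 F32312) (tt N8406 (iv F32330)) (tt N5058 F32313))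
theorem Q8399 : ∀ i, i < 8399 → P i := stepQ 8398 Q8398 (allL N8398 (tt N12674 (iv F45320)) (tt N8434 (iv F32389)) (tt N5056 (iv D18409)) (tt N12675 D22910) (tt N5148 F32314) (tt N12676 D22911) (tt N5059 F32315))
theorem Q8400 : ∀ i, i < 8400 → P i := stepQ 8399 Q8399 (allL N8399 (tt N8406 (iv F32328)) (tt N12677 D22912) (tt N12676 (iv F45325)) (tt N12647 (iv F45235)) (tt N5149 F32316) (tt N5056 (iv D18410)) (tt N8403 (iv F32323)))
theorem Q8401 : ∀ i, i < 8401 → P i := stepQ 8400 Q8400 (allL N8400 (tt N12657 F45276) (tt N5057 (iv D18411)) (tt N9522 F39798) (tt N12648 (iv F45237)) (tt N5150 F32317) (tt N12677 (iv F45328)) (tt N12678 D22913))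
theorem Q8402 : ∀ i, i < 8402 → P i := stepQ 8401 Q8401 (allL N8401 (tt N12679 D22914) (tt N5058 (iv D18412)) (tt N12680 D22915) (tt N12649 (iv F45240)) (tt N5151 F32318) (tt N12681 D22916) (tt N12682 D22917))
theorem Q8403 : ∀ i, i < 8403 → P i := stepQ 8402 Q8402 (allL N8402 (tt N5059 F32319) (tt N7916 F35233) (tt N5058 (iv D18413)) (tt N12683 D22918) (tt N5152 F32320) (tt N12684 D22919) (tt N12674 (iv F45322)))
theorem Q8404 : ∀ i, i < 8404 → P i := stepQ 8403 Q8403 (allL N8403 (tt N5060 F32321) (tt N8079 (iv F32407)) (tt N12684 (iv F45345)) (tt N12650 (iv F45246)) (tt N5153 F32322) (tt N5058 (iv D18414)) (tt N8399 F32323))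
theorem Q8405 : ∀ i, i < 8405 → P i := stepQ 8404 Q8404 (allL N8404 (tt N12683 (iv F45341)) (tt N5074 F32324) (tt N12685 D22920) (tt N5059 (iv D18415)) (tt N12686 D22921) (tt N12687 D22922) (tt N12675 (iv F45324)))
theorem Q8406 : ∀ i, i < 8406 → P i := stepQ 8405 Q8405 (allL N8405 (tt N12684 (iv F45344)) (tt N5341 F32325) (tt N5060 F32326) (tt N12687 (iv F45352)) (tt N5155 F32327) (tt N5059 (iv D18416)) (tt N12688 D22923))
theorem Q8407 : ∀ i, i < 8407 → P i := stepQ 8406 Q8406 (allL N8406 (tt N8399 F32328) (tt N12689 D22924) (tt N12688 (iv F45354)) (tt N12651 (iv F45252)) (tt N5156 F32329) (tt N8397 F32330) (tt N5060 (iv D18417)))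
theorem Q8408 : ∀ i, i < 8408 → P i := stepQ 8407 Q8407 (allL N8407 (tt N10607 (iv F39956)) (tt N12690 D22925) (tt N10607 (iv F39957)) (tt N12652 (iv F45256)) (tt N5157 F32333) (tt N5061 (iv D18419)) (tt N6674 (iv F35492)))
theorem Q8409 : ∀ i, i < 8409 → P i := stepQ 8408 Q8408 (allL N8408 (tt N10340 (iv F38973)) (tt N5062 (iv D18421)) (tt N9920 (iv F37995)) (tt N12691 D22926) (tt N5158 F32335) (tt N12692 D22927) (tt N9917 (iv F37988)))
theorem Q8410 : ∀ i, i < 8410 → P i := stepQ 8409 Q8409 (allL N8409 (tt N5064 F32336) (tt N12691 (iv F45364)) (tt N10222 (iv F38721)) (tt N5062 (iv D18422)) (tt N12693 D22928) (tt N12694 D22929) (tt N12633 (iv F45195)))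
theorem Q8411 : ∀ i, i < 8411 → P i := stepQ 8410 Q8410 (allL N8410 (tt N5065 F32337) (tt N12695 D22930) (tt N5063 F32338) (tt N12694 (iv F45370)) (tt N5160 F32339) (tt N5062 (iv D18423)) (tt N8369 F32340))
theorem Q8412 : ∀ i, i < 8412 → P i := stepQ 8411 Q8411 (allL N8411 (tt N6642 (iv F33257)) (tt N5063 (iv D18424)) (tt N12696 D22931) (tt N12653 (iv F45259)) (tt N5161 F32341) (tt N12690 (iv F45362)) (tt N12697 D22932))
theorem Q8413 : ∀ i, i < 8413 → P i := stepQ 8412 Q8412 (allL N8412 (tt N12693 (iv F45366)) (tt N5075 F32342) (tt N8828 F35262) (tt N5162 F32343) (tt N5064 (iv D18425)) (tt N12698 D22933) (tt N8825 (iv F34798)))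
theorem Q8414 : ∀ i, i < 8414 → P i := stepQ 8413 Q8413 (allL N8413 (tt N12694 (iv F45369)) (tt N12699 D22934) (tt N11404 (iv F41894)) (tt N5065 F32344) (tt N12698 (iv F45380)) (tt N5064 (iv D18426)) (tt N12700 D22935))
theorem Q8415 : ∀ i, i < 8415 → P i := stepQ 8414 Q8414 (allL N8414 (tt N12701 D22936) (tt N5065 (iv D18427)) (tt N8429 (iv F32377)) (tt N12699 (iv F45381)) (tt N5164 F32345) (tt N5077 F32346) (tt N12702 D22937))
theorem Q8416 : ∀ i, i < 8416 → P i := stepQ 8415 Q8415 (allL N8415 (tt N8369 F32347) (tt N10045 (iv F39820)) (tt N5067 F32348) (tt N12700 (iv F45384)) (tt N5165 F32349) (tt N8367 F32350) (tt N5065 (iv D18428)))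
theorem Q8417 : ∀ i, i < 8417 → P i := stepQ 8416 Q8416 (allL N8416 (tt N5066 (iv D18429)) (tt N10472 (iv F39259)) (tt N12703 D22938) (tt N12655 (iv F45268)) (tt N5166 F32351) (tt N5068 F32352) (tt N8425 (iv F32370)))
theorem Q8418 : ∀ i, i < 8418 → P i := stepQ 8417 Q8417 (allL N8417 (tt N12703 (iv F45389)) (tt N8429 (iv F32376)) (tt N5066 (iv D18430)) (tt N12704 D22939) (tt N5167 F32353) (tt N5069 F32354) (tt N12705 D22940))
theorem Q8419 : ∀ i, i < 8419 → P i := stepQ 8418 Q8418 (allL N8418 (tt N8425 (iv F32368)) (tt N12706 D22941) (tt N12705 (iv F45394)) (tt N12656 (iv F45272)) (tt N5168 F32355) (tt N8422 (iv F32363)) (tt N5066 (iv D18431)))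
theorem Q8420 : ∀ i, i < 8420 → P i := stepQ 8419 Q8419 (allL N8419 (tt N12648 F45239) (tt N5067 (iv D18432)) (tt N9506 F39821) (tt N12657 (iv F45274)) (tt N5169 F32356) (tt N12707 D22942) (tt N12706 (iv F45397)))
theorem Q8421 : ∀ i, i < 8421 → P i := stepQ 8420 Q8420 (allL N8420 (tt N12708 D22943) (tt N5068 (iv D18433)) (tt N12709 D22944) (tt N12658 (iv F45277)) (tt N5170 F32357) (tt N12710 D22945) (tt N12711 D22946))
theorem Q8422 : ∀ i, i < 8422 → P i := stepQ 8421 Q8421 (allL N8421 (tt N5069 F32358) (tt N7759 (iv F32360)) (tt N5068 (iv D18434)) (tt N12712 D22947) (tt N5171 F32359) (tt N12703 (iv F45391)) (tt N12713 D22948))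
theorem Q8423 : ∀ i, i < 8423 → P i := stepQ 8422 Q8422 (allL N8422 (tt N5070 F32361) (tt N8122 (iv F34992)) (tt N12713 (iv F45415)) (tt N12659 (iv F45283)) (tt N5172 F32362) (tt N8418 F32363) (tt N5068 (iv D18435)))
theorem Q8424 : ∀ i, i < 8424 → P i := stepQ 8423 Q8423 (allL N8423 (tt N12712 (iv F45411)) (tt N5078 F32364) (tt N12714 D22949) (tt N5069 (iv D18436)) (tt N12715 D22950) (tt N12704 (iv F45393)) (tt N12716 D22951))
theorem Q8425 : ∀ i, i < 8425 → P i := stepQ 8424 Q8424 (allL N8424 (tt N12713 (iv F45414)) (tt N5322 F32365) (tt N5070 F32366) (tt N12716 (iv F45422)) (tt N5174 F32367) (tt N12717 D22952) (tt N5069 (iv D18437)))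
theorem Q8426 : ∀ i, i < 8426 → P i := stepQ 8425 Q8425 (allL N8425 (tt N8418 F32368) (tt N12718 D22953) (tt N12717 (iv F45424)) (tt N12660 (iv F45289)) (tt N5175 F32369) (tt N5070 (iv D18438)) (tt N8416 F32370))
theorem Q8427 : ∀ i, i < 8427 → P i := stepQ 8426 Q8426 (allL N8426 (tt N8795 (iv F33877)) (tt N12719 D22954) (tt N5324 F32371) (tt N5182 F32372) (tt N5072 F32373) (tt N8435 (iv F32394)) (tt N5071 (iv D18439)))
theorem Q8428 : ∀ i, i < 8428 → P i := stepQ 8427 Q8427 (allL N8427 (tt N12720 D22955) (tt N5072 (iv D18440)) (tt N12721 D22956) (tt N5073 F32374) (tt N12719 (iv F45432)) (tt N12722 D22957) (tt N12670 (iv F45313)))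
theorem Q8429 : ∀ i, i < 8429 → P i := stepQ 8428 Q8428 (allL N8428 (tt N5073 (iv D18441)) (tt N12723 D22958) (tt N8433 (iv F32387)) (tt N12720 (iv F45433)) (tt N5184 F32375) (tt N12724 D22959) (tt N12672 (iv F45318)))
theorem Q8430 : ∀ i, i < 8430 → P i := stepQ 8429 Q8429 (allL N8429 (tt N12724 (iv F45441)) (tt N8417 F32376) (tt N8414 F32377) (tt N12722 (iv F45436)) (tt N5185 F32378) (tt N5073 (iv D18442)) (tt N12725 D22960))
theorem Q8431 : ∀ i, i < 8431 → P i := stepQ 8430 Q8430 (allL N8430 (tt N5344 F32379) (tt N12686 (iv F45349)) (tt N8832 (iv F33952)) (tt N5186 F32380) (tt N5074 (iv D18443)) (tt N5343 F32381) (tt N8431 (iv F32385)))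
theorem Q8432 : ∀ i, i < 8432 → P i := stepQ 8431 Q8431 (allL N8431 (tt N8832 (iv F33951)) (tt N12726 D22961) (tt N5344 F32382) (tt N5193 F32383) (tt N5076 F32384) (tt N5075 (iv D18444)) (tt N8430 F32385))
theorem Q8433 : ∀ i, i < 8433 → P i := stepQ 8432 Q8432 (allL N8432 (tt N12727 D22962) (tt N5076 (iv D18445)) (tt N12728 D22963) (tt N5077 F32386) (tt N12726 (iv F45450)) (tt N12699 (iv F45382)) (tt N12729 D22964))
theorem Q8434 : ∀ i, i < 8434 → P i := stepQ 8433 Q8433 (allL N8433 (tt N5077 (iv D18446)) (tt N12730 D22965) (tt N8428 F32387) (tt N12727 (iv F45451)) (tt N5195 F32388) (tt N12701 (iv F45387)) (tt N12731 D22966))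
theorem Q8435 : ∀ i, i < 8435 → P i := stepQ 8434 Q8434 (allL N8434 (tt N12731 (iv F45459)) (tt N8398 F32389) (tt N8395 F32390) (tt N12729 (iv F45454)) (tt N5196 F32391) (tt N12732 D22967) (tt N5077 (iv D18447)))
theorem Q8436 : ∀ i, i < 8436 → P i := stepQ 8435 Q8435 (allL N8435 (tt N5324 F32392) (tt N12715 (iv F45419)) (tt N8795 (iv F33878)) (tt N5197 F32393) (tt N5078 (iv D18448)) (tt N8426 F32394) (tt N5323 F32395))
theorem Q8437 : ∀ i, i < 8437 → P i := stepQ 8436 Q8436 (allL N8436 (tt N5085 F32417) (tt N8436 F32418) (tt N7456 F32419) (tt N5081 (iv D18453)) (tt N5751 F32420) (tt N6611 F32421) (tt N6659 (iv F35501)))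
theorem Q8438 : ∀ i, i < 8438 → P i := stepQ 8437 Q8437 (allL N8437 (tt N5752 F32437) (tt N11728 (iv F42644)) (tt N5747 F32438) (tt N9415 (iv F36798)) (tt N5083 F32439) (tt N5082 (iv D18466)) (tt N9359 (iv F36631)))
theorem Q8439 : ∀ i, i < 8439 → P i := stepQ 8438 Q8438 (allL N8438 (tt N5753 F32440) (tt N11771 (iv F42750)) (tt N5748 F32441) (tt N9416 (iv F36803)) (tt N5084 F32442) (tt N9358 (iv F36627)) (tt N5082 (iv D18467)))
theorem Q8440 : ∀ i, i < 8440 → P i := stepQ 8439 Q8439 (allL N8439 (tt N6611 F32444) (tt N11848 (iv F42945)) (tt N9417 (iv F36805)) (tt N5086 F32445) (tt N9415 (iv F36799)) (tt N5085 (iv D18469)) (tt N10593 (iv F39908)))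
theorem Q8441 : ∀ i, i < 8441 → P i := stepQ 8440 Q8440 (allL N8440 (tt N6659 F35502) (tt N12062 (iv F43493)) (tt N9418 (iv F36809)) (tt N5087 F32446) (tt N9416 (iv F36804)) (tt N10538 (iv F39410)) (tt N5085 (iv D18470)))
theorem Q8442 : ∀ i, i < 8442 → P i := stepQ 8441 Q8441 (allL N8441 (tt N6702 F32450) (tt N5086 (iv D18471)) (tt N6701 F32447) (tt N11848 (iv F42947)) (tt N5088 F32448) (tt N6851 F32449) (tt N10807 (iv F40511)))
theorem Q8443 : ∀ i, i < 8443 → P i := stepQ 8442 Q8442 (allL N8442 (tt N6778 (iv F35084)) (tt N5087 (iv D18473)) (tt N6777 (iv F35085)) (tt N12062 (iv F43495)) (tt N5090 F32455) (tt N10828 (iv F40576)) (tt N6872 F35083))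
theorem Q8444 : ∀ i, i < 8444 → P i := stepQ 8443 Q8443 (allL N8443 (tt N6708 F33056) (tt N10595 (iv F39912)) (tt N6706 F33057) (tt N10469 (iv F39254)) (tt N5096 F33058) (tt N8473 (iv F33126)) (tt N5092 (iv D18478)))
theorem Q8445 : ∀ i, i < 8445 → P i := stepQ 8444 Q8444 (allL N8444 (tt N6784 (iv F34355)) (tt N10540 (iv F39414)) (tt N6782 (iv F35486)) (tt N10519 (iv F39361)) (tt N5100 F33067) (tt N5093 (iv D18482)) (tt N8476 (iv F33142)))
theorem Q8446 : ∀ i, i < 8446 → P i := stepQ 8445 Q8445 (allL N8445 (tt N6709 F33068) (tt N5661 (iv F34927)) (tt N5096 F33069) (tt N5656 (iv F34896)) (tt N6706 F33071) (tt N5677 F33072) (tt N5095 (iv D18483)))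
theorem Q8447 : ∀ i, i < 8447 → P i := stepQ 8446 Q8446 (allL N8446 (tt N10778 (iv F40432)) (tt N5096 (iv D18484)) (tt N6834 (iv F34980)) (tt N5105 F33073) (tt N10595 (iv F39914)) (tt N10614 (iv F39987)) (tt N5097 F33074))
theorem Q8448 : ∀ i, i < 8448 → P i := stepQ 8447 Q8447 (allL N8447 (tt N5097 (iv D18485)) (tt N8073 F33223) (tt N6833 F35494) (tt N5106 F33075) (tt N10594 (iv F39910)) (tt N6832 (iv F35495)) (tt N10778 (iv F40436)))
theorem Q8449 : ∀ i, i < 8449 → P i := stepQ 8448 Q8448 (allL N8448 (tt N6785 (iv F34258)) (tt N5628 (iv F34979)) (tt N5100 F33079) (tt N5623 (iv F34962)) (tt N6782 F35485) (tt N5099 (iv D18489)) (tt N5716 F33081))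
theorem Q8450 : ∀ i, i < 8450 → P i := stepQ 8449 Q8449 (allL N8449 (tt N10694 (iv F40204)) (tt N5100 (iv D18490)) (tt N6760 (iv F33084)) (tt N5112 F33082) (tt N10540 (iv F39416)) (tt N5101 F33083) (tt N10562 (iv F39504)))
theorem Q8451 : ∀ i, i < 8451 → P i := stepQ 8450 Q8450 (allL N8450 (tt N5101 (iv D18491)) (tt N8118 (iv F34985)) (tt N6759 F33085) (tt N5113 F33086) (tt N10539 (iv F39412)) (tt N10694 (iv F40208)) (tt N6758 F33087))
theorem Q8452 : ∀ i, i < 8452 → P i := stepQ 8451 Q8451 (allL N8451 (tt N5102 (iv D18492)) (tt N6623 F33088) (tt N6538 F33089) (tt N6618 F33090) (tt N10449 (iv F39219)) (tt N6536 F33091) (tt N10451 (iv F39228)))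
theorem Q8453 : ∀ i, i < 8453 → P i := stepQ 8452 Q8452 (allL N8452 (tt N10451 (iv F39224)) (tt N8513 (iv F33233)) (tt N6546 F33092) (tt N10544 (iv F39430)) (tt N12621 (iv F45163)) (tt N10443 (iv F39207)) (tt N5102 (iv D18493)))
theorem Q8454 : ∀ i, i < 8454 → P i := stepQ 8453 Q8453 (allL N8453 (tt N12733 D22968) (tt N5104 (iv D18494)) (tt N12734 D22969) (tt N9770 (iv F37693)) (tt N12624 (iv F45169)) (tt N12735 D22970) (tt N5403 F33093))
theorem Q8455 : ∀ i, i < 8455 → P i := stepQ 8454 Q8454 (allL N8454 (tt N5105 (iv D18495)) (tt N10477 (iv F39273)) (tt N12736 D22971) (tt N10778 (iv F40434)) (tt N12625 (iv F45171)) (tt N8461 (iv F33102)) (tt N5106 F33094))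
theorem Q8456 : ∀ i, i < 8456 → P i := stepQ 8455 Q8455 (allL N8455 (tt N12736 (iv F45473)) (tt N12734 (iv F45468)) (tt N5105 (iv D18496)) (tt N12737 D22972) (tt N12626 (iv F45173)) (tt N12738 D22973) (tt N5107 F33095))
theorem Q8457 : ∀ i, i < 8457 → P i := stepQ 8456 Q8456 (allL N8456 (tt N8461 (iv F33101)) (tt N8501 (iv F33221)) (tt N12738 (iv F45480)) (tt N10614 (iv F39985)) (tt N12627 (iv F45175)) (tt N5105 (iv D18497)) (tt N8458 (iv F33098)))
theorem Q8458 : ∀ i, i < 8458 → P i := stepQ 8457 Q8457 (allL N8457 (tt N5107 F33096) (tt N10628 (iv F40024)) (tt N5106 (iv D18499)) (tt N10627 F40021) (tt N12628 (iv F45177)) (tt N12739 D22974) (tt N12736 (iv F45474)))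
theorem Q8459 : ∀ i, i < 8459 → P i := stepQ 8458 Q8458 (allL N8458 (tt N5108 F33097) (tt N11799 (iv F42830)) (tt N12739 (iv F45482)) (tt N6832 F35496) (tt N12629 (iv F45180)) (tt N5106 (iv D18500)) (tt N8456 F33098))
theorem Q8460 : ∀ i, i < 8460 → P i := stepQ 8459 Q8459 (allL N8459 (tt N10627 F40020) (tt N5410 F33099) (tt N9286 (iv F36413)) (tt N5107 (iv D18501)) (tt N10435 (iv F39755)) (tt N12740 D22975) (tt N12737 (iv F45478)))
theorem Q8461 : ∀ i, i < 8461 → P i := stepQ 8460 Q8460 (allL N8460 (tt N12739 (iv F45481)) (tt N12396 (iv F44450)) (tt N5108 F33100) (tt N12740 (iv F45488)) (tt N12630 (iv F45183)) (tt N5107 (iv D18502)) (tt N12741 D22976))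
theorem Q8462 : ∀ i, i < 8462 → P i := stepQ 8461 Q8461 (allL N8461 (tt N8456 F33101) (tt N12397 (iv F44455)) (tt N12741 (iv F45490)) (tt N6829 F35504) (tt N12631 (iv F45188)) (tt N8454 F33102) (tt N5108 (iv D18503)))
theorem Q8463 : ∀ i, i < 8463 → P i := stepQ 8462 Q8462 (allL N8462 (tt N5109 (iv D18504)) (tt N6671 F35439) (tt N6578 F35441) (tt N6666 (iv F35438)) (tt N10499 (iv F39325)) (tt N10501 (iv F39334)) (tt N6575 F35440))
theorem Q8464 : ∀ i, i < 8464 → P i := stepQ 8463 Q8463 (allL N8463 (tt N10501 (iv F39330)) (tt N8542 (iv F33309)) (tt N6587 F35442) (tt N10599 (iv F39929)) (tt N12632 (iv F45191)) (tt N5109 (iv D18506)) (tt N10493 (iv F39313)))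
theorem Q8465 : ∀ i, i < 8465 → P i := stepQ 8464 Q8464 (allL N8464 (tt N12742 D22977) (tt N5111 (iv D18513)) (tt N12743 D22978) (tt N9825 (iv F37792)) (tt N12635 (iv F45197)) (tt N5419 F33111) (tt N12744 D22979))
theorem Q8466 : ∀ i, i < 8466 → P i := stepQ 8465 Q8465 (allL N8465 (tt N5112 (iv D18514)) (tt N10527 (iv F39381)) (tt N12745 D22980) (tt N10694 (iv F40206)) (tt N12636 (iv F45199)) (tt N5113 F33112) (tt N8472 (iv F33122)))
theorem Q8467 : ∀ i, i < 8467 → P i := stepQ 8466 Q8466 (allL N8466 (tt N12745 (iv F45498)) (tt N12743 (iv F45493)) (tt N5112 (iv D18515)) (tt N12746 D22981) (tt N12637 (iv F45201)) (tt N5114 F33113) (tt N12747 D22982))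
theorem Q8468 : ∀ i, i < 8468 → P i := stepQ 8467 Q8467 (allL N8467 (tt N8472 (iv F33120)) (tt N8530 (iv F33285)) (tt N12747 (iv F45505)) (tt N10562 (iv F39502)) (tt N12638 (iv F45203)) (tt N8469 (iv F33117)) (tt N5112 (iv D18516)))
theorem Q8469 : ∀ i, i < 8469 → P i := stepQ 8468 Q8468 (allL N8468 (tt N5114 F33114) (tt N10578 (iv F39868)) (tt N5113 (iv D18518)) (tt N10577 F39864) (tt N12639 (iv F45205)) (tt N12745 (iv F45499)) (tt N12748 D22983))
theorem Q8470 : ∀ i, i < 8470 → P i := stepQ 8469 Q8469 (allL N8469 (tt N5115 F33115) (tt N11756 (iv F42717)) (tt N12748 (iv F45507)) (tt N6758 F33116) (tt N12640 (iv F45208)) (tt N8467 F33117) (tt N5113 (iv D18519)))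
theorem Q8471 : ∀ i, i < 8471 → P i := stepQ 8470 Q8470 (allL N8470 (tt N10577 F39863) (tt N5426 F33118) (tt N9333 (iv F36551)) (tt N5114 (iv D18520)) (tt N10401 (iv F39711)) (tt N12746 (iv F45503)) (tt N12749 D22984))
theorem Q8472 : ∀ i, i < 8472 → P i := stepQ 8471 Q8471 (allL N8471 (tt N12748 (iv F45506)) (tt N12350 (iv F44284)) (tt N5115 F33119) (tt N12749 (iv F45513)) (tt N12641 (iv F45211)) (tt N12750 D22985) (tt N5114 (iv D18521)))
theorem Q8473 : ∀ i, i < 8473 → P i := stepQ 8472 Q8472 (allL N8472 (tt N8467 F33120) (tt N12351 (iv F44289)) (tt N12750 (iv F45515)) (tt N6755 F33121) (tt N12642 (iv F45216)) (tt N5115 (iv D18522)) (tt N8465 F33122))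
theorem Q8474 : ∀ i, i < 8474 → P i := stepQ 8473 Q8473 (allL N8473 (tt N5118 F33123) (tt N6691 (iv F35065)) (tt N6710 F33124) (tt N12599 (iv F45088)) (tt N5124 F33125) (tt N8443 F33126) (tt N5116 (iv D18523)))
theorem Q8475 : ∀ i, i < 8475 → P i := stepQ 8474 Q8474 (allL N8474 (tt N10369 F39779) (tt N5118 (iv D18524)) (tt N10367 F39784) (tt N7608 (iv F39664)) (tt N5126 F33128) (tt N12355 (iv F44307)) (tt N5119 F33129))
theorem Q8476 : ∀ i, i < 8476 → P i := stepQ 8475 Q8475 (allL N8475 (tt N8076 F33135) (tt N5993 F33136) (tt N10361 F39697) (tt N7595 (iv F39661)) (tt N5130 F33138) (tt N5119 (iv D18527)) (tt N12349 (iv F44282)))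
theorem Q8477 : ∀ i, i < 8477 → P i := stepQ 8476 Q8476 (allL N8476 (tt N5122 F33139) (tt N6646 (iv F33254)) (tt N6788 (iv F34367)) (tt N12601 (iv F45099)) (tt N5131 F33141) (tt N5120 (iv D18528)) (tt N8444 F33142))
theorem Q8478 : ∀ i, i < 8478 → P i := stepQ 8477 Q8477 (allL N8477 (tt N10334 (iv F39735)) (tt N5122 (iv D18530)) (tt N10332 (iv F39740)) (tt N7563 (iv F39535)) (tt N5133 F33148) (tt N5123 F33149) (tt N12376 (iv F44372)))
theorem Q8479 : ∀ i, i < 8479 → P i := stepQ 8478 Q8478 (allL N8478 (tt N8094 (iv F33206)) (tt N5992 F33157) (tt N10324 F39841) (tt N7550 (iv F39538)) (tt N5137 F33159) (tt N12395 (iv F44447)) (tt N5123 (iv D18534)))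
theorem Q8480 : ∀ i, i < 8480 → P i := stepQ 8479 Q8479 (allL N8479 (tt N5733 (iv F36417)) (tt N5125 (iv D18536)) (tt N9205 F36418) (tt N9263 (iv F36373)) (tt N9335 (iv F36559)) (tt N10661 (iv F40113)) (tt N9467 (iv F36934)))
theorem Q8481 : ∀ i, i < 8481 → P i := stepQ 8480 Q8480 (allL N8480 (tt N5126 (iv D18537)) (tt N6663 F35064) (tt N10370 (iv F39781)) (tt N5147 F33162) (tt N10369 F39780) (tt N8486 (iv F33175)) (tt N5128 F33163))
theorem Q8482 : ∀ i, i < 8482 → P i := stepQ 8481 Q8481 (allL N8481 (tt N10370 F39782) (tt N9205 (iv F36419)) (tt N5126 (iv D18538)) (tt N12751 D22986) (tt N10367 (iv F39783)) (tt N12354 (iv F44302)) (tt N5129 F33164))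
theorem Q8483 : ∀ i, i < 8483 → P i := stepQ 8482 Q8482 (allL N8482 (tt N10733 F40302) (tt N5127 (iv D18539)) (tt N9662 (iv F39436)) (tt N5150 F33165) (tt N10648 (iv F40078)) (tt N12356 (iv F44310)) (tt N9661 F39435))
theorem Q8484 : ∀ i, i < 8484 → P i := stepQ 8483 Q8483 (allL N8483 (tt N10613 (iv F39979)) (tt N5128 (iv D18540)) (tt N12752 D22987) (tt N5151 F33166) (tt N6697 F35061) (tt N6693 (iv F34303)) (tt N10611 F39975))
theorem Q8485 : ∀ i, i < 8485 → P i := stepQ 8484 Q8484 (allL N8484 (tt N10080 F39793) (tt N6039 F33170) (tt N12188 (iv F43876)) (tt N5129 (iv D18542)) (tt N10077 (iv F39794)) (tt N12753 D22988) (tt N12751 (iv F45517)))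
theorem Q8486 : ∀ i, i < 8486 → P i := stepQ 8485 Q8485 (allL N8485 (tt N8075 F33171) (tt N6775 (iv F35378)) (tt N5130 F33172) (tt N12753 (iv F45521)) (tt N10361 (iv F39680)) (tt N5129 (iv D18543)) (tt N12754 D22989))
theorem Q8487 : ∀ i, i < 8487 → P i := stepQ 8486 Q8486 (allL N8486 (tt N8077 F33173) (tt N12348 (iv F44275)) (tt N12754 (iv F45524)) (tt N5156 F33174) (tt N12349 (iv F44280)) (tt N8480 F33175) (tt N5130 (iv D18544)))
theorem Q8488 : ∀ i, i < 8488 → P i := stepQ 8487 Q8487 (allL N8487 (tt N5700 F36485) (tt N5132 (iv D18549)) (tt N9241 F36486) (tt N9316 (iv F36483)) (tt N9288 F36487) (tt N9472 (iv F36947)) (tt N10743 (iv F40330)))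
theorem Q8489 : ∀ i, i < 8489 → P i := stepQ 8488 Q8488 (allL N8488 (tt N5133 (iv D18551)) (tt N6615 (iv F33253)) (tt N10335 F39737) (tt N5166 F33190) (tt N10334 (iv F39736)) (tt N5135 F33191) (tt N8494 (iv F33211)))
theorem Q8490 : ∀ i, i < 8490 → P i := stepQ 8489 Q8489 (allL N8489 (tt N10335 (iv F39738)) (tt N9241 (iv F36489)) (tt N5133 (iv D18552)) (tt N12755 D22990) (tt N10332 F39739) (tt N5136 F33192) (tt N12400 (iv F44468)))
theorem Q8491 : ∀ i, i < 8491 → P i := stepQ 8490 Q8490 (allL N8490 (tt N10648 (iv F40080)) (tt N5134 (iv D18554)) (tt N9669 F39438) (tt N5169 F33194) (tt N10733 (iv F40300)) (tt N9668 (iv F39437)) (tt N12401 (iv F44473)))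
theorem Q8492 : ∀ i, i < 8492 → P i := stepQ 8491 Q8491 (allL N8491 (tt N10560 (iv F39495)) (tt N5135 (iv D18555)) (tt N12756 D22991) (tt N5170 F33195) (tt N6653 F33203) (tt N10558 (iv F39491)) (tt N6648 (iv F33202)))
theorem Q8493 : ∀ i, i < 8493 → P i := stepQ 8492 Q8492 (allL N8492 (tt N10046 (iv F39816)) (tt N6023 F33207) (tt N11998 (iv F43338)) (tt N5136 (iv D18558)) (tt N10043 F39815) (tt N12755 (iv F45527)) (tt N12757 D22992))
theorem Q8494 : ∀ i, i < 8494 → P i := stepQ 8493 Q8493 (allL N8493 (tt N8119 (iv F35429)) (tt N6849 F34994) (tt N5137 F33208) (tt N12757 (iv F45531)) (tt N10324 (iv F39824)) (tt N12758 D22993) (tt N5136 (iv D18559)))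
theorem Q8495 : ∀ i, i < 8495 → P i := stepQ 8494 Q8494 (allL N8494 (tt N8120 (iv F34393)) (tt N12394 (iv F44440)) (tt N12758 (iv F45534)) (tt N5175 F33210) (tt N12395 (iv F44446)) (tt N5137 (iv D18560)) (tt N8488 F33211))
theorem Q8496 : ∀ i, i < 8496 → P i := stepQ 8495 Q8495 (allL N8495 (tt N6689 F35031) (tt N5138 (iv D18561)) (tt N8893 (iv F34124)) (tt N6640 F33212) (tt N12661 (iv F45292)) (tt N8892 F34121) (tt N5142 F33213))
theorem Q8497 : ∀ i, i < 8497 → P i := stepQ 8496 Q8496 (allL N8496 (tt N10304 (iv F38896)) (tt N8974 F35642) (tt N9904 (iv F37952)) (tt N7796 F33214) (tt N12663 (iv F45296)) (tt N12759 D22994) (tt N5139 (iv D18562)))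
theorem Q8498 : ∀ i, i < 8498 → P i := stepQ 8497 Q8497 (allL N8497 (tt N5143 F33215) (tt N10015 (iv F38269)) (tt N9553 (iv F37165)) (tt N12664 (iv F45298)) (tt N5140 (iv D18563)) (tt N6369 F33216) (tt N12760 D22995))
theorem Q8499 : ∀ i, i < 8499 → P i := stepQ 8498 Q8498 (allL N8498 (tt N5144 F33217) (tt N12761 D22996) (tt N6046 F33218) (tt N5141 F33219) (tt N12760 (iv F45543)) (tt N6043 F33220) (tt N5140 (iv D18564)))
theorem Q8500 : ∀ i, i < 8500 → P i := stepQ 8499 Q8499 (allL N8499 (tt N8960 (iv F35619)) (tt N5141 (iv D18565)) (tt N8959 F35618) (tt N12761 (iv F45546)) (tt N12666 (iv F45303)) (tt N12578 (iv F44994)) (tt N8974 (iv F35641)))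
theorem Q8501 : ∀ i, i < 8501 → P i := stepQ 8500 Q8500 (allL N8500 (tt N6688 F35023) (tt N8959 (iv F35617)) (tt N5142 (iv D18567)) (tt N12762 D22997) (tt N12667 (iv F45305)) (tt N12576 (iv F44986)) (tt N8893 F34125))
theorem Q8502 : ∀ i, i < 8502 → P i := stepQ 8501 Q8501 (allL N8501 (tt N6676 (iv F35057)) (tt N8456 F33221) (tt N12576 F44988) (tt N6683 F35058) (tt N12668 (iv F45308)) (tt N5142 (iv D18568)) (tt N10621 (iv F40007)))
theorem Q8503 : ∀ i, i < 8503 → P i := stepQ 8502 Q8502 (allL N8502 (tt N12760 (iv F45541)) (tt N12763 D22998) (tt N9555 (iv F37170)) (tt N12669 (iv F45310)) (tt N5144 F33224) (tt N10258 (iv F38788)) (tt N5143 (iv D18569)))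
theorem Q8504 : ∀ i, i < 8504 → P i := stepQ 8503 Q8503 (allL N8503 (tt N12764 D22999) (tt N5144 (iv D18570)) (tt N11775 (iv F42767)) (tt N5145 F33225) (tt N12763 (iv F45554)) (tt N12073 (iv F43531)) (tt N5183 F33226))
theorem Q8505 : ∀ i, i < 8505 → P i := stepQ 8504 Q8504 (allL N8504 (tt N5145 (iv D18571)) (tt N12765 D23000) (tt N8569 (iv F33387)) (tt N12764 (iv F45557)) (tt N12672 (iv F45317)) (tt N8561 (iv F33355)) (tt N5184 F33227))
theorem Q8506 : ∀ i, i < 8506 → P i := stepQ 8505 Q8505 (allL N8505 (tt N8561 (iv F33353)) (tt N12766 D23001) (tt N8570 (iv F33390)) (tt N12073 (iv F43532)) (tt N12673 (iv F45319)) (tt N5145 (iv D18572)) (tt N8560 (iv F33352)))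
theorem Q8507 : ∀ i, i < 8507 → P i := stepQ 8506 Q8506 (allL N8506 (tt N12188 (iv F43874)) (tt N5146 (iv D18573)) (tt N10080 (iv F39790)) (tt N8519 F34920) (tt N10079 F39792) (tt N12766 (iv F45561)) (tt N11908 (iv F43111)))
theorem Q8508 : ∀ i, i < 8508 → P i := stepQ 8507 Q8507 (allL N8507 (tt N5148 F33228) (tt N7912 F35234) (tt N5147 (iv D18575)) (tt N7914 (iv F35235)) (tt N12674 (iv F45321)) (tt N8522 (iv F33263)) (tt N5152 F33229))
theorem Q8509 : ∀ i, i < 8509 → P i := stepQ 8508 Q8508 (allL N8508 (tt N7914 F35236) (tt N7688 (iv F34914)) (tt N7691 F34917) (tt N5148 (iv D18576)) (tt N12767 D23002) (tt N12189 (iv F43881)) (tt N5154 F33230))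
theorem Q8510 : ∀ i, i < 8510 → P i := stepQ 8509 Q8509 (allL N8509 (tt N8522 (iv F33261)) (tt N12768 D23003) (tt N5149 F33231) (tt N12189 (iv F43880)) (tt N12676 (iv F45326)) (tt N5148 (iv D18577)) (tt N8518 (iv F33239)))
theorem Q8511 : ∀ i, i < 8511 → P i := stepQ 8510 Q8510 (allL N8510 (tt N12769 D23004) (tt N5149 (iv D18578)) (tt N12770 D23005) (tt N12356 (iv F44309)) (tt N12677 (iv F45327)) (tt N5150 F33232) (tt N12364 (iv F44335)))
theorem Q8512 : ∀ i, i < 8512 → P i := stepQ 8511 Q8511 (allL N8511 (tt N5150 (iv D18579)) (tt N10732 F40297) (tt N12771 D23006) (tt N10733 (iv F40299)) (tt N12657 (iv F45275)) (tt N12769 (iv F45573)) (tt N12772 D23007))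
theorem Q8513 : ∀ i, i < 8513 → P i := stepQ 8512 Q8512 (allL N8512 (tt N12771 (iv F45578)) (tt N10080 F39791) (tt N5150 (iv D18580)) (tt N9710 F39800) (tt N9522 (iv F39799)) (tt N12770 (iv F45576)) (tt N12773 D23008))
theorem Q8514 : ∀ i, i < 8514 → P i := stepQ 8513 Q8513 (allL N8513 (tt N12772 (iv F45579)) (tt N8452 F33233) (tt N12773 (iv F45583)) (tt N9661 F39434) (tt N12678 (iv F45330)) (tt N9660 F39441) (tt N5150 (iv D18581)))
theorem Q8515 : ∀ i, i < 8515 → P i := stepQ 8514 Q8514 (allL N8514 (tt N5151 (iv D18582)) (tt N8543 (iv F33310)) (tt N12774 D23009) (tt N10613 (iv F39981)) (tt N12679 (iv F45331)) (tt N12775 D23010) (tt N10609 F39967))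
theorem Q8516 : ∀ i, i < 8516 → P i := stepQ 8515 Q8515 (allL N8515 (tt N12774 (iv F45584)) (tt N7715 F35232) (tt N5151 (iv D18583)) (tt N7714 (iv F35243)) (tt N12680 (iv F45333)) (tt N12776 D23011) (tt N12777 D23012))
theorem Q8517 : ∀ i, i < 8517 → P i := stepQ 8516 Q8516 (allL N8516 (tt N12775 (iv F45587)) (tt N8080 F33234) (tt N12776 (iv F45591)) (tt N6693 (iv F34302)) (tt N12681 (iv F45336)) (tt N5151 (iv D18584)) (tt N6690 F35493))
theorem Q8518 : ∀ i, i < 8518 → P i := stepQ 8517 Q8517 (allL N8517 (tt N10609 (iv F39964)) (tt N10526 (iv F39378)) (tt N12777 (iv F45595)) (tt N10611 (iv F39972)) (tt N12682 (iv F45339)) (tt N10622 (iv F40010)) (tt N5151 (iv D18585)))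
theorem Q8519 : ∀ i, i < 8519 → P i := stepQ 8518 Q8518 (allL N8518 (tt N5155 F33237) (tt N12153 (iv F43764)) (tt N5153 F33238) (tt N7918 (iv F35223)) (tt N12684 (iv F45346)) (tt N5152 (iv D18588)) (tt N8509 F33239))
theorem Q8520 : ∀ i, i < 8520 → P i := stepQ 8519 Q8519 (allL N8519 (tt N7917 F35249) (tt N7943 F34919) (tt N5154 (iv D18589)) (tt N8506 (iv F34920)) (tt N12778 D23013) (tt N12779 D23014) (tt N7691 (iv F34918)))
theorem Q8521 : ∀ i, i < 8521 → P i := stepQ 8520 Q8520 (allL N8520 (tt N7357 F35250) (tt N5186 F33258) (tt N12778 (iv F45599)) (tt N12686 (iv F45350)) (tt N5154 (iv D18590)) (tt N12780 D23015) (tt N12767 (iv F45565)))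
theorem Q8522 : ∀ i, i < 8522 → P i := stepQ 8521 Q8521 (allL N8521 (tt N7918 F35222) (tt N5566 F33259) (tt N12779 (iv F45603)) (tt N5155 F33260) (tt N12780 (iv F45607)) (tt N5154 (iv D18591)) (tt N12187 (iv F43873)))
theorem Q8523 : ∀ i, i < 8523 → P i := stepQ 8522 Q8522 (allL N8522 (tt N8509 F33261) (tt N12781 D23016) (tt N5156 F33262) (tt N12187 (iv F43872)) (tt N12688 (iv F45355)) (tt N8507 F33263) (tt N5155 (iv D18592)))
theorem Q8524 : ∀ i, i < 8524 → P i := stepQ 8523 Q8523 (allL N8523 (tt N8906 F34154) (tt N5156 (iv D18593)) (tt N12782 D23017) (tt N12348 (iv F44277)) (tt N12689 (iv F45358)) (tt N12783 D23018) (tt N8347 F33264))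
theorem Q8525 : ∀ i, i < 8525 → P i := stepQ 8524 Q8524 (allL N8524 (tt N6644 (iv F33271)) (tt N5157 (iv D18596)) (tt N8899 (iv F34128)) (tt N6650 F33269) (tt N12690 (iv F45361)) (tt N5161 F33270) (tt N8898 F34123))
theorem Q8526 : ∀ i, i < 8526 → P i := stepQ 8525 Q8525 (allL N8525 (tt N10341 (iv F38975)) (tt N9040 F35794) (tt N9921 (iv F37999)) (tt N7627 F35074) (tt N12692 (iv F45365)) (tt N5158 (iv D18600)) (tt N12784 D23019))
theorem Q8527 : ∀ i, i < 8527 → P i := stepQ 8526 Q8526 (allL N8526 (tt N5162 F33279) (tt N10049 (iv F38335)) (tt N9591 (iv F37251)) (tt N12693 (iv F45367)) (tt N5159 (iv D18603)) (tt N12785 D23020) (tt N6379 (iv F35357)))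
theorem Q8528 : ∀ i, i < 8528 → P i := stepQ 8527 Q8527 (allL N8527 (tt N5163 F33280) (tt N12786 D23021) (tt N6083 (iv F35358)) (tt N5160 F33281) (tt N12785 (iv F45627)) (tt N5159 (iv D18604)) (tt N6081 (iv F34525)))
theorem Q8529 : ∀ i, i < 8529 → P i := stepQ 8528 Q8528 (allL N8528 (tt N9026 (iv F35765)) (tt N5160 (iv D18605)) (tt N9025 (iv F35764)) (tt N12786 (iv F45630)) (tt N12695 (iv F45372)) (tt N9040 (iv F35793)) (tt N12572 (iv F44972)))
theorem Q8530 : ∀ i, i < 8530 → P i := stepQ 8529 Q8529 (allL N8529 (tt N6643 F33283) (tt N9025 F35763) (tt N5161 (iv D18606)) (tt N12787 D23022) (tt N12696 (iv F45374)) (tt N8899 F34129) (tt N12570 (iv F44964)))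
theorem Q8531 : ∀ i, i < 8531 → P i := stepQ 8530 Q8530 (allL N8530 (tt N6629 F33284) (tt N8467 F33285) (tt N12570 F44965) (tt N6637 F33286) (tt N12697 (iv F45377)) (tt N10570 (iv F39526)) (tt N5161 (iv D18607)))
theorem Q8532 : ∀ i, i < 8532 → P i := stepQ 8531 Q8531 (allL N8531 (tt N12785 (iv F45625)) (tt N12788 D23023) (tt N9595 (iv F37261)) (tt N12698 (iv F45379)) (tt N5163 F33292) (tt N5162 (iv D18610)) (tt N10276 (iv F38827)))
theorem Q8533 : ∀ i, i < 8533 → P i := stepQ 8532 Q8532 (allL N8532 (tt N12789 D23024) (tt N5163 (iv D18611)) (tt N11732 (iv F42660)) (tt N5164 F33293) (tt N12788 (iv F45638)) (tt N5194 F33294) (tt N11857 (iv F42971)))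
theorem Q8534 : ∀ i, i < 8534 → P i := stepQ 8533 Q8533 (allL N8533 (tt N5164 (iv D18613)) (tt N12790 D23025) (tt N8560 (iv F33351)) (tt N12789 (iv F45641)) (tt N12701 (iv F45386)) (tt N5195 F33298) (tt N8570 (iv F33391)))
theorem Q8535 : ∀ i, i < 8535 → P i := stepQ 8534 Q8534 (allL N8534 (tt N8570 (iv F33389)) (tt N12791 D23026) (tt N8561 (iv F33354)) (tt N11857 F42972) (tt N12702 (iv F45388)) (tt N8569 (iv F33388)) (tt N5164 (iv D18614)))
theorem Q8536 : ∀ i, i < 8536 → P i := stepQ 8535 Q8535 (allL N8535 (tt N11998 (iv F43336)) (tt N5165 (iv D18615)) (tt N10046 (iv F39817)) (tt N8548 F35359) (tt N10045 F39819) (tt N12114 (iv F43666)) (tt N12791 (iv F45645)))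
theorem Q8537 : ∀ i, i < 8537 → P i := stepQ 8536 Q8536 (allL N8536 (tt N5167 F33299) (tt N7751 (iv F33301)) (tt N5166 (iv D18616)) (tt N7753 (iv F33302)) (tt N12703 (iv F45390)) (tt N5171 F33300) (tt N8551 (iv F33332)))
theorem Q8538 : ∀ i, i < 8538 → P i := stepQ 8537 Q8537 (allL N8537 (tt N7753 F33303) (tt N7852 F33304) (tt N7855 F33306) (tt N5167 (iv D18617)) (tt N12792 D23027) (tt N5173 F33305) (tt N11999 (iv F43344)))
theorem Q8539 : ∀ i, i < 8539 → P i := stepQ 8538 Q8538 (allL N8538 (tt N8551 (iv F33330)) (tt N12793 D23028) (tt N5168 F33307) (tt N11999 (iv F43343)) (tt N12705 (iv F45395)) (tt N8547 (iv F33319)) (tt N5167 (iv D18618)))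
theorem Q8540 : ∀ i, i < 8540 → P i := stepQ 8539 Q8539 (allL N8539 (tt N12794 D23029) (tt N5168 (iv D18619)) (tt N12795 D23030) (tt N12401 (iv F44470)) (tt N12706 (iv F45396)) (tt N12405 (iv F44486)) (tt N5169 F33308))
theorem Q8541 : ∀ i, i < 8541 → P i := stepQ 8540 Q8540 (allL N8540 (tt N5169 (iv D18620)) (tt N10647 F40075) (tt N12796 D23031) (tt N10648 (iv F40077)) (tt N12648 (iv F45238)) (tt N12797 D23032) (tt N12794 (iv F45658)))
theorem Q8542 : ∀ i, i < 8542 → P i := stepQ 8541 Q8541 (allL N8541 (tt N12796 (iv F45662)) (tt N10046 F39818) (tt N5169 (iv D18621)) (tt N9688 F39823) (tt N9506 (iv F39822)) (tt N12798 D23033) (tt N12795 (iv F45660)))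
theorem Q8543 : ∀ i, i < 8543 → P i := stepQ 8542 Q8542 (allL N8542 (tt N12797 (iv F45663)) (tt N8463 F33309) (tt N12798 (iv F45667)) (tt N9668 F39439) (tt N12707 (iv F45399)) (tt N5169 (iv D18622)) (tt N9667 (iv F39440)))
theorem Q8544 : ∀ i, i < 8544 → P i := stepQ 8543 Q8543 (allL N8543 (tt N5170 (iv D18623)) (tt N8514 F33310) (tt N12799 D23034) (tt N10560 (iv F39496)) (tt N12708 (iv F45401)) (tt N10556 F39483) (tt N12800 D23035))
theorem Q8545 : ∀ i, i < 8545 → P i := stepQ 8544 Q8544 (allL N8544 (tt N12799 (iv F45668)) (tt N7758 F33311) (tt N5170 (iv D18624)) (tt N7877 (iv F33312)) (tt N12709 (iv F45403)) (tt N12801 D23036) (tt N12802 D23037))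
theorem Q8546 : ∀ i, i < 8546 → P i := stepQ 8545 Q8545 (allL N8545 (tt N10556 (iv F39480)) (tt N10476 (iv F39270)) (tt N12801 (iv F45676)) (tt N10558 (iv F39488)) (tt N12710 (iv F45405)) (tt N5170 (iv D18625)) (tt N10571 (iv F39848)))
theorem Q8547 : ∀ i, i < 8547 → P i := stepQ 8546 Q8546 (allL N8546 (tt N12800 (iv F45671)) (tt N8093 (iv F33314)) (tt N12802 (iv F45678)) (tt N6648 F33313) (tt N12711 (iv F45409)) (tt N6645 (iv F33315)) (tt N5170 (iv D18626)))
theorem Q8548 : ∀ i, i < 8548 → P i := stepQ 8547 Q8547 (allL N8547 (tt N5174 F33316) (tt N11950 (iv F43212)) (tt N5172 F33317) (tt N7761 F33318) (tt N12713 (iv F45416)) (tt N8538 F33319) (tt N5171 (iv D18627)))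
theorem Q8549 : ∀ i, i < 8549 → P i := stepQ 8548 Q8548 (allL N8548 (tt N7760 F33322) (tt N8001 F33323) (tt N5173 (iv D18629)) (tt N8535 (iv F35359)) (tt N12803 D23038) (tt N7855 F33324) (tt N12804 D23039))
theorem Q8550 : ∀ i, i < 8550 → P i := stepQ 8549 Q8549 (allL N8549 (tt N7257 F33325) (tt N5197 F33326) (tt N12803 (iv F45683)) (tt N12715 (iv F45420)) (tt N5173 (iv D18630)) (tt N12792 (iv F45649)) (tt N12805 D23040))
theorem Q8551 : ∀ i, i < 8551 → P i := stepQ 8550 Q8550 (allL N8550 (tt N7761 F33327) (tt N5522 F33328) (tt N12804 (iv F45687)) (tt N5174 F33329) (tt N12805 (iv F45691)) (tt N11991 (iv F43325)) (tt N5173 (iv D18631)))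
theorem Q8552 : ∀ i, i < 8552 → P i := stepQ 8551 Q8551 (allL N8551 (tt N8538 F33330) (tt N12806 D23041) (tt N5175 F33331) (tt N11991 (iv F43324)) (tt N12717 (iv F45425)) (tt N5174 (iv D18632)) (tt N8536 F33332))
theorem Q8553 : ∀ i, i < 8553 → P i := stepQ 8552 Q8552 (allL N8552 (tt N8913 F35510) (tt N5175 (iv D18633)) (tt N12807 D23042) (tt N12394 (iv F44442)) (tt N12718 (iv F45428)) (tt N8339 F33333) (tt N12808 D23043))
theorem Q8554 : ∀ i, i < 8554 → P i := stepQ 8553 Q8553 (allL N8553 (tt N10301 (iv F38886)) (tt N5176 (iv D18634)) (tt N6970 (iv F38889)) (tt N6414 F33334) (tt N6969 (iv F38891)) (tt N6413 F33335) (tt N12809 D23044))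
theorem Q8555 : ∀ i, i < 8555 → P i := stepQ 8554 Q8554 (allL N8554 (tt N5852 F33336) (tt N5180 F33337) (tt N5616 F33338) (tt N5180 F33339) (tt N5179 (iv D18635)) (tt N5528 F33340) (tt N12810 D23045))
theorem Q8556 : ∀ i, i < 8556 → P i := stepQ 8555 Q8555 (allL N8555 (tt N5962 F33341) (tt N9485 (iv F36974)) (tt N5619 F33342) (tt N5621 F33343) (tt N12810 (iv F45711)) (tt N5619 F33344) (tt N5179 (iv D18636)))
theorem Q8557 : ∀ i, i < 8557 → P i := stepQ 8556 Q8556 (allL N8556 (tt N8572 (iv F33394)) (tt N11619 (iv F42378)) (tt N5182 F33345) (tt N12810 (iv F45710)) (tt N5181 F33346) (tt N5617 F33347) (tt N5180 (iv D18637)))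
theorem Q8558 : ∀ i, i < 8558 → P i := stepQ 8557 Q8557 (allL N8557 (tt N12811 D23046) (tt N5182 (iv D18638)) (tt N11472 (iv F42049)) (tt N12719 (iv F45431)) (tt N5183 F33348) (tt N11471 F42047) (tt N12763 (iv F45555)))
theorem Q8559 : ∀ i, i < 8559 → P i := stepQ 8558 Q8558 (allL N8558 (tt N5183 (iv D18639)) (tt N6556 F34135) (tt N12070 (iv F43520)) (tt N5184 F33349) (tt N12811 (iv F45714)) (tt N12112 (iv F43657)) (tt N12764 (iv F45559)))
theorem Q8560 : ∀ i, i < 8560 → P i := stepQ 8559 Q8559 (allL N8559 (tt N5464 F34130) (tt N5184 (iv D18640)) (tt N5463 (iv F34132)) (tt N6556 (iv F34133)) (tt N12723 (iv F45438)) (tt N6554 (iv F34134)) (tt N10457 (iv F39244)))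
theorem Q8561 : ∀ i, i < 8561 → P i := stepQ 8560 Q8560 (allL N8560 (tt N5185 F33350) (tt N12812 D23047) (tt N8533 F33351) (tt N12112 F43659) (tt N12724 (iv F45443)) (tt N5184 (iv D18641)) (tt N8505 F33352))
theorem Q8562 : ∀ i, i < 8562 → P i := stepQ 8561 Q8561 (allL N8561 (tt N8505 F33353) (tt N10316 (iv F38932)) (tt N8534 F33354) (tt N10317 F38931) (tt N12725 (iv F45447)) (tt N8504 F33355) (tt N5185 (iv D18642)))
theorem Q8563 : ∀ i, i < 8563 → P i := stepQ 8562 Q8562 (allL N8562 (tt N10338 (iv F38965)) (tt N5187 (iv D18643)) (tt N6981 (iv F38968)) (tt N6446 (iv F35280)) (tt N6980 (iv F38970)) (tt N12813 D23048) (tt N6444 F35279))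
theorem Q8564 : ∀ i, i < 8564 → P i := stepQ 8563 Q8563 (allL N8563 (tt N5860 (iv F34541)) (tt N5191 F33370) (tt N5650 F33371) (tt N5191 F33372) (tt N5190 (iv D18653)) (tt N12814 D23049) (tt N5572 F33373))
theorem Q8565 : ∀ i, i < 8565 → P i := stepQ 8564 Q8564 (allL N8564 (tt N5977 (iv F34545)) (tt N9475 (iv F36955)) (tt N5653 F33375) (tt N5654 F33376) (tt N12814 (iv F45723)) (tt N5190 (iv D18654)) (tt N5653 F33377))
theorem Q8566 : ∀ i, i < 8566 → P i := stepQ 8565 Q8565 (allL N8565 (tt N8581 (iv F33444)) (tt N11567 (iv F42259)) (tt N5193 F33378) (tt N12814 (iv F45722)) (tt N5192 F33379) (tt N5191 (iv D18655)) (tt N5651 F33380))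
theorem Q8567 : ∀ i, i < 8567 → P i := stepQ 8566 Q8566 (allL N8566 (tt N12815 D23050) (tt N5193 (iv D18657)) (tt N11314 (iv F41706)) (tt N12726 (iv F45449)) (tt N5194 F33382) (tt N12788 (iv F45639)) (tt N11312 F41703))
theorem Q8568 : ∀ i, i < 8568 → P i := stepQ 8567 Q8567 (allL N8567 (tt N5194 (iv D18658)) (tt N6595 (iv F35045)) (tt N11858 F42975) (tt N5195 F33383) (tt N12815 (iv F45726)) (tt N12789 (iv F45642)) (tt N11905 (iv F43101)))
theorem Q8569 : ∀ i, i < 8569 → P i := stepQ 8568 Q8568 (allL N8568 (tt N5505 (iv F34139)) (tt N5195 (iv D18661)) (tt N5504 F34138) (tt N6595 F35044) (tt N12730 (iv F45457)) (tt N10506 (iv F39349)) (tt N6593 (iv F35043)))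
theorem Q8570 : ∀ i, i < 8570 → P i := stepQ 8569 Q8569 (allL N8569 (tt N5196 F33386) (tt N12816 D23051) (tt N8504 F33387) (tt N11905 F43103) (tt N12731 (iv F45461)) (tt N8534 F33388) (tt N5195 (iv D18662)))
theorem Q8571 : ∀ i, i < 8571 → P i := stepQ 8570 Q8570 (allL N8570 (tt N8534 F33389) (tt N10353 F39011) (tt N8505 F33390) (tt N10354 (iv F39010)) (tt N12732 (iv F45465)) (tt N5196 (iv D18663)) (tt N8533 F33391))
theorem Q8572 : ∀ i, i < 8572 → P i := stepQ 8571 Q8571 (allL N8571 (tt N8578 F34888) (tt N5200 (iv D18664)) (tt N9907 (iv F37957)) (tt N9654 (iv F37421)) (tt N6019 F33392) (tt N8576 (iv F34887)) (tt N5203 F33393))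
theorem Q8573 : ∀ i, i < 8573 → P i := stepQ 8572 Q8572 (allL N8572 (tt N8556 F33394) (tt N12817 D23052) (tt N5532 F33395) (tt N9493 (iv F36992)) (tt N5202 F33396) (tt N5529 F33397) (tt N5201 (iv D18665)))
theorem Q8574 : ∀ i, i < 8574 → P i := stepQ 8573 Q8573 (allL N8573 (tt N6107 (iv F33400)) (tt N5202 (iv D18666)) (tt N6608 (iv F33401)) (tt N5203 F33398) (tt N12817 (iv F45730)) (tt N6105 F33399) (tt N9654 (iv F37424)))
theorem Q8575 : ∀ i, i < 8575 → P i := stepQ 8574 Q8574 (allL N8574 (tt N5203 (iv D18667)) (tt N12818 D23053) (tt N9912 (iv F37970)) (tt N6107 F33402) (tt N12460 (iv F44647)) (tt N6036 (iv F33403)) (tt N8578 (iv F34886)))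
theorem Q8576 : ∀ i, i < 8576 → P i := stepQ 8575 Q8575 (allL N8575 (tt N6036 F33404) (tt N8584 F34881) (tt N6147 F34882) (tt N6105 F33405) (tt N12461 (iv F44653)) (tt N5203 (iv D18668)) (tt N5204 F34883))
theorem Q8577 : ∀ i, i < 8577 → P i := stepQ 8576 Q8576 (allL N8576 (tt N5204 (iv D18669)) (tt N9717 (iv F37554)) (tt N6144 F33406) (tt N6108 F35204) (tt N9740 (iv F37626)) (tt N8571 F34887) (tt N6036 F34884))
theorem Q8578 : ∀ i, i < 8578 → P i := stepQ 8577 Q8577 (allL N8577 (tt N9740 (iv F37624)) (tt N5205 F33407) (tt N5631 F33408) (tt N9799 (iv F37738)) (tt N5204 (iv D18670)) (tt N9741 (iv F37633)) (tt N12461 (iv F44654)))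
theorem Q8579 : ∀ i, i < 8579 → P i := stepQ 8578 Q8578 (allL N8578 (tt N8571 (iv F34888)) (tt N5640 F33409) (tt N6146 F33410) (tt N9142 (iv F36027)) (tt N9741 (iv F37632)) (tt N5204 (iv D18671)) (tt N8574 F34886))
theorem Q8580 : ∀ i, i < 8580 → P i := stepQ 8579 Q8579 (allL N8579 (tt N5653 F33412) (tt N9799 F37740) (tt N5977 (iv F34546)) (tt N5205 (iv D18673)) (tt N9145 (iv F36034)) (tt N5641 F33414) (tt N5977 (iv F34548)))
theorem Q8581 : ∀ i, i < 8581 → P i := stepQ 8580 Q8580 (allL N8580 (tt N8587 (iv F35203)) (tt N5208 (iv D18686)) (tt N9924 (iv F38004)) (tt N9655 (iv F37426)) (tt N6035 F35363) (tt N5211 F33434) (tt N8585 F35202))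
theorem Q8582 : ∀ i, i < 8582 → P i := stepQ 8581 Q8581 (allL N8581 (tt N8565 F33444) (tt N12819 D23054) (tt N5576 F33445) (tt N9509 (iv F37025)) (tt N5210 F33446) (tt N5209 (iv D18690)) (tt N5573 F33447))
theorem Q8583 : ∀ i, i < 8583 → P i := stepQ 8582 Q8582 (allL N8582 (tt N6070 F35197) (tt N5210 (iv D18691)) (tt N6572 F35198) (tt N5211 F33448) (tt N12819 (iv F45740)) (tt N9655 (iv F37428)) (tt N6067 (iv F35192)))
theorem Q8584 : ∀ i, i < 8584 → P i := stepQ 8583 Q8583 (allL N8583 (tt N5211 (iv D18692)) (tt N12820 D23055) (tt N9929 (iv F38017)) (tt N6070 (iv F35199)) (tt N12494 (iv F44745)) (tt N8587 (iv F35201)) (tt N6020 F35200))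
theorem Q8585 : ∀ i, i < 8585 → P i := stepQ 8584 Q8584 (allL N8584 (tt N6020 F34877) (tt N8575 (iv F34881)) (tt N6159 F34878) (tt N6067 F34879) (tt N12495 (iv F44752)) (tt N5212 F34880) (tt N5211 (iv D18693)))
theorem Q8586 : ∀ i, i < 8586 → P i := stepQ 8585 Q8585 (allL N8585 (tt N5212 (iv D18694)) (tt N9725 (iv F37586)) (tt N6157 F33450) (tt N6069 F33451) (tt N9760 (iv F37673)) (tt N6020 (iv F33452)) (tt N8580 (iv F35202)))
theorem Q8587 : ∀ i, i < 8587 → P i := stepQ 8586 Q8586 (allL N8586 (tt N9760 (iv F37671)) (tt N5213 F33453) (tt N5664 F33454) (tt N9852 (iv F37834)) (tt N5212 (iv D18695)) (tt N12495 (iv F44753)) (tt N9761 (iv F37680)))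
theorem Q8588 : ∀ i, i < 8588 → P i := stepQ 8587 Q8587 (allL N8587 (tt N8580 F35203) (tt N5603 F33459) (tt N6160 F33460) (tt N9089 (iv F35894)) (tt N9761 (iv F37679)) (tt N8583 F35201) (tt N5212 (iv D18697)))
theorem Q8589 : ∀ i, i < 8589 → P i := stepQ 8588 Q8588 (allL N8588 (tt N5619 F33461) (tt N9852 F37836) (tt N5962 F33462) (tt N5213 (iv D18698)) (tt N9091 (iv F35900)) (tt N5962 F33463) (tt N5604 F33464))
theorem Q8590 : ∀ i, i < 8590 → P i := stepQ 8589 Q8589 (allL N8589 (tt N5217 F33465) (tt N11119 F41294) (tt N6935 F33466) (tt N5215 F33467) (tt N12503 (iv F44775)) (tt N5214 (iv D18699)) (tt N8596 (iv F33483)))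
theorem Q8591 : ∀ i, i < 8591 → P i := stepQ 8590 Q8590 (allL N8590 (tt N5218 F33468) (tt N11188 F41427) (tt N6936 F33469) (tt N5216 F33470) (tt N12504 (iv F44779)) (tt N8594 (iv F33477)) (tt N5214 (iv D18700)))
theorem Q8592 : ∀ i, i < 8592 → P i := stepQ 8591 Q8591 (allL N8591 (tt N7190 F33488) (tt N5215 (iv D18701)) (tt N10549 (iv F39458)) (tt N11119 (iv F41293)) (tt N5377 F33471) (tt N10548 F39455) (tt N12821 D23056))
theorem Q8593 : ∀ i, i < 8593 → P i := stepQ 8592 Q8592 (allL N8592 (tt N7291 (iv F34575)) (tt N5216 (iv D18702)) (tt N10605 (iv F39951)) (tt N11188 (iv F41426)) (tt N5378 F33472) (tt N12822 D23057) (tt N10603 F39946))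
theorem Q8594 : ∀ i, i < 8594 → P i := stepQ 8593 Q8593 (allL N8593 (tt N12823 D23058) (tt N5217 (iv D18703)) (tt N12824 D23059) (tt N5219 F33473) (tt N9781 (iv F37713)) (tt N5223 F33474) (tt N12825 D23060))
theorem Q8595 : ∀ i, i < 8595 → P i := stepQ 8594 Q8594 (allL N8594 (tt N8596 (iv F33480)) (tt N12826 D23061) (tt N6940 F33475) (tt N5220 F33476) (tt N12505 (iv F44782)) (tt N8590 F33477) (tt N5217 (iv D18704)))
theorem Q8596 : ∀ i, i < 8596 → P i := stepQ 8595 Q8595 (allL N8595 (tt N12827 D23062) (tt N5218 (iv D18705)) (tt N12828 D23063) (tt N5221 F33478) (tt N9834 (iv F37809)) (tt N12829 D23064) (tt N5224 F33479))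
theorem Q8597 : ∀ i, i < 8597 → P i := stepQ 8596 Q8596 (allL N8596 (tt N8594 F33480) (tt N12830 D23065) (tt N6942 F33481) (tt N5222 F33482) (tt N12506 (iv F44787)) (tt N5218 (iv D18706)) (tt N8589 F33483))
theorem Q8598 : ∀ i, i < 8598 → P i := stepQ 8597 Q8597 (allL N8597 (tt N5219 (iv D18707)) (tt N7203 (iv F33487)) (tt N6012 F33486) (tt N12823 (iv F45754)) (tt N5379 F33484) (tt N5225 F33485) (tt N8615 (iv F33517)))
theorem Q8599 : ∀ i, i < 8599 → P i := stepQ 8598 Q8598 (allL N8598 (tt N6012 F33489) (tt N10549 (iv F39457)) (tt N5219 (iv D18708)) (tt N9902 (iv F37946)) (tt N5380 F33490) (tt N5226 F33491) (tt N12831 D23066))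
theorem Q8600 : ∀ i, i < 8600 → P i := stepQ 8599 Q8599 (allL N8599 (tt N8615 (iv F33515)) (tt N12832 D23067) (tt N12831 (iv F45768)) (tt N12825 (iv F45758)) (tt N5381 F33492) (tt N8613 (iv F33512)) (tt N5219 (iv D18709)))
theorem Q8601 : ∀ i, i < 8601 → P i := stepQ 8600 Q8600 (allL N8600 (tt N12833 D23068) (tt N5220 (iv D18710)) (tt N12834 D23069) (tt N12826 (iv F45759)) (tt N5382 F33493) (tt N12835 D23070) (tt N12832 (iv F45773)))
theorem Q8602 : ∀ i, i < 8602 → P i := stepQ 8601 Q8601 (allL N8601 (tt N5221 (iv D18711)) (tt N7303 F34574) (tt N6028 (iv F35366)) (tt N12827 (iv F45761)) (tt N5383 F33494) (tt N8620 (iv F33528)) (tt N5228 F33495))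
theorem Q8603 : ∀ i, i < 8603 → P i := stepQ 8602 Q8602 (allL N8602 (tt N6028 F35367) (tt N10605 (iv F39950)) (tt N5221 (iv D18712)) (tt N9920 (iv F37996)) (tt N5384 F33496) (tt N12836 D23071) (tt N5229 F33497))
theorem Q8604 : ∀ i, i < 8604 → P i := stepQ 8603 Q8603 (allL N8603 (tt N8620 (iv F33526)) (tt N12837 D23072) (tt N12836 (iv F45789)) (tt N12829 (iv F45765)) (tt N5385 F33498) (tt N5221 (iv D18713)) (tt N8618 (iv F33523)))
theorem Q8605 : ∀ i, i < 8605 → P i := stepQ 8604 Q8604 (allL N8604 (tt N12838 D23073) (tt N5222 (iv D18714)) (tt N12839 D23074) (tt N12830 (iv F45766)) (tt N5386 F33499) (tt N12837 (iv F45794)) (tt N12840 D23075))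
theorem Q8606 : ∀ i, i < 8606 → P i := stepQ 8605 Q8605 (allL N8605 (tt N5223 (iv D18715)) (tt N12841 D23076) (tt N12842 D23077) (tt N5225 F33500) (tt N12509 (iv F44792)) (tt N12823 (iv F45755)) (tt N12843 D23078))
theorem Q8607 : ∀ i, i < 8607 → P i := stepQ 8606 Q8606 (allL N8606 (tt N12842 (iv F45811)) (tt N6910 F33501) (tt N5223 (iv D18716)) (tt N12844 D23079) (tt N12510 (iv F44794)) (tt N12824 (iv F45757)) (tt N12845 D23080))
theorem Q8608 : ∀ i, i < 8608 → P i := stepQ 8607 Q8607 (allL N8607 (tt N12843 (iv F45812)) (tt N8636 (iv F33559)) (tt N12845 (iv F45816)) (tt N5227 F33502) (tt N12511 (iv F44796)) (tt N12846 D23081) (tt N5223 (iv D18717)))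
theorem Q8609 : ∀ i, i < 8609 → P i := stepQ 8608 Q8608 (allL N8608 (tt N5224 (iv D18718)) (tt N12847 D23082) (tt N12848 D23083) (tt N5228 F33503) (tt N12512 (iv F44798)) (tt N12849 D23084) (tt N12827 (iv F45762)))
theorem Q8610 : ∀ i, i < 8610 → P i := stepQ 8609 Q8609 (allL N8609 (tt N12848 (iv F45821)) (tt N6914 F33504) (tt N5224 (iv D18719)) (tt N12850 D23085) (tt N12513 (iv F44800)) (tt N12851 D23086) (tt N12828 (iv F45764)))
theorem Q8611 : ∀ i, i < 8611 → P i := stepQ 8610 Q8610 (allL N8610 (tt N12849 (iv F45822)) (tt N8631 (iv F33553)) (tt N12851 (iv F45826)) (tt N5230 F33505) (tt N12514 (iv F44802)) (tt N5224 (iv D18720)) (tt N12852 D23087))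
theorem Q8612 : ∀ i, i < 8612 → P i := stepQ 8611 Q8611 (allL N8611 (tt N12853 D23088) (tt N5225 (iv D18721)) (tt N12854 D23089) (tt N12841 (iv F45810)) (tt N5387 F33506) (tt N12855 D23090) (tt N12856 D23091))
theorem Q8613 : ∀ i, i < 8613 → P i := stepQ 8612 Q8612 (allL N8612 (tt N5226 F33507) (tt N9897 (iv F37931)) (tt N5225 (iv D18722)) (tt N9897 (iv F37932)) (tt N5388 F33508) (tt N6012 F33509) (tt N12857 D23092))
theorem Q8614 : ∀ i, i < 8614 → P i := stepQ 8613 Q8613 (allL N8613 (tt N5227 F33510) (tt N12858 D23093) (tt N12857 (iv F45843)) (tt N12843 (iv F45813)) (tt N5389 F33511) (tt N8599 F33512) (tt N5225 (iv D18723)))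
theorem Q8615 : ∀ i, i < 8615 → P i := stepQ 8614 Q8614 (allL N8614 (tt N12857 (iv F45842)) (tt N12269 (iv F44060)) (tt N5227 F33513) (tt N9903 (iv F37949)) (tt N5390 F33514) (tt N9732 (iv F37609)) (tt N5226 (iv D18724)))
theorem Q8616 : ∀ i, i < 8616 → P i := stepQ 8615 Q8615 (allL N8615 (tt N8599 F33515) (tt N12564 F44941) (tt N9732 (iv F37607)) (tt N12846 (iv F45818)) (tt N5391 F33516) (tt N5227 (iv D18725)) (tt N8597 F33517))
theorem Q8617 : ∀ i, i < 8617 → P i := stepQ 8616 Q8616 (allL N8616 (tt N12859 D23094) (tt N5228 (iv D18726)) (tt N12860 D23095) (tt N12847 (iv F45820)) (tt N5392 F33518) (tt N12861 D23096) (tt N12862 D23097))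
theorem Q8618 : ∀ i, i < 8618 → P i := stepQ 8617 Q8617 (allL N8617 (tt N5229 F33519) (tt N9914 (iv F37978)) (tt N5228 (iv D18727)) (tt N9914 (iv F37979)) (tt N5393 F33520) (tt N12863 D23098) (tt N6028 F35368))
theorem Q8619 : ∀ i, i < 8619 → P i := stepQ 8618 Q8618 (allL N8618 (tt N5230 F33521) (tt N12864 D23099) (tt N12863 (iv F45863)) (tt N12849 (iv F45823)) (tt N5394 F33522) (tt N5228 (iv D18728)) (tt N8603 F33523))
theorem Q8620 : ∀ i, i < 8620 → P i := stepQ 8619 Q8619 (allL N8619 (tt N12863 (iv F45862)) (tt N12327 (iv F44197)) (tt N5230 F33524) (tt N9919 (iv F37991)) (tt N5395 F33525) (tt N5229 (iv D18730)) (tt N9752 (iv F37655)))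
theorem Q8621 : ∀ i, i < 8621 → P i := stepQ 8620 Q8620 (allL N8620 (tt N8603 F33526) (tt N12558 F44926) (tt N9752 (iv F37653)) (tt N12852 (iv F45828)) (tt N5396 F33527) (tt N8601 F33528) (tt N5230 (iv D18731)))
theorem Q8622 : ∀ i, i < 8622 → P i := stepQ 8621 Q8621 (allL N8621 (tt N5231 (iv D18732)) (tt N8227 (iv F33530)) (tt N8224 F33531) (tt N6893 F33529) (tt N8622 (iv F33534)) (tt N8622 (iv F33535)) (tt N12865 D23100))
theorem Q8623 : ∀ i, i < 8623 → P i := stepQ 8622 Q8622 (allL N8622 (tt N8224 F33532) (tt N5234 F33533) (tt N5231 (iv D18733)) (tt N7167 (iv F33538)) (tt N8621 F33534) (tt N8621 F33535) (tt N11184 (iv F41420)))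
theorem Q8624 : ∀ i, i < 8624 → P i := stepQ 8623 Q8623 (allL N8623 (tt N12865 (iv F45870)) (tt N10882 (iv F40738)) (tt N11184 F41422) (tt N6895 F33539) (tt N12521 (iv F44826)) (tt N11184 F41421) (tt N5231 (iv D18734)))
theorem Q8625 : ∀ i, i < 8625 → P i := stepQ 8624 Q8624 (allL N8624 (tt N5232 (iv D18735)) (tt N8231 (iv F33541)) (tt N8225 F33542) (tt N6896 F33540) (tt N8625 (iv F33545)) (tt N12866 D23101) (tt N8625 (iv F33546)))
theorem Q8626 : ∀ i, i < 8626 → P i := stepQ 8625 Q8625 (allL N8625 (tt N8225 F33543) (tt N5238 F33544) (tt N5232 (iv D18736)) (tt N7270 (iv F33547)) (tt N8624 F33545) (tt N11114 F41283) (tt N8624 F33546))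
theorem Q8627 : ∀ i, i < 8627 → P i := stepQ 8626 Q8626 (allL N8626 (tt N12866 (iv F45876)) (tt N10874 (iv F40721)) (tt N11114 (iv F41284)) (tt N6898 F33548) (tt N12522 (iv F44830)) (tt N5232 (iv D18737)) (tt N11114 (iv F41285)))
theorem Q8628 : ∀ i, i < 8628 → P i := stepQ 8627 Q8627 (allL N8627 (tt N12867 D23102) (tt N5233 (iv D18738)) (tt N12868 D23103) (tt N5241 F33549) (tt N11294 (iv F41663)) (tt N11293 F41660) (tt N12869 D23104))
theorem Q8629 : ∀ i, i < 8629 → P i := stepQ 8628 Q8628 (allL N8628 (tt N12870 D23105) (tt N5235 (iv D18739)) (tt N12871 D23106) (tt N5245 F33550) (tt N12523 (iv F44832)) (tt N12872 D23107) (tt N5236 F33551))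
theorem Q8630 : ∀ i, i < 8630 → P i := stepQ 8629 Q8629 (allL N8629 (tt N5236 (iv D18740)) (tt N12873 D23108) (tt N12874 D23109) (tt N5246 F33552) (tt N12524 (iv F44835)) (tt N12875 D23110) (tt N12870 (iv F45888)))
theorem Q8631 : ∀ i, i < 8631 → P i := stepQ 8630 Q8630 (allL N8630 (tt N12874 (iv F45892)) (tt N10881 (iv F40736)) (tt N5236 (iv D18741)) (tt N12876 D23111) (tt N12525 (iv F44836)) (tt N12877 D23112) (tt N12871 (iv F45889)))
theorem Q8632 : ∀ i, i < 8632 → P i := stepQ 8631 Q8631 (allL N8631 (tt N12875 (iv F45894)) (tt N8610 F33553) (tt N12877 (iv F45900)) (tt N5248 F33554) (tt N12526 (iv F44839)) (tt N5236 (iv D18742)) (tt N12878 D23113))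
theorem Q8633 : ∀ i, i < 8633 → P i := stepQ 8632 Q8632 (allL N8632 (tt N12879 D23114) (tt N5237 (iv D18743)) (tt N12880 D23115) (tt N5249 F33555) (tt N11454 (iv F42008)) (tt N12881 D23116) (tt N11452 F42004))
theorem Q8634 : ∀ i, i < 8634 → P i := stepQ 8633 Q8633 (allL N8633 (tt N12882 D23117) (tt N5239 (iv D18744)) (tt N12883 D23118) (tt N5253 F33556) (tt N12527 (iv F44841)) (tt N5240 F33557) (tt N12884 D23119))
theorem Q8635 : ∀ i, i < 8635 → P i := stepQ 8634 Q8634 (allL N8634 (tt N5240 (iv D18745)) (tt N12885 D23120) (tt N12886 D23121) (tt N5254 F33558) (tt N12528 (iv F44844)) (tt N12882 (iv F45910)) (tt N12887 D23122))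
theorem Q8636 : ∀ i, i < 8636 → P i := stepQ 8635 Q8635 (allL N8635 (tt N12886 (iv F45914)) (tt N10873 (iv F40719)) (tt N5240 (iv D18746)) (tt N12888 D23123) (tt N12529 (iv F44845)) (tt N12883 (iv F45911)) (tt N12889 D23124))
theorem Q8637 : ∀ i, i < 8637 → P i := stepQ 8636 Q8636 (allL N8636 (tt N12887 (iv F45916)) (tt N8607 F33559) (tt N12889 (iv F45922)) (tt N5256 F33560) (tt N12530 (iv F44848)) (tt N12890 D23125) (tt N5240 (iv D18747)))
theorem Q8638 : ∀ i, i < 8638 → P i := stepQ 8637 Q8637 (allL N8637 (tt N5241 (iv D18748)) (tt N12853 (iv F45830)) (tt N8639 (iv F33566)) (tt N12867 (iv F45882)) (tt N5397 F33561) (tt N8638 F33563) (tt N7311 (iv F35515)))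
theorem Q8639 : ∀ i, i < 8639 → P i := stepQ 8638 Q8638 (allL N8638 (tt N8639 (iv F33564)) (tt N9773 (iv F37699)) (tt N5241 (iv D18749)) (tt N12891 D23126) (tt N5398 F33562) (tt N8637 (iv F33563)) (tt N12892 D23127))
theorem Q8640 : ∀ i, i < 8640 → P i := stepQ 8639 Q8639 (allL N8639 (tt N8638 F33564) (tt N5275 F33565) (tt N8637 F33566) (tt N11293 (iv F41659)) (tt N5399 F33567) (tt N5241 (iv D18750)) (tt N11456 (iv F42017)))
theorem Q8641 : ∀ i, i < 8641 → P i := stepQ 8640 Q8640 (allL N8640 (tt N7311 (iv F35514)) (tt N8726 (iv F33734)) (tt N12892 (iv F45930)) (tt N12869 (iv F45886)) (tt N5400 F33568) (tt N12892 (iv F45932)) (tt N5241 (iv D18751)))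
theorem Q8642 : ∀ i, i < 8642 → P i := stepQ 8641 Q8641 (allL N8641 (tt N5243 F33569) (tt N9560 (iv F37188)) (tt N10122 (iv F38499)) (tt N5242 (iv D18752)) (tt N9558 (iv F37182)) (tt N5278 F33570) (tt N8714 (iv F33715)))
theorem Q8643 : ∀ i, i < 8643 → P i := stepQ 8642 Q8642 (allL N8642 (tt N9558 (iv F37180)) (tt N8788 (iv F33857)) (tt N5358 F33571) (tt N5401 F33572) (tt N5243 (iv D18753)) (tt N5281 F33573) (tt N12893 D23128))
theorem Q8644 : ∀ i, i < 8644 → P i := stepQ 8643 Q8643 (allL N8643 (tt N8714 (iv F33713)) (tt N12894 D23129) (tt N11247 (iv F41561)) (tt N5244 F33574) (tt N12893 (iv F45935)) (tt N8707 (iv F33703)) (tt N5243 (iv D18754)))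
theorem Q8645 : ∀ i, i < 8645 → P i := stepQ 8644 Q8644 (allL N8644 (tt N12895 D23130) (tt N5244 (iv D18755)) (tt N12896 D23131) (tt N12894 (iv F45936)) (tt N5403 F33575) (tt N12897 D23132) (tt N12624 (iv F45170)))
theorem Q8646 : ∀ i, i < 8646 → P i := stepQ 8645 Q8645 (allL N8645 (tt N5245 (iv D18756)) (tt N12898 D23133) (tt N10745 (iv F40333)) (tt N12870 (iv F45887)) (tt N5404 F33576) (tt N8652 (iv F33591)) (tt N5246 F33577))
theorem Q8647 : ∀ i, i < 8647 → P i := stepQ 8646 Q8646 (allL N8646 (tt N10745 (iv F40332)) (tt N12896 (iv F45938)) (tt N5245 (iv D18757)) (tt N7267 F39760) (tt N5405 F33578) (tt N10771 (iv F40421)) (tt N5247 F33579))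
theorem Q8648 : ∀ i, i < 8648 → P i := stepQ 8647 Q8647 (allL N8647 (tt N8652 (iv F33589)) (tt N8711 (iv F33707)) (tt N10771 (iv F40420)) (tt N12872 (iv F45890)) (tt N5406 F33580) (tt N5245 (iv D18758)) (tt N8650 (iv F33586)))
theorem Q8649 : ∀ i, i < 8649 → P i := stepQ 8648 Q8648 (allL N8648 (tt N12899 D23134) (tt N5246 (iv D18759)) (tt N12900 D23135) (tt N12873 (iv F45891)) (tt N5407 F33581) (tt N12563 F44939) (tt N12901 D23136))
theorem Q8650 : ∀ i, i < 8650 → P i := stepQ 8649 Q8649 (allL N8649 (tt N5247 F33582) (tt N12902 D23137) (tt N5246 (iv D18760)) (tt N10184 F39785) (tt N5408 F33583) (tt N12903 D23138) (tt N10745 (iv F40335)))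
theorem Q8651 : ∀ i, i < 8651 → P i := stepQ 8650 Q8650 (allL N8650 (tt N5248 F33584) (tt N12545 (iv F44886)) (tt N12903 (iv F45953)) (tt N12875 (iv F45895)) (tt N5409 F33585) (tt N5246 (iv D18761)) (tt N8647 F33586))
theorem Q8652 : ∀ i, i < 8652 → P i := stepQ 8651 Q8651 (allL N8651 (tt N12903 (iv F45952)) (tt N12904 D23139) (tt N5248 F33587) (tt N10185 F39787) (tt N5411 F33588) (tt N5247 (iv D18763)) (tt N6826 (iv F35994)))
theorem Q8653 : ∀ i, i < 8653 → P i := stepQ 8652 Q8652 (allL N8652 (tt N8647 F33589) (tt N12905 D23140) (tt N6826 F35995) (tt N12878 (iv F45902)) (tt N5412 F33590) (tt N8645 F33591) (tt N5248 (iv D18764)))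
theorem Q8654 : ∀ i, i < 8654 → P i := stepQ 8653 Q8653 (allL N8653 (tt N5249 (iv D18765)) (tt N12859 (iv F45850)) (tt N8656 (iv F34669)) (tt N12879 (iv F45904)) (tt N5413 F33592) (tt N7211 F35545) (tt N8654 F34668))
theorem Q8655 : ∀ i, i < 8655 → P i := stepQ 8654 Q8654 (allL N8654 (tt N8656 F34664) (tt N9827 (iv F37798)) (tt N5249 (iv D18766)) (tt N12906 D23141) (tt N5414 F33593) (tt N12907 D23142) (tt N8653 (iv F34668)))
theorem Q8656 : ∀ i, i < 8656 → P i := stepQ 8655 Q8655 (allL N8655 (tt N7211 F35544) (tt N8771 (iv F33821)) (tt N12907 (iv F45969)) (tt N12881 (iv F45908)) (tt N5415 F33594) (tt N5249 (iv D18767)) (tt N12907 (iv F45971)))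
theorem Q8657 : ∀ i, i < 8657 → P i := stepQ 8656 Q8656 (allL N8656 (tt N8654 (iv F34664)) (tt N5298 F33595) (tt N8653 F34669) (tt N11452 (iv F42003)) (tt N5416 F33596) (tt N11298 F41676) (tt N5249 (iv D18768)))
theorem Q8658 : ∀ i, i < 8658 → P i := stepQ 8657 Q8657 (allL N8657 (tt N5251 F33598) (tt N9598 (iv F37274)) (tt N10156 (iv F38583)) (tt N5250 (iv D18770)) (tt N9596 (iv F37268)) (tt N8759 (iv F33802)) (tt N5300 F33599))
theorem Q8659 : ∀ i, i < 8659 → P i := stepQ 8658 Q8658 (allL N8658 (tt N9596 (iv F37266)) (tt N8825 F34795) (tt N5368 F34796) (tt N5417 F33600) (tt N5251 (iv D18771)) (tt N12908 D23143) (tt N5303 F33601))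
theorem Q8660 : ∀ i, i < 8660 → P i := stepQ 8659 Q8659 (allL N8659 (tt N8759 (iv F33800)) (tt N12909 D23144) (tt N11410 (iv F41911)) (tt N5252 F33602) (tt N12908 (iv F45974)) (tt N5251 (iv D18772)) (tt N8752 (iv F33790)))
theorem Q8661 : ∀ i, i < 8661 → P i := stepQ 8660 Q8660 (allL N8660 (tt N12910 D23145) (tt N5252 (iv D18773)) (tt N12911 D23146) (tt N12909 (iv F45975)) (tt N5419 F33603) (tt N12635 (iv F45198)) (tt N12912 D23147))
theorem Q8662 : ∀ i, i < 8662 → P i := stepQ 8661 Q8661 (allL N8661 (tt N5253 (iv D18774)) (tt N12913 D23148) (tt N10663 (iv F40116)) (tt N12882 (iv F45909)) (tt N5420 F33604) (tt N5254 F33605) (tt N8668 (iv F33619)))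
theorem Q8663 : ∀ i, i < 8663 → P i := stepQ 8662 Q8662 (allL N8662 (tt N10663 (iv F40115)) (tt N12911 (iv F45977)) (tt N5253 (iv D18775)) (tt N7367 F39716) (tt N5421 F33606) (tt N5255 F33607) (tt N10687 (iv F40193)))
theorem Q8664 : ∀ i, i < 8664 → P i := stepQ 8663 Q8663 (allL N8663 (tt N8668 (iv F33617)) (tt N8756 (iv F33794)) (tt N10687 (iv F40192)) (tt N12884 (iv F45912)) (tt N5422 F33608) (tt N8666 (iv F33614)) (tt N5253 (iv D18776)))
theorem Q8665 : ∀ i, i < 8665 → P i := stepQ 8664 Q8664 (allL N8664 (tt N12914 D23149) (tt N5254 (iv D18777)) (tt N12915 D23150) (tt N12885 (iv F45913)) (tt N5423 F33609) (tt N12916 D23151) (tt N12557 F44924))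
theorem Q8666 : ∀ i, i < 8666 → P i := stepQ 8665 Q8665 (allL N8665 (tt N5255 F33610) (tt N12917 D23152) (tt N5254 (iv D18778)) (tt N10151 F39741) (tt N5424 F33611) (tt N10663 (iv F40117)) (tt N12918 D23153))
theorem Q8667 : ∀ i, i < 8667 → P i := stepQ 8666 Q8666 (allL N8666 (tt N5256 F33612) (tt N12536 (iv F44862)) (tt N12918 (iv F45993)) (tt N12887 (iv F45917)) (tt N5425 F33613) (tt N8663 F33614) (tt N5254 (iv D18779)))
theorem Q8668 : ∀ i, i < 8668 → P i := stepQ 8667 Q8667 (allL N8667 (tt N12918 (iv F45992)) (tt N12919 D23154) (tt N5256 F33615) (tt N10152 F39743) (tt N5427 F33616) (tt N6752 (iv F36139)) (tt N5255 (iv D18781)))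
theorem Q8669 : ∀ i, i < 8669 → P i := stepQ 8668 Q8668 (allL N8668 (tt N8663 F33617) (tt N12920 D23155) (tt N6752 F36140) (tt N12890 (iv F45924)) (tt N5428 F33618) (tt N5256 (iv D18782)) (tt N8661 F33619))
theorem Q8670 : ∀ i, i < 8670 → P i := stepQ 8669 Q8669 (allL N8669 (tt N5257 (iv D18783)) (tt N7002 F33620) (tt N7003 F33621) (tt N5273 F33622) (tt N7002 F33623) (tt N7099 F33624) (tt N12921 D23156))
theorem Q8671 : ∀ i, i < 8671 → P i := stepQ 8670 Q8670 (allL N8670 (tt N12921 (iv F46005)) (tt N12922 D23157) (tt N7092 F33625) (tt N5276 F33626) (tt N11032 (iv F41108)) (tt N11122 (iv F41302)) (tt N5257 (iv D18784)))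
theorem Q8672 : ∀ i, i < 8672 → P i := stepQ 8671 Q8671 (allL N8671 (tt N12923 D23158) (tt N5258 (iv D18785)) (tt N12924 D23159) (tt N5280 F33627) (tt N12549 (iv F44898)) (tt N12925 D23160) (tt N12922 (iv F46011)))
theorem Q8673 : ∀ i, i < 8673 → P i := stepQ 8672 Q8672 (allL N8672 (tt N12926 D23161) (tt N5259 (iv D18786)) (tt N12926 (iv F46020)) (tt N7168 F33628) (tt N12550 (iv F44901)) (tt N10933 F40879) (tt N12550 (iv F44903)))
theorem Q8674 : ∀ i, i < 8674 → P i := stepQ 8673 Q8673 (allL N8673 (tt N5260 (iv D18787)) (tt N12927 D23162) (tt N7156 F37355) (tt N5285 F33629) (tt N8690 (iv F33665)) (tt N8680 (iv F33642)) (tt N5262 F33630))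
theorem Q8675 : ∀ i, i < 8675 → P i := stepQ 8674 Q8674 (allL N8674 (tt N7156 (iv F37356)) (tt N12926 F46021) (tt N5260 (iv D18788)) (tt N7343 F37357) (tt N8691 (iv F33669)) (tt N11221 (iv F41503)) (tt N5263 F33631))
theorem Q8676 : ∀ i, i < 8676 → P i := stepQ 8675 Q8675 (allL N8675 (tt N8680 (iv F33640)) (tt N12928 D23163) (tt N11221 (iv F41500)) (tt N5287 F33632) (tt N8692 (iv F33672)) (tt N5260 (iv D18789)) (tt N8678 (iv F33638)))
theorem Q8677 : ∀ i, i < 8677 → P i := stepQ 8676 Q8676 (allL N8676 (tt N12929 D23164) (tt N5261 (iv D18790)) (tt N12930 D23165) (tt N5288 F33633) (tt N12551 (iv F44906)) (tt N12928 (iv F46024)) (tt N12931 D23166))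
theorem Q8678 : ∀ i, i < 8678 → P i := stepQ 8677 Q8677 (allL N8677 (tt N12932 D23167) (tt N5262 (iv D18791)) (tt N7157 F37364) (tt N5289 F33634) (tt N8689 (iv F33660)) (tt N12933 D23168) (tt N12934 D23169))
theorem Q8679 : ∀ i, i < 8679 → P i := stepQ 8678 Q8678 (allL N8678 (tt N5264 F33636) (tt N12935 D23170) (tt N7155 F37360) (tt N5291 F33637) (tt N8685 (iv F33652)) (tt N5262 (iv D18793)) (tt N8675 F33638))
theorem Q8680 : ∀ i, i < 8680 → P i := stepQ 8679 Q8679 (allL N8679 (tt N7155 (iv F37361)) (tt N10923 F40858) (tt N5264 F33639) (tt N7342 F37362) (tt N8686 (iv F33654)) (tt N5263 (iv D18795)) (tt N10926 (iv F40865)))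
theorem Q8681 : ∀ i, i < 8681 → P i := stepQ 8680 Q8680 (allL N8680 (tt N8675 F33640) (tt N12936 D23171) (tt N10926 F40866) (tt N5294 F33641) (tt N8687 (iv F33657)) (tt N8673 F33642) (tt N5264 (iv D18796)))
theorem Q8682 : ∀ i, i < 8682 → P i := stepQ 8681 Q8681 (allL N8681 (tt N5265 (iv D18797)) (tt N7018 F35351) (tt N7019 (iv F34680)) (tt N5295 F33644) (tt N7018 (iv F34682)) (tt N12937 D23172) (tt N7139 F34678))
theorem Q8683 : ∀ i, i < 8683 → P i := stepQ 8682 Q8682 (allL N8682 (tt N12937 (iv F46037)) (tt N12938 D23173) (tt N7131 F33645) (tt N5297 F33646) (tt N11070 (iv F41192)) (tt N5265 (iv D18798)) (tt N11191 (iv F41435)))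
theorem Q8684 : ∀ i, i < 8684 → P i := stepQ 8683 Q8683 (allL N8683 (tt N12939 D23174) (tt N5266 (iv D18800)) (tt N12940 D23175) (tt N5302 F33649) (tt N12552 (iv F44908)) (tt N12938 (iv F46043)) (tt N12941 D23176))
theorem Q8685 : ∀ i, i < 8685 → P i := stepQ 8684 Q8684 (allL N8684 (tt N12942 D23177) (tt N5267 (iv D18801)) (tt N12942 (iv F46052)) (tt N7269 F33650) (tt N12553 (iv F44911)) (tt N12553 (iv F44912)) (tt N10922 F40856))
theorem Q8686 : ∀ i, i < 8686 → P i := stepQ 8685 Q8685 (allL N8685 (tt N5268 (iv D18802)) (tt N12943 D23178) (tt N7115 (iv F37349)) (tt N5307 F33651) (tt N8678 F33652) (tt N5270 F33653) (tt N8692 (iv F33673)))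
theorem Q8687 : ∀ i, i < 8687 → P i := stepQ 8686 Q8686 (allL N8686 (tt N7115 F37359) (tt N12942 F46053) (tt N5268 (iv D18803)) (tt N7242 (iv F37363)) (tt N8679 F33654) (tt N5271 F33655) (tt N11153 (iv F41371)))
theorem Q8688 : ∀ i, i < 8688 → P i := stepQ 8687 Q8687 (allL N8687 (tt N8692 (iv F33670)) (tt N12944 D23179) (tt N11153 (iv F41368)) (tt N5309 F33656) (tt N8680 F33657) (tt N8690 (iv F33666)) (tt N5268 (iv D18804)))
theorem Q8689 : ∀ i, i < 8689 → P i := stepQ 8688 Q8688 (allL N8688 (tt N12945 D23180) (tt N5269 (iv D18805)) (tt N12946 D23181) (tt N5310 F33658) (tt N12554 (iv F44916)) (tt N12947 D23182) (tt N12944 (iv F46058)))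
theorem Q8690 : ∀ i, i < 8690 → P i := stepQ 8689 Q8689 (allL N8689 (tt N12948 D23183) (tt N5270 (iv D18806)) (tt N7117 (iv F37348)) (tt N5311 F33659) (tt N8677 F33660) (tt N12949 D23184) (tt N12950 D23185))
theorem Q8691 : ∀ i, i < 8691 → P i := stepQ 8690 Q8690 (allL N8690 (tt N5272 F33663) (tt N12951 D23186) (tt N7116 (iv F37350)) (tt N5313 F33664) (tt N8673 F33665) (tt N8687 F33666) (tt N5270 (iv D18808)))
theorem Q8692 : ∀ i, i < 8692 → P i := stepQ 8691 Q8691 (allL N8691 (tt N7116 F37354) (tt N10932 F40873) (tt N5272 F33668) (tt N7243 (iv F37358)) (tt N8674 F33669) (tt N10936 (iv F40886)) (tt N5271 (iv D18810)))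
theorem Q8693 : ∀ i, i < 8693 → P i := stepQ 8692 Q8692 (allL N8692 (tt N8687 F33670) (tt N12952 D23187) (tt N10936 F40887) (tt N5316 F33671) (tt N8675 F33672) (tt N5272 (iv D18811)) (tt N8685 F33673))
theorem Q8694 : ∀ i, i < 8694 → P i := stepQ 8693 Q8693 (allL N8693 (tt N5274 F33674) (tt N5319 F33675) (tt N5273 (iv D18812)) (tt N12953 D23188) (tt N5429 F33676) (tt N12954 D23189) (tt N12955 D23190))
theorem Q8695 : ∀ i, i < 8695 → P i := stepQ 8694 Q8694 (allL N8694 (tt N5275 F33677) (tt N11268 (iv F41611)) (tt N12954 (iv F46081)) (tt N7099 F33678) (tt N5430 F33679) (tt N5273 (iv D18813)) (tt N8702 (iv F33695)))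
theorem Q8696 : ∀ i, i < 8696 → P i := stepQ 8695 Q8695 (allL N8695 (tt N5276 F33680) (tt N12956 D23191) (tt N12955 (iv F46084)) (tt N12921 (iv F46007)) (tt N5431 F33681) (tt N8700 (iv F33690)) (tt N5273 (iv D18814)))
theorem Q8697 : ∀ i, i < 8697 → P i := stepQ 8696 Q8696 (allL N8696 (tt N5277 F33682) (tt N5274 (iv D18815)) (tt N5277 F33683) (tt N12957 D23192) (tt N5432 F33684) (tt N12958 D23193) (tt N12959 D23194))
theorem Q8698 : ∀ i, i < 8698 → P i := stepQ 8697 Q8697 (allL N8697 (tt N12953 (iv F46077)) (tt N12957 (iv F46091)) (tt N12960 D23195) (tt N5274 (iv D18816)) (tt N12961 D23196) (tt N12962 D23197) (tt N12963 D23198))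
theorem Q8699 : ∀ i, i < 8699 → P i := stepQ 8698 Q8698 (allL N8698 (tt N12954 (iv F46079)) (tt N11682 (iv F42504)) (tt N5275 F33685) (tt N12962 (iv F46099)) (tt N5434 F33686) (tt N5274 (iv D18817)) (tt N12964 D23199))
theorem Q8700 : ∀ i, i < 8700 → P i := stepQ 8699 Q8699 (allL N8699 (tt N12955 (iv F46083)) (tt N12965 D23200) (tt N5276 F33687) (tt N12963 (iv F46100)) (tt N5435 F33688) (tt N12966 D23201) (tt N5274 (iv D18818)))
theorem Q8701 : ∀ i, i < 8701 → P i := stepQ 8700 Q8700 (allL N8700 (tt N8702 (iv F33693)) (tt N11457 (iv F42018)) (tt N12964 (iv F46101)) (tt N11300 (iv F41684)) (tt N5436 F33689) (tt N8695 F33690) (tt N5275 (iv D18819)))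
theorem Q8702 : ∀ i, i < 8702 → P i := stepQ 8701 Q8701 (allL N8701 (tt N12967 D23202) (tt N5276 (iv D18820)) (tt N12968 D23203) (tt N12922 (iv F46010)) (tt N5437 F33691) (tt N12969 D23204) (tt N5280 F33692))
theorem Q8703 : ∀ i, i < 8703 → P i := stepQ 8702 Q8702 (allL N8702 (tt N8700 F33693) (tt N12970 D23205) (tt N12966 (iv F46106)) (tt N11122 (iv F41300)) (tt N5438 F33694) (tt N5276 (iv D18821)) (tt N8694 F33695))
theorem Q8704 : ∀ i, i < 8704 → P i := stepQ 8703 Q8703 (allL N8703 (tt N12957 (iv F46090)) (tt N5278 F33696) (tt N10125 (iv F38509)) (tt N5277 (iv D18822)) (tt N12971 D23206) (tt N12972 D23207) (tt N12973 D23208))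
theorem Q8705 : ∀ i, i < 8705 → P i := stepQ 8704 Q8704 (allL N8704 (tt N12958 (iv F46092)) (tt N9671 (iv F37473)) (tt N12958 (iv F46093)) (tt N12972 (iv F46124)) (tt N5440 F33697) (tt N5277 (iv D18823)) (tt N12974 D23209))
theorem Q8706 : ∀ i, i < 8706 → P i := stepQ 8705 Q8705 (allL N8705 (tt N12959 (iv F46095)) (tt N12975 D23210) (tt N12959 (iv F46096)) (tt N12973 (iv F46125)) (tt N5441 F33698) (tt N12976 D23211) (tt N5277 (iv D18824)))
theorem Q8707 : ∀ i, i < 8707 → P i := stepQ 8706 Q8706 (allL N8706 (tt N5281 F33699) (tt N12971 (iv F46122)) (tt N10121 (iv F38495)) (tt N5442 F33700) (tt N5278 (iv D18825)) (tt N9558 (iv F37183)) (tt N12977 D23212))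
theorem Q8708 : ∀ i, i < 8708 → P i := stepQ 8707 Q8707 (allL N8707 (tt N5282 F33701) (tt N12978 D23213) (tt N10123 (iv F38503)) (tt N5279 F33702) (tt N12977 (iv F46136)) (tt N8643 F33703) (tt N5278 (iv D18826)))
theorem Q8709 : ∀ i, i < 8709 → P i := stepQ 8708 Q8708 (allL N8708 (tt N12979 D23214) (tt N5279 (iv D18827)) (tt N12980 D23215) (tt N12978 (iv F46138)) (tt N5444 F33704) (tt N12981 D23216) (tt N12975 (iv F46129)))
theorem Q8710 : ∀ i, i < 8710 → P i := stepQ 8709 Q8709 (allL N8709 (tt N5280 (iv D18828)) (tt N12982 D23217) (tt N12983 D23218) (tt N12923 (iv F46012)) (tt N5445 F33705) (tt N12984 D23219) (tt N12967 (iv F46110)))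
theorem Q8711 : ∀ i, i < 8711 → P i := stepQ 8710 Q8710 (allL N8710 (tt N12983 (iv F46147)) (tt N12980 (iv F46140)) (tt N5280 (iv D18829)) (tt N12985 D23220) (tt N5446 F33706) (tt N12986 D23221) (tt N12968 (iv F46116)))
theorem Q8712 : ∀ i, i < 8712 → P i := stepQ 8711 Q8711 (allL N8711 (tt N12984 (iv F46151)) (tt N8647 F33707) (tt N12986 (iv F46155)) (tt N12925 (iv F46015)) (tt N5447 F33708) (tt N5280 (iv D18830)) (tt N12543 F44882))
theorem Q8713 : ∀ i, i < 8713 → P i := stepQ 8712 Q8712 (allL N8712 (tt N12977 (iv F46134)) (tt N12987 D23222) (tt N11246 (iv F41558)) (tt N5448 F33709) (tt N5282 F33710) (tt N12988 D23223) (tt N5281 (iv D18831)))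
theorem Q8714 : ∀ i, i < 8714 → P i := stepQ 8713 Q8713 (allL N8713 (tt N12989 D23224) (tt N5282 (iv D18832)) (tt N12990 D23225) (tt N5283 F33711) (tt N12987 (iv F46158)) (tt N12991 D23226) (tt N5325 F33712))
theorem Q8715 : ∀ i, i < 8715 → P i := stepQ 8714 Q8714 (allL N8714 (tt N8643 F33713) (tt N12992 D23227) (tt N11249 (iv F41567)) (tt N5284 F33714) (tt N12988 (iv F46162)) (tt N5282 (iv D18833)) (tt N8641 F33715))
theorem Q8716 : ∀ i, i < 8716 → P i := stepQ 8715 Q8715 (allL N8715 (tt N5283 (iv D18834)) (tt N12993 D23228) (tt N12994 D23229) (tt N12989 (iv F46164)) (tt N5451 F33716) (tt N8806 (iv F33900)) (tt N5327 F33717))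
theorem Q8717 : ∀ i, i < 8717 → P i := stepQ 8716 Q8716 (allL N8716 (tt N12994 (iv F46172)) (tt N5286 F33718) (tt N5283 (iv D18835)) (tt N12995 D23230) (tt N5452 F33719) (tt N12996 D23231) (tt N5328 F33720))
theorem Q8718 : ∀ i, i < 8718 → P i := stepQ 8717 Q8717 (allL N8717 (tt N8806 (iv F33898)) (tt N12997 D23232) (tt N12996 (iv F46178)) (tt N12991 (iv F46167)) (tt N5453 F33721) (tt N5283 (iv D18836)) (tt N8802 (iv F33892)))
theorem Q8719 : ∀ i, i < 8719 → P i := stepQ 8718 Q8718 (allL N8718 (tt N12998 D23233) (tt N5284 (iv D18837)) (tt N12999 D23234) (tt N12992 (iv F46168)) (tt N5454 F33722) (tt N12997 (iv F46181)) (tt N13000 D23235))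
theorem Q8720 : ∀ i, i < 8720 → P i := stepQ 8719 Q8719 (allL N8719 (tt N13001 D23236) (tt N5285 (iv D18838)) (tt N13002 D23237) (tt N12927 (iv F46022)) (tt N5455 F33723) (tt N13003 D23238) (tt N13004 D23239))
theorem Q8721 : ∀ i, i < 8721 → P i := stepQ 8720 Q8720 (allL N8720 (tt N5286 F33724) (tt N13005 D23240) (tt N5285 (iv D18839)) (tt N13006 D23241) (tt N5456 F33725) (tt N5511 (iv F35470)) (tt N5290 F33726))
theorem Q8722 : ∀ i, i < 8722 → P i := stepQ 8721 Q8721 (allL N8721 (tt N13006 (iv F46197)) (tt N12995 (iv F46176)) (tt N11521 (iv F42158)) (tt N5286 (iv D18840)) (tt N13007 D23242) (tt N13008 D23243) (tt N5292 F33727))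
theorem Q8723 : ∀ i, i < 8723 → P i := stepQ 8722 Q8722 (allL N8722 (tt N5511 (iv F35468)) (tt N13009 D23244) (tt N5287 F33728) (tt N13008 (iv F46206)) (tt N5458 F33729) (tt N5286 (iv D18841)) (tt N8733 (iv F33750)))
theorem Q8724 : ∀ i, i < 8724 → P i := stepQ 8723 Q8723 (allL N8723 (tt N13010 D23245) (tt N5287 (iv D18842)) (tt N13011 D23246) (tt N12928 (iv F46023)) (tt N5459 F33730) (tt N5288 F33731) (tt N13012 D23247))
theorem Q8725 : ∀ i, i < 8725 → P i := stepQ 8724 Q8724 (allL N8724 (tt N5288 (iv D18843)) (tt N12520 F44822) (tt N13013 D23248) (tt N12929 (iv F46025)) (tt N5460 F33732) (tt N13010 (iv F46211)) (tt N13014 D23249))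
theorem Q8726 : ∀ i, i < 8726 → P i := stepQ 8725 Q8725 (allL N8725 (tt N13013 (iv F46219)) (tt N12999 (iv F46183)) (tt N5288 (iv D18844)) (tt N13015 D23250) (tt N5461 F33733) (tt N13011 (iv F46214)) (tt N13016 D23251))
theorem Q8727 : ∀ i, i < 8727 → P i := stepQ 8726 Q8726 (allL N8726 (tt N13014 (iv F46221)) (tt N8640 F33734) (tt N13016 (iv F46225)) (tt N12931 (iv F46027)) (tt N5462 F33735) (tt N13017 D23252) (tt N5288 (iv D18845)))
theorem Q8728 : ∀ i, i < 8728 → P i := stepQ 8727 Q8727 (allL N8727 (tt N5289 (iv D18846)) (tt N8772 (iv F33823)) (tt N12723 F45439) (tt N12932 (iv F46029)) (tt N5463 F33736) (tt N13018 D23253) (tt N13019 D23254))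
theorem Q8729 : ∀ i, i < 8729 → P i := stepQ 8728 Q8728 (allL N8728 (tt N12723 (iv F45437)) (tt N7979 (iv F33738)) (tt N5289 (iv D18847)) (tt N11610 (iv F42347)) (tt N5464 F33737) (tt N6553 (iv F33739)) (tt N13020 D23255))
theorem Q8730 : ∀ i, i < 8730 → P i := stepQ 8729 Q8729 (allL N8729 (tt N13018 (iv F46230)) (tt N10568 (iv F39517)) (tt N6553 F33740) (tt N12933 (iv F46031)) (tt N5465 F33741) (tt N5289 (iv D18848)) (tt N12864 (iv F45869)))
theorem Q8731 : ∀ i, i < 8731 → P i := stepQ 8730 Q8730 (allL N8730 (tt N13019 (iv F46233)) (tt N13004 (iv F46193)) (tt N13020 (iv F46237)) (tt N12934 (iv F46033)) (tt N5466 F33742) (tt N13021 D23256) (tt N5289 (iv D18849)))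
theorem Q8732 : ∀ i, i < 8732 → P i := stepQ 8731 Q8731 (allL N8731 (tt N13022 D23257) (tt N5290 (iv D18850)) (tt N7979 F33743) (tt N13023 D23258) (tt N5467 F33744) (tt N7977 (iv F33745)) (tt N13024 D23259))
theorem Q8733 : ∀ i, i < 8733 → P i := stepQ 8732 Q8732 (allL N8732 (tt N5292 F33746) (tt N13023 (iv F46246)) (tt N11512 (iv F42131)) (tt N5290 (iv D18851)) (tt N13025 D23260) (tt N13026 D23261) (tt N13006 (iv F46200)))
theorem Q8734 : ∀ i, i < 8734 → P i := stepQ 8733 Q8733 (allL N8733 (tt N5293 F33747) (tt N12369 (iv F44347)) (tt N5291 F33748) (tt N13026 (iv F46254)) (tt N5469 F33749) (tt N5290 (iv D18852)) (tt N8722 F33750))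
theorem Q8735 : ∀ i, i < 8735 → P i := stepQ 8734 Q8734 (allL N8734 (tt N12840 (iv F45805)) (tt N5291 (iv D18853)) (tt N10569 (iv F39521)) (tt N12935 (iv F46034)) (tt N5470 F33751) (tt N10568 F39519) (tt N12838 F45797))
theorem Q8736 : ∀ i, i < 8736 → P i := stepQ 8735 Q8735 (allL N8735 (tt N13025 (iv F46250)) (tt N5336 F33752) (tt N11519 (iv F42151)) (tt N5471 F33753) (tt N5292 (iv D18855)) (tt N8781 F35476) (tt N13007 (iv F46203)))
theorem Q8737 : ∀ i, i < 8737 → P i := stepQ 8736 Q8736 (allL N8736 (tt N13026 (iv F46253)) (tt N8736 F33754) (tt N11520 (iv F42154)) (tt N5293 F33755) (tt N8781 (iv F35475)) (tt N5292 (iv D18856)) (tt N8780 F35474))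
theorem Q8738 : ∀ i, i < 8738 → P i := stepQ 8737 Q8737 (allL N8737 (tt N13027 D23262) (tt N5294 (iv D18858)) (tt N9180 (iv F36104)) (tt N12936 (iv F46035)) (tt N5472 F33760) (tt N13028 D23263) (tt N8251 F33761))
theorem Q8739 : ∀ i, i < 8739 → P i := stepQ 8738 Q8738 (allL N8738 (tt N5296 F33762) (tt N5339 (iv F33764)) (tt N5295 (iv D18859)) (tt N13029 D23264) (tt N5473 F33763) (tt N13030 D23265) (tt N13031 D23266))
theorem Q8740 : ∀ i, i < 8740 → P i := stepQ 8739 Q8739 (allL N8739 (tt N5297 F33765) (tt N13032 D23267) (tt N13030 (iv F46265)) (tt N12937 (iv F46039)) (tt N5474 F33766) (tt N5295 (iv D18860)) (tt N8747 (iv F33782)))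
theorem Q8741 : ∀ i, i < 8741 → P i := stepQ 8740 Q8740 (allL N8740 (tt N5298 F33767) (tt N11429 (iv F41955)) (tt N13031 (iv F46270)) (tt N7139 (iv F34681)) (tt N5475 F33768) (tt N8746 (iv F33779)) (tt N5295 (iv D18861)))
theorem Q8742 : ∀ i, i < 8742 → P i := stepQ 8741 Q8741 (allL N8741 (tt N5299 F33769) (tt N5296 (iv D18862)) (tt N5299 F33770) (tt N13033 D23268) (tt N5476 F33771) (tt N13034 D23269) (tt N13035 D23270))
theorem Q8743 : ∀ i, i < 8743 → P i := stepQ 8742 Q8742 (allL N8742 (tt N13029 (iv F46262)) (tt N13033 (iv F46276)) (tt N13036 D23271) (tt N5296 (iv D18863)) (tt N13037 D23272) (tt N13038 D23273) (tt N13039 D23274))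
theorem Q8744 : ∀ i, i < 8744 → P i := stepQ 8743 Q8743 (allL N8743 (tt N13030 (iv F46264)) (tt N13040 D23275) (tt N5297 F33772) (tt N13038 (iv F46284)) (tt N5478 F33773) (tt N5296 (iv D18864)) (tt N13041 D23276))
theorem Q8745 : ∀ i, i < 8745 → P i := stepQ 8744 Q8744 (allL N8744 (tt N13031 (iv F46268)) (tt N11685 (iv F42509)) (tt N5298 F33774) (tt N13039 (iv F46285)) (tt N5479 F33775) (tt N13042 D23277) (tt N5296 (iv D18865)))
theorem Q8746 : ∀ i, i < 8746 → P i := stepQ 8745 Q8745 (allL N8745 (tt N13043 D23278) (tt N5297 (iv D18866)) (tt N13044 D23279) (tt N12938 (iv F46042)) (tt N5480 F33776) (tt N5302 F33777) (tt N13045 D23280))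
theorem Q8747 : ∀ i, i < 8747 → P i := stepQ 8746 Q8746 (allL N8746 (tt N8747 (iv F33780)) (tt N12984 (iv F46152)) (tt N13041 (iv F46287)) (tt N11191 (iv F41433)) (tt N5481 F33778) (tt N8740 F33779) (tt N5297 (iv D18867)))
theorem Q8748 : ∀ i, i < 8748 → P i := stepQ 8747 Q8747 (allL N8747 (tt N8746 F33780) (tt N11299 (iv F41678)) (tt N13042 (iv F46291)) (tt N11459 (iv F42028)) (tt N5482 F33781) (tt N5298 (iv D18868)) (tt N8739 F33782))
theorem Q8749 : ∀ i, i < 8749 → P i := stepQ 8748 Q8748 (allL N8748 (tt N13033 (iv F46275)) (tt N5300 F33783) (tt N10158 (iv F38590)) (tt N5299 (iv D18869)) (tt N13046 D23281) (tt N13047 D23282) (tt N13048 D23283))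
theorem Q8750 : ∀ i, i < 8750 → P i := stepQ 8749 Q8749 (allL N8749 (tt N13034 (iv F46277)) (tt N13049 D23284) (tt N13034 (iv F46278)) (tt N13047 (iv F46308)) (tt N5484 F33784) (tt N5299 (iv D18870)) (tt N13050 D23285))
theorem Q8751 : ∀ i, i < 8751 → P i := stepQ 8750 Q8750 (allL N8750 (tt N13035 (iv F46280)) (tt N9693 (iv F37506)) (tt N13035 (iv F46281)) (tt N13048 (iv F46309)) (tt N5485 F33785) (tt N13051 D23286) (tt N5299 (iv D18871)))
theorem Q8752 : ∀ i, i < 8752 → P i := stepQ 8751 Q8751 (allL N8751 (tt N5303 F33786) (tt N13046 (iv F46306)) (tt N10154 (iv F38576)) (tt N5486 F33787) (tt N5300 (iv D18872)) (tt N13052 D23287) (tt N9596 (iv F37269)))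
theorem Q8753 : ∀ i, i < 8753 → P i := stepQ 8752 Q8752 (allL N8752 (tt N5304 F33788) (tt N13053 D23288) (tt N10155 (iv F38580)) (tt N5301 F33789) (tt N13052 (iv F46320)) (tt N5300 (iv D18873)) (tt N8659 F33790))
theorem Q8754 : ∀ i, i < 8754 → P i := stepQ 8753 Q8753 (allL N8753 (tt N13054 D23289) (tt N5301 (iv D18874)) (tt N13055 D23290) (tt N13053 (iv F46322)) (tt N5488 F33791) (tt N13049 (iv F46311)) (tt N13056 D23291))
theorem Q8755 : ∀ i, i < 8755 → P i := stepQ 8754 Q8754 (allL N8754 (tt N5302 (iv D18875)) (tt N13057 D23292) (tt N13058 D23293) (tt N12939 (iv F46044)) (tt N5489 F33792) (tt N13043 (iv F46295)) (tt N12970 F46121))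
theorem Q8756 : ∀ i, i < 8756 → P i := stepQ 8755 Q8755 (allL N8755 (tt N13058 (iv F46331)) (tt N13055 (iv F46324)) (tt N5302 (iv D18876)) (tt N13059 D23294) (tt N5490 F33793) (tt N13044 (iv F46301)) (tt N13060 D23295))
theorem Q8757 : ∀ i, i < 8757 → P i := stepQ 8756 Q8756 (allL N8756 (tt N12970 (iv F46119)) (tt N8663 F33794) (tt N13060 (iv F46335)) (tt N12941 (iv F46047)) (tt N5491 F33795) (tt N12534 F44858) (tt N5302 (iv D18877)))
theorem Q8758 : ∀ i, i < 8758 → P i := stepQ 8757 Q8757 (allL N8757 (tt N13052 (iv F46318)) (tt N13061 D23296) (tt N11407 (iv F41903)) (tt N5492 F33796) (tt N5304 F33797) (tt N5303 (iv D18878)) (tt N13062 D23297))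
theorem Q8759 : ∀ i, i < 8759 → P i := stepQ 8758 Q8758 (allL N8758 (tt N13063 D23298) (tt N5304 (iv D18879)) (tt N13064 D23299) (tt N5305 F33798) (tt N13061 (iv F46338)) (tt N5345 F33799) (tt N13065 D23300))
theorem Q8760 : ∀ i, i < 8760 → P i := stepQ 8759 Q8759 (allL N8759 (tt N8659 F33800) (tt N13066 D23301) (tt N11409 (iv F41907)) (tt N5306 F33801) (tt N13062 (iv F46342)) (tt N8657 F33802) (tt N5304 (iv D18880)))
theorem Q8761 : ∀ i, i < 8761 → P i := stepQ 8760 Q8760 (allL N8760 (tt N5305 (iv D18881)) (tt N13067 D23302) (tt N13068 D23303) (tt N13063 (iv F46344)) (tt N5495 F33803) (tt N5347 F33804) (tt N8843 (iv F33973)))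
theorem Q8762 : ∀ i, i < 8762 → P i := stepQ 8761 Q8761 (allL N8761 (tt N13068 (iv F46352)) (tt N5308 F33805) (tt N5305 (iv D18882)) (tt N13069 D23304) (tt N5496 F33806) (tt N5348 F33807) (tt N13070 D23305))
theorem Q8763 : ∀ i, i < 8763 → P i := stepQ 8762 Q8762 (allL N8762 (tt N8843 (iv F33971)) (tt N13071 D23306) (tt N13070 (iv F46358)) (tt N13065 (iv F46347)) (tt N5497 F33808) (tt N8839 (iv F33964)) (tt N5305 (iv D18883)))
theorem Q8764 : ∀ i, i < 8764 → P i := stepQ 8763 Q8763 (allL N8763 (tt N13072 D23307) (tt N5306 (iv D18884)) (tt N13073 D23308) (tt N13066 (iv F46348)) (tt N5498 F33809) (tt N13074 D23309) (tt N13071 (iv F46361)))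
theorem Q8765 : ∀ i, i < 8765 → P i := stepQ 8764 Q8764 (allL N8764 (tt N13075 D23310) (tt N5307 (iv D18885)) (tt N13076 D23311) (tt N12943 (iv F46054)) (tt N5499 F33810) (tt N13077 D23312) (tt N13078 D23313))
theorem Q8766 : ∀ i, i < 8766 → P i := stepQ 8765 Q8765 (allL N8765 (tt N5308 F33811) (tt N13079 D23314) (tt N5307 (iv D18886)) (tt N13007 (iv F46202)) (tt N5457 (iv F35463)) (tt N5312 F33813) (tt N5471 (iv F35460)))
theorem Q8767 : ∀ i, i < 8767 → P i := stepQ 8766 Q8766 (allL N8766 (tt N13007 (iv F46201)) (tt N13069 (iv F46356)) (tt N11361 (iv F41809)) (tt N5308 (iv D18887)) (tt N13006 (iv F46198)) (tt N5314 F33814) (tt N13025 (iv F46252)))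
theorem Q8768 : ∀ i, i < 8768 → P i := stepQ 8767 Q8767 (allL N8767 (tt N5471 (iv F35457)) (tt N13080 D23315) (tt N5309 F33815) (tt N13025 (iv F46251)) (tt N5468 (iv F35453)) (tt N8778 (iv F33833)) (tt N5308 (iv D18888)))
theorem Q8769 : ∀ i, i < 8769 → P i := stepQ 8768 Q8768 (allL N8768 (tt N13081 D23316) (tt N5309 (iv D18889)) (tt N13082 D23317) (tt N12944 (iv F46056)) (tt N5500 F33817) (tt N13083 D23318) (tt N5310 F33818))
theorem Q8770 : ∀ i, i < 8770 → P i := stepQ 8769 Q8769 (allL N8769 (tt N5310 (iv D18890)) (tt N12517 F44812) (tt N13084 D23319) (tt N12945 (iv F46059)) (tt N5501 F33819) (tt N13085 D23320) (tt N13081 (iv F46380)))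
theorem Q8771 : ∀ i, i < 8771 → P i := stepQ 8770 Q8770 (allL N8770 (tt N13084 (iv F46388)) (tt N13073 (iv F46363)) (tt N5310 (iv D18891)) (tt N13086 D23321) (tt N5502 F33820) (tt N13087 D23322) (tt N13082 (iv F46383)))
theorem Q8772 : ∀ i, i < 8772 → P i := stepQ 8771 Q8771 (allL N8771 (tt N13085 (iv F46390)) (tt N8655 F33821) (tt N13087 (iv F46394)) (tt N12947 (iv F46061)) (tt N5503 F33822) (tt N5310 (iv D18892)) (tt N13088 D23323))
theorem Q8773 : ∀ i, i < 8773 → P i := stepQ 8772 Q8772 (allL N8772 (tt N5311 (iv D18893)) (tt N8727 F33823) (tt N12730 (iv F45456)) (tt N12948 (iv F46064)) (tt N5504 F33824) (tt N13089 D23324) (tt N13090 D23325))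
theorem Q8774 : ∀ i, i < 8774 → P i := stepQ 8773 Q8773 (allL N8773 (tt N12730 (iv F45455)) (tt N8038 (iv F35037)) (tt N5311 (iv D18894)) (tt N11663 (iv F42471)) (tt N5505 F33825) (tt N13091 D23326) (tt N6592 F35041))
theorem Q8775 : ∀ i, i < 8775 → P i := stepQ 8774 Q8774 (allL N8774 (tt N13089 (iv F46400)) (tt N13077 (iv F46370)) (tt N13091 (iv F46407)) (tt N12949 (iv F46067)) (tt N5506 F33826) (tt N5311 (iv D18895)) (tt N13092 D23327))
theorem Q8776 : ∀ i, i < 8776 → P i := stepQ 8775 Q8775 (allL N8775 (tt N13090 (iv F46404)) (tt N10619 (iv F39998)) (tt N6592 (iv F35042)) (tt N12950 (iv F46070)) (tt N5507 F33827) (tt N12858 (iv F45849)) (tt N5311 (iv D18896)))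
theorem Q8777 : ∀ i, i < 8777 → P i := stepQ 8776 Q8776 (allL N8776 (tt N13093 D23328) (tt N5312 (iv D18897)) (tt N8038 F35036) (tt N13094 D23329) (tt N5508 F33828) (tt N13095 D23330) (tt N8035 (iv F35035)))
theorem Q8778 : ∀ i, i < 8778 → P i := stepQ 8777 Q8777 (allL N8777 (tt N5314 F33829) (tt N13094 (iv F46416)) (tt N11353 (iv F41789)) (tt N5312 (iv D18898)) (tt N13008 (iv F46207)) (tt N13007 F46204) (tt N13096 D23331))
theorem Q8779 : ∀ i, i < 8779 → P i := stepQ 8778 Q8778 (allL N8778 (tt N5315 F33830) (tt N12410 (iv F44499)) (tt N5313 F33831) (tt N13096 (iv F46421)) (tt N5509 F33832) (tt N8767 F33833) (tt N5312 (iv D18899)))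
theorem Q8780 : ∀ i, i < 8780 → P i := stepQ 8779 Q8779 (allL N8779 (tt N12835 (iv F45783)) (tt N5313 (iv D18900)) (tt N10620 (iv F40002)) (tt N12951 (iv F46072)) (tt N5510 F33834) (tt N12833 (iv F45776)) (tt N10619 F40000))
theorem Q8781 : ∀ i, i < 8781 → P i := stepQ 8780 Q8780 (allL N8780 (tt N13008 (iv F46205)) (tt N5356 F33835) (tt N11360 (iv F41807)) (tt N5511 F33836) (tt N5314 (iv D18902)) (tt N13006 (iv F46199)) (tt N8736 (iv F35474)))
theorem Q8782 : ∀ i, i < 8782 → P i := stepQ 8781 Q8781 (allL N8781 (tt N13096 (iv F46420)) (tt N8781 F33837) (tt N11362 (iv F41811)) (tt N5315 F33838) (tt N8736 F35475) (tt N8735 (iv F35476)) (tt N5314 (iv D18903)))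
theorem Q8783 : ∀ i, i < 8783 → P i := stepQ 8782 Q8782 (allL N8782 (tt N13097 D23332) (tt N5316 (iv D18905)) (tt N9126 (iv F35959)) (tt N12952 (iv F46074)) (tt N5512 F33843) (tt N8249 F33844) (tt N13098 D23333))
theorem Q8784 : ∀ i, i < 8784 → P i := stepQ 8783 Q8783 (allL N8783 (tt N11028 (iv F41090)) (tt N8783 F33845) (tt N5321 F33846) (tt N11026 (iv F41085)) (tt N5515 F33847) (tt N5317 (iv D18906)) (tt N13099 D23334))
theorem Q8785 : ∀ i, i < 8785 → P i := stepQ 8784 Q8784 (allL N8784 (tt N11029 (iv F41095)) (tt N8310 F33848) (tt N5322 F33849) (tt N11027 (iv F41088)) (tt N5516 F33850) (tt N13100 D23335) (tt N5317 (iv D18907)))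
theorem Q8786 : ∀ i, i < 8786 → P i := stepQ 8785 Q8785 (allL N8785 (tt N5320 F33851) (tt N12953 (iv F46078)) (tt N10257 (iv F38784)) (tt N5319 (iv D18908)) (tt N13101 D23336) (tt N13102 D23337) (tt N13103 D23338))
theorem Q8787 : ∀ i, i < 8787 → P i := stepQ 8786 Q8786 (allL N8786 (tt N5321 F33852) (tt N6537 (iv F33854)) (tt N11028 (iv F41092)) (tt N13102 (iv F46445)) (tt N5519 F33853) (tt N5319 (iv D18909)) (tt N8793 (iv F33874)))
theorem Q8788 : ∀ i, i < 8788 → P i := stepQ 8787 Q8787 (allL N8787 (tt N5322 F33855) (tt N13104 D23339) (tt N11029 (iv F41096)) (tt N13103 (iv F46449)) (tt N5520 F33856) (tt N8792 (iv F33871)) (tt N5319 (iv D18910)))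
theorem Q8789 : ∀ i, i < 8789 → P i := stepQ 8788 Q8788 (allL N8788 (tt N10257 (iv F38782)) (tt N8642 F33857) (tt N5320 (iv D18911)) (tt N5891 F33858) (tt N8360 (iv F33859)) (tt N8393 (iv F33860)) (tt N13105 D23340))
theorem Q8790 : ∀ i, i < 8790 → P i := stepQ 8789 Q8789 (allL N8789 (tt N13101 (iv F46439)) (tt N5323 F33861) (tt N8360 F33862) (tt N5521 F33863) (tt N5320 (iv D18912)) (tt N7169 (iv F33864)) (tt N13106 D23341))
theorem Q8791 : ∀ i, i < 8791 → P i := stepQ 8790 Q8790 (allL N8790 (tt N13102 (iv F46443)) (tt N7171 F33865) (tt N8393 F33866) (tt N5321 F33867) (tt N7169 F33868) (tt N5320 (iv D18913)) (tt N13107 D23342))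
theorem Q8792 : ∀ i, i < 8792 → P i := stepQ 8791 Q8791 (allL N8791 (tt N13103 (iv F46448)) (tt N12716 (iv F45421)) (tt N13105 (iv F46454)) (tt N5322 F33869) (tt N13106 (iv F46459)) (tt N13108 D23343) (tt N5320 (iv D18914)))
theorem Q8793 : ∀ i, i < 8793 → P i := stepQ 8792 Q8792 (allL N8792 (tt N8793 (iv F33872)) (tt N13109 D23344) (tt N13099 (iv F46430)) (tt N13107 (iv F46461)) (tt N5523 F33870) (tt N8787 F33871) (tt N5321 (iv D18915)))
theorem Q8794 : ∀ i, i < 8794 → P i := stepQ 8793 Q8793 (allL N8793 (tt N8792 F33872) (tt N13110 D23345) (tt N13100 (iv F46435)) (tt N13108 (iv F46465)) (tt N5524 F33873) (tt N5322 (iv D18916)) (tt N8786 F33874))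
theorem Q8795 : ∀ i, i < 8795 → P i := stepQ 8794 Q8794 (allL N8794 (tt N13111 D23346) (tt N5324 (iv D18917)) (tt N13112 D23347) (tt N5531 F33875) (tt N5325 F33876) (tt N13113 D23348) (tt N12987 (iv F46159)))
theorem Q8796 : ∀ i, i < 8796 → P i := stepQ 8795 Q8795 (allL N8795 (tt N8426 F33877) (tt N13114 D23349) (tt N8435 F33878) (tt N5532 F33879) (tt N5326 F33880) (tt N5324 (iv D18918)) (tt N5360 F33881))
theorem Q8797 : ∀ i, i < 8797 → P i := stepQ 8796 Q8796 (allL N8796 (tt N5325 (iv D18919)) (tt N13115 D23350) (tt N13116 D23351) (tt N5327 F33882) (tt N13111 (iv F46472)) (tt N13117 D23352) (tt N12989 (iv F46165)))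
theorem Q8798 : ∀ i, i < 8798 → P i := stepQ 8797 Q8797 (allL N8797 (tt N13116 (iv F46483)) (tt N12721 (iv F45434)) (tt N5325 (iv D18920)) (tt N13118 D23353) (tt N13112 (iv F46473)) (tt N13119 D23354) (tt N12990 (iv F46166)))
theorem Q8799 : ∀ i, i < 8799 → P i := stepQ 8798 Q8798 (allL N8798 (tt N13117 (iv F46484)) (tt N13120 D23355) (tt N13119 (iv F46487)) (tt N5329 F33883) (tt N13113 (iv F46475)) (tt N5325 (iv D18921)) (tt N13121 D23356))
theorem Q8800 : ∀ i, i < 8800 → P i := stepQ 8799 Q8799 (allL N8799 (tt N13122 D23357) (tt N5326 (iv D18922)) (tt N13123 D23358) (tt N5330 F33884) (tt N13114 (iv F46477)) (tt N13120 (iv F46489)) (tt N13124 D23359))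
theorem Q8801 : ∀ i, i < 8801 → P i := stepQ 8800 Q8800 (allL N8800 (tt N6567 F33885) (tt N5327 (iv D18923)) (tt N6606 F35157) (tt N13115 (iv F46479)) (tt N5537 F33886) (tt N6565 (iv F33887)) (tt N6605 (iv F35156)))
theorem Q8802 : ∀ i, i < 8802 → P i := stepQ 8801 Q8801 (allL N8801 (tt N5328 F33888) (tt N7925 (iv F35162)) (tt N5327 (iv D18924)) (tt N13125 D23360) (tt N5538 F33889) (tt N13126 D23361) (tt N12994 (iv F46175)))
theorem Q8803 : ∀ i, i < 8803 → P i := stepQ 8802 Q8802 (allL N8802 (tt N5329 F33890) (tt N13127 D23362) (tt N13126 (iv F46500)) (tt N13117 (iv F46485)) (tt N5539 F33891) (tt N5327 (iv D18925)) (tt N8717 F33892))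
theorem Q8804 : ∀ i, i < 8804 → P i := stepQ 8803 Q8803 (allL N8803 (tt N13125 (iv F46497)) (tt N5332 F33893) (tt N13128 D23363) (tt N5328 (iv D18926)) (tt N13129 D23364) (tt N13130 D23365) (tt N12995 (iv F46177)))
theorem Q8805 : ∀ i, i < 8805 → P i := stepQ 8804 Q8804 (allL N8804 (tt N13126 (iv F46499)) (tt N13131 D23366) (tt N5329 F33894) (tt N13130 (iv F46507)) (tt N5541 F33895) (tt N5328 (iv D18927)) (tt N13132 D23367))
theorem Q8806 : ∀ i, i < 8806 → P i := stepQ 8805 Q8805 (allL N8805 (tt N13133 D23368) (tt N5329 (iv D18928)) (tt N8852 (iv F33990)) (tt N13120 (iv F46488)) (tt N5542 F33896) (tt N5330 F33897) (tt N13134 D23369))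
theorem Q8807 : ∀ i, i < 8807 → P i := stepQ 8806 Q8806 (allL N8806 (tt N8717 F33898) (tt N13135 D23370) (tt N13132 (iv F46511)) (tt N13121 (iv F46491)) (tt N5543 F33899) (tt N8715 F33900) (tt N5329 (iv D18929)))
theorem Q8808 : ∀ i, i < 8808 → P i := stepQ 8807 Q8807 (allL N8807 (tt N5330 (iv D18930)) (tt N12246 F44012) (tt N8850 (iv F33987)) (tt N13122 (iv F46493)) (tt N5544 F33901) (tt N13133 (iv F46515)) (tt N13136 D23371))
theorem Q8809 : ∀ i, i < 8809 → P i := stepQ 8808 Q8808 (allL N8808 (tt N13136 (iv F46518)) (tt N5359 F33902) (tt N8853 (iv F33993)) (tt N13124 (iv F46496)) (tt N5545 F33903) (tt N13137 D23372) (tt N5330 (iv D18931)))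
theorem Q8810 : ∀ i, i < 8810 → P i := stepQ 8809 Q8809 (allL N8809 (tt N13138 D23373) (tt N5331 (iv D18932)) (tt N8846 (iv F33979)) (tt N13139 D23374) (tt N5546 F33904) (tt N13131 (iv F46509)) (tt N13140 D23375))
theorem Q8811 : ∀ i, i < 8811 → P i := stepQ 8810 Q8810 (allL N8810 (tt N5332 F33905) (tt N13139 (iv F46525)) (tt N8864 (iv F34021)) (tt N5331 (iv D18933)) (tt N13141 D23376) (tt N5332 F33906) (tt N5334 F33907))
theorem Q8812 : ∀ i, i < 8812 → P i := stepQ 8811 Q8811 (allL N8811 (tt N8864 (iv F34020)) (tt N13142 D23377) (tt N5332 (iv D18934)) (tt N8862 (iv F34018)) (tt N13143 D23378) (tt N8864 (iv F34022)) (tt N5335 F33908))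
theorem Q8813 : ∀ i, i < 8813 → P i := stepQ 8812 Q8812 (allL N8812 (tt N13141 (iv F46528)) (tt N13129 (iv F46505)) (tt N13143 (iv F46532)) (tt N5549 F33909) (tt N5332 (iv D18935)) (tt N13141 (iv F46530)) (tt N5336 F33910))
theorem Q8814 : ∀ i, i < 8814 → P i := stepQ 8813 Q8813 (allL N8813 (tt N5333 (iv D18936)) (tt N13144 D23379) (tt N8844 (iv F33974)) (tt N13145 D23380) (tt N5550 F33911) (tt N13146 D23381) (tt N13147 D23382))
theorem Q8815 : ∀ i, i < 8815 → P i := stepQ 8814 Q8814 (allL N8814 (tt N13145 (iv F46536)) (tt N5334 F33912) (tt N13148 D23383) (tt N5333 (iv D18937)) (tt N13149 D23384) (tt N13150 D23385) (tt N13151 D23386))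
theorem Q8816 : ∀ i, i < 8816 → P i := stepQ 8815 Q8815 (allL N8815 (tt N13146 (iv F46537)) (tt N8815 F33913) (tt N8845 (iv F33977)) (tt N13150 (iv F46544)) (tt N5552 F33914) (tt N5333 (iv D18938)) (tt N13152 D23387))
theorem Q8817 : ∀ i, i < 8817 → P i := stepQ 8816 Q8816 (allL N8816 (tt N13147 (iv F46539)) (tt N13140 (iv F46526)) (tt N8842 F33970) (tt N13151 (iv F46545)) (tt N5553 F33915) (tt N13153 D23388) (tt N5333 (iv D18939)))
theorem Q8818 : ∀ i, i < 8818 → P i := stepQ 8817 Q8817 (allL N8817 (tt N5336 F33916) (tt N13149 (iv F46541)) (tt N8870 (iv F34031)) (tt N5554 F33917) (tt N5334 (iv D18940)) (tt N8817 F33918) (tt N13141 (iv F46531)))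
theorem Q8819 : ∀ i, i < 8819 → P i := stepQ 8818 Q8818 (allL N8818 (tt N13154 D23389) (tt N5335 (iv D18941)) (tt N11516 (iv F42145)) (tt N8865 (iv F34024)) (tt N13155 D23390) (tt N13156 D23391) (tt N13157 D23392))
theorem Q8820 : ∀ i, i < 8820 → P i := stepQ 8819 Q8819 (allL N8819 (tt N8870 (iv F34030)) (tt N13155 (iv F46551)) (tt N5336 F33919) (tt N9635 (iv F37374)) (tt N5335 (iv D18942)) (tt N8819 F33920) (tt N13143 (iv F46534)))
theorem Q8821 : ∀ i, i < 8821 → P i := stepQ 8820 Q8820 (allL N8820 (tt N11066 (iv F41174)) (tt N8316 F33924) (tt N5341 F33925) (tt N11064 (iv F41167)) (tt N5559 F33926) (tt N5337 (iv D18945)) (tt N13158 D23393))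
theorem Q8822 : ∀ i, i < 8822 → P i := stepQ 8821 Q8821 (allL N8821 (tt N11067 (iv F41178)) (tt N8821 F33927) (tt N5342 F33928) (tt N11065 (iv F41172)) (tt N5560 F33929) (tt N13159 D23394) (tt N5337 (iv D18946)))
theorem Q8823 : ∀ i, i < 8823 → P i := stepQ 8822 Q8822 (allL N8822 (tt N5340 F33935) (tt N13029 (iv F46263)) (tt N10275 (iv F38823)) (tt N5339 (iv D18948)) (tt N13160 D23395) (tt N13161 D23396) (tt N13162 D23397))
theorem Q8824 : ∀ i, i < 8824 → P i := stepQ 8823 Q8823 (allL N8823 (tt N5341 F33936) (tt N13163 D23398) (tt N11066 (iv F41175)) (tt N13161 (iv F46567)) (tt N5563 F33937) (tt N5339 (iv D18949)) (tt N8830 (iv F33948)))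
theorem Q8825 : ∀ i, i < 8825 → P i := stepQ 8824 Q8824 (allL N8824 (tt N5342 F33938) (tt N6576 (iv F35269)) (tt N11067 (iv F41180)) (tt N13162 (iv F46570)) (tt N5564 F33939) (tt N8829 (iv F33945)) (tt N5339 (iv D18950)))
theorem Q8826 : ∀ i, i < 8826 → P i := stepQ 8825 Q8825 (allL N8825 (tt N10275 (iv F38821)) (tt N8658 (iv F34795)) (tt N5340 (iv D18951)) (tt N5913 (iv F34794)) (tt N8368 F34797) (tt N13164 D23399) (tt N8412 F34798))
theorem Q8827 : ∀ i, i < 8827 → P i := stepQ 8826 Q8826 (allL N8826 (tt N13160 (iv F46562)) (tt N5343 F33940) (tt N8368 F35265) (tt N5565 F33941) (tt N5340 (iv D18952)) (tt N13165 D23400) (tt N7271 (iv F35264)))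
theorem Q8828 : ∀ i, i < 8828 → P i := stepQ 8827 Q8827 (allL N8827 (tt N13161 (iv F46566)) (tt N12687 (iv F45351)) (tt N13164 (iv F46577)) (tt N5341 F33942) (tt N13165 (iv F46582)) (tt N5340 (iv D18953)) (tt N13166 D23401))
theorem Q8829 : ∀ i, i < 8829 → P i := stepQ 8828 Q8828 (allL N8828 (tt N13162 (iv F46568)) (tt N7273 (iv F34787)) (tt N8412 (iv F35262)) (tt N5342 F33943) (tt N7271 F35263) (tt N13167 D23402) (tt N5340 (iv D18954)))
theorem Q8830 : ∀ i, i < 8830 → P i := stepQ 8829 Q8829 (allL N8829 (tt N8830 (iv F33946)) (tt N13168 D23403) (tt N13158 (iv F46553)) (tt N13166 (iv F46583)) (tt N5567 F33944) (tt N8824 F33945) (tt N5341 (iv D18955)))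
theorem Q8831 : ∀ i, i < 8831 → P i := stepQ 8830 Q8830 (allL N8830 (tt N8829 F33946) (tt N13169 D23404) (tt N13159 (iv F46558)) (tt N13167 (iv F46587)) (tt N5568 F33947) (tt N5342 (iv D18956)) (tt N8823 F33948))
theorem Q8832 : ∀ i, i < 8832 → P i := stepQ 8831 Q8831 (allL N8831 (tt N13170 D23405) (tt N5344 (iv D18957)) (tt N13171 D23406) (tt N5575 F33949) (tt N5345 F33950) (tt N13061 (iv F46339)) (tt N13172 D23407))
theorem Q8833 : ∀ i, i < 8833 → P i := stepQ 8832 Q8832 (allL N8832 (tt N8431 F33951) (tt N13173 D23408) (tt N8430 F33952) (tt N5576 F33953) (tt N5346 F33954) (tt N5370 F33955) (tt N5344 (iv D18958)))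
theorem Q8834 : ∀ i, i < 8834 → P i := stepQ 8833 Q8833 (allL N8833 (tt N5345 (iv D18959)) (tt N13174 D23409) (tt N13175 D23410) (tt N5347 F33956) (tt N13170 (iv F46595)) (tt N13063 (iv F46345)) (tt N13176 D23411))
theorem Q8835 : ∀ i, i < 8835 → P i := stepQ 8834 Q8834 (allL N8834 (tt N13175 (iv F46606)) (tt N12728 (iv F45452)) (tt N5345 (iv D18960)) (tt N13177 D23412) (tt N13171 (iv F46596)) (tt N13064 (iv F46346)) (tt N13178 D23413))
theorem Q8836 : ∀ i, i < 8836 → P i := stepQ 8835 Q8835 (allL N8835 (tt N13176 (iv F46607)) (tt N13179 D23414) (tt N13178 (iv F46610)) (tt N5349 F33957) (tt N13172 (iv F46598)) (tt N13180 D23415) (tt N5345 (iv D18961)))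
theorem Q8837 : ∀ i, i < 8837 → P i := stepQ 8836 Q8836 (allL N8836 (tt N13181 D23416) (tt N5346 (iv D18962)) (tt N13182 D23417) (tt N5350 F33958) (tt N13173 (iv F46600)) (tt N13183 D23418) (tt N13179 (iv F46612)))
theorem Q8838 : ∀ i, i < 8838 → P i := stepQ 8837 Q8837 (allL N8837 (tt N6606 (iv F35237)) (tt N5347 (iv D18963)) (tt N6567 F35238) (tt N13174 (iv F46602)) (tt N5581 F33959) (tt N6566 F35240) (tt N6604 F35239))
theorem Q8839 : ∀ i, i < 8839 → P i := stepQ 8838 Q8838 (allL N8838 (tt N5348 F33960) (tt N7771 (iv F35241)) (tt N5347 (iv D18964)) (tt N13184 D23419) (tt N5582 F33961) (tt N13068 (iv F46355)) (tt N13185 D23420))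
theorem Q8840 : ∀ i, i < 8840 → P i := stepQ 8839 Q8839 (allL N8839 (tt N5349 F33962) (tt N13186 D23421) (tt N13185 (iv F46623)) (tt N13176 (iv F46608)) (tt N5583 F33963) (tt N8762 F33964) (tt N5347 (iv D18965)))
theorem Q8841 : ∀ i, i < 8841 → P i := stepQ 8840 Q8840 (allL N8840 (tt N13184 (iv F46620)) (tt N5352 F33965) (tt N13187 D23422) (tt N5348 (iv D18966)) (tt N13188 D23423) (tt N13069 (iv F46357)) (tt N13189 D23424))
theorem Q8842 : ∀ i, i < 8842 → P i := stepQ 8841 Q8841 (allL N8841 (tt N13185 (iv F46622)) (tt N13190 D23425) (tt N5349 F33966) (tt N13189 (iv F46630)) (tt N5585 F33967) (tt N13191 D23426) (tt N5348 (iv D18967)))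
theorem Q8843 : ∀ i, i < 8843 → P i := stepQ 8842 Q8842 (allL N8842 (tt N13192 D23427) (tt N5349 (iv D18968)) (tt N8816 (iv F33970)) (tt N13179 (iv F46611)) (tt N5586 F33968) (tt N13193 D23428) (tt N5350 F33969))
theorem Q8844 : ∀ i, i < 8844 → P i := stepQ 8843 Q8843 (allL N8843 (tt N8762 F33971) (tt N13194 D23429) (tt N13191 (iv F46635)) (tt N13180 (iv F46614)) (tt N5587 F33972) (tt N5349 (iv D18969)) (tt N8760 F33973))
theorem Q8845 : ∀ i, i < 8845 → P i := stepQ 8844 Q8844 (allL N8844 (tt N5350 (iv D18970)) (tt N12306 F44153) (tt N8813 F33974) (tt N13181 (iv F46616)) (tt N5588 F33975) (tt N13195 D23430) (tt N13192 (iv F46640)))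
theorem Q8846 : ∀ i, i < 8846 → P i := stepQ 8845 Q8845 (allL N8845 (tt N13195 (iv F46647)) (tt N5369 F33976) (tt N8815 F33977) (tt N13183 (iv F46619)) (tt N5589 F33978) (tt N5350 (iv D18971)) (tt N13196 D23431))
theorem Q8847 : ∀ i, i < 8847 → P i := stepQ 8846 Q8846 (allL N8846 (tt N13197 D23432) (tt N5351 (iv D18972)) (tt N8809 F33979) (tt N13198 D23433) (tt N5590 F33980) (tt N13199 D23434) (tt N13190 (iv F46633)))
theorem Q8848 : ∀ i, i < 8848 → P i := stepQ 8847 Q8847 (allL N8847 (tt N5352 F33981) (tt N13198 (iv F46657)) (tt N8878 (iv F34067)) (tt N5351 (iv D18973)) (tt N13200 D23435) (tt N5354 F33982) (tt N5352 F33983))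
theorem Q8849 : ∀ i, i < 8849 → P i := stepQ 8848 Q8848 (allL N8848 (tt N8878 (iv F34066)) (tt N13201 D23436) (tt N5352 (iv D18974)) (tt N8876 (iv F34063)) (tt N13202 D23437) (tt N5355 F33984) (tt N8878 (iv F34069)))
theorem Q8850 : ∀ i, i < 8850 → P i := stepQ 8849 Q8849 (allL N8849 (tt N13200 (iv F46661)) (tt N13188 (iv F46628)) (tt N13202 (iv F46665)) (tt N5593 F33985) (tt N5352 (iv D18975)) (tt N5356 F33986) (tt N13200 (iv F46664)))
theorem Q8851 : ∀ i, i < 8851 → P i := stepQ 8850 Q8850 (allL N8850 (tt N5353 (iv D18976)) (tt N13203 D23438) (tt N8807 F33987) (tt N13204 D23439) (tt N5594 F33988) (tt N13205 D23440) (tt N13206 D23441))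
theorem Q8852 : ∀ i, i < 8852 → P i := stepQ 8851 Q8851 (allL N8851 (tt N13204 (iv F46669)) (tt N5354 F33989) (tt N13207 D23442) (tt N5353 (iv D18977)) (tt N13208 D23443) (tt N13209 D23444) (tt N13210 D23445))
theorem Q8853 : ∀ i, i < 8853 → P i := stepQ 8852 Q8852 (allL N8852 (tt N13205 (iv F46670)) (tt N13199 (iv F46658)) (tt N8805 F33990) (tt N13209 (iv F46678)) (tt N5596 F33991) (tt N5353 (iv D18978)) (tt N13211 D23446))
theorem Q8854 : ∀ i, i < 8854 → P i := stepQ 8853 Q8853 (allL N8853 (tt N13206 (iv F46673)) (tt N8853 F33992) (tt N8808 F33993) (tt N13210 (iv F46680)) (tt N5597 F33994) (tt N13212 D23447) (tt N5353 (iv D18979)))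
theorem Q8855 : ∀ i, i < 8855 → P i := stepQ 8854 Q8854 (allL N8854 (tt N5356 F33995) (tt N13208 (iv F46676)) (tt N8883 (iv F34078)) (tt N5598 F33996) (tt N5354 (iv D18980)) (tt N13200 (iv F46663)) (tt N8854 F33997))
theorem Q8856 : ∀ i, i < 8856 → P i := stepQ 8855 Q8855 (allL N8855 (tt N13213 D23448) (tt N5355 (iv D18981)) (tt N11357 (iv F41802)) (tt N8879 (iv F34071)) (tt N13214 D23449) (tt N13215 D23450) (tt N13216 D23451))
theorem Q8857 : ∀ i, i < 8857 → P i := stepQ 8856 Q8856 (allL N8856 (tt N8883 (iv F34077)) (tt N13214 (iv F46688)) (tt N5356 F33998) (tt N9642 (iv F37388)) (tt N5355 (iv D18982)) (tt N13202 (iv F46667)) (tt N8856 F33999))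
theorem Q8858 : ∀ i, i < 8858 → P i := stepQ 8857 Q8857 (allL N8857 (tt N5358 F34001) (tt N10947 (iv F40907)) (tt N9558 (iv F37184)) (tt N5357 (iv D18984)) (tt N10122 (iv F38501)) (tt N10121 F38497) (tt N13217 D23452))
theorem Q8859 : ∀ i, i < 8859 → P i := stepQ 8858 Q8858 (allL N8858 (tt N5359 F34002) (tt N13218 D23453) (tt N8858 F34003) (tt N13217 (iv F46692)) (tt N7621 F34004) (tt N7619 F34005) (tt N5357 (iv D18985)))
theorem Q8860 : ∀ i, i < 8860 → P i := stepQ 8859 Q8859 (allL N8859 (tt N13217 (iv F46690)) (tt N13124 (iv F46495)) (tt N12893 (iv F45933)) (tt N5359 F34006) (tt N11247 (iv F41563)) (tt N13219 D23454) (tt N5358 (iv D18986)))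
theorem Q8861 : ∀ i, i < 8861 → P i := stepQ 8860 Q8860 (allL N8860 (tt N7619 F34007) (tt N13220 D23455) (tt N8860 F34008) (tt N13219 (iv F46698)) (tt N6471 F34009) (tt N5359 (iv D18987)) (tt N6470 F34010))
theorem Q8862 : ∀ i, i < 8862 → P i := stepQ 8861 Q8861 (allL N8861 (tt N8861 F34011) (tt N5362 F34012) (tt N13221 D23456) (tt N5361 (iv D18988)) (tt N7431 F34013) (tt N8875 (iv F34057)) (tt N8875 (iv F34058)))
theorem Q8863 : ∀ i, i < 8863 → P i := stepQ 8862 Q8862 (allL N8862 (tt N5363 F34014) (tt N13222 D23457) (tt N5362 (iv D18989)) (tt N8811 F34018) (tt N7432 F34015) (tt N5363 F34016) (tt N5364 F34017))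
theorem Q8864 : ∀ i, i < 8864 → P i := stepQ 8863 Q8863 (allL N8863 (tt N13223 D23458) (tt N5363 (iv D18990)) (tt N8879 (iv F34070)) (tt N13224 D23459) (tt N7433 F34019) (tt N13225 D23460) (tt N13226 D23461))
theorem Q8865 : ∀ i, i < 8865 → P i := stepQ 8864 Q8864 (allL N8864 (tt N8811 F34020) (tt N13224 (iv F46710)) (tt N8810 F34021) (tt N5363 (iv D18991)) (tt N13227 D23462) (tt N8811 F34022) (tt N5366 F34023))
theorem Q8866 : ∀ i, i < 8866 → P i := stepQ 8865 Q8865 (allL N8865 (tt N13228 D23463) (tt N5364 (iv D18992)) (tt N8877 (iv F34064)) (tt N8818 F34024) (tt N9643 (iv F37392)) (tt N13229 D23464) (tt N13230 D23465))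
theorem Q8867 : ∀ i, i < 8867 → P i := stepQ 8866 Q8866 (allL N8866 (tt N5365 (iv D18993)) (tt N7053 F58171) (tt N8866 F34025) (tt N13231 D23467) (tt N9644 (iv F37394)) (tt N13232 D23468) (tt N8882 (iv F61385)))
theorem Q8868 : ∀ i, i < 8868 → P i := stepQ 8867 Q8867 (allL N8867 (tt N13231 (iv F46724)) (tt N5366 F34026) (tt N13233 D23470) (tt N5365 (iv D18994)) (tt N13234 D23471) (tt N13235 D23472) (tt N13236 D23473))
theorem Q8869 : ∀ i, i < 8869 → P i := stepQ 8868 Q8868 (allL N8868 (tt N13232 (iv F46725)) (tt N8868 F34027) (tt N8868 F34028) (tt N13235 (iv F46732)) (tt N9646 (iv F37398)) (tt N5365 (iv D18995)) (tt N5375 (iv F61391)))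
theorem Q8870 : ∀ i, i < 8870 → P i := stepQ 8869 Q8869 (allL N8869 (tt N8882 (iv F61384)) (tt N13226 (iv F46713)) (tt N8869 F34029) (tt N13236 (iv F46733)) (tt N9647 (iv F37400)) (tt N8880 (iv F61392)) (tt N5365 (iv D18996)))
theorem Q8871 : ∀ i, i < 8871 → P i := stepQ 8870 Q8870 (allL N8870 (tt N8819 F34030) (tt N13234 (iv F46730)) (tt N8817 F34031) (tt N9648 (iv F37403)) (tt N5366 (iv D18997)) (tt N8870 F34032) (tt N13227 (iv F46719)))
theorem Q8872 : ∀ i, i < 8872 → P i := stepQ 8871 Q8871 (allL N8871 (tt N5368 F34034) (tt N10959 (iv F40937)) (tt N9596 (iv F37270)) (tt N5367 (iv D18999)) (tt N10156 (iv F38585)) (tt N13237 D23476) (tt N10154 F38578))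
theorem Q8873 : ∀ i, i < 8873 → P i := stepQ 8872 Q8872 (allL N8872 (tt N5369 F34035) (tt N13238 D23477) (tt N8872 F34036) (tt N13237 (iv F46741)) (tt N7787 (iv F34769)) (tt N5367 (iv D19000)) (tt N7785 (iv F34790)))
theorem Q8874 : ∀ i, i < 8874 → P i := stepQ 8873 Q8873 (allL N8873 (tt N13237 (iv F46739)) (tt N13183 (iv F46618)) (tt N12908 (iv F45972)) (tt N5369 F34044) (tt N11410 (iv F41913)) (tt N5368 (iv D19004)) (tt N13239 D23478))
theorem Q8875 : ∀ i, i < 8875 → P i := stepQ 8874 Q8874 (allL N8874 (tt N7785 (iv F34789)) (tt N13240 D23479) (tt N8874 F34047) (tt N13239 (iv F46747)) (tt N6505 (iv F34773)) (tt N6504 (iv F34785)) (tt N5369 (iv D19006)))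
theorem Q8876 : ∀ i, i < 8876 → P i := stepQ 8875 Q8875 (allL N8875 (tt N8875 F34054) (tt N5372 F34055) (tt N13241 D23480) (tt N5371 (iv D19008)) (tt N7435 F34056) (tt N8861 F34057) (tt N8861 F34058))
theorem Q8877 : ∀ i, i < 8877 → P i := stepQ 8876 Q8876 (allL N8876 (tt N5373 F34059) (tt N13242 D23481) (tt N5372 (iv D19009)) (tt N8848 F34063) (tt N7436 F34060) (tt N5374 F34061) (tt N5373 F34062))
theorem Q8878 : ∀ i, i < 8878 → P i := stepQ 8877 Q8877 (allL N8877 (tt N13243 D23482) (tt N5373 (iv D19010)) (tt N8865 F34064) (tt N13244 D23483) (tt N7437 F34065) (tt N13245 D23484) (tt N13246 D23485))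
theorem Q8879 : ∀ i, i < 8879 → P i := stepQ 8878 Q8878 (allL N8878 (tt N8848 F34066) (tt N13244 (iv F46762)) (tt N8847 F34067) (tt N5373 (iv D19011)) (tt N13247 D23486) (tt N5376 F34068) (tt N8848 F34069))
theorem Q8880 : ∀ i, i < 8880 → P i := stepQ 8879 Q8879 (allL N8879 (tt N13248 D23487) (tt N5374 (iv D19012)) (tt N8863 F34070) (tt N8855 F34071) (tt N9649 (iv F37407)) (tt N13249 D23488) (tt N13250 D23489))
theorem Q8881 : ∀ i, i < 8881 → P i := stepQ 8880 Q8880 (allL N8880 (tt N5375 (iv D19013)) (tt N7081 F58271) (tt N8880 F34072) (tt N13251 D23491) (tt N9650 (iv F37409)) (tt N8869 F61392) (tt N13232 F61393))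
theorem Q8882 : ∀ i, i < 8882 → P i := stepQ 8881 Q8881 (allL N8881 (tt N13251 (iv F46781)) (tt N5376 F34073) (tt N13252 D23494) (tt N5375 (iv D19014)) (tt N13253 D23495) (tt N13254 D23496) (tt N13235 F61399))
theorem Q8883 : ∀ i, i < 8883 → P i := stepQ 8882 Q8882 (allL N8882 (tt N8869 F61384) (tt N13245 (iv F46764)) (tt N8882 F34074) (tt N13254 (iv F46788)) (tt N9652 (iv F37412)) (tt N5375 (iv D19015)) (tt N8866 F61385))
theorem Q8884 : ∀ i, i < 8884 → P i := stepQ 8883 Q8883 (allL N8883 (tt N8856 F34077) (tt N13253 (iv F46787)) (tt N8854 F34078) (tt N9653 (iv F37418)) (tt N5376 (iv D19017)) (tt N13247 (iv F46772)) (tt N8883 F34079))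
theorem Q8885 : ∀ i, i < 8885 → P i := stepQ 8884 Q8884 (allL N8884 (tt N5377 (iv D19018)) (tt N7191 (iv F34082)) (tt N6716 F34080) (tt N8949 (iv F35596)) (tt N7190 F34081) (tt N8949 (iv F35597)) (tt N12590 (iv F45050)))
theorem Q8886 : ∀ i, i < 8886 → P i := stepQ 8885 Q8885 (allL N8885 (tt N12590 (iv F45047)) (tt N8899 (iv F34127)) (tt N10555 (iv F39477)) (tt N10554 (iv F39475)) (tt N12821 (iv F45750)) (tt N9039 (iv F35790)) (tt N5377 (iv D19019)))
theorem Q8887 : ∀ i, i < 8887 → P i := stepQ 8886 Q8886 (allL N8886 (tt N5378 (iv D19020)) (tt N7292 (iv F34572)) (tt N6792 (iv F34166)) (tt N9017 (iv F35744)) (tt N7291 F34576) (tt N12584 F45021) (tt N9017 (iv F35746)))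
theorem Q8888 : ∀ i, i < 8888 → P i := stepQ 8887 Q8887 (allL N8887 (tt N12584 (iv F45018)) (tt N8893 (iv F34094)) (tt N10553 (iv F39469)) (tt N10608 (iv F39963)) (tt N12822 (iv F45752)) (tt N5378 (iv D19022)) (tt N8973 (iv F35639)))
theorem Q8889 : ∀ i, i < 8889 → P i := stepQ 8888 Q8888 (allL N8888 (tt N7205 F34084) (tt N5379 (iv D19023)) (tt N7370 F34085) (tt N5398 F34086) (tt N7203 F34087) (tt N8260 (iv F34088)) (tt N12569 (iv F44959)))
theorem Q8890 : ∀ i, i < 8890 → P i := stepQ 8889 Q8889 (allL N8889 (tt N6013 F34089) (tt N6670 (iv F34265)) (tt N5381 F34090) (tt N6010 F34091) (tt N12831 (iv F45769)) (tt N8904 (iv F34151)) (tt N5380 (iv D19024)))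
theorem Q8891 : ∀ i, i < 8891 → P i := stepQ 8890 Q8890 (allL N8890 (tt N12576 (iv F44984)) (tt N5381 (iv D19025)) (tt N6676 F35022) (tt N9783 (iv F37718)) (tt N12832 (iv F45772)) (tt N6688 (iv F35021)) (tt N5382 F34093))
theorem Q8892 : ∀ i, i < 8892 → P i := stepQ 8891 Q8891 (allL N8891 (tt N5382 (iv D19026)) (tt N9061 (iv F35829)) (tt N10621 (iv F40005)) (tt N8993 (iv F35675)) (tt N12833 (iv F45775)) (tt N5510 F35026) (tt N12576 (iv F44987)))
theorem Q8893 : ∀ i, i < 8893 → P i := stepQ 8892 Q8892 (allL N8892 (tt N10621 (iv F40004)) (tt N8898 (iv F34119)) (tt N5382 (iv D19027)) (tt N6685 (iv F35056)) (tt N12834 (iv F45779)) (tt N8495 (iv F34121)) (tt N6676 F35055))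
theorem Q8894 : ∀ i, i < 8894 → P i := stepQ 8893 Q8893 (allL N8893 (tt N5510 (iv F35025)) (tt N8887 F34094) (tt N8495 F34124) (tt N8991 (iv F35672)) (tt N12835 (iv F45786)) (tt N5382 (iv D19028)) (tt N8500 (iv F34125)))
theorem Q8895 : ∀ i, i < 8895 → P i := stepQ 8894 Q8894 (allL N8894 (tt N7305 F34571) (tt N5383 (iv D19029)) (tt N7401 F34570) (tt N5414 F34568) (tt N7303 (iv F34573)) (tt N12575 (iv F44982)) (tt N8271 (iv F34667)))
theorem Q8896 : ∀ i, i < 8896 → P i := stepQ 8895 Q8895 (allL N8895 (tt N6029 (iv F35374)) (tt N6622 F34102) (tt N5385 F34098) (tt N6026 (iv F34470)) (tt N12836 (iv F45790)) (tt N5384 (iv D19032)) (tt N8911 (iv F34159)))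
theorem Q8897 : ∀ i, i < 8897 → P i := stepQ 8896 Q8896 (allL N8896 (tt N12570 (iv F44961)) (tt N5385 (iv D19033)) (tt N6629 (iv F34101)) (tt N9836 (iv F37814)) (tt N12837 (iv F45793)) (tt N5386 F34099) (tt N6643 F34100))
theorem Q8898 : ∀ i, i < 8898 → P i := stepQ 8897 Q8897 (allL N8897 (tt N5386 (iv D19034)) (tt N8999 (iv F35684)) (tt N10570 (iv F39524)) (tt N9058 (iv F35824)) (tt N12838 (iv F45796)) (tt N12570 (iv F44963)) (tt N5470 (iv F34118)))
theorem Q8899 : ∀ i, i < 8899 → P i := stepQ 8898 Q8898 (allL N8898 (tt N10570 (iv F39523)) (tt N8892 F34119) (tt N5386 (iv D19035)) (tt N6639 (iv F34122)) (tt N12839 (iv F45801)) (tt N6629 F34120) (tt N8524 (iv F34123)))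
theorem Q8900 : ∀ i, i < 8900 → P i := stepQ 8899 Q8899 (allL N8899 (tt N5470 F34126) (tt N8885 F34127) (tt N8524 F34128) (tt N9055 (iv F35819)) (tt N12840 (iv F45808)) (tt N8529 (iv F34129)) (tt N5386 (iv D19036)))
theorem Q8901 : ∀ i, i < 8901 → P i := stepQ 8900 Q8900 (allL N8900 (tt N5387 (iv D19037)) (tt N5397 F34140) (tt N7447 (iv F34141)) (tt N8902 (iv F34147)) (tt N12853 (iv F45831)) (tt N8254 (iv F34142)) (tt N12588 (iv F45042)))
theorem Q8902 : ∀ i, i < 8902 → P i := stepQ 8901 Q8901 (allL N8901 (tt N7447 F34143) (tt N9896 (iv F37927)) (tt N5387 (iv D19038)) (tt N7446 (iv F34144)) (tt N12854 (iv F45836)) (tt N11813 (iv F42865)) (tt N13255 D23500))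
theorem Q8903 : ∀ i, i < 8903 → P i := stepQ 8902 Q8902 (allL N8902 (tt N8254 F34145) (tt N8260 F34146) (tt N11813 (iv F42864)) (tt N8900 F34147) (tt N12855 (iv F45839)) (tt N5387 (iv D19039)) (tt N9016 (iv F35747)))
theorem Q8904 : ∀ i, i < 8904 → P i := stepQ 8903 Q8903 (allL N8903 (tt N12588 F45043) (tt N9066 F35843) (tt N13255 (iv F46797)) (tt N12567 (iv F44949)) (tt N12856 (iv F45841)) (tt N12567 (iv F44950)) (tt N5387 (iv D19040)))
theorem Q8905 : ∀ i, i < 8905 → P i := stepQ 8904 Q8904 (allL N8904 (tt N5390 F34148) (tt N6582 F35018) (tt N5389 F34149) (tt N5952 F34150) (tt N12857 (iv F45844)) (tt N8889 F34151) (tt N5388 (iv D19041)))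
theorem Q8906 : ∀ i, i < 8906 → P i := stepQ 8905 Q8905 (allL N8905 (tt N9069 (iv F35849)) (tt N5389 (iv D19042)) (tt N6585 (iv F35019)) (tt N9007 (iv F35711)) (tt N12858 (iv F45848)) (tt N5507 (iv F35029)) (tt N9066 (iv F35842)))
theorem Q8907 : ∀ i, i < 8907 → P i := stepQ 8906 Q8906 (allL N8906 (tt N8523 (iv F34154)) (tt N5390 (iv D19043)) (tt N8944 (iv F35567)) (tt N8072 F34152) (tt N12269 (iv F44062)) (tt N10720 (iv F40254)) (tt N8070 F34153))
theorem Q8908 : ∀ i, i < 8908 → P i := stepQ 8907 Q8907 (allL N8907 (tt N5392 (iv D19045)) (tt N5413 F34155) (tt N7450 F35175) (tt N8910 F34672) (tt N12859 (iv F45851)) (tt N12581 (iv F45003)) (tt N8257 F34666))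
theorem Q8909 : ∀ i, i < 8909 → P i := stepQ 8908 Q8908 (allL N8908 (tt N7450 (iv F35176)) (tt N9913 (iv F37974)) (tt N5392 (iv D19046)) (tt N7449 F35177) (tt N12860 (iv F45856)) (tt N13256 D23501) (tt N12030 (iv F43399)))
theorem Q8910 : ∀ i, i < 8910 → P i := stepQ 8909 Q8909 (allL N8909 (tt N12581 F45005) (tt N9005 F35702) (tt N13256 (iv F46800)) (tt N12568 (iv F44953)) (tt N12861 (iv F45858)) (tt N5392 (iv D19047)) (tt N12568 (iv F44954)))
theorem Q8911 : ∀ i, i < 8911 → P i := stepQ 8910 Q8910 (allL N8910 (tt N8257 (iv F34671)) (tt N8271 F34670) (tt N12030 (iv F43397)) (tt N8907 (iv F34672)) (tt N12862 (iv F45861)) (tt N8950 (iv F35613)) (tt N5392 (iv D19048)))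
theorem Q8912 : ∀ i, i < 8912 → P i := stepQ 8911 Q8911 (allL N8911 (tt N5395 F34157) (tt N6543 F34164) (tt N5394 F34158) (tt N5957 F35370) (tt N12863 (iv F45864)) (tt N5393 (iv D19051)) (tt N8895 F34159))
theorem Q8913 : ∀ i, i < 8913 → P i := stepQ 8912 Q8912 (allL N8912 (tt N9007 (iv F35710)) (tt N5394 (iv D19052)) (tt N6547 F35506) (tt N9069 (iv F35850)) (tt N12864 (iv F45868)) (tt N9005 (iv F35701)) (tt N5465 F35507))
theorem Q8914 : ∀ i, i < 8914 → P i := stepQ 8913 Q8913 (allL N8913 (tt N8552 (iv F35510)) (tt N5395 (iv D19053)) (tt N8928 (iv F35536)) (tt N8115 F35508) (tt N12327 (iv F44199)) (tt N8114 F35509) (tt N10801 (iv F40491)))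
theorem Q8915 : ∀ i, i < 8915 → P i := stepQ 8914 Q8914 (allL N8914 (tt N5400 F35511) (tt N7310 (iv F35512)) (tt N8916 (iv F35519)) (tt N9028 (iv F35772)) (tt N7311 F35513) (tt N8916 (iv F35520)) (tt N5397 (iv D19055)))
theorem Q8916 : ∀ i, i < 8916 → P i := stepQ 8915 Q8915 (allL N8915 (tt N8916 (iv F35518)) (tt N9059 F35827) (tt N5400 F35516) (tt N12569 (iv F44957)) (tt N12892 (iv F45931)) (tt N5400 F35517) (tt N5398 (iv D19056)))
theorem Q8917 : ∀ i, i < 8917 → P i := stepQ 8916 Q8916 (allL N8916 (tt N8915 F35518) (tt N11455 (iv F42009)) (tt N8914 F35519) (tt N11296 (iv F41667)) (tt N11456 (iv F42015)) (tt N8914 F35520) (tt N5399 (iv D19057)))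
theorem Q8918 : ∀ i, i < 8918 → P i := stepQ 8917 Q8917 (allL N8917 (tt N8979 (iv F35649)) (tt N13257 D23502) (tt N8979 (iv F35650)) (tt N12893 (iv F45934)) (tt N5402 F35521) (tt N8968 (iv F35635)) (tt N5401 (iv D19058)))
theorem Q8919 : ∀ i, i < 8919 → P i := stepQ 8918 Q8918 (allL N8918 (tt N11982 (iv F46811)) (tt N5402 (iv D19059)) (tt N13258 D23504) (tt N5403 F35522) (tt N13257 (iv F46802)) (tt N13258 (iv F46805)) (tt N9770 (iv F37694)))
theorem Q8920 : ∀ i, i < 8920 → P i := stepQ 8919 Q8919 (allL N8919 (tt N5403 (iv D19060)) (tt N11981 (iv F46810)) (tt N13259 D23506) (tt N11982 (iv F46812)) (tt N12895 (iv F45937)) (tt N13260 D23507) (tt N12733 (iv F45467)))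
theorem Q8921 : ∀ i, i < 8921 → P i := stepQ 8920 Q8920 (allL N8920 (tt N13259 (iv F46807)) (tt N5405 F35523) (tt N5403 (iv D19061)) (tt N10744 (iv F40331)) (tt N12896 (iv F45939)) (tt N13261 D23508) (tt N12734 (iv F45469)))
theorem Q8922 : ∀ i, i < 8922 → P i := stepQ 8921 Q8921 (allL N8921 (tt N13260 (iv F46808)) (tt N8972 (iv F35638)) (tt N13261 (iv F46813)) (tt N13258 F46806) (tt N12897 (iv F45941)) (tt N5403 (iv D19062)) (tt N13262 D23509))
theorem Q8923 : ∀ i, i < 8923 → P i := stepQ 8922 Q8922 (allL N8922 (tt N9836 (iv F37813)) (tt N5404 (iv D19063)) (tt N13263 D23510) (tt N12570 (iv F44962)) (tt N12898 (iv F45942)) (tt N9058 F35861) (tt N12787 (iv F45637)))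
theorem Q8924 : ∀ i, i < 8924 → P i := stepQ 8923 Q8923 (allL N8923 (tt N5407 (iv D19067)) (tt N8939 (iv F35558)) (tt N13264 D23511) (tt N9027 (iv F35769)) (tt N12899 (iv F45943)) (tt N12583 (iv F45012)) (tt N8292 (iv F35528)))
theorem Q8925 : ∀ i, i < 8925 → P i := stepQ 8924 Q8924 (allL N8924 (tt N13264 (iv F46819)) (tt N13265 D23512) (tt N5407 (iv D19068)) (tt N5596 F36129) (tt N12900 (iv F45946)) (tt N5595 F36130) (tt N13266 D23513))
theorem Q8926 : ∀ i, i < 8926 → P i := stepQ 8925 Q8925 (allL N8925 (tt N8292 F35529) (tt N12787 (iv F45635)) (tt N13266 (iv F46827)) (tt N9025 (iv F35760)) (tt N12901 (iv F45949)) (tt N8294 (iv F35530)) (tt N5407 (iv D19069)))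
theorem Q8927 : ∀ i, i < 8927 → P i := stepQ 8926 Q8926 (allL N8926 (tt N10590 F40025) (tt N5408 (iv D19070)) (tt N13265 (iv F46823)) (tt N10634 (iv F40038)) (tt N12902 (iv F45951)) (tt N13267 D23514) (tt N13268 D23515))
theorem Q8928 : ∀ i, i < 8928 → P i := stepQ 8927 Q8927 (allL N8927 (tt N5411 F35532) (tt N13269 D23516) (tt N5409 F35533) (tt N6824 F35991) (tt N12903 (iv F45955)) (tt N5408 (iv D19072)) (tt N6823 (iv F35967)))
theorem Q8929 : ∀ i, i < 8929 → P i := stepQ 8928 Q8928 (allL N8928 (tt N12807 (iv F45695)) (tt N5411 (iv D19076)) (tt N8913 F35536) (tt N6827 F35992) (tt N12904 (iv F45958)) (tt N12396 (iv F44452)) (tt N6848 (iv F35993)))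
theorem Q8930 : ∀ i, i < 8930 → P i := stepQ 8929 Q8929 (allL N8929 (tt N8290 F35694) (tt N5412 (iv D19078)) (tt N6845 F35963) (tt N9001 F35689) (tt N12905 (iv F45962)) (tt N9073 (iv F35860)) (tt N8288 (iv F35693)))
theorem Q8931 : ∀ i, i < 8931 → P i := stepQ 8930 Q8930 (allL N8930 (tt N5415 F35541) (tt N7210 F35542) (tt N8932 (iv F35549)) (tt N8958 (iv F35610)) (tt N7211 (iv F35543)) (tt N5413 (iv D19079)) (tt N8932 (iv F35550)))
theorem Q8932 : ∀ i, i < 8932 → P i := stepQ 8931 Q8931 (allL N8931 (tt N8932 (iv F35548)) (tt N8997 (iv F35691)) (tt N5415 F35546) (tt N12575 (iv F44980)) (tt N12907 (iv F45970)) (tt N5414 (iv D19080)) (tt N5415 F35547))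
theorem Q8933 : ∀ i, i < 8933 → P i := stepQ 8932 Q8932 (allL N8932 (tt N8931 F35548) (tt N11296 (iv F41665)) (tt N8930 F35549) (tt N11455 (iv F42011)) (tt N11298 (iv F41674)) (tt N5416 (iv D19081)) (tt N8930 F35550))
theorem Q8934 : ∀ i, i < 8934 → P i := stepQ 8933 Q8933 (allL N8933 (tt N9044 (iv F35798)) (tt N13270 D23517) (tt N9044 (iv F35799)) (tt N12908 (iv F45973)) (tt N5418 F35551) (tt N5417 (iv D19082)) (tt N9034 (iv F35786)))
theorem Q8935 : ∀ i, i < 8935 → P i := stepQ 8934 Q8934 (allL N8934 (tt N12180 (iv F43853)) (tt N5418 (iv D19083)) (tt N13271 D23518) (tt N5419 F35552) (tt N13270 (iv F46834)) (tt N9825 (iv F37793)) (tt N13271 F46836))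
theorem Q8936 : ∀ i, i < 8936 → P i := stepQ 8935 Q8935 (allL N8935 (tt N5419 (iv D19084)) (tt N12179 (iv F43855)) (tt N13272 D23519) (tt N12180 F43854) (tt N12910 (iv F45976)) (tt N12742 (iv F45492)) (tt N13273 D23520))
theorem Q8937 : ∀ i, i < 8937 → P i := stepQ 8936 Q8936 (allL N8936 (tt N13272 (iv F46838)) (tt N5421 F35553) (tt N5419 (iv D19085)) (tt N10662 (iv F40114)) (tt N12911 (iv F45978)) (tt N12743 (iv F45494)) (tt N13274 D23521))
theorem Q8938 : ∀ i, i < 8938 → P i := stepQ 8937 Q8937 (allL N8937 (tt N13273 (iv F46839)) (tt N9038 (iv F35789)) (tt N13274 (iv F46841)) (tt N13271 (iv F46837)) (tt N12912 (iv F45980)) (tt N13275 D23522) (tt N5419 (iv D19086)))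
theorem Q8939 : ∀ i, i < 8939 → P i := stepQ 8938 Q8938 (allL N8938 (tt N9783 (iv F37717)) (tt N5420 (iv D19087)) (tt N13276 D23523) (tt N12576 (iv F44985)) (tt N12913 (iv F45981)) (tt N12762 (iv F45552)) (tt N8993 (iv F35722)))
theorem Q8940 : ∀ i, i < 8940 → P i := stepQ 8939 Q8939 (allL N8939 (tt N5423 (iv D19091)) (tt N8923 F35558) (tt N13277 D23524) (tt N8961 (iv F35622)) (tt N12914 (iv F45983)) (tt N8283 F35559) (tt N12586 (iv F45035)))
theorem Q8941 : ∀ i, i < 8941 → P i := stepQ 8940 Q8940 (allL N8940 (tt N13277 (iv F46847)) (tt N13278 D23525) (tt N5423 (iv D19092)) (tt N5553 F35987) (tt N12915 (iv F45986)) (tt N13279 D23526) (tt N5551 F35988))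
theorem Q8942 : ∀ i, i < 8942 → P i := stepQ 8941 Q8941 (allL N8941 (tt N8283 F35560) (tt N12762 (iv F45551)) (tt N13279 (iv F46855)) (tt N8959 (iv F35614)) (tt N12916 (iv F45989)) (tt N5423 (iv D19093)) (tt N8285 F35561))
theorem Q8943 : ∀ i, i < 8943 → P i := stepQ 8942 Q8942 (allL N8942 (tt N10586 (iv F39886)) (tt N5424 (iv D19094)) (tt N13278 (iv F46851)) (tt N10585 F39885) (tt N12917 (iv F45991)) (tt N13280 D23527) (tt N13281 D23528))
theorem Q8944 : ∀ i, i < 8944 → P i := stepQ 8943 Q8943 (allL N8943 (tt N5427 F35563) (tt N13282 D23529) (tt N5425 F35564) (tt N6750 F36136) (tt N12918 (iv F45995)) (tt N6749 (iv F36111)) (tt N5424 (iv D19096)))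
theorem Q8945 : ∀ i, i < 8945 → P i := stepQ 8944 Q8944 (allL N8944 (tt N12782 (iv F45611)) (tt N5427 (iv D19100)) (tt N8906 F35567) (tt N6753 F36137) (tt N12919 (iv F45998)) (tt N6774 (iv F36138)) (tt N12350 (iv F44286)))
theorem Q8946 : ∀ i, i < 8946 → P i := stepQ 8945 Q8945 (allL N8945 (tt N8299 F35725) (tt N5428 (iv D19102)) (tt N6771 F36108) (tt N9063 (iv F35834)) (tt N12920 (iv F46002)) (tt N8297 (iv F35724)) (tt N9012 F35721))
theorem Q8947 : ∀ i, i < 8947 → P i := stepQ 8946 Q8946 (allL N8946 (tt N5433 F35572) (tt N5518 F35573) (tt N7471 F35574) (tt N5429 (iv D19103)) (tt N13283 D23530) (tt N6540 (iv F35575)) (tt N7473 (iv F35576)))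
theorem Q8948 : ∀ i, i < 8948 → P i := stepQ 8947 Q8947 (allL N8947 (tt N5434 F35586) (tt N6538 F35587) (tt N5430 F35588) (tt N6540 F35589) (tt N12954 (iv F46082)) (tt N5429 (iv D19104)) (tt N8957 (iv F35609)))
theorem Q8949 : ∀ i, i < 8949 → P i := stepQ 8948 Q8948 (allL N8948 (tt N5435 F35590) (tt N7485 (iv F35593)) (tt N5431 F35591) (tt N7473 F35592) (tt N12955 (iv F46085)) (tt N8955 (iv F35606)) (tt N5429 (iv D19105)))
theorem Q8950 : ∀ i, i < 8950 → P i := stepQ 8949 Q8949 (allL N8949 (tt N6630 F35594) (tt N5430 (iv D19106)) (tt N6623 F35595) (tt N8884 F35596) (tt N11268 (iv F41614)) (tt N8884 F35597) (tt N9039 (iv F35791)))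
theorem Q8951 : ∀ i, i < 8951 → P i := stepQ 8950 Q8950 (allL N8950 (tt N12568 (iv F44951)) (tt N5431 (iv D19107)) (tt N11872 F43011) (tt N12581 (iv F45001)) (tt N12956 (iv F46087)) (tt N8910 F35613) (tt N12581 (iv F45004)))
theorem Q8952 : ∀ i, i < 8952 → P i := stepQ 8951 Q8951 (allL N8951 (tt N5440 F35598) (tt N10293 (iv F38860)) (tt N5440 F35599) (tt N9408 (iv F36771)) (tt N12958 (iv F46094)) (tt N5432 (iv D19108)) (tt N8967 (iv F35631)))
theorem Q8953 : ∀ i, i < 8953 → P i := stepQ 8952 Q8952 (allL N8952 (tt N5441 F35600) (tt N12022 F43379) (tt N5441 F35601) (tt N9413 (iv F36791)) (tt N12959 (iv F46097)) (tt N8965 (iv F35627)) (tt N5432 (iv D19109)))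
theorem Q8954 : ∀ i, i < 8954 → P i := stepQ 8953 Q8953 (allL N8953 (tt N13283 (iv F46862)) (tt N9370 (iv F36661)) (tt N9352 F36608) (tt N12961 (iv F46098)) (tt N5433 (iv D19110)) (tt N10385 (iv F39078)) (tt N13284 D23531))
theorem Q8955 : ∀ i, i < 8955 → P i := stepQ 8954 Q8954 (allL N8954 (tt N7473 F35602) (tt N10488 (iv F39297)) (tt N7472 F35603) (tt N5435 F35604) (tt N13284 (iv F46869)) (tt N10447 (iv F39216)) (tt N5433 (iv D19111)))
theorem Q8956 : ∀ i, i < 8956 → P i := stepQ 8955 Q8955 (allL N8955 (tt N8957 (iv F35607)) (tt N13285 D23532) (tt N5436 F35605) (tt N11680 (iv F42498)) (tt N12964 (iv F46102)) (tt N8948 F35606) (tt N5434 (iv D19112)))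
theorem Q8957 : ∀ i, i < 8957 → P i := stepQ 8956 Q8956 (allL N8956 (tt N10485 (iv F39301)) (tt N5435 (iv D19113)) (tt N13286 D23533) (tt N10488 F39300) (tt N12965 (iv F46104)) (tt N13287 D23534) (tt N12022 (iv F43378)))
theorem Q8958 : ∀ i, i < 8958 → P i := stepQ 8957 Q8957 (allL N8957 (tt N8955 F35607) (tt N13288 D23535) (tt N5438 F35608) (tt N10447 (iv F39215)) (tt N12966 (iv F46107)) (tt N5435 (iv D19114)) (tt N8947 F35609))
theorem Q8959 : ∀ i, i < 8959 → P i := stepQ 8958 Q8958 (allL N8958 (tt N8272 F35612) (tt N5436 (iv D19115)) (tt N11463 (iv F42034)) (tt N8930 F35610) (tt N11457 (iv F42020)) (tt N8271 (iv F35611)) (tt N11455 (iv F42013)))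
theorem Q8960 : ∀ i, i < 8960 → P i := stepQ 8959 Q8959 (allL N8959 (tt N5437 (iv D19116)) (tt N8500 F35617) (tt N8499 (iv F35618)) (tt N8941 F35614) (tt N12967 (iv F46109)) (tt N8276 F35616) (tt N5445 F35615))
theorem Q8961 : ∀ i, i < 8961 → P i := stepQ 8960 Q8960 (allL N8960 (tt N8499 F35619) (tt N13286 (iv F46872)) (tt N5437 (iv D19117)) (tt N10394 (iv F39098)) (tt N12968 (iv F46115)) (tt N10390 (iv F39094)) (tt N5446 F35620))
theorem Q8962 : ∀ i, i < 8962 → P i := stepQ 8961 Q8961 (allL N8961 (tt N8276 F35621) (tt N9027 (iv F35768)) (tt N10390 F39093) (tt N8939 F35622) (tt N12969 (iv F46118)) (tt N5437 (iv D19118)) (tt N8975 (iv F35644)))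
theorem Q8963 : ∀ i, i < 8963 → P i := stepQ 8962 Q8962 (allL N8962 (tt N5491 F35726) (tt N5438 (iv D19119)) (tt N13289 D23536) (tt N12583 (iv F45010)) (tt N12970 (iv F46120)) (tt N9027 (iv F35770)) (tt N5489 (iv F35727)))
theorem Q8964 : ∀ i, i < 8964 → P i := stepQ 8963 Q8963 (allL N8963 (tt N9370 (iv F36660)) (tt N5442 F35623) (tt N5525 F35624) (tt N12971 (iv F46123)) (tt N5439 (iv D19120)) (tt N9494 (iv F36997)) (tt N13290 D23537))
theorem Q8965 : ∀ i, i < 8965 → P i := stepQ 8964 Q8964 (allL N8964 (tt N9413 (iv F36789)) (tt N13291 D23538) (tt N5527 F35625) (tt N5441 F35626) (tt N13290 (iv F46903)) (tt N13292 D23539) (tt N5439 (iv D19121)))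
theorem Q8966 : ∀ i, i < 8966 → P i := stepQ 8965 Q8965 (allL N8965 (tt N8967 (iv F35629)) (tt N13293 D23540) (tt N8967 (iv F35630)) (tt N9670 (iv F37470)) (tt N12974 (iv F46126)) (tt N8952 F35627) (tt N5440 (iv D19122)))
theorem Q8967 : ∀ i, i < 8967 → P i := stepQ 8966 Q8966 (allL N8966 (tt N13294 D23541) (tt N5441 (iv D19123)) (tt N13295 D23542) (tt N13291 (iv F46905)) (tt N12975 (iv F46128)) (tt N13296 D23543) (tt N5444 F35628))
theorem Q8968 : ∀ i, i < 8968 → P i := stepQ 8967 Q8967 (allL N8967 (tt N8965 F35629) (tt N13297 D23544) (tt N8965 F35630) (tt N13292 (iv F46909)) (tt N12976 (iv F46132)) (tt N5441 (iv D19124)) (tt N8951 F35631))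
theorem Q8969 : ∀ i, i < 8969 → P i := stepQ 8968 Q8968 (allL N8968 (tt N5448 F35632) (tt N13298 D23545) (tt N5448 F35633) (tt N12977 (iv F46135)) (tt N5443 F35634) (tt N8917 F35635) (tt N5442 (iv D19125)))
theorem Q8970 : ∀ i, i < 8970 → P i := stepQ 8969 Q8969 (allL N8969 (tt N13299 D23546) (tt N5443 (iv D19126)) (tt N13300 D23547) (tt N5444 F35636) (tt N13298 (iv F46919)) (tt N13301 D23548) (tt N13291 (iv F46906)))
theorem Q8971 : ∀ i, i < 8971 → P i := stepQ 8970 Q8970 (allL N8970 (tt N5444 (iv D19127)) (tt N13302 D23549) (tt N12258 F44047) (tt N13299 (iv F46920)) (tt N12979 (iv F46139)) (tt N13303 D23550) (tt N13294 (iv F46915)))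
theorem Q8972 : ∀ i, i < 8972 → P i := stepQ 8971 Q8971 (allL N8971 (tt N12258 (iv F44046)) (tt N5446 F35637) (tt N5444 (iv D19128)) (tt N12261 F44045) (tt N12980 (iv F46141)) (tt N13304 D23551) (tt N13295 (iv F46916)))
theorem Q8973 : ∀ i, i < 8973 → P i := stepQ 8972 Q8972 (allL N8972 (tt N13303 (iv F46938)) (tt N8921 F35638) (tt N13304 (iv F46944)) (tt N13301 (iv F46929)) (tt N12981 (iv F46143)) (tt N5444 (iv D19129)) (tt N13305 D23552))
theorem Q8974 : ∀ i, i < 8974 → P i := stepQ 8973 Q8973 (allL N8973 (tt N10608 (iv F39960)) (tt N5445 (iv D19130)) (tt N10602 (iv F39941)) (tt N12584 (iv F45019)) (tt N12982 (iv F46144)) (tt N9017 (iv F35745)) (tt N8887 F35639))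
theorem Q8975 : ∀ i, i < 8975 → P i := stepQ 8974 Q8974 (allL N8974 (tt N5446 F35640) (tt N8496 (iv F35642)) (tt N5445 (iv D19131)) (tt N12045 (iv F43439)) (tt N12983 (iv F46148)) (tt N13306 D23553) (tt N8499 F35641))
theorem Q8976 : ∀ i, i < 8976 → P i := stepQ 8975 Q8975 (allL N8975 (tt N5447 F35643) (tt N5481 (iv F35645)) (tt N13306 (iv F46951)) (tt N12586 (iv F45033)) (tt N12984 (iv F46153)) (tt N5445 (iv D19132)) (tt N8961 F35644))
theorem Q8977 : ∀ i, i < 8977 → P i := stepQ 8976 Q8976 (allL N8976 (tt N12045 (iv F43436)) (tt N12261 (iv F44043)) (tt N12044 (iv F43435)) (tt N5446 (iv D19133)) (tt N13307 D23554) (tt N12307 (iv F44155)) (tt N10394 F39099))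
theorem Q8978 : ∀ i, i < 8978 → P i := stepQ 8977 Q8977 (allL N8977 (tt N13306 (iv F46950)) (tt N13308 D23555) (tt N5447 F35646) (tt N12307 (iv F44157)) (tt N12986 (iv F46156)) (tt N5446 (iv D19134)) (tt N12578 (iv F44995)))
theorem Q8979 : ∀ i, i < 8979 → P i := stepQ 8978 Q8978 (allL N8978 (tt N13309 D23556) (tt N5448 (iv D19135)) (tt N13310 D23557) (tt N12987 (iv F46157)) (tt N5449 F35647) (tt N13310 F46961) (tt N5531 F35648))
theorem Q8980 : ∀ i, i < 8980 → P i := stepQ 8979 Q8979 (allL N8979 (tt N8917 F35649) (tt N13311 D23558) (tt N8917 F35650) (tt N12988 (iv F46161)) (tt N5450 F35651) (tt N5448 (iv D19136)) (tt N5894 F35652))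
theorem Q8981 : ∀ i, i < 8981 → P i := stepQ 8980 Q8980 (allL N8980 (tt N5449 (iv D19137)) (tt N10397 (iv F39103)) (tt N9098 (iv F35914)) (tt N5451 F35653) (tt N13309 (iv F46957)) (tt N9098 (iv F35916)) (tt N5533 F35654))
theorem Q8982 : ∀ i, i < 8982 → P i := stepQ 8981 Q8981 (allL N8981 (tt N9098 (iv F35913)) (tt N13300 (iv F46923)) (tt N5449 (iv D19138)) (tt N5453 (iv F35656)) (tt N13310 (iv F46959)) (tt N5449 (iv F35657)) (tt N5534 F35655))
theorem Q8983 : ∀ i, i < 8983 → P i := stepQ 8982 Q8982 (allL N8982 (tt N13312 D23559) (tt N5450 (iv D19139)) (tt N13301 (iv F46928)) (tt N5454 F35658) (tt N13311 (iv F46962)) (tt N13300 F46925) (tt N6050 F35659))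
theorem Q8984 : ∀ i, i < 8984 → P i := stepQ 8983 Q8983 (allL N8983 (tt N13313 D23560) (tt N5451 (iv D19140)) (tt N6603 (iv F35661)) (tt N10397 (iv F39104)) (tt N12993 (iv F46169)) (tt N13314 D23561) (tt N6602 F35660))
theorem Q8985 : ∀ i, i < 8985 → P i := stepQ 8984 Q8984 (allL N8984 (tt N5452 F35662) (tt N7923 F35663) (tt N5451 (iv D19141)) (tt N13315 D23562) (tt N12994 (iv F46174)) (tt N9106 (iv F35932)) (tt N5538 F35664))
theorem Q8986 : ∀ i, i < 8986 → P i := stepQ 8985 Q8985 (allL N8985 (tt N13315 (iv F46976)) (tt N5457 F35665) (tt N13316 D23563) (tt N5452 (iv D19142)) (tt N13079 (iv F46375)) (tt N13317 D23564) (tt N5540 F35666))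
theorem Q8987 : ∀ i, i < 8987 → P i := stepQ 8986 Q8986 (allL N8986 (tt N9106 (iv F35930)) (tt N13318 D23565) (tt N5453 F35667) (tt N13317 (iv F46986)) (tt N12996 (iv F46179)) (tt N5452 (iv D19143)) (tt N9101 (iv F35923)))
theorem Q8988 : ∀ i, i < 8988 → P i := stepQ 8987 Q8987 (allL N8987 (tt N13319 D23566) (tt N5453 (iv D19144)) (tt N13320 D23567) (tt N13300 F46924) (tt N12997 (iv F46180)) (tt N5454 F35668) (tt N13321 D23568))
theorem Q8989 : ∀ i, i < 8989 → P i := stepQ 8988 Q8988 (allL N8988 (tt N5454 (iv D19145)) (tt N13322 D23569) (tt N13323 D23570) (tt N13312 (iv F46966)) (tt N12998 (iv F46182)) (tt N13319 (iv F46989)) (tt N13324 D23571))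
theorem Q8990 : ∀ i, i < 8990 → P i := stepQ 8989 Q8989 (allL N8989 (tt N13323 (iv F46995)) (tt N5461 F35669) (tt N5454 (iv D19146)) (tt N9787 F37726) (tt N12999 (iv F46184)) (tt N13320 (iv F46990)) (tt N13325 D23572))
theorem Q8991 : ∀ i, i < 8991 → P i := stepQ 8990 Q8990 (allL N8990 (tt N13324 (iv F46996)) (tt N6049 F35670) (tt N13325 (iv F46999)) (tt N6050 F35671) (tt N13000 (iv F46186)) (tt N13326 D23573) (tt N5454 (iv D19147)))
theorem Q8992 : ∀ i, i < 8992 → P i := stepQ 8991 Q8991 (allL N8991 (tt N5455 (iv D19148)) (tt N10608 (iv F39961)) (tt N13327 D23574) (tt N8893 F35672) (tt N13001 (iv F46187)) (tt N8252 (iv F35673)) (tt N12762 (iv F45553)))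
theorem Q8993 : ∀ i, i < 8993 → P i := stepQ 8992 Q8992 (allL N8992 (tt N13327 (iv F47004)) (tt N13328 D23575) (tt N5455 (iv D19149)) (tt N13329 D23576) (tt N13002 (iv F46189)) (tt N13330 D23577) (tt N13331 D23578))
theorem Q8994 : ∀ i, i < 8994 → P i := stepQ 8993 Q8993 (allL N8993 (tt N8252 F35674) (tt N9012 (iv F35720)) (tt N13330 (iv F47011)) (tt N8891 F35675) (tt N13003 (iv F46191)) (tt N5455 (iv D19150)) (tt N8938 F35722))
theorem Q8995 : ∀ i, i < 8995 → P i := stepQ 8994 Q8994 (allL N8994 (tt N12762 (iv F45550)) (tt N5466 F35676) (tt N13331 (iv F47013)) (tt N6688 F35677) (tt N13004 (iv F46194)) (tt N9783 (iv F37719)) (tt N5455 (iv D19151)))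
theorem Q8996 : ∀ i, i < 8996 → P i := stepQ 8995 Q8995 (allL N8995 (tt N13332 D23579) (tt N5456 (iv D19152)) (tt N13328 (iv F47006)) (tt N5496 F35678) (tt N13005 (iv F46195)) (tt N5584 F35679) (tt N13333 D23580))
theorem Q8997 : ∀ i, i < 8997 → P i := stepQ 8996 Q8996 (allL N8996 (tt N13334 D23581) (tt N5458 (iv D19153)) (tt N13335 D23582) (tt N5508 F35680) (tt N13009 (iv F46208)) (tt N13318 (iv F46988)) (tt N8034 F35681))
theorem Q8998 : ∀ i, i < 8998 → P i := stepQ 8997 Q8997 (allL N8997 (tt N5459 (iv D19154)) (tt N8931 F35691) (tt N13336 D23583) (tt N9072 (iv F35856)) (tt N13010 (iv F46210)) (tt N5460 F35682) (tt N9003 (iv F35697)))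
theorem Q8999 : ∀ i, i < 8999 → P i := stepQ 8998 Q8998 (allL N8998 (tt N13336 (iv F47028)) (tt N13335 (iv F47025)) (tt N5459 (iv D19155)) (tt N7558 F36231) (tt N13011 (iv F46213)) (tt N5461 F35683) (tt N7556 (iv F36232)))
theorem Q9000 : ∀ i, i < 9000 → P i := stepQ 8999 Q8999 (allL N8999 (tt N9003 (iv F35696)) (tt N8897 F35684) (tt N7556 F36233) (tt N9073 (iv F35859)) (tt N13012 (iv F46218)) (tt N9001 (iv F35687)) (tt N5459 (iv D19156)))
theorem Q9001 : ∀ i, i < 9001 → P i := stepQ 9000 Q9000 (allL N9000 (tt N5461 F35685) (tt N13337 D23584) (tt N5460 (iv D19158)) (tt N9800 (iv F37742)) (tt N13013 (iv F46220)) (tt N13336 (iv F47031)) (tt N11754 (iv F42714)))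
theorem Q9002 : ∀ i, i < 9002 → P i := stepQ 9001 Q9001 (allL N9001 (tt N5462 F35686) (tt N8270 F35688) (tt N11754 (iv F42712)) (tt N8929 (iv F35689)) (tt N13014 (iv F46223)) (tt N8999 F35687) (tt N5460 (iv D19159)))
theorem Q9003 : ∀ i, i < 9003 → P i := stepQ 9002 Q9002 (allL N9002 (tt N11754 (iv F42711)) (tt N13338 D23585) (tt N5462 F35695) (tt N9802 (iv F37750)) (tt N13016 (iv F46226)) (tt N11751 (iv F42704)) (tt N5461 (iv D19161)))
theorem Q9004 : ∀ i, i < 9004 → P i := stepQ 9003 Q9003 (allL N9003 (tt N8999 F35696) (tt N9065 (iv F35838)) (tt N11751 F42705) (tt N12587 (iv F45037)) (tt N13017 (iv F46228)) (tt N5462 (iv D19162)) (tt N8997 F35697))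
theorem Q9005 : ∀ i, i < 9005 → P i := stepQ 9004 Q9004 (allL N9004 (tt N5465 F35698) (tt N12567 (iv F44948)) (tt N6554 F35699) (tt N9066 (iv F35841)) (tt N13018 (iv F46232)) (tt N5463 (iv D19163)) (tt N9007 (iv F35712)))
theorem Q9006 : ∀ i, i < 9006 → P i := stepQ 9005 Q9005 (allL N9005 (tt N5466 F35700) (tt N8909 (iv F35702)) (tt N10457 (iv F39242)) (tt N9067 (iv F35846)) (tt N13019 (iv F46234)) (tt N8912 F35701) (tt N5463 (iv D19164)))
theorem Q9007 : ∀ i, i < 9007 → P i := stepQ 9006 Q9006 (allL N9006 (tt N10457 (iv F39241)) (tt N13339 D23586) (tt N5466 F35703) (tt N6557 F35704) (tt N13020 (iv F46238)) (tt N10456 (iv F39240)) (tt N5464 (iv D19165)))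
theorem Q9008 : ∀ i, i < 9008 → P i := stepQ 9007 Q9007 (allL N9007 (tt N8912 F35710) (tt N8255 F35713) (tt N10456 (iv F39237)) (tt N8905 F35711) (tt N13021 (iv F46240)) (tt N5466 (iv D19166)) (tt N9004 F35712))
theorem Q9009 : ∀ i, i < 9009 → P i := stepQ 9008 Q9008 (allL N9008 (tt N5467 (iv D19167)) (tt N13340 D23587) (tt N7972 F35714) (tt N13341 D23588) (tt N13022 (iv F46244)) (tt N7970 F35715) (tt N12254 (iv F44025)))
theorem Q9010 : ∀ i, i < 9010 → P i := stepQ 9009 Q9009 (allL N9009 (tt N13341 (iv F47045)) (tt N5468 F35716) (tt N13342 D23589) (tt N5467 (iv D19168)) (tt N13080 (iv F46377)) (tt N7976 F35717) (tt N13343 D23590))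
theorem Q9011 : ∀ i, i < 9011 → P i := stepQ 9010 Q9010 (allL N9010 (tt N12254 (iv F44023)) (tt N13333 (iv F47020)) (tt N7981 F35718) (tt N13343 (iv F47051)) (tt N13024 (iv F46249)) (tt N12245 (iv F44009)) (tt N5467 (iv D19169)))
theorem Q9012 : ∀ i, i < 9012 → P i := stepQ 9011 Q9011 (allL N9011 (tt N5472 (iv D19170)) (tt N12569 (iv F44960)) (tt N9179 (iv F36102)) (tt N9059 (iv F35825)) (tt N13027 (iv F46257)) (tt N12592 (iv F45059)) (tt N8297 F35719))
theorem Q9013 : ∀ i, i < 9013 → P i := stepQ 9012 Q9012 (allL N9012 (tt N12592 (iv F45056)) (tt N8993 F35720) (tt N9181 (iv F36105)) (tt N9061 (iv F35830)) (tt N13028 (iv F46260)) (tt N5472 (iv D19171)) (tt N8945 (iv F35721)))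
theorem Q9014 : ∀ i, i < 9014 → P i := stepQ 9013 Q9013 (allL N9013 (tt N5477 F35729) (tt N5562 F35730) (tt N7476 F35731) (tt N5473 (iv D19172)) (tt N13344 D23591) (tt N7478 (iv F35732)) (tt N6580 (iv F35733)))
theorem Q9015 : ∀ i, i < 9015 → P i := stepQ 9014 Q9014 (allL N9014 (tt N5478 F35734) (tt N7494 (iv F35737)) (tt N5474 F35735) (tt N7478 F35736) (tt N13030 (iv F46266)) (tt N5473 (iv D19173)) (tt N9024 (iv F35759)))
theorem Q9016 : ∀ i, i < 9016 → P i := stepQ 9015 Q9015 (allL N9015 (tt N5479 F35738) (tt N6578 F35739) (tt N5475 F35740) (tt N6580 F35741) (tt N13031 (iv F46271)) (tt N9023 (iv F35756)) (tt N5473 (iv D19174)))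
theorem Q9017 : ∀ i, i < 9017 → P i := stepQ 9016 Q9016 (allL N9016 (tt N12567 (iv F44947)) (tt N5474 (iv D19175)) (tt N12083 F43558) (tt N12588 (iv F45039)) (tt N13032 (iv F46272)) (tt N12588 (iv F45041)) (tt N8902 F35747))
theorem Q9018 : ∀ i, i < 9018 → P i := stepQ 9017 Q9017 (allL N9017 (tt N6678 F35742) (tt N5475 (iv D19176)) (tt N6671 F35743) (tt N8886 F35744) (tt N11429 (iv F41958)) (tt N8973 F35745) (tt N8886 F35746))
theorem Q9019 : ∀ i, i < 9019 → P i := stepQ 9018 Q9018 (allL N9018 (tt N5484 F35748) (tt N12205 F43907) (tt N5484 F35749) (tt N9414 (iv F36794)) (tt N13034 (iv F46279)) (tt N5476 (iv D19177)) (tt N9033 (iv F35782)))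
theorem Q9020 : ∀ i, i < 9020 → P i := stepQ 9019 Q9019 (allL N9019 (tt N5485 F35750) (tt N10295 (iv F38865)) (tt N5485 F35751) (tt N9409 (iv F36775)) (tt N13035 (iv F46282)) (tt N9032 (iv F35779)) (tt N5476 (iv D19178)))
theorem Q9021 : ∀ i, i < 9021 → P i := stepQ 9020 Q9020 (allL N9020 (tt N13344 (iv F47052)) (tt N9372 (iv F36666)) (tt N9353 F36612) (tt N13037 (iv F46283)) (tt N5477 (iv D19179)) (tt N13345 D23592) (tt N10419 (iv F39156)))
theorem Q9022 : ∀ i, i < 9022 → P i := stepQ 9021 Q9021 (allL N9021 (tt N7478 F35752) (tt N10534 F39394) (tt N7477 F35753) (tt N5478 F35754) (tt N13345 (iv F47059)) (tt N5477 (iv D19180)) (tt N10498 (iv F39323)))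
theorem Q9023 : ∀ i, i < 9023 → P i := stepQ 9022 Q9022 (allL N9022 (tt N10484 F39398) (tt N5478 (iv D19181)) (tt N13346 D23593) (tt N10534 (iv F39396)) (tt N13040 (iv F46286)) (tt N12205 (iv F43906)) (tt N13347 D23594))
theorem Q9024 : ∀ i, i < 9024 → P i := stepQ 9023 Q9023 (allL N9023 (tt N9024 (iv F35757)) (tt N13348 D23595) (tt N5481 F35755) (tt N10498 (iv F39322)) (tt N13041 (iv F46288)) (tt N9015 F35756) (tt N5478 (iv D19182)))
theorem Q9025 : ∀ i, i < 9025 → P i := stepQ 9024 Q9024 (allL N9024 (tt N9023 F35757) (tt N13349 D23596) (tt N5482 F35758) (tt N11681 (iv F42502)) (tt N13042 (iv F46292)) (tt N5479 (iv D19183)) (tt N9014 F35759))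
theorem Q9026 : ∀ i, i < 9026 → P i := stepQ 9025 Q9025 (allL N9025 (tt N5480 (iv D19184)) (tt N8529 (iv F35763)) (tt N8528 F35764) (tt N8925 F35760) (tt N13043 (iv F46294)) (tt N5489 F35761) (tt N8265 (iv F35762)))
theorem Q9027 : ∀ i, i < 9027 → P i := stepQ 9026 Q9026 (allL N9026 (tt N8528 F35765) (tt N13346 (iv F47060)) (tt N5480 (iv D19185)) (tt N10428 (iv F39178)) (tt N13044 (iv F46300)) (tt N5490 F35766) (tt N10424 F39174))
theorem Q9028 : ∀ i, i < 9028 → P i := stepQ 9027 Q9027 (allL N9027 (tt N8265 F35767) (tt N8961 F35768) (tt N10424 (iv F39172)) (tt N8923 F35769) (tt N13045 (iv F46304)) (tt N8962 F35770) (tt N5480 (iv D19186)))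
theorem Q9029 : ∀ i, i < 9029 → P i := stepQ 9028 Q9028 (allL N9028 (tt N8261 F35771) (tt N5482 (iv D19187)) (tt N11304 (iv F41690)) (tt N8914 F35772) (tt N11299 (iv F41680)) (tt N11296 (iv F41669)) (tt N8260 F35773))
theorem Q9030 : ∀ i, i < 9030 → P i := stepQ 9029 Q9029 (allL N9029 (tt N9372 (iv F36665)) (tt N5486 F35774) (tt N5569 F35775) (tt N13046 (iv F46307)) (tt N5483 (iv D19188)) (tt N13350 D23597) (tt N9510 (iv F37030)))
theorem Q9031 : ∀ i, i < 9031 → P i := stepQ 9030 Q9030 (allL N9030 (tt N9414 (iv F36792)) (tt N13351 D23598) (tt N5570 F35776) (tt N5484 F35777) (tt N13350 (iv F47077)) (tt N5483 (iv D19189)) (tt N13352 D23599))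
theorem Q9032 : ∀ i, i < 9032 → P i := stepQ 9031 Q9031 (allL N9031 (tt N13353 D23600) (tt N5484 (iv D19190)) (tt N13354 D23601) (tt N13351 (iv F47079)) (tt N13049 (iv F46310)) (tt N5488 F35778) (tt N13355 D23602))
theorem Q9033 : ∀ i, i < 9033 → P i := stepQ 9032 Q9032 (allL N9032 (tt N9033 (iv F35780)) (tt N13356 D23603) (tt N9033 (iv F35781)) (tt N13352 (iv F47083)) (tt N13050 (iv F46312)) (tt N9019 F35779) (tt N5484 (iv D19191)))
theorem Q9034 : ∀ i, i < 9034 → P i := stepQ 9033 Q9033 (allL N9033 (tt N9032 F35780) (tt N13357 D23604) (tt N9032 F35781) (tt N9692 (iv F37503)) (tt N13051 (iv F46316)) (tt N5485 (iv D19192)) (tt N9018 F35782))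
theorem Q9035 : ∀ i, i < 9035 → P i := stepQ 9034 Q9034 (allL N9034 (tt N5492 F35783) (tt N13358 D23605) (tt N5492 F35784) (tt N13052 (iv F46319)) (tt N5487 F35785) (tt N5486 (iv D19193)) (tt N8933 F35786))
theorem Q9036 : ∀ i, i < 9036 → P i := stepQ 9035 Q9035 (allL N9035 (tt N13359 D23606) (tt N5487 (iv D19194)) (tt N13360 D23607) (tt N5488 F35787) (tt N13358 (iv F47093)) (tt N13351 (iv F47080)) (tt N13361 D23608))
theorem Q9037 : ∀ i, i < 9037 → P i := stepQ 9036 Q9036 (allL N9036 (tt N5488 (iv D19195)) (tt N13362 D23609) (tt N12316 F44180) (tt N13359 (iv F47094)) (tt N13054 (iv F46323)) (tt N13353 (iv F47087)) (tt N13363 D23610))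
theorem Q9038 : ∀ i, i < 9038 → P i := stepQ 9037 Q9037 (allL N9037 (tt N12316 (iv F44179)) (tt N5490 F35788) (tt N5488 (iv D19196)) (tt N12318 F44178) (tt N13055 (iv F46325)) (tt N13354 (iv F47088)) (tt N13364 D23611))
theorem Q9039 : ∀ i, i < 9039 → P i := stepQ 9038 Q9038 (allL N9038 (tt N13363 (iv F47105)) (tt N8937 F35789) (tt N13364 (iv F47111)) (tt N13361 (iv F47103)) (tt N13056 (iv F46327)) (tt N13365 D23612) (tt N5488 (iv D19197)))
theorem Q9040 : ∀ i, i < 9040 → P i := stepQ 9039 Q9039 (allL N9039 (tt N10554 (iv F39472)) (tt N5489 (iv D19198)) (tt N10547 (iv F39451)) (tt N12590 (iv F45048)) (tt N13057 (iv F46328)) (tt N8885 F35790) (tt N8949 F35791))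
theorem Q9041 : ∀ i, i < 9041 → P i := stepQ 9040 Q9040 (allL N9040 (tt N5490 F35792) (tt N8525 (iv F35794)) (tt N5489 (iv D19199)) (tt N11823 (iv F42884)) (tt N13058 (iv F46332)) (tt N8528 F35793) (tt N13289 (iv F46901)))
theorem Q9042 : ∀ i, i < 9042 → P i := stepQ 9041 Q9041 (allL N9041 (tt N11823 (iv F42881)) (tt N12318 (iv F44176)) (tt N11822 (iv F42880)) (tt N5490 (iv D19200)) (tt N13366 D23613) (tt N10428 F39179) (tt N12248 (iv F44017)))
theorem Q9043 : ∀ i, i < 9043 → P i := stepQ 9042 Q9042 (allL N9042 (tt N13289 (iv F46897)) (tt N13367 D23614) (tt N5491 F35795) (tt N12248 (iv F44018)) (tt N13060 (iv F46336)) (tt N12572 (iv F44971)) (tt N5490 (iv D19201)))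
theorem Q9044 : ∀ i, i < 9044 → P i := stepQ 9043 Q9043 (allL N9043 (tt N13368 D23615) (tt N5492 (iv D19202)) (tt N13369 D23616) (tt N13061 (iv F46337)) (tt N5493 F35796) (tt N5575 F35797) (tt N13369 F47123))
theorem Q9045 : ∀ i, i < 9045 → P i := stepQ 9044 Q9044 (allL N9044 (tt N8933 F35798) (tt N13370 D23617) (tt N8933 F35799) (tt N13062 (iv F46341)) (tt N5494 F35800) (tt N5916 F35801) (tt N5492 (iv D19203)))
theorem Q9046 : ∀ i, i < 9046 → P i := stepQ 9045 Q9045 (allL N9045 (tt N5493 (iv D19204)) (tt N10431 (iv F39182)) (tt N9152 (iv F36048)) (tt N5495 F35802) (tt N13368 (iv F47119)) (tt N5577 F35803) (tt N9152 (iv F36050)))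
theorem Q9047 : ∀ i, i < 9047 → P i := stepQ 9046 Q9046 (allL N9046 (tt N9152 (iv F36047)) (tt N13360 (iv F47097)) (tt N5493 (iv D19205)) (tt N5497 (iv F35805)) (tt N13369 (iv F47121)) (tt N5578 F35804) (tt N5493 (iv F35806)))
theorem Q9048 : ∀ i, i < 9048 → P i := stepQ 9047 Q9047 (allL N9047 (tt N13371 D23618) (tt N5494 (iv D19206)) (tt N13361 (iv F47102)) (tt N5498 F35807) (tt N13370 (iv F47124)) (tt N6088 F35808) (tt N13360 F47099))
theorem Q9049 : ∀ i, i < 9049 → P i := stepQ 9048 Q9048 (allL N9048 (tt N13372 D23619) (tt N5495 (iv D19207)) (tt N6564 (iv F35810)) (tt N10431 (iv F39183)) (tt N13067 (iv F46349)) (tt N6563 F35809) (tt N13373 D23620))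
theorem Q9050 : ∀ i, i < 9050 → P i := stepQ 9049 Q9049 (allL N9049 (tt N5496 F35811) (tt N7766 F35812) (tt N5495 (iv D19208)) (tt N13332 (iv F47015)) (tt N13068 (iv F46354)) (tt N5582 F35813) (tt N9160 (iv F36067)))
theorem Q9051 : ∀ i, i < 9051 → P i := stepQ 9050 Q9050 (allL N9050 (tt N9160 (iv F36065)) (tt N13343 (iv F47050)) (tt N5497 F35814) (tt N13333 (iv F47022)) (tt N13070 (iv F46359)) (tt N9155 (iv F36057)) (tt N5496 (iv D19209)))
theorem Q9052 : ∀ i, i < 9052 → P i := stepQ 9051 Q9051 (allL N9051 (tt N13374 D23621) (tt N5497 (iv D19210)) (tt N13375 D23622) (tt N13360 F47098) (tt N13071 (iv F46360)) (tt N13376 D23623) (tt N5498 F35815))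
theorem Q9053 : ∀ i, i < 9053 → P i := stepQ 9052 Q9052 (allL N9052 (tt N5498 (iv D19211)) (tt N13377 D23624) (tt N13378 D23625) (tt N13371 (iv F47128)) (tt N13072 (iv F46362)) (tt N13379 D23626) (tt N13374 (iv F47138)))
theorem Q9054 : ∀ i, i < 9054 → P i := stepQ 9053 Q9053 (allL N9053 (tt N13378 (iv F47144)) (tt N5502 F35816) (tt N5498 (iv D19212)) (tt N9840 F37822) (tt N13073 (iv F46364)) (tt N13337 (iv F47034)) (tt N13375 (iv F47139)))
theorem Q9055 : ∀ i, i < 9055 → P i := stepQ 9054 Q9054 (allL N9054 (tt N13379 (iv F47145)) (tt N6087 F35817) (tt N13337 (iv F47033)) (tt N6088 F35818) (tt N13074 (iv F46366)) (tt N5498 (iv D19213)) (tt N13380 D23627))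
theorem Q9056 : ∀ i, i < 9056 → P i := stepQ 9055 Q9055 (allL N9055 (tt N5499 (iv D19214)) (tt N10554 (iv F39473)) (tt N13381 D23628) (tt N8899 F35819) (tt N13075 (iv F46367)) (tt N12787 (iv F45636)) (tt N8253 (iv F35820)))
theorem Q9057 : ∀ i, i < 9057 → P i := stepQ 9056 Q9056 (allL N9056 (tt N13381 (iv F47151)) (tt N13316 (iv F46979)) (tt N5499 (iv D19215)) (tt N13382 D23629) (tt N13076 (iv F46369)) (tt N13383 D23630) (tt N13384 D23631))
theorem Q9058 : ∀ i, i < 9058 → P i := stepQ 9057 Q9057 (allL N9057 (tt N12787 (iv F45634)) (tt N5506 F35821) (tt N13383 (iv F47154)) (tt N6643 F35822) (tt N13077 (iv F46371)) (tt N5499 (iv D19216)) (tt N9836 (iv F37816)))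
theorem Q9059 : ∀ i, i < 9059 → P i := stepQ 9058 Q9058 (allL N9058 (tt N8253 F35823) (tt N9073 (iv F35858)) (tt N13384 (iv F47157)) (tt N8897 F35824) (tt N13078 (iv F46373)) (tt N8922 (iv F35861)) (tt N5499 (iv D19217)))
theorem Q9060 : ∀ i, i < 9060 → P i := stepQ 9059 Q9059 (allL N9059 (tt N5500 (iv D19218)) (tt N8915 (iv F35827)) (tt N13338 (iv F47035)) (tt N9011 F35825) (tt N13081 (iv F46379)) (tt N9065 (iv F35839)) (tt N5501 F35826))
theorem Q9061 : ∀ i, i < 9061 → P i := stepQ 9060 Q9060 (allL N9060 (tt N13338 (iv F47038)) (tt N13342 (iv F47047)) (tt N5500 (iv D19219)) (tt N7602 F36885) (tt N13082 (iv F46382)) (tt N7601 (iv F36886)) (tt N5502 F35828))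
theorem Q9062 : ∀ i, i < 9062 → P i := stepQ 9061 Q9061 (allL N9061 (tt N9065 (iv F35837)) (tt N8891 F35829) (tt N7601 F36887) (tt N9012 F35830) (tt N13083 (iv F46387)) (tt N5500 (iv D19220)) (tt N9063 (iv F35835)))
theorem Q9063 : ∀ i, i < 9063 → P i := stepQ 9062 Q9062 (allL N9062 (tt N5502 F35831) (tt N13325 F47000) (tt N5501 (iv D19221)) (tt N9853 (iv F37838)) (tt N13084 (iv F46389)) (tt N11797 F42827) (tt N13338 (iv F47037)))
theorem Q9064 : ∀ i, i < 9064 → P i := stepQ 9063 Q9063 (allL N9063 (tt N5503 F35832) (tt N8281 F35833) (tt N11797 (iv F42825)) (tt N8945 F35834) (tt N13085 (iv F46392)) (tt N5501 (iv D19222)) (tt N9061 F35835))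
theorem Q9065 : ∀ i, i < 9065 → P i := stepQ 9064 Q9064 (allL N9064 (tt N11797 (iv F42824)) (tt N13336 (iv F47029)) (tt N5503 F35836) (tt N9855 (iv F37846)) (tt N13087 (iv F46395)) (tt N5502 (iv D19224)) (tt N11794 (iv F42817)))
theorem Q9066 : ∀ i, i < 9066 → P i := stepQ 9065 Q9065 (allL N9065 (tt N9061 F35837) (tt N9003 F35838) (tt N11794 F42818) (tt N12592 (iv F45058)) (tt N13088 (iv F46398)) (tt N9059 F35839) (tt N5503 (iv D19225)))
theorem Q9067 : ∀ i, i < 9067 → P i := stepQ 9066 Q9066 (allL N9066 (tt N5506 F35840) (tt N8903 (iv F35843)) (tt N10506 (iv F39347)) (tt N9004 F35841) (tt N13089 (iv F46401)) (tt N5504 (iv D19226)) (tt N8905 F35842))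
theorem Q9068 : ∀ i, i < 9068 → P i := stepQ 9067 Q9067 (allL N9067 (tt N5507 F35844) (tt N12568 (iv F44952)) (tt N6593 F35845) (tt N9005 F35846) (tt N13090 (iv F46406)) (tt N9069 (iv F35851)) (tt N5504 (iv D19227)))
theorem Q9069 : ∀ i, i < 9069 → P i := stepQ 9068 Q9068 (allL N9068 (tt N10506 (iv F39346)) (tt N13385 D23632) (tt N5506 F35847) (tt N6596 F35848) (tt N13091 (iv F46408)) (tt N5505 (iv D19228)) (tt N10505 F39345))
theorem Q9070 : ∀ i, i < 9070 → P i := stepQ 9069 Q9069 (allL N9069 (tt N8905 F35849) (tt N8258 (iv F35852)) (tt N10505 (iv F39342)) (tt N8912 F35850) (tt N13092 (iv F46410)) (tt N9067 F35851) (tt N5506 (iv D19229)))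
theorem Q9071 : ∀ i, i < 9071 → P i := stepQ 9070 Q9070 (allL N9070 (tt N5508 (iv D19230)) (tt N13386 D23633) (tt N8031 F35853) (tt N13334 (iv F47023)) (tt N13093 (iv F46414)) (tt N12313 (iv F44164)) (tt N8028 F35854))
theorem Q9072 : ∀ i, i < 9072 → P i := stepQ 9071 Q9071 (allL N9071 (tt N12313 (iv F44162)) (tt N13317 (iv F46984)) (tt N8040 F35855) (tt N13318 (iv F46987)) (tt N13095 (iv F46419)) (tt N5508 (iv D19231)) (tt N12304 (iv F44148)))
theorem Q9073 : ∀ i, i < 9073 → P i := stepQ 9072 Q9072 (allL N9072 (tt N5512 (iv D19232)) (tt N12575 F44983) (tt N9125 (iv F35957)) (tt N8997 F35856) (tt N13097 (iv F46425)) (tt N8288 F35857) (tt N12587 (iv F45038)))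
theorem Q9074 : ∀ i, i < 9074 → P i := stepQ 9073 Q9073 (allL N9073 (tt N12587 (iv F45036)) (tt N9058 F35858) (tt N9127 (iv F35960)) (tt N8999 F35859) (tt N13098 (iv F46428)) (tt N8929 F35860) (tt N5512 (iv D19233)))
theorem Q9075 : ∀ i, i < 9075 → P i := stepQ 9074 Q9074 (allL N9074 (tt N5515 F35862) (tt N10646 (iv F40067)) (tt N5519 F35863) (tt N11729 (iv F42651)) (tt N11028 (iv F41094)) (tt N5513 (iv D19234)) (tt N9080 (iv F35879)))
theorem Q9076 : ∀ i, i < 9076 → P i := stepQ 9075 Q9075 (allL N9075 (tt N5516 F35864) (tt N13387 D23634) (tt N5520 F35865) (tt N11730 (iv F42654)) (tt N11029 (iv F41098)) (tt N9079 (iv F35876)) (tt N5513 (iv D19235)))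
theorem Q9077 : ∀ i, i < 9077 → P i := stepQ 9076 Q9076 (allL N9076 (tt N11728 (iv F42643)) (tt N9076 F35866) (tt N5514 (iv D19236)) (tt N11839 (iv F42919)) (tt N6859 F35867) (tt N6858 (iv F35868)) (tt N13388 D23635))
theorem Q9078 : ∀ i, i < 9078 → P i := stepQ 9077 Q9077 (allL N9077 (tt N11729 (iv F42648)) (tt N9077 F35869) (tt N6858 F35870) (tt N5515 F35871) (tt N6857 F35872) (tt N5514 (iv D19237)) (tt N13389 D23636))
theorem Q9079 : ∀ i, i < 9079 → P i := stepQ 9078 Q9078 (allL N9078 (tt N11730 (iv F42653)) (tt N8337 F35873) (tt N13388 (iv F47169)) (tt N5516 F35874) (tt N11727 (iv F42642)) (tt N13390 D23637) (tt N5514 (iv D19238)))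
theorem Q9080 : ∀ i, i < 9080 → P i := stepQ 9079 Q9079 (allL N9079 (tt N9080 (iv F35877)) (tt N13391 D23638) (tt N5523 F35875) (tt N13389 (iv F47174)) (tt N13099 (iv F46432)) (tt N9075 F35876) (tt N5515 (iv D19239)))
theorem Q9081 : ∀ i, i < 9081 → P i := stepQ 9080 Q9080 (allL N9080 (tt N9079 F35877) (tt N13392 D23639) (tt N5524 F35878) (tt N13390 (iv F47179)) (tt N13100 (iv F46437)) (tt N5516 (iv D19240)) (tt N9074 F35879))
theorem Q9082 : ∀ i, i < 9082 → P i := stepQ 9081 Q9081 (allL N9081 (tt N5521 F35880) (tt N13283 (iv F46863)) (tt N7182 F35881) (tt N13101 (iv F46441)) (tt N5518 (iv D19241)) (tt N6329 F35882) (tt N11245 (iv F41556)))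
theorem Q9083 : ∀ i, i < 9083 → P i := stepQ 9082 Q9082 (allL N9082 (tt N7909 (iv F39612)) (tt N5520 (iv D19242)) (tt N7906 F39611) (tt N7483 F35883) (tt N13104 (iv F46450)) (tt N12175 (iv F43843)) (tt N7485 F35884))
theorem Q9084 : ∀ i, i < 9084 → P i := stepQ 9083 Q9083 (allL N9083 (tt N11245 (iv F41553)) (tt N12805 (iv F45690)) (tt N7187 F35885) (tt N13106 (iv F46458)) (tt N5522 F35886) (tt N10188 (iv F38662)) (tt N5521 (iv D19243)))
theorem Q9085 : ∀ i, i < 9085 → P i := stepQ 9084 Q9084 (allL N9084 (tt N13393 D23640) (tt N5523 (iv D19244)) (tt N13394 D23641) (tt N7617 F35887) (tt N13109 (iv F46467)) (tt N13395 D23642) (tt N7620 F35888))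
theorem Q9086 : ∀ i, i < 9086 → P i := stepQ 9085 Q9085 (allL N9085 (tt N13308 (iv F46956)) (tt N5524 (iv D19245)) (tt N13396 D23643) (tt N10441 (iv F39199)) (tt N13110 (iv F46469)) (tt N12806 (iv F45692)) (tt N10446 (iv F39213)))
theorem Q9087 : ∀ i, i < 9087 → P i := stepQ 9086 Q9086 (allL N9086 (tt N9368 (iv F36655)) (tt N5528 F35889) (tt N9494 (iv F36995)) (tt N5525 (iv D19246)) (tt N5526 F35890) (tt N5525 (iv F35891)) (tt N13397 D23644))
theorem Q9088 : ∀ i, i < 9088 → P i := stepQ 9087 Q9087 (allL N9087 (tt N9371 (iv F36663)) (tt N13398 D23645) (tt N13290 (iv F46902)) (tt N13397 (iv F47192)) (tt N5527 F35892) (tt N13399 D23646) (tt N5525 (iv D19247)))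
theorem Q9089 : ∀ i, i < 9089 → P i := stepQ 9088 Q9088 (allL N9088 (tt N9090 (iv F35897)) (tt N6102 (iv F37682)) (tt N9670 (iv F37469)) (tt N9184 (iv F36150)) (tt N13397 (iv F47193)) (tt N5795 F35893) (tt N5526 (iv D19248)))
theorem Q9090 : ∀ i, i < 9090 → P i := stepQ 9089 Q9089 (allL N9089 (tt N9655 (iv F37425)) (tt N5527 (iv D19249)) (tt N10486 (iv F39291)) (tt N8587 F35894) (tt N13398 (iv F47197)) (tt N6070 (iv F35896)) (tt N5530 F35895))
theorem Q9091 : ∀ i, i < 9091 → P i := stepQ 9090 Q9090 (allL N9090 (tt N9088 F35897) (tt N10300 (iv F38876)) (tt N13292 (iv F46908)) (tt N9185 (iv F36155)) (tt N13399 (iv F47203)) (tt N5527 (iv D19250)) (tt N5788 F35898))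
theorem Q9092 : ∀ i, i < 9092 → P i := stepQ 9091 Q9091 (allL N9091 (tt N9196 (iv F36188)) (tt N13400 D23647) (tt N9493 (iv F36991)) (tt N5529 F35899) (tt N8588 F35900) (tt N9493 (iv F36994)) (tt N5528 (iv D19251)))
theorem Q9093 : ∀ i, i < 9093 → P i := stepQ 9092 Q9092 (allL N9092 (tt N9581 (iv F37228)) (tt N5529 (iv D19252)) (tt N10219 (iv F38714)) (tt N13400 (iv F47205)) (tt N5530 F35901) (tt N9579 F37225) (tt N13398 (iv F47198)))
theorem Q9094 : ∀ i, i < 9094 → P i := stepQ 9093 Q9093 (allL N9093 (tt N5531 (iv D19253)) (tt N6347 F35902) (tt N9095 (iv F35907)) (tt N13111 (iv F46471)) (tt N5533 F35903) (tt N9094 F35905) (tt N13309 (iv F46958)))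
theorem Q9095 : ∀ i, i < 9095 → P i := stepQ 9094 Q9094 (allL N9094 (tt N9095 (iv F35906)) (tt N10219 (iv F38713)) (tt N5531 (iv D19254)) (tt N13401 D23648) (tt N5534 F35904) (tt N9093 (iv F35905)) (tt N13310 (iv F46960)))
theorem Q9096 : ∀ i, i < 9096 → P i := stepQ 9095 Q9095 (allL N9095 (tt N9094 F35906) (tt N13402 D23649) (tt N9093 F35907) (tt N13113 (iv F46474)) (tt N5535 F35908) (tt N5531 (iv D19255)) (tt N13403 D23650))
theorem Q9097 : ∀ i, i < 9097 → P i := stepQ 9096 Q9096 (allL N9096 (tt N11594 F42316) (tt N5532 (iv D19256)) (tt N13404 D23651) (tt N13114 (iv F46476)) (tt N5536 F35909) (tt N13402 (iv F47214)) (tt N11250 (iv F41571)))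
theorem Q9098 : ∀ i, i < 9098 → P i := stepQ 9097 Q9097 (allL N9097 (tt N12239 (iv F43993)) (tt N5535 (iv D19257)) (tt N6526 F35910) (tt N5542 F35911) (tt N13402 (iv F47213)) (tt N5536 F35912) (tt N13405 D23652))
theorem Q9099 : ∀ i, i < 9099 → P i := stepQ 9098 Q9098 (allL N9098 (tt N8981 F35913) (tt N10459 F46931) (tt N8980 F35914) (tt N5543 F35915) (tt N13403 (iv F47217)) (tt N8980 F35916) (tt N5535 (iv D19258)))
theorem Q9100 : ∀ i, i < 9100 → P i := stepQ 9099 Q9099 (allL N9099 (tt N12248 (iv F44015)) (tt N6608 F35917) (tt N5536 (iv D19259)) (tt N13289 (iv F46899)) (tt N13404 (iv F47220)) (tt N6526 F35918) (tt N11823 (iv F42883)))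
theorem Q9101 : ∀ i, i < 9101 → P i := stepQ 9100 Q9100 (allL N9100 (tt N5540 F35919) (tt N7712 F35920) (tt N13406 D23653) (tt N5538 (iv D19260)) (tt N13407 D23654) (tt N13406 F47231) (tt N13315 (iv F46978)))
theorem Q9102 : ∀ i, i < 9102 → P i := stepQ 9101 Q9101 (allL N9101 (tt N5541 F35921) (tt N13408 D23655) (tt N5539 F35922) (tt N13406 (iv F47229)) (tt N13126 (iv F46501)) (tt N5538 (iv D19261)) (tt N8986 F35923))
theorem Q9103 : ∀ i, i < 9103 → P i := stepQ 9102 Q9102 (allL N9102 (tt N13409 D23656) (tt N5539 (iv D19262)) (tt N13410 D23657) (tt N6571 F35924) (tt N13127 (iv F46503)) (tt N6568 F35925) (tt N13411 D23658))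
theorem Q9104 : ∀ i, i < 9104 → P i := stepQ 9103 Q9103 (allL N9103 (tt N13406 (iv F47227)) (tt N13412 D23659) (tt N5540 (iv D19263)) (tt N5541 F35926) (tt N13413 D23660) (tt N5540 (iv F35927)) (tt N13316 (iv F46980)))
theorem Q9105 : ∀ i, i < 9105 → P i := stepQ 9104 Q9104 (allL N9104 (tt N13407 (iv F47232)) (tt N5549 F35928) (tt N13413 (iv F47245)) (tt N13129 (iv F46506)) (tt N5540 (iv D19264)) (tt N13413 (iv F47246)) (tt N13079 (iv F46376)))
theorem Q9106 : ∀ i, i < 9106 → P i := stepQ 9105 Q9105 (allL N9105 (tt N13414 D23661) (tt N5541 (iv D19265)) (tt N9168 (iv F36080)) (tt N13412 (iv F47243)) (tt N13131 (iv F46508)) (tt N5546 F35929) (tt N13415 D23662))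
theorem Q9107 : ∀ i, i < 9107 → P i := stepQ 9106 Q9106 (allL N9106 (tt N8986 F35930) (tt N13382 (iv F47153)) (tt N5543 F35931) (tt N13316 (iv F46981)) (tt N13132 (iv F46512)) (tt N8984 F35932) (tt N5541 (iv D19266)))
theorem Q9108 : ∀ i, i < 9108 → P i := stepQ 9107 Q9107 (allL N9107 (tt N5542 (iv D19267)) (tt N12237 (iv F43989)) (tt N9174 (iv F36090)) (tt N12239 (iv F43994)) (tt N13133 (iv F46514)) (tt N5544 F35933) (tt N9111 (iv F35937)))
theorem Q9109 : ∀ i, i < 9109 → P i := stepQ 9108 Q9108 (allL N9108 (tt N9111 (iv F35936)) (tt N13416 D23663) (tt N9177 (iv F36097)) (tt N13405 (iv F47225)) (tt N13134 (iv F46516)) (tt N9110 (iv F35935)) (tt N5542 (iv D19268)))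
theorem Q9110 : ∀ i, i < 9110 → P i := stepQ 9109 Q9109 (allL N9109 (tt N10455 F46933) (tt N5543 (iv D19269)) (tt N10750 (iv F46934)) (tt N10459 (iv F46932)) (tt N13135 (iv F46517)) (tt N13417 D23664) (tt N13416 (iv F47251)))
theorem Q9111 : ∀ i, i < 9111 → P i := stepQ 9110 Q9110 (allL N9110 (tt N5545 F35934) (tt N13418 D23665) (tt N9175 (iv F36092)) (tt N11822 (iv F42878)) (tt N13136 (iv F46519)) (tt N9108 F35935) (tt N5544 (iv D19270)))
theorem Q9112 : ∀ i, i < 9112 → P i := stepQ 9111 Q9111 (allL N9111 (tt N9108 F35936) (tt N13419 D23666) (tt N9178 (iv F36100)) (tt N11824 (iv F42886)) (tt N13137 (iv F46522)) (tt N5545 (iv D19271)) (tt N9107 F35937))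
theorem Q9113 : ∀ i, i < 9113 → P i := stepQ 9112 Q9112 (allL N9112 (tt N5546 (iv D19272)) (tt N12774 F45585) (tt N9166 (iv F36077)) (tt N13420 D23667) (tt N13138 (iv F46524)) (tt N13414 (iv F47247)) (tt N13421 D23668))
theorem Q9114 : ∀ i, i < 9114 → P i := stepQ 9113 Q9113 (allL N9113 (tt N13420 (iv F47261)) (tt N5547 F35938) (tt N13281 (iv F46858)) (tt N5546 (iv D19273)) (tt N13422 D23669) (tt N13412 (iv F47244)) (tt N13278 (iv F46853)))
theorem Q9115 : ∀ i, i < 9115 → P i := stepQ 9114 Q9114 (allL N9114 (tt N13421 (iv F47263)) (tt N5553 F35939) (tt N9159 (iv F36063)) (tt N13278 (iv F46852)) (tt N13140 (iv F46527)) (tt N13423 D23670) (tt N5546 (iv D19274)))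
theorem Q9116 : ∀ i, i < 9116 → P i := stepQ 9115 Q9115 (allL N9115 (tt N5549 F35940) (tt N13422 (iv F47265)) (tt N9209 (iv F36218)) (tt N13141 (iv F46529)) (tt N5547 (iv D19275)) (tt N5549 F35941) (tt N5554 F35942))
theorem Q9117 : ∀ i, i < 9117 → P i := stepQ 9116 Q9116 (allL N9116 (tt N13424 D23671) (tt N5548 (iv D19276)) (tt N13412 (iv F47242)) (tt N8054 F35943) (tt N13425 D23672) (tt N13281 (iv F46860)) (tt N13426 D23673))
theorem Q9118 : ∀ i, i < 9118 → P i := stepQ 9117 Q9117 (allL N9117 (tt N9209 (iv F36217)) (tt N13425 (iv F47273)) (tt N5549 F35944) (tt N8057 F35945) (tt N5548 (iv D19277)) (tt N9209 (iv F36220)) (tt N5556 F35946))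
theorem Q9119 : ∀ i, i < 9119 → P i := stepQ 9118 Q9118 (allL N9118 (tt N13340 (iv F47043)) (tt N5550 (iv D19278)) (tt N13386 (iv F47163)) (tt N13427 D23674) (tt N13144 (iv F46535)) (tt N13428 D23675) (tt N13429 D23676))
theorem Q9120 : ∀ i, i < 9120 → P i := stepQ 9119 Q9119 (allL N9119 (tt N5551 F35947) (tt N13427 (iv F47279)) (tt N12586 (iv F45032)) (tt N5550 (iv D19279)) (tt N13430 D23677) (tt N12585 F45029) (tt N13277 (iv F46850)))
theorem Q9121 : ∀ i, i < 9121 → P i := stepQ 9120 Q9120 (allL N9120 (tt N5552 F35948) (tt N13431 D23678) (tt N9164 (iv F36072)) (tt N12585 (iv F45028)) (tt N13146 (iv F46538)) (tt N5550 (iv D19280)) (tt N9124 (iv F35956)))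
theorem Q9122 : ∀ i, i < 9122 → P i := stepQ 9121 Q9121 (allL N9121 (tt N5553 F35949) (tt N13432 D23679) (tt N9161 (iv F36068)) (tt N13277 (iv F46848)) (tt N13147 (iv F46540)) (tt N9123 (iv F35954)) (tt N5550 (iv D19281)))
theorem Q9123 : ∀ i, i < 9123 → P i := stepQ 9122 Q9122 (allL N9122 (tt N13430 (iv F47282)) (tt N5554 F35950) (tt N12557 (iv F44922)) (tt N13149 (iv F46542)) (tt N5551 (iv D19283)) (tt N12556 F44920) (tt N12915 (iv F45987)))
theorem Q9124 : ∀ i, i < 9124 → P i := stepQ 9123 Q9123 (allL N9123 (tt N9124 (iv F35955)) (tt N13433 D23680) (tt N9165 (iv F36075)) (tt N12582 F45008) (tt N13152 (iv F46546)) (tt N9121 F35954) (tt N5552 (iv D19286)))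
theorem Q9125 : ∀ i, i < 9125 → P i := stepQ 9124 Q9124 (allL N9124 (tt N9123 F35955) (tt N13434 D23681) (tt N9162 (iv F36070)) (tt N13279 (iv F46856)) (tt N13153 (iv F46549)) (tt N5553 (iv D19287)) (tt N9120 F35956))
theorem Q9126 : ∀ i, i < 9126 → P i := stepQ 9125 Q9125 (allL N9125 (tt N5555 (iv D19288)) (tt N13435 D23682) (tt N9072 F35957) (tt N9210 (iv F36222)) (tt N13436 D23683) (tt N10797 F40483) (tt N13437 D23684))
theorem Q9127 : ∀ i, i < 9127 → P i := stepQ 9126 Q9126 (allL N9126 (tt N13436 (iv F47289)) (tt N5556 F35958) (tt N8782 F35959) (tt N9909 (iv F37964)) (tt N5555 (iv D19289)) (tt N12559 (iv F44929)) (tt N13438 D23685))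
theorem Q9128 : ∀ i, i < 9128 → P i := stepQ 9127 Q9127 (allL N9127 (tt N13437 (iv F47291)) (tt N13426 (iv F47276)) (tt N9073 F35960) (tt N8168 F35961) (tt N13438 (iv F47296)) (tt N6845 (iv F35962)) (tt N5555 (iv D19290)))
theorem Q9129 : ∀ i, i < 9129 → P i := stepQ 9128 Q9128 (allL N9128 (tt N5559 F35996) (tt N13439 D23686) (tt N5563 F35997) (tt N11772 (iv F42755)) (tt N11066 (iv F41177)) (tt N5557 (iv D19291)) (tt N9134 (iv F36013)))
theorem Q9130 : ∀ i, i < 9130 → P i := stepQ 9129 Q9129 (allL N9129 (tt N5560 F35998) (tt N10731 (iv F40289)) (tt N5564 F35999) (tt N11773 (iv F42760)) (tt N11067 (iv F41182)) (tt N9133 (iv F36010)) (tt N5557 (iv D19292)))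
theorem Q9131 : ∀ i, i < 9131 → P i := stepQ 9130 Q9130 (allL N9130 (tt N11771 (iv F42749)) (tt N9130 F36000) (tt N5558 (iv D19293)) (tt N12053 (iv F43465)) (tt N6881 F36001) (tt N13440 D23687) (tt N6879 (iv F36002)))
theorem Q9132 : ∀ i, i < 9132 → P i := stepQ 9131 Q9131 (allL N9131 (tt N11772 (iv F42754)) (tt N8345 F36003) (tt N13440 (iv F47303)) (tt N5559 F36004) (tt N11770 (iv F42748)) (tt N5558 (iv D19294)) (tt N13441 D23688))
theorem Q9133 : ∀ i, i < 9133 → P i := stepQ 9132 Q9132 (allL N9132 (tt N11773 (iv F42757)) (tt N9132 F36005) (tt N6879 F36006) (tt N5560 F36007) (tt N6878 F36008) (tt N13442 D23689) (tt N5558 (iv D19295)))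
theorem Q9134 : ∀ i, i < 9134 → P i := stepQ 9133 Q9133 (allL N9133 (tt N9134 (iv F36011)) (tt N13443 D23690) (tt N5567 F36009) (tt N13441 (iv F47308)) (tt N13158 (iv F46555)) (tt N9129 F36010) (tt N5559 (iv D19296)))
theorem Q9135 : ∀ i, i < 9135 → P i := stepQ 9134 Q9134 (allL N9134 (tt N9133 F36011) (tt N13444 D23691) (tt N5568 F36012) (tt N13442 (iv F47313)) (tt N13159 (iv F46560)) (tt N5560 (iv D19297)) (tt N9128 F36013))
theorem Q9136 : ∀ i, i < 9136 → P i := stepQ 9135 Q9135 (allL N9135 (tt N5565 F36014) (tt N13344 (iv F47053)) (tt N7284 F36015) (tt N13160 (iv F46564)) (tt N5562 (iv D19298)) (tt N11406 (iv F41901)) (tt N6349 F36016))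
theorem Q9137 : ∀ i, i < 9137 → P i := stepQ 9136 Q9136 (allL N9136 (tt N7749 (iv F39633)) (tt N5563 (iv D19299)) (tt N7746 (iv F39631)) (tt N7492 F36017) (tt N13163 (iv F46573)) (tt N7494 F36018) (tt N11977 (iv F43297)))
theorem Q9138 : ∀ i, i < 9138 → P i := stepQ 9137 Q9137 (allL N9137 (tt N11406 (iv F41898)) (tt N12780 (iv F45606)) (tt N7290 F36019) (tt N13165 (iv F46581)) (tt N5566 F36020) (tt N5565 (iv D19300)) (tt N10223 (iv F38725)))
theorem Q9139 : ∀ i, i < 9139 → P i := stepQ 9138 Q9138 (allL N9138 (tt N13367 F47118) (tt N5567 (iv D19301)) (tt N13445 D23692) (tt N10491 (iv F39305)) (tt N13168 (iv F46590)) (tt N10496 (iv F39319)) (tt N12781 (iv F45609)))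
theorem Q9140 : ∀ i, i < 9140 → P i := stepQ 9139 Q9139 (allL N9139 (tt N13446 D23693) (tt N5568 (iv D19302)) (tt N13447 D23694) (tt N7783 F36021) (tt N13169 (iv F46591)) (tt N7786 F36022) (tt N13448 D23695))
theorem Q9141 : ∀ i, i < 9141 → P i := stepQ 9140 Q9140 (allL N9140 (tt N9369 F36659) (tt N5572 F36023) (tt N9510 (iv F37028)) (tt N5569 (iv D19303)) (tt N5571 F36024) (tt N13449 D23696) (tt N5569 (iv F36025)))
theorem Q9142 : ∀ i, i < 9142 → P i := stepQ 9141 Q9141 (allL N9141 (tt N9373 (iv F36668)) (tt N13450 D23697) (tt N13350 (iv F47076)) (tt N13449 (iv F47329)) (tt N5570 F36026) (tt N5569 (iv D19304)) (tt N13451 D23698))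
theorem Q9143 : ∀ i, i < 9143 → P i := stepQ 9142 Q9142 (allL N9142 (tt N9654 (iv F37420)) (tt N5570 (iv D19305)) (tt N10533 (iv F39391)) (tt N8578 F36027) (tt N13450 (iv F47334)) (tt N5574 F36028) (tt N6107 F36029))
theorem Q9144 : ∀ i, i < 9144 → P i := stepQ 9143 Q9143 (allL N9143 (tt N9144 (iv F36031)) (tt N10298 (iv F38872)) (tt N13352 (iv F47082)) (tt N9225 (iv F36273)) (tt N13451 (iv F47340)) (tt N5789 F36030) (tt N5570 (iv D19306)))
theorem Q9145 : ∀ i, i < 9145 → P i := stepQ 9144 Q9144 (allL N9144 (tt N9143 F36031) (tt N6064 (iv F37635)) (tt N9692 (iv F37502)) (tt N9224 (iv F36268)) (tt N13449 (iv F47330)) (tt N5571 (iv D19307)) (tt N5797 F36032))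
theorem Q9146 : ∀ i, i < 9146 → P i := stepQ 9145 Q9145 (allL N9145 (tt N9233 (iv F36293)) (tt N13452 D23699) (tt N9509 (iv F37024)) (tt N5573 F36033) (tt N8579 F36034) (tt N5572 (iv D19308)) (tt N9509 (iv F37027)))
theorem Q9147 : ∀ i, i < 9147 → P i := stepQ 9146 Q9146 (allL N9146 (tt N9620 (iv F37317)) (tt N5573 (iv D19309)) (tt N10255 (iv F38778)) (tt N13452 (iv F47342)) (tt N5574 F36035) (tt N13450 (iv F47335)) (tt N9617 F37313))
theorem Q9148 : ∀ i, i < 9148 → P i := stepQ 9147 Q9147 (allL N9147 (tt N5575 (iv D19310)) (tt N6367 F36036) (tt N9149 (iv F36041)) (tt N13170 (iv F46594)) (tt N5577 F36037) (tt N13368 (iv F47120)) (tt N9148 F36039))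
theorem Q9149 : ∀ i, i < 9149 → P i := stepQ 9148 Q9148 (allL N9148 (tt N9149 (iv F36040)) (tt N10255 (iv F38777)) (tt N5575 (iv D19311)) (tt N13453 D23700) (tt N5578 F36038) (tt N13369 (iv F47122)) (tt N9147 (iv F36039)))
theorem Q9150 : ∀ i, i < 9150 → P i := stepQ 9149 Q9149 (allL N9149 (tt N9148 F36040) (tt N13454 D23701) (tt N9147 F36041) (tt N13172 (iv F46597)) (tt N5579 F36042) (tt N13455 D23702) (tt N5575 (iv D19312)))
theorem Q9151 : ∀ i, i < 9151 → P i := stepQ 9150 Q9150 (allL N9150 (tt N11647 F42441) (tt N5576 (iv D19313)) (tt N13456 D23703) (tt N13173 (iv F46599)) (tt N5580 F36043) (tt N11415 (iv F41921)) (tt N13454 (iv F47351)))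
theorem Q9152 : ∀ i, i < 9152 → P i := stepQ 9151 Q9151 (allL N9151 (tt N12299 (iv F44133)) (tt N5579 (iv D19314)) (tt N6493 F36044) (tt N5586 F36045) (tt N13454 (iv F47350)) (tt N13457 D23704) (tt N5580 F36046))
theorem Q9153 : ∀ i, i < 9153 → P i := stepQ 9152 Q9152 (allL N9152 (tt N9046 F36047) (tt N10512 F44096) (tt N9045 F36048) (tt N5587 F36049) (tt N13455 (iv F47354)) (tt N5579 (iv D19315)) (tt N9045 F36050))
theorem Q9154 : ∀ i, i < 9154 → P i := stepQ 9153 Q9153 (allL N9153 (tt N12307 (iv F44154)) (tt N6572 F36051) (tt N5580 (iv D19316)) (tt N13306 (iv F46952)) (tt N13456 (iv F47357)) (tt N12045 (iv F43438)) (tt N6493 F36052))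
theorem Q9155 : ∀ i, i < 9155 → P i := stepQ 9154 Q9154 (allL N9154 (tt N5584 F36053) (tt N7769 F36054) (tt N13458 D23705) (tt N5582 (iv D19317)) (tt N13459 D23706) (tt N13332 (iv F47016)) (tt N13458 F47368))
theorem Q9156 : ∀ i, i < 9156 → P i := stepQ 9155 Q9155 (allL N9155 (tt N5585 F36055) (tt N13460 D23707) (tt N5583 F36056) (tt N13458 (iv F47366)) (tt N13185 (iv F46624)) (tt N9050 F36057) (tt N5582 (iv D19318)))
theorem Q9157 : ∀ i, i < 9157 → P i := stepQ 9156 Q9156 (allL N9156 (tt N13461 D23708) (tt N5583 (iv D19319)) (tt N13462 D23709) (tt N6609 F36058) (tt N13186 (iv F46626)) (tt N13463 D23710) (tt N6607 F36059))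
theorem Q9158 : ∀ i, i < 9158 → P i := stepQ 9157 Q9157 (allL N9157 (tt N13458 (iv F47364)) (tt N13464 D23711) (tt N5584 (iv D19320)) (tt N5585 F36060) (tt N13465 D23712) (tt N13328 F47007) (tt N5584 (iv F36061)))
theorem Q9159 : ∀ i, i < 9159 → P i := stepQ 9158 Q9158 (allL N9158 (tt N13459 (iv F47369)) (tt N5593 F36062) (tt N13465 (iv F47382)) (tt N13188 (iv F46629)) (tt N5584 (iv D19321)) (tt N13005 (iv F46196)) (tt N13465 (iv F47383)))
theorem Q9160 : ∀ i, i < 9160 → P i := stepQ 9159 Q9159 (allL N9159 (tt N13466 D23713) (tt N5585 (iv D19322)) (tt N9114 F36063) (tt N13464 (iv F47380)) (tt N13190 (iv F46632)) (tt N13467 D23714) (tt N5590 F36064))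
theorem Q9161 : ∀ i, i < 9161 → P i := stepQ 9160 Q9160 (allL N9160 (tt N9050 F36065) (tt N13329 (iv F47009)) (tt N5587 F36066) (tt N13328 F47008) (tt N13191 (iv F46636)) (tt N5585 (iv D19323)) (tt N9049 F36067))
theorem Q9162 : ∀ i, i < 9162 → P i := stepQ 9161 Q9161 (allL N9161 (tt N5586 (iv D19324)) (tt N12297 (iv F44128)) (tt N9121 F36068) (tt N12299 (iv F44134)) (tt N13192 (iv F46639)) (tt N9165 (iv F36076)) (tt N5588 F36069))
theorem Q9163 : ∀ i, i < 9163 → P i := stepQ 9162 Q9162 (allL N9162 (tt N9165 (iv F36074)) (tt N13468 D23715) (tt N9124 F36070) (tt N13457 (iv F47362)) (tt N13193 (iv F46642)) (tt N5586 (iv D19325)) (tt N9164 (iv F36073)))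
theorem Q9164 : ∀ i, i < 9164 → P i := stepQ 9163 Q9163 (allL N9163 (tt N10508 F44098) (tt N5587 (iv D19326)) (tt N10668 (iv F44099)) (tt N10512 (iv F44097)) (tt N13194 (iv F46643)) (tt N13468 (iv F47389)) (tt N13469 D23716))
theorem Q9165 : ∀ i, i < 9165 → P i := stepQ 9164 Q9164 (allL N9164 (tt N5589 F36071) (tt N13470 D23717) (tt N9120 F36072) (tt N12044 (iv F43433)) (tt N13195 (iv F46649)) (tt N5588 (iv D19327)) (tt N9162 F36073))
theorem Q9166 : ∀ i, i < 9166 → P i := stepQ 9165 Q9165 (allL N9165 (tt N9162 F36074) (tt N13471 D23718) (tt N9123 F36075) (tt N12046 (iv F43441)) (tt N13196 (iv F46653)) (tt N9161 F36076) (tt N5589 (iv D19328)))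
theorem Q9167 : ∀ i, i < 9167 → P i := stepQ 9166 Q9166 (allL N9166 (tt N5590 (iv D19329)) (tt N12799 (iv F45669)) (tt N9112 F36077) (tt N13472 D23719) (tt N13197 (iv F46656)) (tt N13473 D23720) (tt N13466 (iv F47385)))
theorem Q9168 : ∀ i, i < 9168 → P i := stepQ 9167 Q9167 (allL N9167 (tt N13472 (iv F47399)) (tt N5591 F36078) (tt N13267 (iv F46830)) (tt N5590 (iv D19330)) (tt N13474 D23721) (tt N13265 (iv F46825)) (tt N13464 (iv F47381)))
theorem Q9169 : ∀ i, i < 9169 → P i := stepQ 9168 Q9168 (allL N9168 (tt N13473 (iv F47405)) (tt N5596 F36079) (tt N9105 F36080) (tt N13265 (iv F46824)) (tt N13199 (iv F46660)) (tt N5590 (iv D19331)) (tt N13475 D23722))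
theorem Q9170 : ∀ i, i < 9170 → P i := stepQ 9169 Q9169 (allL N9169 (tt N5593 F36081) (tt N13474 (iv F47408)) (tt N9245 (iv F36320)) (tt N13200 (iv F46662)) (tt N5591 (iv D19332)) (tt N5598 F36082) (tt N5593 F36083))
theorem Q9171 : ∀ i, i < 9171 → P i := stepQ 9170 Q9170 (allL N9170 (tt N13476 D23723) (tt N5592 (iv D19333)) (tt N13464 (iv F47379)) (tt N8098 F36084) (tt N13477 D23724) (tt N13478 D23725) (tt N13267 F46832))
theorem Q9172 : ∀ i, i < 9172 → P i := stepQ 9171 Q9171 (allL N9171 (tt N9245 (iv F36319)) (tt N13477 (iv F47418)) (tt N5593 F36085) (tt N8101 F36086) (tt N5592 (iv D19334)) (tt N5600 F36087) (tt N9245 (iv F36323)))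
theorem Q9173 : ∀ i, i < 9173 → P i := stepQ 9172 Q9172 (allL N9172 (tt N13386 (iv F47162)) (tt N5594 (iv D19335)) (tt N13340 (iv F47044)) (tt N13479 D23726) (tt N13203 (iv F46668)) (tt N13480 D23727) (tt N13481 D23728))
theorem Q9174 : ∀ i, i < 9174 → P i := stepQ 9173 Q9173 (allL N9173 (tt N5595 F36088) (tt N13479 (iv F47424)) (tt N12583 F45017) (tt N5594 (iv D19336)) (tt N13482 D23729) (tt N13264 (iv F46821)) (tt N12591 (iv F45055)))
theorem Q9175 : ∀ i, i < 9175 → P i := stepQ 9174 Q9174 (allL N9174 (tt N5596 F36089) (tt N13483 D23730) (tt N9107 F36090) (tt N13264 (iv F46820)) (tt N13205 (iv F46672)) (tt N5594 (iv D19337)) (tt N9178 (iv F36101)))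
theorem Q9176 : ∀ i, i < 9176 → P i := stepQ 9175 Q9175 (allL N9175 (tt N5597 F36091) (tt N13484 D23731) (tt N9110 F36092) (tt N12591 (iv F45054)) (tt N13206 (iv F46675)) (tt N9177 (iv F36098)) (tt N5594 (iv D19338)))
theorem Q9177 : ∀ i, i < 9177 → P i := stepQ 9176 Q9176 (allL N9176 (tt N13482 (iv F47427)) (tt N5598 F36093) (tt N12563 (iv F44937)) (tt N13208 (iv F46677)) (tt N5595 (iv D19340)) (tt N12900 (iv F45947)) (tt N12562 F44935))
theorem Q9178 : ∀ i, i < 9178 → P i := stepQ 9177 Q9177 (allL N9177 (tt N9178 (iv F36099)) (tt N13485 D23732) (tt N9108 F36097) (tt N13266 (iv F46828)) (tt N13211 (iv F46682)) (tt N9175 F36098) (tt N5596 (iv D19343)))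
theorem Q9179 : ∀ i, i < 9179 → P i := stepQ 9178 Q9178 (allL N9178 (tt N9177 F36099) (tt N13486 D23733) (tt N9111 F36100) (tt N12589 F45046) (tt N13212 (iv F46686)) (tt N5597 (iv D19344)) (tt N9174 F36101))
theorem Q9180 : ∀ i, i < 9180 → P i := stepQ 9179 Q9179 (allL N9179 (tt N5599 (iv D19345)) (tt N13487 D23734) (tt N9011 F36102) (tt N9246 (iv F36324)) (tt N13488 D23735) (tt N13489 D23736) (tt N10716 (iv F40247)))
theorem Q9181 : ∀ i, i < 9181 → P i := stepQ 9180 Q9180 (allL N9180 (tt N13488 (iv F47438)) (tt N5600 F36103) (tt N8737 F36104) (tt N9926 (iv F38011)) (tt N5599 (iv D19346)) (tt N13490 D23737) (tt N12565 (iv F44944)))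
theorem Q9182 : ∀ i, i < 9182 → P i := stepQ 9181 Q9181 (allL N9181 (tt N13489 (iv F47440)) (tt N13478 (iv F47421)) (tt N9012 F36105) (tt N8199 F36106) (tt N13490 (iv F47445)) (tt N5599 (iv D19347)) (tt N6771 (iv F36107)))
theorem Q9183 : ∀ i, i < 9183 → P i := stepQ 9182 Q9182 (allL N9182 (tt N5602 F36141) (tt N5786 F36142) (tt N9182 F36143) (tt N5788 F36145) (tt N5601 (iv D19348)) (tt N5601 (iv F36144)) (tt N9185 (iv F36157)))
theorem Q9184 : ∀ i, i < 9184 → P i := stepQ 9183 Q9183 (allL N9183 (tt N5603 F36146) (tt N9436 (iv F36845)) (tt N9183 F36147) (tt N5795 F36148) (tt N9185 (iv F36156)) (tt N9184 (iv F36152)) (tt N5601 (iv D19349)))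
theorem Q9185 : ∀ i, i < 9185 → P i := stepQ 9184 Q9184 (allL N9184 (tt N9185 (iv F36153)) (tt N9761 F37681) (tt N9184 F36149) (tt N9088 F36150) (tt N5603 F36151) (tt N9183 F36152) (tt N5602 (iv D19350)))
theorem Q9186 : ∀ i, i < 9186 → P i := stepQ 9185 Q9185 (allL N9185 (tt N9184 F36153) (tt N13491 D23738) (tt N9185 F36154) (tt N9090 F36155) (tt N9183 F36156) (tt N5603 (iv D19351)) (tt N9182 F36157))
theorem Q9187 : ∀ i, i < 9187 → P i := stepQ 9186 Q9186 (allL N9186 (tt N5806 F36158) (tt N5607 F36159) (tt N10815 (iv F40528)) (tt N6393 (iv F36161)) (tt N5605 (iv D19352)) (tt N5822 F36160) (tt N9459 (iv F36910)))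
theorem Q9188 : ∀ i, i < 9188 → P i := stepQ 9187 Q9187 (allL N9187 (tt N5610 F36162) (tt N5766 F36163) (tt N11026 (iv F41084)) (tt N9553 (iv F37166)) (tt N5606 (iv D19353)) (tt N9527 (iv F37082)) (tt N13492 D23739))
theorem Q9189 : ∀ i, i < 9189 → P i := stepQ 9188 Q9188 (allL N9188 (tt N5611 F36164) (tt N9482 (iv F36968)) (tt N7537 F36165) (tt N5609 F36166) (tt N13492 (iv F47454)) (tt N7526 F36167) (tt N5606 (iv D19354)))
theorem Q9190 : ∀ i, i < 9190 → P i := stepQ 9189 Q9189 (allL N9189 (tt N5612 F36168) (tt N13493 D23740) (tt N5675 F36169) (tt N6046 F36170) (tt N5609 F36171) (tt N5655 F36172) (tt N5607 (iv D19355)))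
theorem Q9191 : ∀ i, i < 9191 → P i := stepQ 9190 Q9190 (allL N9190 (tt N9455 (iv F36893)) (tt N5608 (iv D19356)) (tt N7940 F36173) (tt N5838 F36174) (tt N7940 F36175) (tt N5828 F36176) (tt N9235 (iv F36302)))
theorem Q9192 : ∀ i, i < 9192 → P i := stepQ 9191 Q9191 (allL N9191 (tt N13494 D23741) (tt N5609 (iv D19357)) (tt N10685 (iv F40185)) (tt N9482 (iv F36969)) (tt N13493 (iv F47457)) (tt N13495 D23742) (tt N9469 (iv F36941)))
theorem Q9193 : ∀ i, i < 9193 → P i := stepQ 9192 Q9192 (allL N9192 (tt N13492 (iv F47451)) (tt N9595 (iv F37265)) (tt N11030 (iv F41099)) (tt N9555 (iv F37171)) (tt N5611 F36177) (tt N13496 D23743) (tt N5610 (iv D19358)))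
theorem Q9194 : ∀ i, i < 9194 → P i := stepQ 9193 Q9193 (allL N9193 (tt N7526 F36178) (tt N5653 F36179) (tt N7531 F36180) (tt N5615 F36181) (tt N13496 (iv F47474)) (tt N5611 (iv D19359)) (tt N7525 F36182))
theorem Q9195 : ∀ i, i < 9195 → P i := stepQ 9194 Q9194 (allL N9194 (tt N6819 F36505) (tt N5613 (iv D19360)) (tt N6818 (iv F36504)) (tt N9822 (iv F37787)) (tt N9236 (iv F36304)) (tt N13497 D23744) (tt N9714 (iv F37539)))
theorem Q9196 : ∀ i, i < 9196 → P i := stepQ 9195 Q9195 (allL N9195 (tt N5614 (iv D19361)) (tt N13498 D23745) (tt N5713 F36183) (tt N6083 F36184) (tt N5645 F36185) (tt N5644 F36186) (tt N5622 F36187))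
theorem Q9197 : ∀ i, i < 9197 → P i := stepQ 9196 Q9196 (allL N9196 (tt N9091 F36188) (tt N13499 D23746) (tt N12810 (iv F45709)) (tt N5617 F36189) (tt N5619 F36190) (tt N12810 (iv F45712)) (tt N5616 (iv D19362)))
theorem Q9198 : ∀ i, i < 9198 → P i := stepQ 9197 Q9197 (allL N9197 (tt N5914 (iv F36192)) (tt N5617 (iv D19363)) (tt N10276 (iv F38825)) (tt N13499 (iv F47485)) (tt N5618 F36191) (tt N5912 (iv F36193)) (tt N9595 (iv F37264)))
theorem Q9199 : ∀ i, i < 9199 → P i := stepQ 9198 Q9198 (allL N9198 (tt N7571 F36197) (tt N5619 (iv D19364)) (tt N7575 F36198) (tt N5620 F36194) (tt N13499 (iv F47486)) (tt N7570 (iv F36196)) (tt N5648 F36195))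
theorem Q9200 : ∀ i, i < 9200 → P i := stepQ 9199 Q9199 (allL N9199 (tt N13500 D23747) (tt N5621 (iv D19365)) (tt N5625 F36199) (tt N9485 (iv F36976)) (tt N5625 F36200) (tt N9230 (iv F36289)) (tt N5625 F36201))
theorem Q9201 : ∀ i, i < 9201 → P i := stepQ 9200 Q9200 (allL N9200 (tt N10415 (iv F39136)) (tt N5622 (iv D19366)) (tt N6715 (iv F36204)) (tt N6082 F36202) (tt N9232 (iv F36292)) (tt N6027 F36203) (tt N13501 D23748))
theorem Q9202 : ∀ i, i < 9202 → P i := stepQ 9201 Q9201 (allL N9201 (tt N5625 (iv D19367)) (tt N12444 (iv F44604)) (tt N13500 (iv F47491)) (tt N5842 F36205) (tt N13500 (iv F47493)) (tt N5833 F36206) (tt N13500 (iv F47495)))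
theorem Q9203 : ∀ i, i < 9203 → P i := stepQ 9202 Q9202 (allL N9202 (tt N10846 (iv F40633)) (tt N5627 (iv D19368)) (tt N6761 F36207) (tt N10752 (iv F40348)) (tt N6764 F36208) (tt N10730 (iv F40287)) (tt N10844 F40625))
theorem Q9204 : ∀ i, i < 9204 → P i := stepQ 9203 Q9203 (allL N9203 (tt N5628 F36209) (tt N10752 (iv F40346)) (tt N5732 F36210) (tt N5627 (iv D19369)) (tt N13502 D23749) (tt N6765 F36211) (tt N5696 F36212))
theorem Q9205 : ∀ i, i < 9205 → P i := stepQ 9204 Q9204 (allL N9204 (tt N13502 (iv F47500)) (tt N6782 F36213) (tt N9334 (iv F36556)) (tt N10839 (iv F40611)) (tt N5628 (iv D19370)) (tt N10839 (iv F40613)) (tt N5698 F36214))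
theorem Q9206 : ∀ i, i < 9206 → P i := stepQ 9205 Q9205 (allL N9205 (tt N5629 (iv D19371)) (tt N8481 F36419) (tt N8479 (iv F36418)) (tt N13503 D23750) (tt N12331 (iv F44211)) (tt N13504 D23751) (tt N9769 (iv F37691)))
theorem Q9207 : ∀ i, i < 9207 → P i := stepQ 9206 Q9206 (allL N9206 (tt N13503 (iv F47505)) (tt N5630 F36215) (tt N13505 D23752) (tt N5629 (iv D19372)) (tt N13506 D23753) (tt N13505 F47512) (tt N13507 D23754))
theorem Q9208 : ∀ i, i < 9208 → P i := stepQ 9207 Q9207 (allL N9207 (tt N13504 (iv F47507)) (tt N12335 (iv F44225)) (tt N9339 (iv F36568)) (tt N13505 F47511) (tt N12332 (iv F44215)) (tt N5629 (iv D19373)) (tt N10688 (iv F40197)))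
theorem Q9209 : ∀ i, i < 9209 → P i := stepQ 9208 Q9208 (allL N9208 (tt N9769 F37692) (tt N5636 F36216) (tt N9332 (iv F36546)) (tt N13507 (iv F47518)) (tt N12333 (iv F44219)) (tt N10660 (iv F40110)) (tt N5629 (iv D19374)))
theorem Q9210 : ∀ i, i < 9210 → P i := stepQ 9209 Q9209 (allL N9209 (tt N9117 F36217) (tt N13506 (iv F47514)) (tt N9115 F36218) (tt N7966 F36219) (tt N5630 (iv D19375)) (tt N9117 F36220) (tt N5637 F36221))
theorem Q9211 : ∀ i, i < 9211 → P i := stepQ 9210 Q9210 (allL N9210 (tt N5631 (iv D19376)) (tt N13508 D23755) (tt N9740 F37629) (tt N9125 F36222) (tt N6144 F36223) (tt N8169 F36224) (tt N12463 (iv F44659)))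
theorem Q9212 : ∀ i, i < 9212 → P i := stepQ 9211 Q9211 (allL N9211 (tt N8169 F36225) (tt N9211 F36226) (tt N9741 (iv F37630)) (tt N8289 F36227) (tt N6146 F36228) (tt N5631 (iv D19377)) (tt N8167 F36229))
theorem Q9213 : ∀ i, i < 9213 → P i := stepQ 9212 Q9212 (allL N9212 (tt N13509 D23756) (tt N5632 (iv D19378)) (tt N13510 D23757) (tt N13511 D23758) (tt N13512 D23759) (tt N13513 D23760) (tt N12440 (iv F44594)))
theorem Q9214 : ∀ i, i < 9214 → P i := stepQ 9213 Q9213 (allL N9213 (tt N5633 F36234) (tt N13511 (iv F47524)) (tt N8270 F36235) (tt N5632 (iv D19379)) (tt N13514 D23761) (tt N12571 (iv F44968)) (tt N8269 (iv F36236)))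
theorem Q9215 : ∀ i, i < 9215 → P i := stepQ 9214 Q9214 (allL N9214 (tt N5634 F36237) (tt N13512 (iv F47525)) (tt N5702 F36238) (tt N9885 (iv F37908)) (tt N5632 (iv D19380)) (tt N13515 D23762) (tt N13516 D23763))
theorem Q9216 : ∀ i, i < 9216 → P i := stepQ 9215 Q9215 (allL N9215 (tt N5635 F36239) (tt N13517 D23764) (tt N5703 F36240) (tt N12571 (iv F44967)) (tt N13515 (iv F47533)) (tt N5632 (iv D19381)) (tt N9221 (iv F36258)))
theorem Q9217 : ∀ i, i < 9217 → P i := stepQ 9216 Q9216 (allL N9216 (tt N5636 F36241) (tt N8164 (iv F39861)) (tt N5704 F36242) (tt N8269 F36243) (tt N13516 (iv F47536)) (tt N8268 F36244) (tt N5632 (iv D19382)))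
theorem Q9218 : ∀ i, i < 9218 → P i := stepQ 9217 Q9217 (allL N9217 (tt N13514 (iv F47528)) (tt N5637 F36245) (tt N12533 (iv F44855)) (tt N9886 (iv F37910)) (tt N5633 (iv D19383)) (tt N12532 F44854) (tt N13518 D23765))
theorem Q9219 : ∀ i, i < 9219 → P i := stepQ 9218 Q9218 (allL N9218 (tt N8269 F36246) (tt N13507 (iv F47516)) (tt N8267 F36247) (tt N5636 F36248) (tt N13518 (iv F47545)) (tt N8266 (iv F36249)) (tt N5633 (iv D19384)))
theorem Q9220 : ∀ i, i < 9220 → P i := stepQ 9219 Q9219 (allL N9219 (tt N13515 (iv F47531)) (tt N9219 F36250) (tt N5706 F36251) (tt N9887 (iv F37912)) (tt N5635 F36252) (tt N5634 (iv D19385)) (tt N12574 (iv F44977)))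
theorem Q9221 : ∀ i, i < 9221 → P i := stepQ 9220 Q9220 (allL N9220 (tt N13516 (iv F47534)) (tt N12333 (iv F44216)) (tt N5707 F36253) (tt N9888 (iv F37913)) (tt N5636 F36254) (tt N13519 D23766) (tt N5634 (iv D19386)))
theorem Q9222 : ∀ i, i < 9222 → P i := stepQ 9221 Q9221 (allL N9221 (tt N8268 F36255) (tt N13520 D23767) (tt N5709 F36256) (tt N8266 F36257) (tt N13519 (iv F47549)) (tt N5636 (iv D19387)) (tt N9215 F36258))
theorem Q9223 : ∀ i, i < 9223 → P i := stepQ 9222 Q9222 (allL N9222 (tt N5639 F36259) (tt N5787 F36260) (tt N9222 F36261) (tt N5789 (iv F36262)) (tt N5638 (iv D19388)) (tt N9225 (iv F36275)) (tt N5638 (iv F36263)))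
theorem Q9224 : ∀ i, i < 9224 → P i := stepQ 9223 Q9223 (allL N9223 (tt N5640 F36264) (tt N9432 (iv F36840)) (tt N9223 F36265) (tt N5797 F36266) (tt N9225 (iv F36274)) (tt N5638 (iv D19389)) (tt N9224 (iv F36270)))
theorem Q9225 : ∀ i, i < 9225 → P i := stepQ 9224 Q9224 (allL N9224 (tt N9225 (iv F36271)) (tt N9741 F37634) (tt N9224 F36267) (tt N9144 F36268) (tt N5640 F36269) (tt N5639 (iv D19390)) (tt N9223 F36270))
theorem Q9226 : ∀ i, i < 9226 → P i := stepQ 9225 Q9225 (allL N9225 (tt N9224 F36271) (tt N13521 D23768) (tt N9225 F36272) (tt N9143 F36273) (tt N9223 F36274) (tt N9222 F36275) (tt N5640 (iv D19391)))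
theorem Q9227 : ∀ i, i < 9227 → P i := stepQ 9226 Q9226 (allL N9226 (tt N5808 F36276) (tt N5644 F36277) (tt N10836 (iv F40599)) (tt N6396 (iv F36279)) (tt N5642 (iv D19392)) (tt N9464 (iv F36928)) (tt N5825 F36278))
theorem Q9228 : ∀ i, i < 9228 → P i := stepQ 9227 Q9227 (allL N9227 (tt N5647 F36280) (tt N5769 F36281) (tt N11065 (iv F41171)) (tt N9591 (iv F37252)) (tt N5643 (iv D19393)) (tt N13522 D23769) (tt N9540 (iv F37124)))
theorem Q9229 : ∀ i, i < 9229 → P i := stepQ 9228 Q9228 (allL N9228 (tt N5648 F36282) (tt N9490 (iv F36983)) (tt N7581 F36283) (tt N5645 F36284) (tt N13522 (iv F47559)) (tt N5643 (iv D19394)) (tt N7571 F36285))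
theorem Q9230 : ∀ i, i < 9230 → P i := stepQ 9229 Q9229 (allL N9229 (tt N13523 D23770) (tt N5645 (iv D19395)) (tt N10769 (iv F40410)) (tt N9490 (iv F36984)) (tt N13498 (iv F47482)) (tt N9474 (iv F36954)) (tt N13497 (iv F47479)))
theorem Q9231 : ∀ i, i < 9231 → P i := stepQ 9230 Q9230 (allL N9230 (tt N9460 (iv F36911)) (tt N5646 (iv D19396)) (tt N7998 F36286) (tt N5843 F36287) (tt N7998 F36288) (tt N9199 F36289) (tt N5833 F36290))
theorem Q9232 : ∀ i, i < 9232 → P i := stepQ 9231 Q9231 (allL N9231 (tt N13522 (iv F47556)) (tt N9555 F37174) (tt N11069 (iv F41186)) (tt N9595 (iv F37262)) (tt N5648 F36291) (tt N5647 (iv D19397)) (tt N13499 (iv F47487)))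
theorem Q9233 : ∀ i, i < 9233 → P i := stepQ 9232 Q9232 (allL N9232 (tt N6745 F36527) (tt N5649 (iv D19398)) (tt N6744 (iv F36526)) (tt N9875 (iv F37884)) (tt N9200 F36292) (tt N9722 (iv F37571)) (tt N13495 (iv F47469)))
theorem Q9234 : ∀ i, i < 9234 → P i := stepQ 9233 Q9233 (allL N9233 (tt N9145 F36293) (tt N13496 (iv F47471)) (tt N12814 (iv F45721)) (tt N5651 F36294) (tt N5653 F36295) (tt N5650 (iv D19399)) (tt N12814 (iv F45724)))
theorem Q9235 : ∀ i, i < 9235 → P i := stepQ 9234 Q9234 (allL N9234 (tt N5893 (iv F36297)) (tt N5651 (iv D19400)) (tt N10258 (iv F38786)) (tt N13496 (iv F47473)) (tt N5652 F36296) (tt N9555 (iv F37173)) (tt N5890 (iv F36298)))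
theorem Q9236 : ∀ i, i < 9236 → P i := stepQ 9235 Q9235 (allL N9235 (tt N13524 D23771) (tt N5654 (iv D19401)) (tt N5658 F36299) (tt N9475 (iv F36957)) (tt N5658 F36300) (tt N5658 F36301) (tt N9190 F36302))
theorem Q9237 : ∀ i, i < 9237 → P i := stepQ 9236 Q9236 (allL N9236 (tt N10381 (iv F39058)) (tt N5655 (iv D19402)) (tt N6791 (iv F36306)) (tt N6045 F36303) (tt N9194 F36304) (tt N13525 D23772) (tt N6011 F36305))
theorem Q9238 : ∀ i, i < 9238 → P i := stepQ 9237 Q9237 (allL N9237 (tt N5658 (iv D19403)) (tt N12480 (iv F44706)) (tt N13524 (iv F47567)) (tt N5839 F36307) (tt N13524 (iv F47569)) (tt N13524 (iv F47570)) (tt N5828 F36308))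
theorem Q9239 : ∀ i, i < 9239 → P i := stepQ 9238 Q9238 (allL N9238 (tt N10825 (iv F40561)) (tt N5660 (iv D19404)) (tt N6835 F36309) (tt N10658 (iv F40106)) (tt N6838 F36310) (tt N10823 (iv F40553)) (tt N10645 F40065))
theorem Q9240 : ∀ i, i < 9240 → P i := stepQ 9239 Q9239 (allL N9239 (tt N5661 F36311) (tt N10658 (iv F40104)) (tt N5699 F36312) (tt N5660 (iv D19405)) (tt N13526 D23773) (tt N5697 F36313) (tt N6839 F36314))
theorem Q9241 : ∀ i, i < 9241 → P i := stepQ 9240 Q9240 (allL N9240 (tt N13526 (iv F47577)) (tt N6706 F36315) (tt N9287 (iv F36420)) (tt N10818 (iv F40539)) (tt N5661 (iv D19406)) (tt N5731 F36316) (tt N10818 (iv F40542)))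
theorem Q9242 : ∀ i, i < 9242 → P i := stepQ 9241 Q9241 (allL N9241 (tt N5662 (iv D19407)) (tt N8489 F36489) (tt N8487 (iv F36486)) (tt N13527 D23774) (tt N12377 (iv F44376)) (tt N9749 (iv F37644)) (tt N13528 D23775))
theorem Q9243 : ∀ i, i < 9243 → P i := stepQ 9242 Q9242 (allL N9242 (tt N13527 (iv F47582)) (tt N5663 F36317) (tt N13529 D23776) (tt N5662 (iv D19408)) (tt N13530 D23777) (tt N13531 D23778) (tt N13529 F47590))
theorem Q9244 : ∀ i, i < 9244 → P i := stepQ 9243 Q9243 (allL N9243 (tt N9749 (iv F37645)) (tt N5668 F36318) (tt N9285 (iv F36410)) (tt N13531 (iv F47595)) (tt N12378 (iv F44380)) (tt N5662 (iv D19409)) (tt N10742 (iv F40327)))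
theorem Q9245 : ∀ i, i < 9245 → P i := stepQ 9244 Q9244 (allL N9244 (tt N13528 (iv F47584)) (tt N12381 (iv F44390)) (tt N9297 (iv F36437)) (tt N13529 F47588) (tt N12379 (iv F44384)) (tt N10772 (iv F40425)) (tt N5662 (iv D19410)))
theorem Q9246 : ∀ i, i < 9246 → P i := stepQ 9245 Q9245 (allL N9245 (tt N9171 F36319) (tt N13530 (iv F47591)) (tt N9169 F36320) (tt N8024 F36321) (tt N5663 (iv D19411)) (tt N5670 F36322) (tt N9171 F36323))
theorem Q9247 : ∀ i, i < 9247 → P i := stepQ 9246 Q9246 (allL N9246 (tt N5664 (iv D19412)) (tt N13532 D23779) (tt N9760 F37676) (tt N9179 F36324) (tt N6157 F36325) (tt N12497 (iv F44758)) (tt N8198 (iv F36326)))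
theorem Q9248 : ∀ i, i < 9248 → P i := stepQ 9247 Q9247 (allL N9247 (tt N8198 F36327) (tt N9247 F36328) (tt N9761 (iv F37677)) (tt N8298 F36329) (tt N6160 F36330) (tt N8197 (iv F36331)) (tt N5664 (iv D19413)))
theorem Q9249 : ∀ i, i < 9249 → P i := stepQ 9248 Q9248 (allL N9248 (tt N13533 D23780) (tt N5665 (iv D19414)) (tt N13534 D23781) (tt N13535 D23782) (tt N13536 D23783) (tt N12476 (iv F44697)) (tt N13537 D23784))
theorem Q9250 : ∀ i, i < 9250 → P i := stepQ 9249 Q9249 (allL N9249 (tt N5666 F36333) (tt N13535 (iv F47601)) (tt N8281 F36334) (tt N5665 (iv D19415)) (tt N13538 D23785) (tt N8280 (iv F36335)) (tt N12577 (iv F44992)))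
theorem Q9251 : ∀ i, i < 9251 → P i := stepQ 9250 Q9250 (allL N9250 (tt N5667 F36336) (tt N13536 (iv F47602)) (tt N5735 F36337) (tt N9892 (iv F37920)) (tt N5665 (iv D19416)) (tt N13539 D23786) (tt N13540 D23787))
theorem Q9252 : ∀ i, i < 9252 → P i := stepQ 9251 Q9251 (allL N9251 (tt N5668 F36338) (tt N8194 F36342) (tt N5736 F36339) (tt N8280 F36340) (tt N13539 (iv F47610)) (tt N5665 (iv D19417)) (tt N8279 F36341))
theorem Q9253 : ∀ i, i < 9253 → P i := stepQ 9252 Q9252 (allL N9252 (tt N5669 F36343) (tt N13541 D23788) (tt N5737 F36344) (tt N12577 (iv F44990)) (tt N13540 (iv F47615)) (tt N9257 (iv F36358)) (tt N5665 (iv D19418)))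
theorem Q9254 : ∀ i, i < 9254 → P i := stepQ 9253 Q9253 (allL N9253 (tt N13538 (iv F47605)) (tt N5670 F36345) (tt N12542 (iv F44879)) (tt N9893 (iv F37922)) (tt N5666 (iv D19419)) (tt N13542 D23789) (tt N12541 F44878))
theorem Q9255 : ∀ i, i < 9255 → P i := stepQ 9254 Q9254 (allL N9254 (tt N8280 F36346) (tt N13531 (iv F47593)) (tt N8278 F36347) (tt N5668 F36348) (tt N13542 (iv F47622)) (tt N5666 (iv D19420)) (tt N8277 F36349))
theorem Q9256 : ∀ i, i < 9256 → P i := stepQ 9255 Q9255 (allL N9255 (tt N13539 (iv F47608)) (tt N12378 (iv F44377)) (tt N5739 F36350) (tt N9894 (iv F37923)) (tt N5668 F36351) (tt N5667 (iv D19421)) (tt N13543 D23790))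
theorem Q9257 : ∀ i, i < 9257 → P i := stepQ 9256 Q9256 (allL N9256 (tt N13540 (iv F47613)) (tt N9256 F36352) (tt N5740 F36353) (tt N9895 (iv F37925)) (tt N5669 F36354) (tt N12580 (iv F45000)) (tt N5667 (iv D19422)))
theorem Q9258 : ∀ i, i < 9258 → P i := stepQ 9257 Q9257 (allL N9257 (tt N8279 F36355) (tt N13544 D23791) (tt N5741 F36356) (tt N8277 F36357) (tt N13543 (iv F47626)) (tt N9252 F36358) (tt N5668 (iv D19423)))
theorem Q9259 : ∀ i, i < 9259 → P i := stepQ 9258 Q9258 (allL N9258 (tt N5672 F36359) (tt N10815 (iv F40527)) (tt N5672 F36360) (tt N5829 (iv F36362)) (tt N5671 (iv D19424)) (tt N5671 (iv F36361)) (tt N9262 (iv F36372)))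
theorem Q9260 : ∀ i, i < 9260 → P i := stepQ 9259 Q9259 (allL N9259 (tt N5673 F36363) (tt N13545 D23792) (tt N5673 F36364) (tt N9468 (iv F36938)) (tt N9262 (iv F36371)) (tt N9260 (iv F36367)) (tt N5671 (iv D19425)))
theorem Q9261 : ∀ i, i < 9261 → P i := stepQ 9260 Q9260 (allL N9260 (tt N9262 (iv F36369)) (tt N13546 D23793) (tt N9262 (iv F36370)) (tt N5831 F36365) (tt N5673 F36366) (tt N9259 F36367) (tt N5672 (iv D19426)))
theorem Q9262 : ∀ i, i < 9262 → P i := stepQ 9261 Q9261 (allL N9261 (tt N13547 D23794) (tt N5673 (iv D19427)) (tt N13548 D23795) (tt N10819 (iv F40543)) (tt N13546 (iv F47630)) (tt N13548 F47634) (tt N5676 F36368))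
theorem Q9263 : ∀ i, i < 9263 → P i := stepQ 9262 Q9262 (allL N9262 (tt N9260 F36369) (tt N13549 D23796) (tt N9260 F36370) (tt N9465 (iv F36931)) (tt N9259 F36371) (tt N5673 (iv D19428)) (tt N9258 F36372))
theorem Q9264 : ∀ i, i < 9264 → P i := stepQ 9263 Q9263 (allL N9263 (tt N9338 (iv F36564)) (tt N5675 (iv D19429)) (tt N13550 D23797) (tt N8479 F36373) (tt N5676 F36374) (tt N13551 D23798) (tt N13546 (iv F47631)))
theorem Q9265 : ∀ i, i < 9265 → P i := stepQ 9264 Q9264 (allL N9264 (tt N5676 (iv D19430)) (tt N9337 (iv F36567)) (tt N9266 (iv F36377)) (tt N10820 (iv F40546)) (tt N9338 F36566) (tt N9265 F36375) (tt N13547 (iv F47632)))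
theorem Q9266 : ∀ i, i < 9266 → P i := stepQ 9265 Q9265 (allL N9265 (tt N9266 (iv F36376)) (tt N10685 F40188) (tt N5676 (iv D19431)) (tt N13552 D23799) (tt N13550 (iv F47637)) (tt N9264 (iv F36375)) (tt N13548 (iv F47633)))
theorem Q9267 : ∀ i, i < 9267 → P i := stepQ 9266 Q9266 (allL N9266 (tt N9265 F36376) (tt N9272 (iv F36392)) (tt N9264 F36377) (tt N10822 (iv F40548)) (tt N13551 (iv F47644)) (tt N5676 (iv D19432)) (tt N13553 D23800))
theorem Q9268 : ∀ i, i < 9268 → P i := stepQ 9267 Q9267 (allL N9267 (tt N9286 F36416) (tt N5677 (iv D19433)) (tt N10627 (iv F40018)) (tt N5679 F36378) (tt N10650 (iv F40087)) (tt N5726 F36379) (tt N5684 F36380))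
theorem Q9269 : ∀ i, i < 9269 → P i := stepQ 9268 Q9268 (allL N9268 (tt N13554 D23801) (tt N5678 (iv D19434)) (tt N6805 F36381) (tt N10649 (iv F40081)) (tt N5680 F36382) (tt N9342 (iv F36580)) (tt N6718 F36383))
theorem Q9270 : ∀ i, i < 9270 → P i := stepQ 9269 Q9269 (allL N9269 (tt N5679 (iv D19435)) (tt N6756 (iv F36388)) (tt N5718 F36384) (tt N9286 (iv F36414)) (tt N5681 F36385) (tt N5724 F36386) (tt N5685 F36387))
theorem Q9271 : ∀ i, i < 9271 → P i := stepQ 9270 Q9270 (allL N9270 (tt N5680 (iv D19436)) (tt N13510 (iv F47521)) (tt N5701 F36511) (tt N10823 (iv F40550)) (tt N13554 (iv F47659)) (tt N10658 (iv F40107)) (tt N6722 F36389))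
theorem Q9272 : ∀ i, i < 9272 → P i := stepQ 9271 Q9271 (allL N9271 (tt N5701 F36497) (tt N6818 F36498) (tt N5680 (iv D19437)) (tt N6818 F36499) (tt N6805 F36390) (tt N13555 D23802) (tt N6723 F36391))
theorem Q9273 : ∀ i, i < 9273 → P i := stepQ 9272 Q9272 (allL N9272 (tt N10658 (iv F40103)) (tt N9266 F36392) (tt N13555 (iv F47663)) (tt N10825 (iv F40564)) (tt N9342 (iv F36579)) (tt N5680 (iv D19438)) (tt N9340 F36573))
theorem Q9274 : ∀ i, i < 9274 → P i := stepQ 9273 Q9273 (allL N9273 (tt N10681 (iv F40172)) (tt N5681 (iv D19439)) (tt N10542 (iv F39421)) (tt N10695 (iv F40210)) (tt N6756 F36393) (tt N10680 (iv F40171)) (tt N6741 F36394))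
theorem Q9275 : ∀ i, i < 9275 → P i := stepQ 9274 Q9274 (allL N9274 (tt N5682 F36395) (tt N6830 (iv F36399)) (tt N5681 (iv D19440)) (tt N9333 (iv F36552)) (tt N5718 F36396) (tt N5721 F36397) (tt N5689 F36398))
theorem Q9276 : ∀ i, i < 9276 → P i := stepQ 9275 Q9275 (allL N9275 (tt N9333 (iv F36550)) (tt N5716 F36400) (tt N10577 (iv F39860)) (tt N5682 (iv D19441)) (tt N10737 (iv F40316)) (tt N5720 F36401) (tt N5691 F36402))
theorem Q9277 : ∀ i, i < 9277 → P i := stepQ 9276 Q9276 (allL N9276 (tt N5684 (iv D19442)) (tt N5741 (iv F36404)) (tt N12737 (iv F45477)) (tt N5685 F36403) (tt N10669 (iv F40130)) (tt N9331 (iv F36545)) (tt N9286 (iv F36415)))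
theorem Q9278 : ∀ i, i < 9278 → P i := stepQ 9277 Q9277 (allL N9277 (tt N12737 (iv F45476)) (tt N9348 (iv F36592)) (tt N5684 (iv D19443)) (tt N12736 (iv F45475)) (tt N10670 (iv F40133)) (tt N13556 D23803) (tt N10627 (iv F40019)))
theorem Q9279 : ∀ i, i < 9279 → P i := stepQ 9278 Q9278 (allL N9278 (tt N9331 (iv F36543)) (tt N9349 (iv F36595)) (tt N13556 (iv F47667)) (tt N5687 F36405) (tt N10671 (iv F40136)) (tt N5684 (iv D19444)) (tt N9328 (iv F36541)))
theorem Q9280 : ∀ i, i < 9280 → P i := stepQ 9279 Q9279 (allL N9279 (tt N10737 (iv F40314)) (tt N5689 (iv D19445)) (tt N10401 F39744) (tt N10764 (iv F40393)) (tt N9333 (iv F36553)) (tt N10753 (iv F40353)) (tt N10779 (iv F40441)))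
theorem Q9281 : ∀ i, i < 9281 → P i := stepQ 9280 Q9280 (allL N9280 (tt N5691 F36406) (tt N10764 (iv F40391)) (tt N12749 (iv F45512)) (tt N5689 (iv D19446)) (tt N10779 (iv F40439)) (tt N9326 F36537) (tt N9333 (iv F36555)))
theorem Q9282 : ∀ i, i < 9282 → P i := stepQ 9281 Q9281 (allL N9281 (tt N13557 D23804) (tt N5690 (iv D19447)) (tt N12333 (iv F44217)) (tt N10693 (iv F40202)) (tt N9332 (iv F36547)) (tt N10656 (iv F40102)) (tt N5730 F36407))
theorem Q9283 : ∀ i, i < 9283 → P i := stepQ 9282 Q9282 (allL N9282 (tt N12749 (iv F45510)) (tt N13513 F47527) (tt N5691 (iv D19448)) (tt N12748 (iv F45508)) (tt N13558 D23805) (tt N13517 (iv F47540)) (tt N10577 F39866))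
theorem Q9284 : ∀ i, i < 9284 → P i := stepQ 9283 Q9283 (allL N9283 (tt N10779 F40442) (tt N5698 F36408) (tt N13558 (iv F47673)) (tt N10765 (iv F40398)) (tt N5691 (iv D19449)) (tt N13559 D23806) (tt N10737 (iv F40318)))
theorem Q9285 : ∀ i, i < 9285 → P i := stepQ 9284 Q9284 (allL N9284 (tt N9326 (iv F36534)) (tt N13560 D23807) (tt N13517 F47542) (tt N5692 F36409) (tt N13559 (iv F47676)) (tt N5691 (iv D19450)) (tt N9310 (iv F36466)))
theorem Q9286 : ∀ i, i < 9286 → P i := stepQ 9285 Q9285 (allL N9285 (tt N9472 F36948) (tt N5692 (iv D19451)) (tt N9243 F36410) (tt N13560 (iv F47679)) (tt N9290 (iv F36424)) (tt N5700 F36411) (tt N6797 F36412))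
theorem Q9287 : ∀ i, i < 9287 → P i := stepQ 9286 Q9286 (allL N9286 (tt N9267 (iv F36416)) (tt N5693 (iv D19452)) (tt N8459 F36413) (tt N9269 F36414) (tt N9327 (iv F36538)) (tt N9328 (iv F36540)) (tt N9276 F36415))
theorem Q9288 : ∀ i, i < 9288 → P i := stepQ 9287 Q9287 (allL N9287 (tt N9295 (iv F36431)) (tt N10765 F40401) (tt N9240 F36420) (tt N5698 F36421) (tt N5694 (iv D19453)) (tt N9292 (iv F36427)) (tt N10839 (iv F40614)))
theorem Q9289 : ∀ i, i < 9289 → P i := stepQ 9288 Q9288 (allL N9288 (tt N5695 (iv D19454)) (tt N6787 F36488) (tt N12377 (iv F44374)) (tt N10838 (iv F40607)) (tt N8487 (iv F36487)) (tt N13561 D23808) (tt N13562 D23809))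
theorem Q9290 : ∀ i, i < 9290 → P i := stepQ 9289 Q9289 (allL N9289 (tt N10838 (iv F40606)) (tt N5696 F36422) (tt N13537 (iv F47603)) (tt N5695 (iv D19455)) (tt N10841 (iv F40619)) (tt N10777 (iv F40431)) (tt N13534 F47600))
theorem Q9291 : ∀ i, i < 9291 → P i := stepQ 9290 Q9290 (allL N9290 (tt N13561 (iv F47682)) (tt N5725 F36423) (tt N12378 (iv F44378)) (tt N10777 (iv F40430)) (tt N9285 F36424) (tt N5695 (iv D19456)) (tt N10740 (iv F40324)))
theorem Q9292 : ∀ i, i < 9292 → P i := stepQ 9291 Q9291 (allL N9291 (tt N13562 (iv F47685)) (tt N10844 (iv F40626)) (tt N12379 (iv F44382)) (tt N13534 F47599) (tt N9297 (iv F36438)) (tt N13563 D23810) (tt N5695 (iv D19457)))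
theorem Q9293 : ∀ i, i < 9293 → P i := stepQ 9292 Q9292 (allL N9292 (tt N5698 F36425) (tt N10841 (iv F40617)) (tt N5731 F36426) (tt N9295 (iv F36432)) (tt N5696 (iv D19458)) (tt N9287 F36427) (tt N13502 (iv F47504)))
theorem Q9294 : ∀ i, i < 9294 → P i := stepQ 9293 Q9293 (allL N9293 (tt N10817 (iv F40535)) (tt N5697 (iv D19459)) (tt N13513 (iv F47526)) (tt N5730 F36428) (tt N10820 (iv F40547)) (tt N13510 F47522) (tt N10693 (iv F40203)))
theorem Q9295 : ∀ i, i < 9295 → P i := stepQ 9294 Q9294 (allL N9294 (tt N5731 F36429) (tt N10820 (iv F40545)) (tt N5698 F36430) (tt N9337 (iv F36562)) (tt N5697 (iv D19460)) (tt N13526 (iv F47580)) (tt N9334 (iv F36558)))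
theorem Q9296 : ∀ i, i < 9296 → P i := stepQ 9295 Q9295 (allL N9295 (tt N9287 F36431) (tt N9317 F36491) (tt N13526 (iv F47578)) (tt N9292 F36432) (tt N5699 F36433) (tt N5698 (iv D19461)) (tt N10705 (iv F40229)))
theorem Q9297 : ∀ i, i < 9297 → P i := stepQ 9296 Q9296 (allL N9296 (tt N9316 (iv F36482)) (tt N5699 (iv D19462)) (tt N13564 D23811) (tt N5700 F36434) (tt N9317 (iv F36490)) (tt N13560 (iv F47680)) (tt N13565 D23812))
theorem Q9298 : ∀ i, i < 9298 → P i := stepQ 9297 Q9297 (allL N9297 (tt N10743 (iv F40328)) (tt N10704 (iv F40227)) (tt N9244 F36437) (tt N13565 (iv F47700)) (tt N9291 F36438) (tt N10741 (iv F40326)) (tt N5700 (iv D19464)))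
theorem Q9299 : ∀ i, i < 9299 → P i := stepQ 9298 Q9298 (allL N9298 (tt N6805 (iv F36506)) (tt N5702 F36441) (tt N13554 (iv F47657)) (tt N13566 D23813) (tt N5701 (iv D19467)) (tt N9324 (iv F36532)) (tt N6804 F36509))
theorem Q9300 : ∀ i, i < 9300 → P i := stepQ 9299 Q9299 (allL N9299 (tt N13555 (iv F47661)) (tt N13564 (iv F47692)) (tt N10658 (iv F40105)) (tt N6820 F36442) (tt N9324 (iv F36531)) (tt N5701 (iv D19468)) (tt N9320 (iv F36495)))
theorem Q9301 : ∀ i, i < 9301 → P i := stepQ 9300 Q9300 (allL N9300 (tt N6723 F36496) (tt N13567 D23814) (tt N6722 F36512) (tt N6821 F36443) (tt N6804 (iv F36510)) (tt N13568 D23815) (tt N5701 (iv D19469)))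
theorem Q9302 : ∀ i, i < 9302 → P i := stepQ 9301 Q9301 (allL N9301 (tt N5705 F36444) (tt N13566 (iv F47703)) (tt N13569 D23816) (tt N5702 (iv D19470)) (tt N6807 F36445) (tt N6802 (iv F36446)) (tt N10747 (iv F40343)))
theorem Q9303 : ∀ i, i < 9303 → P i := stepQ 9302 Q9302 (allL N9302 (tt N5706 F36447) (tt N13570 D23817) (tt N13515 (iv F47532)) (tt N6802 F36448) (tt N5703 F36449) (tt N5702 (iv D19471)) (tt N9309 (iv F36464)))
theorem Q9304 : ∀ i, i < 9304 → P i := stepQ 9303 Q9303 (allL N9303 (tt N5707 F36450) (tt N13571 D23818) (tt N13516 (iv F47535)) (tt N10747 (iv F40342)) (tt N5704 F36451) (tt N9308 (iv F36461)) (tt N5702 (iv D19472)))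
theorem Q9305 : ∀ i, i < 9305 → P i := stepQ 9304 Q9304 (allL N9304 (tt N13572 D23819) (tt N5703 (iv D19473)) (tt N13560 (iv F47678)) (tt N6797 F36452) (tt N13570 (iv F47726)) (tt N13564 (iv F47694)) (tt N13560 (iv F47681)))
theorem Q9306 : ∀ i, i < 9306 → P i := stepQ 9305 Q9305 (allL N9305 (tt N13573 D23820) (tt N5704 (iv D19474)) (tt N8165 F39862) (tt N6825 F36453) (tt N13571 (iv F47730)) (tt N13571 (iv F47731)) (tt N13567 (iv F47709)))
theorem Q9307 : ∀ i, i < 9307 → P i := stepQ 9306 Q9306 (allL N9306 (tt N13569 (iv F47721)) (tt N9325 (iv F36533)) (tt N5705 (iv D19475)) (tt N13574 D23821) (tt N6808 F36454) (tt N6803 F36455) (tt N13575 D23822))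
theorem Q9308 : ∀ i, i < 9308 → P i := stepQ 9307 Q9307 (allL N9307 (tt N10747 (iv F40341)) (tt N9326 (iv F36535)) (tt N13575 (iv F47742)) (tt N5707 F36456) (tt N6809 F36457) (tt N10746 (iv F40340)) (tt N5705 (iv D19476)))
theorem Q9309 : ∀ i, i < 9309 → P i := stepQ 9308 Q9308 (allL N9308 (tt N9309 (iv F36462)) (tt N5708 F36458) (tt N12574 (iv F44975)) (tt N6801 F36459) (tt N5708 F36460) (tt N9303 F36461) (tt N5706 (iv D19477)))
theorem Q9310 : ∀ i, i < 9310 → P i := stepQ 9309 Q9309 (allL N9309 (tt N9308 F36462) (tt N10753 (iv F40350)) (tt N13519 (iv F47548)) (tt N10746 (iv F40337)) (tt N5709 F36463) (tt N5707 (iv D19478)) (tt N9302 F36464))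
theorem Q9311 : ∀ i, i < 9311 → P i := stepQ 9310 Q9310 (allL N9310 (tt N5720 F36467) (tt N5709 (iv D19479)) (tt N12746 (iv F45502)) (tt N5721 F36465) (tt N10753 (iv F40352)) (tt N9333 (iv F36554)) (tt N9284 F36466))
theorem Q9312 : ∀ i, i < 9312 → P i := stepQ 9311 Q9311 (allL N9311 (tt N5711 F36468) (tt N10836 (iv F40598)) (tt N5711 F36469) (tt N5834 (iv F36471)) (tt N5710 (iv D19480)) (tt N9315 (iv F36481)) (tt N5710 (iv F36470)))
theorem Q9313 : ∀ i, i < 9313 → P i := stepQ 9312 Q9312 (allL N9312 (tt N5712 F36472) (tt N13576 D23823) (tt N5712 F36473) (tt N9473 (iv F36951)) (tt N9315 (iv F36480)) (tt N5710 (iv D19481)) (tt N9313 (iv F36476)))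
theorem Q9314 : ∀ i, i < 9314 → P i := stepQ 9313 Q9313 (allL N9313 (tt N9315 (iv F36478)) (tt N13577 D23824) (tt N9315 (iv F36479)) (tt N5836 F36474) (tt N5712 F36475) (tt N5711 (iv D19482)) (tt N9312 F36476))
theorem Q9315 : ∀ i, i < 9315 → P i := stepQ 9314 Q9314 (allL N9314 (tt N13578 D23825) (tt N5712 (iv D19483)) (tt N13579 D23826) (tt N10840 (iv F40615)) (tt N13577 (iv F47746)) (tt N5715 F36477) (tt N13579 F47759))
theorem Q9316 : ∀ i, i < 9316 → P i := stepQ 9315 Q9315 (allL N9315 (tt N9313 F36478) (tt N13580 D23827) (tt N9313 F36479) (tt N9470 (iv F36944)) (tt N9312 F36480) (tt N9311 F36481) (tt N5712 (iv D19484)))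
theorem Q9317 : ∀ i, i < 9317 → P i := stepQ 9316 Q9316 (allL N9316 (tt N9296 F36482) (tt N5713 (iv D19485)) (tt N13565 (iv F47699)) (tt N8487 F36483) (tt N5715 F36484) (tt N13577 (iv F47747)) (tt N13564 F47696))
theorem Q9318 : ∀ i, i < 9318 → P i := stepQ 9317 Q9317 (allL N9317 (tt N5715 (iv D19486)) (tt N9295 (iv F36491)) (tt N9319 (iv F40416)) (tt N10841 (iv F40618)) (tt N9296 F36490) (tt N13578 (iv F47752)) (tt N9318 F40415))
theorem Q9319 : ∀ i, i < 9319 → P i := stepQ 9318 Q9318 (allL N9318 (tt N9319 (iv F40414)) (tt N10769 F40413) (tt N5715 (iv D19487)) (tt N13581 D23828) (tt N13565 (iv F47701)) (tt N13579 (iv F47758)) (tt N9317 (iv F40415)))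
theorem Q9320 : ∀ i, i < 9320 → P i := stepQ 9319 Q9319 (allL N9319 (tt N9318 F40414) (tt N9324 (iv F36530)) (tt N9317 F40416) (tt N10843 (iv F40620)) (tt N13564 (iv F47693)) (tt N13570 (iv F47727)) (tt N5715 (iv D19488)))
theorem Q9321 : ∀ i, i < 9321 → P i := stepQ 9320 Q9320 (allL N9320 (tt N13568 (iv F47716)) (tt N5717 (iv D19489)) (tt N6724 F36492) (tt N10734 (iv F40303)) (tt N5719 F36493) (tt N6723 F36494) (tt N9299 F36495))
theorem Q9322 : ∀ i, i < 9322 → P i := stepQ 9321 Q9321 (allL N9321 (tt N10765 (iv F40396)) (tt N5718 (iv D19490)) (tt N10597 (iv F39919)) (tt N10779 (iv F40438)) (tt N6830 F36513) (tt N6815 F36514) (tt N10764 (iv F40395)))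
theorem Q9323 : ∀ i, i < 9323 → P i := stepQ 9322 Q9322 (allL N9322 (tt N5719 (iv D19491)) (tt N13534 (iv F47598)) (tt N5734 F36520) (tt N10844 (iv F40622)) (tt N13568 (iv F47719)) (tt N6804 F36515) (tt N10752 (iv F40349)))
theorem Q9324 : ∀ i, i < 9324 → P i := stepQ 9323 Q9323 (allL N9323 (tt N5734 (iv F36518)) (tt N6744 F36519) (tt N5719 (iv D19492)) (tt N6744 F36521) (tt N6724 F36516) (tt N6718 F36517) (tt N13582 D23829))
theorem Q9325 : ∀ i, i < 9325 → P i := stepQ 9324 Q9324 (allL N9324 (tt N10752 (iv F40345)) (tt N9319 F36530) (tt N13582 (iv F47770)) (tt N10846 (iv F40636)) (tt N9299 F36531) (tt N9298 F36532) (tt N5719 (iv D19493)))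
theorem Q9326 : ∀ i, i < 9326 → P i := stepQ 9325 Q9325 (allL N9325 (tt N12746 (iv F45501)) (tt N9306 F36533) (tt N5720 (iv D19494)) (tt N12745 (iv F45500)) (tt N10754 (iv F40355)) (tt N10577 F39865) (tt N13583 D23830))
theorem Q9327 : ∀ i, i < 9327 → P i := stepQ 9326 Q9326 (allL N9326 (tt N9284 F36534) (tt N9307 F36535) (tt N13583 (iv F47775)) (tt N5722 F36536) (tt N10755 (iv F40358)) (tt N9280 (iv F36537)) (tt N5720 (iv D19495)))
theorem Q9328 : ∀ i, i < 9328 → P i := stepQ 9327 Q9327 (allL N9327 (tt N10650 (iv F40085)) (tt N5724 (iv D19496)) (tt N10435 F39788) (tt N10680 (iv F40169)) (tt N9286 F36538) (tt N10695 (iv F40212)) (tt N10669 (iv F40131)))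
theorem Q9329 : ∀ i, i < 9329 → P i := stepQ 9328 Q9328 (allL N9328 (tt N5726 F36539) (tt N10680 (iv F40167)) (tt N12740 (iv F45487)) (tt N5724 (iv D19497)) (tt N10695 (iv F40211)) (tt N9286 F36540) (tt N9278 F36541))
theorem Q9330 : ∀ i, i < 9330 → P i := stepQ 9329 Q9329 (allL N9329 (tt N12740 (iv F45485)) (tt N13537 F47604) (tt N5726 (iv D19498)) (tt N12739 (iv F45483)) (tt N13584 D23831) (tt N10627 F40022) (tt N13541 (iv F47617)))
theorem Q9331 : ∀ i, i < 9331 → P i := stepQ 9330 Q9330 (allL N9330 (tt N10695 (iv F40214)) (tt N5731 F36542) (tt N13584 (iv F47778)) (tt N10681 (iv F40174)) (tt N5726 (iv D19499)) (tt N10650 (iv F40088)) (tt N13585 D23832))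
theorem Q9332 : ∀ i, i < 9332 → P i := stepQ 9331 Q9331 (allL N9331 (tt N9278 F36543) (tt N13586 D23833) (tt N13541 (iv F47619)) (tt N5727 F36544) (tt N13585 (iv F47782)) (tt N9276 F36545) (tt N5726 (iv D19500)))
theorem Q9333 : ∀ i, i < 9333 → P i := stepQ 9332 Q9332 (allL N9332 (tt N9467 F36935) (tt N5727 (iv D19501)) (tt N9208 F36546) (tt N13586 (iv F47785)) (tt N9281 F36547) (tt N6725 F36548) (tt N5733 F36549))
theorem Q9334 : ∀ i, i < 9334 → P i := stepQ 9333 Q9333 (allL N9333 (tt N9275 F36550) (tt N5728 (iv D19502)) (tt N8470 F36551) (tt N9274 F36552) (tt N9279 F36553) (tt N9310 F36554) (tt N9280 F36555))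
theorem Q9335 : ∀ i, i < 9335 → P i := stepQ 9334 Q9334 (allL N9334 (tt N9337 (iv F36561)) (tt N10681 F40177) (tt N9204 F36556) (tt N5731 F36557) (tt N5729 (iv D19503)) (tt N10818 (iv F40541)) (tt N9294 F36558))
theorem Q9336 : ∀ i, i < 9336 → P i := stepQ 9335 Q9335 (allL N9335 (tt N5730 (iv D19504)) (tt N6712 (iv F36560)) (tt N12331 (iv F44209)) (tt N10817 (iv F40536)) (tt N8479 F36559) (tt N13587 D23834) (tt N13557 (iv F47671)))
theorem Q9337 : ∀ i, i < 9337 → P i := stepQ 9336 Q9336 (allL N9336 (tt N13587 (iv F47792)) (tt N10823 F40554) (tt N12332 (iv F44213)) (tt N13510 (iv F47523)) (tt N9339 (iv F36569)) (tt N5730 (iv D19505)) (tt N13588 D23835))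
theorem Q9338 : ∀ i, i < 9338 → P i := stepQ 9337 Q9337 (allL N9337 (tt N9334 F36561) (tt N9264 F36567) (tt N13502 (iv F47501)) (tt N9294 F36562) (tt N5732 F36563) (tt N10787 (iv F40463)) (tt N5731 (iv D19506)))
theorem Q9339 : ∀ i, i < 9339 → P i := stepQ 9338 Q9338 (allL N9338 (tt N9263 F36564) (tt N5732 (iv D19507)) (tt N13551 (iv F47642)) (tt N5733 F36565) (tt N9264 (iv F36566)) (tt N13550 F47639) (tt N13586 (iv F47788)))
theorem Q9340 : ∀ i, i < 9340 → P i := stepQ 9339 Q9339 (allL N9339 (tt N10661 (iv F40111)) (tt N10786 (iv F40457)) (tt N9207 F36568) (tt N13550 (iv F47638)) (tt N9336 F36569) (tt N5733 (iv D19508)) (tt N10659 F40109))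
theorem Q9341 : ∀ i, i < 9341 → P i := stepQ 9340 Q9340 (allL N9340 (tt N6724 F36570) (tt N5735 F36571) (tt N13568 (iv F47717)) (tt N13589 D23836) (tt N5734 (iv D19509)) (tt N6722 (iv F36572)) (tt N9272 (iv F36573)))
theorem Q9342 : ∀ i, i < 9342 → P i := stepQ 9341 Q9341 (allL N9341 (tt N6718 F36574) (tt N13590 D23837) (tt N6804 F36575) (tt N6746 F36576) (tt N6722 F36577) (tt N5734 (iv D19510)) (tt N13554 (iv F47660)))
theorem Q9343 : ∀ i, i < 9343 → P i := stepQ 9342 Q9342 (allL N9342 (tt N13582 (iv F47768)) (tt N13551 (iv F47641)) (tt N10752 (iv F40347)) (tt N6747 F36578) (tt N9272 F36579) (tt N9268 F36580) (tt N5734 (iv D19511)))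
theorem Q9344 : ∀ i, i < 9344 → P i := stepQ 9343 Q9343 (allL N9343 (tt N5738 F36581) (tt N13589 (iv F47800)) (tt N13591 D23838) (tt N5735 (iv D19512)) (tt N6733 F36582) (tt N10665 (iv F40126)) (tt N6730 (iv F36583)))
theorem Q9345 : ∀ i, i < 9345 → P i := stepQ 9344 Q9344 (allL N9344 (tt N5739 F36584) (tt N13592 D23839) (tt N13539 (iv F47609)) (tt N10665 (iv F40125)) (tt N5736 F36585) (tt N5735 (iv D19513)) (tt N9351 (iv F36604)))
theorem Q9346 : ∀ i, i < 9346 → P i := stepQ 9345 Q9345 (allL N9345 (tt N5740 F36586) (tt N13553 (iv F47651)) (tt N13540 (iv F47614)) (tt N6730 F36587) (tt N5737 F36588) (tt N9350 (iv F36599)) (tt N5735 (iv D19514)))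
theorem Q9347 : ∀ i, i < 9347 → P i := stepQ 9346 Q9346 (allL N9346 (tt N13593 D23840) (tt N5736 (iv D19515)) (tt N8195 F36589) (tt N6751 F36590) (tt N13592 (iv F47815)) (tt N13590 (iv F47807)) (tt N13592 (iv F47817)))
theorem Q9348 : ∀ i, i < 9348 → P i := stepQ 9347 Q9347 (allL N9347 (tt N13594 D23841) (tt N5737 (iv D19516)) (tt N13586 (iv F47784)) (tt N6725 F36591) (tt N13553 (iv F47654)) (tt N13586 (iv F47787)) (tt N13551 F47645))
theorem Q9349 : ∀ i, i < 9349 → P i := stepQ 9348 Q9348 (allL N9348 (tt N13591 (iv F47809)) (tt N9277 F36592) (tt N5738 (iv D19517)) (tt N13595 D23842) (tt N6734 F36593) (tt N13596 D23843) (tt N6731 F36594))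
theorem Q9350 : ∀ i, i < 9350 → P i := stepQ 9349 Q9349 (allL N9349 (tt N10665 (iv F40124)) (tt N9278 F36595) (tt N13596 (iv F47830)) (tt N5739 F36596) (tt N6735 F36597) (tt N5738 (iv D19518)) (tt N10664 F40123))
theorem Q9351 : ∀ i, i < 9351 → P i := stepQ 9350 Q9350 (allL N9350 (tt N9351 (iv F36600)) (tt N10669 (iv F40128)) (tt N13543 (iv F47625)) (tt N10664 (iv F40120)) (tt N5741 F36598) (tt N9345 F36599) (tt N5739 (iv D19519)))
theorem Q9352 : ∀ i, i < 9352 → P i := stepQ 9351 Q9351 (allL N9351 (tt N9350 F36600) (tt N5742 F36601) (tt N12580 (iv F44998)) (tt N6729 F36602) (tt N5742 F36603) (tt N5740 (iv D19520)) (tt N9344 F36604))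
theorem Q9353 : ∀ i, i < 9353 → P i := stepQ 9352 Q9352 (allL N9352 (tt N10859 (iv F40679)) (tt N5743 (iv D19521)) (tt N8953 (iv F36608)) (tt N6417 F36605) (tt N5749 F36606) (tt N6486 F36607) (tt N10860 (iv F40682)))
theorem Q9354 : ∀ i, i < 9354 → P i := stepQ 9353 Q9353 (allL N9353 (tt N10864 F40699) (tt N5744 (iv D19522)) (tt N9020 (iv F36612)) (tt N6448 F36609) (tt N5750 F36610) (tt N10865 (iv F40703)) (tt N6519 F36611))
theorem Q9355 : ∀ i, i < 9355 → P i := stepQ 9354 Q9354 (allL N9354 (tt N13597 D23844) (tt N5745 (iv D19523)) (tt N13598 D23845) (tt N8203 F36613) (tt N5756 F36614) (tt N13599 D23846) (tt N9354 F36615))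
theorem Q9356 : ∀ i, i < 9356 → P i := stepQ 9355 Q9355 (allL N9355 (tt N13600 D23847) (tt N5746 (iv D19524)) (tt N13601 D23848) (tt N8204 F36616) (tt N5757 F36617) (tt N9355 F36618) (tt N13602 D23849))
theorem Q9357 : ∀ i, i < 9357 → P i := stepQ 9356 Q9356 (allL N9356 (tt N9415 (iv F36795)) (tt N6613 (iv F36621)) (tt N9411 (iv F36783)) (tt N5752 F36619) (tt N6611 F36620) (tt N5751 (iv D19525)) (tt N13603 D23850))
theorem Q9358 : ∀ i, i < 9358 → P i := stepQ 9357 Q9357 (allL N9357 (tt N9416 (iv F36800)) (tt N6661 (iv F36624)) (tt N9412 (iv F36787)) (tt N5753 F36622) (tt N6659 F36623) (tt N13604 D23851) (tt N5751 (iv D19526)))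
theorem Q9359 : ∀ i, i < 9359 → P i := stepQ 9358 Q9358 (allL N9358 (tt N9359 (iv F36628)) (tt N10811 (iv F40518)) (tt N5754 F36625) (tt N13603 (iv F47855)) (tt N8205 F36626) (tt N8438 F36627) (tt N5752 (iv D19527)))
theorem Q9360 : ∀ i, i < 9360 → P i := stepQ 9359 Q9359 (allL N9359 (tt N9358 F36628) (tt N10832 (iv F40583)) (tt N5755 F36629) (tt N13604 (iv F47861)) (tt N8206 F36630) (tt N5753 (iv D19528)) (tt N8437 F36631))
theorem Q9361 : ∀ i, i < 9361 → P i := stepQ 9360 Q9360 (allL N9360 (tt N7672 (iv F36635)) (tt N5754 (iv D19529)) (tt N13605 D23852) (tt N5756 F36632) (tt N7674 F36633) (tt N12098 (iv F43610)) (tt N9360 F36634))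
theorem Q9362 : ∀ i, i < 9362 → P i := stepQ 9361 Q9361 (allL N9361 (tt N7836 F36636) (tt N5755 (iv D19530)) (tt N13606 D23853) (tt N5757 F36637) (tt N7838 F36638) (tt N9361 F36639) (tt N11889 (iv F43061)))
theorem Q9363 : ∀ i, i < 9363 → P i := stepQ 9362 Q9362 (allL N9362 (tt N5756 (iv D19531)) (tt N7671 (iv F36642)) (tt N13607 D23854) (tt N7672 F36640) (tt N13597 (iv F47834)) (tt N13608 D23855) (tt N9362 F36641))
theorem Q9364 : ∀ i, i < 9364 → P i := stepQ 9363 Q9363 (allL N9363 (tt N13607 (iv F47874)) (tt N5816 F36643) (tt N5756 (iv D19532)) (tt N13609 D23856) (tt N13598 (iv F47838)) (tt N13610 D23857) (tt N9363 F36644))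
theorem Q9365 : ∀ i, i < 9365 → P i := stepQ 9364 Q9364 (allL N9364 (tt N13608 (iv F47876)) (tt N7477 F36645) (tt N13610 (iv F47882)) (tt N12098 (iv F43608)) (tt N13599 (iv F47842)) (tt N5756 (iv D19533)) (tt N13608 (iv F47878)))
theorem Q9366 : ∀ i, i < 9366 → P i := stepQ 9365 Q9365 (allL N9365 (tt N5757 (iv D19534)) (tt N7835 F36646) (tt N13611 D23858) (tt N7836 F36647) (tt N13600 (iv F47845)) (tt N9365 F36648) (tt N13612 D23859))
theorem Q9367 : ∀ i, i < 9367 → P i := stepQ 9366 Q9366 (allL N9366 (tt N13611 (iv F47883)) (tt N5820 F36649) (tt N5757 (iv D19535)) (tt N13613 D23860) (tt N13601 (iv F47848)) (tt N9366 F36650) (tt N13614 D23861))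
theorem Q9368 : ∀ i, i < 9368 → P i := stepQ 9367 Q9367 (allL N9367 (tt N13612 (iv F47885)) (tt N7472 F36651) (tt N13614 (iv F47892)) (tt N11889 (iv F43059)) (tt N13602 (iv F47852)) (tt N13612 (iv F47888)) (tt N5757 (iv D19536)))
theorem Q9369 : ∀ i, i < 9369 → P i := stepQ 9368 Q9368 (allL N9368 (tt N9086 F36655) (tt N5758 (iv D19537)) (tt N13615 D23862) (tt N5760 F36652) (tt N5788 F36653) (tt N5760 F36654) (tt N13399 (iv F47204)))
theorem Q9370 : ∀ i, i < 9370 → P i := stepQ 9369 Q9369 (allL N9369 (tt N9140 (iv F36659)) (tt N5759 (iv D19538)) (tt N13616 D23863) (tt N5761 F36656) (tt N5789 F36657) (tt N13451 (iv F47341)) (tt N5761 F36658))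
theorem Q9371 : ∀ i, i < 9371 → P i := stepQ 9370 Q9370 (allL N9370 (tt N8963 F36660) (tt N8953 F36661) (tt N5760 (iv D19539)) (tt N13617 D23864) (tt N5794 F36662) (tt N13615 (iv F47896)) (tt N13618 D23865))
theorem Q9372 : ∀ i, i < 9372 → P i := stepQ 9371 Q9371 (allL N9371 (tt N9087 F36663) (tt N9387 (iv F36696)) (tt N13618 (iv F47905)) (tt N13399 (iv F47202)) (tt N5795 F36664) (tt N13397 (iv F47194)) (tt N5760 (iv D19540)))
theorem Q9373 : ∀ i, i < 9373 → P i := stepQ 9372 Q9372 (allL N9372 (tt N9029 F36665) (tt N9020 F36666) (tt N5761 (iv D19541)) (tt N13619 D23866) (tt N5796 F36667) (tt N13620 D23867) (tt N13616 (iv F47900)))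
theorem Q9374 : ∀ i, i < 9374 → P i := stepQ 9373 Q9373 (allL N9373 (tt N9141 F36668) (tt N9383 (iv F36690)) (tt N13620 (iv F47912)) (tt N13451 (iv F47339)) (tt N5797 F36669) (tt N5761 (iv D19542)) (tt N13449 (iv F47331)))
theorem Q9375 : ∀ i, i < 9375 → P i := stepQ 9374 Q9374 (allL N9374 (tt N5762 (iv D19543)) (tt N9553 (iv F37164)) (tt N6963 F36670) (tt N5766 F36671) (tt N6393 F36672) (tt N5774 F36673) (tt N9394 (iv F36731)))
theorem Q9376 : ∀ i, i < 9376 → P i := stepQ 9375 Q9375 (allL N9375 (tt N9394 (iv F36727)) (tt N13621 D23868) (tt N9969 (iv F38130)) (tt N5767 F36674) (tt N6394 F36675) (tt N9391 (iv F36718)) (tt N5762 (iv D19544)))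
theorem Q9377 : ∀ i, i < 9377 → P i := stepQ 9376 Q9376 (allL N9376 (tt N13622 D23869) (tt N5763 (iv D19545)) (tt N13623 D23870) (tt N5768 F36676) (tt N6395 F36677) (tt N13624 D23871) (tt N13621 (iv F47918)))
theorem Q9378 : ∀ i, i < 9378 → P i := stepQ 9377 Q9377 (allL N9377 (tt N5764 (iv D19546)) (tt N9591 (iv F37250)) (tt N6975 F36678) (tt N5769 F36679) (tt N6396 F36680) (tt N9399 (iv F36753)) (tt N5777 F36681))
theorem Q9379 : ∀ i, i < 9379 → P i := stepQ 9378 Q9378 (allL N9378 (tt N9399 (iv F36749)) (tt N13625 D23872) (tt N9971 (iv F38137)) (tt N5770 F36682) (tt N6397 F36683) (tt N5764 (iv D19547)) (tt N9396 (iv F36740)))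
theorem Q9380 : ∀ i, i < 9380 → P i := stepQ 9379 Q9379 (allL N9379 (tt N13626 D23873) (tt N5765 (iv D19548)) (tt N13627 D23874) (tt N5771 F36684) (tt N6398 F36685) (tt N13625 (iv F47930)) (tt N13628 D23875))
theorem Q9381 : ∀ i, i < 9381 → P i := stepQ 9380 Q9380 (allL N9380 (tt N13629 D23876) (tt N5767 (iv D19549)) (tt N13630 D23877) (tt N13621 (iv F47916)) (tt N5814 F36686) (tt N13631 D23878) (tt N5768 F36687))
theorem Q9382 : ∀ i, i < 9382 → P i := stepQ 9381 Q9381 (allL N9381 (tt N5768 (iv D19550)) (tt N13632 D23879) (tt N13633 D23880) (tt N13622 (iv F47919)) (tt N5815 F36688) (tt N13634 D23881) (tt N13629 (iv F47942)))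
theorem Q9383 : ∀ i, i < 9383 → P i := stepQ 9382 Q9382 (allL N9382 (tt N13633 (iv F47951)) (tt N13598 (iv F47837)) (tt N5768 (iv D19551)) (tt N13635 D23882) (tt N5816 F36689) (tt N13636 D23883) (tt N13630 (iv F47945)))
theorem Q9384 : ∀ i, i < 9384 → P i := stepQ 9383 Q9383 (allL N9383 (tt N13634 (iv F47953)) (tt N9373 F36690) (tt N13636 (iv F47957)) (tt N13624 (iv F47925)) (tt N5817 F36691) (tt N5768 (iv D19552)) (tt N13637 D23884))
theorem Q9385 : ∀ i, i < 9385 → P i := stepQ 9384 Q9384 (allL N9384 (tt N13638 D23885) (tt N5770 (iv D19553)) (tt N13639 D23886) (tt N13625 (iv F47928)) (tt N5818 F36692) (tt N5771 F36693) (tt N13640 D23887))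
theorem Q9386 : ∀ i, i < 9386 → P i := stepQ 9385 Q9385 (allL N9385 (tt N5771 (iv D19554)) (tt N13641 D23888) (tt N13642 D23889) (tt N13626 (iv F47931)) (tt N5819 F36694) (tt N13638 (iv F47965)) (tt N13643 D23890))
theorem Q9387 : ∀ i, i < 9387 → P i := stepQ 9386 Q9386 (allL N9386 (tt N13642 (iv F47974)) (tt N13601 (iv F47847)) (tt N5771 (iv D19555)) (tt N13644 D23891) (tt N5820 F36695) (tt N13639 (iv F47968)) (tt N13645 D23892))
theorem Q9388 : ∀ i, i < 9388 → P i := stepQ 9387 Q9387 (allL N9387 (tt N13643 (iv F47976)) (tt N9371 F36696) (tt N13645 (iv F47982)) (tt N13628 (iv F47937)) (tt N5821 F36697) (tt N13646 D23893) (tt N5771 (iv D19556)))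
theorem Q9389 : ∀ i, i < 9389 → P i := stepQ 9388 Q9388 (allL N9388 (tt N7498 F36698) (tt N6503 F36699) (tt N6502 F36700) (tt N5824 F36701) (tt N5776 F36702) (tt N7781 F36703) (tt N5772 (iv D19557)))
theorem Q9390 : ∀ i, i < 9390 → P i := stepQ 9389 Q9389 (allL N9389 (tt N7512 F36704) (tt N6468 F36705) (tt N6467 F36706) (tt N5827 F36707) (tt N5779 F36708) (tt N5773 (iv D19558)) (tt N7616 F36709))
theorem Q9391 : ∀ i, i < 9391 → P i := stepQ 9390 Q9390 (allL N9390 (tt N9400 (iv F36754)) (tt N5774 (iv D19559)) (tt N6965 F36710) (tt N5780 F36711) (tt N7497 F36712) (tt N7375 (iv F36713)) (tt N13647 D23894))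
theorem Q9392 : ∀ i, i < 9392 → P i := stepQ 9391 Q9391 (allL N9391 (tt N5776 F36714) (tt N13648 D23895) (tt N6964 F36715) (tt N5781 F36716) (tt N7498 F36717) (tt N9375 F36718) (tt N5774 (iv D19560)))
theorem Q9393 : ∀ i, i < 9393 → P i := stepQ 9392 Q9392 (allL N9392 (tt N6951 F36719) (tt N5874 F36720) (tt N6951 F36721) (tt N5775 (iv D19561)) (tt N10922 (iv F40855)) (tt N9957 (iv F38098)) (tt N12553 (iv F44913)))
theorem Q9394 : ∀ i, i < 9394 → P i := stepQ 9393 Q9393 (allL N9393 (tt N6964 F36722) (tt N6302 F36723) (tt N5776 F36724) (tt N12553 (iv F44910)) (tt N6502 F36725) (tt N7269 F36726) (tt N5775 (iv D19562)))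
theorem Q9395 : ∀ i, i < 9395 → P i := stepQ 9394 Q9394 (allL N9394 (tt N9375 F36727) (tt N9601 F37282) (tt N7269 F36728) (tt N5782 F36729) (tt N7781 F36730) (tt N5776 (iv D19563)) (tt N9374 F36731))
theorem Q9396 : ∀ i, i < 9396 → P i := stepQ 9395 Q9395 (allL N9395 (tt N9405 (iv F36762)) (tt N5777 (iv D19564)) (tt N6976 F36732) (tt N5783 F36733) (tt N7511 F36734) (tt N13649 D23896) (tt N7406 (iv F36735)))
theorem Q9397 : ∀ i, i < 9397 → P i := stepQ 9396 Q9396 (allL N9396 (tt N5779 F36736) (tt N13650 D23897) (tt N6974 F36737) (tt N5784 F36738) (tt N7512 F36739) (tt N5777 (iv D19565)) (tt N9378 F36740))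
theorem Q9398 : ∀ i, i < 9398 → P i := stepQ 9397 Q9397 (allL N9397 (tt N6957 F36741) (tt N5883 F36742) (tt N6957 F36743) (tt N5778 (iv D19566)) (tt N10933 (iv F40878)) (tt N12550 (iv F44902)) (tt N9963 (iv F38114)))
theorem Q9399 : ∀ i, i < 9399 → P i := stepQ 9398 Q9398 (allL N9398 (tt N6974 F36744) (tt N6276 F36745) (tt N5779 F36746) (tt N12550 (iv F44900)) (tt N6467 F36747) (tt N5778 (iv D19567)) (tt N7168 F36748))
theorem Q9400 : ∀ i, i < 9400 → P i := stepQ 9399 Q9399 (allL N9399 (tt N9378 F36749) (tt N9563 F37196) (tt N7168 F36750) (tt N5785 F36751) (tt N7616 F36752) (tt N9377 F36753) (tt N5779 (iv D19568)))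
theorem Q9401 : ∀ i, i < 9401 → P i := stepQ 9400 Q9400 (allL N9400 (tt N9390 F36754) (tt N9527 (iv F37078)) (tt N8309 F36755) (tt N7375 F36756) (tt N5838 F36757) (tt N5780 (iv D19569)) (tt N13651 D23898))
theorem Q9402 : ∀ i, i < 9402 → P i := stepQ 9401 Q9401 (allL N9401 (tt N11567 (iv F42258)) (tt N13652 D23899) (tt N11566 (iv F42255)) (tt N13647 (iv F47988)) (tt N5839 F36758) (tt N13647 (iv F47990)) (tt N5780 (iv D19570)))
theorem Q9403 : ∀ i, i < 9403 → P i := stepQ 9402 Q9402 (allL N9402 (tt N13650 (iv F47998)) (tt N5781 (iv D19571)) (tt N13653 D23900) (tt N13648 (iv F47992)) (tt N5840 F36759) (tt N13654 D23901) (tt N13652 (iv F48008)))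
theorem Q9404 : ∀ i, i < 9404 → P i := stepQ 9403 Q9403 (allL N9403 (tt N9542 F37130) (tt N5782 (iv D19572)) (tt N13655 D23902) (tt N9601 (iv F37280)) (tt N5841 F36760) (tt N9628 (iv F37337)) (tt N13656 D23903))
theorem Q9405 : ∀ i, i < 9405 → P i := stepQ 9404 Q9404 (allL N9404 (tt N11619 (iv F42377)) (tt N13657 D23904) (tt N11618 (iv F42374)) (tt N13649 (iv F47995)) (tt N5842 F36761) (tt N5783 (iv D19573)) (tt N13649 (iv F47997)))
theorem Q9406 : ∀ i, i < 9406 → P i := stepQ 9405 Q9405 (allL N9405 (tt N9395 F36762) (tt N9540 (iv F37120)) (tt N8315 F36763) (tt N7406 F36764) (tt N5843 F36765) (tt N13658 D23905) (tt N5783 (iv D19574)))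
theorem Q9407 : ∀ i, i < 9407 → P i := stepQ 9406 Q9406 (allL N9406 (tt N13648 (iv F47991)) (tt N5784 (iv D19575)) (tt N13659 D23906) (tt N13650 (iv F47999)) (tt N5844 F36766) (tt N13657 (iv F48020)) (tt N13660 D23907))
theorem Q9408 : ∀ i, i < 9408 → P i := stepQ 9407 Q9407 (allL N9407 (tt N9529 F37088) (tt N5785 (iv D19576)) (tt N13661 D23908) (tt N9563 (iv F37194)) (tt N5845 F36767) (tt N13662 D23909) (tt N9590 (iv F37248)))
theorem Q9409 : ∀ i, i < 9409 → P i := stepQ 9408 Q9408 (allL N9408 (tt N5963 F36768) (tt N6389 F36769) (tt N5788 (iv D19577)) (tt N8951 F36771) (tt N13615 (iv F47895)) (tt N5794 F36770) (tt N13292 (iv F46910)))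
theorem Q9410 : ∀ i, i < 9410 → P i := stepQ 9409 Q9409 (allL N9409 (tt N5978 F36772) (tt N6391 F36773) (tt N5789 (iv D19578)) (tt N9019 F36775) (tt N13616 (iv F47899)) (tt N13352 (iv F47084)) (tt N5796 F36774))
theorem Q9411 : ∀ i, i < 9411 → P i := stepQ 9410 Q9410 (allL N9410 (tt N9410 F36776) (tt N5791 F36777) (tt N9410 F36780) (tt N5790 (iv D19579)) (tt N11688 (iv F42516)) (tt N9410 F36778) (tt N9410 F36779))
theorem Q9412 : ∀ i, i < 9412 → P i := stepQ 9411 Q9411 (allL N9411 (tt N5800 F36781) (tt N9411 F36782) (tt N9356 F36783) (tt N5792 F36784) (tt N10537 (iv F39407)) (tt N5791 (iv D19580)) (tt N9420 (iv F36817)))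
theorem Q9413 : ∀ i, i < 9413 → P i := stepQ 9412 Q9412 (allL N9412 (tt N5801 F36785) (tt N9412 F36786) (tt N9357 F36787) (tt N5793 F36788) (tt N10592 (iv F39904)) (tt N9419 (iv F36814)) (tt N5791 (iv D19581)))
theorem Q9414 : ∀ i, i < 9414 → P i := stepQ 9413 Q9413 (allL N9413 (tt N8964 F36789) (tt N7775 (iv F39299)) (tt N5795 F36790) (tt N8952 F36791) (tt N13618 (iv F47906)) (tt N9670 (iv F37471)) (tt N5794 (iv D19582)))
theorem Q9415 : ∀ i, i < 9415 → P i := stepQ 9414 Q9414 (allL N9414 (tt N9030 F36792) (tt N7929 (iv F39397)) (tt N5797 F36793) (tt N9018 F36794) (tt N13620 (iv F47913)) (tt N5796 (iv D19583)) (tt N9692 (iv F37504)))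
theorem Q9416 : ∀ i, i < 9416 → P i := stepQ 9415 Q9415 (allL N9415 (tt N9356 F36795) (tt N7640 F36796) (tt N5800 F36797) (tt N8437 F36798) (tt N8439 F36799) (tt N5798 (iv D19584)) (tt N13604 (iv F47863)))
theorem Q9417 : ∀ i, i < 9417 → P i := stepQ 9416 Q9416 (allL N9416 (tt N9357 F36800) (tt N7806 F36801) (tt N5801 F36802) (tt N8438 F36803) (tt N8440 F36804) (tt N13603 (iv F47857)) (tt N5798 (iv D19585)))
theorem Q9418 : ∀ i, i < 9418 → P i := stepQ 9417 Q9417 (allL N9417 (tt N10537 (iv F39404)) (tt N7638 (iv F36808)) (tt N8439 F36805) (tt N7637 F36806) (tt N5800 F36807) (tt N5799 (iv D19586)) (tt N13663 D23910))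
theorem Q9419 : ∀ i, i < 9419 → P i := stepQ 9418 Q9418 (allL N9418 (tt N10592 (iv F39901)) (tt N7803 (iv F36812)) (tt N8440 F36809) (tt N7802 F36810) (tt N5801 F36811) (tt N13664 D23911) (tt N5799 (iv D19587)))
theorem Q9420 : ∀ i, i < 9420 → P i := stepQ 9419 Q9419 (allL N9419 (tt N9420 (iv F36815)) (tt N13665 D23912) (tt N13604 (iv F47860)) (tt N5804 F36813) (tt N13663 (iv F48039)) (tt N9412 F36814) (tt N5800 (iv D19588)))
theorem Q9421 : ∀ i, i < 9421 → P i := stepQ 9420 Q9420 (allL N9420 (tt N9419 F36815) (tt N13666 D23913) (tt N13603 (iv F47854)) (tt N5805 F36816) (tt N13664 (iv F48045)) (tt N5801 (iv D19589)) (tt N9411 F36817))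
theorem Q9422 : ∀ i, i < 9422 → P i := stepQ 9421 Q9421 (allL N9421 (tt N9422 (iv F36822)) (tt N13667 D23914) (tt N5807 F36818) (tt N7460 F36819) (tt N5804 F36820) (tt N7455 F36821) (tt N5802 (iv D19590)))
theorem Q9423 : ∀ i, i < 9423 → P i := stepQ 9422 Q9422 (allL N9422 (tt N9421 F36822) (tt N13668 D23915) (tt N5809 F36823) (tt N7459 F36824) (tt N5805 F36825) (tt N5803 (iv D19591)) (tt N7454 F36826))
theorem Q9424 : ∀ i, i < 9424 → P i := stepQ 9423 Q9423 (allL N9423 (tt N10835 (iv F50892)) (tt N5804 (iv D19592)) (tt N13669 D23917) (tt N13665 (iv F48049)) (tt N13667 (iv F48057)) (tt N9423 F36827) (tt N10809 (iv F40514)))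
theorem Q9425 : ∀ i, i < 9425 → P i := stepQ 9424 Q9424 (allL N9424 (tt N10814 (iv F50893)) (tt N5805 (iv D19593)) (tt N13670 D23919) (tt N13666 (iv F48053)) (tt N13668 (iv F48060)) (tt N10830 (iv F40579)) (tt N9424 F36828))
theorem Q9426 : ∀ i, i < 9426 → P i := stepQ 9425 Q9425 (allL N9425 (tt N9459 (iv F36907)) (tt N13671 D23920) (tt N10816 (iv F40532)) (tt N6394 F36829) (tt N5810 F36830) (tt N9457 (iv F36904)) (tt N5806 (iv D19594)))
theorem Q9427 : ∀ i, i < 9427 → P i := stepQ 9426 Q9426 (allL N9426 (tt N13672 D23921) (tt N5807 (iv D19595)) (tt N13673 D23922) (tt N6395 F36831) (tt N5811 F36832) (tt N13521 (iv F47554)) (tt N13671 (iv F48072)))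
theorem Q9428 : ∀ i, i < 9428 → P i := stepQ 9427 Q9427 (allL N9427 (tt N9464 (iv F36925)) (tt N13674 D23923) (tt N10837 (iv F40603)) (tt N6397 F36833) (tt N5812 F36834) (tt N5808 (iv D19596)) (tt N9462 (iv F36922)))
theorem Q9429 : ∀ i, i < 9429 → P i := stepQ 9428 Q9428 (allL N9428 (tt N13675 D23924) (tt N5809 (iv D19597)) (tt N13676 D23925) (tt N6398 F36835) (tt N5813 F36836) (tt N13674 (iv F48083)) (tt N13491 (iv F47450)))
theorem Q9430 : ∀ i, i < 9430 → P i := stepQ 9429 Q9429 (allL N9429 (tt N13677 D23926) (tt N5810 (iv D19598)) (tt N13678 D23927) (tt N5814 F36837) (tt N13671 (iv F48070)) (tt N13679 D23928) (tt N5811 F36838))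
theorem Q9431 : ∀ i, i < 9431 → P i := stepQ 9430 Q9430 (allL N9430 (tt N5811 (iv D19599)) (tt N13680 D23929) (tt N13681 D23930) (tt N5815 F36839) (tt N13672 (iv F48075)) (tt N13682 D23931) (tt N13677 (iv F48095)))
theorem Q9432 : ∀ i, i < 9432 → P i := stepQ 9431 Q9431 (allL N9431 (tt N13681 (iv F48109)) (tt N13669 (iv F48063)) (tt N5811 (iv D19600)) (tt N13683 D23932) (tt N13673 (iv F48078)) (tt N13684 D23933) (tt N13678 (iv F48097)))
theorem Q9433 : ∀ i, i < 9433 → P i := stepQ 9432 Q9432 (allL N9432 (tt N13682 (iv F48110)) (tt N9223 F36840) (tt N13684 (iv F48117)) (tt N5817 F36841) (tt N13521 (iv F47553)) (tt N5811 (iv D19601)) (tt N13685 D23934))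
theorem Q9434 : ∀ i, i < 9434 → P i := stepQ 9433 Q9433 (allL N9433 (tt N13686 D23935) (tt N5812 (iv D19602)) (tt N13687 D23936) (tt N5818 F36842) (tt N13674 (iv F48082)) (tt N5813 F36843) (tt N13688 D23937))
theorem Q9435 : ∀ i, i < 9435 → P i := stepQ 9434 Q9434 (allL N9434 (tt N5813 (iv D19603)) (tt N13689 D23938) (tt N13690 D23939) (tt N5819 F36844) (tt N13675 (iv F48088)) (tt N13686 (iv F48129)) (tt N13691 D23940))
theorem Q9436 : ∀ i, i < 9436 → P i := stepQ 9435 Q9435 (allL N9435 (tt N13690 (iv F48143)) (tt N13670 (iv F48066)) (tt N5813 (iv D19604)) (tt N13692 D23941) (tt N13676 (iv F48090)) (tt N13687 (iv F48131)) (tt N13693 D23942))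
theorem Q9437 : ∀ i, i < 9437 → P i := stepQ 9436 Q9436 (allL N9436 (tt N13691 (iv F48144)) (tt N9183 F36845) (tt N13693 (iv F48151)) (tt N5821 F36846) (tt N13491 (iv F47448)) (tt N13694 D23943) (tt N5813 (iv D19605)))
theorem Q9438 : ∀ i, i < 9438 → P i := stepQ 9437 Q9437 (allL N9437 (tt N5814 (iv D19606)) (tt N6515 F36856) (tt N10363 (iv F39025)) (tt N13677 (iv F48093)) (tt N13629 (iv F47941)) (tt N9445 (iv F36860)) (tt N5815 F36847))
theorem Q9439 : ∀ i, i < 9439 → P i := stepQ 9438 Q9438 (allL N9438 (tt N10363 F39027) (tt N9438 F36848) (tt N5814 (iv D19607)) (tt N13684 (iv F48118)) (tt N13630 (iv F47944)) (tt N13683 F48115) (tt N5816 F36849))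
theorem Q9440 : ∀ i, i < 9440 → P i := stepQ 9439 Q9439 (allL N9439 (tt N9445 (iv F36859)) (tt N9480 (iv F36965)) (tt N13683 (iv F48114)) (tt N13679 (iv F48101)) (tt N13631 (iv F47946)) (tt N5814 (iv D19608)) (tt N9442 (iv F36852)))
theorem Q9441 : ∀ i, i < 9441 → P i := stepQ 9440 Q9440 (allL N9440 (tt N9826 (iv F37794)) (tt N5815 (iv D19609)) (tt N6511 F36857) (tt N13680 (iv F48103)) (tt N13632 (iv F47947)) (tt N6091 F36854) (tt N6510 (iv F36855)))
theorem Q9442 : ∀ i, i < 9442 → P i := stepQ 9441 Q9441 (allL N9441 (tt N5816 F36850) (tt N10357 F39014) (tt N5815 (iv D19610)) (tt N12420 (iv F44536)) (tt N13633 (iv F47952)) (tt N13695 D23944) (tt N10363 (iv F39026)))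
theorem Q9443 : ∀ i, i < 9443 → P i := stepQ 9442 Q9442 (allL N9442 (tt N5817 F36851) (tt N5988 (iv F36853)) (tt N13695 (iv F48161)) (tt N13682 (iv F48112)) (tt N13634 (iv F47955)) (tt N5815 (iv D19611)) (tt N9439 F36852))
theorem Q9444 : ∀ i, i < 9444 → P i := stepQ 9443 Q9443 (allL N9443 (tt N12420 F44538) (tt N13609 (iv F47879)) (tt N13685 (iv F48122)) (tt N5816 (iv D19612)) (tt N12447 (iv F44611)) (tt N13696 D23945) (tt N13684 (iv F48119)))
theorem Q9445 : ∀ i, i < 9445 → P i := stepQ 9444 Q9444 (allL N9444 (tt N13695 (iv F48160)) (tt N12207 (iv F43911)) (tt N5817 F36858) (tt N13696 (iv F48166)) (tt N13636 (iv F47958)) (tt N5816 (iv D19613)) (tt N13697 D23946))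
theorem Q9446 : ∀ i, i < 9446 → P i := stepQ 9445 Q9445 (allL N9445 (tt N9439 F36859) (tt N9801 (iv F37745)) (tt N13697 (iv F48169)) (tt N13685 (iv F48123)) (tt N13637 (iv F47960)) (tt N9437 F36860) (tt N5817 (iv D19614)))
theorem Q9447 : ∀ i, i < 9447 → P i := stepQ 9446 Q9446 (allL N9446 (tt N5818 (iv D19615)) (tt N6482 (iv F36888)) (tt N10326 (iv F38946)) (tt N13686 (iv F48127)) (tt N13638 (iv F47964)) (tt N5819 F36861) (tt N9454 (iv F36892)))
theorem Q9448 : ∀ i, i < 9448 → P i := stepQ 9447 Q9447 (allL N9447 (tt N10326 (iv F38948)) (tt N9447 F36862) (tt N5818 (iv D19616)) (tt N13693 (iv F48152)) (tt N13639 (iv F47967)) (tt N5820 F36863) (tt N13692 F48149))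
theorem Q9449 : ∀ i, i < 9449 → P i := stepQ 9448 Q9448 (allL N9448 (tt N9454 (iv F36891)) (tt N9488 (iv F36980)) (tt N13692 (iv F48148)) (tt N13688 (iv F48135)) (tt N13640 (iv F47969)) (tt N9451 (iv F36866)) (tt N5818 (iv D19617)))
theorem Q9450 : ∀ i, i < 9450 → P i := stepQ 9449 Q9449 (allL N9449 (tt N9771 (iv F37695)) (tt N5819 (iv D19618)) (tt N6477 (iv F36889)) (tt N13689 (iv F48138)) (tt N13641 (iv F47970)) (tt N6476 F36869) (tt N6053 (iv F36868)))
theorem Q9451 : ∀ i, i < 9451 → P i := stepQ 9450 Q9450 (allL N9450 (tt N5820 F36864) (tt N10320 F38935) (tt N5819 (iv D19619)) (tt N12465 (iv F44661)) (tt N13642 (iv F47975)) (tt N10326 (iv F38947)) (tt N13698 D23947))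
theorem Q9452 : ∀ i, i < 9452 → P i := stepQ 9451 Q9451 (allL N9451 (tt N5821 F36865) (tt N5973 F36867) (tt N13698 (iv F48173)) (tt N13691 (iv F48146)) (tt N13643 (iv F47978)) (tt N9448 F36866) (tt N5819 (iv D19620)))
theorem Q9453 : ∀ i, i < 9453 → P i := stepQ 9452 Q9452 (allL N9452 (tt N12465 F44663) (tt N13613 (iv F47889)) (tt N13694 (iv F48156)) (tt N5820 (iv D19621)) (tt N12483 (iv F44714)) (tt N13693 F48153) (tt N13699 D23948))
theorem Q9454 : ∀ i, i < 9454 → P i := stepQ 9453 Q9453 (allL N9453 (tt N13698 (iv F48172)) (tt N12024 (iv F43383)) (tt N5821 F36890) (tt N13699 (iv F48178)) (tt N13645 (iv F47983)) (tt N13700 D23949) (tt N5820 (iv D19622)))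
theorem Q9455 : ∀ i, i < 9455 → P i := stepQ 9454 Q9454 (allL N9454 (tt N9448 F36891) (tt N9854 (iv F37841)) (tt N13700 (iv F48181)) (tt N13694 (iv F48157)) (tt N13646 (iv F47985)) (tt N5821 (iv D19623)) (tt N9446 F36892))
theorem Q9456 : ∀ i, i < 9456 → P i := stepQ 9455 Q9455 (allL N9455 (tt N9190 F36893) (tt N5822 (iv D19624)) (tt N5828 (iv F36897)) (tt N7497 F36894) (tt N5828 F36895) (tt N7940 F36896) (tt N13524 (iv F47571)))
theorem Q9457 : ∀ i, i < 9457 → P i := stepQ 9456 Q9456 (allL N9456 (tt N5823 F36898) (tt N5829 F36899) (tt N5822 (iv D19625)) (tt N10815 (iv F40529)) (tt N5829 F36900) (tt N10815 (iv F40531)) (tt N13701 D23950))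
theorem Q9458 : ∀ i, i < 9458 → P i := stepQ 9457 Q9457 (allL N9457 (tt N5824 F36901) (tt N12446 (iv F44610)) (tt N13701 (iv F48185)) (tt N7498 F36902) (tt N5830 F36903) (tt N9425 F36904) (tt N5822 (iv D19626)))
theorem Q9459 : ∀ i, i < 9459 → P i := stepQ 9458 Q9458 (allL N9458 (tt N13701 (iv F48184)) (tt N13557 F47672) (tt N5824 F36905) (tt N10816 (iv F40533)) (tt N5831 F36906) (tt N13702 D23951) (tt N5823 (iv D19627)))
theorem Q9460 : ∀ i, i < 9460 → P i := stepQ 9459 Q9459 (allL N9459 (tt N9425 F36907) (tt N9750 F37649) (tt N13702 (iv F48190)) (tt N7781 F36908) (tt N5832 F36909) (tt N5824 (iv D19628)) (tt N9186 F36910))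
theorem Q9461 : ∀ i, i < 9461 → P i := stepQ 9460 Q9460 (allL N9460 (tt N9230 F36911) (tt N5825 (iv D19629)) (tt N5833 (iv F36915)) (tt N7511 F36912) (tt N5833 F36913) (tt N13500 (iv F47494)) (tt N7998 F36914))
theorem Q9462 : ∀ i, i < 9462 → P i := stepQ 9461 Q9461 (allL N9461 (tt N5826 F36916) (tt N5834 F36917) (tt N5825 (iv D19630)) (tt N10836 (iv F40600)) (tt N5834 F36918) (tt N13703 D23952) (tt N10836 (iv F40602)))
theorem Q9463 : ∀ i, i < 9463 → P i := stepQ 9462 Q9462 (allL N9462 (tt N5827 F36919) (tt N12482 F44713) (tt N13703 (iv F48196)) (tt N7512 F36920) (tt N5835 F36921) (tt N5825 (iv D19631)) (tt N9427 F36922))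
theorem Q9464 : ∀ i, i < 9464 → P i := stepQ 9463 Q9463 (allL N9463 (tt N13703 (iv F48195)) (tt N13561 (iv F47683)) (tt N5827 F36923) (tt N10837 (iv F40604)) (tt N5836 F36924) (tt N5826 (iv D19632)) (tt N13704 D23953))
theorem Q9465 : ∀ i, i < 9465 → P i := stepQ 9464 Q9464 (allL N9464 (tt N9427 F36925) (tt N9730 F37603) (tt N13704 (iv F48201)) (tt N7616 F36926) (tt N5837 F36927) (tt N9226 F36928) (tt N5827 (iv D19633)))
theorem Q9466 : ∀ i, i < 9466 → P i := stepQ 9465 Q9465 (allL N9465 (tt N5831 F36929) (tt N13705 D23954) (tt N5830 F36930) (tt N9262 F36931) (tt N13701 (iv F48186)) (tt N6868 F36932) (tt N5829 (iv D19634)))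
theorem Q9467 : ∀ i, i < 9467 → P i := stepQ 9466 Q9466 (allL N9466 (tt N12482 (iv F44709)) (tt N5830 (iv D19635)) (tt N12419 (iv F44532)) (tt N5840 F36933) (tt N12446 (iv F44609)) (tt N12418 (iv F44530)) (tt N12480 (iv F44705)))
theorem Q9468 : ∀ i, i < 9468 → P i := stepQ 9467 Q9467 (allL N9467 (tt N9332 (iv F36935)) (tt N5831 (iv D19636)) (tt N9769 (iv F37690)) (tt N13546 (iv F47629)) (tt N13557 (iv F47670)) (tt N10659 (iv F40108)) (tt N8479 F36934))
theorem Q9469 : ∀ i, i < 9469 → P i := stepQ 9468 Q9468 (allL N9468 (tt N6868 F36936) (tt N13706 D23955) (tt N5832 F36937) (tt N9259 F36938) (tt N13702 (iv F48192)) (tt N5831 (iv D19637)) (tt N6867 F36939))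
theorem Q9470 : ∀ i, i < 9470 → P i := stepQ 9469 Q9469 (allL N9469 (tt N9722 F37572) (tt N5832 (iv D19638)) (tt N6746 (iv F37573)) (tt N5841 F36940) (tt N9750 (iv F37648)) (tt N6745 (iv F37574)) (tt N9191 F36941))
theorem Q9471 : ∀ i, i < 9471 → P i := stepQ 9470 Q9470 (allL N9470 (tt N5836 F36942) (tt N13707 D23956) (tt N5835 F36943) (tt N9315 F36944) (tt N13703 (iv F48197)) (tt N5834 (iv D19639)) (tt N6889 F36945))
theorem Q9472 : ∀ i, i < 9472 → P i := stepQ 9471 Q9471 (allL N9471 (tt N12446 (iv F44606)) (tt N5835 (iv D19640)) (tt N12435 (iv F44583)) (tt N5844 F36946) (tt N12482 (iv F44712)) (tt N12444 (iv F44601)) (tt N12434 F44581))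
theorem Q9473 : ∀ i, i < 9473 → P i := stepQ 9472 Q9472 (allL N9472 (tt N9285 (iv F36948)) (tt N5836 (iv D19641)) (tt N9749 (iv F37643)) (tt N13577 (iv F47745)) (tt N13561 (iv F47684)) (tt N8487 F36947) (tt N10741 (iv F40325)))
theorem Q9474 : ∀ i, i < 9474 → P i := stepQ 9473 Q9473 (allL N9473 (tt N6889 F36949) (tt N13708 D23957) (tt N5837 F36950) (tt N9312 F36951) (tt N13704 (iv F48203)) (tt N6888 F36952) (tt N5836 (iv D19642)))
theorem Q9475 : ∀ i, i < 9475 → P i := stepQ 9474 Q9474 (allL N9474 (tt N9714 F37540) (tt N5837 (iv D19643)) (tt N6821 (iv F37541)) (tt N5845 F36953) (tt N9730 (iv F37602)) (tt N9229 F36954) (tt N6819 (iv F37542)))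
theorem Q9476 : ∀ i, i < 9476 → P i := stepQ 9475 Q9475 (allL N9475 (tt N9477 (iv F36960)) (tt N8564 F36955) (tt N7942 F36956) (tt N9235 F36957) (tt N13651 (iv F48005)) (tt N7941 F36958) (tt N5838 (iv D19644)))
theorem Q9477 : ∀ i, i < 9477 → P i := stepQ 9476 Q9476 (allL N9476 (tt N9705 (iv F37522)) (tt N5839 (iv D19645)) (tt N13709 D23958) (tt N12480 F44707) (tt N13652 (iv F48007)) (tt N9703 (iv F37521)) (tt N5840 F36959))
theorem Q9478 : ∀ i, i < 9478 → P i := stepQ 9477 Q9477 (allL N9477 (tt N9475 F36960) (tt N13710 D23959) (tt N7501 F36961) (tt N13524 (iv F47568)) (tt N13647 (iv F47989)) (tt N5839 (iv D19646)) (tt N7497 F36962))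
theorem Q9479 : ∀ i, i < 9479 → P i := stepQ 9478 Q9478 (allL N9478 (tt N5840 (iv D19647)) (tt N7512 F36963) (tt N11967 (iv F43267)) (tt N12482 (iv F44711)) (tt N13650 (iv F48000)) (tt N13711 D23960) (tt N9705 (iv F37524)))
theorem Q9480 : ∀ i, i < 9480 → P i := stepQ 9479 Q9479 (allL N9479 (tt N11967 F43268) (tt N9479 F36964) (tt N5840 (iv D19648)) (tt N9487 F43821) (tt N13653 (iv F48010)) (tt N13712 D23961) (tt N13709 (iv F48226)))
theorem Q9481 : ∀ i, i < 9481 → P i := stepQ 9480 Q9480 (allL N9480 (tt N13711 (iv F48230)) (tt N9439 F36965) (tt N13712 (iv F48233)) (tt N12418 F44529) (tt N13654 (iv F48012)) (tt N5840 (iv D19649)) (tt N5986 (iv F36966)))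
theorem Q9482 : ∀ i, i < 9482 → P i := stepQ 9481 Q9481 (allL N9481 (tt N7893 F37077) (tt N9481 F36967) (tt N5841 (iv D19651)) (tt N10729 (iv F40281)) (tt N13655 (iv F48016)) (tt N9876 (iv F37886)) (tt N13713 D23962))
theorem Q9483 : ∀ i, i < 9483 → P i := stepQ 9482 Q9482 (allL N9482 (tt N9691 F37501) (tt N9188 F36968) (tt N13713 (iv F48236)) (tt N9191 F36969) (tt N13656 (iv F48018)) (tt N13714 D23963) (tt N5841 (iv D19652)))
theorem Q9484 : ∀ i, i < 9484 → P i := stepQ 9483 Q9483 (allL N9483 (tt N9683 (iv F37488)) (tt N5842 (iv D19653)) (tt N13715 D23964) (tt N12444 F44603) (tt N13657 (iv F48019)) (tt N5844 F36970) (tt N9681 F37487))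
theorem Q9485 : ∀ i, i < 9485 → P i := stepQ 9484 Q9484 (allL N9484 (tt N9485 (iv F36973)) (tt N13711 (iv F48231)) (tt N7515 F36971) (tt N13500 (iv F47492)) (tt N13649 (iv F47996)) (tt N7511 F36972) (tt N5842 (iv D19654)))
theorem Q9486 : ∀ i, i < 9486 → P i := stepQ 9485 Q9485 (allL N9485 (tt N9484 F36973) (tt N8555 F36974) (tt N8000 F36975) (tt N9199 F36976) (tt N13658 (iv F48025)) (tt N5843 (iv D19655)) (tt N7999 F36977))
theorem Q9487 : ∀ i, i < 9487 → P i := stepQ 9486 Q9486 (allL N9486 (tt N5844 (iv D19656)) (tt N7498 F36978) (tt N12169 (iv F43818)) (tt N12446 (iv F44608)) (tt N13648 (iv F47993)) (tt N9683 (iv F37490)) (tt N13710 (iv F48229)))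
theorem Q9488 : ∀ i, i < 9488 → P i := stepQ 9487 Q9487 (allL N9487 (tt N12169 F43820) (tt N9487 F36979) (tt N5844 (iv D19657)) (tt N9479 (iv F43821)) (tt N13659 (iv F48028)) (tt N13715 (iv F48244)) (tt N13716 D23965))
theorem Q9489 : ∀ i, i < 9489 → P i := stepQ 9488 Q9488 (allL N9488 (tt N13710 (iv F48227)) (tt N9448 F36980) (tt N13716 (iv F48246)) (tt N12434 (iv F44579)) (tt N13660 (iv F48030)) (tt N5971 (iv F36981)) (tt N5844 (iv D19658)))
theorem Q9490 : ∀ i, i < 9490 → P i := stepQ 9489 Q9489 (allL N9489 (tt N7731 F37069) (tt N9489 F36982) (tt N5845 (iv D19660)) (tt N10644 (iv F40061)) (tt N13661 (iv F48034)) (tt N13717 D23966) (tt N9823 (iv F37789)))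
theorem Q9491 : ∀ i, i < 9491 → P i := stepQ 9490 Q9490 (allL N9490 (tt N9713 F37535) (tt N9228 F36983) (tt N13717 (iv F48250)) (tt N9229 F36984) (tt N13662 (iv F48036)) (tt N5845 (iv D19661)) (tt N13718 D23967))
theorem Q9492 : ∀ i, i < 9492 → P i := stepQ 9491 Q9491 (allL N9491 (tt N7000 F36985) (tt N6185 F36986) (tt N13719 D23968) (tt N5847 (iv D19662)) (tt N10867 (iv F40708)) (tt N5874 F36987) (tt N10981 (iv F41000)))
theorem Q9493 : ∀ i, i < 9493 → P i := stepQ 9492 Q9492 (allL N9492 (tt N7017 F36988) (tt N6189 F36989) (tt N13720 D23969) (tt N5850 (iv D19663)) (tt N10875 (iv F40725)) (tt N11004 (iv F41042)) (tt N5883 F36990))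
theorem Q9494 : ∀ i, i < 9494 → P i := stepQ 9493 Q9493 (allL N9493 (tt N12810 (iv F45708)) (tt N9578 (iv F37221)) (tt N9091 F36991) (tt N8572 F36992) (tt N5962 F36993) (tt N9091 F36994) (tt N5852 (iv D19664)))
theorem Q9495 : ∀ i, i < 9495 → P i := stepQ 9494 Q9494 (allL N9494 (tt N13615 (iv F47893)) (tt N5853 (iv D19665)) (tt N9086 F36995) (tt N13721 D23970) (tt N5963 F36996) (tt N8963 F36997) (tt N13722 D23971))
theorem Q9496 : ∀ i, i < 9496 → P i := stepQ 9495 Q9495 (allL N9495 (tt N5854 F36998) (tt N13721 (iv F48263)) (tt N13723 D23972) (tt N5853 (iv D19666)) (tt N13724 D23973) (tt N5895 F36999) (tt N9569 (iv F37207)))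
theorem Q9497 : ∀ i, i < 9497 → P i := stepQ 9496 Q9496 (allL N9496 (tt N13723 (iv F48269)) (tt N13725 D23974) (tt N5854 (iv D19667)) (tt N10978 (iv F40993)) (tt N13726 D23975) (tt N5898 F37000) (tt N13727 D23976))
theorem Q9498 : ∀ i, i < 9498 → P i := stepQ 9497 Q9497 (allL N9497 (tt N13724 (iv F48272)) (tt N6220 F37001) (tt N13726 (iv F48279)) (tt N5965 F37002) (tt N5854 (iv D19668)) (tt N5899 F37003) (tt N13728 D23977))
theorem Q9499 : ∀ i, i < 9499 → P i := stepQ 9498 Q9498 (allL N9498 (tt N9569 (iv F37205)) (tt N13729 D23978) (tt N13727 (iv F48281)) (tt N5855 F37004) (tt N13728 (iv F48283)) (tt N9561 (iv F37192)) (tt N5854 (iv D19669)))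
theorem Q9500 : ∀ i, i < 9500 → P i := stepQ 9499 Q9499 (allL N9499 (tt N13730 D23979) (tt N5855 (iv D19670)) (tt N13731 D23980) (tt N13729 (iv F48284)) (tt N5967 F37005) (tt N13732 D23981) (tt N6222 F37006))
theorem Q9501 : ∀ i, i < 9501 → P i := stepQ 9500 Q9500 (allL N9500 (tt N5856 (iv D19671)) (tt N13733 D23982) (tt N13734 D23983) (tt N9521 (iv F37052)) (tt N5968 F37007) (tt N9508 (iv F37023)) (tt N5857 F37008))
theorem Q9502 : ∀ i, i < 9502 → P i := stepQ 9501 Q9501 (allL N9501 (tt N13734 (iv F48296)) (tt N13731 (iv F48288)) (tt N5856 (iv D19672)) (tt N13735 D23984) (tt N5969 F37009) (tt N13736 D23985) (tt N5858 F37010))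
theorem Q9503 : ∀ i, i < 9503 → P i := stepQ 9502 Q9502 (allL N9502 (tt N9508 (iv F37021)) (tt N9565 (iv F37198)) (tt N13736 (iv F48302)) (tt N9524 (iv F37059)) (tt N5970 F37011) (tt N5856 (iv D19673)) (tt N9505 (iv F37017)))
theorem Q9504 : ∀ i, i < 9504 → P i := stepQ 9503 Q9503 (allL N9503 (tt N13737 D23986) (tt N5857 (iv D19674)) (tt N13738 D23987) (tt N9519 (iv F37047)) (tt N5971 F37012) (tt N13660 F48031) (tt N13739 D23988))
theorem Q9505 : ∀ i, i < 9505 → P i := stepQ 9504 Q9504 (allL N9504 (tt N5858 F37013) (tt N13740 D23989) (tt N5857 (iv D19675)) (tt N13741 D23990) (tt N5972 F37014) (tt N13742 D23991) (tt N13734 (iv F48298)))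
theorem Q9506 : ∀ i, i < 9506 → P i := stepQ 9505 Q9505 (allL N9505 (tt N5859 F37015) (tt N13643 (iv F47977)) (tt N13742 (iv F48316)) (tt N9516 (iv F37040)) (tt N5973 F37016) (tt N5857 (iv D19676)) (tt N9502 F37017))
theorem Q9507 : ∀ i, i < 9507 → P i := stepQ 9506 Q9506 (allL N9506 (tt N13741 (iv F48312)) (tt N6229 F37018) (tt N8419 (iv F39821)) (tt N5858 (iv D19677)) (tt N8541 F39822) (tt N13743 D23992) (tt N13735 (iv F48300)))
theorem Q9508 : ∀ i, i < 9508 → P i := stepQ 9507 Q9507 (allL N9507 (tt N13742 (iv F48315)) (tt N11342 (iv F41764)) (tt N5859 F37019) (tt N13743 (iv F48320)) (tt N5975 F37020) (tt N5858 (iv D19678)) (tt N13744 D23993))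
theorem Q9509 : ∀ i, i < 9509 → P i := stepQ 9508 Q9508 (allL N9508 (tt N9502 F37021) (tt N13745 D23994) (tt N13744 (iv F48323)) (tt N9518 (iv F37045)) (tt N5976 F37022) (tt N9500 F37023) (tt N5859 (iv D19679)))
theorem Q9510 : ∀ i, i < 9510 → P i := stepQ 9509 Q9509 (allL N9509 (tt N12814 (iv F45720)) (tt N9616 (iv F37308)) (tt N9145 F37024) (tt N8581 F37025) (tt N5977 F37026) (tt N5860 (iv D19680)) (tt N9145 F37027))
theorem Q9511 : ∀ i, i < 9511 → P i := stepQ 9510 Q9510 (allL N9510 (tt N13616 (iv F47897)) (tt N5861 (iv D19681)) (tt N9140 F37028) (tt N13746 D23995) (tt N5978 F37029) (tt N13747 D23996) (tt N9029 F37030))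
theorem Q9512 : ∀ i, i < 9512 → P i := stepQ 9511 Q9511 (allL N9511 (tt N5862 F37031) (tt N13746 (iv F48330)) (tt N13748 D23997) (tt N5861 (iv D19682)) (tt N13749 D23998) (tt N9607 (iv F37293)) (tt N5917 F37032))
theorem Q9513 : ∀ i, i < 9513 → P i := stepQ 9512 Q9512 (allL N9512 (tt N13748 (iv F48336)) (tt N13750 D23999) (tt N5862 (iv D19683)) (tt N11003 (iv F41040)) (tt N13751 D24000) (tt N13752 D24001) (tt N5920 F37033))
theorem Q9514 : ∀ i, i < 9514 → P i := stepQ 9513 Q9513 (allL N9513 (tt N13749 (iv F48339)) (tt N6239 F37034) (tt N13751 (iv F48346)) (tt N5980 F37035) (tt N5862 (iv D19684)) (tt N13753 D24002) (tt N5921 F37036))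
theorem Q9515 : ∀ i, i < 9515 → P i := stepQ 9514 Q9514 (allL N9514 (tt N9607 (iv F37291)) (tt N13754 D24003) (tt N13752 (iv F48348)) (tt N5863 F37037) (tt N13753 (iv F48350)) (tt N5862 (iv D19685)) (tt N9599 (iv F37278)))
theorem Q9516 : ∀ i, i < 9516 → P i := stepQ 9515 Q9515 (allL N9515 (tt N13755 D24004) (tt N5863 (iv D19686)) (tt N13756 D24005) (tt N13754 (iv F48351)) (tt N5982 F37038) (tt N6241 F37039) (tt N13757 D24006))
theorem Q9517 : ∀ i, i < 9517 → P i := stepQ 9516 Q9516 (allL N9516 (tt N5864 (iv D19687)) (tt N13758 D24007) (tt N13759 D24008) (tt N9505 F37040) (tt N5983 F37041) (tt N5865 F37042) (tt N9524 (iv F37061)))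
theorem Q9518 : ∀ i, i < 9518 → P i := stepQ 9517 Q9517 (allL N9517 (tt N13759 (iv F48363)) (tt N13756 (iv F48355)) (tt N5864 (iv D19688)) (tt N13760 D24009) (tt N5984 F37043) (tt N5866 F37044) (tt N13761 D24010))
theorem Q9519 : ∀ i, i < 9519 → P i := stepQ 9518 Q9518 (allL N9518 (tt N9524 (iv F37058)) (tt N9603 (iv F37284)) (tt N13761 (iv F48369)) (tt N9508 F37045) (tt N5985 F37046) (tt N9521 (iv F37054)) (tt N5864 (iv D19689)))
theorem Q9520 : ∀ i, i < 9520 → P i := stepQ 9519 Q9519 (allL N9519 (tt N13762 D24011) (tt N5865 (iv D19690)) (tt N13763 D24012) (tt N9503 F37047) (tt N5986 F37048) (tt N13764 D24013) (tt N13654 F48013))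
theorem Q9521 : ∀ i, i < 9521 → P i := stepQ 9520 Q9520 (allL N9520 (tt N5866 F37049) (tt N13765 D24014) (tt N5865 (iv D19691)) (tt N13766 D24015) (tt N5987 F37050) (tt N13759 (iv F48365)) (tt N13767 D24016))
theorem Q9522 : ∀ i, i < 9522 → P i := stepQ 9521 Q9521 (allL N9521 (tt N5867 F37051) (tt N13634 (iv F47954)) (tt N13767 (iv F48385)) (tt N9500 F37052) (tt N5988 F37053) (tt N9518 F37054) (tt N5865 (iv D19692)))
theorem Q9523 : ∀ i, i < 9523 → P i := stepQ 9522 Q9522 (allL N9522 (tt N13766 (iv F48381)) (tt N6248 F37055) (tt N8400 (iv F39798)) (tt N5866 (iv D19693)) (tt N8512 F39799) (tt N13760 (iv F48367)) (tt N13768 D24017))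
theorem Q9524 : ∀ i, i < 9524 → P i := stepQ 9523 Q9523 (allL N9523 (tt N13767 (iv F48384)) (tt N11501 (iv F42105)) (tt N5867 F37056) (tt N13768 (iv F48389)) (tt N5990 F37057) (tt N13769 D24018) (tt N5866 (iv D19694)))
theorem Q9525 : ∀ i, i < 9525 → P i := stepQ 9524 Q9524 (allL N9524 (tt N9518 F37058) (tt N13770 D24019) (tt N13769 (iv F48392)) (tt N9502 F37059) (tt N5991 F37060) (tt N5867 (iv D19695)) (tt N9516 F37061))
theorem Q9526 : ∀ i, i < 9526 → P i := stepQ 9525 Q9525 (allL N9525 (tt N6482 F37067) (tt N5868 (iv D19696)) (tt N6480 F37062) (tt N6000 F37063) (tt N5876 F37064) (tt N6479 (iv F37066)) (tt N5869 F37065))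
theorem Q9527 : ∀ i, i < 9527 → P i := stepQ 9526 Q9526 (allL N9526 (tt N6515 F37074) (tt N5870 (iv D19697)) (tt N6469 F37070) (tt N6006 F37071) (tt N5885 F37072) (tt N5871 F37073) (tt N6513 F37075))
theorem Q9528 : ∀ i, i < 9528 → P i := stepQ 9527 Q9527 (allL N9527 (tt N5872 (iv D19698)) (tt N9400 F37078) (tt N7033 F37079) (tt N5890 F37080) (tt N7525 F37081) (tt N9187 F37082) (tt N13496 (iv F47475)))
theorem Q9529 : ∀ i, i < 9529 → P i := stepQ 9528 Q9528 (allL N9528 (tt N13496 (iv F47470)) (tt N13771 D24020) (tt N7036 F37083) (tt N5893 F37084) (tt N7526 F37085) (tt N13492 (iv F47455)) (tt N5872 (iv D19699)))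
theorem Q9530 : ∀ i, i < 9530 → P i := stepQ 9529 Q9529 (allL N9529 (tt N9407 (iv F37088)) (tt N5873 (iv D19700)) (tt N11350 (iv F41780)) (tt N5897 F37086) (tt N7527 F37087) (tt N13770 (iv F48397)) (tt N13771 (iv F48402)))
theorem Q9531 : ∀ i, i < 9531 → P i := stepQ 9530 Q9530 (allL N9530 (tt N6999 F37089) (tt N6952 F37090) (tt N5874 (iv D19701)) (tt N9559 (iv F37186)) (tt N13772 D24021) (tt N13719 (iv F48260)) (tt N13773 D24022))
theorem Q9532 : ∀ i, i < 9532 → P i := stepQ 9531 Q9531 (allL N9531 (tt N6197 F37091) (tt N10922 (iv F40852)) (tt N13772 (iv F48405)) (tt N6213 F37092) (tt N5874 (iv D19702)) (tt N10867 F40709) (tt N11176 (iv F41407)))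
theorem Q9533 : ∀ i, i < 9533 → P i := stepQ 9532 Q9532 (allL N9532 (tt N7001 F37093) (tt N10104 (iv F38459)) (tt N13773 (iv F48407)) (tt N5875 F37094) (tt N11176 (iv F41406)) (tt N10980 (iv F40997)) (tt N5874 (iv D19703)))
theorem Q9534 : ∀ i, i < 9534 → P i := stepQ 9533 Q9533 (allL N9533 (tt N5876 (iv D19704)) (tt N13638 (iv F47962)) (tt N6289 (iv F37099)) (tt N5902 F37095) (tt N6482 F37096) (tt N6288 F37098) (tt N5878 F37097))
theorem Q9535 : ∀ i, i < 9535 → P i := stepQ 9534 Q9534 (allL N9534 (tt N6289 F37100) (tt N6305 F37101) (tt N5876 (iv D19705)) (tt N13774 D24023) (tt N6480 F37102) (tt N6287 (iv F37104)) (tt N5879 F37103))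
theorem Q9536 : ∀ i, i < 9536 → P i := stepQ 9535 Q9535 (allL N9535 (tt N6288 F37105) (tt N9620 (iv F37318)) (tt N6287 F37106) (tt N5904 F37107) (tt N6479 F37108) (tt N5876 (iv D19706)) (tt N9538 (iv F37117)))
theorem Q9537 : ∀ i, i < 9537 → P i := stepQ 9536 Q9536 (allL N9536 (tt N13450 F47337) (tt N5877 (iv D19707)) (tt N13775 D24024) (tt N5905 F37109) (tt N9654 (iv F37422)) (tt N9620 F37321) (tt N12817 (iv F45732)))
theorem Q9538 : ∀ i, i < 9538 → P i := stepQ 9537 Q9537 (allL N9537 (tt N13776 D24025) (tt N5878 (iv D19708)) (tt N7078 F37110) (tt N5906 F37111) (tt N7599 F37112) (tt N9613 (iv F37304)) (tt N13777 D24026))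
theorem Q9539 : ∀ i, i < 9539 → P i := stepQ 9538 Q9538 (allL N9538 (tt N5880 F37113) (tt N5930 (iv F37118)) (tt N7077 F37114) (tt N5908 F37115) (tt N6112 F37116) (tt N5878 (iv D19709)) (tt N9535 F37117))
theorem Q9540 : ∀ i, i < 9540 → P i := stepQ 9539 Q9539 (allL N9539 (tt N7025 F37119) (tt N9552 (iv F37162)) (tt N13778 D24027) (tt N5879 (iv D19710)) (tt N11105 (iv F41267)) (tt N10084 F38408) (tt N13774 (iv F48412)))
theorem Q9541 : ∀ i, i < 9541 → P i := stepQ 9540 Q9540 (allL N9540 (tt N5881 (iv D19711)) (tt N9405 F37120) (tt N7061 F37121) (tt N5912 F37122) (tt N7570 F37123) (tt N13499 F47489) (tt N9227 F37124))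
theorem Q9542 : ∀ i, i < 9542 → P i := stepQ 9541 Q9541 (allL N9541 (tt N13499 (iv F47490)) (tt N13779 D24028) (tt N7063 F37125) (tt N5914 F37126) (tt N7571 F37127) (tt N5881 (iv D19712)) (tt N13522 (iv F47560)))
theorem Q9543 : ∀ i, i < 9543 → P i := stepQ 9542 Q9542 (allL N9542 (tt N9403 (iv F37130)) (tt N5882 (iv D19713)) (tt N11509 (iv F42121)) (tt N5919 F37128) (tt N7572 F37129) (tt N13779 (iv F48430)) (tt N13745 (iv F48328)))
theorem Q9544 : ∀ i, i < 9544 → P i := stepQ 9543 Q9543 (allL N9543 (tt N7015 F37131) (tt N6958 F37132) (tt N5883 (iv D19714)) (tt N9597 (iv F37272)) (tt N13780 D24029) (tt N13781 D24030) (tt N13720 (iv F48262)))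
theorem Q9545 : ∀ i, i < 9545 → P i := stepQ 9544 Q9544 (allL N9544 (tt N6205 F37133) (tt N10933 (iv F40875)) (tt N13780 (iv F48433)) (tt N6232 F37134) (tt N5883 (iv D19715)) (tt N11102 (iv F41258)) (tt N10875 F40726))
theorem Q9546 : ∀ i, i < 9546 → P i := stepQ 9545 Q9545 (allL N9545 (tt N7016 F37135) (tt N10083 F38404) (tt N13781 (iv F48435)) (tt N5884 F37136) (tt N11102 (iv F41257)) (tt N5883 (iv D19716)) (tt N11005 (iv F41045)))
theorem Q9547 : ∀ i, i < 9547 → P i := stepQ 9546 Q9546 (allL N9546 (tt N5885 (iv D19717)) (tt N13629 (iv F47939)) (tt N6316 F37141) (tt N5924 F37137) (tt N6515 F37138) (tt N5887 F37139) (tt N6315 (iv F37140)))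
theorem Q9548 : ∀ i, i < 9548 → P i := stepQ 9547 Q9547 (allL N9547 (tt N6316 F37142) (tt N6279 F37143) (tt N5885 (iv D19718)) (tt N13782 D24031) (tt N6469 F37144) (tt N5888 F37145) (tt N6314 (iv F37146)))
theorem Q9549 : ∀ i, i < 9549 → P i := stepQ 9548 Q9548 (allL N9548 (tt N6315 F37147) (tt N9581 (iv F37229)) (tt N6314 F37148) (tt N5926 F37149) (tt N6513 F37150) (tt N9551 (iv F37159)) (tt N5885 (iv D19719)))
theorem Q9550 : ∀ i, i < 9550 → P i := stepQ 9549 Q9549 (allL N9549 (tt N13398 (iv F47200)) (tt N5886 (iv D19720)) (tt N13783 D24032) (tt N5927 F37151) (tt N9655 (iv F37427)) (tt N12819 (iv F45741)) (tt N9581 F37231))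
theorem Q9551 : ∀ i, i < 9551 → P i := stepQ 9550 Q9550 (allL N9550 (tt N13784 D24033) (tt N5887 (iv D19721)) (tt N7050 F37152) (tt N5928 F37153) (tt N7554 F37154) (tt N13785 D24034) (tt N9575 (iv F37218)))
theorem Q9552 : ∀ i, i < 9552 → P i := stepQ 9551 Q9551 (allL N9551 (tt N5889 F37155) (tt N5908 F37160) (tt N7049 F37156) (tt N5930 F37157) (tt N6074 F37158) (tt N9548 F37159) (tt N5887 (iv D19722)))
theorem Q9553 : ∀ i, i < 9553 → P i := stepQ 9552 Q9552 (allL N9552 (tt N7009 F37161) (tt N9539 F37162) (tt N13786 D24035) (tt N5888 (iv D19723)) (tt N11175 (iv F41402)) (tt N13782 (iv F48439)) (tt N10102 F38449))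
theorem Q9554 : ∀ i, i < 9554 → P i := stepQ 9553 Q9553 (allL N9553 (tt N5892 F37163) (tt N9374 F37164) (tt N8497 F37165) (tt N9187 F37166) (tt N6042 F37167) (tt N5890 (iv D19724)) (tt N9557 (iv F37179)))
theorem Q9555 : ∀ i, i < 9555 → P i := stepQ 9554 Q9554 (allL N9554 (tt N10258 (iv F38785)) (tt N13787 D24036) (tt N5893 F37168) (tt N13105 (iv F46455)) (tt N6043 F37169) (tt N12760 (iv F45544)) (tt N5891 (iv D19725)))
theorem Q9556 : ∀ i, i < 9556 → P i := stepQ 9555 Q9555 (allL N9555 (tt N9557 (iv F37177)) (tt N9231 (iv F37174)) (tt N8502 F37170) (tt N9192 F37171) (tt N6044 F37172) (tt N9234 F37173) (tt N5892 (iv D19726)))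
theorem Q9557 : ∀ i, i < 9557 → P i := stepQ 9556 Q9556 (allL N9556 (tt N10131 (iv F38525)) (tt N5893 (iv D19727)) (tt N10130 F38524) (tt N13771 (iv F48400)) (tt N6045 F37175) (tt N13788 D24037) (tt N5897 F37176))
theorem Q9558 : ∀ i, i < 9558 → P i := stepQ 9557 Q9557 (allL N9557 (tt N9555 F37177) (tt N13789 D24038) (tt N12760 (iv F45542)) (tt N13492 (iv F47453)) (tt N6046 F37178) (tt N5893 (iv D19728)) (tt N9553 F37179))
theorem Q9559 : ∀ i, i < 9559 → P i := stepQ 9558 Q9558 (allL N9558 (tt N8642 F37180) (tt N5895 F37181) (tt N8857 F37184) (tt N5894 (iv D19729)) (tt N8641 F37182) (tt N8706 F37183) (tt N12988 (iv F46163)))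
theorem Q9560 : ∀ i, i < 9560 → P i := stepQ 9559 Q9559 (allL N9559 (tt N5898 F37185) (tt N10924 (iv F40860)) (tt N5895 (iv D19730)) (tt N9530 F37186) (tt N13790 D24039) (tt N13723 (iv F48271)) (tt N13791 D24040))
theorem Q9561 : ∀ i, i < 9561 → P i := stepQ 9560 Q9560 (allL N9560 (tt N5899 F37187) (tt N8641 F37188) (tt N13790 (iv F48465)) (tt N6048 F37189) (tt N5895 (iv D19731)) (tt N13724 (iv F48275)) (tt N13792 D24041))
theorem Q9562 : ∀ i, i < 9562 → P i := stepQ 9561 Q9561 (allL N9561 (tt N5900 F37190) (tt N13793 D24042) (tt N13791 (iv F48467)) (tt N5896 F37191) (tt N13792 (iv F48472)) (tt N9498 F37192) (tt N5895 (iv D19732)))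
theorem Q9563 : ∀ i, i < 9563 → P i := stepQ 9562 Q9562 (allL N9562 (tt N13794 D24043) (tt N5896 (iv D19733)) (tt N13795 D24044) (tt N13793 (iv F48474)) (tt N6050 F37193) (tt N13796 D24045) (tt N13311 (iv F46963)))
theorem Q9564 : ∀ i, i < 9564 → P i := stepQ 9563 Q9563 (allL N9563 (tt N5897 (iv D19734)) (tt N9399 (iv F37196)) (tt N10124 (iv F38505)) (tt N9407 F37194) (tt N6051 F37195) (tt N13797 D24046) (tt N10131 (iv F38528)))
theorem Q9565 : ∀ i, i < 9565 → P i := stepQ 9564 Q9564 (allL N9564 (tt N10124 F38508) (tt N13795 (iv F48476)) (tt N5897 (iv D19735)) (tt N13798 D24047) (tt N6052 F37197) (tt N13799 D24048) (tt N10130 (iv F38523)))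
theorem Q9566 : ∀ i, i < 9566 → P i := stepQ 9565 Q9565 (allL N9565 (tt N13797 (iv F48480)) (tt N9502 F37198) (tt N13799 (iv F48485)) (tt N13770 (iv F48395)) (tt N6053 F37199) (tt N5897 (iv D19736)) (tt N13641 F47973))
theorem Q9567 : ∀ i, i < 9567 → P i := stepQ 9566 Q9566 (allL N9566 (tt N13790 (iv F48464)) (tt N6291 F37200) (tt N5899 F37201) (tt N13800 D24049) (tt N5898 (iv D19737)) (tt N13726 (iv F48280)) (tt N13801 D24050))
theorem Q9568 : ∀ i, i < 9568 → P i := stepQ 9567 Q9567 (allL N9567 (tt N13791 (iv F48466)) (tt N13802 D24051) (tt N5900 F37202) (tt N10979 (iv F40995)) (tt N13801 (iv F48490)) (tt N13803 D24052) (tt N5898 (iv D19738)))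
theorem Q9569 : ∀ i, i < 9569 → P i := stepQ 9568 Q9568 (allL N9568 (tt N13792 (iv F48470)) (tt N11601 (iv F42328)) (tt N13801 (iv F48489)) (tt N6056 F37203) (tt N5900 F37204) (tt N13804 D24053) (tt N5899 (iv D19739)))
theorem Q9570 : ∀ i, i < 9570 → P i := stepQ 9569 Q9569 (allL N9569 (tt N9498 F37205) (tt N13805 D24054) (tt N13803 (iv F48493)) (tt N5901 F37206) (tt N13804 (iv F48497)) (tt N5900 (iv D19740)) (tt N9495 F37207))
theorem Q9571 : ∀ i, i < 9571 → P i := stepQ 9570 Q9570 (allL N9570 (tt N13806 D24055) (tt N5901 (iv D19741)) (tt N13807 D24056) (tt N13805 (iv F48499)) (tt N6058 F37208) (tt N11605 (iv F42338)) (tt N13808 D24057))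
theorem Q9572 : ∀ i, i < 9572 → P i := stepQ 9571 Q9571 (allL N9571 (tt N13625 (iv F47927)) (tt N5902 (iv D19742)) (tt N13809 D24058) (tt N13638 (iv F47963)) (tt N6059 F37209) (tt N13626 (iv F47933)) (tt N13810 D24059))
theorem Q9573 : ∀ i, i < 9573 → P i := stepQ 9572 Q9572 (allL N9572 (tt N5903 F37210) (tt N13811 D24060) (tt N5902 (iv D19743)) (tt N13812 D24061) (tt N6060 F37211) (tt N9589 (iv F37246)) (tt N5907 F37212))
theorem Q9574 : ∀ i, i < 9574 → P i := stepQ 9573 Q9573 (allL N9573 (tt N13812 (iv F48511)) (tt N11582 (iv F42293)) (tt N13813 D24062) (tt N5903 (iv D19744)) (tt N13814 D24063) (tt N13815 D24064) (tt N5909 F37213))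
theorem Q9575 : ∀ i, i < 9575 → P i := stepQ 9574 Q9574 (allL N9574 (tt N9589 (iv F37243)) (tt N13816 D24065) (tt N5904 F37214) (tt N13815 (iv F48516)) (tt N6062 F37215) (tt N5903 (iv D19745)) (tt N9585 (iv F37238)))
theorem Q9576 : ∀ i, i < 9576 → P i := stepQ 9575 Q9575 (allL N9575 (tt N13452 F47345) (tt N5904 (iv D19746)) (tt N11050 (iv F41137)) (tt N9620 (iv F37319)) (tt N6063 F37216) (tt N5905 F37217) (tt N9550 F37218))
theorem Q9577 : ∀ i, i < 9577 → P i := stepQ 9576 Q9576 (allL N9576 (tt N5905 (iv D19747)) (tt N13449 F47332) (tt N13817 D24066) (tt N13450 (iv F47333)) (tt N6064 F37219) (tt N13452 (iv F47344)) (tt N13785 (iv F48454)))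
theorem Q9578 : ∀ i, i < 9578 → P i := stepQ 9577 Q9577 (allL N9577 (tt N13817 (iv F48520)) (tt N13807 (iv F48501)) (tt N5905 (iv D19748)) (tt N13818 D24067) (tt N6065 F37220) (tt N11050 F41139) (tt N13819 D24068))
theorem Q9579 : ∀ i, i < 9579 → P i := stepQ 9578 Q9578 (allL N9578 (tt N13785 (iv F48449)) (tt N9493 F37221) (tt N13819 (iv F48525)) (tt N12817 (iv F45729)) (tt N6066 F37222) (tt N13784 (iv F48448)) (tt N5905 (iv D19749)))
theorem Q9580 : ∀ i, i < 9580 → P i := stepQ 9579 Q9579 (allL N9579 (tt N5906 (iv D19750)) (tt N9617 (iv F37310)) (tt N6346 (iv F37224)) (tt N13776 (iv F48416)) (tt N6067 F37223) (tt N9092 (iv F37225)) (tt N12819 (iv F45742)))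
theorem Q9581 : ∀ i, i < 9581 → P i := stepQ 9580 Q9580 (allL N9580 (tt N6346 F37226) (tt N13820 D24069) (tt N5906 (iv D19751)) (tt N13821 D24070) (tt N6068 F37227) (tt N13822 D24071) (tt N13823 D24072))
theorem Q9582 : ∀ i, i < 9582 → P i := stepQ 9581 Q9581 (allL N9581 (tt N9092 F37228) (tt N9548 F37229) (tt N13822 (iv F48533)) (tt N9613 (iv F37302)) (tt N6069 F37230) (tt N5906 (iv D19752)) (tt N9549 (iv F37231)))
theorem Q9583 : ∀ i, i < 9583 → P i := stepQ 9582 Q9582 (allL N9582 (tt N12819 F45743) (tt N13810 (iv F48506)) (tt N13823 (iv F48537)) (tt N13777 (iv F48423)) (tt N6070 F37232) (tt N13398 F47199) (tt N5906 (iv D19753)))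
theorem Q9584 : ∀ i, i < 9584 → P i := stepQ 9583 Q9583 (allL N9583 (tt N13118 (iv F48550)) (tt N5907 (iv D19754)) (tt N13820 (iv F48529)) (tt N13116 (iv F48554)) (tt N6071 F37233) (tt N13824 D24075) (tt N13825 D24076))
theorem Q9585 : ∀ i, i < 9585 → P i := stepQ 9584 Q9584 (allL N9584 (tt N5909 F37234) (tt N13116 (iv F48553)) (tt N13826 D24077) (tt N5907 (iv D19755)) (tt N13827 D24078) (tt N13828 D24079) (tt N13812 (iv F48512)))
theorem Q9586 : ∀ i, i < 9586 → P i := stepQ 9585 Q9585 (allL N9585 (tt N5910 F37235) (tt N13829 D24080) (tt N5908 F37236) (tt N13828 (iv F48560)) (tt N6073 F37237) (tt N5907 (iv D19756)) (tt N9574 F37238))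
theorem Q9587 : ∀ i, i < 9587 → P i := stepQ 9586 Q9586 (allL N9586 (tt N13826 (iv F48545)) (tt N13830 D24081) (tt N5909 (iv D19757)) (tt N11015 (iv F41066)) (tt N13831 D24082) (tt N13832 D24083) (tt N13813 (iv F48513)))
theorem Q9588 : ∀ i, i < 9588 → P i := stepQ 9587 Q9587 (allL N9587 (tt N13827 (iv F48557)) (tt N5937 F37239) (tt N13831 (iv F48568)) (tt N6076 F37240) (tt N5909 (iv D19758)) (tt N13833 D24084) (tt N13814 (iv F48515)))
theorem Q9589 : ∀ i, i < 9589 → P i := stepQ 9588 Q9588 (allL N9588 (tt N13828 (iv F48559)) (tt N9588 F37241) (tt N13832 (iv F48569)) (tt N5910 F37242) (tt N13833 (iv F48572)) (tt N5909 (iv D19759)) (tt N13834 D24085))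
theorem Q9590 : ∀ i, i < 9590 → P i := stepQ 9589 Q9589 (allL N9589 (tt N9574 F37243) (tt N13835 D24086) (tt N5911 F37244) (tt N13834 (iv F48574)) (tt N6078 F37245) (tt N9572 F37246) (tt N5910 (iv D19760)))
theorem Q9591 : ∀ i, i < 9591 → P i := stepQ 9590 Q9590 (allL N9590 (tt N13771 (iv F48399)) (tt N5911 (iv D19761)) (tt N13836 D24087) (tt N10131 F38529) (tt N6079 F37247) (tt N13837 D24088) (tt N9407 F37248))
theorem Q9592 : ∀ i, i < 9592 → P i := stepQ 9591 Q9591 (allL N9591 (tt N5915 F37249) (tt N9377 F37250) (tt N8526 F37251) (tt N9227 F37252) (tt N6080 F37253) (tt N9594 (iv F37259)) (tt N5912 (iv D19762)))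
theorem Q9593 : ∀ i, i < 9593 → P i := stepQ 9592 Q9592 (allL N9592 (tt N10276 (iv F38824)) (tt N13838 D24089) (tt N5914 F37254) (tt N13164 (iv F46578)) (tt N6081 F37255) (tt N5913 (iv D19763)) (tt N12785 (iv F45628)))
theorem Q9594 : ∀ i, i < 9594 → P i := stepQ 9593 Q9593 (allL N9593 (tt N10164 (iv F38606)) (tt N5914 (iv D19764)) (tt N10163 F38605) (tt N13779 (iv F48428)) (tt N6082 F37256) (tt N5919 F37257) (tt N13839 D24090))
theorem Q9595 : ∀ i, i < 9595 → P i := stepQ 9594 Q9594 (allL N9594 (tt N9595 (iv F37260)) (tt N13797 (iv F48481)) (tt N12785 (iv F45626)) (tt N13522 (iv F47558)) (tt N6083 F37258) (tt N9591 F37259) (tt N5914 (iv D19765)))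
theorem Q9596 : ∀ i, i < 9596 → P i := stepQ 9595 Q9595 (allL N9595 (tt N9594 F37260) (tt N9192 F37265) (tt N8531 F37261) (tt N9231 F37262) (tt N6084 F37263) (tt N5915 (iv D19766)) (tt N9197 F37264))
theorem Q9597 : ∀ i, i < 9597 → P i := stepQ 9596 Q9596 (allL N9596 (tt N8658 F37266) (tt N5917 F37267) (tt N8871 F37270) (tt N5916 (iv D19767)) (tt N8657 F37268) (tt N13062 (iv F46343)) (tt N8751 F37269))
theorem Q9598 : ∀ i, i < 9598 → P i := stepQ 9597 Q9597 (allL N9597 (tt N5920 F37271) (tt N10934 (iv F40881)) (tt N5917 (iv D19768)) (tt N9543 F37272) (tt N13840 D24091) (tt N13841 D24092) (tt N13748 (iv F48338)))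
theorem Q9599 : ∀ i, i < 9599 → P i := stepQ 9598 Q9598 (allL N9598 (tt N5921 F37273) (tt N8657 F37274) (tt N13840 (iv F48591)) (tt N6086 F37275) (tt N5917 (iv D19769)) (tt N13842 D24093) (tt N13749 (iv F48342)))
theorem Q9600 : ∀ i, i < 9600 → P i := stepQ 9599 Q9599 (allL N9599 (tt N5922 F37276) (tt N13843 D24094) (tt N13841 (iv F48593)) (tt N5918 F37277) (tt N13842 (iv F48598)) (tt N5917 (iv D19770)) (tt N9514 F37278))
theorem Q9601 : ∀ i, i < 9601 → P i := stepQ 9600 Q9600 (allL N9600 (tt N13844 D24095) (tt N5918 (iv D19771)) (tt N13845 D24096) (tt N13843 (iv F48600)) (tt N6088 F37279) (tt N13370 (iv F47125)) (tt N13846 D24097))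
theorem Q9602 : ∀ i, i < 9602 → P i := stepQ 9601 Q9601 (allL N9601 (tt N5919 (iv D19772)) (tt N9394 (iv F37282)) (tt N10157 (iv F38586)) (tt N9403 F37280) (tt N6089 F37281) (tt N10164 (iv F38609)) (tt N13789 (iv F48463)))
theorem Q9603 : ∀ i, i < 9603 → P i := stepQ 9602 Q9602 (allL N9602 (tt N10157 F38589) (tt N13845 (iv F48602)) (tt N5919 (iv D19773)) (tt N13847 D24098) (tt N6090 F37283) (tt N10163 (iv F38604)) (tt N13848 D24099))
theorem Q9604 : ∀ i, i < 9604 → P i := stepQ 9603 Q9603 (allL N9603 (tt N13789 (iv F48460)) (tt N9518 F37284) (tt N13848 (iv F48606)) (tt N13745 (iv F48326)) (tt N6091 F37285) (tt N13632 F47950) (tt N5919 (iv D19774)))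
theorem Q9605 : ∀ i, i < 9605 → P i := stepQ 9604 Q9604 (allL N9604 (tt N13840 (iv F48590)) (tt N6318 F37286) (tt N5921 F37287) (tt N13849 D24100) (tt N5920 (iv D19775)) (tt N13850 D24101) (tt N13751 (iv F48347)))
theorem Q9606 : ∀ i, i < 9606 → P i := stepQ 9605 Q9605 (allL N9605 (tt N13841 (iv F48592)) (tt N13851 D24102) (tt N5922 F37288) (tt N11002 (iv F41038)) (tt N13850 (iv F48611)) (tt N5920 (iv D19776)) (tt N13852 D24103))
theorem Q9607 : ∀ i, i < 9607 → P i := stepQ 9606 Q9606 (allL N9606 (tt N13842 (iv F48596)) (tt N11652 (iv F42447)) (tt N13850 (iv F48610)) (tt N6094 F37289) (tt N5922 F37290) (tt N5921 (iv D19777)) (tt N13853 D24104))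
theorem Q9608 : ∀ i, i < 9608 → P i := stepQ 9607 Q9607 (allL N9607 (tt N9514 F37291) (tt N13854 D24105) (tt N13852 (iv F48614)) (tt N5923 F37292) (tt N13853 (iv F48618)) (tt N9511 F37293) (tt N5922 (iv D19778)))
theorem Q9609 : ∀ i, i < 9609 → P i := stepQ 9608 Q9608 (allL N9608 (tt N13855 D24106) (tt N5923 (iv D19779)) (tt N13856 D24107) (tt N13854 (iv F48620)) (tt N6096 F37294) (tt N13857 D24108) (tt N11656 (iv F42458)))
theorem Q9610 : ∀ i, i < 9610 → P i := stepQ 9609 Q9609 (allL N9609 (tt N13621 (iv F47915)) (tt N5924 (iv D19780)) (tt N13858 D24109) (tt N13629 (iv F47940)) (tt N6097 F37295) (tt N13859 D24110) (tt N13622 (iv F47921)))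
theorem Q9611 : ∀ i, i < 9611 → P i := stepQ 9610 Q9610 (allL N9610 (tt N5925 F37296) (tt N13860 D24111) (tt N5924 (iv D19781)) (tt N13861 D24112) (tt N6098 F37297) (tt N5929 F37298) (tt N9627 (iv F37335)))
theorem Q9612 : ∀ i, i < 9612 → P i := stepQ 9611 Q9611 (allL N9611 (tt N13861 (iv F48632)) (tt N11633 (iv F42413)) (tt N13862 D24113) (tt N5925 (iv D19782)) (tt N13863 D24114) (tt N5931 F37299) (tt N13864 D24115))
theorem Q9613 : ∀ i, i < 9613 → P i := stepQ 9612 Q9612 (allL N9612 (tt N9627 (iv F37332)) (tt N13865 D24116) (tt N5926 F37300) (tt N13864 (iv F48637)) (tt N6100 F37301) (tt N9623 (iv F37327)) (tt N5925 (iv D19783)))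
theorem Q9614 : ∀ i, i < 9614 → P i := stepQ 9613 Q9613 (allL N9613 (tt N13400 F47208) (tt N5926 (iv D19784)) (tt N11087 (iv F41223)) (tt N9581 F37302) (tt N6101 F37303) (tt N9537 F37304) (tt N5927 F37305))
theorem Q9615 : ∀ i, i < 9615 → P i := stepQ 9614 Q9614 (allL N9614 (tt N5927 (iv D19785)) (tt N13397 F47195) (tt N13866 D24117) (tt N13398 (iv F47196)) (tt N6102 F37306) (tt N13777 (iv F48425)) (tt N13400 (iv F47207)))
theorem Q9616 : ∀ i, i < 9616 → P i := stepQ 9615 Q9615 (allL N9615 (tt N13866 (iv F48641)) (tt N13856 (iv F48622)) (tt N5927 (iv D19786)) (tt N13867 D24118) (tt N6103 F37307) (tt N13868 D24119) (tt N11087 F41225))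
theorem Q9617 : ∀ i, i < 9617 → P i := stepQ 9616 Q9616 (allL N9616 (tt N13777 (iv F48420)) (tt N9509 F37308) (tt N13868 (iv F48646)) (tt N12819 (iv F45739)) (tt N6104 F37309) (tt N5927 (iv D19787)) (tt N13776 F48419))
theorem Q9618 : ∀ i, i < 9618 → P i := stepQ 9617 Q9617 (allL N9617 (tt N5928 (iv D19788)) (tt N9579 F37310) (tt N6366 (iv F37312)) (tt N13784 (iv F48445)) (tt N6105 F37311) (tt N12817 (iv F45731)) (tt N9146 (iv F37313)))
theorem Q9619 : ∀ i, i < 9619 → P i := stepQ 9618 Q9618 (allL N9618 (tt N6366 F37314) (tt N13869 D24120) (tt N5928 (iv D19789)) (tt N13870 D24121) (tt N6106 F37315) (tt N13871 D24122) (tt N13872 D24123))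
theorem Q9620 : ∀ i, i < 9620 → P i := stepQ 9619 Q9619 (allL N9619 (tt N12817 (iv F45733)) (tt N13859 (iv F48627)) (tt N13871 (iv F48654)) (tt N13785 (iv F48452)) (tt N6107 F37316) (tt N5928 (iv D19790)) (tt N13450 (iv F47336)))
theorem Q9621 : ∀ i, i < 9621 → P i := stepQ 9620 Q9620 (allL N9620 (tt N9146 F37317) (tt N9535 F37318) (tt N13872 (iv F48657)) (tt N9575 F37319) (tt N6108 F37320) (tt N9536 (iv F37321)) (tt N5928 (iv D19791)))
theorem Q9622 : ∀ i, i < 9622 → P i := stepQ 9621 Q9621 (allL N9621 (tt N13177 (iv F48671)) (tt N5929 (iv D19792)) (tt N13869 (iv F48650)) (tt N13175 (iv F48675)) (tt N6109 F37322) (tt N13873 D24126) (tt N13874 D24127))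
theorem Q9623 : ∀ i, i < 9623 → P i := stepQ 9622 Q9622 (allL N9622 (tt N5931 F37323) (tt N13175 (iv F48674)) (tt N13875 D24128) (tt N5929 (iv D19793)) (tt N13876 D24129) (tt N13861 (iv F48633)) (tt N13877 D24130))
theorem Q9624 : ∀ i, i < 9624 → P i := stepQ 9623 Q9623 (allL N9623 (tt N5932 F37324) (tt N13878 D24131) (tt N5930 F37325) (tt N13877 (iv F48681)) (tt N6111 F37326) (tt N9612 F37327) (tt N5929 (iv D19794)))
theorem Q9625 : ∀ i, i < 9625 → P i := stepQ 9624 Q9624 (allL N9624 (tt N13875 (iv F48666)) (tt N13879 D24132) (tt N5931 (iv D19795)) (tt N10991 (iv F41021)) (tt N13880 D24133) (tt N13862 (iv F48634)) (tt N13881 D24134))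
theorem Q9626 : ∀ i, i < 9626 → P i := stepQ 9625 Q9625 (allL N9625 (tt N13876 (iv F48678)) (tt N5941 F37328) (tt N13880 (iv F48689)) (tt N6114 F37329) (tt N5931 (iv D19796)) (tt N13863 (iv F48636)) (tt N13882 D24135))
theorem Q9627 : ∀ i, i < 9627 → P i := stepQ 9626 Q9626 (allL N9626 (tt N13877 (iv F48680)) (tt N9626 F37330) (tt N13881 (iv F48690)) (tt N5932 F37331) (tt N13882 (iv F48693)) (tt N13883 D24136) (tt N5931 (iv D19797)))
theorem Q9628 : ∀ i, i < 9628 → P i := stepQ 9627 Q9627 (allL N9627 (tt N9612 F37332) (tt N13884 D24137) (tt N5933 F37333) (tt N13883 (iv F48695)) (tt N6116 F37334) (tt N5932 (iv D19798)) (tt N9610 F37335))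
theorem Q9629 : ∀ i, i < 9629 → P i := stepQ 9628 Q9628 (allL N9628 (tt N13779 (iv F48427)) (tt N5933 (iv D19799)) (tt N13885 D24138) (tt N10164 F38610) (tt N6117 F37336) (tt N9403 F37337) (tt N13886 D24139))
theorem Q9630 : ∀ i, i < 9630 → P i := stepQ 9629 Q9629 (allL N9629 (tt N5934 (iv D19800)) (tt N13887 D24140) (tt N6360 F37338) (tt N13888 D24141) (tt N6120 F37339) (tt N13889 D24142) (tt N13890 D24143))
theorem Q9631 : ∀ i, i < 9631 → P i := stepQ 9630 Q9630 (allL N9630 (tt N13888 (iv F48706)) (tt N5935 F37340) (tt N13891 D24144) (tt N5934 (iv D19801)) (tt N13892 D24145) (tt N13893 D24146) (tt N13894 D24147))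
theorem Q9632 : ∀ i, i < 9632 → P i := stepQ 9631 Q9631 (allL N9631 (tt N13889 (iv F48707)) (tt N9631 F37365) (tt N6357 F37366) (tt N13893 (iv F48717)) (tt N6122 F37367) (tt N5934 (iv D19802)) (tt N9891 (iv F37919)))
theorem Q9633 : ∀ i, i < 9633 → P i := stepQ 9632 Q9632 (allL N9632 (tt N13890 (iv F48710)) (tt N11574 (iv F42276)) (tt N6361 F37368) (tt N13894 (iv F48718)) (tt N6123 F37369) (tt N13895 D24148) (tt N5934 (iv D19803)))
theorem Q9634 : ∀ i, i < 9634 → P i := stepQ 9633 Q9633 (allL N9633 (tt N5937 F37370) (tt N13892 (iv F48714)) (tt N9648 (iv F37402)) (tt N6124 F37371) (tt N5935 (iv D19804)) (tt N9633 F37372) (tt N11575 (iv F42281)))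
theorem Q9635 : ∀ i, i < 9635 → P i := stepQ 9634 Q9634 (allL N9634 (tt N13896 D24149) (tt N5936 (iv D19805)) (tt N13830 (iv F48567)) (tt N9643 (iv F37391)) (tt N13897 D24150) (tt N13898 D24151) (tt N13899 D24152))
theorem Q9636 : ∀ i, i < 9636 → P i := stepQ 9635 Q9635 (allL N9635 (tt N9648 (iv F37401)) (tt N13897 (iv F48723)) (tt N5937 F37373) (tt N8819 F37374) (tt N5936 (iv D19806)) (tt N9635 F37375) (tt N11586 (iv F42303)))
theorem Q9637 : ∀ i, i < 9637 → P i := stepQ 9636 Q9636 (allL N9636 (tt N5938 (iv D19807)) (tt N13900 D24153) (tt N6340 F37376) (tt N13901 D24154) (tt N6129 F37377) (tt N13902 D24155) (tt N13903 D24156))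
theorem Q9638 : ∀ i, i < 9638 → P i := stepQ 9637 Q9637 (allL N9637 (tt N13901 (iv F48727)) (tt N5939 F37378) (tt N13904 D24157) (tt N5938 (iv D19808)) (tt N13905 D24158) (tt N13906 D24159) (tt N13907 D24160))
theorem Q9639 : ∀ i, i < 9639 → P i := stepQ 9638 Q9638 (allL N9638 (tt N13902 (iv F48728)) (tt N11625 (iv F42393)) (tt N6341 F37379) (tt N13906 (iv F48738)) (tt N6131 F37380) (tt N5938 (iv D19809)) (tt N13908 D24161))
theorem Q9640 : ∀ i, i < 9640 → P i := stepQ 9639 Q9639 (allL N9639 (tt N13903 (iv F48732)) (tt N9639 F37381) (tt N6338 F37382) (tt N13907 (iv F48740)) (tt N6132 F37383) (tt N9882 (iv F37899)) (tt N5938 (iv D19810)))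
theorem Q9641 : ∀ i, i < 9641 → P i := stepQ 9640 Q9640 (allL N9640 (tt N5941 F37384) (tt N13905 (iv F48735)) (tt N9653 (iv F37417)) (tt N6133 F37385) (tt N5939 (iv D19811)) (tt N11627 (iv F42401)) (tt N9640 F37386))
theorem Q9642 : ∀ i, i < 9642 → P i := stepQ 9641 Q9641 (allL N9641 (tt N13909 D24162) (tt N5940 (iv D19812)) (tt N13879 (iv F48688)) (tt N9649 (iv F37406)) (tt N13910 D24163) (tt N13911 D24164) (tt N13912 D24165))
theorem Q9643 : ∀ i, i < 9643 → P i := stepQ 9642 Q9642 (allL N9642 (tt N9653 (iv F37416)) (tt N13910 (iv F48747)) (tt N5941 F37387) (tt N8856 F37388) (tt N5940 (iv D19813)) (tt N11638 (iv F42424)) (tt N9642 F37389))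
theorem Q9644 : ∀ i, i < 9644 → P i := stepQ 9643 Q9643 (allL N9643 (tt N13913 D24166) (tt N5942 (iv D19814)) (tt N7437 F37390) (tt N9634 F37391) (tt N8865 F37392) (tt N13914 D24167) (tt N13915 D24168))
theorem Q9645 : ∀ i, i < 9645 → P i := stepQ 9644 Q9644 (allL N9644 (tt N5943 (iv D19815)) (tt N11056 F58172) (tt N9644 F37393) (tt N13916 D24170) (tt N8866 F37394) (tt N13917 D24171) (tt N9652 (iv F61378)))
theorem Q9646 : ∀ i, i < 9646 → P i := stepQ 9645 Q9645 (allL N9645 (tt N13916 (iv F48761)) (tt N5944 F37395) (tt N13918 D24173) (tt N5943 (iv D19816)) (tt N13919 D24174) (tt N13920 D24175) (tt N13921 D24176))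
theorem Q9647 : ∀ i, i < 9647 → P i := stepQ 9646 Q9646 (allL N9646 (tt N13917 (iv F48762)) (tt N9646 F37396) (tt N9646 F37397) (tt N13920 (iv F48772)) (tt N8868 F37398) (tt N5943 (iv D19817)) (tt N5946 (iv F61379)))
theorem Q9648 : ∀ i, i < 9648 → P i := stepQ 9647 Q9647 (allL N9647 (tt N9652 (iv F61377)) (tt N11671 (iv F42481)) (tt N9647 F37399) (tt N13921 (iv F48773)) (tt N8869 F37400) (tt N9650 (iv F61380)) (tt N5943 (iv D19818)))
theorem Q9649 : ∀ i, i < 9649 → P i := stepQ 9648 Q9648 (allL N9648 (tt N9635 F37401) (tt N13919 (iv F48769)) (tt N9633 F37402) (tt N8870 F37403) (tt N5944 (iv D19819)) (tt N9648 F37404) (tt N11672 (iv F42485)))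
theorem Q9650 : ∀ i, i < 9650 → P i := stepQ 9649 Q9649 (allL N9649 (tt N13922 D24179) (tt N5945 (iv D19820)) (tt N7433 F37405) (tt N9641 F37406) (tt N8879 F37407) (tt N13923 D24180) (tt N13924 D24181))
theorem Q9651 : ∀ i, i < 9651 → P i := stepQ 9650 Q9650 (allL N9650 (tt N5946 (iv D19821)) (tt N11094 F58272) (tt N9650 F37408) (tt N13925 D24183) (tt N8880 F37409) (tt N9647 F61380) (tt N13917 F61381))
theorem Q9652 : ∀ i, i < 9652 → P i := stepQ 9651 Q9651 (allL N9651 (tt N13925 (iv F48792)) (tt N5947 F37410) (tt N13926 D24186) (tt N5946 (iv D19822)) (tt N13927 D24187) (tt N13928 D24188) (tt N13920 F61388))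
theorem Q9653 : ∀ i, i < 9653 → P i := stepQ 9652 Q9652 (allL N9652 (tt N9647 F61377) (tt N11677 (iv F42491)) (tt N9652 F37411) (tt N13928 (iv F48802)) (tt N8882 F37412) (tt N5946 (iv D19823)) (tt N9644 F61378))
theorem Q9654 : ∀ i, i < 9654 → P i := stepQ 9653 Q9653 (allL N9653 (tt N9642 F37416) (tt N13927 (iv F48800)) (tt N9640 F37417) (tt N8883 F37418) (tt N5947 (iv D19825)) (tt N11679 (iv F42494)) (tt N9653 F37419))
theorem Q9655 : ∀ i, i < 9655 → P i := stepQ 9654 Q9654 (allL N9654 (tt N9142 F37420) (tt N5950 (iv D19826)) (tt N10532 (iv F39387)) (tt N8571 F37421) (tt N9536 F37422) (tt N6108 F37423) (tt N8573 F37424))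
theorem Q9656 : ∀ i, i < 9656 → P i := stepQ 9655 Q9655 (allL N9655 (tt N9089 F37425) (tt N5951 (iv D19827)) (tt N10487 (iv F39294)) (tt N8580 F37426) (tt N9549 F37427) (tt N8582 F37428) (tt N6069 F37429))
theorem Q9657 : ∀ i, i < 9657 → P i := stepQ 9656 Q9656 (allL N9656 (tt N5953 (iv D19828)) (tt N13929 D24192) (tt N12356 F44312) (tt N5968 F37430) (tt N9666 (iv F37460)) (tt N9662 (iv F37450)) (tt N5954 F37431))
theorem Q9658 : ∀ i, i < 9658 → P i := stepQ 9657 Q9657 (allL N9657 (tt N12356 (iv F44308)) (tt N10598 (iv F39925)) (tt N5953 (iv D19829)) (tt N12769 (iv F45572)) (tt N9668 (iv F37464)) (tt N10733 (iv F40301)) (tt N5955 F37432))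
theorem Q9659 : ∀ i, i < 9659 → P i := stepQ 9658 Q9658 (allL N9658 (tt N9662 (iv F37448)) (tt N9731 (iv F37604)) (tt N10733 (iv F40298)) (tt N5970 F37433) (tt N9669 (iv F37467)) (tt N5953 (iv D19830)) (tt N9659 (iv F37438)))
theorem Q9660 : ∀ i, i < 9660 → P i := stepQ 9659 Q9659 (allL N9659 (tt N5956 F37436) (tt N13691 (iv F48145)) (tt N12365 (iv F44338)) (tt N5973 F37437) (tt N9663 (iv F37452)) (tt N5954 (iv D19833)) (tt N9658 F37438))
theorem Q9661 : ∀ i, i < 9661 → P i := stepQ 9660 Q9660 (allL N9660 (tt N12364 (iv F44336)) (tt N9667 (iv F37462)) (tt N13930 D24193) (tt N5955 (iv D19834)) (tt N13931 D24194) (tt N8513 (iv F39441)) (tt N12769 (iv F45574)))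
theorem Q9662 : ∀ i, i < 9662 → P i := stepQ 9661 Q9661 (allL N9661 (tt N12365 (iv F44337)) (tt N10544 F39433) (tt N5956 F37447) (tt N8513 (iv F39434)) (tt N9664 (iv F37454)) (tt N5955 (iv D19835)) (tt N8482 (iv F39435)))
theorem Q9663 : ∀ i, i < 9663 → P i := stepQ 9662 Q9662 (allL N9662 (tt N9658 F37448) (tt N13494 (iv F47466)) (tt N8482 F39436) (tt N5976 F37449) (tt N9665 (iv F37457)) (tt N9656 F37450) (tt N5956 (iv D19836)))
theorem Q9664 : ∀ i, i < 9664 → P i := stepQ 9663 Q9663 (allL N9663 (tt N5958 (iv D19837)) (tt N13932 D24195) (tt N12401 F44474) (tt N5983 F37451) (tt N9659 F37452) (tt N5959 F37453) (tt N9669 (iv F37468)))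
theorem Q9665 : ∀ i, i < 9665 → P i := stepQ 9664 Q9664 (allL N9664 (tt N12401 (iv F44469)) (tt N10543 F39427) (tt N5958 (iv D19838)) (tt N12794 (iv F45656)) (tt N9661 F37454) (tt N5960 F37455) (tt N10648 (iv F40079)))
theorem Q9666 : ∀ i, i < 9666 → P i := stepQ 9665 Q9665 (allL N9665 (tt N9669 (iv F37465)) (tt N9751 (iv F37650)) (tt N10648 (iv F40076)) (tt N5985 F37456) (tt N9662 F37457) (tt N9666 (iv F37461)) (tt N5958 (iv D19839)))
theorem Q9667 : ∀ i, i < 9667 → P i := stepQ 9666 Q9666 (allL N9666 (tt N5961 F37458) (tt N13682 (iv F48111)) (tt N12406 (iv F44489)) (tt N5988 F37459) (tt N9656 F37460) (tt N9665 F37461) (tt N5959 (iv D19840)))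
theorem Q9668 : ∀ i, i < 9668 → P i := stepQ 9667 Q9667 (allL N9667 (tt N12405 (iv F44484)) (tt N9660 F37462) (tt N13933 D24196) (tt N5960 (iv D19841)) (tt N13934 D24197) (tt N12794 (iv F45657)) (tt N8542 F39440))
theorem Q9669 : ∀ i, i < 9669 → P i := stepQ 9668 Q9668 (allL N9668 (tt N12406 (iv F44487)) (tt N10599 (iv F39927)) (tt N5961 F37463) (tt N8542 (iv F39439)) (tt N9657 F37464) (tt N8490 F39437) (tt N5960 (iv D19842)))
theorem Q9670 : ∀ i, i < 9670 → P i := stepQ 9669 Q9669 (allL N9669 (tt N9665 F37465) (tt N13523 (iv F47561)) (tt N8490 (iv F39438)) (tt N5991 F37466) (tt N9658 F37467) (tt N5961 (iv D19843)) (tt N9663 F37468))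
theorem Q9671 : ∀ i, i < 9671 → P i := stepQ 9670 Q9670 (allL N9670 (tt N13292 (iv F46907)) (tt N9788 (iv F37727)) (tt N9088 F37469) (tt N8965 F37470) (tt N13722 (iv F48267)) (tt N9413 F37471) (tt N5963 (iv D19844)))
theorem Q9672 : ∀ i, i < 9672 → P i := stepQ 9671 Q9671 (allL N9671 (tt N5965 F37472) (tt N8704 F37473) (tt N8220 F37474) (tt N13724 (iv F48274)) (tt N5964 (iv D19845)) (tt N6048 F37475) (tt N9784 (iv F37723)))
theorem Q9673 : ∀ i, i < 9673 → P i := stepQ 9672 Q9672 (allL N9672 (tt N9784 (iv F37721)) (tt N13935 D24198) (tt N8221 F37476) (tt N13728 (iv F48282)) (tt N5966 F37477) (tt N9774 (iv F37704)) (tt N5965 (iv D19846)))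
theorem Q9674 : ∀ i, i < 9674 → P i := stepQ 9673 Q9673 (allL N9673 (tt N12793 F45654) (tt N5966 (iv D19847)) (tt N12492 (iv F44734)) (tt N5967 F37478) (tt N13935 (iv F48830)) (tt N13936 D24199) (tt N6420 F37479))
theorem Q9675 : ∀ i, i < 9675 → P i := stepQ 9674 Q9674 (allL N9674 (tt N5967 (iv D19848)) (tt N11999 (iv F43342)) (tt N13937 D24200) (tt N12793 (iv F45650)) (tt N13730 (iv F48286)) (tt N10321 (iv F38937)) (tt N6421 F37480))
theorem Q9676 : ∀ i, i < 9676 → P i := stepQ 9675 Q9675 (allL N9675 (tt N13937 (iv F48837)) (tt N5969 F37481) (tt N5967 (iv D19849)) (tt N12427 F44560) (tt N13731 (iv F48289)) (tt N12430 (iv F44567)) (tt N6422 F37482))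
theorem Q9677 : ∀ i, i < 9677 → P i := stepQ 9676 Q9676 (allL N9676 (tt N10321 (iv F38936)) (tt N9777 (iv F37706)) (tt N12430 F44569) (tt N13936 (iv F48835)) (tt N13732 (iv F48291)) (tt N5967 (iv D19850)) (tt N10319 (iv F38928)))
theorem Q9678 : ∀ i, i < 9678 → P i := stepQ 9677 Q9677 (allL N9677 (tt N10298 (iv F38871)) (tt N5968 (iv D19851)) (tt N11828 F42905) (tt N13929 (iv F48814)) (tt N13733 (iv F48294)) (tt N9845 (iv F37828)) (tt N13938 D24201))
theorem Q9679 : ∀ i, i < 9679 → P i := stepQ 9678 Q9678 (allL N9678 (tt N5969 F37483) (tt N11834 (iv F42907)) (tt N5968 (iv D19852)) (tt N13939 D24202) (tt N13734 (iv F48297)) (tt N9690 (iv F37499)) (tt N5972 F37484))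
theorem Q9680 : ∀ i, i < 9680 → P i := stepQ 9679 Q9679 (allL N9679 (tt N13939 (iv F48844)) (tt N12427 (iv F44556)) (tt N12426 F44555) (tt N5969 (iv D19853)) (tt N12471 (iv F44679)) (tt N13940 D24203) (tt N5974 F37485))
theorem Q9681 : ∀ i, i < 9681 → P i := stepQ 9680 Q9680 (allL N9680 (tt N9690 (iv F37497)) (tt N13941 D24204) (tt N5970 F37486) (tt N13940 (iv F48848)) (tt N13736 (iv F48303)) (tt N5969 (iv D19854)) (tt N9686 (iv F37494)))
theorem Q9682 : ∀ i, i < 9682 → P i := stepQ 9681 Q9681 (allL N9681 (tt N5971 (iv D19855)) (tt N9703 (iv F37520)) (tt N13942 D24205) (tt N12432 F44572) (tt N13737 (iv F48304)) (tt N13710 (iv F48228)) (tt N9483 (iv F37487)))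
theorem Q9683 : ∀ i, i < 9683 → P i := stepQ 9682 Q9682 (allL N9682 (tt N13942 (iv F48854)) (tt N13943 D24206) (tt N5971 (iv D19856)) (tt N13944 D24207) (tt N13738 (iv F48306)) (tt N13716 F48248) (tt N13945 D24208))
theorem Q9684 : ∀ i, i < 9684 → P i := stepQ 9683 Q9683 (allL N9683 (tt N9483 F37488) (tt N13938 (iv F48841)) (tt N13945 (iv F48862)) (tt N8156 F37489) (tt N13739 (iv F48309)) (tt N9486 F37490) (tt N5971 (iv D19857)))
theorem Q9685 : ∀ i, i < 9685 → P i := stepQ 9684 Q9684 (allL N9684 (tt N13946 D24209) (tt N5972 (iv D19858)) (tt N13943 (iv F48857)) (tt N13947 D24210) (tt N13740 (iv F48311)) (tt N13948 D24211) (tt N11877 (iv F43022)))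
theorem Q9686 : ∀ i, i < 9686 → P i := stepQ 9685 Q9685 (allL N9685 (tt N5974 F37491) (tt N13947 (iv F48865)) (tt N13949 D24212) (tt N5972 (iv D19859)) (tt N13950 D24213) (tt N13951 D24214) (tt N13939 (iv F48845)))
theorem Q9687 : ∀ i, i < 9687 → P i := stepQ 9686 Q9686 (allL N9686 (tt N5975 F37492) (tt N13952 D24215) (tt N5973 F37493) (tt N13951 (iv F48871)) (tt N13742 (iv F48317)) (tt N5972 (iv D19860)) (tt N9680 F37494))
theorem Q9688 : ∀ i, i < 9688 → P i := stepQ 9687 Q9687 (allL N9687 (tt N13949 (iv F48866)) (tt N10583 F39879) (tt N5974 (iv D19861)) (tt N13953 D24216) (tt N13954 D24217) (tt N13955 D24218) (tt N12426 (iv F44554)))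
theorem Q9689 : ∀ i, i < 9689 → P i := stepQ 9688 Q9688 (allL N9688 (tt N13950 (iv F48868)) (tt N6433 F37495) (tt N13954 (iv F48877)) (tt N8541 (iv F39823)) (tt N5974 (iv D19862)) (tt N13956 D24219) (tt N12471 (iv F44681)))
theorem Q9690 : ∀ i, i < 9690 → P i := stepQ 9689 Q9689 (allL N9689 (tt N13951 (iv F48870)) (tt N11957 (iv F43235)) (tt N13955 (iv F48880)) (tt N5975 F37496) (tt N13956 (iv F48883)) (tt N5974 (iv D19863)) (tt N13957 D24220))
theorem Q9691 : ∀ i, i < 9691 → P i := stepQ 9690 Q9690 (allL N9690 (tt N9680 F37497) (tt N13958 D24221) (tt N5976 F37498) (tt N13957 (iv F48885)) (tt N13744 (iv F48324)) (tt N9678 F37499) (tt N5975 (iv D19864)))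
theorem Q9692 : ∀ i, i < 9692 → P i := stepQ 9691 Q9691 (allL N9691 (tt N9482 (iv F37501)) (tt N5976 (iv D19865)) (tt N12166 (iv F43812)) (tt N13494 (iv F47462)) (tt N13745 (iv F48327)) (tt N9877 (iv F37888)) (tt N7572 F37500))
theorem Q9693 : ∀ i, i < 9693 → P i := stepQ 9692 Q9692 (allL N9692 (tt N13352 (iv F47081)) (tt N9841 (iv F37823)) (tt N9144 F37502) (tt N9033 F37503) (tt N13747 (iv F48334)) (tt N5978 (iv D19866)) (tt N9414 F37504))
theorem Q9694 : ∀ i, i < 9694 → P i := stepQ 9693 Q9693 (allL N9693 (tt N5980 F37505) (tt N8750 F37506) (tt N8222 F37507) (tt N13749 (iv F48341)) (tt N5979 (iv D19867)) (tt N9837 (iv F37819)) (tt N6086 F37508))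
theorem Q9695 : ∀ i, i < 9695 → P i := stepQ 9694 Q9694 (allL N9694 (tt N9837 (iv F37817)) (tt N13959 D24222) (tt N8223 F37509) (tt N13753 (iv F48349)) (tt N5981 F37510) (tt N5980 (iv D19868)) (tt N9828 (iv F37803)))
theorem Q9696 : ∀ i, i < 9696 → P i := stepQ 9695 Q9695 (allL N9695 (tt N12768 (iv F45568)) (tt N5981 (iv D19869)) (tt N12456 (iv F44631)) (tt N5982 F37511) (tt N13959 (iv F48888)) (tt N6451 F37512) (tt N13960 D24223))
theorem Q9697 : ∀ i, i < 9697 → P i := stepQ 9696 Q9696 (allL N9696 (tt N5982 (iv D19870)) (tt N12189 (iv F43878)) (tt N13961 D24224) (tt N12768 (iv F45566)) (tt N13755 (iv F48353)) (tt N6452 F37513) (tt N10358 (iv F39016)))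
theorem Q9698 : ∀ i, i < 9698 → P i := stepQ 9697 Q9697 (allL N9697 (tt N13961 (iv F48895)) (tt N5984 F37514) (tt N5982 (iv D19871)) (tt N12413 (iv F44510)) (tt N13756 (iv F48356)) (tt N6453 F37515) (tt N12416 (iv F44520)))
theorem Q9699 : ∀ i, i < 9699 → P i := stepQ 9698 Q9698 (allL N9698 (tt N10358 (iv F39015)) (tt N9831 (iv F37805)) (tt N12416 F44521) (tt N13960 (iv F48893)) (tt N13757 (iv F48358)) (tt N10356 (iv F39007)) (tt N5982 (iv D19872)))
theorem Q9700 : ∀ i, i < 9700 → P i := stepQ 9699 Q9699 (allL N9699 (tt N10300 (iv F38875)) (tt N5983 (iv D19873)) (tt N12040 (iv F43450)) (tt N13932 (iv F48822)) (tt N13758 (iv F48361)) (tt N13962 D24225) (tt N9791 F37731))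
theorem Q9701 : ∀ i, i < 9701 → P i := stepQ 9700 Q9700 (allL N9700 (tt N5984 F37516) (tt N12048 (iv F43449)) (tt N5983 (iv D19874)) (tt N13963 D24226) (tt N13759 (iv F48364)) (tt N5987 F37517) (tt N9712 (iv F37533)))
theorem Q9702 : ∀ i, i < 9702 → P i := stepQ 9701 Q9701 (allL N9701 (tt N13963 (iv F48902)) (tt N12413 (iv F44508)) (tt N12471 (iv F44678)) (tt N5984 (iv D19875)) (tt N12426 (iv F44552)) (tt N5989 F37518) (tt N13954 (iv F48878)))
theorem Q9703 : ∀ i, i < 9703 → P i := stepQ 9702 Q9702 (allL N9702 (tt N9712 (iv F37531)) (tt N13964 D24227) (tt N5985 F37519) (tt N13954 F48879) (tt N13761 (iv F48370)) (tt N9708 (iv F37528)) (tt N5984 (iv D19876)))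
theorem Q9704 : ∀ i, i < 9704 → P i := stepQ 9703 Q9703 (allL N9703 (tt N5986 (iv D19877)) (tt N9681 F37520) (tt N13944 (iv F48859)) (tt N12473 F44691) (tt N13762 (iv F48373)) (tt N9476 F37521) (tt N13711 (iv F48232)))
theorem Q9705 : ∀ i, i < 9705 → P i := stepQ 9704 Q9704 (allL N9704 (tt N13944 (iv F48858)) (tt N13965 D24228) (tt N5986 (iv D19878)) (tt N13942 (iv F48856)) (tt N13763 (iv F48375)) (tt N13966 D24229) (tt N13712 F48234))
theorem Q9706 : ∀ i, i < 9706 → P i := stepQ 9705 Q9705 (allL N9705 (tt N9476 F37522) (tt N13962 (iv F48899)) (tt N13966 (iv F48910)) (tt N8186 F37523) (tt N13764 (iv F48378)) (tt N5986 (iv D19879)) (tt N9478 F37524))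
theorem Q9707 : ∀ i, i < 9707 → P i := stepQ 9706 Q9706 (allL N9706 (tt N13967 D24230) (tt N5987 (iv D19880)) (tt N13965 (iv F48908)) (tt N13968 D24231) (tt N13765 (iv F48380)) (tt N12086 (iv F43565)) (tt N13969 D24232))
theorem Q9708 : ∀ i, i < 9708 → P i := stepQ 9707 Q9707 (allL N9707 (tt N5989 F37525) (tt N13968 (iv F48913)) (tt N13970 D24233) (tt N5987 (iv D19881)) (tt N13971 D24234) (tt N13963 (iv F48903)) (tt N13972 D24235))
theorem Q9709 : ∀ i, i < 9709 → P i := stepQ 9708 Q9708 (allL N9708 (tt N5990 F37526) (tt N13973 D24236) (tt N5988 F37527) (tt N13972 (iv F48924)) (tt N13767 (iv F48386)) (tt N9702 F37528) (tt N5987 (iv D19882)))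
theorem Q9710 : ∀ i, i < 9710 → P i := stepQ 9709 Q9709 (allL N9709 (tt N13970 (iv F48914)) (tt N10632 F40032) (tt N5989 (iv D19883)) (tt N13974 D24237) (tt N13940 (iv F48849)) (tt N12471 (iv F44680)) (tt N13975 D24238))
theorem Q9711 : ∀ i, i < 9711 → P i := stepQ 9710 Q9710 (allL N9710 (tt N13971 (iv F48918)) (tt N6464 F37529) (tt N13940 (iv F48847)) (tt N8512 (iv F39800)) (tt N5989 (iv D19884)) (tt N12426 (iv F44553)) (tt N13976 D24239))
theorem Q9712 : ∀ i, i < 9712 → P i := stepQ 9711 Q9711 (allL N9711 (tt N13972 (iv F48922)) (tt N12160 (iv F43788)) (tt N13975 (iv F48931)) (tt N5990 F37530) (tt N13976 (iv F48938)) (tt N13977 D24240) (tt N5989 (iv D19885)))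
theorem Q9713 : ∀ i, i < 9713 → P i := stepQ 9712 Q9712 (allL N9712 (tt N9702 F37531) (tt N13978 D24241) (tt N5991 F37532) (tt N13977 (iv F48942)) (tt N13769 (iv F48393)) (tt N5990 (iv D19886)) (tt N9700 F37533))
theorem Q9714 : ∀ i, i < 9714 → P i := stepQ 9713 Q9713 (allL N9713 (tt N9490 (iv F37535)) (tt N5991 (iv D19887)) (tt N11963 (iv F43259)) (tt N13523 (iv F47563)) (tt N13770 (iv F48396)) (tt N7527 F37534) (tt N9824 (iv F37791)))
theorem Q9715 : ∀ i, i < 9715 → P i := stepQ 9714 Q9714 (allL N9714 (tt N9474 (iv F37540)) (tt N5998 (iv D19888)) (tt N6789 F37536) (tt N7527 F37537) (tt N6011 F37538) (tt N13523 (iv F47565)) (tt N9194 F37539))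
theorem Q9716 : ∀ i, i < 9716 → P i := stepQ 9715 Q9715 (allL N9715 (tt N6000 (iv D19889)) (tt N13686 (iv F48126)) (tt N13979 D24242) (tt N6482 F37547) (tt N6016 F37548) (tt N6481 F37550) (tt N6001 F37549))
theorem Q9717 : ∀ i, i < 9717 → P i := stepQ 9716 Q9716 (allL N9716 (tt N13979 (iv F48946)) (tt N12387 (iv F44420)) (tt N6000 (iv D19890)) (tt N10331 (iv F39558)) (tt N6017 F37551) (tt N11878 (iv F43025)) (tt N6002 F37552))
theorem Q9718 : ∀ i, i < 9718 → P i := stepQ 9717 Q9717 (allL N9717 (tt N6481 F37553) (tt N8576 F37554) (tt N11878 (iv F43024)) (tt N6479 F37555) (tt N6018 F37556) (tt N6000 (iv D19891)) (tt N9720 (iv F37564)))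
theorem Q9719 : ∀ i, i < 9719 → P i := stepQ 9718 Q9718 (allL N9718 (tt N12495 (iv F44748)) (tt N6001 (iv D19892)) (tt N12497 (iv F44756)) (tt N7599 F37557) (tt N6020 F37558) (tt N9760 (iv F37674)) (tt N12494 F44747))
theorem Q9720 : ∀ i, i < 9720 → P i := stepQ 9719 Q9719 (allL N9719 (tt N6002 F37559) (tt N13980 D24243) (tt N6001 (iv D19893)) (tt N10329 F39811) (tt N6021 F37560) (tt N13981 D24244) (tt N13979 (iv F48949)))
theorem Q9721 : ∀ i, i < 9721 → P i := stepQ 9720 Q9720 (allL N9720 (tt N6003 F37561) (tt N6038 (iv F37565)) (tt N13981 (iv F48952)) (tt N6112 F37562) (tt N6022 F37563) (tt N6001 (iv D19894)) (tt N9717 F37564))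
theorem Q9722 : ∀ i, i < 9722 → P i := stepQ 9721 Q9721 (allL N9721 (tt N13981 (iv F48951)) (tt N13982 D24245) (tt N6003 F37566) (tt N10330 F39813) (tt N6024 F37567) (tt N6002 (iv D19896)) (tt N10383 (iv F39069)))
theorem Q9723 : ∀ i, i < 9723 → P i := stepQ 9722 Q9722 (allL N9722 (tt N9469 (iv F37572)) (tt N6004 (iv D19897)) (tt N6713 F37568) (tt N7572 F37569) (tt N6027 F37570) (tt N9232 F37571) (tt N13494 (iv F47464)))
theorem Q9724 : ∀ i, i < 9724 → P i := stepQ 9723 Q9723 (allL N9723 (tt N6006 (iv D19898)) (tt N13677 (iv F48092)) (tt N13983 D24246) (tt N6515 F37579) (tt N6032 F37580) (tt N6007 F37581) (tt N6514 (iv F37582)))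
theorem Q9725 : ∀ i, i < 9725 → P i := stepQ 9724 Q9724 (allL N9724 (tt N13983 (iv F48961)) (tt N12340 (iv F44252)) (tt N6006 (iv D19899)) (tt N10365 (iv F39802)) (tt N6033 F37583) (tt N6008 F37584) (tt N12087 (iv F43568)))
theorem Q9726 : ∀ i, i < 9726 → P i := stepQ 9725 Q9725 (allL N9725 (tt N6514 F37585) (tt N8585 F37586) (tt N12087 (iv F43567)) (tt N6513 F37587) (tt N6034 F37588) (tt N9728 (iv F37596)) (tt N6006 (iv D19900)))
theorem Q9727 : ∀ i, i < 9727 → P i := stepQ 9726 Q9726 (allL N9726 (tt N12461 (iv F44650)) (tt N6007 (iv D19901)) (tt N12463 (iv F44657)) (tt N7554 F37589) (tt N6036 F37590) (tt N12460 (iv F44649)) (tt N9740 (iv F37628)))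
theorem Q9728 : ∀ i, i < 9728 → P i := stepQ 9727 Q9727 (allL N9727 (tt N6008 F37591) (tt N13984 D24247) (tt N6007 (iv D19902)) (tt N10364 (iv F39801)) (tt N6037 F37592) (tt N13983 (iv F48963)) (tt N13985 D24248))
theorem Q9729 : ∀ i, i < 9729 → P i := stepQ 9728 Q9728 (allL N9728 (tt N6009 F37593) (tt N6022 (iv F37597)) (tt N13985 (iv F48967)) (tt N6074 F37594) (tt N6038 F37595) (tt N9725 F37596) (tt N6007 (iv D19903)))
theorem Q9730 : ∀ i, i < 9730 → P i := stepQ 9729 Q9729 (allL N9729 (tt N13985 (iv F48966)) (tt N13986 D24249) (tt N6009 F37598) (tt N10366 (iv F39803)) (tt N6040 F37599) (tt N10417 (iv F39147)) (tt N6008 (iv D19905)))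
theorem Q9731 : ∀ i, i < 9731 → P i := stepQ 9730 Q9730 (allL N9730 (tt N6011 (iv D19906)) (tt N9464 (iv F37603)) (tt N6790 F37600) (tt N6051 F37601) (tt N9474 F37602) (tt N13498 (iv F47483)) (tt N10381 (iv F39061)))
theorem Q9732 : ∀ i, i < 9732 → P i := stepQ 9731 Q9731 (allL N9731 (tt N13498 (iv F47480)) (tt N9658 F37604) (tt N6786 F37605) (tt N6053 F37606) (tt N13523 (iv F47564)) (tt N6011 (iv D19907)) (tt N13689 F48142))
theorem Q9733 : ∀ i, i < 9733 → P i := stepQ 9732 Q9732 (allL N9732 (tt N12831 (iv F45767)) (tt N13987 D24250) (tt N8615 F37607) (tt N12595 (iv F45069)) (tt N6013 F37608) (tt N8614 F37609) (tt N6012 (iv D19908)))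
theorem Q9734 : ∀ i, i < 9734 → P i := stepQ 9733 Q9733 (allL N9733 (tt N12397 (iv F44454)) (tt N6013 (iv D19909)) (tt N10802 (iv F40495)) (tt N6014 F37610) (tt N13987 (iv F48978)) (tt N10801 F40493) (tt N8339 F37611))
theorem Q9735 : ∀ i, i < 9735 → P i := stepQ 9734 Q9734 (allL N9734 (tt N6827 F37612) (tt N6017 F37613) (tt N6014 (iv D19910)) (tt N12807 (iv F45698)) (tt N12387 (iv F44423)) (tt N10804 (iv F40501)) (tt N6849 F37614))
theorem Q9736 : ∀ i, i < 9736 → P i := stepQ 9735 Q9735 (allL N9735 (tt N12398 (iv F44458)) (tt N9755 (iv F37661)) (tt N10804 (iv F40500)) (tt N10801 F40492) (tt N8117 F37615) (tt N6014 (iv D19911)) (tt N8115 F37616))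
theorem Q9737 : ∀ i, i < 9737 → P i := stepQ 9736 Q9736 (allL N9736 (tt N13674 (iv F48080)) (tt N6016 (iv D19912)) (tt N13988 D24251) (tt N6059 F37617) (tt N13686 (iv F48128)) (tt N13675 (iv F48089)) (tt N12820 (iv F45747)))
theorem Q9738 : ∀ i, i < 9738 → P i := stepQ 9737 Q9737 (allL N9737 (tt N6017 F37618) (tt N13989 D24252) (tt N6016 (iv D19913)) (tt N13990 D24253) (tt N13979 (iv F48947)) (tt N6822 F37619) (tt N6021 F37620))
theorem Q9739 : ∀ i, i < 9739 → P i := stepQ 9738 Q9738 (allL N9738 (tt N13990 (iv F48985)) (tt N12807 (iv F45696)) (tt N12806 F45694) (tt N6017 (iv D19914)) (tt N13991 D24254) (tt N13396 (iv F47190)) (tt N6023 F37621))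
theorem Q9740 : ∀ i, i < 9740 → P i := stepQ 9739 Q9739 (allL N9739 (tt N6822 F37622) (tt N13992 D24255) (tt N6018 F37623) (tt N13396 (iv F47191)) (tt N11878 F43026) (tt N6017 (iv D19915)) (tt N9745 (iv F37641)))
theorem Q9741 : ∀ i, i < 9741 → P i := stepQ 9740 Q9740 (allL N9740 (tt N8577 F37624) (tt N6018 (iv D19916)) (tt N9210 (iv F37629)) (tt N6063 F37625) (tt N8576 F37626) (tt N6019 F37627) (tt N9726 F37628))
theorem Q9742 : ∀ i, i < 9742 → P i := stepQ 9741 Q9741 (allL N9741 (tt N6019 (iv D19917)) (tt N9224 (iv F37634)) (tt N9211 F37630) (tt N6064 F37631) (tt N8578 F37632) (tt N8577 F37633) (tt N12460 (iv F44648)))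
theorem Q9743 : ∀ i, i < 9743 → P i := stepQ 9742 Q9742 (allL N9742 (tt N6159 F37636) (tt N13993 D24256) (tt N6020 (iv D19918)) (tt N13994 D24257) (tt N12497 (iv F44757)) (tt N6157 F37637) (tt N9929 (iv F38019)))
theorem Q9744 : ∀ i, i < 9744 → P i := stepQ 9743 Q9743 (allL N9743 (tt N13995 D24258) (tt N6021 (iv D19919)) (tt N13993 (iv F48992)) (tt N13996 D24259) (tt N13980 (iv F48950)) (tt N13997 D24260) (tt N13998 D24261))
theorem Q9745 : ∀ i, i < 9745 → P i := stepQ 9744 Q9744 (allL N9744 (tt N6023 F37638) (tt N13996 (iv F48995)) (tt N9817 (iv F37777)) (tt N6021 (iv D19920)) (tt N13999 D24262) (tt N14000 D24263) (tt N13990 (iv F48988)))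
theorem Q9746 : ∀ i, i < 9746 → P i := stepQ 9745 Q9745 (allL N9745 (tt N6024 F37639) (tt N14001 D24264) (tt N6022 F37640) (tt N14000 (iv F48999)) (tt N13981 (iv F48954)) (tt N6021 (iv D19921)) (tt N9739 F37641))
theorem Q9747 : ∀ i, i < 9747 → P i := stepQ 9746 Q9746 (allL N9746 (tt N9817 (iv F37776)) (tt N11988 F43339) (tt N6023 (iv D19922)) (tt N9812 (iv F37765)) (tt N14002 D24265) (tt N14003 D24266) (tt N12806 (iv F45693)))
theorem Q9748 : ∀ i, i < 9748 → P i := stepQ 9747 Q9747 (allL N9747 (tt N13999 (iv F48996)) (tt N10043 (iv F39814)) (tt N14002 (iv F49007)) (tt N10042 F39812) (tt N6023 (iv D19923)) (tt N14004 D24267) (tt N13991 (iv F48989)))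
theorem Q9749 : ∀ i, i < 9749 → P i := stepQ 9748 Q9748 (allL N9748 (tt N14000 (iv F48997)) (tt N14005 D24268) (tt N14003 (iv F49010)) (tt N6024 F37642) (tt N14004 (iv F49013)) (tt N6023 (iv D19924)) (tt N10770 (iv F40418)))
theorem Q9750 : ∀ i, i < 9750 → P i := stepQ 9749 Q9749 (allL N9749 (tt N9243 F37645) (tt N6024 (iv D19925)) (tt N9472 F37643) (tt N14005 (iv F49014)) (tt N13982 (iv F48959)) (tt N9241 F37644) (tt N10772 (iv F40422)))
theorem Q9751 : ∀ i, i < 9751 → P i := stepQ 9750 Q9750 (allL N9750 (tt N6027 (iv D19926)) (tt N9459 (iv F37649)) (tt N6714 F37646) (tt N6089 F37647) (tt N9469 F37648) (tt N10415 (iv F39139)) (tt N13493 (iv F47458)))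
theorem Q9752 : ∀ i, i < 9752 → P i := stepQ 9751 Q9751 (allL N9751 (tt N13493 F47459) (tt N9665 F37650) (tt N6711 F37651) (tt N6091 F37652) (tt N13494 (iv F47463)) (tt N13680 F48108) (tt N6027 (iv D19927)))
theorem Q9753 : ∀ i, i < 9753 → P i := stepQ 9752 Q9752 (allL N9752 (tt N12836 (iv F45788)) (tt N14006 D24269) (tt N8620 F37653) (tt N12597 (iv F45078)) (tt N6029 F37654) (tt N6028 (iv D19928)) (tt N8619 F37655))
theorem Q9754 : ∀ i, i < 9754 → P i := stepQ 9753 Q9753 (allL N9753 (tt N12351 (iv F44288)) (tt N6029 (iv D19929)) (tt N10721 (iv F40257)) (tt N6030 F37656) (tt N14006 (iv F49020)) (tt N8347 F37657) (tt N10720 F40256))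
theorem Q9755 : ∀ i, i < 9755 → P i := stepQ 9754 Q9754 (allL N9754 (tt N6753 F37658) (tt N6033 F37659) (tt N6030 (iv D19930)) (tt N12782 (iv F45614)) (tt N12340 (iv F44255)) (tt N6775 F37660) (tt N10723 (iv F40263)))
theorem Q9756 : ∀ i, i < 9756 → P i := stepQ 9755 Q9755 (allL N9755 (tt N12352 (iv F44292)) (tt N9735 F37661) (tt N10723 (iv F40262)) (tt N10720 F40255) (tt N8074 F37662) (tt N8072 F37663) (tt N6030 (iv D19931)))
theorem Q9757 : ∀ i, i < 9757 → P i := stepQ 9756 Q9756 (allL N9756 (tt N13671 (iv F48068)) (tt N6032 (iv D19932)) (tt N14007 D24270) (tt N6097 F37664) (tt N13677 (iv F48094)) (tt N12818 (iv F45737)) (tt N13672 (iv F48076)))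
theorem Q9758 : ∀ i, i < 9758 → P i := stepQ 9757 Q9757 (allL N9757 (tt N6033 F37665) (tt N14008 D24271) (tt N6032 (iv D19933)) (tt N14009 D24272) (tt N13983 (iv F48962)) (tt N6037 F37666) (tt N6748 F37667))
theorem Q9759 : ∀ i, i < 9759 → P i := stepQ 9758 Q9758 (allL N9758 (tt N14009 (iv F49027)) (tt N12782 (iv F45612)) (tt N12781 F45610) (tt N6033 (iv D19934)) (tt N14010 D24273) (tt N6039 F37668) (tt N13445 (iv F47319)))
theorem Q9760 : ∀ i, i < 9760 → P i := stepQ 9759 Q9759 (allL N9759 (tt N6748 F37669) (tt N14011 D24274) (tt N6034 F37670) (tt N13445 (iv F47320)) (tt N12087 F43569) (tt N9765 (iv F37688)) (tt N6033 (iv D19935)))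
theorem Q9761 : ∀ i, i < 9761 → P i := stepQ 9760 Q9760 (allL N9760 (tt N8586 F37671) (tt N6034 (iv D19936)) (tt N9246 (iv F37676)) (tt N6101 F37672) (tt N8585 F37673) (tt N9718 F37674) (tt N6035 F37675))
theorem Q9762 : ∀ i, i < 9762 → P i := stepQ 9761 Q9761 (allL N9761 (tt N6035 (iv D19937)) (tt N9184 (iv F37681)) (tt N9247 F37677) (tt N6102 F37678) (tt N8587 F37679) (tt N12494 (iv F44746)) (tt N8586 F37680))
theorem Q9763 : ∀ i, i < 9763 → P i := stepQ 9762 Q9762 (allL N9762 (tt N6147 F37683) (tt N14012 D24275) (tt N6036 (iv D19938)) (tt N14013 D24276) (tt N12463 (iv F44658)) (tt N9912 (iv F37972)) (tt N6144 F37684))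
theorem Q9764 : ∀ i, i < 9764 → P i := stepQ 9763 Q9763 (allL N9763 (tt N14014 D24277) (tt N6037 (iv D19939)) (tt N14012 (iv F49034)) (tt N14015 D24278) (tt N13984 (iv F48965)) (tt N14016 D24279) (tt N14017 D24280))
theorem Q9765 : ∀ i, i < 9765 → P i := stepQ 9764 Q9764 (allL N9764 (tt N6039 F37685) (tt N14015 (iv F49037)) (tt N9870 (iv F37874)) (tt N6037 (iv D19940)) (tt N14018 D24281) (tt N14009 (iv F49029)) (tt N14019 D24282))
theorem Q9766 : ∀ i, i < 9766 → P i := stepQ 9765 Q9765 (allL N9765 (tt N6040 F37686) (tt N14020 D24283) (tt N6038 F37687) (tt N14019 (iv F49041)) (tt N13985 (iv F48969)) (tt N9759 F37688) (tt N6037 (iv D19941)))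
theorem Q9767 : ∀ i, i < 9767 → P i := stepQ 9766 Q9766 (allL N9766 (tt N9870 (iv F37873)) (tt N12186 F43871) (tt N6039 (iv D19942)) (tt N9865 (iv F37862)) (tt N14021 D24284) (tt N12781 (iv F45608)) (tt N14022 D24285))
theorem Q9768 : ∀ i, i < 9768 → P i := stepQ 9767 Q9767 (allL N9767 (tt N14018 (iv F49038)) (tt N10077 F39795) (tt N14021 (iv F49049)) (tt N10076 (iv F39796)) (tt N6039 (iv D19943)) (tt N14010 (iv F49031)) (tt N14023 D24286))
theorem Q9769 : ∀ i, i < 9769 → P i := stepQ 9768 Q9768 (allL N9768 (tt N14019 (iv F49039)) (tt N14024 D24287) (tt N14022 (iv F49052)) (tt N6040 F37689) (tt N14023 (iv F49055)) (tt N10686 (iv F40190)) (tt N6039 (iv D19944)))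
theorem Q9770 : ∀ i, i < 9770 → P i := stepQ 9769 Q9769 (allL N9769 (tt N9208 (iv F37692)) (tt N6040 (iv D19945)) (tt N9467 F37690) (tt N14024 (iv F49056)) (tt N13986 (iv F48974)) (tt N10688 (iv F40194)) (tt N9205 F37691))
theorem Q9771 : ∀ i, i < 9771 → P i := stepQ 9770 Q9770 (allL N9770 (tt N14025 D24288) (tt N6043 (iv D19946)) (tt N10379 (iv F39054)) (tt N8453 F37693) (tt N13787 (iv F48456)) (tt N14026 D24289) (tt N8918 F37694))
theorem Q9772 : ∀ i, i < 9772 → P i := stepQ 9771 Q9771 (allL N9771 (tt N9449 F37695) (tt N9826 (iv F37795)) (tt N10380 (iv F39056)) (tt N13525 (iv F47574)) (tt N13788 (iv F48459)) (tt N6045 (iv D19947)) (tt N9778 (iv F37709)))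
theorem Q9773 : ∀ i, i < 9773 → P i := stepQ 9772 Q9772 (allL N9772 (tt N6091 F37696) (tt N6046 (iv D19948)) (tt N10408 (iv F39126)) (tt N13493 (iv F47456)) (tt N13789 (iv F48462)) (tt N9826 (iv F37796)) (tt N6089 F37697))
theorem Q9774 : ∀ i, i < 9774 → P i := stepQ 9773 Q9773 (allL N9773 (tt N6054 F37698) (tt N8638 F37699) (tt N6048 F37700) (tt N14027 D24290) (tt N6047 (iv D19949)) (tt N8220 F37701) (tt N12517 (iv F44811)))
theorem Q9775 : ∀ i, i < 9775 → P i := stepQ 9774 Q9774 (allL N9774 (tt N6056 F37702) (tt N13000 (iv F46185)) (tt N12517 (iv F44809)) (tt N13792 (iv F48471)) (tt N6049 F37703) (tt N9672 F37704) (tt N6048 (iv D19950)))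
theorem Q9776 : ∀ i, i < 9776 → P i := stepQ 9775 Q9775 (allL N9775 (tt N6050 (iv D19951)) (tt N11830 F42897) (tt N14028 D24291) (tt N13324 (iv F46997)) (tt N13794 (iv F48475)) (tt N14029 D24292) (tt N13312 (iv F46967)))
theorem Q9777 : ∀ i, i < 9777 → P i := stepQ 9776 Q9776 (allL N9776 (tt N14028 (iv F49072)) (tt N6052 F37705) (tt N6050 (iv D19952)) (tt N13305 (iv F46948)) (tt N13795 (iv F48477)) (tt N11951 (iv F43214)) (tt N13301 (iv F46930)))
theorem Q9778 : ∀ i, i < 9778 → P i := stepQ 9777 Q9777 (allL N9777 (tt N14029 (iv F49077)) (tt N9676 F37706) (tt N11951 F43215) (tt N13326 (iv F47002)) (tt N13796 (iv F48479)) (tt N6050 (iv D19953)) (tt N14030 D24293))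
theorem Q9779 : ∀ i, i < 9779 → P i := stepQ 9778 Q9778 (allL N9778 (tt N6053 F37707) (tt N6083 F37708) (tt N10374 (iv F39048)) (tt N13498 (iv F47481)) (tt N13797 (iv F48483)) (tt N6051 (iv D19954)) (tt N9771 F37709))
theorem Q9780 : ∀ i, i < 9780 → P i := stepQ 9779 Q9779 (allL N9779 (tt N10373 F39046) (tt N13305 (iv F46947)) (tt N14031 D24294) (tt N6052 (iv D19955)) (tt N14032 D24295) (tt N14033 D24296) (tt N10376 (iv F39051)))
theorem Q9781 : ∀ i, i < 9781 → P i := stepQ 9780 Q9780 (allL N9780 (tt N10374 (iv F39047)) (tt N11913 F43122) (tt N6053 F37710) (tt N14033 (iv F49092)) (tt N13799 (iv F48486)) (tt N6052 (iv D19956)) (tt N6477 F37711))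
theorem Q9782 : ∀ i, i < 9782 → P i := stepQ 9781 Q9781 (allL N9781 (tt N14027 (iv F49068)) (tt N8214 F37712) (tt N14034 D24297) (tt N6054 (iv D19957)) (tt N8593 F37713) (tt N8218 F37714) (tt N14035 D24298))
theorem Q9783 : ∀ i, i < 9783 → P i := stepQ 9782 Q9782 (allL N9782 (tt N12517 (iv F44808)) (tt N14036 D24299) (tt N6056 F37715) (tt N14035 (iv F49096)) (tt N6055 F37716) (tt N12516 (iv F44807)) (tt N6054 (iv D19958)))
theorem Q9784 : ∀ i, i < 9784 → P i := stepQ 9783 Q9783 (allL N9783 (tt N8938 F37717) (tt N6055 (iv D19959)) (tt N12253 (iv F44022)) (tt N8890 F37718) (tt N14036 (iv F49099)) (tt N8994 F37719) (tt N8252 F37720))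
theorem Q9785 : ∀ i, i < 9785 → P i := stepQ 9784 Q9784 (allL N9784 (tt N9672 F37721) (tt N14037 D24300) (tt N12516 (iv F44805)) (tt N13804 (iv F48496)) (tt N6057 F37722) (tt N6056 (iv D19960)) (tt N9671 F37723))
theorem Q9786 : ∀ i, i < 9786 → P i := stepQ 9785 Q9785 (allL N9785 (tt N13304 (iv F46943)) (tt N6057 (iv D19961)) (tt N13303 (iv F46939)) (tt N6058 F37724) (tt N14037 (iv F49102)) (tt N12258 (iv F44036)) (tt N13293 (iv F46912)))
theorem Q9787 : ∀ i, i < 9787 → P i := stepQ 9786 Q9786 (allL N9786 (tt N6058 (iv D19962)) (tt N9795 (iv F44050)) (tt N14038 D24301) (tt N13304 (iv F46945)) (tt N13806 (iv F48500)) (tt N12261 (iv F44044)) (tt N14039 D24302))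
theorem Q9788 : ∀ i, i < 9788 → P i := stepQ 9787 Q9787 (allL N9787 (tt N14038 (iv F49103)) (tt N6065 F37725) (tt N6058 (iv D19963)) (tt N8989 (iv F37726)) (tt N13807 (iv F48502)) (tt N12262 (iv F44049)) (tt N14040 D24303))
theorem Q9789 : ∀ i, i < 9789 → P i := stepQ 9788 Q9788 (allL N9788 (tt N14039 (iv F49106)) (tt N9670 F37727) (tt N14040 (iv F49109)) (tt N13293 (iv F46911)) (tt N13808 (iv F48504)) (tt N14041 D24304) (tt N6058 (iv D19964)))
theorem Q9790 : ∀ i, i < 9790 → P i := stepQ 9789 Q9789 (allL N9789 (tt N6059 (iv D19965)) (tt N6397 F37728) (tt N11973 (iv F43286)) (tt N13674 (iv F48081)) (tt N13625 (iv F47929)) (tt N6398 (iv F37729)) (tt N13962 (iv F48901)))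
theorem Q9791 : ∀ i, i < 9791 → P i := stepQ 9790 Q9790 (allL N9790 (tt N11973 F43289) (tt N14042 D24305) (tt N6059 (iv D19966)) (tt N11974 (iv F43290)) (tt N13809 (iv F48505)) (tt N14043 D24306) (tt N14044 D24307))
theorem Q9792 : ∀ i, i < 9792 → P i := stepQ 9791 Q9791 (allL N9791 (tt N6398 F37730) (tt N9824 (iv F37790)) (tt N14043 (iv F49117)) (tt N13675 (iv F48087)) (tt N13626 (iv F47932)) (tt N6059 (iv D19967)) (tt N9699 (iv F37731)))
theorem Q9793 : ∀ i, i < 9793 → P i := stepQ 9792 Q9792 (allL N9792 (tt N13962 (iv F48898)) (tt N6070 F37732) (tt N14044 (iv F49120)) (tt N12820 (iv F45746)) (tt N13810 (iv F48508)) (tt N10300 (iv F38877)) (tt N6059 (iv D19968)))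
theorem Q9794 : ∀ i, i < 9794 → P i := stepQ 9793 Q9793 (allL N9793 (tt N14045 D24308) (tt N6060 (iv D19969)) (tt N14042 (iv F49115)) (tt N14046 D24309) (tt N13811 (iv F48510)) (tt N14047 D24310) (tt N14048 D24311))
theorem Q9795 : ∀ i, i < 9795 → P i := stepQ 9794 Q9794 (allL N9794 (tt N6061 F37733) (tt N14046 (iv F49122)) (tt N14049 D24312) (tt N6060 (iv D19970)) (tt N14050 D24313) (tt N9820 (iv F37784)) (tt N6072 F37734))
theorem Q9796 : ∀ i, i < 9796 → P i := stepQ 9795 Q9795 (allL N9795 (tt N14049 (iv F49130)) (tt N9786 F44050) (tt N6061 (iv D19971)) (tt N14051 D24314) (tt N14052 D24315) (tt N14053 D24316) (tt N6075 F37735))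
theorem Q9797 : ∀ i, i < 9797 → P i := stepQ 9796 Q9796 (allL N9796 (tt N14050 (iv F49135)) (tt N12231 (iv F43981)) (tt N14052 (iv F49143)) (tt N13814 (iv F48514)) (tt N6061 (iv D19972)) (tt N14054 D24317) (tt N6076 F37736))
theorem Q9798 : ∀ i, i < 9798 → P i := stepQ 9797 Q9797 (allL N9797 (tt N9820 (iv F37782)) (tt N8016 F39638) (tt N14053 (iv F49147)) (tt N6062 F37737) (tt N14054 (iv F49150)) (tt N6061 (iv D19973)) (tt N9814 (iv F37769)))
theorem Q9799 : ∀ i, i < 9799 → P i := stepQ 9798 Q9798 (allL N9798 (tt N8020 (iv F39636)) (tt N6062 (iv D19974)) (tt N11743 (iv F42690)) (tt N8016 (iv F39637)) (tt N13816 (iv F48517)) (tt N11881 (iv F43032)) (tt N8014 F39635))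
theorem Q9800 : ∀ i, i < 9800 → P i := stepQ 9799 Q9799 (allL N9799 (tt N6063 (iv D19975)) (tt N8579 (iv F37740)) (tt N11752 (iv F42707)) (tt N8577 F37738) (tt N13452 (iv F47343)) (tt N6064 F37739) (tt N9803 (iv F37754)))
theorem Q9801 : ∀ i, i < 9801 → P i := stepQ 9800 Q9800 (allL N9800 (tt N6065 F37741) (tt N14055 D24318) (tt N6064 (iv D19976)) (tt N9000 F37742) (tt N13817 (iv F48521)) (tt N11752 (iv F42708)) (tt N7557 (iv F37743)))
theorem Q9802 : ∀ i, i < 9802 → P i := stepQ 9801 Q9801 (allL N9801 (tt N6066 F37744) (tt N9445 F37745) (tt N7557 F37746) (tt N12460 (iv F44646)) (tt N13785 (iv F48453)) (tt N7554 F37747) (tt N6064 (iv D19977)))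
theorem Q9803 : ∀ i, i < 9803 → P i := stepQ 9802 Q9802 (allL N9802 (tt N7557 F37748) (tt N11795 (iv F42820)) (tt N6066 F37749) (tt N9002 F37750) (tt N13819 (iv F48526)) (tt N7555 (iv F37751)) (tt N6065 (iv D19978)))
theorem Q9804 : ∀ i, i < 9804 → P i := stepQ 9803 Q9803 (allL N9803 (tt N7554 F37752) (tt N9856 (iv F37849)) (tt N7555 F37753) (tt N12461 (iv F44652)) (tt N13784 (iv F48446)) (tt N6066 (iv D19979)) (tt N9799 F37754))
theorem Q9805 : ∀ i, i < 9805 → P i := stepQ 9804 Q9804 (allL N9804 (tt N6555 F37755) (tt N6068 (iv D19980)) (tt N6071 F37756) (tt N14056 D24319) (tt N13820 (iv F48530)) (tt N14057 D24320) (tt N11825 (iv F42887)))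
theorem Q9806 : ∀ i, i < 9806 → P i := stepQ 9805 Q9805 (allL N9805 (tt N6568 F37757) (tt N14056 (iv F49156)) (tt N12790 F47069) (tt N6068 (iv D19981)) (tt N14058 D24321) (tt N13409 (iv F47237)) (tt N14059 D24322))
theorem Q9807 : ∀ i, i < 9807 → P i := stepQ 9806 Q9806 (allL N9806 (tt N6571 F37758) (tt N10416 (iv F39142)) (tt N6069 F37759) (tt N13409 (iv F47236)) (tt N13822 (iv F48534)) (tt N6068 (iv D19982)) (tt N10487 (iv F39295)))
theorem Q9808 : ∀ i, i < 9808 → P i := stepQ 9807 Q9807 (allL N9807 (tt N6572 F37760) (tt N11814 F42872) (tt N6070 F37761) (tt N14059 (iv F49163)) (tt N13823 (iv F48538)) (tt N10486 (iv F39292)) (tt N6068 (iv D19983)))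
theorem Q9809 : ∀ i, i < 9809 → P i := stepQ 9808 Q9808 (allL N9808 (tt N6071 (iv D19984)) (tt N14060 D24323) (tt N6555 F37762) (tt N14061 D24324) (tt N13118 (iv F48552)) (tt N14062 D24325) (tt N14063 D24326))
theorem Q9810 : ∀ i, i < 9810 → P i := stepQ 9809 Q9809 (allL N9809 (tt N14061 (iv F49168)) (tt N6072 F37763) (tt N14064 D24327) (tt N6071 (iv D19985)) (tt N14065 D24328) (tt N14064 F49176) (tt N14066 D24329))
theorem Q9811 : ∀ i, i < 9811 → P i := stepQ 9810 Q9810 (allL N9810 (tt N14062 (iv F49169)) (tt N7867 F37774) (tt N14057 (iv F49160)) (tt N14064 (iv F49175)) (tt N13824 (iv F48542)) (tt N6071 (iv D19986)) (tt N14067 D24330))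
theorem Q9812 : ∀ i, i < 9812 → P i := stepQ 9811 Q9811 (allL N9811 (tt N14063 (iv F49171)) (tt N14048 (iv F49124)) (tt N11825 F42889) (tt N14066 (iv F49179)) (tt N13825 (iv F48544)) (tt N14068 D24331) (tt N6071 (iv D19987)))
theorem Q9813 : ∀ i, i < 9813 → P i := stepQ 9812 Q9812 (allL N9812 (tt N6075 F37764) (tt N7754 F43340) (tt N6072 (iv D19988)) (tt N9746 F37765) (tt N14069 D24332) (tt N10448 (iv F43972)) (tt N14049 (iv F49132)))
theorem Q9814 : ∀ i, i < 9814 → P i := stepQ 9813 Q9813 (allL N9813 (tt N6076 F37766) (tt N14065 (iv F49177)) (tt N14069 (iv F49188)) (tt N13827 (iv F48558)) (tt N6072 (iv D19989)) (tt N14070 D24333) (tt N14050 (iv F49136)))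
theorem Q9815 : ∀ i, i < 9815 → P i := stepQ 9814 Q9814 (allL N9814 (tt N6077 F37767) (tt N11968 (iv F43270)) (tt N10448 F43976) (tt N6073 F37768) (tt N14070 (iv F49190)) (tt N6072 (iv D19990)) (tt N9797 F37769))
theorem Q9816 : ∀ i, i < 9816 → P i := stepQ 9815 Q9815 (allL N9815 (tt N7870 F37771) (tt N6073 (iv D19991)) (tt N7547 F37770) (tt N11968 (iv F43272)) (tt N13829 (iv F48563)) (tt N7867 (iv F37772)) (tt N7546 (iv F37773)))
theorem Q9817 : ∀ i, i < 9817 → P i := stepQ 9816 Q9816 (allL N9816 (tt N14071 D24334) (tt N6075 (iv D19992)) (tt N6125 F37775) (tt N14072 D24335) (tt N14073 D24336) (tt N6549 F43969) (tt N14074 D24337))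
theorem Q9818 : ∀ i, i < 9818 → P i := stepQ 9817 Q9817 (allL N9817 (tt N9746 F37776) (tt N14072 (iv F49198)) (tt N9744 F37777) (tt N6075 (iv D19993)) (tt N14075 D24338) (tt N10446 (iv F43973)) (tt N14051 (iv F49140)))
theorem Q9819 : ∀ i, i < 9819 → P i := stepQ 9818 Q9818 (allL N9818 (tt N14069 (iv F49186)) (tt N14073 (iv F49200)) (tt N6076 F37778) (tt N14076 D24339) (tt N6075 (iv D19994)) (tt N10194 (iv F43974)) (tt N14052 (iv F49144)))
theorem Q9820 : ∀ i, i < 9820 → P i := stepQ 9819 Q9819 (allL N9819 (tt N14070 (iv F49189)) (tt N9819 F37780) (tt N10194 F43975) (tt N13833 (iv F48571)) (tt N6077 F37781) (tt N6076 (iv D19996)) (tt N14077 D24340))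
theorem Q9821 : ∀ i, i < 9821 → P i := stepQ 9820 Q9820 (allL N9820 (tt N9797 F37782) (tt N11845 (iv F43966)) (tt N10441 F43965) (tt N6078 F37783) (tt N14077 (iv F49210)) (tt N9794 F37784) (tt N6077 (iv D19997)))
theorem Q9822 : ∀ i, i < 9822 → P i := stepQ 9821 Q9821 (allL N9821 (tt N14078 D24341) (tt N6078 (iv D19998)) (tt N14079 D24342) (tt N11845 F43977) (tt N13835 (iv F48576)) (tt N14080 D24343) (tt N9821 F37785))
theorem Q9823 : ∀ i, i < 9823 → P i := stepQ 9822 Q9822 (allL N9822 (tt N6079 (iv D19999)) (tt N7526 F37786) (tt N11922 (iv F43151)) (tt N9194 F37787) (tt N13771 (iv F48401)) (tt N13718 (iv F48258)) (tt N7527 F37788))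
theorem Q9824 : ∀ i, i < 9824 → P i := stepQ 9823 Q9823 (allL N9823 (tt N11922 F43154) (tt N14079 (iv F49213)) (tt N6079 (iv D20000)) (tt N10824 (iv F40559)) (tt N13836 (iv F48578)) (tt N14081 D24344) (tt N9489 F37789))
theorem Q9825 : ∀ i, i < 9825 → P i := stepQ 9824 Q9824 (allL N9824 (tt N13718 (iv F48254)) (tt N9791 F37790) (tt N14081 (iv F49217)) (tt N10767 (iv F40406)) (tt N13837 (iv F48582)) (tt N6079 (iv D20001)) (tt N9713 F37791))
theorem Q9826 : ∀ i, i < 9826 → P i := stepQ 9825 Q9825 (allL N9825 (tt N14082 D24345) (tt N6081 (iv D20002)) (tt N10413 (iv F39132)) (tt N8464 F37792) (tt N13838 (iv F48584)) (tt N8934 F37793) (tt N14083 D24346))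
theorem Q9827 : ∀ i, i < 9827 → P i := stepQ 9826 Q9826 (allL N9826 (tt N9440 F37794) (tt N9771 F37795) (tt N10414 (iv F39134)) (tt N13501 (iv F47497)) (tt N13839 (iv F48588)) (tt N9772 F37796) (tt N6082 (iv D20003)))
theorem Q9828 : ∀ i, i < 9828 → P i := stepQ 9827 Q9827 (allL N9827 (tt N6092 F37797) (tt N8654 F37798) (tt N6086 F37799) (tt N14084 D24347) (tt N6085 (iv D20004)) (tt N12520 (iv F44821)) (tt N8222 F37800))
theorem Q9829 : ∀ i, i < 9829 → P i := stepQ 9828 Q9828 (allL N9828 (tt N6094 F37801) (tt N13074 (iv F46365)) (tt N12520 (iv F44819)) (tt N13842 (iv F48597)) (tt N6087 F37802) (tt N6086 (iv D20005)) (tt N9694 F37803))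
theorem Q9830 : ∀ i, i < 9830 → P i := stepQ 9829 Q9829 (allL N9829 (tt N6088 (iv D20006)) (tt N12042 F43429) (tt N14085 D24348) (tt N13379 (iv F47146)) (tt N13844 (iv F48601)) (tt N13371 (iv F47129)) (tt N14086 D24349))
theorem Q9831 : ∀ i, i < 9831 → P i := stepQ 9830 Q9830 (allL N9830 (tt N14085 (iv F49232)) (tt N6090 F37804) (tt N6088 (iv D20007)) (tt N13365 (iv F47115)) (tt N13845 (iv F48603)) (tt N13361 (iv F47104)) (tt N12154 F43785))
theorem Q9832 : ∀ i, i < 9832 → P i := stepQ 9831 Q9831 (allL N9831 (tt N14086 (iv F49237)) (tt N9698 F37805) (tt N12154 (iv F43786)) (tt N13380 (iv F47149)) (tt N13846 (iv F48605)) (tt N14087 D24350) (tt N6088 (iv D20008)))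
theorem Q9833 : ∀ i, i < 9833 → P i := stepQ 9832 Q9832 (allL N9832 (tt N10407 F39124) (tt N13365 (iv F47114)) (tt N14088 D24351) (tt N6090 (iv D20009)) (tt N14089 D24352) (tt N10410 (iv F39129)) (tt N14090 D24353))
theorem Q9834 : ∀ i, i < 9834 → P i := stepQ 9833 Q9833 (allL N9833 (tt N10408 (iv F39125)) (tt N12119 (iv F43784)) (tt N6091 F37806) (tt N14090 (iv F49252)) (tt N13848 (iv F48607)) (tt N6511 F37807) (tt N6090 (iv D20010)))
theorem Q9835 : ∀ i, i < 9835 → P i := stepQ 9834 Q9834 (allL N9834 (tt N14084 (iv F49228)) (tt N8215 F37808) (tt N14091 D24354) (tt N6092 (iv D20011)) (tt N8595 F37809) (tt N14092 D24355) (tt N8219 F37810))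
theorem Q9836 : ∀ i, i < 9836 → P i := stepQ 9835 Q9835 (allL N9835 (tt N12520 (iv F44818)) (tt N14093 D24356) (tt N6094 F37811) (tt N14092 (iv F49256)) (tt N6093 F37812) (tt N6092 (iv D20012)) (tt N12519 (iv F44817)))
theorem Q9837 : ∀ i, i < 9837 → P i := stepQ 9836 Q9836 (allL N9836 (tt N8922 F37813) (tt N6093 (iv D20013)) (tt N12312 (iv F44161)) (tt N8896 F37814) (tt N14093 (iv F49259)) (tt N8253 F37815) (tt N9057 F37816))
theorem Q9838 : ∀ i, i < 9838 → P i := stepQ 9837 Q9837 (allL N9837 (tt N9694 F37817) (tt N14094 D24357) (tt N12519 (iv F44815)) (tt N13853 (iv F48617)) (tt N6095 F37818) (tt N9693 F37819) (tt N6094 (iv D20014)))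
theorem Q9839 : ∀ i, i < 9839 → P i := stepQ 9838 Q9838 (allL N9838 (tt N13364 (iv F47110)) (tt N6095 (iv D20015)) (tt N13363 (iv F47106)) (tt N6096 F37820) (tt N14094 (iv F49262)) (tt N13357 (iv F47090)) (tt N12316 (iv F44171)))
theorem Q9840 : ∀ i, i < 9840 → P i := stepQ 9839 Q9839 (allL N9839 (tt N6096 (iv D20016)) (tt N9848 (iv F49266)) (tt N14095 D24359) (tt N13364 (iv F47112)) (tt N13855 (iv F48621)) (tt N14096 D24360) (tt N12318 (iv F44177)))
theorem Q9841 : ∀ i, i < 9841 → P i := stepQ 9840 Q9840 (allL N9840 (tt N14095 (iv F49263)) (tt N6103 F37821) (tt N6096 (iv D20017)) (tt N9053 (iv F37822)) (tt N13856 (iv F48623)) (tt N14055 (iv F49154)) (tt N12319 (iv F44182)))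
theorem Q9842 : ∀ i, i < 9842 → P i := stepQ 9841 Q9841 (allL N9841 (tt N14096 (iv F49267)) (tt N9692 F37823) (tt N14055 (iv F49152)) (tt N13357 (iv F47089)) (tt N13857 (iv F48625)) (tt N6096 (iv D20018)) (tt N14097 D24361))
theorem Q9843 : ∀ i, i < 9843 → P i := stepQ 9842 Q9842 (allL N9842 (tt N6097 (iv D20019)) (tt N6394 F37824) (tt N11966 (iv F43263)) (tt N13671 (iv F48069)) (tt N13621 (iv F47917)) (tt N13938 (iv F48843)) (tt N6395 (iv F37825)))
theorem Q9844 : ∀ i, i < 9844 → P i := stepQ 9843 Q9843 (allL N9843 (tt N11966 F43266) (tt N14098 D24362) (tt N6097 (iv D20020)) (tt N12174 (iv F43841)) (tt N13858 (iv F48626)) (tt N14099 D24363) (tt N14100 D24364))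
theorem Q9845 : ∀ i, i < 9845 → P i := stepQ 9844 Q9844 (allL N9844 (tt N13938 (iv F48840)) (tt N6107 F37826) (tt N14099 (iv F49277)) (tt N12818 (iv F45736)) (tt N13859 (iv F48629)) (tt N6097 (iv D20021)) (tt N10298 (iv F38873)))
theorem Q9846 : ∀ i, i < 9846 → P i := stepQ 9845 Q9845 (allL N9845 (tt N6395 F37827) (tt N9877 (iv F37887)) (tt N14100 (iv F49279)) (tt N13672 (iv F48074)) (tt N13622 (iv F47920)) (tt N9677 F37828) (tt N6097 (iv D20022)))
theorem Q9847 : ∀ i, i < 9847 → P i := stepQ 9846 Q9846 (allL N9846 (tt N14101 D24365) (tt N6098 (iv D20023)) (tt N14098 (iv F49273)) (tt N14068 (iv F49184)) (tt N13860 (iv F48631)) (tt N14066 (iv F49180)) (tt N14102 D24366))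
theorem Q9848 : ∀ i, i < 9848 → P i := stepQ 9847 Q9847 (allL N9847 (tt N6099 F37829) (tt N14068 (iv F49183)) (tt N14103 D24367) (tt N6098 (iv D20024)) (tt N14104 D24368) (tt N6110 F37830) (tt N9873 (iv F37881)))
theorem Q9849 : ∀ i, i < 9849 → P i := stepQ 9848 Q9848 (allL N9848 (tt N14103 (iv F49291)) (tt N9839 F49266) (tt N6099 (iv D20025)) (tt N14105 D24369) (tt N14106 D24370) (tt N6113 F37831) (tt N14107 D24371))
theorem Q9850 : ∀ i, i < 9850 → P i := stepQ 9849 Q9849 (allL N9849 (tt N14104 (iv F49296)) (tt N12289 (iv F44115)) (tt N14106 (iv F49304)) (tt N13863 (iv F48635)) (tt N6099 (iv D20026)) (tt N6114 F37832) (tt N14108 D24372))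
theorem Q9851 : ∀ i, i < 9851 → P i := stepQ 9850 Q9850 (allL N9850 (tt N9873 (iv F37879)) (tt N7957 (iv F39570)) (tt N14107 (iv F49308)) (tt N6100 F37833) (tt N14108 (iv F49311)) (tt N9867 (iv F37866)) (tt N6099 (iv D20027)))
theorem Q9852 : ∀ i, i < 9852 → P i := stepQ 9851 Q9851 (allL N9851 (tt N7961 (iv F39582)) (tt N6100 (iv D20028)) (tt N11785 (iv F42799)) (tt N7957 F39571) (tt N13865 (iv F48638)) (tt N7956 (iv F39583)) (tt N12090 (iv F43576)))
theorem Q9853 : ∀ i, i < 9853 → P i := stepQ 9852 Q9852 (allL N9852 (tt N6101 (iv D20029)) (tt N8588 (iv F37836)) (tt N11795 (iv F42821)) (tt N8586 F37834) (tt N13400 (iv F47206)) (tt N9856 (iv F37851)) (tt N6102 F37835))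
theorem Q9854 : ∀ i, i < 9854 → P i := stepQ 9853 Q9853 (allL N9853 (tt N6103 F37837) (tt N14040 (iv F49108)) (tt N6102 (iv D20030)) (tt N9062 F37838) (tt N13866 (iv F48642)) (tt N7603 F37839) (tt N11795 (iv F42822)))
theorem Q9855 : ∀ i, i < 9855 → P i := stepQ 9854 Q9854 (allL N9854 (tt N6104 F37840) (tt N9454 F37841) (tt N7603 F37842) (tt N12494 (iv F44744)) (tt N13777 (iv F48424)) (tt N6102 (iv D20031)) (tt N7599 F37843))
theorem Q9856 : ∀ i, i < 9856 → P i := stepQ 9855 Q9855 (allL N9855 (tt N7603 F37844) (tt N11752 F42709) (tt N6104 F37845) (tt N9064 F37846) (tt N13868 (iv F48647)) (tt N6103 (iv D20032)) (tt N7600 F37847))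
theorem Q9857 : ∀ i, i < 9857 → P i := stepQ 9856 Q9856 (allL N9856 (tt N7599 F37848) (tt N9803 F37849) (tt N7600 F37850) (tt N12495 (iv F44751)) (tt N13776 (iv F48417)) (tt N9852 F37851) (tt N6104 (iv D20033)))
theorem Q9858 : ∀ i, i < 9858 → P i := stepQ 9857 Q9857 (allL N9857 (tt N6594 F37852) (tt N6106 (iv D20034)) (tt N6109 F37853) (tt N14109 D24373) (tt N13869 (iv F48651)) (tt N12037 (iv F43407)) (tt N14110 D24374))
theorem Q9859 : ∀ i, i < 9859 → P i := stepQ 9858 Q9858 (allL N9858 (tt N6607 F37854) (tt N14109 (iv F49314)) (tt N12765 F46892) (tt N6106 (iv D20035)) (tt N14111 D24375) (tt N14112 D24376) (tt N13461 (iv F47374)))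
theorem Q9860 : ∀ i, i < 9860 → P i := stepQ 9859 Q9859 (allL N9859 (tt N6608 F37855) (tt N12031 F43401) (tt N6107 F37856) (tt N14112 (iv F49321)) (tt N13871 (iv F48655)) (tt N6106 (iv D20036)) (tt N10533 (iv F39392)))
theorem Q9861 : ∀ i, i < 9861 → P i := stepQ 9860 Q9860 (allL N9860 (tt N6609 F37857) (tt N10382 (iv F39064)) (tt N6108 F37858) (tt N13461 (iv F47373)) (tt N13872 (iv F48658)) (tt N10532 (iv F39388)) (tt N6106 (iv D20037)))
theorem Q9862 : ∀ i, i < 9862 → P i := stepQ 9861 Q9861 (allL N9861 (tt N6109 (iv D20038)) (tt N14113 D24377) (tt N6594 F37859) (tt N14114 D24378) (tt N13177 (iv F48673)) (tt N14115 D24379) (tt N14116 D24380))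
theorem Q9863 : ∀ i, i < 9863 → P i := stepQ 9862 Q9862 (allL N9862 (tt N14114 (iv F49326)) (tt N6110 F37860) (tt N14117 D24381) (tt N6109 (iv D20039)) (tt N14118 D24382) (tt N14048 (iv F49126)) (tt N14117 F49342))
theorem Q9864 : ∀ i, i < 9864 → P i := stepQ 9863 Q9863 (allL N9863 (tt N14115 (iv F49330)) (tt N14066 (iv F49178)) (tt N12037 F43409) (tt N14048 (iv F49125)) (tt N13873 (iv F48663)) (tt N6109 (iv D20040)) (tt N14046 (iv F49123)))
theorem Q9865 : ∀ i, i < 9865 → P i := stepQ 9864 Q9864 (allL N9864 (tt N14116 (iv F49334)) (tt N7703 F37871) (tt N14110 (iv F49318)) (tt N14117 (iv F49341)) (tt N13874 (iv F48664)) (tt N14119 D24383) (tt N6109 (iv D20041)))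
theorem Q9866 : ∀ i, i < 9866 → P i := stepQ 9865 Q9865 (allL N9865 (tt N6113 F37861) (tt N7915 (iv F43167)) (tt N6110 (iv D20042)) (tt N9766 F37862) (tt N14120 D24384) (tt N14103 (iv F49292)) (tt N10497 (iv F39576)))
theorem Q9867 : ∀ i, i < 9867 → P i := stepQ 9866 Q9866 (allL N9866 (tt N6114 F37863) (tt N14118 (iv F49343)) (tt N14120 (iv F49349)) (tt N13876 (iv F48679)) (tt N6110 (iv D20043)) (tt N14104 (iv F49297)) (tt N14121 D24385))
theorem Q9868 : ∀ i, i < 9868 → P i := stepQ 9867 Q9867 (allL N9867 (tt N6115 F37864) (tt N12170 (iv F43823)) (tt N10497 F39580) (tt N6111 F37865) (tt N14121 (iv F49351)) (tt N9850 F37866) (tt N6110 (iv D20044)))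
theorem Q9869 : ∀ i, i < 9869 → P i := stepQ 9868 Q9868 (allL N9868 (tt N7707 (iv F37868)) (tt N6111 (iv D20045)) (tt N7592 F37867) (tt N12170 (iv F43825)) (tt N13878 (iv F48684)) (tt N7591 (iv F37869)) (tt N7703 (iv F37870)))
theorem Q9870 : ∀ i, i < 9870 → P i := stepQ 9869 Q9869 (allL N9869 (tt N14122 D24386) (tt N6113 (iv D20046)) (tt N6134 F37872) (tt N14123 D24387) (tt N14124 D24388) (tt N14125 D24389) (tt N6591 F39574))
theorem Q9871 : ∀ i, i < 9871 → P i := stepQ 9870 Q9870 (allL N9870 (tt N9766 F37873) (tt N14123 (iv F49359)) (tt N9764 F37874) (tt N6113 (iv D20047)) (tt N14126 D24390) (tt N14105 (iv F49301)) (tt N10496 (iv F39577)))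
theorem Q9872 : ∀ i, i < 9872 → P i := stepQ 9871 Q9871 (allL N9871 (tt N14120 (iv F49347)) (tt N14124 (iv F49361)) (tt N6114 F37875) (tt N14127 D24391) (tt N6113 (iv D20048)) (tt N14106 (iv F49305)) (tt N10228 (iv F39578)))
theorem Q9873 : ∀ i, i < 9873 → P i := stepQ 9872 Q9872 (allL N9872 (tt N14121 (iv F49350)) (tt N9872 F37877) (tt N10228 F39579) (tt N13882 (iv F48692)) (tt N6115 F37878) (tt N14128 D24392) (tt N6114 (iv D20050)))
theorem Q9874 : ∀ i, i < 9874 → P i := stepQ 9873 Q9873 (allL N9873 (tt N9850 F37879) (tt N12058 (iv F43477)) (tt N10491 (iv F39581)) (tt N6116 F37880) (tt N14128 (iv F49371)) (tt N6115 (iv D20051)) (tt N9847 F37881))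
theorem Q9875 : ∀ i, i < 9875 → P i := stepQ 9874 Q9874 (allL N9874 (tt N14129 D24393) (tt N6116 (iv D20052)) (tt N14130 D24394) (tt N12058 F43479) (tt N13884 (iv F48697)) (tt N9874 F37882) (tt N14131 D24395))
theorem Q9876 : ∀ i, i < 9876 → P i := stepQ 9875 Q9875 (allL N9875 (tt N6117 (iv D20053)) (tt N7571 F37883) (tt N12128 (iv F43709)) (tt N9232 F37884) (tt N13779 (iv F48429)) (tt N7572 F37885) (tt N13714 (iv F48243)))
theorem Q9877 : ∀ i, i < 9877 → P i := stepQ 9876 Q9876 (allL N9876 (tt N12128 F43712) (tt N14130 (iv F49374)) (tt N6117 (iv D20054)) (tt N10845 (iv F40631)) (tt N13885 (iv F48699)) (tt N9481 F37886) (tt N14132 D24396))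
theorem Q9878 : ∀ i, i < 9878 → P i := stepQ 9877 Q9877 (allL N9877 (tt N13714 (iv F48240)) (tt N9845 F37887) (tt N14132 (iv F49379)) (tt N10683 (iv F40181)) (tt N13886 (iv F48703)) (tt N9691 F37888) (tt N6117 (iv D20055)))
theorem Q9879 : ∀ i, i < 9879 → P i := stepQ 9878 Q9878 (allL N9878 (tt N14060 (iv F49166)) (tt N6120 (iv D20056)) (tt N14113 (iv F49325)) (tt N14133 D24397) (tt N13887 (iv F48705)) (tt N14134 D24398) (tt N11867 (iv F42997)))
theorem Q9880 : ∀ i, i < 9880 → P i := stepQ 9879 Q9879 (allL N9879 (tt N6121 F37889) (tt N14133 (iv F49382)) (tt N6557 F37890) (tt N6120 (iv D20057)) (tt N13908 (iv F48745)) (tt N9890 (iv F37917)) (tt N6131 (iv F37891)))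
theorem Q9881 : ∀ i, i < 9881 → P i := stepQ 9880 Q9880 (allL N9880 (tt N6122 F37892) (tt N14135 D24399) (tt N6588 F37893) (tt N9890 (iv F37916)) (tt N13889 (iv F48709)) (tt N6120 (iv D20058)) (tt N9884 (iv F37907)))
theorem Q9882 : ∀ i, i < 9882 → P i := stepQ 9881 Q9881 (allL N9881 (tt N6123 F37894) (tt N11859 (iv F42977)) (tt N6595 F37895) (tt N6131 F37896) (tt N13890 (iv F48712)) (tt N6130 F37897) (tt N6120 (iv D20059)))
theorem Q9883 : ∀ i, i < 9883 → P i := stepQ 9882 Q9882 (allL N9882 (tt N13908 (iv F48743)) (tt N6124 F37898) (tt N10205 (iv F38688)) (tt N13892 (iv F48715)) (tt N6121 (iv D20060)) (tt N9639 F37899) (tt N13902 (iv F48731)))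
theorem Q9884 : ∀ i, i < 9884 → P i := stepQ 9883 Q9883 (allL N9883 (tt N6131 F37900) (tt N12071 (iv F43522)) (tt N6556 F37901) (tt N6123 F37902) (tt N13902 (iv F48730)) (tt N6129 (iv F37903)) (tt N6121 (iv D20061)))
theorem Q9885 : ∀ i, i < 9885 → P i := stepQ 9884 Q9884 (allL N9884 (tt N6130 F37904) (tt N14136 D24400) (tt N6596 F37905) (tt N6129 F37906) (tt N13895 (iv F48721)) (tt N6123 (iv D20062)) (tt N9880 F37907))
theorem Q9886 : ∀ i, i < 9886 → P i := stepQ 9885 Q9885 (allL N9885 (tt N6125 (iv D20063)) (tt N14137 D24401) (tt N14071 (iv F49193)) (tt N9214 F37908) (tt N14138 D24402) (tt N14139 D24403) (tt N14140 D24404))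
theorem Q9887 : ∀ i, i < 9887 → P i := stepQ 9886 Q9886 (allL N9886 (tt N14138 (iv F49390)) (tt N6126 F37909) (tt N14073 (iv F49201)) (tt N9217 F37910) (tt N6125 (iv D20064)) (tt N14141 D24405) (tt N14142 D24406))
theorem Q9888 : ∀ i, i < 9888 → P i := stepQ 9887 Q9887 (allL N9887 (tt N14139 (iv F49392)) (tt N9887 F37911) (tt N6549 F43970) (tt N9219 F37912) (tt N14141 (iv F49403)) (tt N6125 (iv D20065)) (tt N12220 F43971))
theorem Q9889 : ∀ i, i < 9889 → P i := stepQ 9888 Q9888 (allL N9888 (tt N14140 (iv F49395)) (tt N12234 (iv F43987)) (tt N14074 (iv F49205)) (tt N9220 F37913) (tt N14142 (iv F49406)) (tt N14143 D24407) (tt N6125 (iv D20066)))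
theorem Q9890 : ∀ i, i < 9890 → P i := stepQ 9889 Q9889 (allL N9889 (tt N14113 (iv F49324)) (tt N6129 (iv D20067)) (tt N14060 (iv F49167)) (tt N14136 (iv F49388)) (tt N13900 (iv F48726)) (tt N12080 (iv F43549)) (tt N14144 D24408))
theorem Q9891 : ∀ i, i < 9891 → P i := stepQ 9890 Q9890 (allL N9890 (tt N6132 F37914) (tt N14145 D24409) (tt N6550 F37915) (tt N9880 F37916) (tt N13903 (iv F48734)) (tt N9879 F37917) (tt N6129 (iv D20068)))
theorem Q9892 : ∀ i, i < 9892 → P i := stepQ 9891 Q9891 (allL N9891 (tt N13895 (iv F48719)) (tt N6133 F37918) (tt N10239 (iv F38750)) (tt N13905 (iv F48736)) (tt N6130 (iv D20069)) (tt N13890 (iv F48713)) (tt N9631 F37919))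
theorem Q9893 : ∀ i, i < 9893 → P i := stepQ 9892 Q9892 (allL N9892 (tt N6134 (iv D20070)) (tt N14146 D24410) (tt N14122 (iv F49354)) (tt N9250 F37920) (tt N14147 D24411) (tt N14148 D24412) (tt N14149 D24413))
theorem Q9894 : ∀ i, i < 9894 → P i := stepQ 9893 Q9893 (allL N9893 (tt N14147 (iv F49418)) (tt N6135 F37921) (tt N14124 (iv F49362)) (tt N9253 F37922) (tt N6134 (iv D20071)) (tt N14150 D24414) (tt N14151 D24415))
theorem Q9895 : ∀ i, i < 9895 → P i := stepQ 9894 Q9894 (allL N9894 (tt N14148 (iv F49420)) (tt N12292 (iv F44121)) (tt N14125 (iv F49366)) (tt N9255 F37923) (tt N14150 (iv F49429)) (tt N6134 (iv D20072)) (tt N14152 D24416))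
theorem Q9896 : ∀ i, i < 9896 → P i := stepQ 9895 Q9895 (allL N9895 (tt N14149 (iv F49425)) (tt N9895 F37924) (tt N6591 F39575) (tt N9256 F37925) (tt N14151 (iv F49433)) (tt N12279 (iv F44092)) (tt N6134 (iv D20073)))
theorem Q9897 : ∀ i, i < 9897 → P i := stepQ 9896 Q9896 (allL N9896 (tt N6138 F37926) (tt N8901 F37927) (tt N6136 (iv D20074)) (tt N6408 F37928) (tt N14153 D24417) (tt N6407 F37929) (tt N12759 (iv F45540)))
theorem Q9898 : ∀ i, i < 9898 → P i := stepQ 9897 Q9897 (allL N9897 (tt N6139 F37930) (tt N8612 F37931) (tt N14153 (iv F49441)) (tt N8612 F37932) (tt N6136 (iv D20075)) (tt N8306 F37933) (tt N14154 D24418))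
theorem Q9899 : ∀ i, i < 9899 → P i := stepQ 9898 Q9898 (allL N9898 (tt N6141 F37934) (tt N10501 (iv F39331)) (tt N12759 (iv F45538)) (tt N6137 F37935) (tt N14154 (iv F49445)) (tt N9904 (iv F37954)) (tt N6136 (iv D20076)))
theorem Q9900 : ∀ i, i < 9900 → P i := stepQ 9899 Q9899 (allL N9899 (tt N10599 (iv F39926)) (tt N6137 (iv D20077)) (tt N10599 (iv F39928)) (tt N10501 (iv F39333)) (tt N6667 F37936) (tt N6666 F37937) (tt N6667 F37938))
theorem Q9901 : ∀ i, i < 9901 → P i := stepQ 9900 Q9900 (allL N9900 (tt N14153 (iv F49439)) (tt N7945 F37939) (tt N6139 F37940) (tt N14155 D24419) (tt N6138 (iv D20078)) (tt N8389 F37941) (tt N14156 D24420))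
theorem Q9902 : ∀ i, i < 9902 → P i := stepQ 9901 Q9901 (allL N9901 (tt N12759 (iv F45537)) (tt N14157 D24421) (tt N6141 F37942) (tt N10307 (iv F38904)) (tt N14156 (iv F49449)) (tt N10304 (iv F38899)) (tt N6138 (iv D20079)))
theorem Q9903 : ∀ i, i < 9903 → P i := stepQ 9902 Q9902 (allL N9902 (tt N8306 F37943) (tt N6626 F37944) (tt N8389 F37945) (tt N8598 F37946) (tt N6140 F37947) (tt N6139 (iv D20080)) (tt N14158 D24422))
theorem Q9904 : ∀ i, i < 9904 → P i := stepQ 9903 Q9903 (allL N9903 (tt N14154 (iv F49443)) (tt N7990 F37948) (tt N14156 (iv F49448)) (tt N8614 F37949) (tt N6141 F37950) (tt N12595 (iv F45071)) (tt N6139 (iv D20081)))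
theorem Q9905 : ∀ i, i < 9905 → P i := stepQ 9904 Q9904 (allL N9904 (tt N8332 F37951) (tt N10602 (iv F39940)) (tt N8496 F37952) (tt N6142 F37953) (tt N14158 (iv F49456)) (tt N9898 F37954) (tt N6140 (iv D20082)))
theorem Q9906 : ∀ i, i < 9906 → P i := stepQ 9905 Q9905 (allL N9905 (tt N14159 D24423) (tt N6144 (iv D20083)) (tt N14160 D24424) (tt N14161 D24425) (tt N13508 (iv F47520)) (tt N14162 D24426) (tt N14163 D24427))
theorem Q9907 : ∀ i, i < 9907 → P i := stepQ 9906 Q9906 (allL N9906 (tt N6145 F37955) (tt N14161 (iv F49462)) (tt N14164 D24428) (tt N6144 (iv D20084)) (tt N14165 D24429) (tt N14166 D24430) (tt N14013 (iv F49036)))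
theorem Q9908 : ∀ i, i < 9908 → P i := stepQ 9907 Q9907 (allL N9907 (tt N6146 F37956) (tt N8063 (iv F37960)) (tt N8571 F37957) (tt N14166 (iv F49473)) (tt N8169 F37958) (tt N6144 (iv D20085)) (tt N8066 F37959))
theorem Q9909 : ∀ i, i < 9909 → P i := stepQ 9908 Q9908 (allL N9908 (tt N14164 (iv F49465)) (tt N6551 F37961) (tt N6145 (iv D20086)) (tt N14167 D24431) (tt N14168 D24432) (tt N6552 (iv F37962)) (tt N14169 D24433))
theorem Q9910 : ∀ i, i < 9910 → P i := stepQ 9909 Q9909 (allL N9909 (tt N14165 (iv F49469)) (tt N6148 F37963) (tt N14168 (iv F49482)) (tt N9126 F37964) (tt N6145 (iv D20087)) (tt N14170 D24434) (tt N14171 D24435))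
theorem Q9911 : ∀ i, i < 9911 → P i := stepQ 9910 Q9910 (allL N9910 (tt N14166 (iv F49471)) (tt N9910 F37965) (tt N6552 F37966) (tt N6146 F37967) (tt N14170 (iv F49490)) (tt N6145 (iv D20088)) (tt N14172 D24436))
theorem Q9912 : ∀ i, i < 9912 → P i := stepQ 9911 Q9911 (allL N9911 (tt N14013 (iv F49035)) (tt N12122 F43684) (tt N14169 (iv F49485)) (tt N6147 F37968) (tt N14171 (iv F49492)) (tt N12347 (iv F44273)) (tt N6145 (iv D20089)))
theorem Q9913 : ∀ i, i < 9913 → P i := stepQ 9912 Q9912 (allL N9912 (tt N8066 F37969) (tt N14173 D24437) (tt N8574 F37970) (tt N14172 (iv F49495)) (tt N8167 F37971) (tt N9762 F37972) (tt N6146 (iv D20090)))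
theorem Q9914 : ∀ i, i < 9914 → P i := stepQ 9913 Q9913 (allL N9913 (tt N6151 F37973) (tt N8908 F37974) (tt N6149 (iv D20091)) (tt N6440 F37975) (tt N14174 D24438) (tt N12784 (iv F45624)) (tt N6438 F37976))
theorem Q9915 : ∀ i, i < 9915 → P i := stepQ 9914 Q9914 (allL N9914 (tt N6152 F37977) (tt N8617 F37978) (tt N14174 (iv F49504)) (tt N8617 F37979) (tt N6149 (iv D20092)) (tt N14175 D24439) (tt N8312 F37980))
theorem Q9916 : ∀ i, i < 9916 → P i := stepQ 9915 Q9915 (allL N9915 (tt N6153 F37981) (tt N10451 (iv F39225)) (tt N12784 (iv F45622)) (tt N6150 F37982) (tt N14175 (iv F49508)) (tt N6149 (iv D20093)) (tt N9921 (iv F38001)))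
theorem Q9917 : ∀ i, i < 9917 → P i := stepQ 9916 Q9916 (allL N9916 (tt N10544 (iv F39428)) (tt N6150 (iv D20094)) (tt N10544 (iv F39429)) (tt N10451 (iv F39227)) (tt N6620 F37983) (tt N6620 F37984) (tt N6618 F37985))
theorem Q9918 : ∀ i, i < 9918 → P i := stepQ 9917 Q9917 (allL N9917 (tt N14174 (iv F49502)) (tt N8003 F37986) (tt N6152 F37987) (tt N14176 D24440) (tt N6151 (iv D20095)) (tt N14177 D24441) (tt N8408 F37988))
theorem Q9919 : ∀ i, i < 9919 → P i := stepQ 9918 Q9918 (allL N9918 (tt N12784 (iv F45621)) (tt N14178 D24442) (tt N6153 F37989) (tt N10343 (iv F38980)) (tt N14177 (iv F49512)) (tt N6151 (iv D20096)) (tt N10341 (iv F38978)))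
theorem Q9920 : ∀ i, i < 9920 → P i := stepQ 9919 Q9919 (allL N9919 (tt N14175 (iv F49506)) (tt N8047 F37990) (tt N14177 (iv F49511)) (tt N8619 F37991) (tt N6153 F37992) (tt N6152 (iv D20097)) (tt N12597 (iv F45080)))
theorem Q9921 : ∀ i, i < 9921 → P i := stepQ 9920 Q9920 (allL N9920 (tt N8312 F37993) (tt N6675 F37994) (tt N8408 F37995) (tt N8602 F37996) (tt N6154 F37997) (tt N14179 D24443) (tt N6152 (iv D20098)))
theorem Q9922 : ∀ i, i < 9922 → P i := stepQ 9921 Q9921 (allL N9921 (tt N8340 F37998) (tt N10547 (iv F39450)) (tt N8525 F37999) (tt N6155 F38000) (tt N14179 (iv F49519)) (tt N6154 (iv D20099)) (tt N9915 F38001))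
theorem Q9923 : ∀ i, i < 9923 → P i := stepQ 9922 Q9922 (allL N9922 (tt N14180 D24444) (tt N6157 (iv D20100)) (tt N14181 D24445) (tt N14182 D24446) (tt N13532 (iv F47597)) (tt N14183 D24447) (tt N14184 D24448))
theorem Q9924 : ∀ i, i < 9924 → P i := stepQ 9923 Q9923 (allL N9923 (tt N6158 F38002) (tt N14182 (iv F49532)) (tt N14185 D24449) (tt N6157 (iv D20101)) (tt N14186 D24450) (tt N13994 (iv F48994)) (tt N14187 D24451))
theorem Q9925 : ∀ i, i < 9925 → P i := stepQ 9924 Q9924 (allL N9924 (tt N6160 F38003) (tt N8106 (iv F38007)) (tt N8580 F38004) (tt N14187 (iv F49551)) (tt N8198 F38005) (tt N8110 F38006) (tt N6157 (iv D20102)))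
theorem Q9926 : ∀ i, i < 9926 → P i := stepQ 9925 Q9925 (allL N9925 (tt N14185 (iv F49543)) (tt N6589 F38008) (tt N6158 (iv D20103)) (tt N14188 D24452) (tt N14189 D24453) (tt N14190 D24454) (tt N6590 (iv F38009)))
theorem Q9927 : ∀ i, i < 9927 → P i := stepQ 9926 Q9926 (allL N9926 (tt N14186 (iv F49547)) (tt N6161 F38010) (tt N14189 (iv F49560)) (tt N9180 F38011) (tt N6158 (iv D20104)) (tt N14191 D24455) (tt N14192 D24456))
theorem Q9928 : ∀ i, i < 9928 → P i := stepQ 9927 Q9927 (allL N9927 (tt N13994 (iv F48993)) (tt N11916 F43128) (tt N14190 (iv F49563)) (tt N6159 F38012) (tt N14191 (iv F49566)) (tt N6158 (iv D20105)) (tt N12393 (iv F44438)))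
theorem Q9929 : ∀ i, i < 9929 → P i := stepQ 9928 Q9928 (allL N9928 (tt N14187 (iv F49549)) (tt N9928 F38013) (tt N6590 F38014) (tt N6160 F38015) (tt N14192 (iv F49570)) (tt N14193 D24457) (tt N6158 (iv D20106)))
theorem Q9930 : ∀ i, i < 9930 → P i := stepQ 9929 Q9929 (allL N9929 (tt N8110 F38016) (tt N14194 D24458) (tt N8583 F38017) (tt N14193 (iv F49573)) (tt N8197 F38018) (tt N6160 (iv D20107)) (tt N9742 F38019))
theorem Q9931 : ∀ i, i < 9931 → P i := stepQ 9930 Q9930 (allL N9930 (tt N11242 (iv F41545)) (tt N13615 (iv F47894)) (tt N6162 (iv D20108)) (tt N14195 D24459) (tt N6389 F38020) (tt N6894 F38021) (tt N14196 D24460))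
theorem Q9932 : ∀ i, i < 9932 → P i := stepQ 9931 Q9931 (allL N9931 (tt N7299 F38022) (tt N7323 F38023) (tt N14196 (iv F49583)) (tt N12521 (iv F44825)) (tt N6390 F38024) (tt N10166 F38616) (tt N6162 (iv D20109)))
theorem Q9933 : ∀ i, i < 9933 → P i := stepQ 9932 Q9932 (allL N9932 (tt N11403 (iv F41889)) (tt N13616 (iv F47898)) (tt N6163 (iv D20110)) (tt N14197 D24461) (tt N6391 F38025) (tt N14198 D24462) (tt N6897 F38026))
theorem Q9934 : ∀ i, i < 9934 → P i := stepQ 9933 Q9933 (allL N9933 (tt N7198 F38027) (tt N7223 F38028) (tt N14198 (iv F49588)) (tt N12522 (iv F44829)) (tt N6392 F38029) (tt N6163 (iv D20111)) (tt N10133 F38535))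
theorem Q9935 : ∀ i, i < 9935 → P i := stepQ 9934 Q9934 (allL N9934 (tt N9970 (iv F38133)) (tt N12510 (iv F44793)) (tt N6164 (iv D20112)) (tt N14199 D24463) (tt N6910 F38030) (tt N6178 F38031) (tt N14200 D24464))
theorem Q9936 : ∀ i, i < 9936 → P i := stepQ 9935 Q9935 (allL N9935 (tt N9962 (iv F38107)) (tt N14201 D24465) (tt N14200 (iv F49592)) (tt N6168 F38032) (tt N6911 F38033) (tt N9959 (iv F38104)) (tt N6164 (iv D20113)))
theorem Q9937 : ∀ i, i < 9937 → P i := stepQ 9936 Q9936 (allL N9936 (tt N11136 (iv F41337)) (tt N6165 (iv D20114)) (tt N14202 D24466) (tt N6169 F38034) (tt N6912 F38035) (tt N11134 F41336) (tt N14201 (iv F49598)))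
theorem Q9938 : ∀ i, i < 9938 → P i := stepQ 9937 Q9937 (allL N9937 (tt N9972 (iv F38140)) (tt N12513 (iv F44799)) (tt N6166 (iv D20115)) (tt N14203 D24467) (tt N6914 F38036) (tt N14204 D24468) (tt N6181 F38037))
theorem Q9939 : ∀ i, i < 9939 → P i := stepQ 9938 Q9938 (allL N9938 (tt N9968 (iv F38123)) (tt N14205 D24469) (tt N14204 (iv F49603)) (tt N6170 F38038) (tt N6915 F38039) (tt N6166 (iv D20116)) (tt N9965 (iv F38120)))
theorem Q9940 : ∀ i, i < 9940 → P i := stepQ 9939 Q9939 (allL N9939 (tt N11206 (iv F41467)) (tt N6167 (iv D20117)) (tt N14206 D24470) (tt N6171 F38040) (tt N6916 F38041) (tt N14205 (iv F49608)) (tt N11203 F41462))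
theorem Q9941 : ∀ i, i < 9941 → P i := stepQ 9940 Q9940 (allL N9940 (tt N7073 F38042) (tt N6168 (iv D20118)) (tt N12171 (iv F43829)) (tt N14201 (iv F49595)) (tt N6399 F38043) (tt N7226 F38044) (tt N6169 F38045))
theorem Q9942 : ∀ i, i < 9942 → P i := stepQ 9941 Q9941 (allL N9941 (tt N11325 (iv F41730)) (tt N13623 (iv F47922)) (tt N6169 (iv D20119)) (tt N14207 D24471) (tt N6400 F38046) (tt N11322 (iv F41727)) (tt N12171 (iv F43831)))
theorem Q9943 : ∀ i, i < 9943 → P i := stepQ 9942 Q9942 (allL N9942 (tt N7045 F38047) (tt N6170 (iv D20120)) (tt N11969 (iv F43275)) (tt N14205 (iv F49606)) (tt N6401 F38048) (tt N6171 F38049) (tt N7325 F38050))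
theorem Q9944 : ∀ i, i < 9944 → P i := stepQ 9943 Q9943 (allL N9943 (tt N11485 (iv F42076)) (tt N13627 (iv F47934)) (tt N6171 (iv D20121)) (tt N14208 D24472) (tt N6402 F38051) (tt N11969 (iv F43276)) (tt N11481 (iv F42071)))
theorem Q9945 : ∀ i, i < 9945 → P i := stepQ 9944 Q9944 (allL N9944 (tt N9944 F38052) (tt N6172 (iv D20122)) (tt N6933 F38053) (tt N9944 F38054) (tt N6933 F38055) (tt N9944 F38056) (tt N9944 F38057))
theorem Q9946 : ∀ i, i < 9946 → P i := stepQ 9945 Q9945 (allL N9945 (tt N6173 F38058) (tt N9945 F38059) (tt N12503 (iv F44773)) (tt N9945 F38060) (tt N6935 F38061) (tt N6172 (iv D20123)) (tt N9950 (iv F38078)))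
theorem Q9947 : ∀ i, i < 9947 → P i := stepQ 9946 Q9946 (allL N9946 (tt N6174 F38062) (tt N9946 F38063) (tt N12504 (iv F44777)) (tt N9946 F38064) (tt N6936 F38065) (tt N9948 (iv F38071)) (tt N6172 (iv D20124)))
theorem Q9948 : ∀ i, i < 9948 → P i := stepQ 9947 Q9947 (allL N9947 (tt N9974 (iv F38153)) (tt N6173 (iv D20125)) (tt N14209 D24473) (tt N9947 F38066) (tt N6939 F38067) (tt N6175 F38068) (tt N9975 (iv F38156)))
theorem Q9949 : ∀ i, i < 9949 → P i := stepQ 9948 Q9948 (allL N9948 (tt N9950 (iv F38075)) (tt N14210 D24474) (tt N12505 (iv F44780)) (tt N9948 F38069) (tt N6940 F38070) (tt N9946 F38071) (tt N6173 (iv D20126)))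
theorem Q9950 : ∀ i, i < 9950 → P i := stepQ 9949 Q9949 (allL N9949 (tt N9978 F38169) (tt N6174 (iv D20127)) (tt N14211 D24475) (tt N9949 F38072) (tt N6941 F38073) (tt N9979 (iv F38173)) (tt N6176 F38074))
theorem Q9951 : ∀ i, i < 9951 → P i := stepQ 9950 Q9950 (allL N9950 (tt N9948 F38075) (tt N14212 D24476) (tt N12506 (iv F44785)) (tt N9950 F38076) (tt N6942 F38077) (tt N6174 (iv D20128)) (tt N9945 F38078))
theorem Q9952 : ∀ i, i < 9952 → P i := stepQ 9951 Q9951 (allL N9951 (tt N6175 (iv D20129)) (tt N9951 F38079) (tt N14213 D24477) (tt N9951 F38080) (tt N6945 F38081) (tt N9974 F38152) (tt N14214 D24478))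
theorem Q9953 : ∀ i, i < 9953 → P i := stepQ 9952 Q9952 (allL N9952 (tt N14213 (iv F49624)) (tt N6178 F38082) (tt N6175 (iv D20130)) (tt N14215 D24479) (tt N6946 F38083) (tt N14209 (iv F49614)) (tt N14216 D24480))
theorem Q9954 : ∀ i, i < 9954 → P i := stepQ 9953 Q9953 (allL N9953 (tt N14214 (iv F49626)) (tt N9956 (iv F38092)) (tt N14216 (iv F49631)) (tt N9953 F38084) (tt N6947 F38085) (tt N6193 (iv F38086)) (tt N6175 (iv D20131)))
theorem Q9955 : ∀ i, i < 9955 → P i := stepQ 9954 Q9954 (allL N9954 (tt N6176 (iv D20132)) (tt N9954 F38087) (tt N14217 D24481) (tt N9954 F38088) (tt N6948 F38089) (tt N14218 D24482) (tt N9978 (iv F38170)))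
theorem Q9956 : ∀ i, i < 9956 → P i := stepQ 9955 Q9955 (allL N9955 (tt N14217 (iv F49634)) (tt N6181 F38090) (tt N6176 (iv D20133)) (tt N14219 D24483) (tt N6949 F38091) (tt N14220 D24484) (tt N14211 (iv F49620)))
theorem Q9957 : ∀ i, i < 9957 → P i := stepQ 9956 Q9956 (allL N9956 (tt N14218 (iv F49636)) (tt N9953 F38092) (tt N14220 (iv F49641)) (tt N9956 F38093) (tt N6950 F38094) (tt N6176 (iv D20134)) (tt N6196 (iv F38095)))
theorem Q9958 : ∀ i, i < 9958 → P i := stepQ 9957 Q9957 (allL N9957 (tt N10922 (iv F40851)) (tt N6177 (iv D20135)) (tt N10922 (iv F40853)) (tt N6183 F38096) (tt N6951 F38097) (tt N9392 F38098) (tt N12942 (iv F46051)))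
theorem Q9959 : ∀ i, i < 9959 → P i := stepQ 9958 Q9958 (allL N9958 (tt N6178 F38099) (tt N13772 (iv F48404)) (tt N6177 (iv D20136)) (tt N14221 D24485) (tt N6952 F38100) (tt N9970 (iv F38134)) (tt N14222 D24486))
theorem Q9960 : ∀ i, i < 9960 → P i := stepQ 9959 Q9959 (allL N9959 (tt N6179 F38101) (tt N11153 (iv F41372)) (tt N14222 (iv F49646)) (tt N6184 F38102) (tt N6953 F38103) (tt N9935 F38104) (tt N6177 (iv D20137)))
theorem Q9961 : ∀ i, i < 9961 → P i := stepQ 9960 Q9960 (allL N9960 (tt N14221 (iv F49644)) (tt N14215 (iv F49630)) (tt N14199 (iv F49591)) (tt N6178 (iv D20138)) (tt N14223 D24487) (tt N14199 (iv F49590)) (tt N14224 D24488))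
theorem Q9962 : ∀ i, i < 9962 → P i := stepQ 9961 Q9961 (allL N9961 (tt N14222 (iv F49645)) (tt N14225 D24489) (tt N6179 F38105) (tt N14224 (iv F49650)) (tt N6955 F38106) (tt N14226 D24490) (tt N6178 (iv D20139)))
theorem Q9963 : ∀ i, i < 9963 → P i := stepQ 9962 Q9962 (allL N9962 (tt N9935 F38107) (tt N7152 (iv F38111)) (tt N14226 (iv F49653)) (tt N6186 F38108) (tt N6956 F38109) (tt N6179 (iv D20140)) (tt N6185 F38110))
theorem Q9964 : ∀ i, i < 9964 → P i := stepQ 9963 Q9963 (allL N9963 (tt N10933 (iv F40874)) (tt N6180 (iv D20141)) (tt N10933 (iv F40876)) (tt N6187 F38112) (tt N6957 F38113) (tt N12926 (iv F46018)) (tt N9397 F38114))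
theorem Q9965 : ∀ i, i < 9965 → P i := stepQ 9964 Q9964 (allL N9964 (tt N6181 F38115) (tt N13780 (iv F48432)) (tt N6180 (iv D20142)) (tt N14227 D24491) (tt N6958 F38116) (tt N14228 D24492) (tt N9972 (iv F38141)))
theorem Q9966 : ∀ i, i < 9966 → P i := stepQ 9965 Q9965 (allL N9965 (tt N6182 F38117) (tt N11221 F41504) (tt N14228 (iv F49658)) (tt N6188 F38118) (tt N6959 F38119) (tt N6180 (iv D20143)) (tt N9938 F38120))
theorem Q9967 : ∀ i, i < 9967 → P i := stepQ 9966 Q9966 (allL N9966 (tt N14227 (iv F49656)) (tt N14219 (iv F49640)) (tt N14203 (iv F49602)) (tt N6181 (iv D20144)) (tt N14229 D24493) (tt N14230 D24494) (tt N14203 (iv F49601)))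
theorem Q9968 : ∀ i, i < 9968 → P i := stepQ 9967 Q9967 (allL N9967 (tt N14228 (iv F49657)) (tt N14231 D24495) (tt N6182 F38121) (tt N14230 (iv F49662)) (tt N6961 F38122) (tt N6181 (iv D20145)) (tt N14232 D24496))
theorem Q9969 : ∀ i, i < 9969 → P i := stepQ 9968 Q9968 (allL N9968 (tt N9938 F38123) (tt N7112 (iv F38127)) (tt N14232 (iv F49665)) (tt N6190 F38124) (tt N6962 F38125) (tt N6189 F38126) (tt N6182 (iv D20146)))
theorem Q9970 : ∀ i, i < 9970 → P i := stepQ 9969 Q9969 (allL N9969 (tt N7269 F38128) (tt N7242 F38129) (tt N9375 F38130) (tt N12942 (iv F46048)) (tt N6403 F38131) (tt N6964 F38132) (tt N6183 (iv D20147)))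
theorem Q9971 : ∀ i, i < 9971 → P i := stepQ 9970 Q9970 (allL N9970 (tt N9934 F38133) (tt N14233 D24497) (tt N6185 (iv D20148)) (tt N14234 D24498) (tt N10868 (iv F40711)) (tt N9958 F38134) (tt N14226 (iv F49655)))
theorem Q9972 : ∀ i, i < 9972 → P i := stepQ 9971 Q9971 (allL N9971 (tt N7168 F38135) (tt N7343 F38136) (tt N9378 F38137) (tt N12926 (iv F46016)) (tt N6404 F38138) (tt N6187 (iv D20149)) (tt N6974 F38139))
theorem Q9973 : ∀ i, i < 9973 → P i := stepQ 9972 Q9972 (allL N9972 (tt N9937 F38140) (tt N14235 D24499) (tt N6189 (iv D20150)) (tt N14236 D24500) (tt N10876 (iv F40728)) (tt N14232 (iv F49667)) (tt N9964 F38141))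
theorem Q9974 : ∀ i, i < 9974 → P i := stepQ 9973 Q9973 (allL N9973 (tt N9973 F38142) (tt N6199 F38143) (tt N6192 F38191) (tt N6191 (iv D20151)) (tt N6990 F38192) (tt N9973 F38144) (tt N6191 F38193))
theorem Q9975 : ∀ i, i < 9975 → P i := stepQ 9974 Q9974 (allL N9974 (tt N9947 F38153) (tt N6192 (iv D20153)) (tt N14237 D24501) (tt N9974 F38149) (tt N6991 F38150) (tt N9951 (iv F38152)) (tt N6193 F38151))
theorem Q9976 : ∀ i, i < 9976 → P i := stepQ 9975 Q9975 (allL N9975 (tt N6193 (iv D20154)) (tt N14238 D24502) (tt N14239 D24503) (tt N9975 F38154) (tt N6992 F38155) (tt N14214 (iv F49629)) (tt N9947 F38156))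
theorem Q9977 : ∀ i, i < 9977 → P i := stepQ 9976 Q9976 (allL N9976 (tt N14239 (iv F49682)) (tt N6203 F38157) (tt N6193 (iv D20155)) (tt N14240 D24504) (tt N6993 F38158) (tt N14216 F49633) (tt N14237 (iv F49678)))
theorem Q9978 : ∀ i, i < 9978 → P i := stepQ 9977 Q9977 (allL N9977 (tt N9977 F38159) (tt N6207 F38160) (tt N6195 F40978) (tt N6194 (iv D20156)) (tt N6995 F40979) (tt N6194 F40980) (tt N9977 F38161))
theorem Q9979 : ∀ i, i < 9979 → P i := stepQ 9978 Q9978 (allL N9978 (tt N9949 (iv F38169)) (tt N6195 (iv D20158)) (tt N14241 D24505) (tt N9978 F38166) (tt N6996 F38167) (tt N6196 F38168) (tt N9954 F38170))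
theorem Q9980 : ∀ i, i < 9980 → P i := stepQ 9979 Q9979 (allL N9979 (tt N6196 (iv D20159)) (tt N14242 D24506) (tt N14243 D24507) (tt N9979 F38171) (tt N6997 F38172) (tt N9949 F38173) (tt N14218 (iv F49639)))
theorem Q9981 : ∀ i, i < 9981 → P i := stepQ 9980 Q9980 (allL N9980 (tt N14243 (iv F49694)) (tt N6211 F38174) (tt N6196 (iv D20160)) (tt N14244 D24508) (tt N6998 F38175) (tt N14241 (iv F49689)) (tt N14220 F49643))
theorem Q9982 : ∀ i, i < 9982 → P i := stepQ 9981 Q9981 (allL N9981 (tt N13772 (iv F48403)) (tt N10134 (iv F38537)) (tt N6197 (iv D20161)) (tt N14245 D24509) (tt N6999 F38176) (tt N14246 D24510) (tt N14247 D24511))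
theorem Q9983 : ∀ i, i < 9983 → P i := stepQ 9982 Q9982 (allL N9982 (tt N10867 (iv F40706)) (tt N6251 F38177) (tt N14246 (iv F49699)) (tt N6215 F38178) (tt N7000 F38179) (tt N6197 (iv D20162)) (tt N14248 D24512))
theorem Q9984 : ∀ i, i < 9984 → P i := stepQ 9983 Q9983 (allL N9983 (tt N11176 (iv F41404)) (tt N10101 (iv F38443)) (tt N14247 (iv F49701)) (tt N6216 F38180) (tt N7001 F38181) (tt N14249 D24513) (tt N6197 (iv D20163)))
theorem Q9985 : ∀ i, i < 9985 → P i := stepQ 9984 Q9984 (allL N9984 (tt N6258 F38185) (tt N6198 (iv D20164)) (tt N10134 (iv F38538)) (tt N7091 (iv F38184)) (tt N6254 F38182) (tt N7090 F38183) (tt N10986 (iv F41015)))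
theorem Q9986 : ∀ i, i < 9986 → P i := stepQ 9985 Q9985 (allL N9985 (tt N6199 F38186) (tt N7091 F38187) (tt N10029 (iv F38299)) (tt N6198 (iv D20165)) (tt N7090 F38188) (tt N6254 F38189) (tt N10096 (iv F38434)))
theorem Q9987 : ∀ i, i < 9987 → P i := stepQ 9986 Q9986 (allL N9986 (tt N10029 (iv F38298)) (tt N14237 (iv F49675)) (tt N6199 (iv D20166)) (tt N10026 (iv F38294)) (tt N14250 D24514) (tt N6257 F38190) (tt N14251 D24515))
theorem Q9988 : ∀ i, i < 9988 → P i := stepQ 9987 Q9987 (allL N9987 (tt N7090 F38194) (tt N6990 F38195) (tt N14250 (iv F49714)) (tt N7003 F38196) (tt N6199 (iv D20167)) (tt N6258 F38197) (tt N7005 (iv F38198)))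
theorem Q9989 : ∀ i, i < 9989 → P i := stepQ 9988 Q9988 (allL N9988 (tt N10096 (iv F38432)) (tt N6200 F38199) (tt N14251 (iv F49719)) (tt N6200 F38200) (tt N7005 F38201) (tt N10086 (iv F38416)) (tt N6199 (iv D20168)))
theorem Q9990 : ∀ i, i < 9990 → P i := stepQ 9989 Q9989 (allL N9989 (tt N6201 (iv D20169)) (tt N14252 D24516) (tt N14253 D24517) (tt N6223 F38202) (tt N7006 F38203) (tt N9997 (iv F38224)) (tt N6202 F38204))
theorem Q9991 : ∀ i, i < 9991 → P i := stepQ 9990 Q9990 (allL N9990 (tt N14253 (iv F49727)) (tt N14251 (iv F49718)) (tt N6201 (iv D20170)) (tt N14254 D24518) (tt N7007 F38205) (tt N14255 D24519) (tt N6203 F38206))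
theorem Q9992 : ∀ i, i < 9992 → P i := stepQ 9991 Q9991 (allL N9991 (tt N9997 (iv F38221)) (tt N10090 (iv F38421)) (tt N14255 (iv F49732)) (tt N6225 F38207) (tt N7008 F38208) (tt N6201 (iv D20171)) (tt N9994 (iv F38218)))
theorem Q9993 : ∀ i, i < 9993 → P i := stepQ 9992 Q9992 (allL N9992 (tt N11175 (iv F41399)) (tt N6202 (iv D20172)) (tt N14256 D24520) (tt N6226 F38209) (tt N7009 F38210) (tt N7137 (iv F38211)) (tt N11173 F41397))
theorem Q9994 : ∀ i, i < 9994 → P i := stepQ 9993 Q9993 (allL N9993 (tt N6203 F38212) (tt N14257 D24521) (tt N6202 (iv D20173)) (tt N14258 D24522) (tt N7010 F38213) (tt N14259 D24523) (tt N14253 (iv F49729)))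
theorem Q9995 : ∀ i, i < 9995 → P i := stepQ 9994 Q9994 (allL N9994 (tt N6204 F38214) (tt N7027 F38215) (tt N14259 (iv F49739)) (tt N6228 F38216) (tt N7011 F38217) (tt N6202 (iv D20174)) (tt N9991 F38218))
theorem Q9996 : ∀ i, i < 9996 → P i := stepQ 9995 Q9995 (allL N9995 (tt N14258 (iv F49737)) (tt N14240 (iv F49685)) (tt N14260 D24524) (tt N6203 (iv D20175)) (tt N14261 D24525) (tt N14262 D24526) (tt N14254 (iv F49731)))
theorem Q9997 : ∀ i, i < 9997 → P i := stepQ 9996 Q9996 (allL N9996 (tt N14259 (iv F49738)) (tt N14263 D24527) (tt N6204 F38219) (tt N14262 (iv F49743)) (tt N7013 F38220) (tt N6203 (iv D20176)) (tt N14264 D24528))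
theorem Q9998 : ∀ i, i < 9998 → P i := stepQ 9997 Q9997 (allL N9997 (tt N9991 F38221) (tt N11148 (iv F41356)) (tt N14264 (iv F49747)) (tt N6231 F38222) (tt N7014 F38223) (tt N9989 F38224) (tt N6204 (iv D20177)))
theorem Q9999 : ∀ i, i < 9999 → P i := stepQ 9998 Q9998 (allL N9998 (tt N13780 (iv F48431)) (tt N10167 (iv F38618)) (tt N6205 (iv D20178)) (tt N14265 D24529) (tt N7015 F38225) (tt N14266 D24530) (tt N14267 D24531))
theorem Q10000 : ∀ i, i < 10000 → P i := stepQ 9999 Q9999 (allL N9999 (tt N11102 F41259) (tt N10120 (iv F38490)) (tt N14266 (iv F49751)) (tt N6234 F38226) (tt N7016 F38227) (tt N6205 (iv D20179)) (tt N14268 D24532))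
theorem Q10001 : ∀ i, i < 10001 → P i := stepQ 10000 Q10000 (allL N10000 (tt N10875 (iv F40723)) (tt N6264 F38228) (tt N14267 (iv F49753)) (tt N6235 F38229) (tt N7017 F38230) (tt N14269 D24533) (tt N6205 (iv D20180)))
theorem Q10002 : ∀ i, i < 10002 → P i := stepQ 10001 Q10001 (allL N10001 (tt N6270 F38234) (tt N6206 (iv D20181)) (tt N10167 (iv F38619)) (tt N7132 (iv F38233)) (tt N6266 F38231) (tt N11010 (iv F41060)) (tt N7130 F38232))
theorem Q10003 : ∀ i, i < 10003 → P i := stepQ 10002 Q10002 (allL N10002 (tt N6207 F38235) (tt N7132 F38236) (tt N10063 (iv F38365)) (tt N6206 (iv D20182)) (tt N7130 F38237) (tt N10115 (iv F38481)) (tt N6266 F38238))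
theorem Q10004 : ∀ i, i < 10004 → P i := stepQ 10003 Q10003 (allL N10003 (tt N10063 (iv F38364)) (tt N14241 (iv F49687)) (tt N6207 (iv D20183)) (tt N10060 (iv F38360)) (tt N14270 D24534) (tt N14271 D24535) (tt N6269 F38239))
theorem Q10005 : ∀ i, i < 10005 → P i := stepQ 10004 Q10004 (allL N10004 (tt N7130 F38240) (tt N6995 (iv F40976)) (tt N14270 (iv F49766)) (tt N7019 F38241) (tt N6207 (iv D20184)) (tt N7021 F40981) (tt N6270 F38242))
theorem Q10006 : ∀ i, i < 10006 → P i := stepQ 10005 Q10005 (allL N10005 (tt N10115 (iv F38479)) (tt N6208 F40982) (tt N14271 (iv F49771)) (tt N6208 F38243) (tt N7021 F40983) (tt N6207 (iv D20185)) (tt N10105 (iv F38462)))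
theorem Q10007 : ∀ i, i < 10007 → P i := stepQ 10006 Q10006 (allL N10006 (tt N6209 (iv D20187)) (tt N14272 D24536) (tt N14273 D24537) (tt N6242 F38245) (tt N7022 F38246) (tt N6210 F38247) (tt N10014 (iv F38267)))
theorem Q10008 : ∀ i, i < 10008 → P i := stepQ 10007 Q10007 (allL N10007 (tt N14273 (iv F49779)) (tt N14271 (iv F49770)) (tt N6209 (iv D20188)) (tt N14274 D24538) (tt N7023 F38248) (tt N6211 F38249) (tt N14275 D24539))
theorem Q10009 : ∀ i, i < 10009 → P i := stepQ 10008 Q10008 (allL N10008 (tt N10014 (iv F38264)) (tt N10109 (iv F38467)) (tt N14275 (iv F49784)) (tt N6244 F38250) (tt N7024 F38251) (tt N10011 (iv F38261)) (tt N6209 (iv D20189)))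
theorem Q10010 : ∀ i, i < 10010 → P i := stepQ 10009 Q10009 (allL N10009 (tt N11105 (iv F41265)) (tt N6210 (iv D20190)) (tt N14276 D24540) (tt N6245 F38252) (tt N7025 F38253) (tt N11103 (iv F41263)) (tt N7097 (iv F38254)))
theorem Q10011 : ∀ i, i < 10011 → P i := stepQ 10010 Q10010 (allL N10010 (tt N6211 F38255) (tt N14277 D24541) (tt N6210 (iv D20191)) (tt N14278 D24542) (tt N7026 F38256) (tt N14273 (iv F49781)) (tt N14279 D24543))
theorem Q10012 : ∀ i, i < 10012 → P i := stepQ 10011 Q10011 (allL N10011 (tt N6212 F38257) (tt N7011 F38258) (tt N14279 (iv F49791)) (tt N6247 F38259) (tt N7027 F38260) (tt N10008 F38261) (tt N6210 (iv D20192)))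
theorem Q10013 : ∀ i, i < 10013 → P i := stepQ 10012 Q10012 (allL N10012 (tt N14278 (iv F49789)) (tt N14244 (iv F49697)) (tt N14280 D24544) (tt N6211 (iv D20193)) (tt N14281 D24545) (tt N14274 (iv F49783)) (tt N14282 D24546))
theorem Q10014 : ∀ i, i < 10014 → P i := stepQ 10013 Q10013 (allL N10013 (tt N14279 (iv F49790)) (tt N14283 D24547) (tt N6212 F38262) (tt N14282 (iv F49795)) (tt N7029 F38263) (tt N14284 D24548) (tt N6211 (iv D20194)))
theorem Q10015 : ∀ i, i < 10015 → P i := stepQ 10014 Q10014 (allL N10014 (tt N10008 F38264) (tt N11217 (iv F41490)) (tt N14284 (iv F49799)) (tt N6250 F38265) (tt N7030 F38266) (tt N6212 (iv D20195)) (tt N10006 F38267))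
theorem Q10016 : ∀ i, i < 10016 → P i := stepQ 10015 Q10015 (allL N10015 (tt N6214 F38268) (tt N8497 F38269) (tt N6213 (iv D20196)) (tt N14285 D24549) (tt N6405 F38270) (tt N10263 (iv F38798)) (tt N11419 (iv F41933)))
theorem Q10017 : ∀ i, i < 10017 → P i := stepQ 10016 Q10016 (allL N10016 (tt N10024 (iv F38287)) (tt N6214 (iv D20197)) (tt N6217 F38271) (tt N14286 D24550) (tt N6406 F38272) (tt N10022 (iv F38285)) (tt N14287 D24551))
theorem Q10018 : ∀ i, i < 10018 → P i := stepQ 10017 Q10017 (allL N10017 (tt N14285 (iv F49802)) (tt N14286 (iv F49805)) (tt N14288 D24552) (tt N6214 (iv D20198)) (tt N14289 D24553) (tt N14290 D24554) (tt N14291 D24555))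
theorem Q10019 : ∀ i, i < 10019 → P i := stepQ 10018 Q10018 (allL N10018 (tt N10263 (iv F38799)) (tt N10847 (iv F40639)) (tt N6215 F38273) (tt N14290 (iv F49814)) (tt N6408 F38274) (tt N6214 (iv D20199)) (tt N14292 D24556))
theorem Q10020 : ∀ i, i < 10020 → P i := stepQ 10019 Q10019 (allL N10019 (tt N11419 (iv F41931)) (tt N14293 D24557) (tt N6216 F38275) (tt N14291 (iv F49815)) (tt N6409 F38276) (tt N14294 D24558) (tt N6214 (iv D20200)))
theorem Q10021 : ∀ i, i < 10021 → P i := stepQ 10020 Q10020 (allL N10020 (tt N10021 (iv F38280)) (tt N7060 F38277) (tt N14292 (iv F49816)) (tt N14248 (iv F49704)) (tt N6410 F38278) (tt N7282 F38279) (tt N6215 (iv D20201)))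
theorem Q10022 : ∀ i, i < 10022 → P i := stepQ 10021 Q10021 (allL N10021 (tt N10020 F38280) (tt N7266 F38283) (tt N14294 (iv F49823)) (tt N14249 (iv F49708)) (tt N6411 F38281) (tt N6216 (iv D20202)) (tt N6917 F38282))
theorem Q10023 : ∀ i, i < 10023 → P i := stepQ 10022 Q10022 (allL N10022 (tt N6217 (iv D20203)) (tt N11242 (iv F41546)) (tt N10024 (iv F38289)) (tt N14295 D24559) (tt N6412 F38284) (tt N10016 F38285) (tt N14296 D24560))
theorem Q10024 : ∀ i, i < 10024 → P i := stepQ 10023 Q10023 (allL N10023 (tt N14295 (iv F49826)) (tt N6218 F38286) (tt N14297 D24561) (tt N6217 (iv D20204)) (tt N14298 D24562) (tt N14299 D24563) (tt N14300 D24564))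
theorem Q10025 : ∀ i, i < 10025 → P i := stepQ 10024 Q10024 (allL N10024 (tt N10016 F38287) (tt N6281 F38288) (tt N10022 F38289) (tt N14299 (iv F49836)) (tt N6414 F38290) (tt N6217 (iv D20205)) (tt N14301 D24565))
theorem Q10026 : ∀ i, i < 10026 → P i := stepQ 10025 Q10025 (allL N10025 (tt N14296 (iv F49828)) (tt N10150 (iv F38565)) (tt N14287 (iv F49808)) (tt N14300 (iv F49838)) (tt N6415 F38291) (tt N14287 (iv F49810)) (tt N6217 (iv D20206)))
theorem Q10027 : ∀ i, i < 10027 → P i := stepQ 10026 Q10026 (allL N10026 (tt N6219 F38292) (tt N14302 D24566) (tt N6218 (iv D20207)) (tt N9986 F38294) (tt N14303 D24567) (tt N6283 F38293) (tt N10139 (iv F38546)))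
theorem Q10028 : ∀ i, i < 10028 → P i := stepQ 10027 Q10027 (allL N10027 (tt N6220 F38295) (tt N14298 (iv F49831)) (tt N14303 (iv F49846)) (tt N6416 F38296) (tt N6218 (iv D20208)) (tt N6284 F38297) (tt N10141 (iv F38553)))
theorem Q10029 : ∀ i, i < 10029 → P i := stepQ 10028 Q10028 (allL N10028 (tt N14304 D24568) (tt N6219 (iv D20209)) (tt N13725 (iv F48276)) (tt N14305 D24569) (tt N14306 D24570) (tt N13725 (iv F48278)) (tt N14307 D24571))
theorem Q10030 : ∀ i, i < 10030 → P i := stepQ 10029 Q10029 (allL N10029 (tt N9986 F38298) (tt N14305 (iv F49849)) (tt N9985 F38299) (tt N6219 (iv D20210)) (tt N11107 (iv F41271)) (tt N6290 F38300) (tt N14308 D24572))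
theorem Q10031 : ∀ i, i < 10031 → P i := stepQ 10030 Q10030 (allL N10030 (tt N14303 (iv F49845)) (tt N14306 (iv F49853)) (tt N6220 F38301) (tt N14309 D24573) (tt N6219 (iv D20211)) (tt N6291 F38302) (tt N14310 D24574))
theorem Q10032 : ∀ i, i < 10032 → P i := stepQ 10031 Q10031 (allL N10031 (tt N10139 (iv F38544)) (tt N14311 D24575) (tt N6221 F38303) (tt N14308 (iv F49856)) (tt N14310 (iv F49860)) (tt N10127 (iv F38516)) (tt N6219 (iv D20212)))
theorem Q10033 : ∀ i, i < 10033 → P i := stepQ 10032 Q10032 (allL N10032 (tt N10141 (iv F38550)) (tt N14312 D24576) (tt N14310 (iv F49859)) (tt N6419 F38304) (tt N6221 F38305) (tt N10128 (iv F38520)) (tt N6220 (iv D20213)))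
theorem Q10034 : ∀ i, i < 10034 → P i := stepQ 10033 Q10033 (allL N10033 (tt N14313 D24577) (tt N6221 (iv D20214)) (tt N14314 D24578) (tt N6222 F38306) (tt N14312 (iv F49862)) (tt N14315 D24579) (tt N13729 (iv F48285)))
theorem Q10035 : ∀ i, i < 10035 → P i := stepQ 10034 Q10034 (allL N10034 (tt N6222 (iv D20215)) (tt N14316 D24580) (tt N14317 D24581) (tt N14313 (iv F49863)) (tt N6421 F38307) (tt N14318 D24582) (tt N13730 (iv F48287)))
theorem Q10036 : ∀ i, i < 10036 → P i := stepQ 10035 Q10035 (allL N10035 (tt N14317 (iv F49868)) (tt N6224 F38308) (tt N6222 (iv D20216)) (tt N12469 (iv F44675)) (tt N6422 F38309) (tt N14319 D24583) (tt N13731 (iv F48290)))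
theorem Q10037 : ∀ i, i < 10037 → P i := stepQ 10036 Q10036 (allL N10036 (tt N14318 (iv F49872)) (tt N10132 (iv F38530)) (tt N14319 (iv F49877)) (tt N14315 (iv F49864)) (tt N6423 F38310) (tt N6222 (iv D20217)) (tt N14320 D24584))
theorem Q10038 : ∀ i, i < 10038 → P i := stepQ 10037 Q10037 (allL N10037 (tt N6929 F38311) (tt N6223 (iv D20218)) (tt N14321 D24585) (tt N14252 (iv F49724)) (tt N6424 F38312) (tt N6930 F38313) (tt N10896 (iv F40771)))
theorem Q10039 : ∀ i, i < 10039 → P i := stepQ 10038 Q10038 (allL N10038 (tt N6224 F38314) (tt N14322 D24586) (tt N6223 (iv D20219)) (tt N14323 D24587) (tt N6425 F38315) (tt N10048 (iv F38333)) (tt N6227 F38316))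
theorem Q10040 : ∀ i, i < 10040 → P i := stepQ 10039 Q10039 (allL N10039 (tt N14323 (iv F49890)) (tt N12469 (iv F44674)) (tt N14324 D24588) (tt N6224 (iv D20220)) (tt N12399 (iv F44464)) (tt N14325 D24589) (tt N6229 F38317))
theorem Q10041 : ∀ i, i < 10041 → P i := stepQ 10040 Q10040 (allL N10040 (tt N10048 (iv F38330)) (tt N14326 D24590) (tt N6225 F38318) (tt N14325 (iv F49896)) (tt N6427 F38319) (tt N6224 (iv D20221)) (tt N10044 (iv F38327)))
theorem Q10042 : ∀ i, i < 10042 → P i := stepQ 10041 Q10041 (allL N10041 (tt N11418 (iv F41927)) (tt N14327 D24591) (tt N6226 (iv D20222)) (tt N14328 D24592) (tt N6428 F38320) (tt N7302 F38321) (tt N11416 (iv F41925)))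
theorem Q10043 : ∀ i, i < 10043 → P i := stepQ 10042 Q10042 (allL N10042 (tt N14329 D24593) (tt N6227 (iv D20223)) (tt N14327 (iv F49901)) (tt N9747 (iv F39812)) (tt N6429 F38322) (tt N14330 D24594) (tt N14331 D24595))
theorem Q10044 : ∀ i, i < 10044 → P i := stepQ 10043 Q10043 (allL N10043 (tt N6229 F38323) (tt N9747 F39814) (tt N14332 D24596) (tt N6227 (iv D20224)) (tt N8492 (iv F39815)) (tt N14333 D24597) (tt N14323 (iv F49892)))
theorem Q10045 : ∀ i, i < 10045 → P i := stepQ 10044 Q10044 (allL N10044 (tt N6230 F38324) (tt N14334 D24598) (tt N6228 F38325) (tt N14333 (iv F49918)) (tt N6431 F38326) (tt N6227 (iv D20225)) (tt N10040 F38327))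
theorem Q10046 : ∀ i, i < 10046 → P i := stepQ 10045 Q10045 (allL N10045 (tt N14332 (iv F49913)) (tt N8415 F39820) (tt N6229 (iv D20226)) (tt N14335 D24599) (tt N8535 (iv F39819)) (tt N14336 D24600) (tt N14324 (iv F49894)))
theorem Q10047 : ∀ i, i < 10047 → P i := stepQ 10046 Q10046 (allL N10046 (tt N8492 F39816) (tt N8541 (iv F39818)) (tt N8535 F39817) (tt N6433 F38328) (tt N6229 (iv D20227)) (tt N14337 D24601) (tt N12399 (iv F44465)))
theorem Q10048 : ∀ i, i < 10048 → P i := stepQ 10047 Q10047 (allL N10047 (tt N14333 (iv F49917)) (tt N11345 (iv F41772)) (tt N14336 (iv F49928)) (tt N6230 F38329) (tt N14337 (iv F49933)) (tt N6229 (iv D20228)) (tt N14338 D24602))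
theorem Q10049 : ∀ i, i < 10049 → P i := stepQ 10048 Q10048 (allL N10048 (tt N10040 F38330) (tt N14339 D24603) (tt N6231 F38331) (tt N14338 (iv F49935)) (tt N6435 F38332) (tt N10038 F38333) (tt N6230 (iv D20229)))
theorem Q10050 : ∀ i, i < 10050 → P i := stepQ 10049 Q10049 (allL N10049 (tt N6233 F38334) (tt N8526 F38335) (tt N6232 (iv D20230)) (tt N14340 D24604) (tt N6436 F38336) (tt N11255 (iv F41579)) (tt N10282 (iv F38838)))
theorem Q10051 : ∀ i, i < 10051 → P i := stepQ 10050 Q10050 (allL N10050 (tt N10059 (iv F38354)) (tt N6233 (iv D20231)) (tt N6236 F38337) (tt N14341 D24605) (tt N6437 F38338) (tt N14342 D24606) (tt N10056 F38351))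
theorem Q10052 : ∀ i, i < 10052 → P i := stepQ 10051 Q10051 (allL N10051 (tt N14340 (iv F49939)) (tt N14341 (iv F49942)) (tt N14343 D24607) (tt N6233 (iv D20232)) (tt N14344 D24608) (tt N14345 D24609) (tt N14346 D24610))
theorem Q10053 : ∀ i, i < 10053 → P i := stepQ 10052 Q10052 (allL N10052 (tt N11255 (iv F41577)) (tt N14347 D24611) (tt N6234 F38339) (tt N14345 (iv F49951)) (tt N6439 F38340) (tt N6233 (iv D20233)) (tt N14348 D24612))
theorem Q10054 : ∀ i, i < 10054 → P i := stepQ 10053 Q10053 (allL N10053 (tt N10282 F38839) (tt N10850 (iv F40644)) (tt N6235 F38341) (tt N14346 (iv F49952)) (tt N6440 F38342) (tt N14349 D24613) (tt N6233 (iv D20234)))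
theorem Q10055 : ∀ i, i < 10055 → P i := stepQ 10054 Q10054 (allL N10054 (tt N10055 (iv F38346)) (tt N7366 (iv F38345)) (tt N14348 (iv F49955)) (tt N14268 (iv F49755)) (tt N6441 F38343) (tt N6925 F38344) (tt N6234 (iv D20235)))
theorem Q10056 : ∀ i, i < 10056 → P i := stepQ 10055 Q10055 (allL N10055 (tt N10054 F38346) (tt N7031 F38347) (tt N14349 (iv F49959)) (tt N14269 (iv F49761)) (tt N6442 F38348) (tt N6235 (iv D20236)) (tt N7177 F38349))
theorem Q10057 : ∀ i, i < 10057 → P i := stepQ 10056 Q10056 (allL N10056 (tt N6236 (iv D20237)) (tt N11403 (iv F41890)) (tt N10059 (iv F38356)) (tt N14350 D24614) (tt N6443 F38350) (tt N14351 D24615) (tt N10050 (iv F38351)))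
theorem Q10058 : ∀ i, i < 10058 → P i := stepQ 10057 Q10057 (allL N10057 (tt N14350 (iv F49963)) (tt N6237 F38352) (tt N14352 D24616) (tt N6236 (iv D20238)) (tt N14353 D24617) (tt N14354 D24618) (tt N14355 D24619))
theorem Q10059 : ∀ i, i < 10059 → P i := stepQ 10058 Q10058 (allL N10058 (tt N14351 (iv F49965)) (tt N10183 (iv F38646)) (tt N14342 (iv F49945)) (tt N14354 (iv F49971)) (tt N6445 F38353) (tt N6236 (iv D20239)) (tt N14342 (iv F49947)))
theorem Q10060 : ∀ i, i < 10060 → P i := stepQ 10059 Q10059 (allL N10059 (tt N10050 F38354) (tt N6309 F38355) (tt N10056 F38356) (tt N14355 (iv F49974)) (tt N6446 F38357) (tt N14356 D24620) (tt N6236 (iv D20240)))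
theorem Q10061 : ∀ i, i < 10061 → P i := stepQ 10060 Q10060 (allL N10060 (tt N6238 F38358) (tt N14357 D24621) (tt N6237 (iv D20241)) (tt N10003 F38360) (tt N14358 D24622) (tt N10172 (iv F38627)) (tt N6310 F38359))
theorem Q10062 : ∀ i, i < 10062 → P i := stepQ 10061 Q10061 (allL N10061 (tt N6239 F38361) (tt N14353 (iv F49968)) (tt N14358 (iv F49983)) (tt N6447 F38362) (tt N6237 (iv D20242)) (tt N10174 (iv F38634)) (tt N6311 F38363))
theorem Q10063 : ∀ i, i < 10063 → P i := stepQ 10062 Q10062 (allL N10062 (tt N14359 D24623) (tt N6238 (iv D20243)) (tt N13750 (iv F48343)) (tt N14360 D24624) (tt N14361 D24625) (tt N14362 D24626) (tt N13750 (iv F48345)))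
theorem Q10064 : ∀ i, i < 10064 → P i := stepQ 10063 Q10063 (allL N10063 (tt N10003 F38364) (tt N14360 (iv F49985)) (tt N10002 F38365) (tt N6238 (iv D20244)) (tt N11177 (iv F41408)) (tt N14363 D24627) (tt N6317 F38366))
theorem Q10065 : ∀ i, i < 10065 → P i := stepQ 10064 Q10064 (allL N10064 (tt N14358 (iv F49982)) (tt N14361 (iv F49989)) (tt N6239 F38367) (tt N14364 D24628) (tt N6238 (iv D20245)) (tt N14365 D24629) (tt N6318 F38368))
theorem Q10066 : ∀ i, i < 10066 → P i := stepQ 10065 Q10065 (allL N10065 (tt N10172 (iv F38625)) (tt N14366 D24630) (tt N6240 F38369) (tt N14363 (iv F49992)) (tt N14365 (iv F49996)) (tt N6238 (iv D20246)) (tt N10160 (iv F38597)))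
theorem Q10067 : ∀ i, i < 10067 → P i := stepQ 10066 Q10066 (allL N10066 (tt N10174 (iv F38631)) (tt N14367 D24631) (tt N14365 (iv F49995)) (tt N6450 F38370) (tt N6240 F38371) (tt N6239 (iv D20247)) (tt N10161 (iv F38601)))
theorem Q10068 : ∀ i, i < 10068 → P i := stepQ 10067 Q10067 (allL N10067 (tt N14368 D24632) (tt N6240 (iv D20248)) (tt N14369 D24633) (tt N6241 F38372) (tt N14367 (iv F49998)) (tt N13754 (iv F48352)) (tt N14370 D24634))
theorem Q10069 : ∀ i, i < 10069 → P i := stepQ 10068 Q10068 (allL N10068 (tt N6241 (iv D20249)) (tt N14371 D24635) (tt N14372 D24636) (tt N14368 (iv F49999)) (tt N6452 F38373) (tt N13755 (iv F48354)) (tt N14373 D24637))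
theorem Q10070 : ∀ i, i < 10070 → P i := stepQ 10069 Q10069 (allL N10069 (tt N14372 (iv F50004)) (tt N6243 F38374) (tt N6241 (iv D20250)) (tt N12424 (iv F44549)) (tt N6453 F38375) (tt N13756 (iv F48357)) (tt N14374 D24638))
theorem Q10071 : ∀ i, i < 10071 → P i := stepQ 10070 Q10070 (allL N10070 (tt N14373 (iv F50008)) (tt N10165 (iv F38611)) (tt N14374 (iv F50013)) (tt N14370 (iv F50000)) (tt N6454 F38376) (tt N14375 D24639) (tt N6241 (iv D20251)))
theorem Q10072 : ∀ i, i < 10072 → P i := stepQ 10071 Q10071 (allL N10071 (tt N6921 F38377) (tt N6242 (iv D20252)) (tt N14376 D24640) (tt N14272 (iv F49776)) (tt N6455 F38378) (tt N10889 (iv F40755)) (tt N6922 F38379))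
theorem Q10073 : ∀ i, i < 10073 → P i := stepQ 10072 Q10072 (allL N10072 (tt N6243 F38380) (tt N14377 D24641) (tt N6242 (iv D20253)) (tt N14378 D24642) (tt N6456 F38381) (tt N6246 F38382) (tt N10082 (iv F38399)))
theorem Q10074 : ∀ i, i < 10074 → P i := stepQ 10073 Q10073 (allL N10073 (tt N14378 (iv F50026)) (tt N12424 (iv F44548)) (tt N14379 D24643) (tt N6243 (iv D20254)) (tt N12353 (iv F44298)) (tt N6248 F38383) (tt N14380 D24644))
theorem Q10075 : ∀ i, i < 10075 → P i := stepQ 10074 Q10074 (allL N10074 (tt N10082 (iv F38396)) (tt N14381 D24645) (tt N6244 F38384) (tt N14380 (iv F50032)) (tt N6458 F38385) (tt N10078 (iv F38393)) (tt N6243 (iv D20255)))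
theorem Q10076 : ∀ i, i < 10076 → P i := stepQ 10075 Q10075 (allL N10075 (tt N11258 (iv F41585)) (tt N14382 D24646) (tt N6245 (iv D20256)) (tt N14383 D24647) (tt N6459 F38386) (tt N11256 (iv F41582)) (tt N7202 F38387))
theorem Q10077 : ∀ i, i < 10077 → P i := stepQ 10076 Q10076 (allL N10076 (tt N14384 D24648) (tt N6246 (iv D20257)) (tt N14382 (iv F50037)) (tt N9767 F39796) (tt N6460 F38388) (tt N14385 D24649) (tt N14386 D24650))
theorem Q10078 : ∀ i, i < 10078 → P i := stepQ 10077 Q10077 (allL N10077 (tt N6248 F38389) (tt N9767 (iv F39795)) (tt N14387 D24651) (tt N6246 (iv D20258)) (tt N8484 F39794) (tt N14378 (iv F50028)) (tt N14388 D24652))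
theorem Q10079 : ∀ i, i < 10079 → P i := stepQ 10078 Q10078 (allL N10078 (tt N6249 F38390) (tt N14389 D24653) (tt N6247 F38391) (tt N14388 (iv F50054)) (tt N6462 F38392) (tt N10074 F38393) (tt N6246 (iv D20259)))
theorem Q10080 : ∀ i, i < 10080 → P i := stepQ 10079 Q10079 (allL N10079 (tt N14387 (iv F50049)) (tt N8396 F39797) (tt N6248 (iv D20260)) (tt N14390 D24654) (tt N8506 (iv F39792)) (tt N14379 (iv F50030)) (tt N14391 D24655))
theorem Q10081 : ∀ i, i < 10081 → P i := stepQ 10080 Q10080 (allL N10080 (tt N8484 (iv F39793)) (tt N8512 (iv F39791)) (tt N8506 F39790) (tt N6464 F38394) (tt N6248 (iv D20261)) (tt N12353 (iv F44299)) (tt N14392 D24656))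
theorem Q10082 : ∀ i, i < 10082 → P i := stepQ 10081 Q10081 (allL N10081 (tt N14388 (iv F50053)) (tt N11504 (iv F42113)) (tt N14391 (iv F50064)) (tt N6249 F38395) (tt N14392 (iv F50069)) (tt N14393 D24657) (tt N6248 (iv D20262)))
theorem Q10083 : ∀ i, i < 10083 → P i := stepQ 10082 Q10082 (allL N10082 (tt N10074 F38396) (tt N14394 D24658) (tt N6250 F38397) (tt N14393 (iv F50071)) (tt N6466 F38398) (tt N6249 (iv D20263)) (tt N10072 F38399))
theorem Q10084 : ∀ i, i < 10084 → P i := stepQ 10083 Q10083 (allL N10083 (tt N10085 (iv F38409)) (tt N9545 (iv F38404)) (tt N8244 F38400) (tt N6277 F38401) (tt N7087 F38402) (tt N8243 F38403) (tt N6251 (iv D20264)))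
theorem Q10085 : ∀ i, i < 10085 → P i := stepQ 10084 Q10084 (allL N10084 (tt N11016 (iv F41067)) (tt N6252 (iv D20265)) (tt N14395 D24659) (tt N6278 F38405) (tt N7088 F38406) (tt N9539 (iv F38408)) (tt N6256 F38407))
theorem Q10086 : ∀ i, i < 10086 → P i := stepQ 10085 Q10085 (allL N10085 (tt N10083 F38409) (tt N13782 (iv F48437)) (tt N8228 F38410) (tt N6279 F38411) (tt N7089 F38412) (tt N6252 (iv D20266)) (tt N8227 F38413))
theorem Q10087 : ∀ i, i < 10087 → P i := stepQ 10086 Q10086 (allL N10086 (tt N6259 F38414) (tt N11133 (iv F41321)) (tt N10135 (iv F38540)) (tt N6255 F38415) (tt N10986 (iv F41014)) (tt N9988 F38416) (tt N6254 (iv D20267)))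
theorem Q10088 : ∀ i, i < 10088 → P i := stepQ 10087 Q10087 (allL N10087 (tt N14396 D24660) (tt N6255 (iv D20268)) (tt N14397 D24661) (tt N11133 (iv F41322)) (tt N7094 F38417) (tt N11133 (iv F41324)) (tt N11127 (iv F41311)))
theorem Q10089 : ∀ i, i < 10089 → P i := stepQ 10088 Q10088 (allL N10088 (tt N6256 (iv D20269)) (tt N12866 (iv F45881)) (tt N14398 D24662) (tt N6287 F38418) (tt N7095 F38419) (tt N13774 (iv F48411)) (tt N11016 (iv F41069)))
theorem Q10090 : ∀ i, i < 10090 → P i := stepQ 10089 Q10089 (allL N10089 (tt N14398 (iv F50083)) (tt N14397 (iv F50081)) (tt N6256 (iv D20270)) (tt N14399 D24663) (tt N7096 F38420) (tt N14400 D24664) (tt N14395 (iv F50077)))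
theorem Q10091 : ∀ i, i < 10091 → P i := stepQ 10090 Q10090 (allL N10090 (tt N13774 (iv F48408)) (tt N9991 F38421) (tt N14400 (iv F50087)) (tt N6289 F38422) (tt N7097 F38423) (tt N6256 (iv D20271)) (tt N7025 F38424))
theorem Q10092 : ∀ i, i < 10092 → P i := stepQ 10091 Q10091 (allL N10091 (tt N14401 D24665) (tt N6257 (iv D20272)) (tt N10091 F38425) (tt N10125 (iv F38510)) (tt N14402 D24666) (tt N14403 D24667) (tt N14404 D24668))
theorem Q10093 : ∀ i, i < 10093 → P i := stepQ 10092 Q10092 (allL N10092 (tt N10134 (iv F38536)) (tt N14402 (iv F50093)) (tt N6258 F38426) (tt N14405 D24669) (tt N6257 (iv D20273)) (tt N14250 (iv F49715)) (tt N14406 D24670))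
theorem Q10094 : ∀ i, i < 10094 → P i := stepQ 10093 Q10093 (allL N10093 (tt N10135 (iv F38539)) (tt N14407 D24671) (tt N6259 F38427) (tt N10127 (iv F38515)) (tt N14406 (iv F50104)) (tt N14308 (iv F49857)) (tt N6257 (iv D20274)))
theorem Q10095 : ∀ i, i < 10095 → P i := stepQ 10094 Q10094 (allL N10094 (tt N10986 (iv F41013)) (tt N14408 D24672) (tt N14406 (iv F50103)) (tt N7101 F38428) (tt N6259 F38429) (tt N10984 (iv F41011)) (tt N6258 (iv D20275)))
theorem Q10096 : ∀ i, i < 10096 → P i := stepQ 10095 Q10095 (allL N10095 (tt N7102 F41328) (tt N6259 (iv D20276)) (tt N14409 D24673) (tt N6260 F38430) (tt N14408 (iv F50106)) (tt N14410 D24674) (tt N10095 F38431))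
theorem Q10097 : ∀ i, i < 10097 → P i := stepQ 10096 Q10096 (allL N10096 (tt N9988 F38432) (tt N14411 D24675) (tt N14308 (iv F49855)) (tt N6261 F38433) (tt N10984 (iv F41009)) (tt N6259 (iv D20277)) (tt N9985 F38434))
theorem Q10098 : ∀ i, i < 10098 → P i := stepQ 10097 Q10097 (allL N10097 (tt N7105 F41329) (tt N14412 D24676) (tt N11237 (iv F41532)) (tt N14410 (iv F50112)) (tt N7105 F38437) (tt N6260 (iv D20279)) (tt N7105 F41330))
theorem Q10099 : ∀ i, i < 10099 → P i := stepQ 10098 Q10098 (allL N10098 (tt N14413 D24677) (tt N6261 (iv D20280)) (tt N14414 D24678) (tt N14411 (iv F50114)) (tt N7106 F38438) (tt N14412 (iv F50117)) (tt N11113 F41281))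
theorem Q10100 : ∀ i, i < 10100 → P i := stepQ 10099 Q10099 (allL N10099 (tt N6262 (iv D20281)) (tt N6962 (iv F38441)) (tt N12888 (iv F45920)) (tt N6299 F38439) (tt N7112 F38440) (tt N11239 (iv F41538)) (tt N11001 (iv F41035)))
theorem Q10101 : ∀ i, i < 10101 → P i := stepQ 10100 Q10100 (allL N10100 (tt N12888 (iv F45919)) (tt N14414 (iv F50121)) (tt N6262 (iv D20282)) (tt N12886 (iv F45915)) (tt N7113 F38442) (tt N11240 (iv F41540)) (tt N14415 D24679))
theorem Q10102 : ∀ i, i < 10102 → P i := stepQ 10101 Q10101 (allL N10101 (tt N11001 F41036) (tt N9983 F38443) (tt N14415 (iv F50123)) (tt N6301 F38444) (tt N7114 F38445) (tt N14416 D24680) (tt N6262 (iv D20283)))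
theorem Q10103 : ∀ i, i < 10103 → P i := stepQ 10102 Q10102 (allL N10102 (tt N10992 (iv F41022)) (tt N6263 (iv D20284)) (tt N14417 D24681) (tt N6304 F38446) (tt N7127 F38447) (tt N6268 F38448) (tt N9552 (iv F38449)))
theorem Q10104 : ∀ i, i < 10104 → P i := stepQ 10103 Q10103 (allL N10103 (tt N10104 (iv F38454)) (tt N13774 (iv F48409)) (tt N8232 F38450) (tt N6305 F38451) (tt N7128 F38452) (tt N8231 F38453) (tt N6263 (iv D20285)))
theorem Q10105 : ∀ i, i < 10105 → P i := stepQ 10104 Q10104 (allL N10104 (tt N10103 F38454) (tt N9532 F38459) (tt N8247 F38455) (tt N6306 F38456) (tt N7129 F38457) (tt N6264 (iv D20286)) (tt N8246 F38458))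
theorem Q10106 : ∀ i, i < 10106 → P i := stepQ 10105 Q10105 (allL N10105 (tt N6271 F38460) (tt N11202 (iv F41452)) (tt N10168 (iv F38621)) (tt N6267 F38461) (tt N11010 (iv F41059)) (tt N6266 (iv D20287)) (tt N10005 F38462))
theorem Q10107 : ∀ i, i < 10107 → P i := stepQ 10106 Q10106 (allL N10106 (tt N14418 D24682) (tt N6267 (iv D20288)) (tt N14419 D24683) (tt N11202 (iv F41453)) (tt N7134 F38463) (tt N11196 (iv F41442)) (tt N11202 F41455))
theorem Q10108 : ∀ i, i < 10108 → P i := stepQ 10107 Q10107 (allL N10107 (tt N6268 (iv D20289)) (tt N12865 F45875) (tt N14420 D24684) (tt N6314 F38464) (tt N7135 F38465) (tt N10992 F41024) (tt N13782 (iv F48440)))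
theorem Q10109 : ∀ i, i < 10109 → P i := stepQ 10108 Q10108 (allL N10108 (tt N14420 (iv F50137)) (tt N14419 (iv F50135)) (tt N6268 (iv D20290)) (tt N14421 D24685) (tt N7136 F38466) (tt N14417 (iv F50130)) (tt N14422 D24686))
theorem Q10110 : ∀ i, i < 10110 → P i := stepQ 10109 Q10109 (allL N10109 (tt N13782 (iv F48436)) (tt N10008 F38467) (tt N14422 (iv F50141)) (tt N6316 F38468) (tt N7137 F38469) (tt N7009 (iv F38470)) (tt N6268 (iv D20291)))
theorem Q10111 : ∀ i, i < 10111 → P i := stepQ 10110 Q10110 (allL N10110 (tt N14423 D24687) (tt N6269 (iv D20292)) (tt N10110 F38471) (tt N10158 (iv F38591)) (tt N14424 D24688) (tt N14425 D24689) (tt N14426 D24690))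
theorem Q10112 : ∀ i, i < 10112 → P i := stepQ 10111 Q10111 (allL N10111 (tt N10167 (iv F38617)) (tt N14424 (iv F50147)) (tt N6270 F38472) (tt N14427 D24691) (tt N6269 (iv D20293)) (tt N14428 D24692) (tt N14270 (iv F49767)))
theorem Q10113 : ∀ i, i < 10113 → P i := stepQ 10112 Q10112 (allL N10112 (tt N10168 (iv F38620)) (tt N14429 D24693) (tt N6271 F38473) (tt N10160 (iv F38596)) (tt N14428 (iv F50158)) (tt N6269 (iv D20294)) (tt N14363 (iv F49993)))
theorem Q10114 : ∀ i, i < 10114 → P i := stepQ 10113 Q10113 (allL N10113 (tt N11010 (iv F41058)) (tt N14430 D24694) (tt N14428 (iv F50157)) (tt N7141 F38474) (tt N6271 F38475) (tt N6270 (iv D20295)) (tt N11008 F41056))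
theorem Q10115 : ∀ i, i < 10115 → P i := stepQ 10114 Q10114 (allL N10114 (tt N7142 (iv F38478)) (tt N6271 (iv D20296)) (tt N14431 D24695) (tt N6272 F38476) (tt N14430 (iv F50160)) (tt N10114 F38477) (tt N14432 D24696))
theorem Q10116 : ∀ i, i < 10116 → P i := stepQ 10115 Q10115 (allL N10115 (tt N10005 F38479) (tt N14433 D24697) (tt N14363 (iv F49991)) (tt N6273 F38480) (tt N11008 (iv F41054)) (tt N10002 F38481) (tt N6271 (iv D20297)))
theorem Q10117 : ∀ i, i < 10117 → P i := stepQ 10116 Q10116 (allL N10116 (tt N7145 F38482) (tt N14434 D24698) (tt N11168 (iv F41387)) (tt N14432 (iv F50166)) (tt N7145 F38483) (tt N7145 F38484) (tt N6272 (iv D20298)))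
theorem Q10118 : ∀ i, i < 10118 → P i := stepQ 10117 Q10117 (allL N10117 (tt N14435 D24699) (tt N6273 (iv D20299)) (tt N14436 D24700) (tt N14433 (iv F50168)) (tt N7146 F38485) (tt N11183 (iv F41418)) (tt N14434 (iv F50172)))
theorem Q10119 : ∀ i, i < 10119 → P i := stepQ 10118 Q10118 (allL N10118 (tt N6274 (iv D20300)) (tt N6956 (iv F38488)) (tt N12876 (iv F45898)) (tt N6326 F38486) (tt N7152 F38487) (tt N11025 (iv F41080)) (tt N11170 (iv F41389)))
theorem Q10120 : ∀ i, i < 10120 → P i := stepQ 10119 Q10119 (allL N10119 (tt N12876 (iv F45897)) (tt N14436 (iv F50175)) (tt N6274 (iv D20301)) (tt N12874 (iv F45893)) (tt N7153 F38489) (tt N14437 D24701) (tt N11171 (iv F41390)))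
theorem Q10121 : ∀ i, i < 10121 → P i := stepQ 10120 Q10120 (allL N10120 (tt N11025 F41081) (tt N9999 F38490) (tt N14437 (iv F50177)) (tt N6328 F38491) (tt N7154 F38492) (tt N6274 (iv D20302)) (tt N14438 D24702))
theorem Q10122 : ∀ i, i < 10122 → P i := stepQ 10121 Q10121 (allL N10121 (tt N7171 F38493) (tt N6284 F38494) (tt N8706 F38495) (tt N6470 F38496) (tt N6280 (iv D20303)) (tt N8857 (iv F38497)) (tt N13219 (iv F46700)))
theorem Q10123 : ∀ i, i < 10123 → P i := stepQ 10122 Q10122 (allL N10122 (tt N7172 F38498) (tt N14299 (iv F49835)) (tt N8641 F38499) (tt N6281 F38500) (tt N8857 F38501) (tt N6280 (iv D20304)) (tt N11249 (iv F41569)))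
theorem Q10124 : ∀ i, i < 10124 → P i := stepQ 10123 Q10123 (allL N10123 (tt N7173 F38502) (tt N14439 D24703) (tt N8707 F38503) (tt N6282 F38504) (tt N13219 (iv F46699)) (tt N11247 (iv F41564)) (tt N6280 (iv D20305)))
theorem Q10125 : ∀ i, i < 10125 → P i := stepQ 10124 Q10124 (allL N10124 (tt N9564 (iv F38508)) (tt N6282 (iv D20306)) (tt N9563 F38505) (tt N14439 (iv F50184)) (tt N6472 F38506) (tt N14440 D24704) (tt N6286 F38507))
theorem Q10126 : ∀ i, i < 10126 → P i := stepQ 10125 Q10125 (allL N10125 (tt N14441 D24705) (tt N6283 (iv D20307)) (tt N8703 F38509) (tt N10091 F38510) (tt N14442 D24706) (tt N14443 D24707) (tt N14444 D24708))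
theorem Q10127 : ∀ i, i < 10127 → P i := stepQ 10126 Q10126 (allL N10126 (tt N6291 F38511) (tt N14442 (iv F50192)) (tt N6284 F38512) (tt N14445 D24709) (tt N6283 (iv D20308)) (tt N14303 (iv F49847)) (tt N14446 D24710))
theorem Q10128 : ∀ i, i < 10128 → P i := stepQ 10127 Q10127 (allL N10127 (tt N6292 F38513) (tt N14447 D24711) (tt N6285 F38514) (tt N10093 F38515) (tt N14446 (iv F50202)) (tt N10031 F38516) (tt N6283 (iv D20309)))
theorem Q10129 : ∀ i, i < 10129 → P i := stepQ 10128 Q10128 (allL N10128 (tt N6293 F38517) (tt N14448 D24712) (tt N14446 (iv F50201)) (tt N6473 F38518) (tt N6285 F38519) (tt N10032 F38520) (tt N6284 (iv D20310)))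
theorem Q10130 : ∀ i, i < 10130 → P i := stepQ 10129 Q10129 (allL N10129 (tt N14449 D24713) (tt N6285 (iv D20311)) (tt N14450 D24714) (tt N6286 F38521) (tt N14448 (iv F50206)) (tt N14451 D24715) (tt N14439 (iv F50185)))
theorem Q10131 : ∀ i, i < 10131 → P i := stepQ 10130 Q10130 (allL N10130 (tt N6286 (iv D20312)) (tt N14452 D24716) (tt N9556 (iv F38524)) (tt N14449 (iv F50207)) (tt N6475 F38522) (tt N14453 D24717) (tt N9564 F38523))
theorem Q10132 : ∀ i, i < 10132 → P i := stepQ 10131 Q10131 (allL N10131 (tt N9556 F38525) (tt N6288 F38526) (tt N6286 (iv D20313)) (tt N9590 (iv F38529)) (tt N6476 F38527) (tt N13641 (iv F47971)) (tt N9563 F38528))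
theorem Q10133 : ∀ i, i < 10133 → P i := stepQ 10132 Q10132 (allL N10132 (tt N14453 (iv F50213)) (tt N10036 F38530) (tt N13641 F47972) (tt N14451 (iv F50210)) (tt N6477 F38531) (tt N6286 (iv D20314)) (tt N13799 (iv F48487)))
theorem Q10134 : ∀ i, i < 10134 → P i := stepQ 10133 Q10133 (allL N10133 (tt N6898 F38532) (tt N6287 (iv D20315)) (tt N14454 D24718) (tt N12866 (iv F45878)) (tt N6478 F38533) (tt N6896 F38534) (tt N9933 (iv F38535)))
theorem Q10135 : ∀ i, i < 10135 → P i := stepQ 10134 Q10134 (allL N10134 (tt N10092 F38536) (tt N9981 F38537) (tt N9984 F38538) (tt N14455 D24719) (tt N6290 (iv D20316)) (tt N11107 (iv F41272)) (tt N14456 D24720))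
theorem Q10136 : ∀ i, i < 10136 → P i := stepQ 10135 Q10135 (allL N10135 (tt N10093 F38539) (tt N14457 D24721) (tt N10086 F38540) (tt N6292 F38541) (tt N14456 (iv F50227)) (tt N14251 (iv F49722)) (tt N6290 (iv D20317)))
theorem Q10137 : ∀ i, i < 10137 → P i := stepQ 10136 Q10136 (allL N10136 (tt N14445 (iv F50198)) (tt N13800 (iv F48488)) (tt N14458 D24722) (tt N6291 (iv D20318)) (tt N14455 (iv F50224)) (tt N14309 (iv F49858)) (tt N14459 D24723))
theorem Q10138 : ∀ i, i < 10138 → P i := stepQ 10137 Q10137 (allL N10137 (tt N14446 (iv F50200)) (tt N14460 D24724) (tt N6293 F38542) (tt N14459 (iv F50232)) (tt N6292 F38543) (tt N14461 D24725) (tt N6291 (iv D20319)))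
theorem Q10139 : ∀ i, i < 10139 → P i := stepQ 10138 Q10138 (allL N10138 (tt N14462 D24726) (tt N6292 (iv D20320)) (tt N14463 D24727) (tt N14457 (iv F50229)) (tt N14460 (iv F50233)) (tt N14464 D24728) (tt N13802 (iv F48491)))
theorem Q10140 : ∀ i, i < 10140 → P i := stepQ 10139 Q10139 (allL N10139 (tt N10031 F38544) (tt N14254 (iv F49730)) (tt N6295 F38545) (tt N14251 (iv F49720)) (tt N14461 (iv F50236)) (tt N6292 (iv D20321)) (tt N10026 F38546))
theorem Q10141 : ∀ i, i < 10141 → P i := stepQ 10140 Q10140 (allL N10140 (tt N14465 D24729) (tt N6293 (iv D20322)) (tt N14466 D24730) (tt N6489 F38547) (tt N6294 F38548) (tt N10529 (iv F39385)) (tt N6342 F38549))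
theorem Q10142 : ∀ i, i < 10142 → P i := stepQ 10141 Q10141 (allL N10141 (tt N10032 F38550) (tt N14467 D24731) (tt N14461 (iv F50235)) (tt N6490 F38551) (tt N6295 F38552) (tt N6293 (iv D20323)) (tt N10027 F38553))
theorem Q10143 : ∀ i, i < 10143 → P i := stepQ 10142 Q10142 (allL N10142 (tt N6294 (iv D20324)) (tt N14468 D24732) (tt N14469 D24733) (tt N6296 F38554) (tt N14465 (iv F50240)) (tt N10218 (iv F38712)) (tt N6343 F38555))
theorem Q10144 : ∀ i, i < 10144 → P i := stepQ 10143 Q10143 (allL N10143 (tt N14469 (iv F50247)) (tt N14463 (iv F50238)) (tt N6294 (iv D20325)) (tt N14470 D24734) (tt N14466 (iv F50242)) (tt N14471 D24735) (tt N6344 F38556))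
theorem Q10145 : ∀ i, i < 10145 → P i := stepQ 10144 Q10144 (allL N10144 (tt N10218 (iv F38710)) (tt N14472 D24736) (tt N14471 (iv F50250)) (tt N6297 F38557) (tt N10529 (iv F39384)) (tt N6294 (iv D20326)) (tt N10215 (iv F38708)))
theorem Q10146 : ∀ i, i < 10146 → P i := stepQ 10145 Q10145 (allL N10145 (tt N14473 D24737) (tt N6295 (iv D20327)) (tt N14474 D24738) (tt N6298 F38558) (tt N14467 (iv F50245)) (tt N14472 (iv F50252)) (tt N14475 D24739))
theorem Q10147 : ∀ i, i < 10147 → P i := stepQ 10146 Q10146 (allL N10146 (tt N14476 D24740) (tt N6296 (iv D20328)) (tt N13454 (iv F47349)) (tt N14468 (iv F50246)) (tt N6493 F38559) (tt N14477 D24741) (tt N13456 (iv F47358)))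
theorem Q10148 : ∀ i, i < 10148 → P i := stepQ 10147 Q10147 (allL N10147 (tt N14478 D24742) (tt N6297 (iv D20329)) (tt N14479 D24743) (tt N14472 (iv F50251)) (tt N6494 F38560) (tt N6298 F38561) (tt N14480 D24744))
theorem Q10149 : ∀ i, i < 10149 → P i := stepQ 10148 Q10148 (allL N10148 (tt N6298 (iv D20330)) (tt N14481 D24745) (tt N14482 D24746) (tt N14473 (iv F50253)) (tt N6495 F38562) (tt N14478 (iv F50260)) (tt N14483 D24747))
theorem Q10150 : ∀ i, i < 10150 → P i := stepQ 10149 Q10149 (allL N10149 (tt N14482 (iv F50270)) (tt N6300 F38563) (tt N6298 (iv D20331)) (tt N8372 (iv F39742)) (tt N6496 F38564) (tt N14479 (iv F50263)) (tt N14484 D24748))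
theorem Q10151 : ∀ i, i < 10151 → P i := stepQ 10150 Q10150 (allL N10150 (tt N14483 (iv F50273)) (tt N10025 F38565) (tt N14484 (iv F50276)) (tt N14475 (iv F50255)) (tt N6497 F38566) (tt N14485 D24749) (tt N6298 (iv D20332)))
theorem Q10152 : ∀ i, i < 10152 → P i := stepQ 10151 Q10151 (allL N10151 (tt N6300 F38567) (tt N14486 D24750) (tt N6299 (iv D20333)) (tt N8665 (iv F39741)) (tt N6498 F38568) (tt N11560 (iv F42230)) (tt N11063 (iv F41165)))
theorem Q10153 : ∀ i, i < 10153 → P i := stepQ 10152 Q10152 (allL N10152 (tt N11063 (iv F41163)) (tt N14487 D24751) (tt N6301 F38569) (tt N8667 (iv F39743)) (tt N6500 F38570) (tt N10678 (iv F40162)) (tt N6300 (iv D20335)))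
theorem Q10154 : ∀ i, i < 10154 → P i := stepQ 10153 Q10153 (allL N10153 (tt N7368 F38571) (tt N10186 (iv F38653)) (tt N10678 (iv F40160)) (tt N14416 (iv F50126)) (tt N6501 F38572) (tt N6301 (iv D20336)) (tt N7366 F38573))
theorem Q10155 : ∀ i, i < 10155 → P i := stepQ 10154 Q10154 (allL N10154 (tt N7273 F38574) (tt N6311 F38575) (tt N8751 F38576) (tt N6504 F38577) (tt N6307 (iv D20337)) (tt N13239 (iv F46749)) (tt N8871 (iv F38578)))
theorem Q10156 : ∀ i, i < 10156 → P i := stepQ 10155 Q10155 (allL N10155 (tt N7274 F38579) (tt N14488 D24752) (tt N8752 F38580) (tt N6308 F38581) (tt N13239 (iv F46748)) (tt N6307 (iv D20338)) (tt N11410 (iv F41914)))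
theorem Q10157 : ∀ i, i < 10157 → P i := stepQ 10156 Q10156 (allL N10156 (tt N7275 F38582) (tt N14355 (iv F49973)) (tt N8657 F38583) (tt N6309 F38584) (tt N8871 F38585) (tt N11409 (iv F41909)) (tt N6307 (iv D20339)))
theorem Q10158 : ∀ i, i < 10158 → P i := stepQ 10157 Q10157 (allL N10157 (tt N9602 (iv F38589)) (tt N6308 (iv D20340)) (tt N9601 F38586) (tt N14488 (iv F50290)) (tt N6506 F38587) (tt N6313 F38588) (tt N14489 D24753))
theorem Q10159 : ∀ i, i < 10159 → P i := stepQ 10158 Q10158 (allL N10158 (tt N14490 D24754) (tt N6310 (iv D20341)) (tt N8748 F38590) (tt N10110 F38591) (tt N14491 D24755) (tt N14492 D24756) (tt N14493 D24757))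
theorem Q10160 : ∀ i, i < 10160 → P i := stepQ 10159 Q10159 (allL N10159 (tt N6318 F38592) (tt N14491 (iv F50298)) (tt N6311 F38593) (tt N14494 D24758) (tt N6310 (iv D20342)) (tt N14495 D24759) (tt N14358 (iv F49984)))
theorem Q10161 : ∀ i, i < 10161 → P i := stepQ 10160 Q10160 (allL N10160 (tt N6319 F38594) (tt N14496 D24760) (tt N6312 F38595) (tt N10112 F38596) (tt N14495 (iv F50308)) (tt N6310 (iv D20343)) (tt N10065 F38597))
theorem Q10162 : ∀ i, i < 10162 → P i := stepQ 10161 Q10161 (allL N10161 (tt N6320 F38598) (tt N14497 D24761) (tt N14495 (iv F50307)) (tt N6507 F38599) (tt N6312 F38600) (tt N6311 (iv D20344)) (tt N10066 F38601))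
theorem Q10163 : ∀ i, i < 10163 → P i := stepQ 10162 Q10162 (allL N10162 (tt N14498 D24762) (tt N6312 (iv D20345)) (tt N14499 D24763) (tt N6313 F38602) (tt N14497 (iv F50312)) (tt N14488 (iv F50291)) (tt N14500 D24764))
theorem Q10164 : ∀ i, i < 10164 → P i := stepQ 10163 Q10163 (allL N10163 (tt N6313 (iv D20346)) (tt N14501 D24765) (tt N9593 (iv F38605)) (tt N14498 (iv F50313)) (tt N6509 F38603) (tt N9602 F38604) (tt N14502 D24766))
theorem Q10165 : ∀ i, i < 10165 → P i := stepQ 10164 Q10164 (allL N10164 (tt N9593 F38606) (tt N6315 F38607) (tt N6313 (iv D20347)) (tt N9628 (iv F38610)) (tt N6510 F38608) (tt N9601 F38609) (tt N13632 (iv F47948)))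
theorem Q10166 : ∀ i, i < 10166 → P i := stepQ 10165 Q10165 (allL N10165 (tt N14502 (iv F50319)) (tt N10070 F38611) (tt N13632 F47949) (tt N14500 (iv F50316)) (tt N6511 F38612) (tt N13848 (iv F48608)) (tt N6313 (iv D20348)))
theorem Q10167 : ∀ i, i < 10167 → P i := stepQ 10166 Q10166 (allL N10166 (tt N6895 F38613) (tt N6314 (iv D20349)) (tt N14503 D24767) (tt N12865 (iv F45872)) (tt N6512 F38614) (tt N9931 (iv F38616)) (tt N6893 F38615))
theorem Q10168 : ∀ i, i < 10168 → P i := stepQ 10167 Q10167 (allL N10167 (tt N10111 F38617) (tt N9998 F38618) (tt N10001 F38619) (tt N14504 D24768) (tt N6317 (iv D20350)) (tt N14505 D24769) (tt N11177 (iv F41409)))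
theorem Q10169 : ∀ i, i < 10169 → P i := stepQ 10168 Q10168 (allL N10168 (tt N10112 F38620) (tt N14506 D24770) (tt N10105 F38621) (tt N6319 F38622) (tt N14505 (iv F50333)) (tt N6317 (iv D20351)) (tt N14271 (iv F49774)))
theorem Q10170 : ∀ i, i < 10170 → P i := stepQ 10169 Q10169 (allL N10169 (tt N14494 (iv F50304)) (tt N13849 (iv F48609)) (tt N14507 D24771) (tt N6318 (iv D20352)) (tt N14504 (iv F50330)) (tt N14508 D24772) (tt N14364 (iv F49994)))
theorem Q10171 : ∀ i, i < 10171 → P i := stepQ 10170 Q10170 (allL N10170 (tt N14495 (iv F50306)) (tt N14509 D24773) (tt N6320 F38623) (tt N14508 (iv F50338)) (tt N6319 F38624) (tt N6318 (iv D20353)) (tt N14510 D24774))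
theorem Q10172 : ∀ i, i < 10172 → P i := stepQ 10171 Q10171 (allL N10171 (tt N14511 D24775) (tt N6319 (iv D20354)) (tt N14512 D24776) (tt N14506 (iv F50335)) (tt N14509 (iv F50339)) (tt N13851 (iv F48612)) (tt N14513 D24777))
theorem Q10173 : ∀ i, i < 10173 → P i := stepQ 10172 Q10172 (allL N10172 (tt N10065 F38625) (tt N14274 (iv F49782)) (tt N6322 F38626) (tt N14271 (iv F49772)) (tt N14510 (iv F50342)) (tt N10060 F38627) (tt N6319 (iv D20355)))
theorem Q10174 : ∀ i, i < 10174 → P i := stepQ 10173 Q10173 (allL N10173 (tt N14514 D24778) (tt N6320 (iv D20356)) (tt N14515 D24779) (tt N6522 F38628) (tt N6321 F38629) (tt N6362 F38630) (tt N10480 (iv F39281)))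
theorem Q10175 : ∀ i, i < 10175 → P i := stepQ 10174 Q10174 (allL N10174 (tt N10066 F38631) (tt N14516 D24780) (tt N14510 (iv F50341)) (tt N6523 F38632) (tt N6322 F38633) (tt N10061 F38634) (tt N6320 (iv D20357)))
theorem Q10176 : ∀ i, i < 10176 → P i := stepQ 10175 Q10175 (allL N10175 (tt N6321 (iv D20358)) (tt N14517 D24781) (tt N14518 D24782) (tt N6323 F38635) (tt N14514 (iv F50346)) (tt N6363 F38636) (tt N10253 (iv F38775)))
theorem Q10177 : ∀ i, i < 10177 → P i := stepQ 10176 Q10176 (allL N10176 (tt N14518 (iv F50355)) (tt N14512 (iv F50344)) (tt N6321 (iv D20359)) (tt N14519 D24783) (tt N14515 (iv F50348)) (tt N6364 F38637) (tt N14520 D24784))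
theorem Q10178 : ∀ i, i < 10178 → P i := stepQ 10177 Q10177 (allL N10177 (tt N10253 (iv F38773)) (tt N14521 D24785) (tt N14520 (iv F50358)) (tt N6324 F38638) (tt N10480 (iv F39280)) (tt N10250 (iv F38771)) (tt N6321 (iv D20360)))
theorem Q10179 : ∀ i, i < 10179 → P i := stepQ 10178 Q10178 (allL N10178 (tt N14522 D24786) (tt N6322 (iv D20361)) (tt N14523 D24787) (tt N6325 F38639) (tt N14516 (iv F50351)) (tt N14524 D24788) (tt N14521 (iv F50360)))
theorem Q10180 : ∀ i, i < 10180 → P i := stepQ 10179 Q10179 (allL N10179 (tt N14525 D24789) (tt N6323 (iv D20362)) (tt N13402 (iv F47212)) (tt N14517 (iv F50354)) (tt N6526 F38640) (tt N13404 (iv F47221)) (tt N14526 D24790))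
theorem Q10181 : ∀ i, i < 10181 → P i := stepQ 10180 Q10180 (allL N10180 (tt N14527 D24791) (tt N6324 (iv D20363)) (tt N14528 D24792) (tt N14521 (iv F50359)) (tt N6527 F38641) (tt N14529 D24793) (tt N6325 F38642))
theorem Q10182 : ∀ i, i < 10182 → P i := stepQ 10181 Q10181 (allL N10181 (tt N6325 (iv D20364)) (tt N14530 D24794) (tt N14531 D24795) (tt N14522 (iv F50361)) (tt N6528 F38643) (tt N14532 D24796) (tt N14527 (iv F50372)))
theorem Q10183 : ∀ i, i < 10183 → P i := stepQ 10182 Q10182 (allL N10182 (tt N14531 (iv F50382)) (tt N6327 F38644) (tt N6325 (iv D20365)) (tt N8364 (iv F39786)) (tt N6529 F38645) (tt N14533 D24797) (tt N14528 (iv F50375)))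
theorem Q10184 : ∀ i, i < 10184 → P i := stepQ 10183 Q10183 (allL N10183 (tt N14532 (iv F50385)) (tt N10058 F38646) (tt N14533 (iv F50388)) (tt N14524 (iv F50367)) (tt N6530 F38647) (tt N6325 (iv D20366)) (tt N14534 D24798))
theorem Q10185 : ∀ i, i < 10185 → P i := stepQ 10184 Q10184 (allL N10184 (tt N6327 F38648) (tt N14535 D24799) (tt N6326 (iv D20367)) (tt N8649 (iv F39785)) (tt N6531 F38649) (tt N11101 (iv F41255)) (tt N11401 (iv F41882)))
theorem Q10186 : ∀ i, i < 10186 → P i := stepQ 10185 Q10185 (allL N10185 (tt N11101 (iv F41253)) (tt N14536 D24800) (tt N6328 F38650) (tt N8651 (iv F39787)) (tt N6533 F38651) (tt N6327 (iv D20369)) (tt N10762 (iv F40386)))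
theorem Q10187 : ∀ i, i < 10187 → P i := stepQ 10186 Q10186 (allL N10186 (tt N7268 F38652) (tt N10153 F38653) (tt N10762 (iv F40384)) (tt N14438 (iv F50181)) (tt N6534 F38654) (tt N7266 F38655) (tt N6328 (iv D20370)))
theorem Q10188 : ∀ i, i < 10188 → P i := stepQ 10187 Q10187 (allL N10187 (tt N7169 F38656) (tt N6330 F38657) (tt N8390 F38658) (tt N6329 (iv D20371)) (tt N13102 (iv F46446)) (tt N13101 F46442) (tt N14537 D24801))
theorem Q10189 : ∀ i, i < 10189 → P i := stepQ 10188 Q10188 (allL N10188 (tt N7170 F38659) (tt N14538 D24802) (tt N7183 F38660) (tt N14537 (iv F50404)) (tt N6535 F38661) (tt N9083 F38662) (tt N6329 (iv D20372)))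
theorem Q10190 : ∀ i, i < 10190 → P i := stepQ 10189 Q10189 (allL N10189 (tt N6333 F38663) (tt N14539 D24803) (tt N6330 (iv D20373)) (tt N14540 D24804) (tt N14541 D24805) (tt N14542 D24806) (tt N14543 D24807))
theorem Q10191 : ∀ i, i < 10191 → P i := stepQ 10190 Q10190 (allL N10190 (tt N6334 F38664) (tt N13102 F46447) (tt N14541 (iv F50414)) (tt N6537 F38665) (tt N6330 (iv D20374)) (tt N14544 D24808) (tt N14545 D24809))
theorem Q10192 : ∀ i, i < 10192 → P i := stepQ 10191 Q10191 (allL N10191 (tt N6335 F38666) (tt N14458 F50231) (tt N14542 (iv F50416)) (tt N6331 F38667) (tt N14544 (iv F50421)) (tt N6330 (iv D20375)) (tt N10202 (iv F38684)))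
theorem Q10193 : ∀ i, i < 10193 → P i := stepQ 10192 Q10192 (allL N10192 (tt N6336 F38668) (tt N14546 D24810) (tt N14543 (iv F50418)) (tt N6332 F38669) (tt N14545 (iv F50424)) (tt N10201 (iv F38681)) (tt N6330 (iv D20376)))
theorem Q10194 : ∀ i, i < 10194 → P i := stepQ 10193 Q10193 (allL N10193 (tt N10385 (iv F39075)) (tt N6331 (iv D20377)) (tt N7668 (iv F38671)) (tt N14458 (iv F50230)) (tt N6540 F38670) (tt N13283 (iv F46865)) (tt N14547 D24811))
theorem Q10195 : ∀ i, i < 10195 → P i := stepQ 10194 Q10194 (allL N10194 (tt N14548 D24812) (tt N6332 (iv D20378)) (tt N9819 (iv F43975)) (tt N14546 (iv F50425)) (tt N6541 F38672) (tt N9818 F43974) (tt N14538 (iv F50408)))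
theorem Q10196 : ∀ i, i < 10196 → P i := stepQ 10195 Q10195 (allL N10195 (tt N14540 (iv F50411)) (tt N10265 (iv F38801)) (tt N14540 (iv F50412)) (tt N6333 (iv D20379)) (tt N14549 D24813) (tt N14549 (iv F50439)) (tt N14550 D24815))
theorem Q10197 : ∀ i, i < 10197 → P i := stepQ 10196 Q10196 (allL N10196 (tt N14541 (iv F50413)) (tt N10266 (iv F38802)) (tt N6334 F38673) (tt N14551 D24816) (tt N6333 (iv D20380)) (tt N14551 F50437) (tt N14552 D24817))
theorem Q10198 : ∀ i, i < 10198 → P i := stepQ 10197 Q10197 (allL N10197 (tt N14542 (iv F50415)) (tt N14304 F49848) (tt N6335 F38674) (tt N14549 (iv F50438)) (tt N14551 F50436) (tt N6333 (iv D20381)) (tt N14553 D24818))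
theorem Q10199 : ∀ i, i < 10199 → P i := stepQ 10198 Q10198 (allL N10198 (tt N14543 (iv F50417)) (tt N14554 D24819) (tt N6336 F38675) (tt N14550 (iv F50434)) (tt N14552 (iv F50441)) (tt N14555 D24820) (tt N6333 (iv D20382)))
theorem Q10200 : ∀ i, i < 10200 → P i := stepQ 10199 Q10199 (allL N10199 (tt N14544 (iv F50419)) (tt N10269 (iv F38806)) (tt N14551 (iv F50435)) (tt N6544 F38676) (tt N6335 F38677) (tt N6334 (iv D20383)) (tt N14556 D24821))
theorem Q10201 : ∀ i, i < 10201 → P i := stepQ 10200 Q10200 (allL N10200 (tt N14545 (iv F50422)) (tt N11611 (iv F42349)) (tt N14552 (iv F50440)) (tt N6545 F38678) (tt N6336 F38679) (tt N14557 D24822) (tt N6334 (iv D20384)))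
theorem Q10202 : ∀ i, i < 10202 → P i := stepQ 10201 Q10201 (allL N10201 (tt N10202 (iv F38682)) (tt N14558 D24823) (tt N14553 (iv F50442)) (tt N6337 F38680) (tt N14556 (iv F50448)) (tt N10192 F38681) (tt N6335 (iv D20385)))
theorem Q10203 : ∀ i, i < 10203 → P i := stepQ 10202 Q10202 (allL N10202 (tt N10201 F38682) (tt N14559 D24824) (tt N14555 (iv F50445)) (tt N6339 F38683) (tt N14557 (iv F50452)) (tt N6336 (iv D20386)) (tt N10191 F38684))
theorem Q10204 : ∀ i, i < 10204 → P i := stepQ 10203 Q10203 (allL N10203 (tt N14560 D24825) (tt N6337 (iv D20387)) (tt N14141 (iv F49401)) (tt N14558 (iv F50454)) (tt N6549 F38685) (tt N14073 (iv F49202)) (tt N10273 (iv F38818)))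
theorem Q10205 : ∀ i, i < 10205 → P i := stepQ 10204 Q10204 (allL N10204 (tt N6338 (iv D20388)) (tt N14561 D24826) (tt N13903 (iv F48733)) (tt N11609 (iv F42345)) (tt N6550 F38686) (tt N10209 (iv F38697)) (tt N6340 F38687))
theorem Q10206 : ∀ i, i < 10206 → P i := stepQ 10205 Q10205 (allL N10205 (tt N10209 (iv F38695)) (tt N14168 (iv F49481)) (tt N9882 F38688) (tt N11613 (iv F42355)) (tt N6551 F38689) (tt N6338 (iv D20389)) (tt N10208 (iv F38694)))
theorem Q10207 : ∀ i, i < 10207 → P i := stepQ 10206 Q10206 (allL N10206 (tt N14562 D24827) (tt N6339 (iv D20390)) (tt N14170 (iv F49488)) (tt N14559 (iv F50455)) (tt N6552 F38690) (tt N14168 (iv F49483)) (tt N14563 D24828))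
theorem Q10208 : ∀ i, i < 10208 → P i := stepQ 10207 Q10207 (allL N10207 (tt N13820 (iv F48528)) (tt N6340 (iv D20391)) (tt N13118 (iv F48551)) (tt N11606 (iv F42339)) (tt N6555 F38691) (tt N14564 D24829) (tt N14565 D24830))
theorem Q10209 : ∀ i, i < 10209 → P i := stepQ 10208 Q10208 (allL N10208 (tt N6341 F38692) (tt N12811 (iv F45713)) (tt N13902 (iv F48729)) (tt N11608 (iv F42343)) (tt N6556 F38693) (tt N6340 (iv D20392)) (tt N10205 F38694))
theorem Q10210 : ∀ i, i < 10210 → P i := stepQ 10209 Q10209 (allL N10209 (tt N10205 F38695) (tt N14566 D24831) (tt N13908 (iv F48744)) (tt N11612 (iv F42352)) (tt N6557 F38696) (tt N10204 F38697) (tt N6341 (iv D20393)))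
theorem Q10211 : ∀ i, i < 10211 → P i := stepQ 10210 Q10210 (allL N10210 (tt N6342 (iv D20394)) (tt N14567 D24832) (tt N14568 D24833) (tt N6565 F38698) (tt N6343 F38699) (tt N13115 F46481) (tt N14465 (iv F50241)))
theorem Q10212 : ∀ i, i < 10212 → P i := stepQ 10211 Q10211 (allL N10211 (tt N14568 (iv F50468)) (tt N11597 (iv F42322)) (tt N6342 (iv D20395)) (tt N14569 D24834) (tt N6344 F38700) (tt N14570 D24835) (tt N14466 (iv F50243)))
theorem Q10213 : ∀ i, i < 10213 → P i := stepQ 10212 Q10212 (allL N10212 (tt N13115 (iv F46478)) (tt N7263 F38701) (tt N14570 (iv F50470)) (tt N6567 F38702) (tt N6345 F38703) (tt N6342 (iv D20396)) (tt N14571 D24836))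
theorem Q10214 : ∀ i, i < 10214 → P i := stepQ 10213 Q10213 (allL N10213 (tt N13821 (iv F48531)) (tt N6343 (iv D20397)) (tt N14572 D24837) (tt N6346 F38704) (tt N14567 (iv F50467)) (tt N14573 D24838) (tt N14574 D24839))
theorem Q10215 : ∀ i, i < 10215 → P i := stepQ 10214 Q10214 (allL N10214 (tt N6344 F38705) (tt N14575 D24840) (tt N6343 (iv D20398)) (tt N14576 D24841) (tt N14568 (iv F50469)) (tt N14577 D24842) (tt N14469 (iv F50248)))
theorem Q10216 : ∀ i, i < 10216 → P i := stepQ 10215 Q10215 (allL N10215 (tt N6345 F38706) (tt N13111 (iv F46470)) (tt N14577 (iv F50483)) (tt N6347 F38707) (tt N13115 (iv F46480)) (tt N6343 (iv D20399)) (tt N10144 F38708))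
theorem Q10217 : ∀ i, i < 10217 → P i := stepQ 10216 Q10216 (allL N10216 (tt N14576 (iv F50480)) (tt N11596 (iv F42321)) (tt N14578 D24843) (tt N6344 (iv D20400)) (tt N14579 D24844) (tt N14580 D24845) (tt N14470 (iv F50249)))
theorem Q10218 : ∀ i, i < 10218 → P i := stepQ 10217 Q10217 (allL N10217 (tt N14577 (iv F50482)) (tt N14581 D24846) (tt N6345 F38709) (tt N14580 (iv F50487)) (tt N14570 (iv F50471)) (tt N6344 (iv D20401)) (tt N14582 D24847))
theorem Q10219 : ∀ i, i < 10219 → P i := stepQ 10218 Q10218 (allL N10218 (tt N10144 F38710) (tt N14583 D24848) (tt N14582 (iv F50490)) (tt N6348 F38711) (tt N14571 (iv F50474)) (tt N10142 F38712) (tt N6345 (iv D20402)))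
theorem Q10220 : ∀ i, i < 10220 → P i := stepQ 10219 Q10219 (allL N10219 (tt N13822 (iv F48532)) (tt N9094 F38713) (tt N9092 F38714) (tt N14573 (iv F50478)) (tt N6571 F38715) (tt N6346 (iv D20403)) (tt N14584 D24849))
theorem Q10221 : ∀ i, i < 10221 → P i := stepQ 10220 Q10220 (allL N10220 (tt N13823 (iv F48536)) (tt N13456 (iv F47356)) (tt N12819 F45744) (tt N14574 (iv F50479)) (tt N6572 F38716) (tt N13783 (iv F48442)) (tt N6346 (iv D20404)))
theorem Q10222 : ∀ i, i < 10222 → P i := stepQ 10221 Q10221 (allL N10221 (tt N14585 D24850) (tt N6348 (iv D20405)) (tt N14586 D24851) (tt N14583 (iv F50492)) (tt N6573 F38717) (tt N14587 D24852) (tt N7265 F38718))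
theorem Q10223 : ∀ i, i < 10223 → P i := stepQ 10222 Q10222 (allL N10222 (tt N7271 F38719) (tt N6350 F38720) (tt N8409 F38721) (tt N6349 (iv D20406)) (tt N13162 (iv F46571)) (tt N14588 D24853) (tt N13160 F46565))
theorem Q10224 : ∀ i, i < 10224 → P i := stepQ 10223 Q10223 (allL N10223 (tt N7272 F38722) (tt N14589 D24854) (tt N7283 F38723) (tt N14588 (iv F50508)) (tt N6574 F38724) (tt N6349 (iv D20407)) (tt N9137 F38725))
theorem Q10225 : ∀ i, i < 10225 → P i := stepQ 10224 Q10224 (allL N10224 (tt N6353 F38726) (tt N14590 D24855) (tt N6350 (iv D20408)) (tt N14591 D24856) (tt N14592 D24857) (tt N14593 D24858) (tt N14594 D24859))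
theorem Q10226 : ∀ i, i < 10226 → P i := stepQ 10225 Q10225 (allL N10225 (tt N6354 F38727) (tt N13162 F46572) (tt N14592 (iv F50518)) (tt N6576 F38728) (tt N6350 (iv D20409)) (tt N14595 D24860) (tt N14596 D24861))
theorem Q10227 : ∀ i, i < 10227 → P i := stepQ 10226 Q10226 (allL N10226 (tt N6355 F38729) (tt N14597 D24862) (tt N14593 (iv F50520)) (tt N6351 F38730) (tt N14595 (iv F50525)) (tt N6350 (iv D20410)) (tt N10237 (iv F38747)))
theorem Q10228 : ∀ i, i < 10228 → P i := stepQ 10227 Q10227 (allL N10227 (tt N6356 F38731) (tt N14507 F50337) (tt N14594 (iv F50522)) (tt N6352 F38732) (tt N14596 (iv F50528)) (tt N10236 (iv F38744)) (tt N6350 (iv D20411)))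
theorem Q10229 : ∀ i, i < 10229 → P i := stepQ 10228 Q10228 (allL N10228 (tt N14598 D24863) (tt N6351 (iv D20412)) (tt N9872 (iv F39579)) (tt N14597 (iv F50529)) (tt N6579 F38733) (tt N14589 (iv F50512)) (tt N9871 F39578))
theorem Q10230 : ∀ i, i < 10230 → P i := stepQ 10229 Q10229 (allL N10229 (tt N10419 (iv F39153)) (tt N6352 (iv D20413)) (tt N7832 (iv F38735)) (tt N14507 (iv F50336)) (tt N6580 F38734) (tt N14599 D24864) (tt N13344 (iv F47056)))
theorem Q10231 : ∀ i, i < 10231 → P i := stepQ 10230 Q10230 (allL N10230 (tt N14591 (iv F50515)) (tt N10283 (iv F38840)) (tt N14591 (iv F50516)) (tt N6353 (iv D20414)) (tt N14600 D24865) (tt N14601 D24866) (tt N14600 (iv F50543)))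
theorem Q10232 : ∀ i, i < 10232 → P i := stepQ 10231 Q10231 (allL N10231 (tt N14592 (iv F50517)) (tt N10284 (iv F38841)) (tt N6354 F38736) (tt N14602 D24868) (tt N6353 (iv D20415)) (tt N14603 D24869) (tt N14602 F50541))
theorem Q10233 : ∀ i, i < 10233 → P i := stepQ 10232 Q10232 (allL N10232 (tt N14593 (iv F50519)) (tt N14604 D24870) (tt N6355 F38737) (tt N14601 (iv F50537)) (tt N14603 (iv F50545)) (tt N6353 (iv D20416)) (tt N14605 D24871))
theorem Q10234 : ∀ i, i < 10234 → P i := stepQ 10233 Q10233 (allL N10233 (tt N14594 (iv F50521)) (tt N14359 (iv F50718)) (tt N6356 F38738) (tt N14600 (iv F50542)) (tt N14602 F50540) (tt N14606 D24873) (tt N6353 (iv D20417)))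
theorem Q10235 : ∀ i, i < 10235 → P i := stepQ 10234 Q10234 (allL N10234 (tt N14595 (iv F50523)) (tt N11662 (iv F42467)) (tt N14603 (iv F50544)) (tt N6583 F38739) (tt N6355 F38740) (tt N6354 (iv D20418)) (tt N14607 D24874))
theorem Q10236 : ∀ i, i < 10236 → P i := stepQ 10235 Q10235 (allL N10235 (tt N14596 (iv F50526)) (tt N10288 (iv F38848)) (tt N14602 (iv F50539)) (tt N6584 F38741) (tt N6356 F38742) (tt N14608 D24875) (tt N6354 (iv D20419)))
theorem Q10237 : ∀ i, i < 10237 → P i := stepQ 10236 Q10236 (allL N10236 (tt N10237 (iv F38745)) (tt N14609 D24876) (tt N14605 (iv F50546)) (tt N6358 F38743) (tt N14607 (iv F50552)) (tt N10227 F38744) (tt N6355 (iv D20420)))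
theorem Q10238 : ∀ i, i < 10238 → P i := stepQ 10237 Q10237 (allL N10237 (tt N10236 F38745) (tt N14610 D24877) (tt N14606 (iv F50549)) (tt N6359 F38746) (tt N14608 (iv F50556)) (tt N6356 (iv D20421)) (tt N10226 F38747))
theorem Q10239 : ∀ i, i < 10239 → P i := stepQ 10238 Q10238 (allL N10238 (tt N6357 (iv D20422)) (tt N14611 D24878) (tt N13889 (iv F48708)) (tt N11660 (iv F42464)) (tt N6588 F38748) (tt N6360 F38749) (tt N10244 (iv F38760)))
theorem Q10240 : ∀ i, i < 10240 → P i := stepQ 10239 Q10239 (allL N10239 (tt N10244 (iv F38758)) (tt N14189 (iv F49559)) (tt N9891 F38750) (tt N11664 (iv F42473)) (tt N6589 F38751) (tt N10243 (iv F38757)) (tt N6357 (iv D20423)))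
theorem Q10241 : ∀ i, i < 10241 → P i := stepQ 10240 Q10240 (allL N10240 (tt N14612 D24879) (tt N6358 (iv D20424)) (tt N14192 (iv F49568)) (tt N14609 (iv F50558)) (tt N6590 F38752) (tt N14613 D24880) (tt N14189 (iv F49561)))
theorem Q10242 : ∀ i, i < 10242 → P i := stepQ 10241 Q10241 (allL N10241 (tt N14614 D24881) (tt N6359 (iv D20425)) (tt N14151 (iv F49431)) (tt N14610 (iv F50559)) (tt N6591 F38753) (tt N10292 (iv F38859)) (tt N14124 (iv F49363)))
theorem Q10243 : ∀ i, i < 10243 → P i := stepQ 10242 Q10242 (allL N10242 (tt N13869 (iv F48649)) (tt N6360 (iv D20426)) (tt N13177 (iv F48672)) (tt N11658 (iv F42460)) (tt N6594 F38754) (tt N14615 D24882) (tt N14616 D24883))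
theorem Q10244 : ∀ i, i < 10244 → P i := stepQ 10243 Q10243 (allL N10243 (tt N6361 F38755) (tt N12815 (iv F45725)) (tt N13890 (iv F48711)) (tt N11661 (iv F42466)) (tt N6595 F38756) (tt N10239 F38757) (tt N6360 (iv D20427)))
theorem Q10245 : ∀ i, i < 10245 → P i := stepQ 10244 Q10244 (allL N10244 (tt N10239 F38758) (tt N14617 D24884) (tt N13895 (iv F48720)) (tt N11665 (iv F42476)) (tt N6596 F38759) (tt N6361 (iv D20428)) (tt N10238 F38760))
theorem Q10246 : ∀ i, i < 10246 → P i := stepQ 10245 Q10245 (allL N10245 (tt N6362 (iv D20429)) (tt N14618 D24885) (tt N14619 D24886) (tt N6604 F38761) (tt N6363 F38762) (tt N14514 (iv F50347)) (tt N13174 F46605))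
theorem Q10247 : ∀ i, i < 10247 → P i := stepQ 10246 Q10246 (allL N10246 (tt N14619 (iv F50572)) (tt N11649 (iv F42443)) (tt N6362 (iv D20430)) (tt N14620 D24887) (tt N6364 F38763) (tt N14515 (iv F50349)) (tt N14621 D24888))
theorem Q10248 : ∀ i, i < 10248 → P i := stepQ 10247 Q10247 (allL N10247 (tt N13174 (iv F46601)) (tt N7363 F38764) (tt N14621 (iv F50574)) (tt N6606 F38765) (tt N6365 F38766) (tt N14622 D24889) (tt N6362 (iv D20431)))
theorem Q10249 : ∀ i, i < 10249 → P i := stepQ 10248 Q10248 (allL N10248 (tt N13870 (iv F48652)) (tt N6363 (iv D20432)) (tt N14623 D24890) (tt N6366 F38767) (tt N14618 (iv F50571)) (tt N14624 D24891) (tt N14625 D24892))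
theorem Q10250 : ∀ i, i < 10250 → P i := stepQ 10249 Q10249 (allL N10249 (tt N6364 F38768) (tt N14626 D24893) (tt N6363 (iv D20433)) (tt N14578 (iv F50486)) (tt N14619 (iv F50573)) (tt N14518 (iv F50356)) (tt N14627 D24894))
theorem Q10251 : ∀ i, i < 10251 → P i := stepQ 10250 Q10250 (allL N10250 (tt N6365 F38769) (tt N13170 (iv F46593)) (tt N14627 (iv F50585)) (tt N6367 F38770) (tt N13174 (iv F46603)) (tt N10177 F38771) (tt N6363 (iv D20434)))
theorem Q10252 : ∀ i, i < 10252 → P i := stepQ 10251 Q10251 (allL N10251 (tt N14578 (iv F50485)) (tt N11648 (iv F42442)) (tt N14576 (iv F50481)) (tt N6364 (iv D20435)) (tt N14628 D24895) (tt N14519 (iv F50357)) (tt N14629 D24896))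
theorem Q10253 : ∀ i, i < 10253 → P i := stepQ 10252 Q10252 (allL N10252 (tt N14627 (iv F50584)) (tt N14630 D24897) (tt N6365 F38772) (tt N14629 (iv F50587)) (tt N14621 (iv F50575)) (tt N14631 D24898) (tt N6364 (iv D20436)))
theorem Q10254 : ∀ i, i < 10254 → P i := stepQ 10253 Q10253 (allL N10253 (tt N10177 F38773) (tt N14632 D24899) (tt N14631 (iv F50590)) (tt N6368 F38774) (tt N14622 (iv F50578)) (tt N6365 (iv D20437)) (tt N10175 F38775))
theorem Q10255 : ∀ i, i < 10255 → P i := stepQ 10254 Q10254 (allL N10254 (tt N13871 (iv F48653)) (tt N13404 (iv F47219)) (tt N12817 F45734) (tt N14624 (iv F50581)) (tt N6608 F38776) (tt N6366 (iv D20438)) (tt N13775 (iv F48414)))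
theorem Q10256 : ∀ i, i < 10256 → P i := stepQ 10255 Q10255 (allL N10255 (tt N13872 (iv F48656)) (tt N9148 F38777) (tt N9146 F38778) (tt N14625 (iv F50583)) (tt N6609 F38779) (tt N14633 D24900) (tt N6366 (iv D20439)))
theorem Q10257 : ∀ i, i < 10257 → P i := stepQ 10256 Q10256 (allL N10256 (tt N14634 D24901) (tt N6368 (iv D20440)) (tt N14635 D24902) (tt N14632 (iv F50592)) (tt N6610 F38780) (tt N7365 F38781) (tt N14636 D24903))
theorem Q10258 : ∀ i, i < 10258 → P i := stepQ 10257 Q10257 (allL N10257 (tt N8788 F38782) (tt N6370 F38783) (tt N8785 F38784) (tt N6369 (iv D20441)) (tt N12622 (iv F45166)) (tt N12664 (iv F45299)) (tt N14637 D24904))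
theorem Q10259 : ∀ i, i < 10259 → P i := stepQ 10258 Q10258 (allL N10258 (tt N9554 F38785) (tt N12778 (iv F45598)) (tt N9234 F38786) (tt N14637 (iv F50608)) (tt N7943 F38787) (tt N8502 F38788) (tt N6369 (iv D20442)))
theorem Q10260 : ∀ i, i < 10260 → P i := stepQ 10259 Q10259 (allL N10259 (tt N6373 F38789) (tt N14638 D24905) (tt N6370 (iv D20443)) (tt N11292 (iv F41657)) (tt N14639 D24906) (tt N14640 D24907) (tt N14641 D24908))
theorem Q10261 : ∀ i, i < 10261 → P i := stepQ 10260 Q10260 (allL N10260 (tt N6374 F38790) (tt N12622 (iv F45165)) (tt N14639 (iv F50618)) (tt N7944 F38791) (tt N6370 (iv D20444)) (tt N12216 (iv F43937)) (tt N14642 D24909))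
theorem Q10262 : ∀ i, i < 10262 → P i := stepQ 10261 Q10261 (allL N10261 (tt N6375 F38792) (tt N14643 D24910) (tt N14640 (iv F50621)) (tt N6371 F38793) (tt N12216 (iv F43936)) (tt N6370 (iv D20445)) (tt N10272 (iv F38816)))
theorem Q10263 : ∀ i, i < 10263 → P i := stepQ 10262 Q10262 (allL N10262 (tt N6376 F38794) (tt N14644 D24911) (tt N14641 (iv F50623)) (tt N6372 F38795) (tt N14642 (iv F50626)) (tt N10271 (iv F38813)) (tt N6370 (iv D20446)))
theorem Q10264 : ∀ i, i < 10264 → P i := stepQ 10263 Q10263 (allL N10263 (tt N10018 F38799) (tt N6371 (iv D20447)) (tt N6917 F38796) (tt N14643 (iv F50627)) (tt N7479 F38797) (tt N10015 F38798) (tt N14294 (iv F49825)))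
theorem Q10265 : ∀ i, i < 10265 → P i := stepQ 10264 Q10264 (allL N10264 (tt N14645 D24912) (tt N6372 (iv D20448)) (tt N12767 (iv F45564)) (tt N14644 (iv F50631)) (tt N7691 F38800) (tt N14646 D24913) (tt N12778 (iv F45600)))
theorem Q10266 : ∀ i, i < 10266 → P i := stepQ 10265 Q10265 (allL N10265 (tt N11292 (iv F41655)) (tt N10195 F38801) (tt N11289 (iv F41649)) (tt N6373 (iv D20449)) (tt N14647 D24914) (tt N14648 D24915) (tt N14649 D24916))
theorem Q10267 : ∀ i, i < 10267 → P i := stepQ 10266 Q10266 (allL N10266 (tt N14639 (iv F50616)) (tt N10196 F38802) (tt N6374 F38803) (tt N14650 D24917) (tt N6373 (iv D20450)) (tt N14651 D24918) (tt N14652 D24919))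
theorem Q10268 : ∀ i, i < 10268 → P i := stepQ 10267 Q10267 (allL N10267 (tt N14640 (iv F50620)) (tt N14653 D24920) (tt N6375 F38804) (tt N14648 (iv F50641)) (tt N14651 (iv F50647)) (tt N6373 (iv D20451)) (tt N14654 D24921))
theorem Q10269 : ∀ i, i < 10269 → P i := stepQ 10268 Q10268 (allL N10268 (tt N14641 (iv F50622)) (tt N14655 D24922) (tt N6376 F38805) (tt N14649 (iv F50642)) (tt N14652 (iv F50649)) (tt N14656 D24923) (tt N6373 (iv D20452)))
theorem Q10270 : ∀ i, i < 10270 → P i := stepQ 10269 Q10269 (allL N10269 (tt N12216 (iv F43935)) (tt N10199 F38806) (tt N14651 (iv F50646)) (tt N7946 F38807) (tt N6375 F38808) (tt N6374 (iv D20453)) (tt N14657 D24924))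
theorem Q10271 : ∀ i, i < 10271 → P i := stepQ 10270 Q10270 (allL N10270 (tt N14642 (iv F50624)) (tt N7230 F38809) (tt N14652 (iv F50648)) (tt N7694 F38810) (tt N6376 F38811) (tt N14658 D24925) (tt N6374 (iv D20454)))
theorem Q10272 : ∀ i, i < 10272 → P i := stepQ 10271 Q10271 (allL N10271 (tt N10272 (iv F38814)) (tt N14659 D24926) (tt N14654 (iv F50653)) (tt N6377 F38812) (tt N14657 (iv F50661)) (tt N10262 F38813) (tt N6375 (iv D20455)))
theorem Q10273 : ∀ i, i < 10273 → P i := stepQ 10272 Q10272 (allL N10272 (tt N10271 F38814) (tt N14660 D24927) (tt N14656 (iv F50658)) (tt N6378 F38815) (tt N14658 (iv F50665)) (tt N6376 (iv D20456)) (tt N10261 F38816))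
theorem Q10274 : ∀ i, i < 10274 → P i := stepQ 10273 Q10273 (allL N10273 (tt N14661 D24928) (tt N6377 (iv D20457)) (tt N12537 F44866) (tt N14659 (iv F50667)) (tt N7948 F38817) (tt N14662 D24929) (tt N10203 F38818))
theorem Q10275 : ∀ i, i < 10275 → P i := stepQ 10274 Q10274 (allL N10274 (tt N14663 D24930) (tt N6378 (iv D20458)) (tt N14664 D24931) (tt N14660 (iv F50669)) (tt N7695 F38819) (tt N7232 F38820) (tt N14665 D24932))
theorem Q10276 : ∀ i, i < 10276 → P i := stepQ 10275 Q10275 (allL N10275 (tt N8825 F38821) (tt N6380 F38822) (tt N8822 F38823) (tt N6379 (iv D20459)) (tt N12633 (iv F45194)) (tt N14666 D24933) (tt N12693 (iv F45368)))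
theorem Q10277 : ∀ i, i < 10277 → P i := stepQ 10276 Q10276 (allL N10276 (tt N9592 F38824) (tt N12803 (iv F45682)) (tt N9197 F38825) (tt N14666 (iv F50685)) (tt N8001 F38826) (tt N6379 (iv D20460)) (tt N8531 F38827))
theorem Q10278 : ∀ i, i < 10278 → P i := stepQ 10277 Q10277 (allL N10277 (tt N6383 F38828) (tt N14667 D24934) (tt N6380 (iv D20461)) (tt N11451 (iv F42001)) (tt N14668 D24935) (tt N14669 D24936) (tt N14670 D24937))
theorem Q10279 : ∀ i, i < 10279 → P i := stepQ 10278 Q10278 (allL N10278 (tt N6384 F38829) (tt N12633 (iv F45193)) (tt N14668 (iv F50695)) (tt N8002 F38830) (tt N6380 (iv D20462)) (tt N14671 D24938) (tt N12275 (iv F44083)))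
theorem Q10280 : ∀ i, i < 10280 → P i := stepQ 10279 Q10279 (allL N10279 (tt N6385 F38831) (tt N14672 D24939) (tt N14669 (iv F50698)) (tt N6381 F38832) (tt N14671 (iv F50703)) (tt N6380 (iv D20463)) (tt N10290 (iv F38855)))
theorem Q10281 : ∀ i, i < 10281 → P i := stepQ 10280 Q10280 (allL N10280 (tt N6386 F38833) (tt N14673 D24940) (tt N14670 (iv F50700)) (tt N6382 F38834) (tt N12275 (iv F44082)) (tt N10289 (iv F38852)) (tt N6380 (iv D20464)))
theorem Q10282 : ∀ i, i < 10282 → P i := stepQ 10281 Q10281 (allL N10281 (tt N14674 D24941) (tt N6381 (iv D20465)) (tt N12792 (iv F45648)) (tt N14672 (iv F50704)) (tt N7855 F38835) (tt N12803 (iv F45684)) (tt N14675 D24942))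
theorem Q10283 : ∀ i, i < 10283 → P i := stepQ 10282 Q10282 (allL N10282 (tt N10053 (iv F38839)) (tt N6382 (iv D20466)) (tt N6925 F38836) (tt N14673 (iv F50705)) (tt N7488 F38837) (tt N14348 (iv F49957)) (tt N10049 F38838))
theorem Q10284 : ∀ i, i < 10284 → P i := stepQ 10283 Q10283 (allL N10283 (tt N11451 (iv F41999)) (tt N10230 F38840) (tt N11448 (iv F41993)) (tt N6383 (iv D20467)) (tt N14676 D24943) (tt N14677 D24944) (tt N14678 D24945))
theorem Q10285 : ∀ i, i < 10285 → P i := stepQ 10284 Q10284 (allL N10284 (tt N14668 (iv F50693)) (tt N10231 F38841) (tt N6384 F38842) (tt N14679 D24946) (tt N6383 (iv D20468)) (tt N14680 D24947) (tt N14681 D24948))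
theorem Q10286 : ∀ i, i < 10286 → P i := stepQ 10285 Q10285 (allL N10285 (tt N14669 (iv F50697)) (tt N14682 D24949) (tt N6385 F38843) (tt N14677 (iv F50719)) (tt N14680 (iv F50725)) (tt N6383 (iv D20469)) (tt N14683 D24950))
theorem Q10287 : ∀ i, i < 10287 → P i := stepQ 10286 Q10286 (allL N10286 (tt N14670 (iv F50699)) (tt N14684 D24951) (tt N6386 F38844) (tt N14678 (iv F50720)) (tt N14681 (iv F50727)) (tt N14685 D24952) (tt N6383 (iv D20470)))
theorem Q10288 : ∀ i, i < 10288 → P i := stepQ 10287 Q10287 (allL N10287 (tt N14671 (iv F50701)) (tt N7330 F38845) (tt N14680 (iv F50724)) (tt N7858 F38846) (tt N6385 F38847) (tt N6384 (iv D20471)) (tt N14686 D24953))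
theorem Q10289 : ∀ i, i < 10289 → P i := stepQ 10288 Q10288 (allL N10288 (tt N12275 (iv F44081)) (tt N10235 F38848) (tt N14681 (iv F50726)) (tt N8004 F38849) (tt N6386 F38850) (tt N14687 D24954) (tt N6384 (iv D20472)))
theorem Q10290 : ∀ i, i < 10290 → P i := stepQ 10289 Q10289 (allL N10289 (tt N10290 (iv F38853)) (tt N14688 D24955) (tt N14683 (iv F50730)) (tt N6387 F38851) (tt N14686 (iv F50739)) (tt N10280 F38852) (tt N6385 (iv D20473)))
theorem Q10291 : ∀ i, i < 10291 → P i := stepQ 10290 Q10290 (allL N10290 (tt N10289 F38853) (tt N14689 D24956) (tt N14685 (iv F50736)) (tt N6388 F38854) (tt N14687 (iv F50743)) (tt N6386 (iv D20474)) (tt N10279 F38855))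
theorem Q10292 : ∀ i, i < 10292 → P i := stepQ 10291 Q10291 (allL N10291 (tt N14690 D24957) (tt N6387 (iv D20475)) (tt N14691 D24958) (tt N14688 (iv F50745)) (tt N7859 F38856) (tt N14692 D24959) (tt N7332 F38857))
theorem Q10293 : ∀ i, i < 10293 → P i := stepQ 10292 Q10292 (allL N10292 (tt N14693 D24960) (tt N6388 (iv D20476)) (tt N12546 F44890) (tt N14689 (iv F50747)) (tt N8006 F38858) (tt N10241 F38859) (tt N14694 D24961))
theorem Q10294 : ∀ i, i < 10294 → P i := stepQ 10293 Q10293 (allL N10293 (tt N11813 (iv F42862)) (tt N8951 F38860) (tt N8254 F38862) (tt N6389 (iv D20477)) (tt N14695 D24962) (tt N7447 F38861) (tt N14696 D24963))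
theorem Q10295 : ∀ i, i < 10295 → P i := stepQ 10294 Q10294 (allL N10294 (tt N7825 F38863) (tt N14057 (iv F49159)) (tt N6390 F38864) (tt N14696 (iv F50766)) (tt N14196 (iv F49584)) (tt N10416 (iv F39143)) (tt N6389 (iv D20478)))
theorem Q10296 : ∀ i, i < 10296 → P i := stepQ 10295 Q10295 (allL N10295 (tt N12030 (iv F43395)) (tt N9019 F38865) (tt N8257 F38867) (tt N6391 (iv D20479)) (tt N14697 D24964) (tt N14698 D24965) (tt N7450 F38866))
theorem Q10297 : ∀ i, i < 10297 → P i := stepQ 10296 Q10296 (allL N10296 (tt N7660 F38868) (tt N14110 (iv F49317)) (tt N6392 F38869) (tt N14698 (iv F50773)) (tt N14198 (iv F49589)) (tt N6391 (iv D20480)) (tt N10382 (iv F39066)))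
theorem Q10298 : ∀ i, i < 10298 → P i := stepQ 10297 Q10297 (allL N10297 (tt N14100 (iv F49278)) (tt N6400 F38870) (tt N6395 (iv D20481)) (tt N12173 (iv F43836)) (tt N13623 (iv F47923)) (tt N14699 D24966) (tt N11966 (iv F43265)))
theorem Q10299 : ∀ i, i < 10299 → P i := stepQ 10298 Q10298 (allL N10298 (tt N9677 F38871) (tt N9143 F38872) (tt N14699 (iv F50777)) (tt N13521 (iv F47552)) (tt N13624 (iv F47926)) (tt N6395 (iv D20482)) (tt N9844 F38873))
theorem Q10300 : ∀ i, i < 10300 → P i := stepQ 10299 Q10299 (allL N10299 (tt N14043 (iv F49116)) (tt N6402 F38874) (tt N6398 (iv D20483)) (tt N11970 (iv F43278)) (tt N13627 (iv F47935)) (tt N11973 (iv F43288)) (tt N14700 D24967))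
theorem Q10301 : ∀ i, i < 10301 → P i := stepQ 10300 Q10300 (allL N10300 (tt N9699 F38875) (tt N9090 F38876) (tt N14700 (iv F50782)) (tt N13491 (iv F47447)) (tt N13628 (iv F47938)) (tt N9792 F38877) (tt N6398 (iv D20484)))
theorem Q10302 : ∀ i, i < 10302 → P i := stepQ 10301 Q10301 (allL N10301 (tt N8553 F38886) (tt N6407 F38887) (tt N8333 F38888) (tt N6406 (iv D20489)) (tt N10943 (iv F40896)) (tt N10308 (iv F38907)) (tt N14701 D24968))
theorem Q10303 : ∀ i, i < 10303 → P i := stepQ 10302 Q10302 (allL N10302 (tt N10313 (iv F38917)) (tt N14702 D24969) (tt N6415 F38892) (tt N14701 (iv F50787)) (tt N14287 (iv F49809)) (tt N6415 F38893) (tt N6406 (iv D20490)))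
theorem Q10304 : ∀ i, i < 10304 → P i := stepQ 10303 Q10303 (allL N10303 (tt N8389 F38894) (tt N10943 (iv F40895)) (tt N8306 F38895) (tt N14289 (iv F49813)) (tt N6407 (iv D20491)) (tt N14153 (iv F49442)) (tt N14703 D24970))
theorem Q10305 : ∀ i, i < 10305 → P i := stepQ 10304 Q10304 (allL N10304 (tt N8496 F38896) (tt N14704 D24971) (tt N8332 F38897) (tt N6409 F38898) (tt N14703 (iv F50793)) (tt N9901 F38899) (tt N6407 (iv D20492)))
theorem Q10306 : ∀ i, i < 10306 → P i := stepQ 10305 Q10305 (allL N10305 (tt N10307 (iv F38902)) (tt N10487 (iv F39296)) (tt N6410 F38900) (tt N12759 (iv F45539)) (tt N14292 (iv F49817)) (tt N7796 F38901) (tt N6408 (iv D20493)))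
theorem Q10307 : ∀ i, i < 10307 → P i := stepQ 10306 Q10306 (allL N10306 (tt N7983 (iv F44034)) (tt N6409 (iv D20494)) (tt N10406 (iv F39118)) (tt N14704 (iv F50796)) (tt N14293 (iv F49820)) (tt N12342 (iv F44261)) (tt N14702 (iv F50790)))
theorem Q10308 : ∀ i, i < 10308 → P i := stepQ 10307 Q10307 (allL N10307 (tt N10305 F38902) (tt N11915 (iv F43125)) (tt N6411 F38903) (tt N9901 F38904) (tt N14294 (iv F49824)) (tt N6409 (iv D20495)) (tt N7479 F38905))
theorem Q10309 : ∀ i, i < 10309 → P i := stepQ 10308 Q10308 (allL N10308 (tt N6413 F38906) (tt N11813 (iv F42863)) (tt N12605 (iv F45118)) (tt N6412 (iv D20496)) (tt N14705 D24972) (tt N10301 F38907) (tt N14706 D24973))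
theorem Q10310 : ∀ i, i < 10310 → P i := stepQ 10309 Q10309 (allL N10309 (tt N6415 F38908) (tt N7755 F38909) (tt N10313 (iv F38918)) (tt N14706 (iv F50802)) (tt N14296 (iv F49830)) (tt N10313 (iv F38919)) (tt N6412 (iv D20497)))
theorem Q10311 : ∀ i, i < 10311 → P i := stepQ 10310 Q10310 (allL N10310 (tt N12605 (iv F45116)) (tt N11733 (iv F42669)) (tt N6413 (iv D20498)) (tt N7481 F38911) (tt N6919 (iv F38912)) (tt N6970 F38910) (tt N14707 D24974))
theorem Q10312 : ∀ i, i < 10312 → P i := stepQ 10311 Q10311 (allL N10311 (tt N14705 (iv F50797)) (tt N6416 F38913) (tt N6919 F38914) (tt N14298 (iv F49832)) (tt N6413 (iv D20499)) (tt N6969 F38915) (tt N14708 D24975))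
theorem Q10313 : ∀ i, i < 10313 → P i := stepQ 10312 Q10312 (allL N10312 (tt N14706 (iv F50800)) (tt N10392 (iv F39096)) (tt N14707 (iv F50804)) (tt N6415 F38916) (tt N14708 (iv F50809)) (tt N14701 (iv F50788)) (tt N6413 (iv D20500)))
theorem Q10314 : ∀ i, i < 10314 → P i := stepQ 10313 Q10313 (allL N10313 (tt N10302 F38917) (tt N11832 (iv F42899)) (tt N10309 F38918) (tt N12809 (iv F45706)) (tt N14301 (iv F49841)) (tt N10309 F38919) (tt N6414 (iv D20501)))
theorem Q10315 : ∀ i, i < 10315 → P i := stepQ 10314 Q10314 (allL N10314 (tt N10387 (iv F39082)) (tt N12502 (iv F44770)) (tt N6419 F38920) (tt N10860 (iv F40680)) (tt N6418 F38921) (tt N7669 F38922) (tt N6417 (iv D20502)))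
theorem Q10316 : ∀ i, i < 10316 → P i := stepQ 10315 Q10315 (allL N10315 (tt N14709 D24976) (tt N6419 (iv D20503)) (tt N12490 (iv F44725)) (tt N14312 (iv F49861)) (tt N6420 F38923) (tt N12489 (iv F44723)) (tt N13935 (iv F48831)))
theorem Q10317 : ∀ i, i < 10317 → P i := stepQ 10316 Q10316 (allL N10316 (tt N6420 (iv D20504)) (tt N8561 F38932) (tt N8178 F39830) (tt N6421 F38924) (tt N14709 (iv F50811)) (tt N12487 (iv F44719)) (tt N12793 (iv F45651)))
theorem Q10318 : ∀ i, i < 10318 → P i := stepQ 10317 Q10317 (allL N10317 (tt N12073 (iv F43530)) (tt N6421 (iv D20507)) (tt N7854 (iv F38930)) (tt N8561 (iv F38931)) (tt N14316 (iv F49865)) (tt N12764 (iv F45558)) (tt N7852 F38929))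
theorem Q10319 : ∀ i, i < 10319 → P i := stepQ 10318 Q10318 (allL N10318 (tt N6422 F38926) (tt N12283 F44102) (tt N6421 (iv D20508)) (tt N8175 F39827) (tt N14317 (iv F49869)) (tt N8174 F39836) (tt N13937 (iv F48839)))
theorem Q10320 : ∀ i, i < 10320 → P i := stepQ 10319 Q10319 (allL N10319 (tt N6423 F38927) (tt N14710 D24977) (tt N8174 F39834) (tt N12487 (iv F44718)) (tt N14318 (iv F49874)) (tt N6421 (iv D20509)) (tt N9676 F38928))
theorem Q10321 : ∀ i, i < 10321 → P i := stepQ 10320 Q10320 (allL N10320 (tt N8174 (iv F39835)) (tt N9450 (iv F38935)) (tt N6423 F38934) (tt N8173 F39828) (tt N14319 (iv F49879)) (tt N6422 (iv D20511)) (tt N14711 D24978))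
theorem Q10322 : ∀ i, i < 10322 → P i := stepQ 10321 Q10321 (allL N10321 (tt N9676 F38936) (tt N11956 (iv F43233)) (tt N14711 (iv F50818)) (tt N12478 (iv F44701)) (tt N14320 (iv F49882)) (tt N9674 F38937) (tt N6423 (iv D20512)))
theorem Q10323 : ∀ i, i < 10323 → P i := stepQ 10322 Q10322 (allL N10322 (tt N7492 F38938) (tt N12322 (iv F44187)) (tt N6424 (iv D20513)) (tt N7749 (iv F39632)) (tt N14321 (iv F49885)) (tt N7493 F38939) (tt N8032 F38940))
theorem Q10324 : ∀ i, i < 10324 → P i := stepQ 10323 Q10323 (allL N10323 (tt N8105 (iv F39843)) (tt N6425 (iv D20514)) (tt N12322 (iv F44188)) (tt N8104 F39842) (tt N14322 (iv F49888)) (tt N14712 D24979) (tt N12321 F44186))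
theorem Q10325 : ∀ i, i < 10325 → P i := stepQ 10324 Q10324 (allL N10324 (tt N6426 F38941) (tt N8104 (iv F39840)) (tt N8478 (iv F39841)) (tt N6425 (iv D20515)) (tt N8493 F39824) (tt N10336 (iv F38963)) (tt N6430 F38942))
theorem Q10326 : ∀ i, i < 10326 → P i := stepQ 10325 Q10325 (allL N10325 (tt N10336 (iv F38961)) (tt N14713 D24980) (tt N12376 (iv F44369)) (tt N6427 F38945) (tt N12400 (iv F44467)) (tt N6426 (iv D20518)) (tt N10332 (iv F38956)))
theorem Q10327 : ∀ i, i < 10327 → P i := stepQ 10326 Q10326 (allL N10326 (tt N9447 F38948) (tt N6427 (iv D20519)) (tt N9446 F38946) (tt N14713 (iv F50824)) (tt N14326 (iv F49898)) (tt N9450 F38947) (tt N13700 (iv F48183)))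
theorem Q10328 : ∀ i, i < 10328 → P i := stepQ 10327 Q10327 (allL N10327 (tt N11836 (iv F42911)) (tt N6428 (iv D20520)) (tt N6429 F38949) (tt N6459 F39553) (tt N14327 (iv F49902)) (tt N11833 (iv F42902)) (tt N7666 F39554))
theorem Q10329 : ∀ i, i < 10329 → P i := stepQ 10328 Q10328 (allL N10328 (tt N12050 (iv F43453)) (tt N6459 F39643) (tt N6460 (iv F39644)) (tt N6428 (iv D20521)) (tt N14382 (iv F50038)) (tt N7830 F38950) (tt N12047 (iv F43445)))
theorem Q10330 : ∀ i, i < 10330 → P i := stepQ 10329 Q10329 (allL N10329 (tt N6429 (iv D20522)) (tt N14714 D24981) (tt N11836 (iv F42912)) (tt N9719 (iv F39811)) (tt N14329 (iv F49906)) (tt N11834 F42909) (tt N14715 D24982))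
theorem Q10331 : ∀ i, i < 10331 → P i := stepQ 10330 Q10330 (allL N10330 (tt N11834 (iv F42906)) (tt N14716 D24983) (tt N11833 (iv F42904)) (tt N9721 (iv F39813)) (tt N14330 (iv F49908)) (tt N6429 (iv D20524)) (tt N11873 (iv F43014)))
theorem Q10332 : ∀ i, i < 10332 → P i := stepQ 10331 Q10331 (allL N10331 (tt N14715 (iv F50831)) (tt N12321 (iv F44185)) (tt N7666 (iv F39556)) (tt N9716 F39558) (tt N14331 (iv F49911)) (tt N7664 F39557) (tt N6429 (iv D20525)))
theorem Q10333 : ∀ i, i < 10333 → P i := stepQ 10332 Q10332 (allL N10332 (tt N6434 F38954) (tt N12377 (iv F44373)) (tt N8477 F39740) (tt N6431 F38955) (tt N8489 (iv F39739)) (tt N6430 (iv D20527)) (tt N10325 F38956))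
theorem Q10334 : ∀ i, i < 10334 → P i := stepQ 10333 Q10333 (allL N10333 (tt N8023 (iv F39568)) (tt N6431 (iv D20528)) (tt N7607 F38957) (tt N12377 (iv F44375)) (tt N14334 (iv F49923)) (tt N14716 (iv F50839)) (tt N14717 D24984))
theorem Q10335 : ∀ i, i < 10335 → P i := stepQ 10334 Q10334 (allL N10334 (tt N8477 F39735) (tt N6758 (iv F39734)) (tt N6434 F38959) (tt N11756 (iv F42719)) (tt N8488 F39736) (tt N6432 (iv D20531)) (tt N12395 (iv F44448)))
theorem Q10336 : ∀ i, i < 10336 → P i := stepQ 10335 Q10335 (allL N10335 (tt N8489 F39738) (tt N11959 (iv F43245)) (tt N8488 (iv F39737)) (tt N14337 (iv F49932)) (tt N6434 F38960) (tt N6433 (iv D20532)) (tt N12758 (iv F45536)))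
theorem Q10337 : ∀ i, i < 10337 → P i := stepQ 10336 Q10336 (allL N10336 (tt N10325 F38961) (tt N14718 D24985) (tt N12395 F44449) (tt N6435 F38962) (tt N12758 (iv F45535)) (tt N10324 F38963) (tt N6434 (iv D20533)))
theorem Q10338 : ∀ i, i < 10338 → P i := stepQ 10337 Q10337 (allL N10337 (tt N10337 F38964) (tt N6435 (iv D20534)) (tt N11960 (iv F43249)) (tt N14718 (iv F50845)) (tt N14339 (iv F49938)) (tt N14719 D24986) (tt N11960 (iv F43250)))
theorem Q10339 : ∀ i, i < 10339 → P i := stepQ 10338 Q10338 (allL N10338 (tt N8562 F38965) (tt N6438 F38966) (tt N8341 F38967) (tt N6437 (iv D20535)) (tt N10955 (iv F40926)) (tt N14720 D24987) (tt N10345 (iv F38986)))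
theorem Q10340 : ∀ i, i < 10340 → P i := stepQ 10339 Q10339 (allL N10339 (tt N10350 (iv F38996)) (tt N14721 D24988) (tt N6445 F38971) (tt N14720 (iv F50850)) (tt N14342 (iv F49946)) (tt N6437 (iv D20536)) (tt N6445 F38972))
theorem Q10341 : ∀ i, i < 10341 → P i := stepQ 10340 Q10340 (allL N10340 (tt N8408 F38973) (tt N10955 (iv F40925)) (tt N8312 F38974) (tt N14344 (iv F49950)) (tt N6438 (iv D20537)) (tt N14722 D24989) (tt N14174 (iv F49505)))
theorem Q10342 : ∀ i, i < 10342 → P i := stepQ 10341 Q10341 (allL N10341 (tt N8525 F38975) (tt N14723 D24990) (tt N8340 F38976) (tt N6439 F38977) (tt N14722 (iv F50856)) (tt N6438 (iv D20538)) (tt N9918 F38978))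
theorem Q10343 : ∀ i, i < 10343 → P i := stepQ 10342 Q10342 (allL N10342 (tt N8042 (iv F44175)) (tt N6439 (iv D20539)) (tt N10440 (iv F39195)) (tt N14723 (iv F50859)) (tt N14347 (iv F49953)) (tt N14721 (iv F50853)) (tt N12388 (iv F44426)))
theorem Q10344 : ∀ i, i < 10344 → P i := stepQ 10343 Q10343 (allL N10343 (tt N10344 (iv F38982)) (tt N12121 (iv F43680)) (tt N6441 F38979) (tt N9918 F38980) (tt N14348 (iv F49956)) (tt N7488 F38981) (tt N6439 (iv D20540)))
theorem Q10345 : ∀ i, i < 10345 → P i := stepQ 10344 Q10344 (allL N10344 (tt N10343 F38982) (tt N10532 F39389) (tt N6442 F38983) (tt N12784 (iv F45623)) (tt N14349 (iv F49960)) (tt N6440 (iv D20541)) (tt N7627 F38984))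
theorem Q10346 : ∀ i, i < 10346 → P i := stepQ 10345 Q10345 (allL N10345 (tt N6444 F38985) (tt N12030 (iv F43396)) (tt N12612 (iv F45138)) (tt N6443 (iv D20542)) (tt N14724 D24991) (tt N14725 D24992) (tt N10338 F38986))
theorem Q10347 : ∀ i, i < 10347 → P i := stepQ 10346 Q10346 (allL N10346 (tt N6445 F38987) (tt N7913 F38988) (tt N10350 (iv F38997)) (tt N14725 (iv F50865)) (tt N14351 (iv F49967)) (tt N6443 (iv D20543)) (tt N10350 (iv F38998)))
theorem Q10348 : ∀ i, i < 10348 → P i := stepQ 10347 Q10347 (allL N10347 (tt N12612 (iv F45136)) (tt N11776 (iv F42775)) (tt N6444 (iv D20544)) (tt N7490 F38990) (tt N6927 (iv F38991)) (tt N14726 D24993) (tt N6981 F38989))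
theorem Q10349 : ∀ i, i < 10349 → P i := stepQ 10348 Q10348 (allL N10348 (tt N14724 (iv F50860)) (tt N6447 F38992) (tt N6927 F38993) (tt N14353 (iv F49969)) (tt N6444 (iv D20545)) (tt N14727 D24994) (tt N6980 F38994))
theorem Q10350 : ∀ i, i < 10350 → P i := stepQ 10349 Q10349 (allL N10349 (tt N14725 (iv F50863)) (tt N10426 (iv F39176)) (tt N14726 (iv F50867)) (tt N6445 F38995) (tt N14727 (iv F50872)) (tt N6444 (iv D20546)) (tt N14720 (iv F50851)))
theorem Q10351 : ∀ i, i < 10351 → P i := stepQ 10350 Q10350 (allL N10350 (tt N10339 F38996) (tt N12043 (iv F43430)) (tt N10346 F38997) (tt N12813 (iv F45718)) (tt N14356 (iv F49978)) (tt N6446 (iv D20547)) (tt N10346 F38998))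
theorem Q10352 : ∀ i, i < 10352 → P i := stepQ 10351 Q10351 (allL N10351 (tt N10421 (iv F39161)) (tt N12500 (iv F44764)) (tt N6450 F38999) (tt N10865 (iv F40701)) (tt N6449 F39000) (tt N6448 (iv D20548)) (tt N7833 F39001))
theorem Q10353 : ∀ i, i < 10353 → P i := stepQ 10352 Q10352 (allL N10352 (tt N14728 D24995) (tt N6450 (iv D20549)) (tt N12454 (iv F44622)) (tt N14367 (iv F49997)) (tt N6451 F39002) (tt N13959 (iv F48889)) (tt N12453 (iv F44620)))
theorem Q10354 : ∀ i, i < 10354 → P i := stepQ 10353 Q10353 (allL N10353 (tt N6451 (iv D20550)) (tt N8570 (iv F39011)) (tt N8143 F39686) (tt N6452 F39003) (tt N14728 (iv F50874)) (tt N12768 (iv F45567)) (tt N12451 (iv F44616)))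
theorem Q10355 : ∀ i, i < 10355 → P i := stepQ 10354 Q10354 (allL N10354 (tt N11857 (iv F42970)) (tt N6452 (iv D20553)) (tt N7689 F39009) (tt N8570 F39010) (tt N14371 (iv F50001)) (tt N7688 (iv F39008)) (tt N12789 (iv F45643)))
theorem Q10356 : ∀ i, i < 10356 → P i := stepQ 10355 Q10355 (allL N10355 (tt N6453 F39005) (tt N12224 F43952) (tt N6452 (iv D20554)) (tt N8140 F39683) (tt N14372 (iv F50005)) (tt N13961 (iv F48897)) (tt N8139 F39692))
theorem Q10357 : ∀ i, i < 10357 → P i := stepQ 10356 Q10356 (allL N10356 (tt N6454 F39006) (tt N14729 D24996) (tt N8139 F39690) (tt N12451 (iv F44615)) (tt N14373 (iv F50010)) (tt N9698 F39007) (tt N6452 (iv D20555)))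
theorem Q10358 : ∀ i, i < 10358 → P i := stepQ 10357 Q10357 (allL N10357 (tt N8139 (iv F39691)) (tt N9441 (iv F39014)) (tt N6454 F39013) (tt N8138 F39684) (tt N14374 (iv F50015)) (tt N14730 D24997) (tt N6453 (iv D20557)))
theorem Q10359 : ∀ i, i < 10359 → P i := stepQ 10358 Q10358 (allL N10358 (tt N9698 F39015) (tt N12159 F43783) (tt N14730 (iv F50881)) (tt N12442 (iv F44598)) (tt N14375 (iv F50018)) (tt N6454 (iv D20558)) (tt N9696 F39016))
theorem Q10360 : ∀ i, i < 10360 → P i := stepQ 10359 Q10359 (allL N10359 (tt N7483 F39017) (tt N12260 (iv F44040)) (tt N6455 (iv D20559)) (tt N7909 F39610) (tt N14376 (iv F50021)) (tt N7975 F39018) (tt N7484 F39019))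
theorem Q10361 : ∀ i, i < 10361 → P i := stepQ 10360 Q10360 (allL N10360 (tt N8061 (iv F39699)) (tt N6456 (iv D20560)) (tt N12260 (iv F44041)) (tt N8060 F39698) (tt N14377 (iv F50024)) (tt N12259 F44039) (tt N14731 D24998))
theorem Q10362 : ∀ i, i < 10362 → P i := stepQ 10361 Q10361 (allL N10361 (tt N6457 F39020) (tt N8060 (iv F39696)) (tt N8475 (iv F39697)) (tt N6456 (iv D20561)) (tt N8485 F39680) (tt N6461 F39021) (tt N10371 (iv F39042)))
theorem Q10363 : ∀ i, i < 10363 → P i := stepQ 10362 Q10362 (allL N10362 (tt N10371 (iv F39040)) (tt N14732 D24999) (tt N12355 (iv F44304)) (tt N6458 F39024) (tt N12354 (iv F44301)) (tt N10367 (iv F39035)) (tt N6457 (iv D20564)))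
theorem Q10364 : ∀ i, i < 10364 → P i := stepQ 10363 Q10363 (allL N10363 (tt N9438 (iv F39027)) (tt N6458 (iv D20565)) (tt N9437 F39025) (tt N14732 (iv F50887)) (tt N14381 (iv F50034)) (tt N13697 (iv F48171)) (tt N9441 F39026))
theorem Q10365 : ∀ i, i < 10365 → P i := stepQ 10364 Q10364 (allL N10364 (tt N6460 (iv D20568)) (tt N14733 D25000) (tt N12050 (iv F43454)) (tt N9727 F39801) (tt N14384 (iv F50042)) (tt N14734 D25001) (tt N12048 (iv F43451)))
theorem Q10366 : ∀ i, i < 10366 → P i := stepQ 10365 Q10365 (allL N10365 (tt N14734 (iv F50896)) (tt N12259 (iv F44038)) (tt N7830 (iv F39804)) (tt N9724 F39802) (tt N14385 (iv F50045)) (tt N6460 (iv D20570)) (tt N7828 F39805))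
theorem Q10367 : ∀ i, i < 10367 → P i := stepQ 10366 Q10366 (allL N10366 (tt N12048 (iv F43447)) (tt N14735 D25002) (tt N12047 (iv F43446)) (tt N9729 F39803) (tt N14386 (iv F50048)) (tt N12084 (iv F43561)) (tt N6460 (iv D20571)))
theorem Q10368 : ∀ i, i < 10368 → P i := stepQ 10367 Q10367 (allL N10367 (tt N6465 F39033) (tt N12331 (iv F44208)) (tt N8474 (iv F39784)) (tt N6462 F39034) (tt N8481 F39783) (tt N10362 F39035) (tt N6461 (iv D20573)))
theorem Q10369 : ∀ i, i < 10369 → P i := stepQ 10368 Q10368 (allL N10368 (tt N7965 (iv F39676)) (tt N6462 (iv D20574)) (tt N7562 F39036) (tt N12331 (iv F44210)) (tt N14389 (iv F50059)) (tt N14736 D25003) (tt N14735 (iv F50905)))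
theorem Q10370 : ∀ i, i < 10370 → P i := stepQ 10369 Q10369 (allL N10369 (tt N8474 (iv F39779)) (tt N6832 F39778) (tt N6465 F39038) (tt N11799 (iv F42832)) (tt N8480 (iv F39780)) (tt N12349 (iv F44281)) (tt N6463 (iv D20577)))
theorem Q10371 : ∀ i, i < 10371 → P i := stepQ 10370 Q10370 (allL N10370 (tt N8481 (iv F39782)) (tt N12162 (iv F43798)) (tt N8480 F39781) (tt N14392 (iv F50068)) (tt N6465 F39039) (tt N12754 (iv F45526)) (tt N6464 (iv D20578)))
theorem Q10372 : ∀ i, i < 10372 → P i := stepQ 10371 Q10371 (allL N10371 (tt N10362 F39040) (tt N14737 D25004) (tt N12349 F44283) (tt N6466 F39041) (tt N12754 (iv F45525)) (tt N6465 (iv D20579)) (tt N10361 F39042))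
theorem Q10373 : ∀ i, i < 10373 → P i := stepQ 10372 Q10372 (allL N10372 (tt N10372 F39043) (tt N6466 (iv D20580)) (tt N12163 (iv F43802)) (tt N14737 (iv F50910)) (tt N14394 (iv F50074)) (tt N12163 (iv F43803)) (tt N14738 D25005))
theorem Q10374 : ∀ i, i < 10374 → P i := stepQ 10373 Q10373 (allL N10373 (tt N9779 (iv F39046)) (tt N6471 (iv D20581)) (tt N14739 D25006) (tt N6472 F39044) (tt N13220 (iv F46701)) (tt N13419 (iv F47260)) (tt N6474 F39045))
theorem Q10375 : ∀ i, i < 10375 → P i := stepQ 10374 Q10374 (allL N10374 (tt N9780 F39047) (tt N11824 (iv F42885)) (tt N9778 F39048) (tt N13419 (iv F47259)) (tt N14440 (iv F50189)) (tt N6472 (iv D20582)) (tt N10380 (iv F39057)))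
theorem Q10376 : ∀ i, i < 10376 → P i := stepQ 10375 Q10375 (allL N10375 (tt N14740 D25007) (tt N6473 (iv D20583)) (tt N14741 D25008) (tt N14448 (iv F50205)) (tt N6474 F39049) (tt N14742 D25009) (tt N13220 (iv F46702)))
theorem Q10377 : ∀ i, i < 10377 → P i := stepQ 10376 Q10376 (allL N10376 (tt N6474 (iv D20584)) (tt N13262 F46817) (tt N14743 D25010) (tt N6475 F39050) (tt N14740 (iv F50917)) (tt N14744 D25011) (tt N9779 F39051))
theorem Q10378 : ∀ i, i < 10378 → P i := stepQ 10377 Q10377 (allL N10377 (tt N14743 (iv F50924)) (tt N11885 (iv F43047)) (tt N6474 (iv D20585)) (tt N6768 F39839) (tt N14741 (iv F50919)) (tt N6767 (iv F39838)) (tt N14739 (iv F50916)))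
theorem Q10379 : ∀ i, i < 10379 → P i := stepQ 10378 Q10378 (allL N10378 (tt N14744 (iv F50928)) (tt N8190 (iv F39831)) (tt N6767 F39837) (tt N6477 F39053) (tt N14742 (iv F50923)) (tt N6474 (iv D20586)) (tt N14033 (iv F49093)))
theorem Q10380 : ∀ i, i < 10380 → P i := stepQ 10379 Q10379 (allL N10379 (tt N14026 (iv F49064)) (tt N6475 (iv D20587)) (tt N9770 F39054) (tt N13262 (iv F46815)) (tt N14452 (iv F50212)) (tt N14025 (iv F49063)) (tt N13258 (iv F46804)))
theorem Q10381 : ∀ i, i < 10381 → P i := stepQ 10380 Q10380 (allL N10380 (tt N6477 F39055) (tt N12240 (iv F43998)) (tt N9771 F39056) (tt N14744 (iv F50930)) (tt N14453 (iv F50215)) (tt N6475 (iv D20588)) (tt N10374 F39057))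
theorem Q10382 : ∀ i, i < 10382 → P i := stepQ 10381 Q10381 (allL N10381 (tt N9236 F39058) (tt N6481 F39059) (tt N6810 (iv F39062)) (tt N6476 (iv D20589)) (tt N6819 F39060) (tt N13689 (iv F48140)) (tt N9730 F39061))
theorem Q10383 : ∀ i, i < 10383 → P i := stepQ 10382 Q10382 (allL N10382 (tt N7451 F39063) (tt N9860 F39064) (tt N6478 (iv D20590)) (tt N13256 (iv F46801)) (tt N14454 (iv F50219)) (tt N7449 F39065) (tt N10296 F39066))
theorem Q10384 : ∀ i, i < 10384 → P i := stepQ 10383 Q10383 (allL N10383 (tt N11878 (iv F43023)) (tt N6811 F39067) (tt N6481 (iv D20591)) (tt N11873 (iv F43015)) (tt N6822 F39068) (tt N13979 (iv F48948)) (tt N9721 F39069))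
theorem Q10385 : ∀ i, i < 10385 → P i := stepQ 10384 Q10384 (allL N10384 (tt N10384 F39070) (tt N6483 (iv D20592)) (tt N14745 D25012) (tt N7461 F39071) (tt N6899 F39072) (tt N10384 F39073) (tt N7539 F39074))
theorem Q10386 : ∀ i, i < 10386 → P i := stepQ 10385 Q10385 (allL N10385 (tt N10193 F39075) (tt N6894 F39076) (tt N6486 (iv D20593)) (tt N14746 D25013) (tt N7442 F39077) (tt N8953 F39078) (tt N14747 D25014))
theorem Q10387 : ∀ i, i < 10387 → P i := stepQ 10386 Q10386 (allL N10386 (tt N11883 (iv F43039)) (tt N10420 (iv F39157)) (tt N14747 (iv F50943)) (tt N6487 F39079) (tt N7443 F39080) (tt N6905 (iv F39081)) (tt N6486 (iv D20594)))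
theorem Q10388 : ∀ i, i < 10388 → P i := stepQ 10387 Q10387 (allL N10387 (tt N10314 F39082) (tt N6900 F39083) (tt N6490 F39084) (tt N6905 F39085) (tt N6488 F39086) (tt N6487 (iv D20595)) (tt N7540 F39087))
theorem Q10389 : ∀ i, i < 10389 → P i := stepQ 10388 Q10388 (allL N10388 (tt N6489 (iv D20596)) (tt N14748 D25015) (tt N10422 (iv F39167)) (tt N14465 (iv F50239)) (tt N6491 F39088) (tt N10481 (iv F39285)) (tt N6565 F39089))
theorem Q10390 : ∀ i, i < 10390 → P i := stepQ 10389 Q10389 (allL N10389 (tt N14749 D25016) (tt N6490 (iv D20597)) (tt N8353 F39090) (tt N14467 (iv F50244)) (tt N6492 F39091) (tt N10523 (iv F39371)) (tt N14750 D25017))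
theorem Q10391 : ∀ i, i < 10391 → P i := stepQ 10390 Q10390 (allL N10390 (tt N12578 (iv F44993)) (tt N6491 (iv D20598)) (tt N8961 (iv F39093)) (tt N6493 F39092) (tt N14748 (iv F50946)) (tt N8960 F39094) (tt N13306 (iv F46953)))
theorem Q10392 : ∀ i, i < 10392 → P i := stepQ 10391 Q10391 (allL N10391 (tt N6492 (iv D20599)) (tt N14751 D25018) (tt N10520 (iv F39363)) (tt N6495 F39095) (tt N14749 (iv F50951)) (tt N10525 (iv F39375)) (tt N13314 (iv F46975)))
theorem Q10393 : ∀ i, i < 10393 → P i := stepQ 10392 Q10392 (allL N10392 (tt N13314 (iv F46972)) (tt N10312 F39096) (tt N10521 (iv F39366)) (tt N6497 F39097) (tt N14750 (iv F50954)) (tt N13313 (iv F46971)) (tt N6492 (iv D20600)))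
theorem Q10394 : ∀ i, i < 10394 → P i := stepQ 10393 Q10393 (allL N10393 (tt N6493 (iv D20601)) (tt N14026 (iv F49065)) (tt N12299 F44137) (tt N12578 (iv F44996)) (tt N14476 (iv F50256)) (tt N12761 F45549) (tt N12307 (iv F44156)))
theorem Q10395 : ∀ i, i < 10395 → P i := stepQ 10394 Q10394 (allL N10394 (tt N12761 (iv F45548)) (tt N10490 (iv F39304)) (tt N13457 (iv F47361)) (tt N8960 F39098) (tt N14477 (iv F50257)) (tt N6493 (iv D20602)) (tt N8976 (iv F39099)))
theorem Q10396 : ∀ i, i < 10396 → P i := stepQ 10395 Q10395 (allL N10395 (tt N6494 (iv D20603)) (tt N7484 (iv F39101)) (tt N12161 (iv F43793)) (tt N10525 F39376) (tt N14478 (iv F50259)) (tt N6495 F39100) (tt N10403 (iv F39113)))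
theorem Q10397 : ∀ i, i < 10397 → P i := stepQ 10396 Q10396 (allL N10396 (tt N12161 (iv F43796)) (tt N10535 (iv F39401)) (tt N6494 (iv D20604)) (tt N14752 D25019) (tt N14479 (iv F50262)) (tt N6496 F39102) (tt N14753 D25020))
theorem Q10398 : ∀ i, i < 10398 → P i := stepQ 10397 Q10397 (allL N10397 (tt N10403 (iv F39112)) (tt N8980 F39103) (tt N14753 (iv F50963)) (tt N8983 F39104) (tt N14480 (iv F50266)) (tt N10400 (iv F39109)) (tt N6494 (iv D20605)))
theorem Q10399 : ∀ i, i < 10399 → P i := stepQ 10398 Q10398 (allL N10398 (tt N12779 (iv F45601)) (tt N6495 (iv D20606)) (tt N7918 (iv F39106)) (tt N14751 (iv F50957)) (tt N14481 (iv F50267)) (tt N7917 F39105) (tt N11909 (iv F43112)))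
theorem Q10400 : ∀ i, i < 10400 → P i := stepQ 10399 Q10399 (allL N10399 (tt N6496 F39107) (tt N12158 F43780) (tt N6495 (iv D20607)) (tt N14754 D25021) (tt N14482 (iv F50271)) (tt N12161 (iv F43795)) (tt N14755 D25022))
theorem Q10401 : ∀ i, i < 10401 → P i := stepQ 10400 Q10400 (allL N10400 (tt N6497 F39108) (tt N14071 (iv F49192)) (tt N14755 (iv F50972)) (tt N13314 (iv F46974)) (tt N14483 (iv F50274)) (tt N10397 F39109) (tt N6495 (iv D20608)))
theorem Q10402 : ∀ i, i < 10402 → P i := stepQ 10401 Q10401 (allL N10401 (tt N14754 (iv F50965)) (tt N6499 F39110) (tt N9279 (iv F39744)) (tt N6496 (iv D20609)) (tt N8470 F39711) (tt N14752 (iv F50962)) (tt N14756 D25023))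
theorem Q10403 : ∀ i, i < 10403 → P i := stepQ 10402 Q10402 (allL N10402 (tt N14755 (iv F50971)) (tt N14757 D25024) (tt N6497 F39111) (tt N14756 (iv F50978)) (tt N14484 (iv F50278)) (tt N14758 D25025) (tt N6496 (iv D20610)))
theorem Q10404 : ∀ i, i < 10404 → P i := stepQ 10403 Q10403 (allL N10403 (tt N10397 F39112) (tt N14759 D25026) (tt N14758 (iv F50985)) (tt N13313 (iv F46969)) (tt N14485 (iv F50280)) (tt N6497 (iv D20611)) (tt N10395 F39113))
theorem Q10405 : ∀ i, i < 10405 → P i := stepQ 10404 Q10404 (allL N10404 (tt N12129 (iv F43714)) (tt N6498 (iv D20612)) (tt N7524 F39114) (tt N11919 (iv F43138)) (tt N14486 (iv F50284)) (tt N7861 (iv F39115)) (tt N12124 (iv F43692)))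
theorem Q10406 : ∀ i, i < 10406 → P i := stepQ 10405 Q10405 (allL N10405 (tt N6499 F39116) (tt N11919 (iv F43137)) (tt N6721 F39731) (tt N6498 (iv D20613)) (tt N6728 F39710) (tt N6720 (iv F39732)) (tt N10676 (iv F40156)))
theorem Q10407 : ∀ i, i < 10407 → P i := stepQ 10406 Q10406 (allL N10406 (tt N12259 (iv F44037)) (tt N6500 (iv D20617)) (tt N10306 F39118) (tt N8062 F39705) (tt N14487 (iv F50288)) (tt N8061 (iv F39700)) (tt N14757 (iv F50982)))
theorem Q10408 : ∀ i, i < 10408 → P i := stepQ 10407 Q10407 (allL N10407 (tt N9832 (iv F39124)) (tt N6505 (iv D20619)) (tt N14760 D25027) (tt N6506 F39122) (tt N13240 (iv F46750)) (tt N6508 F39123) (tt N13471 (iv F47398)))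
theorem Q10409 : ∀ i, i < 10409 → P i := stepQ 10408 Q10408 (allL N10408 (tt N9833 F39125) (tt N12046 (iv F43440)) (tt N9772 F39126) (tt N13471 (iv F47397)) (tt N14489 (iv F50295)) (tt N10414 (iv F39135)) (tt N6506 (iv D20620)))
theorem Q10410 : ∀ i, i < 10410 → P i := stepQ 10409 Q10409 (allL N10409 (tt N14761 D25028) (tt N6507 (iv D20621)) (tt N14762 D25029) (tt N14497 (iv F50311)) (tt N6508 F39127) (tt N13240 (iv F46751)) (tt N14763 D25030))
theorem Q10411 : ∀ i, i < 10411 → P i := stepQ 10410 Q10410 (allL N10410 (tt N6508 (iv D20622)) (tt N13275 F46845) (tt N14764 D25031) (tt N6509 F39128) (tt N14761 (iv F50994)) (tt N9832 F39129) (tt N14765 D25032))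
theorem Q10412 : ∀ i, i < 10412 → P i := stepQ 10411 Q10411 (allL N10411 (tt N14764 (iv F51001)) (tt N12094 (iv F43591)) (tt N6508 (iv D20623)) (tt N6843 F39695) (tt N14762 (iv F50996)) (tt N14760 (iv F50993)) (tt N6841 (iv F39694)))
theorem Q10413 : ∀ i, i < 10413 → P i := stepQ 10412 Q10412 (allL N10412 (tt N14765 (iv F51005)) (tt N8160 (iv F39687)) (tt N6841 F39693) (tt N6511 F39131) (tt N14763 (iv F51000)) (tt N14090 (iv F49253)) (tt N6508 (iv D20624)))
theorem Q10414 : ∀ i, i < 10414 → P i := stepQ 10413 Q10413 (allL N10413 (tt N14083 (iv F49224)) (tt N6509 (iv D20625)) (tt N9825 F39132) (tt N13275 (iv F46843)) (tt N14501 (iv F50318)) (tt N13271 (iv F46835)) (tt N14082 F49223))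
theorem Q10415 : ∀ i, i < 10415 → P i := stepQ 10414 Q10414 (allL N10414 (tt N6511 F39133) (tt N12300 (iv F44139)) (tt N9826 F39134) (tt N14765 (iv F51007)) (tt N14502 (iv F50321)) (tt N10408 F39135) (tt N6509 (iv D20626)))
theorem Q10416 : ∀ i, i < 10416 → P i := stepQ 10415 Q10415 (allL N10415 (tt N9200 F39136) (tt N6514 F39137) (tt N6736 (iv F39140)) (tt N6510 (iv D20627)) (tt N6745 F39138) (tt N9750 F39139) (tt N13680 (iv F48105)))
theorem Q10417 : ∀ i, i < 10417 → P i := stepQ 10416 Q10416 (allL N10416 (tt N7448 F39141) (tt N9806 F39142) (tt N6512 (iv D20628)) (tt N13255 (iv F46798)) (tt N14503 (iv F50325)) (tt N10294 F39143) (tt N7446 F39144))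
theorem Q10418 : ∀ i, i < 10418 → P i := stepQ 10417 Q10417 (allL N10417 (tt N12087 (iv F43566)) (tt N6737 F39145) (tt N6514 (iv D20629)) (tt N12084 (iv F43562)) (tt N6748 F39146) (tt N9729 F39147) (tt N13983 (iv F48964)))
theorem Q10419 : ∀ i, i < 10419 → P i := stepQ 10418 Q10418 (allL N10418 (tt N10418 F39148) (tt N6516 (iv D20630)) (tt N14766 D25033) (tt N7463 F39149) (tt N6901 F39150) (tt N7584 F39151) (tt N10418 F39152))
theorem Q10420 : ∀ i, i < 10420 → P i := stepQ 10419 Q10419 (allL N10419 (tt N10229 F39153) (tt N6897 F39154) (tt N6519 (iv D20631)) (tt N14767 D25034) (tt N7444 F39155) (tt N14768 D25035) (tt N9020 F39156))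
theorem Q10421 : ∀ i, i < 10421 → P i := stepQ 10420 Q10420 (allL N10420 (tt N12092 (iv F43583)) (tt N10386 F39157) (tt N14768 (iv F51020)) (tt N6520 F39158) (tt N7445 F39159) (tt N6519 (iv D20632)) (tt N6908 (iv F39160)))
theorem Q10422 : ∀ i, i < 10422 → P i := stepQ 10421 Q10421 (allL N10421 (tt N10351 F39161) (tt N6902 F39162) (tt N6523 F39163) (tt N6908 F39164) (tt N6521 F39165) (tt N7585 F39166) (tt N6520 (iv D20633)))
theorem Q10423 : ∀ i, i < 10423 → P i := stepQ 10422 Q10422 (allL N10422 (tt N6522 (iv D20634)) (tt N14769 D25036) (tt N10388 F39167) (tt N14514 (iv F50345)) (tt N6524 F39168) (tt N6604 F39169) (tt N10479 (iv F39279)))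
theorem Q10424 : ∀ i, i < 10424 → P i := stepQ 10423 Q10423 (allL N10423 (tt N14770 D25037) (tt N6523 (iv D20635)) (tt N8357 F39170) (tt N14516 (iv F50350)) (tt N6525 F39171) (tt N14771 D25038) (tt N10473 (iv F39263)))
theorem Q10425 : ∀ i, i < 10425 → P i := stepQ 10424 Q10424 (allL N10424 (tt N12572 (iv F44970)) (tt N6524 (iv D20636)) (tt N9027 F39172) (tt N6526 F39173) (tt N14769 (iv F51024)) (tt N13289 (iv F46900)) (tt N9026 (iv F39174)))
theorem Q10426 : ∀ i, i < 10426 → P i := stepQ 10425 Q10425 (allL N10425 (tt N6525 (iv D20637)) (tt N14772 D25039) (tt N10470 (iv F39256)) (tt N6528 F39175) (tt N14770 (iv F51028)) (tt N13373 (iv F47137)) (tt N10475 (iv F39267)))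
theorem Q10427 : ∀ i, i < 10427 → P i := stepQ 10426 Q10426 (allL N10426 (tt N13373 (iv F47134)) (tt N10349 F39176) (tt N10471 (iv F39258)) (tt N6530 F39177) (tt N14771 (iv F51031)) (tt N6525 (iv D20638)) (tt N13372 F47133))
theorem Q10428 : ∀ i, i < 10428 → P i := stepQ 10427 Q10427 (allL N10427 (tt N6526 (iv D20639)) (tt N14083 (iv F49225)) (tt N12239 F43997) (tt N12572 (iv F44973)) (tt N14525 (iv F50368)) (tt N12248 (iv F44016)) (tt N12786 F45633))
theorem Q10429 : ∀ i, i < 10429 → P i := stepQ 10428 Q10428 (allL N10428 (tt N12786 F45632) (tt N10536 (iv F39403)) (tt N13405 (iv F47224)) (tt N9026 F39178) (tt N14526 (iv F50369)) (tt N9041 (iv F39179)) (tt N6526 (iv D20640)))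
theorem Q10430 : ∀ i, i < 10430 → P i := stepQ 10429 Q10429 (allL N10429 (tt N6527 (iv D20641)) (tt N7493 F39395) (tt N11958 (iv F43240)) (tt N10475 F39268) (tt N14527 (iv F50371)) (tt N10437 (iv F39190)) (tt N6528 F39180))
theorem Q10431 : ∀ i, i < 10431 → P i := stepQ 10430 Q10430 (allL N10430 (tt N11958 F43243) (tt N10489 (iv F39302)) (tt N6527 (iv D20642)) (tt N14773 D25040) (tt N14528 (iv F50374)) (tt N14774 D25041) (tt N6529 F39181))
theorem Q10432 : ∀ i, i < 10432 → P i := stepQ 10431 Q10431 (allL N10431 (tt N10437 (iv F39189)) (tt N9045 F39182) (tt N14774 (iv F51040)) (tt N9048 F39183) (tt N14529 (iv F50378)) (tt N6527 (iv D20643)) (tt N10434 (iv F39186)))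
theorem Q10433 : ∀ i, i < 10433 → P i := stepQ 10432 Q10432 (allL N10432 (tt N12804 (iv F45685)) (tt N6528 (iv D20644)) (tt N7761 F39400) (tt N14772 (iv F51034)) (tt N14530 (iv F50379)) (tt N12115 (iv F43668)) (tt N7760 (iv F39399)))
theorem Q10434 : ∀ i, i < 10434 → P i := stepQ 10433 Q10433 (allL N10433 (tt N6529 F39184) (tt N11955 F43230) (tt N6528 (iv D20645)) (tt N14775 D25042) (tt N14531 (iv F50383)) (tt N14776 D25043) (tt N11958 (iv F43242)))
theorem Q10435 : ∀ i, i < 10435 → P i := stepQ 10434 Q10434 (allL N10434 (tt N6530 F39185) (tt N14122 (iv F49353)) (tt N14776 (iv F51049)) (tt N13373 (iv F47136)) (tt N14532 (iv F50386)) (tt N6528 (iv D20646)) (tt N10431 F39186))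
theorem Q10436 : ∀ i, i < 10436 → P i := stepQ 10435 Q10435 (allL N10435 (tt N14775 (iv F51042)) (tt N6532 F39187) (tt N9327 (iv F39788)) (tt N6529 (iv D20647)) (tt N8459 F39755) (tt N14777 D25044) (tt N14773 (iv F51039)))
theorem Q10437 : ∀ i, i < 10437 → P i := stepQ 10436 Q10436 (allL N10436 (tt N14776 (iv F51048)) (tt N14778 D25045) (tt N6530 F39188) (tt N14777 (iv F51055)) (tt N14533 (iv F50390)) (tt N6529 (iv D20648)) (tt N14779 D25046))
theorem Q10438 : ∀ i, i < 10438 → P i := stepQ 10437 Q10437 (allL N10437 (tt N10431 F39189) (tt N14780 D25047) (tt N14779 (iv F51062)) (tt N13372 (iv F47131)) (tt N14534 (iv F50392)) (tt N10429 F39190) (tt N6530 (iv D20649)))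
theorem Q10439 : ∀ i, i < 10439 → P i := stepQ 10438 Q10438 (allL N10438 (tt N11923 (iv F43156)) (tt N6531 (iv D20650)) (tt N7510 F39191) (tt N12125 (iv F43695)) (tt N14535 (iv F50396)) (tt N11918 (iv F43135)) (tt N7697 (iv F39192)))
theorem Q10440 : ∀ i, i < 10440 → P i := stepQ 10439 Q10439 (allL N10439 (tt N6532 F39193) (tt N12125 (iv F43694)) (tt N6796 F39775) (tt N6531 (iv D20651)) (tt N6800 F39754) (tt N10760 (iv F40380)) (tt N6795 (iv F39776)))
theorem Q10441 : ∀ i, i < 10441 → P i := stepQ 10440 Q10440 (allL N10440 (tt N12321 (iv F44184)) (tt N6533 (iv D20655)) (tt N10342 F39195) (tt N8107 F39789) (tt N14536 (iv F50400)) (tt N14778 (iv F51059)) (tt N8105 F39749))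
theorem Q10442 : ∀ i, i < 10442 → P i := stepQ 10441 Q10441 (allL N10441 (tt N14053 (iv F49145)) (tt N6535 (iv D20657)) (tt N9820 (iv F43965)) (tt N9085 F39199) (tt N14538 (iv F50407)) (tt N14049 (iv F49131)) (tt N6541 F39200))
theorem Q10443 : ∀ i, i < 10443 → P i := stepQ 10442 Q10442 (allL N10442 (tt N6542 F39201) (tt N8350 F39202) (tt N6537 F39203) (tt N8358 F39204) (tt N6536 (iv D20658)) (tt N10449 (iv F39220)) (tt N14781 D25048))
theorem Q10444 : ∀ i, i < 10444 → P i := stepQ 10443 Q10443 (allL N10443 (tt N6543 F39205) (tt N12794 (iv F45655)) (tt N6539 F39206) (tt N10543 (iv F39426)) (tt N14781 (iv F51070)) (tt N8452 F39207) (tt N6536 (iv D20659)))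
theorem Q10445 : ∀ i, i < 10445 → P i := stepQ 10444 Q10444 (allL N10444 (tt N6544 F39208) (tt N12954 (iv F46080)) (tt N10449 F39221) (tt N14544 (iv F50420)) (tt N6538 F39209) (tt N6537 (iv D20660)) (tt N10454 (iv F39235)))
theorem Q10446 : ∀ i, i < 10446 → P i := stepQ 10445 Q10445 (allL N10445 (tt N6545 F39210) (tt N14782 D25049) (tt N14781 (iv F51068)) (tt N14545 (iv F50423)) (tt N6539 F39211) (tt N10452 (iv F39230)) (tt N6537 (iv D20661)))
theorem Q10447 : ∀ i, i < 10447 → P i := stepQ 10446 Q10446 (allL N10446 (tt N14003 (iv F49008)) (tt N6539 (iv D20662)) (tt N14000 (iv F48998)) (tt N6541 F39212) (tt N14782 (iv F51072)) (tt N9817 F43973) (tt N9085 F39213))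
theorem Q10448 : ∀ i, i < 10448 → P i := stepQ 10447 Q10447 (allL N10447 (tt N11680 (iv F42496)) (tt N10462 (iv F39248)) (tt N7671 F39214) (tt N8957 F39215) (tt N14547 (iv F50428)) (tt N8954 F39216) (tt N6540 (iv D20663)))
theorem Q10449 : ∀ i, i < 10449 → P i := stepQ 10448 Q10448 (allL N10448 (tt N6541 (iv D20664)) (tt N14783 D25050) (tt N9814 (iv F43976)) (tt N14003 (iv F49011)) (tt N14548 (iv F50431)) (tt N9812 F43972) (tt N14053 (iv F49149)))
theorem Q10450 : ∀ i, i < 10450 → P i := stepQ 10449 Q10449 (allL N10449 (tt N8358 F39218) (tt N10545 (iv F39443)) (tt N10444 (iv F39221)) (tt N6542 (iv D20667)) (tt N8451 F39219) (tt N10442 F39220) (tt N14784 D25051))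
theorem Q10451 : ∀ i, i < 10451 → P i := stepQ 10450 Q10450 (allL N10450 (tt N14781 (iv F51067)) (tt N12863 (iv F45866)) (tt N6545 F39222) (tt N14784 (iv F51082)) (tt N6543 F39223) (tt N14784 (iv F51084)) (tt N6542 (iv D20668)))
theorem Q10452 : ∀ i, i < 10452 → P i := stepQ 10451 Q10451 (allL N10451 (tt N8452 F39224) (tt N9915 F39225) (tt N6548 F39226) (tt N9916 F39227) (tt N14784 (iv F51083)) (tt N6543 (iv D20669)) (tt N8451 F39228))
theorem Q10453 : ∀ i, i < 10453 → P i := stepQ 10452 Q10452 (allL N10452 (tt N10454 (iv F39233)) (tt N14785 D25052) (tt N12621 (iv F45162)) (tt N14556 (iv F50447)) (tt N6546 F39229) (tt N10445 F39230) (tt N6544 (iv D20670)))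
theorem Q10454 : ∀ i, i < 10454 → P i := stepQ 10453 Q10453 (allL N10453 (tt N14786 D25053) (tt N6545 (iv D20671)) (tt N12864 (iv F45867)) (tt N11611 (iv F42350)) (tt N6547 F39231) (tt N14787 D25054) (tt N6553 F39232))
theorem Q10455 : ∀ i, i < 10455 → P i := stepQ 10454 Q10454 (allL N10454 (tt N10452 F39233) (tt N14788 D25055) (tt N14784 (iv F51081)) (tt N14557 (iv F50451)) (tt N6548 F39234) (tt N6545 (iv D20672)) (tt N10444 F39235))
theorem Q10456 : ∀ i, i < 10456 → P i := stepQ 10455 Q10455 (allL N10455 (tt N9109 (iv F46933)) (tt N6546 (iv D20673)) (tt N14789 D25056) (tt N6549 F39236) (tt N14785 (iv F51086)) (tt N14072 (iv F49199)) (tt N12218 (iv F43943)))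
theorem Q10457 : ∀ i, i < 10457 → P i := stepQ 10456 Q10456 (allL N10456 (tt N6547 (iv D20674)) (tt N13303 F46942) (tt N9007 F39237) (tt N6550 F39238) (tt N14786 (iv F51089)) (tt N9006 F39240) (tt N6554 F39239))
theorem Q10458 : ∀ i, i < 10458 → P i := stepQ 10457 Q10457 (allL N10457 (tt N9006 F39241) (tt N14167 (iv F49477)) (tt N9005 F39242) (tt N6551 F39243) (tt N14787 (iv F51094)) (tt N6547 (iv D20675)) (tt N8559 F39244))
theorem Q10459 : ∀ i, i < 10459 → P i := stepQ 10458 Q10458 (allL N10458 (tt N14790 D25057) (tt N6548 (iv D20676)) (tt N14791 D25058) (tt N6552 F39245) (tt N14788 (iv F51096)) (tt N14167 (iv F49479)) (tt N13288 (iv F46895)))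
theorem Q10460 : ∀ i, i < 10460 → P i := stepQ 10459 Q10459 (allL N10459 (tt N6549 (iv D20677)) (tt N9098 (iv F46931)) (tt N14139 (iv F49393)) (tt N9109 F46932) (tt N14560 (iv F50456)) (tt N14071 (iv F49194)) (tt N12219 (iv F43944)))
theorem Q10461 : ∀ i, i < 10461 → P i := stepQ 10460 Q10460 (allL N10460 (tt N13301 (iv F46926)) (tt N6550 (iv D20680)) (tt N13312 (iv F46965)) (tt N13303 (iv F46940)) (tt N14561 (iv F50458)) (tt N13299 (iv F46922)) (tt N14028 (iv F49073)))
theorem Q10462 : ∀ i, i < 10462 → P i := stepQ 10461 Q10461 (allL N10461 (tt N6552 (iv D20681)) (tt N14030 F49086) (tt N14166 (iv F49472)) (tt N14790 (iv F51101)) (tt N14562 (iv F50459)) (tt N14164 F49467) (tt N14710 (iv F50816)))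
theorem Q10463 : ∀ i, i < 10463 → P i := stepQ 10462 Q10462 (allL N10462 (tt N14710 (iv F50813)) (tt N10447 F39248) (tt N14172 (iv F49494)) (tt N13288 (iv F46893)) (tt N14563 (iv F50461)) (tt N14792 D25059) (tt N6552 (iv D20682)))
theorem Q10464 : ∀ i, i < 10464 → P i := stepQ 10463 Q10463 (allL N10463 (tt N6553 (iv D20683)) (tt N14793 D25060) (tt N13018 (iv F46231)) (tt N11607 (iv F42341)) (tt N6554 F39249) (tt N12723 F45440) (tt N14786 (iv F51090)))
theorem Q10465 : ∀ i, i < 10465 → P i := stepQ 10464 Q10464 (allL N10464 (tt N14056 (iv F49155)) (tt N6554 (iv D20684)) (tt N14794 D25061) (tt N6555 F39250) (tt N14793 (iv F51114)) (tt N12812 (iv F45716)) (tt N14795 D25062))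
theorem Q10466 : ∀ i, i < 10466 → P i := stepQ 10465 Q10465 (allL N10465 (tt N14057 (iv F49158)) (tt N12112 F43660) (tt N14062 (iv F49170)) (tt N12812 (iv F45715)) (tt N14564 (iv F50462)) (tt N6555 (iv D20685)) (tt N14796 D25063))
theorem Q10467 : ∀ i, i < 10467 → P i := stepQ 10466 Q10466 (allL N10466 (tt N11825 F42888) (tt N14028 (iv F49076)) (tt N14063 (iv F49172)) (tt N14795 (iv F51122)) (tt N14565 (iv F50463)) (tt N14797 D25064) (tt N6555 (iv D20686)))
theorem Q10468 : ∀ i, i < 10468 → P i := stepQ 10467 Q10467 (allL N10467 (tt N14702 (iv F50789)) (tt N6557 (iv D20687)) (tt N14798 D25065) (tt N13339 (iv F47040)) (tt N14566 (iv F50464)) (tt N14799 D25066) (tt N7983 F39251))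
theorem Q10469 : ∀ i, i < 10469 → P i := stepQ 10468 Q10468 (allL N10468 (tt N10646 (iv F40066)) (tt N14745 (iv F50933)) (tt N6558 (iv D20688)) (tt N11841 (iv F42927)) (tt N8351 F39252) (tt N8321 F39253) (tt N14800 D25067))
theorem Q10470 : ∀ i, i < 10470 → P i := stepQ 10469 Q10469 (allL N10469 (tt N10647 (iv F40071)) (tt N10521 (iv F39365)) (tt N14800 (iv F51141)) (tt N8443 F39254) (tt N8352 F39255) (tt N12599 (iv F45090)) (tt N6558 (iv D20689)))
theorem Q10471 : ∀ i, i < 10471 → P i := stepQ 10470 Q10470 (allL N10470 (tt N6559 (iv D20690)) (tt N12808 (iv F45701)) (tt N10425 F39256) (tt N10539 (iv F39411)) (tt N12620 (iv F45160)) (tt N10477 (iv F39274)) (tt N6562 F39257))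
theorem Q10472 : ∀ i, i < 10472 → P i := stepQ 10471 Q10471 (allL N10471 (tt N10477 (iv F39272)) (tt N10519 (iv F39360)) (tt N10426 F39258) (tt N10540 (iv F39415)) (tt N12619 (iv F45157)) (tt N6559 (iv D20691)) (tt N10476 (iv F39271)))
theorem Q10473 : ∀ i, i < 10473 → P i := stepQ 10472 Q10472 (allL N10472 (tt N6561 (iv D20692)) (tt N8416 F39259) (tt N14801 D25068) (tt N12640 (iv F45207)) (tt N6562 F39260) (tt N14802 D25069) (tt N12620 (iv F45161)))
theorem Q10474 : ∀ i, i < 10474 → P i := stepQ 10473 Q10473 (allL N10473 (tt N14801 (iv F51145)) (tt N6566 F39261) (tt N6561 (iv D20693)) (tt N14803 D25070) (tt N6563 F39262) (tt N13067 (iv F46350)) (tt N10423 F39263))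
theorem Q10475 : ∀ i, i < 10475 → P i := stepQ 10474 Q10474 (allL N10474 (tt N14802 (iv F51148)) (tt N7989 F39264) (tt N13067 F46351) (tt N12642 (iv F45215)) (tt N6564 F39265) (tt N6561 (iv D20694)) (tt N14804 D25071))
theorem Q10476 : ∀ i, i < 10476 → P i := stepQ 10475 Q10475 (allL N10475 (tt N6563 F39266) (tt N11705 (iv F42576)) (tt N6562 (iv D20695)) (tt N10429 (iv F39268)) (tt N14801 (iv F51146)) (tt N13372 (iv F47132)) (tt N10425 F39267))
theorem Q10477 : ∀ i, i < 10477 → P i := stepQ 10476 Q10476 (allL N10476 (tt N6564 F39269) (tt N8545 F39270) (tt N13372 (iv F47130)) (tt N10541 (iv F39418)) (tt N14802 (iv F51151)) (tt N6562 (iv D20696)) (tt N10471 F39271))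
theorem Q10478 : ∀ i, i < 10478 → P i := stepQ 10477 Q10477 (allL N10477 (tt N10471 F39272) (tt N8454 F39273) (tt N13373 (iv F47135)) (tt N10542 (iv F39422)) (tt N14804 (iv F51159)) (tt N10470 F39274) (tt N6564 (iv D20697)))
theorem Q10479 : ∀ i, i < 10479 → P i := stepQ 10478 Q10478 (allL N10478 (tt N14058 (iv F49161)) (tt N6565 (iv D20698)) (tt N14805 D25072) (tt N14567 (iv F50466)) (tt N6568 F39275) (tt N13127 (iv F46504)) (tt N14806 D25073))
theorem Q10480 : ∀ i, i < 10480 → P i := stepQ 10479 Q10479 (allL N10479 (tt N6566 F39276) (tt N14807 D25074) (tt N6565 (iv D20699)) (tt N14622 (iv F50577)) (tt N6569 F39277) (tt N6606 F39278) (tt N10422 F39279))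
theorem Q10481 : ∀ i, i < 10481 → P i := stepQ 10480 Q10480 (allL N10480 (tt N14622 (iv F50576)) (tt N14803 (iv F51153)) (tt N14808 D25075) (tt N6566 (iv D20700)) (tt N10177 F39280) (tt N13174 F46604) (tt N10173 F39281))
theorem Q10482 : ∀ i, i < 10482 → P i := stepQ 10481 Q10481 (allL N10481 (tt N6605 F39282) (tt N14809 D25076) (tt N6604 F39283) (tt N14571 (iv F50473)) (tt N6570 F39284) (tt N10388 F39285) (tt N6567 (iv D20701)))
theorem Q10483 : ∀ i, i < 10483 → P i := stepQ 10482 Q10482 (allL N10482 (tt N12790 (iv F47068)) (tt N13347 F47067) (tt N6568 (iv D20702)) (tt N14810 D25077) (tt N14805 (iv F51161)) (tt N13410 (iv F47239)) (tt N13348 (iv F47073)))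
theorem Q10484 : ∀ i, i < 10484 → P i := stepQ 10483 Q10483 (allL N10483 (tt N14059 (iv F49162)) (tt N13306 (iv F46954)) (tt N13348 (iv F47070)) (tt N6572 F39286) (tt N14806 (iv F51162)) (tt N14811 D25078) (tt N6568 (iv D20703)))
theorem Q10485 : ∀ i, i < 10485 → P i := stepQ 10484 Q10484 (allL N10484 (tt N9022 (iv F39398)) (tt N6569 (iv D20704)) (tt N13347 (iv F47064)) (tt N6610 F39287) (tt N14807 (iv F51163)) (tt N7928 F39288) (tt N13346 F47062))
theorem Q10486 : ∀ i, i < 10486 → P i := stepQ 10485 Q10485 (allL N10485 (tt N8956 F39301) (tt N6570 (iv D20705)) (tt N13287 (iv F46876)) (tt N6573 F39289) (tt N14809 (iv F51168)) (tt N13286 F46873) (tt N7774 F39290))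
theorem Q10487 : ∀ i, i < 10487 → P i := stepQ 10486 Q10486 (allL N10486 (tt N10487 (iv F39293)) (tt N14029 (iv F49078)) (tt N9089 F39291) (tt N13411 (iv F47241)) (tt N14584 (iv F50496)) (tt N9807 F39292) (tt N6571 (iv D20706)))
theorem Q10488 : ∀ i, i < 10488 → P i := stepQ 10487 Q10487 (allL N10487 (tt N10486 F39293) (tt N10305 F39296) (tt N9655 F39294) (tt N14811 (iv F51179)) (tt N13783 (iv F48441)) (tt N6572 (iv D20707)) (tt N9806 F39295))
theorem Q10489 : ∀ i, i < 10489 → P i := stepQ 10488 Q10488 (allL N10488 (tt N6573 (iv D20708)) (tt N8954 F39297) (tt N14812 D25079) (tt N8956 (iv F39300)) (tt N14585 (iv F50499)) (tt N12028 (iv F43390)) (tt N7775 F39298))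
theorem Q10490 : ∀ i, i < 10490 → P i := stepQ 10489 Q10489 (allL N10489 (tt N14812 (iv F51181)) (tt N10430 F39302) (tt N6573 (iv D20709)) (tt N14813 D25080) (tt N14586 (iv F50502)) (tt N14814 D25081) (tt N7776 F39303))
theorem Q10491 : ∀ i, i < 10491 → P i := stepQ 10490 Q10490 (allL N10490 (tt N12028 (iv F43389)) (tt N10394 F39304) (tt N14814 (iv F51187)) (tt N13286 (iv F46874)) (tt N14587 (iv F50505)) (tt N6573 (iv D20710)) (tt N12025 (iv F43385)))
theorem Q10492 : ∀ i, i < 10492 → P i := stepQ 10491 Q10491 (allL N10491 (tt N14107 (iv F49306)) (tt N6574 (iv D20711)) (tt N9873 F39581) (tt N9138 F39305) (tt N14589 (iv F50511)) (tt N6579 F39306) (tt N14103 (iv F49293)))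
theorem Q10493 : ∀ i, i < 10493 → P i := stepQ 10492 Q10492 (allL N10492 (tt N6581 F39307) (tt N8354 F39308) (tt N6576 F39309) (tt N8366 F39310) (tt N6575 (iv D20712)) (tt N14815 D25082) (tt N10499 (iv F39326)))
theorem Q10494 : ∀ i, i < 10494 → P i := stepQ 10493 Q10493 (allL N10493 (tt N6582 F39311) (tt N12769 (iv F45571)) (tt N6577 F39312) (tt N10598 (iv F39924)) (tt N14815 (iv F51191)) (tt N6575 (iv D20713)) (tt N8463 F39313))
theorem Q10495 : ∀ i, i < 10495 → P i := stepQ 10494 Q10494 (allL N10494 (tt N6583 F39314) (tt N14816 D25083) (tt N14815 (iv F51189)) (tt N14595 (iv F50524)) (tt N6577 F39315) (tt N6576 (iv D20714)) (tt N10504 (iv F39341)))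
theorem Q10496 : ∀ i, i < 10496 → P i := stepQ 10495 Q10495 (allL N10495 (tt N6584 F39316) (tt N13031 (iv F46269)) (tt N10499 F39327) (tt N14596 (iv F50527)) (tt N6578 F39317) (tt N10503 (iv F39338)) (tt N6576 (iv D20715)))
theorem Q10497 : ∀ i, i < 10497 → P i := stepQ 10496 Q10496 (allL N10496 (tt N14022 (iv F49050)) (tt N6577 (iv D20716)) (tt N14019 (iv F49040)) (tt N6579 F39318) (tt N14816 (iv F51193)) (tt N9138 F39319) (tt N9870 F39577))
theorem Q10498 : ∀ i, i < 10498 → P i := stepQ 10497 Q10497 (allL N10497 (tt N6579 (iv D20717)) (tt N14817 D25084) (tt N9867 (iv F39580)) (tt N14022 (iv F49053)) (tt N14598 (iv F50532)) (tt N14107 (iv F49310)) (tt N9865 F39576))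
theorem Q10499 : ∀ i, i < 10499 → P i := stepQ 10498 Q10498 (allL N10498 (tt N11681 (iv F42500)) (tt N10511 (iv F39352)) (tt N7835 F39321) (tt N9023 F39322) (tt N14599 (iv F50535)) (tt N6580 (iv D20720)) (tt N9021 F39323))
theorem Q10500 : ∀ i, i < 10500 → P i := stepQ 10499 Q10499 (allL N10499 (tt N8366 F39324) (tt N10600 (iv F39933)) (tt N10495 (iv F39327)) (tt N6581 (iv D20721)) (tt N8462 F39325) (tt N14818 D25085) (tt N10492 F39326))
theorem Q10501 : ∀ i, i < 10501 → P i := stepQ 10500 Q10500 (allL N10500 (tt N14815 (iv F51188)) (tt N12857 F45846) (tt N6583 F39328) (tt N14818 (iv F51203)) (tt N6582 F39329) (tt N6581 (iv D20722)) (tt N14818 (iv F51205)))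
theorem Q10502 : ∀ i, i < 10502 → P i := stepQ 10501 Q10501 (allL N10501 (tt N8463 F39330) (tt N9898 F39331) (tt N6586 F39332) (tt N9899 F39333) (tt N14818 (iv F51204)) (tt N8462 F39334) (tt N6582 (iv D20723)))
theorem Q10503 : ∀ i, i < 10503 → P i := stepQ 10502 Q10502 (allL N10502 (tt N14819 D25086) (tt N6583 (iv D20724)) (tt N12858 (iv F45847)) (tt N11662 (iv F42468)) (tt N6585 F39335) (tt N6592 F39336) (tt N14820 D25087))
theorem Q10504 : ∀ i, i < 10504 → P i := stepQ 10503 Q10503 (allL N10503 (tt N10504 (iv F39339)) (tt N14821 D25088) (tt N14818 (iv F51202)) (tt N14607 (iv F50551)) (tt N6586 F39337) (tt N10495 F39338) (tt N6583 (iv D20725)))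
theorem Q10505 : ∀ i, i < 10505 → P i := stepQ 10504 Q10504 (allL N10504 (tt N10503 F39339) (tt N14822 D25089) (tt N12632 (iv F45190)) (tt N14608 (iv F50555)) (tt N6587 F39340) (tt N6584 (iv D20726)) (tt N10494 F39341))
theorem Q10506 : ∀ i, i < 10506 → P i := stepQ 10505 Q10505 (allL N10505 (tt N6585 (iv D20727)) (tt N13363 (iv F47109)) (tt N9069 F39342) (tt N6588 F39343) (tt N14819 (iv F51208)) (tt N6593 F39344) (tt N9068 (iv F39345)))
theorem Q10507 : ∀ i, i < 10507 → P i := stepQ 10506 Q10506 (allL N10506 (tt N9068 F39346) (tt N14188 (iv F49555)) (tt N9066 F39347) (tt N6589 F39348) (tt N14820 (iv F51213)) (tt N8568 F39349) (tt N6585 (iv D20728)))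
theorem Q10508 : ∀ i, i < 10508 → P i := stepQ 10507 Q10507 (allL N10507 (tt N14823 D25090) (tt N6586 (iv D20729)) (tt N14811 (iv F51178)) (tt N6590 F39350) (tt N14821 (iv F51215)) (tt N13348 (iv F47072)) (tt N14188 (iv F49557)))
theorem Q10509 : ∀ i, i < 10509 → P i := stepQ 10508 Q10508 (allL N10508 (tt N9163 (iv F44098)) (tt N6587 (iv D20730)) (tt N14824 D25091) (tt N6591 F39351) (tt N14822 (iv F51216)) (tt N12277 (iv F44089)) (tt N14123 (iv F49360)))
theorem Q10510 : ∀ i, i < 10510 → P i := stepQ 10509 Q10509 (allL N10509 (tt N13361 (iv F47100)) (tt N6588 (iv D20731)) (tt N13371 (iv F47127)) (tt N13363 (iv F47107)) (tt N14611 (iv F50560)) (tt N14085 (iv F49233)) (tt N13359 F47096))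
theorem Q10511 : ∀ i, i < 10511 → P i := stepQ 10510 Q10510 (allL N10510 (tt N6590 (iv D20732)) (tt N14087 F49246) (tt N14187 (iv F49550)) (tt N14823 (iv F51220)) (tt N14612 (iv F50561)) (tt N14729 (iv F50878)) (tt N14185 F49546))
theorem Q10512 : ∀ i, i < 10512 → P i := stepQ 10511 Q10511 (allL N10511 (tt N14729 (iv F50876)) (tt N10498 F39352) (tt N14193 (iv F49572)) (tt N13348 (iv F47071)) (tt N14613 (iv F50563)) (tt N6590 (iv D20733)) (tt N14810 (iv F51175)))
theorem Q10513 : ∀ i, i < 10513 → P i := stepQ 10512 Q10512 (allL N10512 (tt N6591 (iv D20734)) (tt N9152 (iv F44096)) (tt N14149 (iv F49426)) (tt N9163 F44097) (tt N14614 (iv F50564)) (tt N12278 (iv F44090)) (tt N14122 (iv F49355)))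
theorem Q10514 : ∀ i, i < 10514 → P i := stepQ 10513 Q10513 (allL N10513 (tt N6592 (iv D20737)) (tt N14825 D25092) (tt N13090 (iv F46405)) (tt N11659 (iv F42462)) (tt N6593 F39355) (tt N14819 (iv F51209)) (tt N12730 F45458))
theorem Q10515 : ∀ i, i < 10515 → P i := stepQ 10514 Q10514 (allL N10514 (tt N14109 (iv F49313)) (tt N6593 (iv D20738)) (tt N14826 D25093) (tt N6594 F39356) (tt N14825 (iv F51225)) (tt N14827 D25094) (tt N12816 (iv F45728)))
theorem Q10516 : ∀ i, i < 10516 → P i := stepQ 10515 Q10515 (allL N10515 (tt N12037 F43408) (tt N14085 (iv F49235)) (tt N14115 (iv F49331)) (tt N14827 (iv F51233)) (tt N14615 (iv F50566)) (tt N6594 (iv D20739)) (tt N14828 D25095))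
theorem Q10517 : ∀ i, i < 10517 → P i := stepQ 10516 Q10516 (allL N10516 (tt N14110 (iv F49316)) (tt N11905 F43102) (tt N14116 (iv F49335)) (tt N12816 (iv F45727)) (tt N14616 (iv F50567)) (tt N14829 D25096) (tt N6594 (iv D20740)))
theorem Q10518 : ∀ i, i < 10518 → P i := stepQ 10517 Q10517 (allL N10517 (tt N14721 (iv F50852)) (tt N6596 (iv D20741)) (tt N14830 D25097) (tt N13385 (iv F47159)) (tt N14617 (iv F50568)) (tt N8042 F39357) (tt N14831 D25098))
theorem Q10519 : ∀ i, i < 10519 → P i := stepQ 10518 Q10518 (allL N10518 (tt N10731 (iv F40288)) (tt N14766 (iv F51010)) (tt N6597 (iv D20742)) (tt N12055 (iv F43472)) (tt N8355 F39358) (tt N14832 D25099) (tt N8324 F39359))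
theorem Q10520 : ∀ i, i < 10520 → P i := stepQ 10519 Q10519 (allL N10519 (tt N10732 (iv F40293)) (tt N10471 F39360) (tt N14832 (iv F51252)) (tt N8444 F39361) (tt N8356 F39362) (tt N6597 (iv D20743)) (tt N12601 (iv F45101)))
theorem Q10521 : ∀ i, i < 10521 → P i := stepQ 10520 Q10520 (allL N10520 (tt N6598 (iv D20744)) (tt N12783 (iv F45617)) (tt N10391 F39363) (tt N10594 (iv F39909)) (tt N12618 (iv F45154)) (tt N6601 F39364) (tt N10527 (iv F39382)))
theorem Q10522 : ∀ i, i < 10522 → P i := stepQ 10521 Q10521 (allL N10521 (tt N10527 (iv F39380)) (tt N10469 F39365) (tt N10392 F39366) (tt N10595 (iv F39913)) (tt N12617 (iv F45151)) (tt N10526 (iv F39379)) (tt N6598 (iv D20745)))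
theorem Q10523 : ∀ i, i < 10523 → P i := stepQ 10522 Q10522 (allL N10522 (tt N6600 (iv D20746)) (tt N8397 F39367) (tt N14833 D25100) (tt N12629 (iv F45179)) (tt N6601 F39368) (tt N12618 (iv F45155)) (tt N14834 D25101))
theorem Q10524 : ∀ i, i < 10524 → P i := stepQ 10523 Q10523 (allL N10523 (tt N14833 (iv F51256)) (tt N6605 F39369) (tt N6600 (iv D20747)) (tt N14835 D25102) (tt N6602 F39370) (tt N10389 F39371) (tt N12993 (iv F46170)))
theorem Q10525 : ∀ i, i < 10525 → P i := stepQ 10524 Q10524 (allL N10524 (tt N14834 (iv F51259)) (tt N8048 F39372) (tt N12993 F46171) (tt N12631 (iv F45187)) (tt N6603 F39373) (tt N14836 D25103) (tt N6600 (iv D20748)))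
theorem Q10526 : ∀ i, i < 10526 → P i := stepQ 10525 Q10525 (allL N10525 (tt N6602 F39374) (tt N11699 (iv F42560)) (tt N6601 (iv D20749)) (tt N10395 (iv F39376)) (tt N14833 (iv F51257)) (tt N10391 F39375) (tt N13313 (iv F46970)))
theorem Q10527 : ∀ i, i < 10527 → P i := stepQ 10526 Q10526 (allL N10526 (tt N6603 F39377) (tt N8517 F39378) (tt N13313 (iv F46968)) (tt N10596 (iv F39916)) (tt N14834 (iv F51262)) (tt N10521 F39379) (tt N6601 (iv D20750)))
theorem Q10528 : ∀ i, i < 10528 → P i := stepQ 10527 Q10527 (allL N10527 (tt N10521 F39380) (tt N8465 F39381) (tt N13314 (iv F46973)) (tt N10597 (iv F39920)) (tt N14836 (iv F51270)) (tt N6603 (iv D20751)) (tt N10520 F39382))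
theorem Q10529 : ∀ i, i < 10529 → P i := stepQ 10528 Q10528 (allL N10528 (tt N14111 (iv F49319)) (tt N6604 (iv D20752)) (tt N14837 D25104) (tt N14618 (iv F50570)) (tt N6607 F39383) (tt N14838 D25105) (tt N13186 (iv F46627)))
theorem Q10530 : ∀ i, i < 10530 → P i := stepQ 10529 Q10529 (allL N10529 (tt N14571 (iv F50472)) (tt N14835 (iv F51264)) (tt N14839 D25106) (tt N6605 (iv D20753)) (tt N10144 F39384) (tt N10140 F39385) (tt N13115 F46482))
theorem Q10531 : ∀ i, i < 10531 → P i := stepQ 10530 Q10530 (allL N10530 (tt N12765 (iv F46891)) (tt N13287 F46890) (tt N6607 (iv D20754)) (tt N14792 (iv F51112)) (tt N14837 (iv F51272)) (tt N13288 (iv F46894)) (tt N13462 (iv F47376)))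
theorem Q10532 : ∀ i, i < 10532 → P i := stepQ 10531 Q10531 (allL N10531 (tt N14112 (iv F49320)) (tt N13289 (iv F46898)) (tt N13288 F46896) (tt N6608 F39386) (tt N14838 (iv F51273)) (tt N6607 (iv D20755)) (tt N14791 (iv F51108)))
theorem Q10533 : ∀ i, i < 10533 → P i := stepQ 10532 Q10532 (allL N10532 (tt N10533 (iv F39390)) (tt N10344 (iv F39389)) (tt N9654 F39387) (tt N14791 (iv F51106)) (tt N13775 (iv F48413)) (tt N9860 F39388) (tt N6608 (iv D20756)))
theorem Q10534 : ∀ i, i < 10534 → P i := stepQ 10533 Q10533 (allL N10533 (tt N10532 F39390) (tt N14086 (iv F49238)) (tt N9142 F39391) (tt N13463 (iv F47378)) (tt N14633 (iv F50596)) (tt N6609 (iv D20757)) (tt N9859 F39392))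
theorem Q10535 : ∀ i, i < 10535 → P i := stepQ 10534 Q10534 (allL N10534 (tt N6610 (iv D20758)) (tt N9021 (iv F39394)) (tt N14840 D25107) (tt N9022 F39396) (tt N14634 (iv F50599)) (tt N7929 F39393) (tt N12211 (iv F43918)))
theorem Q10536 : ∀ i, i < 10536 → P i := stepQ 10535 Q10535 (allL N10535 (tt N14840 (iv F51276)) (tt N10396 F39401) (tt N6610 (iv D20759)) (tt N14841 D25108) (tt N14635 (iv F50602)) (tt N7930 F39402) (tt N14842 D25109))
theorem Q10537 : ∀ i, i < 10537 → P i := stepQ 10536 Q10536 (allL N10536 (tt N12211 (iv F43917)) (tt N10428 F39403) (tt N14842 (iv F51282)) (tt N13346 F47061) (tt N14636 (iv F50605)) (tt N12208 (iv F43913)) (tt N6610 (iv D20760)))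
theorem Q10538 : ∀ i, i < 10538 → P i := stepQ 10537 Q10537 (allL N10537 (tt N9417 F39404) (tt N10537 F39405) (tt N6611 (iv D20761)) (tt N7457 F39406) (tt N9411 F39407) (tt N7456 F39408) (tt N13664 (iv F48046)))
theorem Q10539 : ∀ i, i < 10539 → P i := stepQ 10538 Q10538 (allL N10538 (tt N10593 (iv F39906)) (tt N10806 (iv F40506)) (tt N13664 (iv F48043)) (tt N6612 F39409) (tt N13603 (iv F47856)) (tt N8440 F39410) (tt N6611 (iv D20762)))
theorem Q10540 : ∀ i, i < 10540 → P i := stepQ 10539 Q10539 (allL N10539 (tt N6614 (iv D20763)) (tt N12398 (iv F44459)) (tt N10680 (iv F40168)) (tt N10470 F39411) (tt N8450 F39412) (tt N10542 (iv F39423)) (tt N6615 F39413))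
theorem Q10541 : ∀ i, i < 10541 → P i := stepQ 10540 Q10540 (allL N10540 (tt N10542 (iv F39420)) (tt N8444 F39414) (tt N10681 (iv F40173)) (tt N10471 F39415) (tt N8449 F39416) (tt N6614 (iv D20764)) (tt N10541 (iv F39419)))
theorem Q10542 : ∀ i, i < 10542 → P i := stepQ 10541 Q10541 (allL N10541 (tt N6616 F39417) (tt N10558 (iv F39487)) (tt N10679 (iv F40163)) (tt N10476 F39418) (tt N10562 (iv F39503)) (tt N6615 (iv D20765)) (tt N10540 F39419))
theorem Q10543 : ∀ i, i < 10543 → P i := stepQ 10542 Q10542 (allL N10542 (tt N10540 F39420) (tt N10778 (iv F40437)) (tt N9273 F39421) (tt N10477 F39422) (tt N10694 (iv F40207)) (tt N10539 F39423) (tt N6616 (iv D20766)))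
theorem Q10544 : ∀ i, i < 10544 → P i := stepQ 10543 Q10543 (allL N10543 (tt N6620 F39424) (tt N9664 (iv F39427)) (tt N6620 F39425) (tt N10443 F39426) (tt N10544 (iv F39431)) (tt N10544 (iv F39432)) (tt N6617 (iv D20767)))
theorem Q10545 : ∀ i, i < 10545 → P i := stepQ 10544 Q10544 (allL N10544 (tt N9916 F39428) (tt N9661 (iv F39433)) (tt N9916 F39429) (tt N8452 F39430) (tt N10543 F39431) (tt N10543 F39432) (tt N6619 (iv D20768)))
theorem Q10546 : ∀ i, i < 10546 → P i := stepQ 10545 Q10545 (allL N10545 (tt N6625 F39442) (tt N10449 F39443) (tt N11268 (iv F41612)) (tt N6621 (iv D20769)) (tt N6623 F39444) (tt N8374 F39445) (tt N14843 D25110))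
theorem Q10547 : ∀ i, i < 10547 → P i := stepQ 10546 Q10546 (allL N10546 (tt N6627 F39446) (tt N12836 (iv F45791)) (tt N6627 F39447) (tt N14843 (iv F51286)) (tt N6622 F39448) (tt N10551 (iv F39466)) (tt N6621 (iv D20770)))
theorem Q10548 : ∀ i, i < 10548 → P i := stepQ 10547 Q10547 (allL N10547 (tt N6632 F39449) (tt N9921 F39450) (tt N9039 F39451) (tt N6624 F39452) (tt N14843 (iv F51287)) (tt N10555 (iv F39479)) (tt N6623 (iv D20771)))
theorem Q10549 : ∀ i, i < 10549 → P i := stepQ 10548 Q10548 (allL N10548 (tt N11268 (iv F41610)) (tt N8212 F39453) (tt N6625 (iv D20772)) (tt N14844 D25111) (tt N6630 F39454) (tt N8591 (iv F39455)) (tt N14845 D25112))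
theorem Q10550 : ∀ i, i < 10550 → P i := stepQ 10549 Q10549 (allL N10549 (tt N8374 F39456) (tt N8598 F39457) (tt N8591 F39458) (tt N6626 F39459) (tt N6631 F39460) (tt N6625 (iv D20773)) (tt N14846 D25113))
theorem Q10551 : ∀ i, i < 10551 → P i := stepQ 10550 Q10550 (allL N10550 (tt N14843 (iv F51283)) (tt N14847 D25114) (tt N14845 (iv F51295)) (tt N6627 F39461) (tt N6632 F39462) (tt N12643 (iv F45221)) (tt N6625 (iv D20774)))
theorem Q10552 : ∀ i, i < 10552 → P i := stepQ 10551 Q10551 (allL N10551 (tt N8388 F39463) (tt N14848 D25115) (tt N8388 F39464) (tt N14846 (iv F51301)) (tt N6628 F39465) (tt N10546 F39466) (tt N6626 (iv D20775)))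
theorem Q10553 : ∀ i, i < 10553 → P i := stepQ 10552 Q10552 (allL N10552 (tt N12697 (iv F45375)) (tt N6627 (iv D20776)) (tt N12837 (iv F45792)) (tt N14847 (iv F51305)) (tt N6629 F39467) (tt N12839 (iv F45802)) (tt N6642 F39468))
theorem Q10554 : ∀ i, i < 10554 → P i := stepQ 10553 Q10553 (allL N10553 (tt N10610 (iv F39968)) (tt N6628 (iv D20777)) (tt N8887 F39469) (tt N6636 F39470) (tt N14848 (iv F51311)) (tt N6680 F39471) (tt N10602 (iv F39943)))
theorem Q10555 : ∀ i, i < 10555 → P i := stepQ 10554 Q10554 (allL N10554 (tt N9039 F39472) (tt N9055 F39473) (tt N6632 F39474) (tt N8885 F39475) (tt N14845 (iv F51296)) (tt N12590 F45051) (tt N6630 (iv D20778)))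
theorem Q10556 : ∀ i, i < 10556 → P i := stepQ 10555 Q10555 (allL N10555 (tt N10557 (iv F39484)) (tt N6677 F39476) (tt N8885 F39477) (tt N6633 F39478) (tt N14846 (iv F51302)) (tt N10547 F39479) (tt N6631 (iv D20779)))
theorem Q10557 : ∀ i, i < 10557 → P i := stepQ 10556 Q10556 (allL N10556 (tt N8545 F39480) (tt N6632 (iv D20780)) (tt N14849 D25116) (tt N6634 F39481) (tt N14847 (iv F51306)) (tt N8543 (iv F39483)) (tt N6645 F39482))
theorem Q10558 : ∀ i, i < 10558 → P i := stepQ 10557 Q10557 (allL N10557 (tt N10555 F39484) (tt N12775 (iv F45588)) (tt N12590 (iv F45052)) (tt N6635 F39485) (tt N12643 (iv F45220)) (tt N6632 (iv D20781)) (tt N6716 F39486))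
theorem Q10559 : ∀ i, i < 10559 → P i := stepQ 10558 Q10558 (allL N10558 (tt N6634 (iv D20782)) (tt N10541 F39487) (tt N14850 D25117) (tt N8545 F39488) (tt N6637 F39489) (tt N8491 F39491) (tt N6646 F39490))
theorem Q10560 : ∀ i, i < 10560 → P i := stepQ 10559 Q10559 (allL N10559 (tt N14850 (iv F51318)) (tt N6720 F39492) (tt N6634 (iv D20783)) (tt N12212 (iv F43920)) (tt N6638 F39493) (tt N14851 D25118) (tt N6647 F39494))
theorem Q10561 : ∀ i, i < 10561 → P i := stepQ 10560 Q10560 (allL N10560 (tt N8491 F39495) (tt N10613 (iv F39980)) (tt N14851 (iv F51324)) (tt N8543 F39496) (tt N6639 F39497) (tt N6634 (iv D20784)) (tt N10574 (iv F39855)))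
theorem Q10562 : ∀ i, i < 10562 → P i := stepQ 10561 Q10561 (allL N10561 (tt N6693 F39498) (tt N6635 (iv D20785)) (tt N11954 F43220) (tt N12775 (iv F45589)) (tt N6640 F39499) (tt N10613 (iv F39983)) (tt N6691 F39500))
theorem Q10563 : ∀ i, i < 10563 → P i := stepQ 10562 Q10562 (allL N10562 (tt N6755 F39501) (tt N6637 (iv D20786)) (tt N6754 F39506) (tt N8467 F39502) (tt N10541 F39503) (tt N6758 (iv F39505)) (tt N8449 F39504))
theorem Q10564 : ∀ i, i < 10564 → P i := stepQ 10563 Q10563 (allL N10563 (tt N6638 F39507) (tt N14852 D25119) (tt N6637 (iv D20787)) (tt N14853 D25120) (tt N14850 (iv F51319)) (tt N10583 (iv F39878)) (tt N6649 F39508))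
theorem Q10565 : ∀ i, i < 10565 → P i := stepQ 10564 Q10564 (allL N10564 (tt N14853 (iv F51330)) (tt N6727 F39509) (tt N14854 D25121) (tt N6638 (iv D20788)) (tt N14855 D25122) (tt N14856 D25123) (tt N6651 F39510))
theorem Q10566 : ∀ i, i < 10566 → P i := stepQ 10565 Q10565 (allL N10565 (tt N10583 (iv F39876)) (tt N14857 D25124) (tt N6639 F39511) (tt N14856 (iv F51338)) (tt N14851 (iv F51326)) (tt N6638 (iv D20789)) (tt N10579 (iv F39872)))
theorem Q10567 : ∀ i, i < 10567 → P i := stepQ 10566 Q10566 (allL N10566 (tt N6696 F39512) (tt N6731 F39513) (tt N6640 (iv D20790)) (tt N14858 D25125) (tt N11954 F43221) (tt N10617 (iv F39995)) (tt N6694 F39514))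
theorem Q10568 : ∀ i, i < 10568 → P i := stepQ 10567 Q10567 (allL N10567 (tt N12653 F45261) (tt N6641 (iv D20791)) (tt N14859 D25126) (tt N6642 F39515) (tt N6645 F39516) (tt N12711 F45410) (tt N14847 (iv F51307)))
theorem Q10569 : ∀ i, i < 10569 → P i := stepQ 10568 Q10568 (allL N10568 (tt N12696 (iv F45373)) (tt N8729 F39517) (tt N6642 (iv D20792)) (tt N14860 D25127) (tt N6643 F39518) (tt N8734 (iv F39519)) (tt N12837 (iv F45795)))
theorem Q10570 : ∀ i, i < 10570 → P i := stepQ 10569 Q10569 (allL N10569 (tt N12690 F45363) (tt N8089 F39520) (tt N8734 F39521) (tt N12711 (iv F45408)) (tt N6644 F39522) (tt N6642 (iv D20793)) (tt N12658 F45279))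
theorem Q10571 : ∀ i, i < 10571 → P i := stepQ 10570 Q10570 (allL N10570 (tt N8898 F39523) (tt N7559 (iv F39528)) (tt N8897 F39524) (tt N6653 F39525) (tt N12658 (iv F45278)) (tt N8530 F39526) (tt N6644 (iv D20794)))
theorem Q10572 : ∀ i, i < 10572 → P i := stepQ 10571 Q10571 (allL N10571 (tt N6645 (iv D20795)) (tt N12601 (iv F45102)) (tt N14861 D25128) (tt N6646 F39847) (tt N12653 (iv F45260)) (tt N12800 (iv F45674)) (tt N8545 F39848))
theorem Q10573 : ∀ i, i < 10573 → P i := stepQ 10572 Q10572 (allL N10572 (tt N14861 (iv F51352)) (tt N8092 F39849) (tt N6645 (iv D20796)) (tt N12357 (iv F44314)) (tt N14859 (iv F51349)) (tt N12802 F45680) (tt N14849 (iv F51317)))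
theorem Q10574 : ∀ i, i < 10574 → P i := stepQ 10573 Q10573 (allL N10573 (tt N6647 F39850) (tt N14754 (iv F50966)) (tt N6646 (iv D20797)) (tt N12158 (iv F43779)) (tt N6649 F39851) (tt N12157 (iv F43776)) (tt N14850 (iv F51321)))
theorem Q10575 : ∀ i, i < 10575 → P i := stepQ 10574 Q10574 (allL N10574 (tt N6648 F39852) (tt N6682 F39853) (tt N12157 F43774) (tt N12800 (iv F45673)) (tt N6650 F39854) (tt N6646 (iv D20798)) (tt N10560 F39855))
theorem Q10576 : ∀ i, i < 10576 → P i := stepQ 10575 Q10575 (allL N10575 (tt N12158 (iv F43777)) (tt N6654 F39856) (tt N12156 (iv F43769)) (tt N6647 (iv D20799)) (tt N14862 D25129) (tt N12155 (iv F43770)) (tt N12212 (iv F43922)))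
theorem Q10577 : ∀ i, i < 10577 → P i := stepQ 10576 Q10576 (allL N10576 (tt N12157 (iv F43772)) (tt N8136 F39857) (tt N6648 F39858) (tt N12155 F43771) (tt N6652 F39859) (tt N6647 (iv D20800)) (tt N12756 (iv F45529)))
theorem Q10578 : ∀ i, i < 10578 → P i := stepQ 10577 Q10577 (allL N10577 (tt N8470 (iv F39863)) (tt N6649 (iv D20801)) (tt N9275 F39860) (tt N8468 (iv F39864)) (tt N14754 (iv F50968)) (tt N9325 (iv F39865)) (tt N9282 (iv F39866)))
theorem Q10579 : ∀ i, i < 10579 → P i := stepQ 10578 Q10578 (allL N10578 (tt N6651 F39867) (tt N8468 F39868) (tt N14863 D25130) (tt N6649 (iv D20802)) (tt N14864 D25131) (tt N14865 D25132) (tt N14853 (iv F51331)))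
theorem Q10580 : ∀ i, i < 10580 → P i := stepQ 10579 Q10579 (allL N10579 (tt N6652 F39869) (tt N6803 F39870) (tt N6650 F39871) (tt N14865 (iv F51365)) (tt N12157 F43775) (tt N6649 (iv D20803)) (tt N10565 F39872))
theorem Q10581 : ∀ i, i < 10581 → P i := stepQ 10580 Q10580 (allL N10580 (tt N14863 (iv F51356)) (tt N14866 D25133) (tt N6651 (iv D20804)) (tt N14867 D25134) (tt N14868 D25135) (tt N14869 D25136) (tt N14854 (iv F51333)))
theorem Q10582 : ∀ i, i < 10582 → P i := stepQ 10581 Q10581 (allL N10581 (tt N14864 (iv F51360)) (tt N6658 F39873) (tt N14868 (iv F51376)) (tt N14862 (iv F51355)) (tt N6651 (iv D20805)) (tt N14870 D25137) (tt N14855 (iv F51336)))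
theorem Q10583 : ∀ i, i < 10583 → P i := stepQ 10582 Q10582 (allL N10582 (tt N14865 (iv F51362)) (tt N8153 F39874) (tt N14869 (iv F51378)) (tt N6652 F39875) (tt N14870 (iv F51381)) (tt N6651 (iv D20806)) (tt N14871 D25138))
theorem Q10584 : ∀ i, i < 10584 → P i := stepQ 10583 Q10583 (allL N10583 (tt N10565 F39876) (tt N9687 (iv F39879)) (tt N6653 F39877) (tt N14871 (iv F51384)) (tt N12756 (iv F45528)) (tt N10563 F39878) (tt N6652 (iv D20807)))
theorem Q10585 : ∀ i, i < 10585 → P i := stepQ 10584 Q10584 (allL N10584 (tt N12380 (iv F44385)) (tt N14862 (iv F51354)) (tt N8108 F39880) (tt N6658 F39881) (tt N6654 (iv D20808)) (tt N8142 F39882) (tt N6763 F39883))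
theorem Q10586 : ∀ i, i < 10586 → P i := stepQ 10585 Q10585 (allL N10585 (tt N6655 (iv D20809)) (tt N6728 F39884) (tt N11920 (iv F43143)) (tt N8942 (iv F39885)) (tt N11919 F43139) (tt N14857 (iv F51341)) (tt N12335 (iv F44228)))
theorem Q10587 : ∀ i, i < 10587 → P i := stepQ 10586 Q10586 (allL N10586 (tt N8942 F39886) (tt N6656 F39887) (tt N14872 D25139) (tt N6655 (iv D20810)) (tt N14873 D25140) (tt N13426 (iv F47278)) (tt N14874 D25141))
theorem Q10588 : ∀ i, i < 10588 → P i := stepQ 10587 Q10587 (allL N10587 (tt N14857 (iv F51343)) (tt N8168 F39888) (tt N10636 (iv F40041)) (tt N13426 (iv F47277)) (tt N8056 F39889) (tt N6655 (iv D20811)) (tt N8054 (iv F39890)))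
theorem Q10589 : ∀ i, i < 10589 → P i := stepQ 10588 Q10588 (allL N10588 (tt N12335 (iv F44224)) (tt N6769 F39891) (tt N12381 (iv F44391)) (tt N14874 (iv F51395)) (tt N12127 (iv F43706)) (tt N12126 (iv F43702)) (tt N6655 (iv D20812)))
theorem Q10590 : ∀ i, i < 10590 → P i := stepQ 10589 Q10589 (allL N10589 (tt N6658 F39892) (tt N14873 (iv F51391)) (tt N6700 F39893) (tt N12380 (iv F44386)) (tt N6656 (iv D20813)) (tt N6846 F39894) (tt N6770 F39895))
theorem Q10591 : ∀ i, i < 10591 → P i := stepQ 10590 Q10590 (allL N10590 (tt N8926 (iv F40025)) (tt N6657 (iv D20814)) (tt N14866 (iv F51367)) (tt N6699 F39896) (tt N14875 D25142) (tt N14876 D25143) (tt N13478 (iv F47423)))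
theorem Q10592 : ∀ i, i < 10592 → P i := stepQ 10591 Q10591 (allL N10591 (tt N6700 F39897) (tt N14875 (iv F51398)) (tt N6658 F39898) (tt N12334 (iv F44221)) (tt N6657 (iv D20815)) (tt N6844 F39899) (tt N6772 F39900))
theorem Q10593 : ∀ i, i < 10593 → P i := stepQ 10592 Q10592 (allL N10592 (tt N9418 F39901) (tt N10592 F39902) (tt N6659 (iv D20816)) (tt N7458 F39903) (tt N9412 F39904) (tt N13663 (iv F48040)) (tt N7456 F39905))
theorem Q10594 : ∀ i, i < 10594 → P i := stepQ 10593 Q10593 (allL N10593 (tt N10538 F39906) (tt N10827 (iv F40570)) (tt N13663 (iv F48037)) (tt N6660 F39907) (tt N13604 (iv F47862)) (tt N6659 (iv D20817)) (tt N8439 F39908))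
theorem Q10595 : ∀ i, i < 10595 → P i := stepQ 10594 Q10594 (allL N10594 (tt N6662 (iv D20818)) (tt N12352 (iv F44293)) (tt N10764 (iv F40392)) (tt N10520 F39909) (tt N8447 F39910) (tt N6663 F39911) (tt N10597 (iv F39921)))
theorem Q10596 : ∀ i, i < 10596 → P i := stepQ 10595 Q10595 (allL N10595 (tt N10597 (iv F39918)) (tt N8443 F39912) (tt N10765 (iv F40397)) (tt N10521 F39913) (tt N8446 F39914) (tt N10596 (iv F39917)) (tt N6662 (iv D20819)))
theorem Q10597 : ∀ i, i < 10597 → P i := stepQ 10596 Q10596 (allL N10596 (tt N6664 F39915) (tt N10611 (iv F39971)) (tt N10763 (iv F40387)) (tt N10526 F39916) (tt N10614 (iv F39986)) (tt N10595 F39917) (tt N6663 (iv D20820)))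
theorem Q10598 : ∀ i, i < 10598 → P i := stepQ 10597 Q10597 (allL N10597 (tt N10595 F39918) (tt N10694 F40209) (tt N9321 F39919) (tt N10527 F39920) (tt N10778 (iv F40435)) (tt N6664 (iv D20821)) (tt N10594 F39921))
theorem Q10599 : ∀ i, i < 10599 → P i := stepQ 10598 Q10598 (allL N10598 (tt N6667 F39922) (tt N9657 F39925) (tt N6667 F39923) (tt N10493 F39924) (tt N10599 (iv F39930)) (tt N6665 (iv D20822)) (tt N10599 (iv F39931)))
theorem Q10600 : ∀ i, i < 10600 → P i := stepQ 10599 Q10599 (allL N10599 (tt N9899 F39926) (tt N9668 F39927) (tt N9899 F39928) (tt N8463 F39929) (tt N10598 F39930) (tt N6668 (iv D20823)) (tt N10598 F39931))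
theorem Q10601 : ∀ i, i < 10601 → P i := stepQ 10600 Q10600 (allL N10600 (tt N6673 F39932) (tt N10499 F39933) (tt N11429 (iv F41956)) (tt N6669 (iv D20824)) (tt N6671 F39934) (tt N14877 D25144) (tt N8381 F39935))
theorem Q10602 : ∀ i, i < 10602 → P i := stepQ 10601 Q10601 (allL N10601 (tt N6674 F39936) (tt N12831 F45770) (tt N6674 F39937) (tt N14877 (iv F51407)) (tt N6670 F39938) (tt N6669 (iv D20825)) (tt N10607 (iv F39959)))
theorem Q10603 : ∀ i, i < 10603 → P i := stepQ 10602 Q10602 (allL N10602 (tt N6679 F39939) (tt N9904 F39940) (tt N8973 F39941) (tt N6672 F39942) (tt N14877 (iv F51408)) (tt N6671 (iv D20826)) (tt N10553 F39943))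
theorem Q10604 : ∀ i, i < 10604 → P i := stepQ 10603 Q10603 (allL N10603 (tt N11429 (iv F41954)) (tt N8213 F39944) (tt N6673 (iv D20827)) (tt N14878 D25145) (tt N6678 F39945) (tt N14879 D25146) (tt N8592 (iv F39946)))
theorem Q10605 : ∀ i, i < 10605 → P i := stepQ 10604 Q10604 (allL N10604 (tt N14877 (iv F51404)) (tt N14880 D25147) (tt N14879 (iv F51417)) (tt N6674 F39947) (tt N6679 F39948) (tt N6673 (iv D20828)) (tt N12652 (iv F45258)))
theorem Q10606 : ∀ i, i < 10606 → P i := stepQ 10605 Q10605 (allL N10605 (tt N8381 F39949) (tt N8602 F39950) (tt N8592 F39951) (tt N6675 F39952) (tt N6680 F39953) (tt N14848 (iv F51312)) (tt N6673 (iv D20829)))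
theorem Q10607 : ∀ i, i < 10607 → P i := stepQ 10606 Q10606 (allL N10606 (tt N12668 (iv F45306)) (tt N6674 (iv D20830)) (tt N12832 (iv F45771)) (tt N14880 (iv F51421)) (tt N6676 F39954) (tt N6687 F39955) (tt N12834 (iv F45780)))
theorem Q10608 : ∀ i, i < 10608 → P i := stepQ 10607 Q10607 (allL N10607 (tt N8407 F39956) (tt N14846 (iv F51299)) (tt N8407 F39957) (tt N14848 (iv F51310)) (tt N6677 F39958) (tt N6675 (iv D20831)) (tt N10601 F39959))
theorem Q10609 : ∀ i, i < 10609 → P i := stepQ 10608 Q10608 (allL N10608 (tt N8973 F39960) (tt N8991 F39961) (tt N6679 F39962) (tt N8887 F39963) (tt N14879 (iv F51418)) (tt N6678 (iv D20832)) (tt N12584 (iv F45023)))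
theorem Q10610 : ∀ i, i < 10610 → P i := stepQ 10609 Q10609 (allL N10609 (tt N8517 F39964) (tt N6679 (iv D20833)) (tt N14881 D25148) (tt N6681 F39965) (tt N14880 (iv F51422)) (tt N6690 F39966) (tt N8514 (iv F39967)))
theorem Q10611 : ∀ i, i < 10611 → P i := stepQ 10610 Q10610 (allL N10610 (tt N10553 F39968) (tt N12800 (iv F45672)) (tt N12584 F45020) (tt N6682 F39969) (tt N12652 (iv F45257)) (tt N6792 F39970) (tt N6679 (iv D20834)))
theorem Q10612 : ∀ i, i < 10612 → P i := stepQ 10611 Q10611 (allL N10611 (tt N6681 (iv D20835)) (tt N10596 F39971) (tt N14882 D25149) (tt N8517 F39972) (tt N6683 F39973) (tt N6691 F39974) (tt N8483 (iv F39975)))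
theorem Q10613 : ∀ i, i < 10613 → P i := stepQ 10612 Q10612 (allL N10612 (tt N14882 (iv F51429)) (tt N6795 F39976) (tt N6681 (iv D20836)) (tt N12029 (iv F43392)) (tt N6684 F39977) (tt N6692 F39978) (tt N14883 D25150))
theorem Q10614 : ∀ i, i < 10614 → P i := stepQ 10613 Q10613 (allL N10613 (tt N8483 F39979) (tt N10560 F39980) (tt N14883 (iv F51435)) (tt N8514 F39981) (tt N6685 F39982) (tt N10561 F39983) (tt N6681 (iv D20837)))
theorem Q10615 : ∀ i, i < 10615 → P i := stepQ 10614 Q10614 (allL N10614 (tt N6829 F39984) (tt N6683 (iv D20838)) (tt N6828 (iv F39989)) (tt N8456 F39985) (tt N10596 F39986) (tt N8446 F39987) (tt N6832 F39988))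
theorem Q10616 : ∀ i, i < 10616 → P i := stepQ 10615 Q10615 (allL N10615 (tt N6684 F39990) (tt N14884 D25151) (tt N6683 (iv D20839)) (tt N14885 D25152) (tt N14882 (iv F51430)) (tt N6694 F39991) (tt N10632 (iv F40031)))
theorem Q10617 : ∀ i, i < 10617 → P i := stepQ 10616 Q10616 (allL N10616 (tt N14885 (iv F51441)) (tt N6799 F39992) (tt N14886 D25153) (tt N6684 (iv D20840)) (tt N14887 D25154) (tt N6695 F39993) (tt N14888 D25155))
theorem Q10618 : ∀ i, i < 10618 → P i := stepQ 10617 Q10617 (allL N10617 (tt N10632 (iv F40029)) (tt N14889 D25156) (tt N6685 F39994) (tt N14888 (iv F51449)) (tt N14883 (iv F51437)) (tt N10566 F39995) (tt N6684 (iv D20841)))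
theorem Q10619 : ∀ i, i < 10619 → P i := stepQ 10618 Q10618 (allL N10618 (tt N12644 F45224) (tt N6686 (iv D20842)) (tt N14890 D25157) (tt N6687 F39996) (tt N6690 F39997) (tt N14880 (iv F51423)) (tt N12681 F45337))
theorem Q10620 : ∀ i, i < 10620 → P i := stepQ 10619 Q10619 (allL N10619 (tt N12667 (iv F45304)) (tt N8775 F39998) (tt N6687 (iv D20843)) (tt N14891 D25158) (tt N6688 F39999) (tt N12832 F45774) (tt N8779 (iv F40000)))
theorem Q10621 : ∀ i, i < 10621 → P i := stepQ 10620 Q10620 (allL N10620 (tt N12661 F45294) (tt N8131 F40001) (tt N8779 F40002) (tt N12681 (iv F45335)) (tt N6689 F40003) (tt N12649 F45242) (tt N6687 (iv D20844)))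
theorem Q10622 : ∀ i, i < 10622 → P i := stepQ 10621 Q10621 (allL N10621 (tt N8892 F40004) (tt N7604 (iv F40008)) (tt N8891 F40005) (tt N6697 F40006) (tt N12649 (iv F45241)) (tt N6689 (iv D20845)) (tt N8501 F40007))
theorem Q10623 : ∀ i, i < 10623 → P i := stepQ 10622 Q10622 (allL N10622 (tt N6690 (iv D20846)) (tt N12599 F45091) (tt N14892 D25159) (tt N6691 F40009) (tt N12644 (iv F45223)) (tt N8517 F40010) (tt N12775 (iv F45590)))
theorem Q10624 : ∀ i, i < 10624 → P i := stepQ 10623 Q10623 (allL N10623 (tt N14892 (iv F51461)) (tt N8132 F40011) (tt N6690 (iv D20847)) (tt N12402 (iv F44476)) (tt N14890 (iv F51458)) (tt N14881 (iv F51427)) (tt N12776 F45593))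
theorem Q10625 : ∀ i, i < 10625 → P i := stepQ 10624 Q10624 (allL N10624 (tt N6692 F40012) (tt N14775 (iv F51043)) (tt N6691 (iv D20848)) (tt N11955 (iv F43229)) (tt N6694 F40013) (tt N14882 (iv F51431)) (tt N11954 (iv F43223)))
theorem Q10626 : ∀ i, i < 10626 → P i := stepQ 10625 Q10625 (allL N10625 (tt N11955 (iv F43227)) (tt N6698 F40014) (tt N11953 F43226) (tt N6692 (iv D20849)) (tt N14893 D25160) (tt N12029 (iv F43393)) (tt N11952 (iv F43225)))
theorem Q10627 : ∀ i, i < 10627 → P i := stepQ 10626 Q10626 (allL N10626 (tt N11954 (iv F43222)) (tt N8147 F40015) (tt N6693 F40016) (tt N11952 F43224) (tt N6696 F40017) (tt N12752 (iv F45519)) (tt N6692 (iv D20850)))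
theorem Q10628 : ∀ i, i < 10628 → P i := stepQ 10627 Q10627 (allL N10627 (tt N8459 (iv F40020)) (tt N6694 (iv D20851)) (tt N9267 F40018) (tt N8457 (iv F40021)) (tt N14775 (iv F51045)) (tt N9329 (iv F40022)) (tt N9277 F40019))
theorem Q10629 : ∀ i, i < 10629 → P i := stepQ 10628 Q10628 (allL N10628 (tt N6695 F40023) (tt N8457 F40024) (tt N14894 D25161) (tt N6694 (iv D20852)) (tt N14895 D25162) (tt N14885 (iv F51442)) (tt N14858 (iv F51346)))
theorem Q10630 : ∀ i, i < 10630 → P i := stepQ 10629 Q10629 (allL N10629 (tt N14894 (iv F51465)) (tt N14872 (iv F51387)) (tt N6695 (iv D20853)) (tt N14896 D25163) (tt N14897 D25164) (tt N14886 (iv F51444)) (tt N14898 D25165))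
theorem Q10631 : ∀ i, i < 10631 → P i := stepQ 10630 Q10630 (allL N10630 (tt N14895 (iv F51469)) (tt N6700 F40026) (tt N14897 (iv F51476)) (tt N14893 (iv F51464)) (tt N6695 (iv D20854)) (tt N14887 (iv F51447)) (tt N14899 D25166))
theorem Q10632 : ∀ i, i < 10632 → P i := stepQ 10631 Q10631 (allL N10631 (tt N14858 (iv F51344)) (tt N8184 F40027) (tt N14898 (iv F51478)) (tt N6696 F40028) (tt N14899 (iv F51481)) (tt N14900 D25167) (tt N6695 (iv D20855)))
theorem Q10633 : ∀ i, i < 10633 → P i := stepQ 10632 Q10632 (allL N10632 (tt N10617 F40029) (tt N9709 (iv F40032)) (tt N6697 F40030) (tt N14900 (iv F51484)) (tt N12752 (iv F45518)) (tt N6696 (iv D20856)) (tt N10615 F40031))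
theorem Q10634 : ∀ i, i < 10634 → P i := stepQ 10633 Q10633 (allL N10633 (tt N12334 (iv F44220)) (tt N14893 (iv F51463)) (tt N8064 F40033) (tt N6700 F40034) (tt N6698 (iv D20857)) (tt N6837 F40035) (tt N8177 F40036))
theorem Q10635 : ∀ i, i < 10635 → P i := stepQ 10634 Q10634 (allL N10634 (tt N6699 (iv D20858)) (tt N6800 F40037) (tt N12126 (iv F43701)) (tt N8926 F40038) (tt N12125 F43698) (tt N12381 (iv F44393)) (tt N14889 (iv F51455)))
theorem Q10636 : ∀ i, i < 10636 → P i := stepQ 10635 Q10635 (allL N10635 (tt N12381 (iv F44389)) (tt N6842 F40039) (tt N12335 (iv F44226)) (tt N14876 (iv F51402)) (tt N11921 (iv F43148)) (tt N6699 (iv D20859)) (tt N11920 F43144))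
theorem Q10637 : ∀ i, i < 10637 → P i := stepQ 10636 Q10636 (allL N10636 (tt N14889 (iv F51456)) (tt N8199 F40040) (tt N10587 F40041) (tt N13478 (iv F47422)) (tt N8099 F40042) (tt N8098 (iv F40043)) (tt N6699 (iv D20860)))
theorem Q10638 : ∀ i, i < 10638 → P i := stepQ 10637 Q10637 (allL N10637 (tt N11848 (iv F42944)) (tt N10637 F40044) (tt N11841 (iv F42926)) (tt N6702 (iv D20861)) (tt N11839 (iv F42920)) (tt N6852 F40045) (tt N14901 D25168))
theorem Q10639 : ∀ i, i < 10639 → P i := stepQ 10638 Q10638 (allL N10638 (tt N10807 (iv F40508)) (tt N14902 D25169) (tt N6703 F40046) (tt N14901 (iv F51487)) (tt N6861 F40047) (tt N10805 (iv F40505)) (tt N6702 (iv D20862)))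
theorem Q10640 : ∀ i, i < 10640 → P i := stepQ 10639 Q10639 (allL N10639 (tt N10786 (iv F40456)) (tt N6703 (iv D20863)) (tt N10790 (iv F40466)) (tt N6711 F40048) (tt N6870 F40049) (tt N10785 (iv F40455)) (tt N6704 F40050))
theorem Q10641 : ∀ i, i < 10641 → P i := stepQ 10640 Q10640 (allL N10640 (tt N6704 (iv D20864)) (tt N14903 D25170) (tt N10794 (iv F40473)) (tt N6714 F40051) (tt N10643 (iv F40058)) (tt N10672 F40139) (tt N10786 (iv F40460)))
theorem Q10642 : ∀ i, i < 10642 → P i := stepQ 10641 Q10641 (allL N10641 (tt N10794 (iv F40472)) (tt N10641 F40052) (tt N6704 (iv D20865)) (tt N14760 (iv F50992)) (tt N10644 (iv F40060)) (tt N6843 (iv F40056)) (tt N10790 (iv F40467)))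
theorem Q10643 : ∀ i, i < 10643 → P i := stepQ 10642 Q10642 (allL N10642 (tt N10672 F40138) (tt N10645 (iv F40062)) (tt N6843 F40055) (tt N6715 F40053) (tt N10645 (iv F40064)) (tt N6704 (iv D20866)) (tt N6838 (iv F40054)))
theorem Q10644 : ∀ i, i < 10644 → P i := stepQ 10643 Q10643 (allL N10643 (tt N6705 (iv D20867)) (tt N14904 D25171) (tt N11962 F43258) (tt N6722 F40057) (tt N10640 F40058) (tt N13589 (iv F47802)) (tt N10823 (iv F40552)))
theorem Q10645 : ∀ i, i < 10645 → P i := stepQ 10644 Q10644 (allL N10644 (tt N11962 F43257) (tt N10644 F40059) (tt N6705 (iv D20868)) (tt N9489 F40061) (tt N10641 F40060) (tt N10783 F40448) (tt N10824 (iv F40558)))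
theorem Q10646 : ∀ i, i < 10646 → P i := stepQ 10645 Q10645 (allL N10645 (tt N13589 (iv F47799)) (tt N10642 F40062) (tt N10783 (iv F40446)) (tt N6724 F40063) (tt N10642 F40064) (tt N6705 (iv D20869)) (tt N9238 (iv F40065)))
theorem Q10647 : ∀ i, i < 10647 → P i := stepQ 10646 Q10646 (allL N10646 (tt N10468 F40066) (tt N9074 F40067) (tt N6707 (iv D20870)) (tt N7642 (iv F40070)) (tt N7185 F40068) (tt N7184 F40069) (tt N14905 D25172))
theorem Q10648 : ∀ i, i < 10648 → P i := stepQ 10647 Q10647 (allL N10647 (tt N10469 F40071) (tt N8540 (iv F40075)) (tt N14905 (iv F51500)) (tt N6708 F40072) (tt N8378 F40073) (tt N8322 F40074) (tt N6707 (iv D20871)))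
theorem Q10649 : ∀ i, i < 10649 → P i := stepQ 10648 Q10648 (allL N10648 (tt N8490 F40080) (tt N6708 (iv D20872)) (tt N9665 F40076) (tt N8540 F40077) (tt N8482 F40078) (tt N12406 (iv F44491)) (tt N9664 F40079))
theorem Q10650 : ∀ i, i < 10650 → P i := stepQ 10649 Q10649 (allL N10649 (tt N10685 (iv F40184)) (tt N6709 (iv D20873)) (tt N13494 (iv F47461)) (tt N9268 F40081) (tt N6711 F40082) (tt N6747 (iv F40084)) (tt N6713 F40083))
theorem Q10651 : ∀ i, i < 10651 → P i := stepQ 10650 Q10650 (allL N10650 (tt N9327 F40085) (tt N6710 (iv D20874)) (tt N14775 (iv F51044)) (tt N6743 F40086) (tt N9267 F40087) (tt N9330 F40088) (tt N6732 F40089))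
theorem Q10652 : ∀ i, i < 10652 → P i := stepQ 10651 Q10651 (allL N10651 (tt N6711 (iv D20875)) (tt N13550 (iv F47636)) (tt N13493 F47460) (tt N10786 (iv F40459)) (tt N10685 (iv F40186)) (tt N10654 (iv F40095)) (tt N6714 F40090))
theorem Q10653 : ∀ i, i < 10653 → P i := stepQ 10652 Q10652 (allL N10652 (tt N10654 (iv F40093)) (tt N13587 (iv F47793)) (tt N13680 F48107) (tt N10785 (iv F40453)) (tt N6747 F40091) (tt N6711 (iv D20876)) (tt N6736 F40092))
theorem Q10654 : ∀ i, i < 10654 → P i := stepQ 10653 Q10653 (allL N10653 (tt N10690 F40199) (tt N6714 (iv D20877)) (tt N10689 (iv F40200)) (tt N14903 (iv F51494)) (tt N10684 (iv F40182)) (tt N10677 (iv F40158)) (tt N14906 D25173))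
theorem Q10655 : ∀ i, i < 10655 → P i := stepQ 10654 Q10654 (allL N10654 (tt N10652 F40093) (tt N6839 (iv F40096)) (tt N13501 (iv F47496)) (tt N6838 F40094) (tt N10682 (iv F40179)) (tt N10651 F40095) (tt N6715 (iv D20878)))
theorem Q10656 : ∀ i, i < 10656 → P i := stepQ 10655 Q10655 (allL N10655 (tt N6717 (iv D20879)) (tt N14907 D25174) (tt N11957 (iv F43236)) (tt N6719 F40097) (tt N6730 F40098) (tt N6757 F40099) (tt N6733 F40100))
theorem Q10657 : ∀ i, i < 10657 → P i := stepQ 10656 Q10656 (allL N10656 (tt N13588 (iv F47796)) (tt N6719 (iv D20880)) (tt N14908 D25175) (tt N14907 (iv F51509)) (tt N6725 F40101) (tt N9281 F40102) (tt N13587 (iv F47795)))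
theorem Q10658 : ∀ i, i < 10658 → P i := stepQ 10657 Q10657 (allL N10657 (tt N14909 D25176) (tt N6722 (iv D20881)) (tt N12439 F47712) (tt N14904 (iv F51496)) (tt N13590 (iv F47806)) (tt N13592 (iv F47816)) (tt N12437 (iv F47715)))
theorem Q10659 : ∀ i, i < 10659 → P i := stepQ 10658 Q10658 (allL N10658 (tt N9272 F40103) (tt N9239 F40104) (tt N9299 F40105) (tt N9238 F40106) (tt N13582 (iv F47772)) (tt N9270 F40107) (tt N6724 (iv D20882)))
theorem Q10660 : ∀ i, i < 10660 → P i := stepQ 10659 Q10659 (allL N10659 (tt N6725 (iv D20883)) (tt N10690 (iv F40198)) (tt N10688 F40196) (tt N13594 (iv F47822)) (tt N13588 (iv F47797)) (tt N9467 F40108) (tt N9339 (iv F40109)))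
theorem Q10661 : ∀ i, i < 10661 → P i := stepQ 10660 Q10660 (allL N10660 (tt N10688 (iv F40195)) (tt N14910 D25177) (tt N6725 (iv D20884)) (tt N14911 D25178) (tt N14908 (iv F51512)) (tt N9208 F40110) (tt N13504 (iv F47509)))
theorem Q10662 : ∀ i, i < 10662 → P i := stepQ 10661 Q10661 (allL N10661 (tt N9339 F40111) (tt N6747 F40112) (tt N13504 (iv F47508)) (tt N13551 (iv F47643)) (tt N13587 (iv F47794)) (tt N8479 F40113) (tt N6725 (iv D20885)))
theorem Q10663 : ∀ i, i < 10663 → P i := stepQ 10662 Q10662 (allL N10662 (tt N14912 D25179) (tt N6726 (iv D20886)) (tt N14910 (iv F51519)) (tt N8936 F40114) (tt N12209 F43915) (tt N14913 D25180) (tt N14008 (iv F49025)))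
theorem Q10664 : ∀ i, i < 10664 → P i := stepQ 10663 Q10663 (allL N10663 (tt N8662 F40115) (tt N14855 (iv F51335)) (tt N8661 F40116) (tt N11560 F42232) (tt N6727 (iv D20887)) (tt N8665 F40117) (tt N6752 F40118))
theorem Q10665 : ∀ i, i < 10665 → P i := stepQ 10664 Q10664 (allL N10664 (tt N6729 (iv D20888)) (tt N6742 F40119) (tt N11959 (iv F43246)) (tt N9350 F40120) (tt N6757 F40121) (tt N6730 F40122) (tt N9349 (iv F40123)))
theorem Q10666 : ∀ i, i < 10666 → P i := stepQ 10665 Q10665 (allL N10665 (tt N9349 F40124) (tt N10691 (iv F40201)) (tt N11961 (iv F43252)) (tt N9344 F40125) (tt N10674 (iv F40146)) (tt N9343 F40126) (tt N6729 (iv D20889)))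
theorem Q10667 : ∀ i, i < 10667 → P i := stepQ 10666 Q10666 (allL N10666 (tt N14914 D25181) (tt N6730 (iv D20890)) (tt N14915 D25182) (tt N13553 (iv F47653)) (tt N14907 (iv F51510)) (tt N14916 D25183) (tt N10822 F40549))
theorem Q10668 : ∀ i, i < 10668 → P i := stepQ 10667 Q10667 (allL N10667 (tt N6731 F40127) (tt N13956 (iv F48881)) (tt N6730 (iv D20891)) (tt N14824 (iv F51224)) (tt N11957 F43239) (tt N11959 (iv F43247)) (tt N13591 (iv F47812)))
theorem Q10669 : ∀ i, i < 10669 → P i := stepQ 10668 Q10668 (allL N10668 (tt N14824 (iv F51222)) (tt N14858 (iv F51345)) (tt N9163 F44099) (tt N6731 (iv D20892)) (tt N11343 (iv F41767)) (tt N11348 (iv F41778)) (tt N13595 (iv F47827)))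
theorem Q10670 : ∀ i, i < 10670 → P i := stepQ 10669 Q10669 (allL N10669 (tt N6732 (iv D20893)) (tt N9350 F40128) (tt N14773 (iv F51037)) (tt N6742 F40129) (tt N9276 F40130) (tt N13585 (iv F47783)) (tt N9327 F40131))
theorem Q10671 : ∀ i, i < 10671 → P i := stepQ 10670 Q10670 (allL N10670 (tt N14773 (iv F51036)) (tt N6734 F40132) (tt N6732 (iv D20894)) (tt N11958 (iv F43241)) (tt N9277 F40133) (tt N14917 D25184) (tt N14775 (iv F51046)))
theorem Q10672 : ∀ i, i < 10672 → P i := stepQ 10671 Q10671 (allL N10671 (tt N13585 (iv F47779)) (tt N6735 F40134) (tt N14917 (iv F51544)) (tt N6741 F40135) (tt N9278 F40136) (tt N6732 (iv D20895)) (tt N10695 (iv F40213)))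
theorem Q10673 : ∀ i, i < 10673 → P i := stepQ 10672 Q10672 (allL N10672 (tt N10642 (iv F40138)) (tt N6733 (iv D20896)) (tt N10791 (iv F40469)) (tt N6736 F40137) (tt N13589 (iv F47801)) (tt N10640 (iv F40139)) (tt N10785 (iv F40454)))
theorem Q10674 : ∀ i, i < 10674 → P i := stepQ 10673 Q10673 (allL N10673 (tt N6734 F40140) (tt N14918 D25185) (tt N6733 (iv D20897)) (tt N7732 F40141) (tt N13591 (iv F47810)) (tt N7730 (iv F40142)) (tt N11957 (iv F43238)))
theorem Q10675 : ∀ i, i < 10675 → P i := stepQ 10674 Q10674 (allL N10674 (tt N6735 F40143) (tt N14919 D25186) (tt N7730 F40144) (tt N6738 F40145) (tt N10665 F40146) (tt N6733 (iv D20898)) (tt N7728 F40147))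
theorem Q10676 : ∀ i, i < 10676 → P i := stepQ 10675 Q10675 (allL N10675 (tt N7730 F40148) (tt N14920 D25187) (tt N6735 F40149) (tt N7727 F40150) (tt N13596 (iv F47831)) (tt N6734 (iv D20899)) (tt N7726 F40151))
theorem Q10677 : ∀ i, i < 10677 → P i := stepQ 10676 Q10676 (allL N10676 (tt N6740 F40152) (tt N14921 D25188) (tt N6738 F40153) (tt N7569 F40154) (tt N6750 F40155) (tt N6737 (iv D20900)) (tt N10405 F40156))
theorem Q10678 : ∀ i, i < 10678 → P i := stepQ 10677 Q10677 (allL N10677 (tt N13706 (iv F48215)) (tt N6738 (iv D20901)) (tt N14922 D25189) (tt N14919 (iv F51551)) (tt N6751 F40157) (tt N10653 F40158) (tt N14919 (iv F51554)))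
theorem Q10679 : ∀ i, i < 10679 → P i := stepQ 10678 Q10678 (allL N10678 (tt N11561 (iv F42233)) (tt N6763 F40159) (tt N10153 F40160) (tt N6752 F40161) (tt N6739 (iv D20902)) (tt N10152 F40162) (tt N11560 (iv F42231)))
theorem Q10680 : ∀ i, i < 10680 → P i := stepQ 10679 Q10679 (allL N10679 (tt N6741 (iv D20903)) (tt N14916 (iv F51540)) (tt N10541 F40163) (tt N13585 (iv F47781)) (tt N6754 F40164) (tt N6742 F40165) (tt N10681 (iv F40176)))
theorem Q10681 : ∀ i, i < 10681 → P i := stepQ 10680 Q10680 (allL N10680 (tt N6743 F40166) (tt N9328 F40167) (tt N10539 F40168) (tt N9327 F40169) (tt N6759 F40170) (tt N9273 F40171) (tt N6742 (iv D20904)))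
theorem Q10682 : ∀ i, i < 10682 → P i := stepQ 10681 Q10681 (allL N10681 (tt N9273 F40172) (tt N9334 (iv F40177)) (tt N10540 F40173) (tt N9330 F40174) (tt N6760 F40175) (tt N6743 (iv D20905)) (tt N10679 F40176))
theorem Q10683 : ∀ i, i < 10683 → P i := stepQ 10682 Q10682 (allL N10682 (tt N6747 F40178) (tt N10787 (iv F40461)) (tt N13495 (iv F47468)) (tt N13582 (iv F47771)) (tt N10654 F40179) (tt N10685 (iv F40187)) (tt N6744 (iv D20906)))
theorem Q10684 : ∀ i, i < 10684 → P i := stepQ 10683 Q10683 (allL N10683 (tt N13495 (iv F47467)) (tt N13672 F48077) (tt N6747 F40180) (tt N9877 F40181) (tt N13680 (iv F48104)) (tt N13494 (iv F47465)) (tt N6745 (iv D20907)))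
theorem Q10685 : ∀ i, i < 10685 → P i := stepQ 10684 Q10684 (allL N10684 (tt N14922 (iv F51564)) (tt N6746 (iv D20908)) (tt N13706 (iv F48210)) (tt N13590 (iv F47805)) (tt N10653 F40182) (tt N6751 F40183) (tt N14923 D25190))
theorem Q10686 : ∀ i, i < 10686 → P i := stepQ 10685 Q10685 (allL N10685 (tt N10649 F40184) (tt N9265 (iv F40188)) (tt N9191 F40185) (tt N13554 (iv F47658)) (tt N10651 F40186) (tt N10682 F40187) (tt N6746 (iv D20909)))
theorem Q10687 : ∀ i, i < 10687 → P i := stepQ 10686 Q10686 (allL N10686 (tt N13445 (iv F47318)) (tt N6749 F40189) (tt N13367 (iv F47117)) (tt N6748 (iv D20910)) (tt N14924 D25191) (tt N9768 F40190) (tt N14009 (iv F49030)))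
theorem Q10688 : ∀ i, i < 10688 → P i := stepQ 10687 Q10687 (allL N10687 (tt N6752 F40191) (tt N14924 (iv F51576)) (tt N8663 F40192) (tt N11561 (iv F42235)) (tt N6749 (iv D20911)) (tt N12918 (iv F45996)) (tt N8662 F40193))
theorem Q10689 : ∀ i, i < 10689 → P i := stepQ 10688 Q10688 (allL N10688 (tt N10660 F40195) (tt N6750 (iv D20912)) (tt N10659 (iv F40196)) (tt N13282 (iv F46861)) (tt N14921 (iv F51559)) (tt N9769 F40194) (tt N9207 F40197))
theorem Q10690 : ∀ i, i < 10690 → P i := stepQ 10689 Q10689 (allL N10689 (tt N6751 (iv D20913)) (tt N13702 F48194) (tt N10653 F40200) (tt N13593 (iv F47819)) (tt N13706 (iv F48212)) (tt N14922 (iv F51567)) (tt N13549 (iv F47791)))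
theorem Q10691 : ∀ i, i < 10691 → P i := stepQ 10690 Q10690 (allL N10690 (tt N10653 (iv F40199)) (tt N10659 F40198) (tt N6751 (iv D20914)) (tt N14906 (iv F51507)) (tt N14922 (iv F51566)) (tt N13706 (iv F48213)) (tt N14903 (iv F51495)))
theorem Q10692 : ∀ i, i < 10692 → P i := stepQ 10691 Q10691 (allL N10691 (tt N13549 F47790) (tt N10665 F40201) (tt N14903 (iv F51493)) (tt N13592 (iv F47814)) (tt N14919 (iv F51552)) (tt N14904 (iv F51498)) (tt N6751 (iv D20915)))
theorem Q10693 : ∀ i, i < 10693 → P i := stepQ 10692 Q10692 (allL N10692 (tt N10723 (iv F40261)) (tt N12749 (iv F45511)) (tt N12352 (iv F44294)) (tt N12350 (iv F44287)) (tt N12345 (iv F44266)) (tt N10722 (iv F40260)) (tt N6753 (iv D20916)))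
theorem Q10694 : ∀ i, i < 10694 → P i := stepQ 10693 Q10693 (allL N10693 (tt N14925 D25192) (tt N6754 (iv D20917)) (tt N14852 (iv F51328)) (tt N9281 F40202) (tt N14916 (iv F51542)) (tt N14907 (iv F51511)) (tt N9293 F40203))
theorem Q10695 : ∀ i, i < 10695 → P i := stepQ 10694 Q10694 (allL N10694 (tt N8449 F40204) (tt N10597 (iv F40209)) (tt N6756 F40205) (tt N8465 F40206) (tt N10542 F40207) (tt N8450 F40208) (tt N6755 (iv D20918)))
theorem Q10696 : ∀ i, i < 10696 → P i := stepQ 10695 Q10695 (allL N10695 (tt N9330 F40214) (tt N6759 (iv D20919)) (tt N14777 (iv F51054)) (tt N9273 F40210) (tt N9328 F40211) (tt N9327 F40212) (tt N10671 F40213))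
theorem Q10697 : ∀ i, i < 10697 → P i := stepQ 10696 Q10696 (allL N10696 (tt N6761 (iv D20920)) (tt N14926 D25193) (tt N10846 (iv F40635)) (tt N14132 (iv F49380)) (tt N6766 F40215) (tt N14927 D25194) (tt N10845 (iv F40632)))
theorem Q10698 : ∀ i, i < 10698 → P i := stepQ 10697 Q10697 (allL N10697 (tt N14132 (iv F49378)) (tt N6762 F40216) (tt N13714 (iv F48241)) (tt N6761 (iv D20921)) (tt N14928 D25195) (tt N13713 (iv F48238)) (tt N12128 F43713))
theorem Q10699 : ∀ i, i < 10699 → P i := stepQ 10698 Q10698 (allL N10698 (tt N14927 (iv F51586)) (tt N12338 (iv F44241)) (tt N10730 (iv F40284)) (tt N13713 (iv F48237)) (tt N6768 F40217) (tt N6761 (iv D20922)) (tt N10729 F40282))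
theorem Q10700 : ∀ i, i < 10700 → P i := stepQ 10699 Q10699 (allL N10699 (tt N10845 (iv F40628)) (tt N12127 F43708) (tt N10844 (iv F40627)) (tt N12128 (iv F43710)) (tt N6769 F40218) (tt N12165 (iv F43809)) (tt N6761 (iv D20923)))
theorem Q10701 : ∀ i, i < 10701 → P i := stepQ 10700 Q10700 (allL N10700 (tt N6763 F40219) (tt N14928 (iv F51591)) (tt N10784 (iv F40450)) (tt N6770 F40220) (tt N6762 (iv D20924)) (tt N12339 (iv F44249)) (tt N12380 (iv F44388)))
theorem Q10702 : ∀ i, i < 10702 → P i := stepQ 10701 Q10701 (allL N10701 (tt N6764 (iv D20925)) (tt N14929 D25196) (tt N6766 F40221) (tt N10736 (iv F40311)) (tt N10846 (iv F40637)) (tt N10756 F40363) (tt N10726 (iv F40273)))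
theorem Q10703 : ∀ i, i < 10703 → P i := stepQ 10702 Q10702 (allL N10702 (tt N10736 (iv F40310)) (tt N6765 F40222) (tt N13525 (iv F47573)) (tt N6764 (iv D20926)) (tt N10766 (iv F40403)) (tt N6791 (iv F40223)) (tt N10735 F40309))
theorem Q10704 : ∀ i, i < 10704 → P i := stepQ 10703 Q10703 (allL N10703 (tt N10756 F40361) (tt N10730 (iv F40283)) (tt N6768 F40224) (tt N6791 F40225) (tt N10730 (iv F40286)) (tt N6764 (iv D20927)) (tt N6780 (iv F40226)))
theorem Q10705 : ∀ i, i < 10705 → P i := stepQ 10704 Q10704 (allL N10704 (tt N10726 F40272) (tt N9297 F40227) (tt N6769 F40228) (tt N10735 (iv F40307)) (tt N10844 (iv F40623)) (tt N10727 (iv F40276)) (tt N6764 (iv D20928)))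
theorem Q10706 : ∀ i, i < 10706 → P i := stepQ 10705 Q10705 (allL N10705 (tt N10839 (iv F40609)) (tt N10766 (iv F40404)) (tt N10787 (iv F40462)) (tt N13502 (iv F47502)) (tt N6765 (iv D20929)) (tt N13502 (iv F47503)) (tt N9295 F40229))
theorem Q10707 : ∀ i, i < 10707 → P i := stepQ 10706 Q10706 (allL N10706 (tt N14011 (iv F49032)) (tt N6766 (iv D20930)) (tt N14930 D25197) (tt N14931 D25198) (tt N14926 (iv F51583)) (tt N14932 D25199) (tt N14933 D25200))
theorem Q10708 : ∀ i, i < 10708 → P i := stepQ 10707 Q10707 (allL N10707 (tt N6767 F40230) (tt N14931 (iv F51601)) (tt N14744 (iv F50929)) (tt N6766 (iv D20931)) (tt N14934 D25201) (tt N14743 F50927) (tt N14935 D25202))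
theorem Q10709 : ∀ i, i < 10709 → P i := stepQ 10708 Q10708 (allL N10708 (tt N6768 F40231) (tt N14936 D25203) (tt N10756 F40362) (tt N14743 (iv F50925)) (tt N14927 (iv F51589)) (tt N6766 (iv D20932)) (tt N10713 (iv F40239)))
theorem Q10710 : ∀ i, i < 10710 → P i := stepQ 10709 Q10709 (allL N10709 (tt N6769 F40232) (tt N14937 D25204) (tt N10726 F40271) (tt N14935 (iv F51607)) (tt N10845 (iv F40629)) (tt N10712 (iv F40237)) (tt N6766 (iv D20933)))
theorem Q10711 : ∀ i, i < 10711 → P i := stepQ 10710 Q10710 (allL N10710 (tt N14934 (iv F51604)) (tt N6770 F40233) (tt N14742 (iv F50922)) (tt N14928 (iv F51592)) (tt N6767 (iv D20934)) (tt N14741 F50920) (tt N14938 D25205))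
theorem Q10712 : ∀ i, i < 10712 → P i := stepQ 10711 Q10711 (allL N10711 (tt N14935 (iv F51605)) (tt N14874 (iv F51393)) (tt N14033 (iv F49091)) (tt N6769 F40234) (tt N14938 (iv F51613)) (tt N14031 F49088) (tt N6767 (iv D20935)))
theorem Q10713 : ∀ i, i < 10713 → P i := stepQ 10712 Q10712 (allL N10712 (tt N10713 (iv F40238)) (tt N10712 F40235) (tt N6780 F40236) (tt N14739 (iv F50915)) (tt N10729 (iv F40280)) (tt N10709 F40237) (tt N6768 (iv D20936)))
theorem Q10714 : ∀ i, i < 10714 → P i := stepQ 10713 Q10713 (allL N10713 (tt N10712 F40238) (tt N12164 (iv F43804)) (tt N10727 (iv F40274)) (tt N14031 (iv F49087)) (tt N12165 (iv F43808)) (tt N6769 (iv D20937)) (tt N10708 F40239))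
theorem Q10715 : ∀ i, i < 10715 → P i := stepQ 10714 Q10714 (allL N10714 (tt N6771 (iv D20938)) (tt N14939 D25206) (tt N8299 F40240) (tt N8197 F40241) (tt N14940 D25207) (tt N8298 F40242) (tt N13489 (iv F47443)))
theorem Q10716 : ∀ i, i < 10716 → P i := stepQ 10715 Q10715 (allL N10715 (tt N14940 (iv F51616)) (tt N6772 F40243) (tt N12920 (iv F46001)) (tt N14941 D25208) (tt N6771 (iv D20939)) (tt N14942 D25209) (tt N13490 F47446))
theorem Q10717 : ∀ i, i < 10717 → P i := stepQ 10716 Q10716 (allL N10716 (tt N8298 F40244) (tt N10802 (iv F40494)) (tt N8297 F40245) (tt N8198 F40246) (tt N14942 (iv F51624)) (tt N6771 (iv D20940)) (tt N9179 F40247))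
theorem Q10718 : ∀ i, i < 10718 → P i := stepQ 10717 Q10717 (allL N10717 (tt N8177 F40248) (tt N14941 (iv F51619)) (tt N8142 F40251) (tt N6772 (iv D20941)) (tt N8109 F40249) (tt N8108 F40250) (tt N12334 (iv F44223)))
theorem Q10719 : ∀ i, i < 10719 → P i := stepQ 10718 Q10718 (allL N10718 (tt N14943 D25210) (tt N6773 (iv D20942)) (tt N14944 D25211) (tt N12343 (iv F44263)) (tt N6774 F40252) (tt N12919 (iv F45999)) (tt N14945 D25212))
theorem Q10720 : ∀ i, i < 10720 → P i := stepQ 10719 Q10719 (allL N10719 (tt N6774 (iv D20943)) (tt N12753 F45522) (tt N12783 (iv F45618)) (tt N6775 F40253) (tt N14943 (iv F51627)) (tt N12782 F45615) (tt N14946 D25213))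
theorem Q10721 : ∀ i, i < 10721 → P i := stepQ 10720 Q10720 (allL N10720 (tt N12783 (iv F45616)) (tt N10801 (iv F40490)) (tt N6774 (iv D20944)) (tt N9755 (iv F40255)) (tt N14944 (iv F51629)) (tt N8906 F40254) (tt N9753 (iv F40256)))
theorem Q10722 : ∀ i, i < 10722 → P i := stepQ 10721 Q10721 (allL N10721 (tt N14946 (iv F51635)) (tt N10797 (iv F40480)) (tt N9753 F40257) (tt N6776 F40258) (tt N14945 (iv F51634)) (tt N12616 (iv F45148)) (tt N6774 (iv D20945)))
theorem Q10723 : ∀ i, i < 10723 → P i := stepQ 10722 Q10722 (allL N10722 (tt N6776 F40259) (tt N14947 D25214) (tt N12348 (iv F44276)) (tt N14946 (iv F51637)) (tt N12341 (iv F44258)) (tt N10692 F40260) (tt N6775 (iv D20946)))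
theorem Q10724 : ∀ i, i < 10724 → P i := stepQ 10723 Q10723 (allL N10723 (tt N10692 F40261) (tt N14948 D25215) (tt N9755 F40262) (tt N12616 (iv F45149)) (tt N12346 (iv F44270)) (tt N6776 (iv D20947)) (tt N9754 F40263))
theorem Q10725 : ∀ i, i < 10725 → P i := stepQ 10724 Q10724 (allL N10724 (tt N12062 (iv F43492)) (tt N10724 F40264) (tt N12055 (iv F43471)) (tt N6778 (iv D20948)) (tt N12053 (iv F43466)) (tt N14949 D25216) (tt N6873 F40265))
theorem Q10726 : ∀ i, i < 10726 → P i := stepQ 10725 Q10725 (allL N10725 (tt N10828 (iv F40572)) (tt N14950 D25217) (tt N6779 F40266) (tt N14949 (iv F51645)) (tt N6883 F40267) (tt N6778 (iv D20949)) (tt N10826 (iv F40569)))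
theorem Q10727 : ∀ i, i < 10727 → P i := stepQ 10726 Q10726 (allL N10726 (tt N10704 (iv F40272)) (tt N6779 (iv D20950)) (tt N10709 (iv F40271)) (tt N6786 F40268) (tt N6892 F40269) (tt N6780 F40270) (tt N10701 F40273))
theorem Q10728 : ∀ i, i < 10728 → P i := stepQ 10727 Q10727 (allL N10727 (tt N6780 (iv D20951)) (tt N14951 D25218) (tt N10713 F40274) (tt N6790 F40275) (tt N10728 (iv F40278)) (tt N10704 F40276) (tt N10756 (iv F40360)))
theorem Q10729 : ∀ i, i < 10729 → P i := stepQ 10728 Q10728 (allL N10728 (tt N6781 (iv D20952)) (tt N14952 D25219) (tt N12165 F43811) (tt N6804 F40277) (tt N10727 F40278) (tt N10844 (iv F40624)) (tt N13566 (iv F47706)))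
theorem Q10730 : ∀ i, i < 10730 → P i := stepQ 10729 Q10729 (allL N10729 (tt N12165 (iv F43810)) (tt N10729 F40279) (tt N6781 (iv D20953)) (tt N9481 F40281) (tt N10712 F40280) (tt N10845 (iv F40630)) (tt N10698 (iv F40282)))
theorem Q10731 : ∀ i, i < 10731 → P i := stepQ 10730 Q10730 (allL N10730 (tt N13566 (iv F47702)) (tt N10703 F40283) (tt N10698 F40284) (tt N6805 F40285) (tt N10703 F40286) (tt N9202 F40287) (tt N6781 (iv D20954)))
theorem Q10732 : ∀ i, i < 10732 → P i := stepQ 10731 Q10731 (allL N10731 (tt N10518 F40288) (tt N9129 F40289) (tt N6783 (iv D20955)) (tt N7808 (iv F40292)) (tt N7287 F40290) (tt N14953 D25220) (tt N7285 F40291))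
theorem Q10733 : ∀ i, i < 10733 → P i := stepQ 10732 Q10732 (allL N10732 (tt N10519 F40293) (tt N8511 (iv F40297)) (tt N14953 (iv F51659)) (tt N6784 F40294) (tt N8385 F40295) (tt N6783 (iv D20956)) (tt N8325 F40296))
theorem Q10734 : ∀ i, i < 10734 → P i := stepQ 10733 Q10733 (allL N10733 (tt N8482 (iv F40302)) (tt N6784 (iv D20957)) (tt N9658 F40298) (tt N8511 F40299) (tt N8490 F40300) (tt N9657 F40301) (tt N12365 (iv F44339)))
theorem Q10735 : ∀ i, i < 10735 → P i := stepQ 10734 Q10734 (allL N10734 (tt N10769 (iv F40409)) (tt N6785 (iv D20958)) (tt N13523 (iv F47562)) (tt N9320 F40303) (tt N6786 F40304) (tt N6789 F40305) (tt N6820 F40306))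
theorem Q10736 : ∀ i, i < 10736 → P i := stepQ 10735 Q10735 (allL N10735 (tt N6786 (iv D20959)) (tt N13565 (iv F47698)) (tt N13498 F47484) (tt N10704 F40307) (tt N10769 (iv F40411)) (tt N6790 F40308) (tt N10702 (iv F40309)))
theorem Q10737 : ∀ i, i < 10737 → P i := stepQ 10736 Q10736 (allL N10736 (tt N10702 F40310) (tt N13562 (iv F47686)) (tt N13689 F48141) (tt N10701 F40311) (tt N6820 F40312) (tt N6810 F40313) (tt N6786 (iv D20960)))
theorem Q10738 : ∀ i, i < 10738 → P i := stepQ 10737 Q10737 (allL N10737 (tt N9279 F40314) (tt N6788 (iv D20961)) (tt N14754 (iv F50967)) (tt N6817 F40315) (tt N9275 F40316) (tt N6806 F40317) (tt N9283 F40318))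
theorem Q10739 : ∀ i, i < 10739 → P i := stepQ 10738 Q10738 (allL N10738 (tt N10774 F40427) (tt N6790 (iv D20962)) (tt N10773 (iv F40428)) (tt N14951 (iv F51653)) (tt N10768 (iv F40407)) (tt N14954 D25221) (tt N10761 (iv F40382)))
theorem Q10740 : ∀ i, i < 10740 → P i := stepQ 10739 Q10739 (allL N10739 (tt N6793 (iv D20963)) (tt N14955 D25222) (tt N12160 (iv F43789)) (tt N6794 F40319) (tt N6802 F40320) (tt N6807 F40321) (tt N6831 F40322))
theorem Q10741 : ∀ i, i < 10741 → P i := stepQ 10740 Q10740 (allL N10740 (tt N13563 (iv F47689)) (tt N6794 (iv D20964)) (tt N14956 D25223) (tt N14955 (iv F51668)) (tt N6797 F40323) (tt N13562 (iv F47688)) (tt N9290 F40324))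
theorem Q10742 : ∀ i, i < 10742 → P i := stepQ 10741 Q10741 (allL N10741 (tt N6797 (iv D20965)) (tt N10774 (iv F40426)) (tt N10772 F40423) (tt N13572 (iv F47733)) (tt N13563 (iv F47690)) (tt N9297 F40326) (tt N9472 F40325))
theorem Q10743 : ∀ i, i < 10743 → P i := stepQ 10742 Q10742 (allL N10742 (tt N10772 (iv F40424)) (tt N14957 D25224) (tt N6797 (iv D20966)) (tt N14958 D25225) (tt N14956 (iv F51672)) (tt N13528 (iv F47586)) (tt N9243 F40327))
theorem Q10744 : ∀ i, i < 10744 → P i := stepQ 10743 Q10743 (allL N10743 (tt N9297 F40328) (tt N6820 F40329) (tt N13528 (iv F47585)) (tt N13564 (iv F47695)) (tt N13562 (iv F47687)) (tt N6797 (iv D20967)) (tt N8487 F40330))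
theorem Q10745 : ∀ i, i < 10745 → P i := stepQ 10744 Q10744 (allL N10744 (tt N14959 D25226) (tt N6798 (iv D20968)) (tt N14957 (iv F51675)) (tt N8920 F40331) (tt N12026 F43387) (tt N13989 (iv F48983)) (tt N14960 D25227))
theorem Q10746 : ∀ i, i < 10746 → P i := stepQ 10745 Q10745 (allL N10745 (tt N8646 F40332) (tt N14887 (iv F51446)) (tt N8645 F40333) (tt N11401 F41883) (tt N6799 (iv D20969)) (tt N6826 F40334) (tt N8649 F40335))
theorem Q10747 : ∀ i, i < 10747 → P i := stepQ 10746 Q10746 (allL N10746 (tt N6801 (iv D20970)) (tt N6816 F40336) (tt N12162 (iv F43799)) (tt N9309 F40337) (tt N6831 F40338) (tt N9307 F40340) (tt N6802 F40339))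
theorem Q10748 : ∀ i, i < 10748 → P i := stepQ 10747 Q10747 (allL N10747 (tt N9307 F40341) (tt N10775 (iv F40429)) (tt N12164 (iv F43805)) (tt N9303 F40342) (tt N10758 (iv F40370)) (tt N6801 (iv D20971)) (tt N9301 F40343))
theorem Q10749 : ∀ i, i < 10749 → P i := stepQ 10748 Q10748 (allL N10748 (tt N14961 D25228) (tt N6802 (iv D20972)) (tt N14962 D25229) (tt N13570 (iv F47725)) (tt N14955 (iv F51669)) (tt N10843 (iv F40621)) (tt N14963 D25230))
theorem Q10750 : ∀ i, i < 10750 → P i := stepQ 10749 Q10749 (allL N10749 (tt N6803 F40344) (tt N13976 (iv F48935)) (tt N6802 (iv D20973)) (tt N14789 (iv F51099)) (tt N12160 F43792) (tt N13569 (iv F47723)) (tt N12162 (iv F43800)))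
theorem Q10751 : ∀ i, i < 10751 → P i := stepQ 10750 Q10750 (allL N10750 (tt N14789 (iv F51097)) (tt N14865 (iv F51363)) (tt N9109 F46934) (tt N6803 (iv D20974)) (tt N11502 (iv F42108)) (tt N13574 (iv F47739)) (tt N11507 (iv F42119)))
theorem Q10752 : ∀ i, i < 10752 → P i := stepQ 10751 Q10751 (allL N10751 (tt N14964 D25231) (tt N6804 (iv D20975)) (tt N12475 F47713) (tt N14952 (iv F51655)) (tt N13567 (iv F47708)) (tt N12474 (iv F47714)) (tt N13571 (iv F47732)))
theorem Q10753 : ∀ i, i < 10753 → P i := stepQ 10752 Q10752 (allL N10752 (tt N9324 F40345) (tt N9203 F40346) (tt N9342 F40347) (tt N9202 F40348) (tt N13555 (iv F47665)) (tt N6805 (iv D20976)) (tt N9322 F40349))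
theorem Q10754 : ∀ i, i < 10754 → P i := stepQ 10753 Q10753 (allL N10753 (tt N6806 (iv D20977)) (tt N9309 F40350) (tt N14752 (iv F50960)) (tt N6816 F40351) (tt N9310 F40352) (tt N9279 F40353) (tt N13559 (iv F47677)))
theorem Q10755 : ∀ i, i < 10755 → P i := stepQ 10754 Q10754 (allL N10754 (tt N14752 (iv F50959)) (tt N6808 F40354) (tt N6806 (iv D20978)) (tt N12161 (iv F43794)) (tt N9325 F40355) (tt N14754 (iv F50969)) (tt N14965 D25232))
theorem Q10756 : ∀ i, i < 10756 → P i := stepQ 10755 Q10755 (allL N10755 (tt N13559 (iv F47674)) (tt N6809 F40356) (tt N14965 (iv F51704)) (tt N6815 F40357) (tt N9326 F40358) (tt N10779 (iv F40440)) (tt N6806 (iv D20979)))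
theorem Q10757 : ∀ i, i < 10757 → P i := stepQ 10756 Q10756 (allL N10756 (tt N10703 (iv F40361)) (tt N6807 (iv D20980)) (tt N10708 (iv F40362)) (tt N6810 F40359) (tt N13566 (iv F47704)) (tt N10701 (iv F40363)) (tt N10727 F40360))
theorem Q10758 : ∀ i, i < 10758 → P i := stepQ 10757 Q10757 (allL N10757 (tt N6808 F40364) (tt N14966 D25233) (tt N6807 (iv D20981)) (tt N7894 F40365) (tt N13569 (iv F47722)) (tt N12160 (iv F43790)) (tt N7892 (iv F40366)))
theorem Q10759 : ∀ i, i < 10759 → P i := stepQ 10758 Q10758 (allL N10758 (tt N6809 F40367) (tt N14967 D25234) (tt N7892 F40368) (tt N6812 F40369) (tt N10747 F40370) (tt N7890 F40371) (tt N6807 (iv D20982)))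
theorem Q10760 : ∀ i, i < 10760 → P i := stepQ 10759 Q10759 (allL N10759 (tt N7892 F40372) (tt N14968 D25235) (tt N6809 F40373) (tt N7889 F40374) (tt N13575 (iv F47743)) (tt N7888 (iv F40375)) (tt N6808 (iv D20983)))
theorem Q10761 : ∀ i, i < 10761 → P i := stepQ 10760 Q10760 (allL N10760 (tt N6814 F40376) (tt N14969 D25236) (tt N6812 F40377) (tt N7614 F40378) (tt N6824 F40379) (tt N10439 F40380) (tt N6811 (iv D20984)))
theorem Q10762 : ∀ i, i < 10762 → P i := stepQ 10761 Q10761 (allL N10761 (tt N13708 F48225) (tt N6812 (iv D20985)) (tt N14970 D25237) (tt N14967 (iv F51712)) (tt N6825 F40381) (tt N14967 (iv F51714)) (tt N10738 F40382))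
theorem Q10763 : ∀ i, i < 10763 → P i := stepQ 10762 Q10762 (allL N10762 (tt N11402 (iv F41884)) (tt N6837 F40383) (tt N10186 F40384) (tt N6826 F40385) (tt N6813 (iv D20986)) (tt N11401 (iv F41881)) (tt N10185 F40386))
theorem Q10764 : ∀ i, i < 10764 → P i := stepQ 10763 Q10763 (allL N10763 (tt N6815 (iv D20987)) (tt N14963 (iv F51695)) (tt N10596 F40387) (tt N13559 (iv F47675)) (tt N6828 F40388) (tt N10765 (iv F40400)) (tt N6816 F40389))
theorem Q10765 : ∀ i, i < 10765 → P i := stepQ 10764 Q10764 (allL N10764 (tt N6817 F40390) (tt N9280 F40391) (tt N10594 F40392) (tt N9279 F40393) (tt N6833 F40394) (tt N6816 (iv D20988)) (tt N9321 F40395))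
theorem Q10766 : ∀ i, i < 10766 → P i := stepQ 10765 Q10765 (allL N10765 (tt N9321 F40396) (tt N9287 (iv F40401)) (tt N10595 F40397) (tt N9283 F40398) (tt N6834 F40399) (tt N10763 F40400) (tt N6817 (iv D20989)))
theorem Q10767 : ∀ i, i < 10767 → P i := stepQ 10766 Q10766 (allL N10766 (tt N6820 F40402) (tt N10705 F40404) (tt N13497 (iv F47478)) (tt N13555 (iv F47664)) (tt N10702 F40403) (tt N6818 (iv D20990)) (tt N10769 (iv F40412)))
theorem Q10768 : ∀ i, i < 10768 → P i := stepQ 10767 Q10767 (allL N10767 (tt N13497 (iv F47476)) (tt N13675 (iv F48086)) (tt N6820 F40405) (tt N9824 F40406) (tt N13689 (iv F48139)) (tt N6819 (iv D20991)) (tt N13523 (iv F47566)))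
theorem Q10769 : ∀ i, i < 10769 → P i := stepQ 10768 Q10768 (allL N10768 (tt N14970 (iv F51725)) (tt N6821 (iv D20992)) (tt N13708 (iv F48220)) (tt N13567 (iv F47707)) (tt N10738 F40407) (tt N14971 D25238) (tt N6825 F40408))
theorem Q10770 : ∀ i, i < 10770 → P i := stepQ 10769 Q10769 (allL N10769 (tt N10734 F40409) (tt N9318 (iv F40413)) (tt N9229 F40410) (tt N13568 (iv F47718)) (tt N10735 F40411) (tt N6821 (iv D20993)) (tt N10766 F40412))
theorem Q10771 : ∀ i, i < 10771 → P i := stepQ 10770 Q10770 (allL N10770 (tt N13396 (iv F47189)) (tt N6823 F40417) (tt N13308 (iv F46955)) (tt N6822 (iv D20994)) (tt N14972 D25239) (tt N13990 (iv F48987)) (tt N9748 F40418))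
theorem Q10772 : ∀ i, i < 10772 → P i := stepQ 10771 Q10771 (allL N10771 (tt N6826 F40419) (tt N14972 (iv F51737)) (tt N8647 F40420) (tt N11402 (iv F41886)) (tt N6823 (iv D20995)) (tt N8646 F40421) (tt N12903 (iv F45956)))
theorem Q10773 : ∀ i, i < 10773 → P i := stepQ 10772 Q10772 (allL N10772 (tt N10742 F40424) (tt N6824 (iv D20996)) (tt N10741 (iv F40423)) (tt N13269 (iv F46833)) (tt N14969 (iv F51720)) (tt N9244 F40425) (tt N9749 F40422))
theorem Q10774 : ∀ i, i < 10774 → P i := stepQ 10773 Q10773 (allL N10773 (tt N6825 (iv D20997)) (tt N13704 F48205) (tt N10738 F40428) (tt N13573 (iv F47736)) (tt N13708 (iv F48222)) (tt N13580 F47762) (tt N14970 (iv F51729)))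
theorem Q10775 : ∀ i, i < 10775 → P i := stepQ 10774 Q10774 (allL N10774 (tt N10738 (iv F40427)) (tt N10741 F40426) (tt N6825 (iv D20998)) (tt N14954 (iv F51666)) (tt N14970 (iv F51727)) (tt N14951 (iv F51654)) (tt N13708 (iv F48224)))
theorem Q10776 : ∀ i, i < 10776 → P i := stepQ 10775 Q10775 (allL N10775 (tt N13580 (iv F47760)) (tt N10747 F40429) (tt N14951 (iv F51652)) (tt N13571 (iv F47729)) (tt N14967 (iv F51713)) (tt N6825 (iv D20999)) (tt N14952 (iv F51657)))
theorem Q10777 : ∀ i, i < 10777 → P i := stepQ 10776 Q10776 (allL N10776 (tt N10804 (iv F40499)) (tt N12740 (iv F45486)) (tt N12398 (iv F44460)) (tt N12396 (iv F44453)) (tt N12392 (iv F44435)) (tt N6827 (iv D21000)) (tt N10803 (iv F40498)))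
theorem Q10778 : ∀ i, i < 10778 → P i := stepQ 10777 Q10777 (allL N10777 (tt N14973 D25240) (tt N6828 (iv D21001)) (tt N14884 (iv F51439)) (tt N9290 F40430) (tt N14963 (iv F51697)) (tt N9289 F40431) (tt N14955 (iv F51671)))
theorem Q10779 : ∀ i, i < 10779 → P i := stepQ 10778 Q10778 (allL N10778 (tt N8446 F40432) (tt N10542 F40437) (tt N6830 F40433) (tt N8454 F40434) (tt N10597 F40435) (tt N6829 (iv D21002)) (tt N8447 F40436))
theorem Q10780 : ∀ i, i < 10780 → P i := stepQ 10779 Q10779 (allL N10779 (tt N9283 (iv F40442)) (tt N6833 (iv D21003)) (tt N14756 (iv F50977)) (tt N9321 F40438) (tt N9280 F40439) (tt N10755 F40440) (tt N9279 F40441))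
theorem Q10781 : ∀ i, i < 10781 → P i := stepQ 10780 Q10780 (allL N10780 (tt N6835 (iv D21004)) (tt N14974 D25241) (tt N10825 (iv F40563)) (tt N14081 (iv F49218)) (tt N6840 F40443) (tt N10824 F40560) (tt N14975 D25242))
theorem Q10782 : ∀ i, i < 10782 → P i := stepQ 10781 Q10781 (allL N10781 (tt N14081 (iv F49216)) (tt N6836 F40444) (tt N13718 (iv F48256)) (tt N6835 (iv D21005)) (tt N14976 D25243) (tt N11922 F43155) (tt N13717 (iv F48252)))
theorem Q10783 : ∀ i, i < 10783 → P i := stepQ 10782 Q10782 (allL N10782 (tt N10824 (iv F40556)) (tt N11921 F43150) (tt N10823 F40555) (tt N11922 (iv F43152)) (tt N6842 F40445) (tt N6835 (iv D21006)) (tt N11962 (iv F43256)))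
theorem Q10784 : ∀ i, i < 10784 → P i := stepQ 10783 Q10783 (allL N10783 (tt N14975 (iv F51747)) (tt N12384 (iv F44406)) (tt N10645 F40446) (tt N13717 (iv F48251)) (tt N6843 F40447) (tt N10644 (iv F40448)) (tt N6835 (iv D21007)))
theorem Q10785 : ∀ i, i < 10785 → P i := stepQ 10784 Q10784 (allL N10784 (tt N6837 F40449) (tt N14976 (iv F51752)) (tt N10700 F40450) (tt N6844 F40451) (tt N6836 (iv D21008)) (tt N12334 (iv F44222)) (tt N12385 (iv F44415)))
theorem Q10786 : ∀ i, i < 10786 → P i := stepQ 10785 Q10785 (allL N10785 (tt N6838 (iv D21009)) (tt N14977 D25244) (tt N6840 F40452) (tt N10652 F40453) (tt N10825 (iv F40565)) (tt N10639 F40455) (tt N10672 F40454))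
theorem Q10787 : ∀ i, i < 10787 → P i := stepQ 10786 Q10786 (allL N10786 (tt N10639 F40456) (tt N9339 F40457) (tt N6842 F40458) (tt N10651 F40459) (tt N10823 (iv F40551)) (tt N6838 (iv D21010)) (tt N10640 F40460))
theorem Q10788 : ∀ i, i < 10788 → P i := stepQ 10787 Q10787 (allL N10787 (tt N10818 (iv F40538)) (tt N10682 F40461) (tt N10705 F40462) (tt N13526 (iv F47579)) (tt N6839 (iv D21011)) (tt N9337 F40463) (tt N13526 (iv F47581)))
theorem Q10789 : ∀ i, i < 10789 → P i := stepQ 10788 Q10788 (allL N10788 (tt N13992 (iv F48990)) (tt N6840 (iv D21012)) (tt N14978 D25245) (tt N14979 D25246) (tt N14974 (iv F51744)) (tt N14980 D25247) (tt N14981 D25248))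
theorem Q10790 : ∀ i, i < 10790 → P i := stepQ 10789 Q10789 (allL N10789 (tt N6841 F40464) (tt N14979 (iv F51764)) (tt N14765 (iv F51006)) (tt N6840 (iv D21013)) (tt N14982 D25249) (tt N14983 D25250) (tt N14764 (iv F51004)))
theorem Q10791 : ∀ i, i < 10791 → P i := stepQ 10790 Q10790 (allL N10790 (tt N6842 F40465) (tt N14984 D25251) (tt N10639 F40466) (tt N14983 (iv F51772)) (tt N10824 (iv F40557)) (tt N6840 (iv D21014)) (tt N10641 F40467))
theorem Q10792 : ∀ i, i < 10792 → P i := stepQ 10791 Q10791 (allL N10791 (tt N6843 F40468) (tt N14985 D25252) (tt N10672 F40469) (tt N14764 (iv F51002)) (tt N14975 (iv F51750)) (tt N10794 (iv F40474)) (tt N6840 (iv D21015)))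
theorem Q10793 : ∀ i, i < 10793 → P i := stepQ 10792 Q10792 (allL N10792 (tt N14982 (iv F51769)) (tt N6844 F40470) (tt N14763 (iv F50999)) (tt N14976 (iv F51753)) (tt N6841 (iv D21016)) (tt N14986 D25253) (tt N14762 F50997))
theorem Q10794 : ∀ i, i < 10794 → P i := stepQ 10793 Q10793 (allL N10793 (tt N14983 (iv F51770)) (tt N14876 (iv F51400)) (tt N14090 (iv F49251)) (tt N6842 F40471) (tt N14986 (iv F51777)) (tt N6841 (iv D21017)) (tt N14088 F49248))
theorem Q10795 : ∀ i, i < 10795 → P i := stepQ 10794 Q10794 (allL N10794 (tt N10641 F40472) (tt N11961 (iv F43251)) (tt N10640 F40473) (tt N14088 (iv F49247)) (tt N11962 (iv F43255)) (tt N10791 F40474) (tt N6842 (iv D21018)))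
theorem Q10796 : ∀ i, i < 10796 → P i := stepQ 10795 Q10795 (allL N10795 (tt N6845 (iv D21019)) (tt N14987 D25254) (tt N8290 F40475) (tt N8167 F40476) (tt N14988 D25255) (tt N13437 (iv F47294)) (tt N8289 (iv F40477)))
theorem Q10797 : ∀ i, i < 10797 → P i := stepQ 10796 Q10796 (allL N10796 (tt N14988 (iv F51780)) (tt N6846 F40478) (tt N12905 (iv F45961)) (tt N14989 D25256) (tt N6845 (iv D21020)) (tt N13438 F47297) (tt N14990 D25257))
theorem Q10798 : ∀ i, i < 10798 → P i := stepQ 10797 Q10797 (allL N10797 (tt N8289 F40479) (tt N10721 F40480) (tt N8288 F40481) (tt N8169 F40482) (tt N14990 (iv F51789)) (tt N9125 (iv F40483)) (tt N6845 (iv D21021)))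
theorem Q10799 : ∀ i, i < 10799 → P i := stepQ 10798 Q10798 (allL N10798 (tt N8142 F40484) (tt N14989 (iv F51783)) (tt N8177 F40485) (tt N6846 (iv D21022)) (tt N8065 F40486) (tt N12380 (iv F44387)) (tt N8064 F40487))
theorem Q10800 : ∀ i, i < 10800 → P i := stepQ 10799 Q10799 (allL N10799 (tt N14991 D25258) (tt N6847 (iv D21023)) (tt N14992 D25259) (tt N12389 (iv F44428)) (tt N6848 F40488) (tt N14993 D25260) (tt N12904 (iv F45960)))
theorem Q10801 : ∀ i, i < 10801 → P i := stepQ 10800 Q10800 (allL N10800 (tt N6848 (iv D21024)) (tt N12757 F45532) (tt N12808 (iv F45702)) (tt N6849 F40489) (tt N14991 (iv F51792)) (tt N14994 D25261) (tt N12807 F45699))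
theorem Q10802 : ∀ i, i < 10802 → P i := stepQ 10801 Q10801 (allL N10801 (tt N12808 (iv F45700)) (tt N10720 F40490) (tt N6848 (iv D21025)) (tt N9735 (iv F40492)) (tt N14992 (iv F51795)) (tt N9733 (iv F40493)) (tt N8913 F40491))
theorem Q10803 : ∀ i, i < 10803 → P i := stepQ 10802 Q10802 (allL N10802 (tt N14994 (iv F51802)) (tt N10716 F40494) (tt N9733 F40495) (tt N6850 F40496) (tt N14993 (iv F51801)) (tt N6848 (iv D21026)) (tt N12610 (iv F45131)))
theorem Q10804 : ∀ i, i < 10804 → P i := stepQ 10803 Q10803 (allL N10803 (tt N6850 F40497) (tt N14995 D25262) (tt N12394 (iv F44441)) (tt N14994 (iv F51804)) (tt N12386 (iv F44418)) (tt N6849 (iv D21027)) (tt N10776 F40498))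
theorem Q10805 : ∀ i, i < 10805 → P i := stepQ 10804 Q10804 (allL N10804 (tt N10776 F40499) (tt N14996 D25263) (tt N9735 F40500) (tt N12610 (iv F45132)) (tt N12391 (iv F44431)) (tt N9734 F40501) (tt N6850 (iv D21028)))
theorem Q10806 : ∀ i, i < 10806 → P i := stepQ 10805 Q10805 (allL N10805 (tt N6853 F40502) (tt N14997 D25264) (tt N6865 F40503) (tt N11849 (iv F42951)) (tt N6856 F40504) (tt N10638 F40505) (tt N6851 (iv D21029)))
theorem Q10807 : ∀ i, i < 10807 → P i := stepQ 10806 Q10806 (allL N10806 (tt N11849 (iv F42949)) (tt N10538 F40506) (tt N11842 (iv F42930)) (tt N6853 F40507) (tt N11840 (iv F42924)) (tt N14998 D25265) (tt N6852 (iv D21030)))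
theorem Q10808 : ∀ i, i < 10808 → P i := stepQ 10807 Q10807 (allL N10807 (tt N10638 F40508) (tt N10828 (iv F40573)) (tt N6866 F40509) (tt N14998 (iv F51816)) (tt N6862 F40510) (tt N6853 (iv D21031)) (tt N8441 F40511))
theorem Q10809 : ∀ i, i < 10809 → P i := stepQ 10808 Q10808 (allL N10808 (tt N6860 F40512) (tt N14999 D25266) (tt N11731 (iv F42657)) (tt N6856 F40513) (tt N11847 (iv F42943)) (tt N10812 (iv F40521)) (tt N6855 (iv D21032)))
theorem Q10810 : ∀ i, i < 10810 → P i := stepQ 10809 Q10809 (allL N10809 (tt N15000 D25267) (tt N6856 (iv D21033)) (tt N15001 D25268) (tt N14999 (iv F51819)) (tt N14997 (iv F51812)) (tt N15000 (iv F51822)) (tt N9423 F40514))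
theorem Q10811 : ∀ i, i < 10811 → P i := stepQ 10810 Q10810 (allL N10810 (tt N11731 (iv F42656)) (tt N11890 (iv F43063)) (tt N6860 F40515) (tt N7537 F40516) (tt N13389 (iv F47175)) (tt N7535 F40517) (tt N6857 (iv D21034)))
theorem Q10812 : ∀ i, i < 10812 → P i := stepQ 10811 Q10811 (allL N10811 (tt N11847 (iv F42941)) (tt N9358 F40518) (tt N13389 (iv F47173)) (tt N11840 (iv F42923)) (tt N6860 F40519) (tt N15002 D25269) (tt N6858 (iv D21035)))
theorem Q10813 : ∀ i, i < 10813 → P i := stepQ 10812 Q10812 (allL N10812 (tt N10813 (iv F40522)) (tt N15003 D25270) (tt N11727 (iv F42640)) (tt N6861 F40520) (tt N13388 (iv F47171)) (tt N10808 F40521) (tt N6859 (iv D21036)))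
theorem Q10814 : ∀ i, i < 10814 → P i := stepQ 10813 Q10813 (allL N10813 (tt N10812 F40522) (tt N10833 (iv F40585)) (tt N7535 F40523) (tt N6862 F40524) (tt N15002 (iv F51828)) (tt N6860 (iv D21037)) (tt N7532 F40525))
theorem Q10815 : ∀ i, i < 10815 → P i := stepQ 10814 Q10814 (allL N10814 (tt N9424 F50893) (tt N6861 (iv D21038)) (tt N15004 D25271) (tt N15003 (iv F51830)) (tt N14902 (iv F51490)) (tt N15005 D25272) (tt N10814 F40526))
theorem Q10816 : ∀ i, i < 10816 → P i := stepQ 10815 Q10815 (allL N10815 (tt N6864 (iv D21039)) (tt N9258 F40527) (tt N9186 F40528) (tt N9456 F40529) (tt N6867 F40530) (tt N9456 F40531) (tt N13702 (iv F48193)))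
theorem Q10817 : ∀ i, i < 10817 → P i := stepQ 10816 Q10816 (allL N10816 (tt N13702 (iv F48189)) (tt N14925 (iv F51578)) (tt N9425 F40532) (tt N9458 F40533) (tt N6868 F40534) (tt N13701 (iv F48187)) (tt N6864 (iv D21040)))
theorem Q10818 : ∀ i, i < 10818 → P i := stepQ 10817 Q10817 (allL N10817 (tt N9293 F40535) (tt N6865 (iv D21041)) (tt N15006 D25273) (tt N9335 F40536) (tt N6869 F40537) (tt N14977 (iv F51757)) (tt N14925 (iv F51581)))
theorem Q10819 : ∀ i, i < 10819 → P i := stepQ 10818 Q10818 (allL N10818 (tt N10787 F40538) (tt N6866 (iv D21042)) (tt N10839 (iv F40610)) (tt N9240 F40539) (tt N6871 F40540) (tt N9334 F40541) (tt N9240 F40542))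
theorem Q10820 : ∀ i, i < 10820 → P i := stepQ 10819 Q10819 (allL N10819 (tt N14916 (iv F51539)) (tt N6868 (iv D21043)) (tt N15007 D25274) (tt N9261 F40543) (tt N14925 (iv F51580)) (tt N14914 (iv F51536)) (tt N6869 F40544))
theorem Q10821 : ∀ i, i < 10821 → P i := stepQ 10820 Q10820 (allL N10820 (tt N6869 (iv D21044)) (tt N9294 F40545) (tt N15008 D25275) (tt N9264 F40546) (tt N9293 F40547) (tt N13552 (iv F47648)) (tt N14916 (iv F51543)))
theorem Q10822 : ∀ i, i < 10822 → P i := stepQ 10821 Q10821 (allL N10821 (tt N15008 (iv F51846)) (tt N15001 (iv F51823)) (tt N6869 (iv D21045)) (tt N15009 D25276) (tt N15006 (iv F51842)) (tt N15010 D25277) (tt N15007 (iv F51845)))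
theorem Q10823 : ∀ i, i < 10823 → P i := stepQ 10822 Q10822 (allL N10822 (tt N13552 (iv F47646)) (tt N10825 (iv F40562)) (tt N15010 (iv F51851)) (tt N9266 F40548) (tt N14977 (iv F51756)) (tt N6869 (iv D21046)) (tt N10666 (iv F40549)))
theorem Q10824 : ∀ i, i < 10824 → P i := stepQ 10823 Q10823 (allL N10823 (tt N6870 (iv D21047)) (tt N9336 (iv F40554)) (tt N10782 (iv F40555)) (tt N9270 F40550) (tt N10786 F40551) (tt N9238 F40553) (tt N10643 F40552))
theorem Q10825 : ∀ i, i < 10825 → P i := stepQ 10824 Q10824 (allL N10824 (tt N10782 F40556) (tt N15004 (iv F51834)) (tt N6870 (iv D21048)) (tt N9823 F40559) (tt N10790 F40557) (tt N10780 (iv F40560)) (tt N10644 F40558))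
theorem Q10826 : ∀ i, i < 10826 → P i := stepQ 10825 Q10825 (allL N10825 (tt N9238 F40561) (tt N10822 F40562) (tt N10780 F40563) (tt N9272 F40564) (tt N10785 F40565) (tt N6870 (iv D21049)) (tt N13589 (iv F47803)))
theorem Q10827 : ∀ i, i < 10827 → P i := stepQ 10826 Q10826 (allL N10826 (tt N6874 F40566) (tt N15011 D25278) (tt N6886 F40567) (tt N12061 (iv F43490)) (tt N6877 F40568) (tt N6872 (iv D21050)) (tt N10725 F40569))
theorem Q10828 : ∀ i, i < 10828 → P i := stepQ 10827 Q10827 (allL N10827 (tt N12061 (iv F43488)) (tt N10593 F40570) (tt N12054 (iv F43468)) (tt N6874 F40571) (tt N12052 (iv F43461)) (tt N6873 (iv D21051)) (tt N15012 D25279))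
theorem Q10829 : ∀ i, i < 10829 → P i := stepQ 10828 Q10828 (allL N10828 (tt N10725 F40572) (tt N10807 F40573) (tt N6887 F40574) (tt N15012 (iv F51860)) (tt N6882 F40575) (tt N8442 F40576) (tt N6874 (iv D21052)))
theorem Q10830 : ∀ i, i < 10830 → P i := stepQ 10829 Q10829 (allL N10829 (tt N6880 F40577) (tt N15013 D25280) (tt N11774 (iv F42763)) (tt N6877 F40578) (tt N12060 (iv F43487)) (tt N6876 (iv D21053)) (tt N10834 (iv F40596)))
theorem Q10831 : ∀ i, i < 10831 → P i := stepQ 10830 Q10830 (allL N10830 (tt N15005 (iv F51838)) (tt N6877 (iv D21054)) (tt N15014 D25281) (tt N15013 (iv F51863)) (tt N15011 (iv F51855)) (tt N9424 F40579) (tt N15005 (iv F51840)))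
theorem Q10832 : ∀ i, i < 10832 → P i := stepQ 10831 Q10831 (allL N10831 (tt N11774 (iv F42762)) (tt N12099 (iv F43613)) (tt N6880 F40580) (tt N7581 F40581) (tt N13442 (iv F47314)) (tt N6878 (iv D21055)) (tt N7579 F40582))
theorem Q10833 : ∀ i, i < 10833 → P i := stepQ 10832 Q10832 (allL N10832 (tt N12060 (iv F43485)) (tt N9359 F40583) (tt N13442 (iv F47312)) (tt N12052 (iv F43460)) (tt N6880 F40584) (tt N6879 (iv D21056)) (tt N15015 D25282))
theorem Q10834 : ∀ i, i < 10834 → P i := stepQ 10833 Q10833 (allL N10833 (tt N10834 (iv F40594)) (tt N10813 F40585) (tt N7579 F40586) (tt N6882 F40587) (tt N15015 (iv F51871)) (tt N7577 F40588) (tt N6880 (iv D21057)))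
theorem Q10835 : ∀ i, i < 10835 → P i := stepQ 10834 Q10834 (allL N10834 (tt N10833 F40594) (tt N15016 D25283) (tt N11770 (iv F42746)) (tt N6883 F40595) (tt N13440 (iv F47305)) (tt N6881 (iv D21058)) (tt N10829 F40596))
theorem Q10836 : ∀ i, i < 10836 → P i := stepQ 10835 Q10835 (allL N10835 (tt N9423 F50892) (tt N6883 (iv D21059)) (tt N15017 D25284) (tt N15016 (iv F51874)) (tt N14950 (iv F51650)) (tt N10835 F40597) (tt N15000 (iv F51821)))
theorem Q10837 : ∀ i, i < 10837 → P i := stepQ 10836 Q10836 (allL N10836 (tt N6885 (iv D21060)) (tt N9311 F40598) (tt N9226 F40599) (tt N9461 F40600) (tt N6888 F40601) (tt N13704 (iv F48204)) (tt N9461 F40602))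
theorem Q10838 : ∀ i, i < 10838 → P i := stepQ 10837 Q10837 (allL N10837 (tt N13704 (iv F48200)) (tt N14973 (iv F51739)) (tt N9427 F40603) (tt N9463 F40604) (tt N6889 F40605) (tt N6885 (iv D21061)) (tt N13703 (iv F48198)))
theorem Q10839 : ∀ i, i < 10839 → P i := stepQ 10838 Q10838 (allL N10838 (tt N9289 F40606) (tt N6886 (iv D21062)) (tt N15018 D25285) (tt N9288 F40607) (tt N6890 F40608) (tt N14973 (iv F51742)) (tt N14929 (iv F51596)))
theorem Q10840 : ∀ i, i < 10840 → P i := stepQ 10839 Q10839 (allL N10839 (tt N10705 F40609) (tt N6887 (iv D21063)) (tt N10818 F40610) (tt N9204 F40611) (tt N6891 F40612) (tt N9204 F40613) (tt N9287 F40614))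
theorem Q10841 : ∀ i, i < 10841 → P i := stepQ 10840 Q10840 (allL N10840 (tt N14963 (iv F51694)) (tt N6889 (iv D21064)) (tt N15019 D25286) (tt N9314 F40615) (tt N14973 (iv F51741)) (tt N6890 F40616) (tt N14961 F51691))
theorem Q10842 : ∀ i, i < 10842 → P i := stepQ 10841 Q10841 (allL N10841 (tt N6890 (iv D21065)) (tt N9292 F40617) (tt N15020 D25287) (tt N9317 F40618) (tt N9289 F40619) (tt N14963 (iv F51698)) (tt N13581 (iv F47766)))
theorem Q10843 : ∀ i, i < 10843 → P i := stepQ 10842 Q10842 (allL N10842 (tt N15020 (iv F51886)) (tt N15014 (iv F51865)) (tt N6890 (iv D21066)) (tt N15021 D25288) (tt N15018 (iv F51882)) (tt N15019 (iv F51885)) (tt N15022 D25289))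
theorem Q10844 : ∀ i, i < 10844 → P i := stepQ 10843 Q10843 (allL N10843 (tt N13581 (iv F47763)) (tt N10846 (iv F40634)) (tt N15022 (iv F51891)) (tt N9319 F40620) (tt N14929 (iv F51595)) (tt N10748 F40621) (tt N6890 (iv D21067)))
theorem Q10845 : ∀ i, i < 10845 → P i := stepQ 10844 Q10844 (allL N10844 (tt N6892 (iv D21068)) (tt N9291 F40626) (tt N10699 F40627) (tt N9322 F40622) (tt N10704 F40623) (tt N10728 F40624) (tt N9202 (iv F40625)))
theorem Q10846 : ∀ i, i < 10846 → P i := stepQ 10845 Q10845 (allL N10845 (tt N10699 F40628) (tt N15017 (iv F51877)) (tt N6892 (iv D21069)) (tt N9876 F40631) (tt N10709 F40629) (tt N10729 F40630) (tt N10696 F40632))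
theorem Q10847 : ∀ i, i < 10847 → P i := stepQ 10846 Q10846 (allL N10846 (tt N9202 F40633) (tt N10843 F40634) (tt N10696 F40635) (tt N9324 F40636) (tt N10701 F40637) (tt N13566 (iv F47705)) (tt N6892 (iv D21070)))
theorem Q10848 : ∀ i, i < 10848 → P i := stepQ 10847 Q10847 (allL N10847 (tt N6894 F40638) (tt N10018 F40639) (tt N6893 (iv D21071)) (tt N15023 D25290) (tt N7446 F40640) (tt N11242 (iv F41548)) (tt N14503 (iv F50327)))
theorem Q10849 : ∀ i, i < 10849 → P i := stepQ 10848 Q10848 (allL N10848 (tt N15023 (iv F51895)) (tt N14746 (iv F50938)) (tt N14195 (iv F49581)) (tt N6894 (iv D21072)) (tt N15024 D25291) (tt N14195 (iv F49580)) (tt N15025 D25292))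
theorem Q10850 : ∀ i, i < 10850 → P i := stepQ 10849 Q10849 (allL N10849 (tt N14503 (iv F50323)) (tt N15026 D25293) (tt N6895 F40641) (tt N15025 (iv F51899)) (tt N7448 F40642) (tt N11441 (iv F41980)) (tt N6894 (iv D21073)))
theorem Q10851 : ∀ i, i < 10851 → P i := stepQ 10850 Q10850 (allL N10850 (tt N6897 F40643) (tt N10053 F40644) (tt N6896 (iv D21074)) (tt N15027 D25294) (tt N7449 F40645) (tt N14454 (iv F50220)) (tt N11403 (iv F41893)))
theorem Q10852 : ∀ i, i < 10852 → P i := stepQ 10851 Q10851 (allL N10851 (tt N15027 (iv F51904)) (tt N14767 (iv F51015)) (tt N14197 (iv F49586)) (tt N6897 (iv D21075)) (tt N15028 D25295) (tt N15029 D25296) (tt N14197 (iv F49585)))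
theorem Q10853 : ∀ i, i < 10853 → P i := stepQ 10852 Q10852 (allL N10852 (tt N14454 (iv F50217)) (tt N15030 D25297) (tt N6898 F40646) (tt N15029 (iv F51908)) (tt N7451 F40647) (tt N6897 (iv D21076)) (tt N11281 (iv F41637)))
theorem Q10854 : ∀ i, i < 10854 → P i := stepQ 10853 Q10853 (allL N10853 (tt N10853 F40648) (tt N8351 F40649) (tt N6899 (iv D21077)) (tt N10858 (iv F40672)) (tt N14745 (iv F50934)) (tt N10853 F40650) (tt N10857 (iv F40668)))
theorem Q10855 : ∀ i, i < 10855 → P i := stepQ 10854 Q10854 (allL N10854 (tt N10854 F40651) (tt N7540 F40652) (tt N10857 F40667) (tt N6904 F40653) (tt N7539 F40654) (tt N10854 F40655) (tt N6899 (iv D21078)))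
theorem Q10856 : ∀ i, i < 10856 → P i := stepQ 10855 Q10855 (allL N10855 (tt N10855 F40656) (tt N8355 F40657) (tt N6901 (iv D21079)) (tt N10863 (iv F40693)) (tt N14766 (iv F51011)) (tt N10862 (iv F40689)) (tt N10855 F40658))
theorem Q10857 : ∀ i, i < 10857 → P i := stepQ 10856 Q10856 (allL N10856 (tt N10856 F40659) (tt N7585 F40660) (tt N10862 F40688) (tt N6907 F40661) (tt N7584 F40662) (tt N6901 (iv D21080)) (tt N10856 F40663))
theorem Q10858 : ∀ i, i < 10858 → P i := stepQ 10857 Q10857 (allL N10857 (tt N10857 F40664) (tt N6919 F40665) (tt N10854 (iv F40667)) (tt N6903 (iv D21081)) (tt N11733 (iv F42670)) (tt N10857 F40666) (tt N10853 F40668))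
theorem Q10859 : ∀ i, i < 10859 → P i := stepQ 10858 Q10858 (allL N10858 (tt N10858 F40669) (tt N7182 F40670) (tt N6904 F40671) (tt N10853 F40672) (tt N7470 F40673) (tt N10858 F40674) (tt N6903 (iv D21082)))
theorem Q10860 : ∀ i, i < 10860 → P i := stepQ 10859 Q10859 (allL N10859 (tt N9352 F40679) (tt N6904 (iv D21083)) (tt N13283 (iv F46864)) (tt N7540 F40675) (tt N7471 F40676) (tt N7668 (iv F40678)) (tt N6905 F40677))
theorem Q10861 : ∀ i, i < 10861 → P i := stepQ 10860 Q10860 (allL N10860 (tt N6905 (iv D21084)) (tt N13602 (iv F47850)) (tt N13284 (iv F46868)) (tt N10314 F40680) (tt N7472 F40681) (tt N11883 (iv F43042)) (tt N9352 F40682))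
theorem Q10862 : ∀ i, i < 10862 → P i := stepQ 10861 Q10861 (allL N10861 (tt N13284 (iv F46867)) (tt N6923 F40683) (tt N6905 (iv D21085)) (tt N15031 D25298) (tt N7473 F40684) (tt N14747 (iv F50945)) (tt N13283 (iv F46866)))
theorem Q10863 : ∀ i, i < 10863 → P i := stepQ 10862 Q10862 (allL N10862 (tt N10862 F40685) (tt N6927 F40686) (tt N10856 (iv F40688)) (tt N6906 (iv D21086)) (tt N11776 (iv F42776)) (tt N10855 F40689) (tt N10862 F40687))
theorem Q10864 : ∀ i, i < 10864 → P i := stepQ 10863 Q10863 (allL N10863 (tt N10863 F40690) (tt N7284 F40691) (tt N6907 F40692) (tt N10855 F40693) (tt N7475 F40694) (tt N6906 (iv D21087)) (tt N10863 F40695))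
theorem Q10865 : ∀ i, i < 10865 → P i := stepQ 10864 Q10864 (allL N10864 (tt N9353 (iv F40699)) (tt N6907 (iv D21088)) (tt N13344 (iv F47054)) (tt N7585 F40696) (tt N7476 F40697) (tt N6908 F40698) (tt N7832 F40700))
theorem Q10866 : ∀ i, i < 10866 → P i := stepQ 10865 Q10865 (allL N10865 (tt N6908 (iv D21089)) (tt N13599 (iv F47840)) (tt N13345 (iv F47058)) (tt N10351 F40701) (tt N7477 F40702) (tt N9353 F40703) (tt N12092 (iv F43586)))
theorem Q10867 : ∀ i, i < 10867 → P i := stepQ 10866 Q10866 (allL N10866 (tt N13345 (iv F47057)) (tt N6931 F40704) (tt N6908 (iv D21090)) (tt N15032 D25299) (tt N7478 F40705) (tt N13344 (iv F47055)) (tt N14768 (iv F51022)))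
theorem Q10868 : ∀ i, i < 10868 → P i := stepQ 10867 Q10867 (allL N10867 (tt N9982 F40706) (tt N6909 (iv D21091)) (tt N15033 D25300) (tt N6917 F40707) (tt N9491 F40708) (tt N9531 (iv F40709)) (tt N14249 (iv F49710)))
theorem Q10869 : ∀ i, i < 10869 → P i := stepQ 10868 Q10868 (allL N10868 (tt N6910 F40710) (tt N15034 D25301) (tt N6909 (iv D21092)) (tt N15035 D25302) (tt N9970 F40711) (tt N6952 F40712) (tt N10931 (iv F40871)))
theorem Q10870 : ∀ i, i < 10870 → P i := stepQ 10869 Q10869 (allL N10869 (tt N15035 (iv F51919)) (tt N12844 (iv F45815)) (tt N15036 D25303) (tt N6910 (iv D21093)) (tt N15037 D25304) (tt N6954 F40713) (tt N15038 D25305))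
theorem Q10871 : ∀ i, i < 10871 → P i := stepQ 10870 Q10870 (allL N10870 (tt N10931 (iv F40869)) (tt N15039 D25306) (tt N6911 F40714) (tt N15038 (iv F51930)) (tt N14200 (iv F49593)) (tt N10925 (iv F40863)) (tt N6910 (iv D21094)))
theorem Q10872 : ∀ i, i < 10872 → P i := stepQ 10871 Q10871 (allL N10871 (tt N14272 (iv F49775)) (tt N6911 (iv D21095)) (tt N15040 D25307) (tt N6921 F40715) (tt N14201 (iv F49596)) (tt N11222 (iv F41507)) (tt N6912 F40716))
theorem Q10873 : ∀ i, i < 10873 → P i := stepQ 10872 Q10872 (allL N10872 (tt N6912 (iv D21096)) (tt N11215 (iv F41485)) (tt N15041 D25308) (tt N6922 F40717) (tt N11136 (iv F41339)) (tt N7160 (iv F40718)) (tt N14272 (iv F49778)))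
theorem Q10874 : ∀ i, i < 10874 → P i := stepQ 10873 Q10873 (allL N10873 (tt N15041 (iv F51932)) (tt N8635 F40719) (tt N6912 (iv D21097)) (tt N15042 D25309) (tt N14202 (iv F49600)) (tt N15043 D25310) (tt N15040 (iv F51931)))
theorem Q10875 : ∀ i, i < 10875 → P i := stepQ 10874 Q10874 (allL N10874 (tt N7160 F40720) (tt N8626 F40721) (tt N15043 (iv F51936)) (tt N6924 F40722) (tt N11134 (iv F41335)) (tt N6912 (iv D21098)) (tt N15044 D25311))
theorem Q10876 : ∀ i, i < 10876 → P i := stepQ 10875 Q10875 (allL N10875 (tt N10000 F40723) (tt N6913 (iv D21099)) (tt N15045 D25312) (tt N6925 F40724) (tt N9492 F40725) (tt N14268 (iv F49757)) (tt N9544 (iv F40726)))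
theorem Q10877 : ∀ i, i < 10877 → P i := stepQ 10876 Q10876 (allL N10876 (tt N6914 F40727) (tt N15046 D25313) (tt N6913 (iv D21100)) (tt N15047 D25314) (tt N9972 F40728) (tt N10941 (iv F40892)) (tt N6958 F40729))
theorem Q10878 : ∀ i, i < 10878 → P i := stepQ 10877 Q10877 (allL N10877 (tt N15047 (iv F51946)) (tt N12850 (iv F45825)) (tt N15048 D25315) (tt N6914 (iv D21101)) (tt N15049 D25316) (tt N15050 D25317) (tt N6960 F40730))
theorem Q10879 : ∀ i, i < 10879 → P i := stepQ 10878 Q10878 (allL N10878 (tt N10941 (iv F40890)) (tt N15051 D25318) (tt N6915 F40731) (tt N15050 (iv F51957)) (tt N14204 (iv F49604)) (tt N6914 (iv D21102)) (tt N10935 (iv F40884)))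
theorem Q10880 : ∀ i, i < 10880 → P i := stepQ 10879 Q10879 (allL N10879 (tt N14252 (iv F49723)) (tt N6915 (iv D21103)) (tt N15052 D25319) (tt N6929 F40732) (tt N14205 (iv F49607)) (tt N6916 F40733) (tt N11152 (iv F41366)))
theorem Q10881 : ∀ i, i < 10881 → P i := stepQ 10880 Q10880 (allL N10880 (tt N6916 (iv D21104)) (tt N11146 (iv F41352)) (tt N15053 D25320) (tt N6930 F40734) (tt N11206 (iv F41469)) (tt N14252 (iv F49726)) (tt N7120 (iv F40735)))
theorem Q10882 : ∀ i, i < 10882 → P i := stepQ 10881 Q10881 (allL N10881 (tt N15053 (iv F51959)) (tt N8630 F40736) (tt N6916 (iv D21105)) (tt N15054 D25321) (tt N14206 (iv F49611)) (tt N15052 (iv F51958)) (tt N15055 D25322))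
theorem Q10883 : ∀ i, i < 10883 → P i := stepQ 10882 Q10882 (allL N10882 (tt N7120 F40737) (tt N8623 F40738) (tt N15055 (iv F51963)) (tt N6932 F40739) (tt N11203 (iv F41461)) (tt N15056 D25323) (tt N6916 (iv D21106)))
theorem Q10884 : ∀ i, i < 10884 → P i := stepQ 10883 Q10883 (allL N10883 (tt N6919 F40740) (tt N7371 F40741) (tt N14705 (iv F50798)) (tt N6918 (iv D21107)) (tt N12605 (iv F45120)) (tt N6966 F40742) (tt N10951 (iv F40917)))
theorem Q10885 : ∀ i, i < 10885 → P i := stepQ 10884 Q10884 (allL N10884 (tt N10951 (iv F40915)) (tt N11264 F41604) (tt N14708 (iv F50808)) (tt N6920 F40743) (tt N14707 (iv F50806)) (tt N10944 (iv F40900)) (tt N6919 (iv D21108)))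
theorem Q10886 : ∀ i, i < 10886 → P i := stepQ 10885 Q10885 (allL N10885 (tt N14376 (iv F50020)) (tt N11245 F41557) (tt N6921 (iv D21109)) (tt N15057 D25324) (tt N7483 F40744) (tt N11524 (iv F42163)) (tt N6923 F40745))
theorem Q10887 : ∀ i, i < 10887 → P i := stepQ 10886 Q10886 (allL N10886 (tt N6923 F40746) (tt N14478 F50261) (tt N6922 (iv D21110)) (tt N15058 D25325) (tt N7484 F40747) (tt N7358 F40748) (tt N14376 (iv F50023)))
theorem Q10888 : ∀ i, i < 10888 → P i := stepQ 10887 Q10887 (allL N10887 (tt N15058 (iv F51970)) (tt N15031 (iv F51913)) (tt N15059 D25326) (tt N6923 (iv D21111)) (tt N15060 D25327) (tt N15061 D25328) (tt N15057 (iv F51969)))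
theorem Q10889 : ∀ i, i < 10889 → P i := stepQ 10888 Q10888 (allL N10888 (tt N7358 F40749) (tt N11589 F42307) (tt N6924 F40750) (tt N15061 (iv F51974)) (tt N7486 F40751) (tt N6923 (iv D21112)) (tt N11595 (iv F42319)))
theorem Q10890 : ∀ i, i < 10890 → P i := stepQ 10889 Q10889 (allL N10889 (tt N7349 F40752) (tt N7178 F40753) (tt N11595 (iv F42317)) (tt N15044 (iv F51940)) (tt N7487 F40754) (tt N10071 F40755) (tt N6924 (iv D21113)))
theorem Q10891 : ∀ i, i < 10891 → P i := stepQ 10890 Q10890 (allL N10890 (tt N6927 F40756) (tt N7402 F40757) (tt N14724 (iv F50861)) (tt N6926 (iv D21114)) (tt N12612 (iv F45140)) (tt N10963 (iv F40947)) (tt N6977 F40758))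
theorem Q10892 : ∀ i, i < 10892 → P i := stepQ 10891 Q10891 (allL N10891 (tt N10963 (iv F40945)) (tt N11423 F41943) (tt N14727 (iv F50871)) (tt N6928 F40759) (tt N14726 (iv F50869)) (tt N6927 (iv D21115)) (tt N10956 (iv F40930)))
theorem Q10893 : ∀ i, i < 10893 → P i := stepQ 10892 Q10892 (allL N10892 (tt N14321 (iv F49884)) (tt N11406 F41902) (tt N6929 (iv D21116)) (tt N15062 D25329) (tt N7492 F40760) (tt N6931 F40761) (tt N11365 (iv F41817)))
theorem Q10894 : ∀ i, i < 10894 → P i := stepQ 10893 Q10893 (allL N10893 (tt N6931 F40762) (tt N14527 F50373) (tt N6930 (iv D21117)) (tt N15063 D25330) (tt N7493 F40763) (tt N14321 (iv F49886)) (tt N7258 F40764))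
theorem Q10895 : ∀ i, i < 10895 → P i := stepQ 10894 Q10894 (allL N10894 (tt N15063 (iv F51976)) (tt N15032 (iv F51914)) (tt N15064 D25331) (tt N6931 (iv D21118)) (tt N15065 D25332) (tt N15062 (iv F51975)) (tt N15066 D25333))
theorem Q10896 : ∀ i, i < 10896 → P i := stepQ 10895 Q10895 (allL N10895 (tt N7258 F40765) (tt N11640 F42427) (tt N6932 F40766) (tt N15066 (iv F51980)) (tt N7495 F40767) (tt N11646 (iv F42438)) (tt N6931 (iv D21119)))
theorem Q10897 : ∀ i, i < 10897 → P i := stepQ 10896 Q10896 (allL N10896 (tt N7248 F40768) (tt N7279 F40769) (tt N11646 (iv F42436)) (tt N15056 (iv F51967)) (tt N7496 F40770) (tt N6932 (iv D21120)) (tt N10037 F40771))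
theorem Q10898 : ∀ i, i < 10898 → P i := stepQ 10897 Q10897 (allL N10897 (tt N10897 F40772) (tt N6934 F40773) (tt N15067 D25334) (tt N6933 (iv D21121)) (tt N10897 F40774) (tt N10897 F40775) (tt N10897 F40776))
theorem Q10899 : ∀ i, i < 10899 → P i := stepQ 10898 Q10898 (allL N10898 (tt N6937 F40777) (tt N10898 F40778) (tt N10898 F40779) (tt N6935 F40780) (tt N10898 F40781) (tt N6934 (iv D21122)) (tt N10903 (iv F40801)))
theorem Q10900 : ∀ i, i < 10900 → P i := stepQ 10899 Q10899 (allL N10899 (tt N6938 F40782) (tt N10899 F40783) (tt N10899 F40784) (tt N6936 F40785) (tt N10899 F40786) (tt N10901 (iv F40793)) (tt N6934 (iv D21123)))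
theorem Q10901 : ∀ i, i < 10901 → P i := stepQ 10900 Q10900 (allL N10900 (tt N10909 (iv F40811)) (tt N6937 (iv D21124)) (tt N10908 (iv F40812)) (tt N6939 F40787) (tt N10900 F40788) (tt N6943 F40789) (tt N10966 (iv F40955)))
theorem Q10902 : ∀ i, i < 10902 → P i := stepQ 10901 Q10901 (allL N10901 (tt N10903 (iv F40797)) (tt N15068 D25335) (tt N10901 F40790) (tt N6940 F40791) (tt N10901 F40792) (tt N10899 F40793) (tt N6937 (iv D21125)))
theorem Q10903 : ∀ i, i < 10903 → P i := stepQ 10902 Q10902 (allL N10902 (tt N10912 F40836) (tt N6938 (iv D21126)) (tt N10911 (iv F40838)) (tt N6941 F40794) (tt N10902 F40795) (tt N10967 (iv F40958)) (tt N6944 F40796))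
theorem Q10904 : ∀ i, i < 10904 → P i := stepQ 10903 Q10903 (allL N10903 (tt N10901 F40797) (tt N15069 D25336) (tt N10903 F40798) (tt N6942 F40799) (tt N10903 F40800) (tt N6938 (iv D21127)) (tt N10898 F40801))
theorem Q10905 : ∀ i, i < 10905 → P i := stepQ 10904 Q10904 (allL N10904 (tt N10969 (iv F40965)) (tt N12824 (iv F45756)) (tt N6939 (iv D21128)) (tt N15070 D25337) (tt N14209 (iv F49613)) (tt N6946 F40802) (tt N10971 (iv F40970)))
theorem Q10906 : ∀ i, i < 10906 → P i := stepQ 10905 Q10905 (allL N10905 (tt N15071 D25338) (tt N6940 (iv D21129)) (tt N15072 D25339) (tt N15068 (iv F51987)) (tt N14210 (iv F49616)) (tt N10905 F40803) (tt N10970 (iv F40968)))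
theorem Q10907 : ∀ i, i < 10907 → P i := stepQ 10906 Q10906 (allL N10906 (tt N10974 (iv F40985)) (tt N12828 (iv F45763)) (tt N6941 (iv D21130)) (tt N15073 D25340) (tt N14211 (iv F49619)) (tt N10976 (iv F40990)) (tt N6949 F40804))
theorem Q10908 : ∀ i, i < 10908 → P i := stepQ 10907 Q10907 (allL N10907 (tt N15074 D25341) (tt N6942 (iv D21131)) (tt N15075 D25342) (tt N15069 (iv F51990)) (tt N14212 (iv F49622)) (tt N10975 (iv F40988)) (tt N10907 F40805))
theorem Q10909 : ∀ i, i < 10909 → P i := stepQ 10908 Q10908 (allL N10908 (tt N6943 (iv D21132)) (tt N10908 F40806) (tt N10900 F40812) (tt N6945 F40807) (tt N10908 F40808) (tt N10909 F40813) (tt N15076 D25343))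
theorem Q10910 : ∀ i, i < 10910 → P i := stepQ 10909 Q10909 (allL N10909 (tt N10900 F40811) (tt N6985 F40809) (tt N6943 (iv D21133)) (tt N6991 F40814) (tt N10909 F40810) (tt N10908 (iv F40813)) (tt N6986 (iv F40817)))
theorem Q10911 : ∀ i, i < 10911 → P i := stepQ 10910 Q10910 (allL N10910 (tt N15076 (iv F52001)) (tt N10913 (iv F40827)) (tt N6986 F40818) (tt N6947 F40819) (tt N10910 F40820) (tt N6986 F40821) (tt N6943 (iv D21134)))
theorem Q10912 : ∀ i, i < 10912 → P i := stepQ 10911 Q10911 (allL N10911 (tt N6944 (iv D21135)) (tt N10911 F40822) (tt N10902 F40838) (tt N6948 F40823) (tt N10911 F40824) (tt N15077 D25344) (tt N10912 (iv F40837)))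
theorem Q10913 : ∀ i, i < 10913 → P i := stepQ 10912 Q10912 (allL N10912 (tt N10902 (iv F40836)) (tt N6987 F40825) (tt N6944 (iv D21136)) (tt N6996 (iv F40835)) (tt N10912 F40826) (tt N6988 F40832) (tt N10911 F40837))
theorem Q10914 : ∀ i, i < 10914 → P i := stepQ 10913 Q10913 (allL N10913 (tt N15077 (iv F52006)) (tt N10910 F40827) (tt N6988 (iv F40831)) (tt N6950 F40828) (tt N10913 F40829) (tt N6944 (iv D21137)) (tt N6988 (iv F40830)))
theorem Q10915 : ∀ i, i < 10915 → P i := stepQ 10914 Q10914 (allL N10914 (tt N6946 F40839) (tt N14401 (iv F50091)) (tt N6945 (iv D21138)) (tt N15078 D25345) (tt N14213 (iv F49625)) (tt N10969 (iv F40966)) (tt N15079 D25346))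
theorem Q10916 : ∀ i, i < 10916 → P i := stepQ 10915 Q10915 (allL N10915 (tt N6947 F40840) (tt N15074 (iv F52156)) (tt N15079 (iv F52014)) (tt N15076 (iv F52003)) (tt N14214 (iv F49628)) (tt N6992 F40841) (tt N6945 (iv D21139)))
theorem Q10917 : ∀ i, i < 10917 → P i := stepQ 10916 Q10916 (allL N10916 (tt N15078 (iv F52011)) (tt N6954 F40842) (tt N15070 (iv F51994)) (tt N6946 (iv D21140)) (tt N15080 D25348) (tt N15070 (iv F51993)) (tt N15081 D25349))
theorem Q10918 : ∀ i, i < 10918 → P i := stepQ 10917 Q10917 (allL N10917 (tt N15079 (iv F52013)) (tt N15082 D25350) (tt N6947 F40843) (tt N15081 (iv F52018)) (tt N14216 (iv F49632)) (tt N6993 (iv F40844)) (tt N6946 (iv D21141)))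
theorem Q10919 : ∀ i, i < 10919 → P i := stepQ 10918 Q10918 (allL N10918 (tt N6949 F40845) (tt N14423 (iv F50145)) (tt N6948 (iv D21142)) (tt N15083 D25351) (tt N14217 (iv F49635)) (tt N15084 D25352) (tt N10974 (iv F40987)))
theorem Q10920 : ∀ i, i < 10920 → P i := stepQ 10919 Q10919 (allL N10919 (tt N6950 F40846) (tt N15071 (iv F52155)) (tt N15084 (iv F52025)) (tt N15077 (iv F52008)) (tt N14218 (iv F49638)) (tt N6948 (iv D21143)) (tt N6997 F40847))
theorem Q10921 : ∀ i, i < 10921 → P i := stepQ 10920 Q10920 (allL N10920 (tt N15083 (iv F52022)) (tt N6960 F40848) (tt N15073 (iv F51998)) (tt N6949 (iv D21144)) (tt N15085 D25354) (tt N15086 D25355) (tt N15073 (iv F51997)))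
theorem Q10922 : ∀ i, i < 10922 → P i := stepQ 10921 Q10921 (allL N10921 (tt N15084 (iv F52024)) (tt N15087 D25356) (tt N6950 F40849) (tt N15086 (iv F52029)) (tt N14220 (iv F49642)) (tt N6949 (iv D21145)) (tt N6998 (iv F40850)))
theorem Q10923 : ∀ i, i < 10923 → P i := stepQ 10922 Q10922 (allL N10922 (tt N9957 F40851) (tt N9531 F40852) (tt N9957 F40853) (tt N6963 F40854) (tt N9392 F40855) (tt N6951 (iv D21146)) (tt N8684 (iv F40856)))
theorem Q10924 : ∀ i, i < 10924 → P i := stepQ 10923 Q10923 (allL N10923 (tt N12553 F44914) (tt N8679 (iv F40858)) (tt N12553 (iv F44909)) (tt N6964 F40857) (tt N12942 (iv F46049)) (tt N12942 (iv F46050)) (tt N6951 (iv D21147)))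
theorem Q10925 : ∀ i, i < 10925 → P i := stepQ 10924 Q10924 (allL N10924 (tt N6954 F40859) (tt N9559 F40860) (tt N10947 (iv F40908)) (tt N6952 (iv D21148)) (tt N15088 D25357) (tt N15035 (iv F51920)) (tt N15089 D25358))
theorem Q10926 : ∀ i, i < 10926 → P i := stepQ 10925 Q10925 (allL N10925 (tt N6955 F40861) (tt N15090 D25359) (tt N6953 F40862) (tt N15089 (iv F52039)) (tt N14222 (iv F49647)) (tt N10870 F40863) (tt N6952 (iv D21149)))
theorem Q10927 : ∀ i, i < 10927 → P i := stepQ 10926 Q10926 (allL N10926 (tt N11221 (iv F41499)) (tt N6953 (iv D21150)) (tt N8680 (iv F40866)) (tt N6968 F40864) (tt N11153 (iv F41370)) (tt N7156 (iv F40867)) (tt N8679 F40865))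
theorem Q10928 : ∀ i, i < 10928 → P i := stepQ 10927 Q10927 (allL N10927 (tt N10947 (iv F40906)) (tt N14289 (iv F49812)) (tt N6954 (iv D21151)) (tt N10943 (iv F40897)) (tt N14286 (iv F49806)) (tt N15036 (iv F51925)) (tt N15091 D25360))
theorem Q10929 : ∀ i, i < 10929 → P i := stepQ 10928 Q10928 (allL N10928 (tt N15088 (iv F52034)) (tt N15080 (iv F52017)) (tt N14286 F49807) (tt N14223 (iv F49649)) (tt N6954 (iv D21152)) (tt N15037 (iv F51929)) (tt N15092 D25361))
theorem Q10930 : ∀ i, i < 10930 → P i := stepQ 10929 Q10929 (allL N10929 (tt N15089 (iv F52038)) (tt N15093 D25362) (tt N15091 (iv F52042)) (tt N6955 F40868) (tt N15092 (iv F52043)) (tt N15094 D25363) (tt N6954 (iv D21153)))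
theorem Q10931 : ∀ i, i < 10931 → P i := stepQ 10930 Q10930 (allL N10930 (tt N15095 D25364) (tt N6955 (iv D21154)) (tt N11023 (iv F41075)) (tt N15093 (iv F52044)) (tt N14225 (iv F49651)) (tt N15096 D25365) (tt N15082 (iv F52021)))
theorem Q10932 : ∀ i, i < 10932 → P i := stepQ 10931 Q10931 (allL N10931 (tt N10870 F40869) (tt N15097 D25366) (tt N6956 F40870) (tt N15094 (iv F52046)) (tt N14226 (iv F49654)) (tt N6955 (iv D21155)) (tt N10868 F40871))
theorem Q10933 : ∀ i, i < 10933 → P i := stepQ 10932 Q10932 (allL N10932 (tt N12550 (iv F44904)) (tt N8691 (iv F40873)) (tt N12550 (iv F44899)) (tt N6974 F40872) (tt N12926 (iv F46017)) (tt N6957 (iv D21156)) (tt N12926 (iv F46019)))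
theorem Q10934 : ∀ i, i < 10934 → P i := stepQ 10933 Q10933 (allL N10933 (tt N9963 F40874) (tt N9544 F40875) (tt N9963 F40876) (tt N6975 F40877) (tt N9397 F40878) (tt N8672 (iv F40879)) (tt N6957 (iv D21157)))
theorem Q10935 : ∀ i, i < 10935 → P i := stepQ 10934 Q10934 (allL N10934 (tt N6960 F40880) (tt N9597 F40881) (tt N10959 (iv F40938)) (tt N6958 (iv D21158)) (tt N15098 D25367) (tt N15099 D25368) (tt N15047 (iv F51947)))
theorem Q10936 : ∀ i, i < 10936 → P i := stepQ 10935 Q10935 (allL N10935 (tt N6961 F40882) (tt N15100 D25369) (tt N6959 F40883) (tt N15099 (iv F52054)) (tt N14228 (iv F49659)) (tt N6958 (iv D21159)) (tt N10878 F40884))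
theorem Q10937 : ∀ i, i < 10937 → P i := stepQ 10936 Q10936 (allL N10936 (tt N11153 (iv F41367)) (tt N6959 (iv D21160)) (tt N8692 (iv F40887)) (tt N6979 F40885) (tt N11221 (iv F41502)) (tt N8691 F40886) (tt N7115 (iv F40888)))
theorem Q10938 : ∀ i, i < 10938 → P i := stepQ 10937 Q10937 (allL N10937 (tt N10959 (iv F40936)) (tt N14344 (iv F49949)) (tt N6960 (iv D21161)) (tt N10955 (iv F40927)) (tt N14341 (iv F49943)) (tt N15101 D25370) (tt N15048 (iv F51952)))
theorem Q10939 : ∀ i, i < 10939 → P i := stepQ 10938 Q10938 (allL N10938 (tt N15098 (iv F52049)) (tt N15085 (iv F52028)) (tt N14341 F49944) (tt N14229 (iv F49661)) (tt N6960 (iv D21162)) (tt N15102 D25371) (tt N15049 (iv F51956)))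
theorem Q10940 : ∀ i, i < 10940 → P i := stepQ 10939 Q10939 (allL N10939 (tt N15099 (iv F52053)) (tt N15103 D25372) (tt N15101 (iv F52057)) (tt N6961 F40889) (tt N15102 (iv F52058)) (tt N6960 (iv D21163)) (tt N15104 D25373))
theorem Q10941 : ∀ i, i < 10941 → P i := stepQ 10940 Q10940 (allL N10940 (tt N15105 D25374) (tt N6961 (iv D21164)) (tt N10999 (iv F41030)) (tt N15103 (iv F52059)) (tt N14231 (iv F49663)) (tt N15087 (iv F52032)) (tt N15106 D25375))
theorem Q10942 : ∀ i, i < 10942 → P i := stepQ 10941 Q10941 (allL N10941 (tt N10878 F40890) (tt N15107 D25376) (tt N6962 F40891) (tt N15104 (iv F52061)) (tt N14232 (iv F49666)) (tt N10876 F40892) (tt N6961 (iv D21165)))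
theorem Q10943 : ∀ i, i < 10943 → P i := stepQ 10942 Q10942 (allL N10942 (tt N11568 (iv F42262)) (tt N11277 F41628) (tt N13647 (iv F47987)) (tt N12596 (iv F45074)) (tt N7501 F40893) (tt N11566 (iv F42257)) (tt N6965 (iv D21166)))
theorem Q10944 : ∀ i, i < 10944 → P i := stepQ 10943 Q10943 (allL N10943 (tt N6969 F40894) (tt N10303 F40895) (tt N6966 (iv D21167)) (tt N10927 F40897) (tt N10301 F40896) (tt N14705 (iv F50799)) (tt N15108 D25377))
theorem Q10945 : ∀ i, i < 10945 → P i := stepQ 10944 Q10944 (allL N10944 (tt N6971 F40898) (tt N15109 D25378) (tt N15108 (iv F52065)) (tt N6967 F40899) (tt N12606 (iv F45123)) (tt N10884 F40900) (tt N6966 (iv D21168)))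
theorem Q10946 : ∀ i, i < 10946 → P i := stepQ 10945 Q10945 (allL N10945 (tt N11280 (iv F41632)) (tt N6967 (iv D21169)) (tt N15110 D25379) (tt N15109 (iv F52069)) (tt N7504 F40901) (tt N7188 F40902) (tt N11277 (iv F41627)))
theorem Q10947 : ∀ i, i < 10947 → P i := stepQ 10946 Q10946 (allL N10946 (tt N7740 F40903) (tt N15110 (iv F52072)) (tt N6968 (iv D21170)) (tt N15111 D25380) (tt N7505 F40904) (tt N7347 F40905) (tt N11513 (iv F42135)))
theorem Q10948 : ∀ i, i < 10948 → P i := stepQ 10947 Q10947 (allL N10947 (tt N10927 F40906) (tt N8857 F40907) (tt N10924 F40908) (tt N6969 (iv D21171)) (tt N14299 (iv F49837)) (tt N14298 F49833) (tt N15112 D25381))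
theorem Q10949 : ∀ i, i < 10949 → P i := stepQ 10948 Q10948 (allL N10948 (tt N15108 (iv F52064)) (tt N15113 D25382) (tt N6971 F40909) (tt N15112 (iv F52081)) (tt N12809 (iv F45707)) (tt N15114 D25383) (tt N6969 (iv D21172)))
theorem Q10950 : ∀ i, i < 10950 → P i := stepQ 10949 Q10949 (allL N10949 (tt N12606 (iv F45121)) (tt N15115 D25384) (tt N12809 (iv F45705)) (tt N7506 F40910) (tt N6971 F40911) (tt N15116 D25385) (tt N6970 (iv D21173)))
theorem Q10951 : ∀ i, i < 10951 → P i := stepQ 10950 Q10950 (allL N10950 (tt N7042 (iv F40914)) (tt N6971 (iv D21174)) (tt N15117 D25386) (tt N6972 F40912) (tt N15115 (iv F52088)) (tt N15118 D25387) (tt N10950 F40913))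
theorem Q10952 : ∀ i, i < 10952 → P i := stepQ 10951 Q10951 (allL N10951 (tt N10884 F40915) (tt N15119 D25388) (tt N15114 (iv F52084)) (tt N6973 F40916) (tt N15116 (iv F52094)) (tt N6971 (iv D21175)) (tt N10883 F40917))
theorem Q10953 : ∀ i, i < 10953 → P i := stepQ 10952 Q10952 (allL N10952 (tt N7044 F40918) (tt N11318 (iv F41716)) (tt N11099 (iv F41249)) (tt N15118 (iv F52099)) (tt N7509 F40919) (tt N6972 (iv D21176)) (tt N7044 F40920))
theorem Q10954 : ∀ i, i < 10954 → P i := stepQ 10953 Q10953 (allL N10953 (tt N11321 (iv F41722)) (tt N6973 (iv D21177)) (tt N14535 (iv F50394)) (tt N15119 (iv F52101)) (tt N7510 F40921) (tt N11318 (iv F41718)) (tt N7219 F40922))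
theorem Q10955 : ∀ i, i < 10955 → P i := stepQ 10954 Q10954 (allL N10954 (tt N11620 (iv F42381)) (tt N11437 F41971) (tt N13649 (iv F47994)) (tt N12598 (iv F45083)) (tt N7515 F40923) (tt N6976 (iv D21178)) (tt N11618 (iv F42376)))
theorem Q10956 : ∀ i, i < 10956 → P i := stepQ 10955 Q10955 (allL N10955 (tt N6980 F40924) (tt N10340 F40925) (tt N6977 (iv D21179)) (tt N10937 F40927) (tt N10338 F40926) (tt N15120 D25389) (tt N14724 (iv F50862)))
theorem Q10957 : ∀ i, i < 10957 → P i := stepQ 10956 Q10956 (allL N10956 (tt N6982 F40928) (tt N15121 D25390) (tt N15120 (iv F52104)) (tt N6978 F40929) (tt N12611 (iv F45135)) (tt N6977 (iv D21180)) (tt N10891 F40930))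
theorem Q10958 : ∀ i, i < 10958 → P i := stepQ 10957 Q10957 (allL N10957 (tt N11440 (iv F41975)) (tt N6978 (iv D21181)) (tt N15122 D25391) (tt N15121 (iv F52108)) (tt N7518 F40931) (tt N11437 (iv F41970)) (tt N7288 F40932))
theorem Q10959 : ∀ i, i < 10959 → P i := stepQ 10958 Q10958 (allL N10958 (tt N7901 F40933) (tt N15122 (iv F52111)) (tt N6979 (iv D21182)) (tt N15123 D25392) (tt N7519 F40934) (tt N11355 (iv F41797)) (tt N7246 F40935))
theorem Q10960 : ∀ i, i < 10960 → P i := stepQ 10959 Q10959 (allL N10959 (tt N10937 F40936) (tt N8871 F40937) (tt N10934 F40938) (tt N6980 (iv D21183)) (tt N14355 (iv F49975)) (tt N15124 D25393) (tt N14353 F49970))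
theorem Q10961 : ∀ i, i < 10961 → P i := stepQ 10960 Q10960 (allL N10960 (tt N15120 (iv F52103)) (tt N15125 D25394) (tt N6982 F40939) (tt N15124 (iv F52120)) (tt N12813 (iv F45719)) (tt N6980 (iv D21184)) (tt N15126 D25395))
theorem Q10962 : ∀ i, i < 10962 → P i := stepQ 10961 Q10961 (allL N10961 (tt N12611 (iv F45133)) (tt N15127 D25396) (tt N12813 (iv F45717)) (tt N7520 F40940) (tt N6982 F40941) (tt N6981 (iv D21185)) (tt N15128 D25397))
theorem Q10963 : ∀ i, i < 10963 → P i := stepQ 10962 Q10962 (allL N10962 (tt N7070 (iv F40944)) (tt N6982 (iv D21186)) (tt N15129 D25398) (tt N6983 F40942) (tt N15127 (iv F52127)) (tt N10962 F40943) (tt N15130 D25399))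
theorem Q10964 : ∀ i, i < 10964 → P i := stepQ 10963 Q10963 (allL N10963 (tt N10891 F40945) (tt N15131 D25400) (tt N15126 (iv F52123)) (tt N6984 F40946) (tt N15128 (iv F52133)) (tt N10890 F40947) (tt N6982 (iv D21187)))
theorem Q10965 : ∀ i, i < 10965 → P i := stepQ 10964 Q10964 (allL N10964 (tt N7072 F40948) (tt N11477 (iv F42060)) (tt N11061 (iv F41160)) (tt N15130 (iv F52138)) (tt N7523 F40949) (tt N7072 F40950) (tt N6983 (iv D21188)))
theorem Q10966 : ∀ i, i < 10966 → P i := stepQ 10965 Q10965 (allL N10965 (tt N11480 (iv F42066)) (tt N6984 (iv D21189)) (tt N14486 (iv F50282)) (tt N15131 (iv F52140)) (tt N7524 F40951) (tt N7319 F40952) (tt N11477 (iv F42062)))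
theorem Q10967 : ∀ i, i < 10967 → P i := stepQ 10966 Q10966 (allL N10966 (tt N6986 (iv D21190)) (tt N15132 D25401) (tt N15076 (iv F52002)) (tt N6992 F40953) (tt N10966 F40954) (tt N15076 (iv F52005)) (tt N10900 F40955))
theorem Q10968 : ∀ i, i < 10968 → P i := stepQ 10967 Q10967 (allL N10967 (tt N6988 (iv D21191)) (tt N15133 D25402) (tt N15077 (iv F52007)) (tt N6997 F40956) (tt N10967 F40957) (tt N10902 F40958) (tt N15077 (iv F52010)))
theorem Q10969 : ∀ i, i < 10969 → P i := stepQ 10968 Q10968 (allL N10968 (tt N10968 F40959) (tt N7003 F40960) (tt N6989 (iv D21192)) (tt N6990 F40962) (tt N6989 (iv F40963)) (tt N10968 F40961) (tt N6989 (iv F40964)))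
theorem Q10970 : ∀ i, i < 10970 → P i := stepQ 10969 Q10969 (allL N10969 (tt N10904 F40965) (tt N14250 (iv F49713)) (tt N6991 (iv D21193)) (tt N15134 D25403) (tt N14237 (iv F49676)) (tt N10914 F40966) (tt N6993 F40967))
theorem Q10971 : ∀ i, i < 10971 → P i := stepQ 10970 Q10970 (allL N10970 (tt N15135 D25404) (tt N6992 (iv D21194)) (tt N15136 D25405) (tt N15132 (iv F52142)) (tt N14238 (iv F49680)) (tt N15135 (iv F52154)) (tt N10905 F40968))
theorem Q10972 : ∀ i, i < 10972 → P i := stepQ 10971 Q10971 (allL N10971 (tt N6993 F40969) (tt N15137 D25406) (tt N6992 (iv D21195)) (tt N15138 D25407) (tt N14239 (iv F49683)) (tt N15079 (iv F52015)) (tt N10904 F40970))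
theorem Q10973 : ∀ i, i < 10973 → P i := stepQ 10972 Q10972 (allL N10972 (tt N15138 (iv F52158)) (tt N7012 F40971) (tt N15139 D25408) (tt N6993 (iv D21196)) (tt N15140 D25409) (tt N15081 F52019) (tt N15134 (iv F52152)))
theorem Q10974 : ∀ i, i < 10974 → P i := stepQ 10973 Q10973 (allL N10973 (tt N10973 F40972) (tt N7019 F40973) (tt N6994 (iv D21197)) (tt N6995 F40975) (tt N6994 F40984) (tt N6994 (iv F40977)) (tt N10973 F40974))
theorem Q10975 : ∀ i, i < 10975 → P i := stepQ 10974 Q10974 (allL N10974 (tt N10906 F40985) (tt N14270 (iv F49765)) (tt N6996 (iv D21198)) (tt N15141 D25410) (tt N14241 (iv F49688)) (tt N6998 F40986) (tt N10918 F40987))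
theorem Q10976 : ∀ i, i < 10976 → P i := stepQ 10975 Q10975 (allL N10975 (tt N15142 D25411) (tt N6997 (iv D21199)) (tt N15143 D25412) (tt N15133 (iv F52145)) (tt N14242 (iv F49692)) (tt N10907 F40988) (tt N15142 (iv F52173)))
theorem Q10977 : ∀ i, i < 10977 → P i := stepQ 10976 Q10976 (allL N10976 (tt N6998 F40989) (tt N15144 D25413) (tt N6997 (iv D21200)) (tt N15145 D25414) (tt N14243 (iv F49695)) (tt N10906 F40990) (tt N15084 (iv F52026)))
theorem Q10978 : ∀ i, i < 10978 → P i := stepQ 10977 Q10977 (allL N10977 (tt N15145 (iv F52175)) (tt N7028 F40991) (tt N15146 D25415) (tt N6998 (iv D21201)) (tt N15147 D25416) (tt N15141 (iv F52169)) (tt N15086 F52030))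
theorem Q10979 : ∀ i, i < 10979 → P i := stepQ 10978 Q10978 (allL N10978 (tt N13719 (iv F48259)) (tt N12868 (iv F45884)) (tt N7000 F40992) (tt N9496 F40993) (tt N14246 (iv F49700)) (tt N6999 (iv D21202)) (tt N15148 D25417))
theorem Q10980 : ∀ i, i < 10980 → P i := stepQ 10979 Q10979 (allL N10979 (tt N13773 (iv F48406)) (tt N15149 D25418) (tt N7001 F40994) (tt N9567 F40995) (tt N14247 (iv F49702)) (tt N15150 D25419) (tt N6999 (iv D21203)))
theorem Q10981 : ∀ i, i < 10981 → P i := stepQ 10980 Q10980 (allL N10980 (tt N10981 (iv F40998)) (tt N14269 (iv F49760)) (tt N15148 (iv F52183)) (tt N7031 F40996) (tt N14248 (iv F49705)) (tt N9532 F40997) (tt N7000 (iv D21204)))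
theorem Q10982 : ∀ i, i < 10982 → P i := stepQ 10981 Q10981 (allL N10981 (tt N10980 F40998) (tt N11213 F41482) (tt N15150 (iv F52189)) (tt N7032 F40999) (tt N14249 (iv F49709)) (tt N7001 (iv D21205)) (tt N9491 F41000))
theorem Q10983 : ∀ i, i < 10983 → P i := stepQ 10982 Q10982 (allL N10982 (tt N11032 (iv F41105)) (tt N15151 D25420) (tt N7004 F41001) (tt N7212 F41002) (tt N12921 (iv F46008)) (tt N7209 F41003) (tt N7002 (iv D21206)))
theorem Q10984 : ∀ i, i < 10984 → P i := stepQ 10983 Q10983 (allL N10983 (tt N7092 F41004) (tt N7004 F41005) (tt N12921 (iv F46006)) (tt N7005 F41006) (tt N7004 F41007) (tt N11108 (iv F41276)) (tt N7003 (iv D21207)))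
theorem Q10985 : ∀ i, i < 10985 → P i := stepQ 10984 Q10984 (allL N10984 (tt N7005 (iv D21208)) (tt N15152 D25421) (tt N15153 D25422) (tt N7092 F41008) (tt N10096 F41009) (tt N10094 F41011) (tt N7090 F41010))
theorem Q10986 : ∀ i, i < 10986 → P i := stepQ 10985 Q10985 (allL N10985 (tt N15153 (iv F52196)) (tt N7007 F41012) (tt N7005 (iv D21209)) (tt N15154 D25423) (tt N14251 (iv F49721)) (tt N14456 (iv F50228)) (tt N14250 F49716))
theorem Q10987 : ∀ i, i < 10987 → P i := stepQ 10986 Q10986 (allL N10986 (tt N10094 F41013) (tt N11113 (iv F41280)) (tt N14456 (iv F50226)) (tt N11108 (iv F41274)) (tt N10086 F41014) (tt N7005 (iv D21210)) (tt N9984 F41015))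
theorem Q10988 : ∀ i, i < 10988 → P i := stepQ 10987 Q10987 (allL N10987 (tt N14205 (iv F49605)) (tt N7006 (iv D21211)) (tt N15155 D25424) (tt N7045 F41016) (tt N14252 (iv F49725)) (tt N11206 F41470) (tt N15156 D25425))
theorem Q10989 : ∀ i, i < 10989 → P i := stepQ 10988 Q10988 (allL N10988 (tt N7007 F41017) (tt N15157 D25426) (tt N7006 (iv D21212)) (tt N15158 D25427) (tt N14253 (iv F49728)) (tt N11000 (iv F41033)) (tt N7010 F41018))
theorem Q10990 : ∀ i, i < 10990 → P i := stepQ 10989 Q10989 (allL N10989 (tt N15158 (iv F52208)) (tt N15154 (iv F52200)) (tt N15159 D25428) (tt N7007 (iv D21213)) (tt N15160 D25429) (tt N15161 D25430) (tt N7012 F41019))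
theorem Q10991 : ∀ i, i < 10991 → P i := stepQ 10990 Q10990 (allL N10990 (tt N11000 (iv F41031)) (tt N15162 D25431) (tt N7008 F41020) (tt N15161 (iv F52212)) (tt N14255 (iv F49733)) (tt N7007 (iv D21214)) (tt N10995 (iv F41028)))
theorem Q10992 : ∀ i, i < 10992 → P i := stepQ 10991 Q10991 (allL N10991 (tt N13786 (iv F48455)) (tt N15163 D25432) (tt N7009 (iv D21215)) (tt N9624 F41021) (tt N14256 (iv F49734)) (tt N14422 F50144) (tt N15164 D25433))
theorem Q10993 : ∀ i, i < 10993 → P i := stepQ 10992 Q10992 (allL N10992 (tt N10102 F41022) (tt N15156 (iv F52204)) (tt N15164 (iv F52216)) (tt N7049 F41023) (tt N11173 (iv F41395)) (tt N10107 (iv F41024)) (tt N7009 (iv D21216)))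
theorem Q10994 : ∀ i, i < 10994 → P i := stepQ 10993 Q10993 (allL N10993 (tt N15165 D25434) (tt N7010 (iv D21217)) (tt N15163 (iv F52213)) (tt N15166 D25435) (tt N14257 (iv F49736)) (tt N15167 D25436) (tt N15168 D25437))
theorem Q10995 : ∀ i, i < 10995 → P i := stepQ 10994 Q10994 (allL N10994 (tt N7012 F41025) (tt N15166 (iv F52219)) (tt N11055 (iv F41150)) (tt N7010 (iv D21218)) (tt N15169 D25438) (tt N15170 D25439) (tt N15158 (iv F52209)))
theorem Q10996 : ∀ i, i < 10996 → P i := stepQ 10995 Q10995 (allL N10995 (tt N7013 F41026) (tt N15171 D25440) (tt N7011 F41027) (tt N15170 (iv F52222)) (tt N14259 (iv F49740)) (tt N7010 (iv D21219)) (tt N10990 F41028))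
theorem Q10997 : ∀ i, i < 10997 → P i := stepQ 10996 Q10996 (allL N10996 (tt N11055 (iv F41149)) (tt N15172 D25441) (tt N7012 (iv D21220)) (tt N11051 (iv F41141)) (tt N15173 D25442) (tt N15174 D25443) (tt N15159 (iv F52210)))
theorem Q10998 : ∀ i, i < 10998 → P i := stepQ 10997 Q10997 (allL N10997 (tt N15169 (iv F52220)) (tt N15140 (iv F52165)) (tt N15173 (iv F52224)) (tt N14261 (iv F49742)) (tt N7012 (iv D21221)) (tt N15175 D25444) (tt N15160 (iv F52211)))
theorem Q10999 : ∀ i, i < 10999 → P i := stepQ 10998 Q10998 (allL N10998 (tt N15170 (iv F52221)) (tt N15176 D25445) (tt N15174 (iv F52225)) (tt N7013 F41029) (tt N15175 (iv F52226)) (tt N7012 (iv D21222)) (tt N15177 D25446))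
theorem Q11000 : ∀ i, i < 11000 → P i := stepQ 10999 Q10999 (allL N10999 (tt N15178 D25447) (tt N7013 (iv D21223)) (tt N10940 F41030) (tt N15176 (iv F52227)) (tt N14263 (iv F49745)) (tt N15082 (iv F52020)) (tt N15179 D25448))
theorem Q11001 : ∀ i, i < 11001 → P i := stepQ 11000 Q11000 (allL N11000 (tt N10990 F41031) (tt N15180 D25449) (tt N7014 F41032) (tt N15177 (iv F52229)) (tt N14264 (iv F49748)) (tt N10988 F41033) (tt N7013 (iv D21224)))
theorem Q11002 : ∀ i, i < 11002 → P i := stepQ 11001 Q11001 (allL N11001 (tt N10101 (iv F41036)) (tt N7014 (iv D21225)) (tt N15181 D25450) (tt N7058 F41034) (tt N11148 (iv F41358)) (tt N11241 (iv F41544)) (tt N10099 F41035))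
theorem Q11003 : ∀ i, i < 11003 → P i := stepQ 11002 Q11002 (allL N11002 (tt N13781 (iv F48434)) (tt N15182 D25451) (tt N7016 F41037) (tt N9605 F41038) (tt N14266 (iv F49752)) (tt N7015 (iv D21226)) (tt N15183 D25452))
theorem Q11004 : ∀ i, i < 11004 → P i := stepQ 11003 Q11003 (allL N11003 (tt N13720 (iv F48261)) (tt N12880 (iv F45906)) (tt N7017 F41039) (tt N9512 F41040) (tt N14267 (iv F49754)) (tt N15184 D25453) (tt N7015 (iv D21227)))
theorem Q11005 : ∀ i, i < 11005 → P i := stepQ 11004 Q11004 (allL N11004 (tt N11005 (iv F41043)) (tt N11144 F41350) (tt N15183 (iv F52241)) (tt N7059 F41041) (tt N14268 (iv F49756)) (tt N9492 F41042) (tt N7016 (iv D21228)))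
theorem Q11006 : ∀ i, i < 11006 → P i := stepQ 11005 Q11005 (allL N11005 (tt N11004 F41043) (tt N14248 (iv F49703)) (tt N15184 (iv F52245)) (tt N7060 F41044) (tt N14269 (iv F49762)) (tt N7017 (iv D21229)) (tt N9545 F41045))
theorem Q11007 : ∀ i, i < 11007 → P i := stepQ 11006 Q11006 (allL N11006 (tt N11070 (iv F41189)) (tt N15185 D25454) (tt N7020 F41046) (tt N7312 F41047) (tt N12937 (iv F46040)) (tt N7018 (iv D21230)) (tt N7309 F41048))
theorem Q11008 : ∀ i, i < 11008 → P i := stepQ 11007 Q11007 (allL N11007 (tt N7131 F41049) (tt N7020 F41050) (tt N12937 (iv F46038)) (tt N7021 F41051) (tt N7020 F41052) (tt N7019 (iv D21231)) (tt N11179 (iv F41414)))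
theorem Q11009 : ∀ i, i < 11009 → P i := stepQ 11008 Q11008 (allL N11008 (tt N7021 (iv D21232)) (tt N15186 D25455) (tt N15187 D25456) (tt N7131 F41053) (tt N10115 F41054) (tt N7130 F41055) (tt N10113 (iv F41056)))
theorem Q11010 : ∀ i, i < 11010 → P i := stepQ 11009 Q11009 (allL N11009 (tt N15187 (iv F52252)) (tt N7023 F41057) (tt N7021 (iv D21233)) (tt N15188 D25457) (tt N14271 (iv F49773)) (tt N14270 F49768) (tt N14505 (iv F50334)))
theorem Q11011 : ∀ i, i < 11011 → P i := stepQ 11010 Q11010 (allL N11010 (tt N10113 F41058) (tt N11183 (iv F41417)) (tt N14505 (iv F50332)) (tt N11179 (iv F41412)) (tt N10105 F41059) (tt N10001 F41060) (tt N7021 (iv D21234)))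
theorem Q11012 : ∀ i, i < 11012 → P i := stepQ 11011 Q11011 (allL N11011 (tt N14201 (iv F49594)) (tt N7022 (iv D21235)) (tt N15189 D25458) (tt N7073 F41061) (tt N14272 (iv F49777)) (tt N15190 D25459) (tt N11136 F41340))
theorem Q11013 : ∀ i, i < 11013 → P i := stepQ 11012 Q11012 (allL N11012 (tt N7023 F41062) (tt N15191 D25460) (tt N7022 (iv D21236)) (tt N15192 D25461) (tt N14273 (iv F49780)) (tt N7026 F41063) (tt N11024 (iv F41078)))
theorem Q11014 : ∀ i, i < 11014 → P i := stepQ 11013 Q11013 (allL N11013 (tt N15192 (iv F52264)) (tt N15188 (iv F52256)) (tt N15193 D25462) (tt N7023 (iv D21237)) (tt N15194 D25463) (tt N7028 F41064) (tt N15195 D25464))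
theorem Q11015 : ∀ i, i < 11015 → P i := stepQ 11014 Q11014 (allL N11014 (tt N11024 (iv F41076)) (tt N15196 D25465) (tt N7024 F41065) (tt N15195 (iv F52268)) (tt N14275 (iv F49785)) (tt N11019 (iv F41073)) (tt N7023 (iv D21238)))
theorem Q11016 : ∀ i, i < 11016 → P i := stepQ 11015 Q11015 (allL N11015 (tt N13778 (iv F48426)) (tt N15197 D25466) (tt N7025 (iv D21239)) (tt N9586 F41066) (tt N14276 (iv F49786)) (tt N15198 D25467) (tt N14400 (iv F50090)))
theorem Q11017 : ∀ i, i < 11017 → P i := stepQ 11016 Q11016 (allL N11016 (tt N10084 F41067) (tt N15190 (iv F52260)) (tt N15198 (iv F52272)) (tt N7077 F41068) (tt N11103 (iv F41261)) (tt N7025 (iv D21240)) (tt N10088 F41069))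
theorem Q11018 : ∀ i, i < 11018 → P i := stepQ 11017 Q11017 (allL N11017 (tt N15199 D25468) (tt N7026 (iv D21241)) (tt N15197 (iv F52269)) (tt N15200 D25469) (tt N14277 (iv F49788)) (tt N15201 D25470) (tt N15202 D25471))
theorem Q11019 : ∀ i, i < 11019 → P i := stepQ 11018 Q11018 (allL N11018 (tt N7028 F41070) (tt N15200 (iv F52275)) (tt N11093 (iv F41237)) (tt N7026 (iv D21242)) (tt N15203 D25472) (tt N15192 (iv F52265)) (tt N15204 D25473))
theorem Q11020 : ∀ i, i < 11020 → P i := stepQ 11019 Q11019 (allL N11019 (tt N7029 F41071) (tt N15205 D25474) (tt N7027 F41072) (tt N15204 (iv F52278)) (tt N14279 (iv F49792)) (tt N11014 F41073) (tt N7026 (iv D21243)))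
theorem Q11021 : ∀ i, i < 11021 → P i := stepQ 11020 Q11020 (allL N11020 (tt N11093 (iv F41236)) (tt N15206 D25475) (tt N7028 (iv D21244)) (tt N11089 (iv F41228)) (tt N15207 D25476) (tt N15193 (iv F52266)) (tt N15208 D25477))
theorem Q11022 : ∀ i, i < 11022 → P i := stepQ 11021 Q11021 (allL N11021 (tt N15203 (iv F52276)) (tt N15147 (iv F52182)) (tt N15207 (iv F52280)) (tt N14281 (iv F49794)) (tt N7028 (iv D21245)) (tt N15194 (iv F52267)) (tt N15209 D25478))
theorem Q11023 : ∀ i, i < 11023 → P i := stepQ 11022 Q11022 (allL N11022 (tt N15204 (iv F52277)) (tt N15210 D25479) (tt N15208 (iv F52281)) (tt N7029 F41074) (tt N15209 (iv F52282)) (tt N15211 D25480) (tt N7028 (iv D21246)))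
theorem Q11024 : ∀ i, i < 11024 → P i := stepQ 11023 Q11023 (allL N11023 (tt N15212 D25481) (tt N7029 (iv D21247)) (tt N10930 F41075) (tt N15210 (iv F52283)) (tt N14283 (iv F49797)) (tt N15213 D25482) (tt N15087 (iv F52033)))
theorem Q11025 : ∀ i, i < 11025 → P i := stepQ 11024 Q11024 (allL N11024 (tt N11014 F41076) (tt N15214 D25483) (tt N7030 F41077) (tt N15211 (iv F52285)) (tt N14284 (iv F49800)) (tt N7029 (iv D21248)) (tt N11012 F41078))
theorem Q11026 : ∀ i, i < 11026 → P i := stepQ 11025 Q11025 (allL N11025 (tt N10120 (iv F41081)) (tt N7030 (iv D21249)) (tt N15215 D25484) (tt N7086 F41079) (tt N11217 (iv F41492)) (tt N10118 F41080) (tt N11172 (iv F41393)))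
theorem Q11027 : ∀ i, i < 11027 → P i := stepQ 11026 Q11026 (allL N11026 (tt N7035 F41082) (tt N11026 F41083) (tt N9187 F41084) (tt N8783 F41085) (tt N7530 F41086) (tt N7033 (iv D21250)) (tt N11031 (iv F41104)))
theorem Q11028 : ∀ i, i < 11028 → P i := stepQ 11027 Q11027 (allL N11027 (tt N7036 F41087) (tt N11568 (iv F42266)) (tt N13496 (iv F47472)) (tt N8784 F41088) (tt N7531 F41089) (tt N11030 (iv F41101)) (tt N7033 (iv D21251)))
theorem Q11029 : ∀ i, i < 11029 → P i := stepQ 11028 Q11028 (allL N11028 (tt N8783 F41090) (tt N7185 F41091) (tt N8786 F41092) (tt N7035 F41093) (tt N9074 F41094) (tt N7034 (iv D21252)) (tt N13100 (iv F46438)))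
theorem Q11030 : ∀ i, i < 11030 → P i := stepQ 11029 Q11029 (allL N11029 (tt N8784 F41095) (tt N11310 (iv F41699)) (tt N8787 F41096) (tt N7036 F41097) (tt N9075 F41098) (tt N13099 (iv F46433)) (tt N7034 (iv D21253)))
theorem Q11031 : ∀ i, i < 11031 → P i := stepQ 11030 Q11030 (allL N11030 (tt N11031 (iv F41102)) (tt N15216 D25485) (tt N9192 F41099) (tt N13100 (iv F46436)) (tt N7536 F41100) (tt N11027 F41101) (tt N7035 (iv D21254)))
theorem Q11032 : ∀ i, i < 11032 → P i := stepQ 11031 Q11031 (allL N11031 (tt N11030 F41102) (tt N11569 F43068) (tt N13492 (iv F47452)) (tt N13099 (iv F46431)) (tt N7537 F41103) (tt N7036 (iv D21255)) (tt N11026 F41104))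
theorem Q11033 : ∀ i, i < 11033 → P i := stepQ 11032 Q11032 (allL N11032 (tt N10982 F41105) (tt N15217 D25486) (tt N7103 F41106) (tt N7040 F41107) (tt N8670 F41108) (tt N7100 F41109) (tt N7039 (iv D21256)))
theorem Q11034 : ∀ i, i < 11034 → P i := stepQ 11033 Q11033 (allL N11033 (tt N12916 (iv F45988)) (tt N7040 (iv D21257)) (tt N15218 D25487) (tt N15217 (iv F52299)) (tt N8283 F41110) (tt N12914 (iv F45985)) (tt N8248 F41111))
theorem Q11035 : ∀ i, i < 11035 → P i := stepQ 11034 Q11034 (allL N11034 (tt N15115 F52090) (tt N7041 (iv D21258)) (tt N15219 D25488) (tt N7541 F41112) (tt N7042 F41113) (tt N15220 D25489) (tt N11034 F41114))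
theorem Q11036 : ∀ i, i < 11036 → P i := stepQ 11035 Q11035 (allL N11035 (tt N15117 (iv F52096)) (tt N15218 (iv F52302)) (tt N7042 (iv D21259)) (tt N15221 D25490) (tt N15219 (iv F52306)) (tt N15222 D25491) (tt N11035 F41115))
theorem Q11037 : ∀ i, i < 11037 → P i := stepQ 11036 Q11036 (allL N11036 (tt N15118 (iv F52098)) (tt N11274 (iv F41620)) (tt N15222 (iv F52312)) (tt N7044 F41116) (tt N15220 (iv F52310)) (tt N7042 (iv D21260)) (tt N15118 (iv F52100)))
theorem Q11038 : ∀ i, i < 11038 → P i := stepQ 11037 Q11037 (allL N11037 (tt N11097 F41244) (tt N7047 F41117) (tt N15223 D25492) (tt N7043 (iv D21261)) (tt N15224 D25493) (tt N15225 D25494) (tt N11037 F41118))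
theorem Q11039 : ∀ i, i < 11039 → P i := stepQ 11038 Q11038 (allL N11038 (tt N11099 (iv F41248)) (tt N15226 D25495) (tt N7044 F41119) (tt N15225 (iv F52317)) (tt N7545 F41120) (tt N7043 (iv D21262)) (tt N11099 (iv F41251)))
theorem Q11040 : ∀ i, i < 11040 → P i := stepQ 11039 Q11039 (allL N11039 (tt N11969 (iv F43273)) (tt N12285 (iv F44107)) (tt N7045 (iv D21263)) (tt N15227 D25496) (tt N7546 F41121) (tt N11485 F42079) (tt N13829 (iv F48565)))
theorem Q11041 : ∀ i, i < 11041 → P i := stepQ 11040 Q11040 (allL N11040 (tt N7325 F41122) (tt N7049 F41123) (tt N13829 (iv F48562)) (tt N15156 (iv F52205)) (tt N7547 F41124) (tt N7323 F41125) (tt N7045 (iv D21264)))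
theorem Q11042 : ∀ i, i < 11042 → P i := stepQ 11041 Q11041 (allL N11041 (tt N12287 (iv F44110)) (tt N7046 (iv D21265)) (tt N12285 (iv F44108)) (tt N15228 D25497) (tt N7548 F41126) (tt N15229 D25498) (tt N15230 D25499))
theorem Q11043 : ∀ i, i < 11043 → P i := stepQ 11042 Q11042 (allL N11042 (tt N7047 F41127) (tt N15228 (iv F52322)) (tt N15231 D25500) (tt N7046 (iv D21266)) (tt N15232 D25501) (tt N11060 (iv F41159)) (tt N7051 F41128))
theorem Q11044 : ∀ i, i < 11044 → P i := stepQ 11043 Q11043 (allL N11043 (tt N15231 (iv F52329)) (tt N15233 D25502) (tt N7047 (iv D21267)) (tt N15234 D25503) (tt N15235 D25504) (tt N15236 D25505) (tt N7053 F41129))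
theorem Q11045 : ∀ i, i < 11045 → P i := stepQ 11044 Q11044 (allL N11044 (tt N15232 (iv F52332)) (tt N15224 (iv F52314)) (tt N15235 (iv F52338)) (tt N7551 F41130) (tt N7047 (iv D21268)) (tt N15237 D25506) (tt N7054 F41131))
theorem Q11046 : ∀ i, i < 11046 → P i := stepQ 11045 Q11045 (allL N11045 (tt N11060 (iv F41157)) (tt N15238 D25507) (tt N15236 (iv F52340)) (tt N7048 F41132) (tt N15237 (iv F52342)) (tt N7047 (iv D21269)) (tt N11053 (iv F41146)))
theorem Q11047 : ∀ i, i < 11047 → P i := stepQ 11046 Q11046 (allL N11046 (tt N15239 D25508) (tt N7048 (iv D21270)) (tt N11288 (iv F41646)) (tt N15238 (iv F52343)) (tt N7553 F41133) (tt N15226 (iv F52320)) (tt N15229 (iv F52324)))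
theorem Q11048 : ∀ i, i < 11048 → P i := stepQ 11047 Q11047 (allL N11047 (tt N7050 (iv D21271)) (tt N15240 D25509) (tt N13784 (iv F48444)) (tt N15241 D25510) (tt N7555 F41134) (tt N13819 F48527) (tt N15242 D25511))
theorem Q11049 : ∀ i, i < 11049 → P i := stepQ 11048 Q11048 (allL N11048 (tt N15241 (iv F52349)) (tt N7051 F41135) (tt N15243 D25512) (tt N7050 (iv D21272)) (tt N15244 D25513) (tt N15245 D25514) (tt N15246 D25515))
theorem Q11050 : ∀ i, i < 11050 → P i := stepQ 11049 Q11049 (allL N11049 (tt N13819 (iv F48524)) (tt N15247 D25516) (tt N13785 (iv F48451)) (tt N15245 (iv F52361)) (tt N7557 F41136) (tt N7050 (iv D21273)) (tt N13817 (iv F48522)))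
theorem Q11051 : ∀ i, i < 11051 → P i := stepQ 11050 Q11050 (allL N11050 (tt N15242 (iv F52352)) (tt N15230 (iv F52326)) (tt N9575 F41137) (tt N15246 (iv F52362)) (tt N7558 F41138) (tt N9577 (iv F41139)) (tt N7050 (iv D21274)))
theorem Q11052 : ∀ i, i < 11052 → P i := stepQ 11051 Q11051 (allL N11051 (tt N7053 F41140) (tt N15248 D25517) (tt N7051 (iv D21275)) (tt N10996 F41141) (tt N15249 D25518) (tt N15250 D25519) (tt N15231 (iv F52330)))
theorem Q11053 : ∀ i, i < 11053 → P i := stepQ 11052 Q11052 (allL N11052 (tt N7054 F41142) (tt N15244 (iv F52359)) (tt N15249 (iv F52368)) (tt N7560 F41143) (tt N7051 (iv D21276)) (tt N15251 D25520) (tt N15232 (iv F52334)))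
theorem Q11054 : ∀ i, i < 11054 → P i := stepQ 11053 Q11053 (allL N11053 (tt N7055 F41144) (tt N15252 D25521) (tt N15250 (iv F52371)) (tt N7052 F41145) (tt N15251 (iv F52376)) (tt N7051 (iv D21277)) (tt N11045 F41146))
theorem Q11055 : ∀ i, i < 11055 → P i := stepQ 11054 Q11054 (allL N11054 (tt N15253 D25522) (tt N7052 (iv D21278)) (tt N14389 (iv F50058)) (tt N15252 (iv F52378)) (tt N7562 F41147) (tt N15247 (iv F52365)) (tt N15254 D25523))
theorem Q11056 : ∀ i, i < 11056 → P i := stepQ 11055 Q11055 (allL N11055 (tt N10996 F41149) (tt N13231 (iv F58170)) (tt N10994 F41150) (tt N7053 (iv D21280)) (tt N15255 D25529) (tt N15256 D25530) (tt N15234 (iv F52337)))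
theorem Q11057 : ∀ i, i < 11057 → P i := stepQ 11056 Q11056 (allL N11056 (tt N15249 (iv F52367)) (tt N9644 (iv F58172)) (tt N7054 F41151) (tt N15257 D25531) (tt N7053 (iv D21281)) (tt N15258 D25532) (tt N15235 (iv F52339)))
theorem Q11058 : ∀ i, i < 11058 → P i := stepQ 11057 Q11057 (allL N11057 (tt N15250 (iv F52370)) (tt N15259 D25533) (tt N7055 F41152) (tt N15256 (iv F52395)) (tt N15258 (iv F52399)) (tt N7053 (iv D21282)) (tt N15260 D25534))
theorem Q11059 : ∀ i, i < 11059 → P i := stepQ 11058 Q11058 (allL N11058 (tt N15251 (iv F52374)) (tt N15261 D25535) (tt N15258 (iv F52398)) (tt N7564 F41153) (tt N7055 F41154) (tt N7054 (iv D21283)) (tt N15262 D25536))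
theorem Q11060 : ∀ i, i < 11060 → P i := stepQ 11059 Q11059 (allL N11059 (tt N11075 (iv F41201)) (tt N7055 (iv D21284)) (tt N15263 D25537) (tt N7056 F41155) (tt N15261 (iv F52404)) (tt N11059 F41156) (tt N15264 D25538))
theorem Q11061 : ∀ i, i < 11061 → P i := stepQ 11060 Q11060 (allL N11060 (tt N11045 F41157) (tt N15265 D25539) (tt N15260 (iv F52401)) (tt N7057 F41158) (tt N15262 (iv F52408)) (tt N11042 F41159) (tt N7055 (iv D21285)))
theorem Q11062 : ∀ i, i < 11062 → P i := stepQ 11061 Q11061 (allL N11061 (tt N11076 (iv F41204)) (tt N15266 D25540) (tt N10964 F41160) (tt N15264 (iv F52411)) (tt N7567 F41161) (tt N11076 (iv F41207)) (tt N7056 (iv D21286)))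
theorem Q11063 : ∀ i, i < 11063 → P i := stepQ 11062 Q11062 (allL N11062 (tt N15267 D25541) (tt N7057 (iv D21287)) (tt N15268 D25542) (tt N15265 (iv F52412)) (tt N7568 F41162) (tt N15254 (iv F52384)) (tt N15266 (iv F52414)))
theorem Q11064 : ∀ i, i < 11064 → P i := stepQ 11063 Q11063 (allL N11063 (tt N10152 F41163) (tt N15268 (iv F52419)) (tt N7058 (iv D21288)) (tt N12918 (iv F45994)) (tt N7569 F41164) (tt N11561 (iv F42237)) (tt N10151 F41165))
theorem Q11065 : ∀ i, i < 11065 → P i := stepQ 11064 Q11064 (allL N11064 (tt N7063 F41166) (tt N11620 F42385) (tt N13499 F47488) (tt N8820 F41167) (tt N7575 F41168) (tt N7061 (iv D21289)) (tt N11069 (iv F41188)))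
theorem Q11066 : ∀ i, i < 11066 → P i := stepQ 11065 Q11065 (allL N11065 (tt N7064 F41169) (tt N11065 F41170) (tt N9227 F41171) (tt N8821 F41172) (tt N7576 F41173) (tt N11068 (iv F41184)) (tt N7061 (iv D21290)))
theorem Q11067 : ∀ i, i < 11067 → P i := stepQ 11066 Q11066 (allL N11066 (tt N8820 F41174) (tt N11469 (iv F42043)) (tt N8823 F41175) (tt N7063 F41176) (tt N9128 F41177) (tt N7062 (iv D21291)) (tt N13159 (iv F46561)))
theorem Q11068 : ∀ i, i < 11068 → P i := stepQ 11067 Q11067 (allL N11067 (tt N8821 F41178) (tt N7287 F41179) (tt N8824 F41180) (tt N7064 F41181) (tt N9129 F41182) (tt N13158 (iv F46556)) (tt N7062 (iv D21292)))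
theorem Q11069 : ∀ i, i < 11069 → P i := stepQ 11068 Q11068 (allL N11068 (tt N11069 (iv F41185)) (tt N11621 F43619) (tt N13522 (iv F47557)) (tt N13159 (iv F46559)) (tt N7581 F41183) (tt N11065 F41184) (tt N7063 (iv D21293)))
theorem Q11070 : ∀ i, i < 11070 → P i := stepQ 11069 Q11069 (allL N11069 (tt N11068 F41185) (tt N15269 D25543) (tt N9231 F41186) (tt N13158 (iv F46554)) (tt N7582 F41187) (tt N7064 (iv D21294)) (tt N11064 F41188))
theorem Q11071 : ∀ i, i < 11071 → P i := stepQ 11070 Q11070 (allL N11070 (tt N11006 F41189) (tt N15270 D25544) (tt N7143 F41190) (tt N7068 F41191) (tt N8682 F41192) (tt N7067 (iv D21295)) (tt N7140 F41193))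
theorem Q11072 : ∀ i, i < 11072 → P i := stepQ 11071 Q11071 (allL N11071 (tt N12901 (iv F45948)) (tt N7068 (iv D21296)) (tt N15271 D25545) (tt N15270 (iv F52425)) (tt N8292 F41194) (tt N8250 F41195) (tt N12899 F45945))
theorem Q11073 : ∀ i, i < 11073 → P i := stepQ 11072 Q11072 (allL N11072 (tt N15127 F52129) (tt N7069 (iv D21297)) (tt N15272 D25546) (tt N7586 F41196) (tt N7070 F41197) (tt N11072 F41198) (tt N15273 D25547))
theorem Q11074 : ∀ i, i < 11074 → P i := stepQ 11073 Q11073 (allL N11073 (tt N15129 (iv F52135)) (tt N15271 (iv F52428)) (tt N7070 (iv D21298)) (tt N15274 D25548) (tt N15272 (iv F52432)) (tt N11073 F41199) (tt N15275 D25549))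
theorem Q11075 : ∀ i, i < 11075 → P i := stepQ 11074 Q11074 (allL N11074 (tt N15130 (iv F52137)) (tt N11434 (iv F41963)) (tt N15275 (iv F52438)) (tt N7072 F41200) (tt N15273 (iv F52436)) (tt N15130 (iv F52139)) (tt N7070 (iv D21299)))
theorem Q11076 : ∀ i, i < 11076 → P i := stepQ 11075 Q11075 (allL N11075 (tt N11059 F41201) (tt N7075 F41202) (tt N15276 D25550) (tt N7071 (iv D21300)) (tt N15277 D25551) (tt N11075 F41203) (tt N15278 D25552))
theorem Q11077 : ∀ i, i < 11077 → P i := stepQ 11076 Q11076 (allL N11076 (tt N11061 F41204) (tt N15279 D25553) (tt N7072 F41205) (tt N15278 (iv F52446)) (tt N7590 F41206) (tt N11061 F41207) (tt N7071 (iv D21301)))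
theorem Q11078 : ∀ i, i < 11078 → P i := stepQ 11077 Q11077 (allL N11077 (tt N12171 (iv F43827)) (tt N12226 (iv F43957)) (tt N7073 (iv D21302)) (tt N15280 D25554) (tt N7591 F41208) (tt N13878 (iv F48685)) (tt N11325 F41733))
theorem Q11079 : ∀ i, i < 11079 → P i := stepQ 11078 Q11078 (allL N11078 (tt N7226 F41209) (tt N7077 F41210) (tt N13878 (iv F48683)) (tt N15190 (iv F52261)) (tt N7592 F41211) (tt N7073 (iv D21303)) (tt N7223 F41212))
theorem Q11080 : ∀ i, i < 11080 → P i := stepQ 11079 Q11079 (allL N11079 (tt N12228 (iv F43960)) (tt N7074 (iv D21304)) (tt N12226 (iv F43958)) (tt N15281 D25555) (tt N7593 F41213) (tt N15282 D25556) (tt N15283 D25557))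
theorem Q11081 : ∀ i, i < 11081 → P i := stepQ 11080 Q11080 (allL N11080 (tt N7075 F41214) (tt N15281 (iv F52452)) (tt N15284 D25558) (tt N7074 (iv D21305)) (tt N15285 D25559) (tt N7079 F41215) (tt N11098 (iv F41247)))
theorem Q11082 : ∀ i, i < 11082 → P i := stepQ 11081 Q11081 (allL N11081 (tt N15284 (iv F52459)) (tt N15286 D25560) (tt N7075 (iv D21306)) (tt N15287 D25561) (tt N15288 D25562) (tt N7081 F41216) (tt N15289 D25563))
theorem Q11083 : ∀ i, i < 11083 → P i := stepQ 11082 Q11082 (allL N11082 (tt N15285 (iv F52462)) (tt N15277 (iv F52442)) (tt N15288 (iv F52468)) (tt N7596 F41217) (tt N7075 (iv D21307)) (tt N7082 F41218) (tt N15290 D25564))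
theorem Q11084 : ∀ i, i < 11084 → P i := stepQ 11083 Q11083 (allL N11083 (tt N11098 (iv F41245)) (tt N15291 D25565) (tt N15289 (iv F52470)) (tt N7076 F41219) (tt N15290 (iv F52472)) (tt N11091 (iv F41233)) (tt N7075 (iv D21308)))
theorem Q11085 : ∀ i, i < 11085 → P i := stepQ 11084 Q11084 (allL N11084 (tt N15292 D25566) (tt N7076 (iv D21309)) (tt N11447 (iv F41990)) (tt N15291 (iv F52473)) (tt N7598 F41220) (tt N15283 (iv F52458)) (tt N15279 (iv F52451)))
theorem Q11086 : ∀ i, i < 11086 → P i := stepQ 11085 Q11085 (allL N11085 (tt N7078 (iv D21310)) (tt N15293 D25567) (tt N13776 (iv F48415)) (tt N15294 D25568) (tt N7600 F41221) (tt N15295 D25569) (tt N13868 (iv F48648)))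
theorem Q11087 : ∀ i, i < 11087 → P i := stepQ 11086 Q11086 (allL N11086 (tt N15294 (iv F52482)) (tt N7079 F41222) (tt N15296 D25570) (tt N7078 (iv D21311)) (tt N15297 D25571) (tt N15298 D25572) (tt N15299 D25573))
theorem Q11088 : ∀ i, i < 11088 → P i := stepQ 11087 Q11087 (allL N11087 (tt N15295 (iv F52485)) (tt N15282 (iv F52454)) (tt N9613 F41223) (tt N15298 (iv F52494)) (tt N7602 F41224) (tt N7078 (iv D21312)) (tt N9615 (iv F41225)))
theorem Q11089 : ∀ i, i < 11089 → P i := stepQ 11088 Q11088 (allL N11088 (tt N13868 (iv F48645)) (tt N15300 D25574) (tt N13777 (iv F48422)) (tt N15299 (iv F52496)) (tt N7603 F41226) (tt N13866 (iv F48643)) (tt N7078 (iv D21313)))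
theorem Q11090 : ∀ i, i < 11090 → P i := stepQ 11089 Q11089 (allL N11089 (tt N7081 F41227) (tt N15301 D25575) (tt N7079 (iv D21314)) (tt N11020 F41228) (tt N15302 D25576) (tt N15284 (iv F52460)) (tt N15303 D25577))
theorem Q11091 : ∀ i, i < 11091 → P i := stepQ 11090 Q11090 (allL N11090 (tt N7082 F41229) (tt N15297 (iv F52492)) (tt N15302 (iv F52501)) (tt N7605 F41230) (tt N7079 (iv D21315)) (tt N15285 (iv F52464)) (tt N15304 D25578))
theorem Q11092 : ∀ i, i < 11092 → P i := stepQ 11091 Q11091 (allL N11091 (tt N7083 F41231) (tt N15305 D25579) (tt N15303 (iv F52504)) (tt N7080 F41232) (tt N15304 (iv F52509)) (tt N11083 F41233) (tt N7079 (iv D21316)))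
theorem Q11093 : ∀ i, i < 11093 → P i := stepQ 11092 Q11092 (allL N11092 (tt N15306 D25580) (tt N7080 (iv D21317)) (tt N14334 (iv F49922)) (tt N15305 (iv F52511)) (tt N7607 F41234) (tt N15307 D25581) (tt N15300 (iv F52498)))
theorem Q11094 : ∀ i, i < 11094 → P i := stepQ 11093 Q11093 (allL N11093 (tt N11020 F41236) (tt N13251 (iv F58270)) (tt N11018 F41237) (tt N7081 (iv D21319)) (tt N15308 D25587) (tt N15287 (iv F52467)) (tt N15309 D25588))
theorem Q11095 : ∀ i, i < 11095 → P i := stepQ 11094 Q11094 (allL N11094 (tt N15302 (iv F52500)) (tt N9650 (iv F58272)) (tt N7082 F41238) (tt N15310 D25589) (tt N7081 (iv D21320)) (tt N15288 (iv F52469)) (tt N15311 D25590))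
theorem Q11096 : ∀ i, i < 11096 → P i := stepQ 11095 Q11095 (allL N11095 (tt N15303 (iv F52503)) (tt N15312 D25591) (tt N7083 F41239) (tt N15309 (iv F52528)) (tt N15311 (iv F52532)) (tt N15313 D25592) (tt N7081 (iv D21321)))
theorem Q11097 : ∀ i, i < 11097 → P i := stepQ 11096 Q11096 (allL N11096 (tt N15304 (iv F52507)) (tt N15314 D25593) (tt N15311 (iv F52531)) (tt N7609 F41240) (tt N7083 F41241) (tt N15315 D25594) (tt N7082 (iv D21322)))
theorem Q11098 : ∀ i, i < 11098 → P i := stepQ 11097 Q11097 (allL N11097 (tt N11037 (iv F41244)) (tt N7083 (iv D21323)) (tt N15316 D25595) (tt N7084 F41242) (tt N15314 (iv F52537)) (tt N15317 D25596) (tt N11097 F41243))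
theorem Q11099 : ∀ i, i < 11099 → P i := stepQ 11098 Q11098 (allL N11098 (tt N11083 F41245) (tt N15318 D25597) (tt N15313 (iv F52534)) (tt N7085 F41246) (tt N15315 (iv F52542)) (tt N7083 (iv D21324)) (tt N11080 F41247))
theorem Q11100 : ∀ i, i < 11100 → P i := stepQ 11099 Q11099 (allL N11099 (tt N11038 F41248) (tt N15319 D25598) (tt N10952 F41249) (tt N15317 (iv F52547)) (tt N7612 F41250) (tt N7084 (iv D21325)) (tt N11038 F41251))
theorem Q11101 : ∀ i, i < 11101 → P i := stepQ 11100 Q11100 (allL N11100 (tt N15320 D25599) (tt N7085 (iv D21326)) (tt N15321 D25600) (tt N15318 (iv F52549)) (tt N7613 F41252) (tt N15319 (iv F52552)) (tt N15307 F52517))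
theorem Q11102 : ∀ i, i < 11102 → P i := stepQ 11101 Q11101 (allL N11101 (tt N10185 F41253) (tt N15321 (iv F52556)) (tt N7086 (iv D21327)) (tt N12903 (iv F45954)) (tt N7614 F41254) (tt N10184 F41255) (tt N11402 (iv F41888)))
theorem Q11103 : ∀ i, i < 11103 → P i := stepQ 11102 Q11102 (allL N11102 (tt N9999 (iv F41259)) (tt N7087 (iv D21328)) (tt N15322 D25601) (tt N7177 F41256) (tt N9545 F41257) (tt N9544 F41258) (tt N14269 (iv F49763)))
theorem Q11104 : ∀ i, i < 11104 → P i := stepQ 11103 Q11103 (allL N11103 (tt N7088 (iv D21329)) (tt N15044 (iv F51939)) (tt N15323 D25602) (tt N7178 F41260) (tt N11016 F41261) (tt N10009 F41263) (tt N7095 F41262))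
theorem Q11105 : ∀ i, i < 11105 → P i := stepQ 11104 Q11104 (allL N11104 (tt N15323 (iv F52562)) (tt N12924 (iv F46013)) (tt N7088 (iv D21330)) (tt N15324 D25603) (tt N14395 (iv F50075)) (tt N15325 D25604) (tt N7096 F41264))
theorem Q11106 : ∀ i, i < 11106 → P i := stepQ 11105 Q11105 (allL N11105 (tt N10009 F41265) (tt N11175 (iv F41400)) (tt N15325 (iv F52568)) (tt N7180 F41266) (tt N9539 F41267) (tt N7088 (iv D21331)) (tt N11116 (iv F41290)))
theorem Q11107 : ∀ i, i < 11107 → P i := stepQ 11106 Q11106 (allL N11106 (tt N7137 F41268) (tt N7089 (iv D21332)) (tt N15326 D25605) (tt N7181 F41269) (tt N13782 (iv F48438)) (tt N11175 (iv F41403)) (tt N7135 (iv F41270)))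
theorem Q11108 : ∀ i, i < 11108 → P i := stepQ 11107 Q11107 (allL N11107 (tt N14250 (iv F49712)) (tt N11292 (iv F41656)) (tt N7090 (iv D21333)) (tt N14638 (iv F50612)) (tt N10029 F41271) (tt N10134 F41272) (tt N15153 (iv F52199)))
theorem Q11109 : ∀ i, i < 11109 → P i := stepQ 11108 Q11108 (allL N11108 (tt N7101 F41273) (tt N15327 D25606) (tt N11300 (iv F41683)) (tt N10986 F41274) (tt N7093 F41275) (tt N10983 F41276) (tt N7091 (iv D21334)))
theorem Q11110 : ∀ i, i < 11110 → P i := stepQ 11109 Q11109 (allL N11109 (tt N14412 (iv F50115)) (tt N7092 (iv D21335)) (tt N15328 D25607) (tt N15152 (iv F52193)) (tt N11127 (iv F41310)) (tt N14413 (iv F50120)) (tt N7094 F41277))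
theorem Q11111 : ∀ i, i < 11111 → P i := stepQ 11110 Q11110 (allL N11110 (tt N15329 D25608) (tt N7093 (iv D21336)) (tt N15330 D25609) (tt N7094 F41278) (tt N15327 (iv F52574)) (tt N15327 (iv F52575)) (tt N15152 (iv F52195)))
theorem Q11112 : ∀ i, i < 11112 → P i := stepQ 11111 Q11111 (allL N11111 (tt N7094 (iv D21337)) (tt N14396 (iv F50078)) (tt N15331 D25610) (tt N15329 (iv F52578)) (tt N14396 (iv F50079)) (tt N15332 D25611) (tt N14412 (iv F50118)))
theorem Q11113 : ∀ i, i < 11113 → P i := stepQ 11112 Q11112 (allL N11112 (tt N15331 (iv F52579)) (tt N7096 F41279) (tt N7094 (iv D21338)) (tt N15333 D25612) (tt N14397 (iv F50082)) (tt N15334 D25613) (tt N15328 (iv F52577)))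
theorem Q11114 : ∀ i, i < 11114 → P i := stepQ 11113 Q11113 (allL N11113 (tt N15332 (iv F52580)) (tt N10986 F41280) (tt N15334 (iv F52583)) (tt N15327 (iv F52573)) (tt N11133 (iv F41323)) (tt N7094 (iv D21339)) (tt N10098 (iv F41281)))
theorem Q11115 : ∀ i, i < 11115 → P i := stepQ 11114 Q11114 (allL N11114 (tt N12522 (iv F44827)) (tt N7095 (iv D21340)) (tt N8626 F41284) (tt N7198 F41282) (tt N12866 (iv F45879)) (tt N8625 (iv F41283)) (tt N8626 F41285))
theorem Q11116 : ∀ i, i < 11116 → P i := stepQ 11115 Q11115 (allL N11115 (tt N7096 F41286) (tt N15043 F51937) (tt N7095 (iv D21341)) (tt N15335 D25614) (tt N14398 (iv F50084)) (tt N15336 D25615) (tt N15323 (iv F52565)))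
theorem Q11117 : ∀ i, i < 11117 → P i := stepQ 11116 Q11116 (allL N11116 (tt N7097 F41287) (tt N7128 F41288) (tt N15336 (iv F52588)) (tt N7200 F41289) (tt N13774 (iv F48410)) (tt N7095 (iv D21342)) (tt N11105 F41290))
theorem Q11118 : ∀ i, i < 11118 → P i := stepQ 11117 Q11117 (allL N11117 (tt N15335 (iv F52585)) (tt N15333 (iv F52582)) (tt N15337 D25616) (tt N7096 (iv D21343)) (tt N15338 D25617) (tt N15339 D25618) (tt N15324 (iv F52566)))
theorem Q11119 : ∀ i, i < 11119 → P i := stepQ 11118 Q11118 (allL N11118 (tt N15336 (iv F52586)) (tt N15340 D25619) (tt N7097 F41291) (tt N15339 (iv F52590)) (tt N14400 (iv F50089)) (tt N7096 (iv D21344)) (tt N14276 (iv F49787)))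
theorem Q11120 : ∀ i, i < 11120 → P i := stepQ 11119 Q11119 (allL N11119 (tt N7098 (iv D21345)) (tt N8589 (iv F41294)) (tt N11119 F41292) (tt N8591 F41293) (tt N14844 (iv F51291)) (tt N14844 (iv F51292)) (tt N15341 D25620))
theorem Q11121 : ∀ i, i < 11121 → P i := stepQ 11120 Q11120 (allL N11120 (tt N14844 (iv F51288)) (tt N7099 F41295) (tt N11120 F41296) (tt N11268 (iv F41613)) (tt N7098 (iv D21346)) (tt N7098 (iv F41297)) (tt N15342 D25621))
theorem Q11122 : ∀ i, i < 11122 → P i := stepQ 11121 Q11121 (allL N11121 (tt N15341 (iv F52592)) (tt N15343 D25622) (tt N11121 F41298) (tt N11269 (iv F41615)) (tt N15342 (iv F52597)) (tt N15344 D25623) (tt N7098 (iv D21347)))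
theorem Q11123 : ∀ i, i < 11123 → P i := stepQ 11122 Q11122 (allL N11122 (tt N11300 (iv F41682)) (tt N15345 D25624) (tt N7101 F41299) (tt N8702 F41300) (tt N7100 F41301) (tt N8670 F41302) (tt N7099 (iv D21348)))
theorem Q11124 : ∀ i, i < 11124 → P i := stepQ 11123 Q11123 (allL N11123 (tt N15346 D25625) (tt N7100 (iv D21349)) (tt N15347 D25626) (tt N11270 (iv F41616)) (tt N15345 (iv F52610)) (tt N15348 D25627) (tt N15343 (iv F52602)))
theorem Q11125 : ∀ i, i < 11125 → P i := stepQ 11124 Q11124 (allL N11124 (tt N14408 F50108) (tt N7101 (iv D21350)) (tt N15349 D25628) (tt N14408 (iv F50105)) (tt N7102 F41303) (tt N15350 D25629) (tt N11124 F41304))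
theorem Q11126 : ∀ i, i < 11126 → P i := stepQ 11125 Q11125 (allL N11125 (tt N14409 (iv F50109)) (tt N15347 (iv F52617)) (tt N7102 (iv D21352)) (tt N15351 D25630) (tt N15349 (iv F52621)) (tt N15352 D25631) (tt N11125 F41307))
theorem Q11127 : ∀ i, i < 11127 → P i := stepQ 11126 Q11126 (allL N11126 (tt N14410 (iv F50111)) (tt N11131 F41332) (tt N15352 (iv F52626)) (tt N7105 F41308) (tt N15350 (iv F52624)) (tt N7102 (iv D21353)) (tt N14410 (iv F50113)))
theorem Q11128 : ∀ i, i < 11128 → P i := stepQ 11127 Q11127 (allL N11127 (tt N11130 F41331) (tt N7103 (iv D21354)) (tt N15353 D25632) (tt N7106 F41309) (tt N11109 F41310) (tt N11131 (iv F41325)) (tt N10087 F41311))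
theorem Q11129 : ∀ i, i < 11129 → P i := stepQ 11128 Q11128 (allL N11128 (tt N11235 F41527) (tt N7109 F41316) (tt N15354 D25633) (tt N7104 (iv D21358)) (tt N15355 D25634) (tt N15356 D25635) (tt N11128 F41317))
theorem Q11130 : ∀ i, i < 11130 → P i := stepQ 11129 Q11129 (allL N11129 (tt N11237 (iv F41531)) (tt N15357 D25636) (tt N7105 F41318) (tt N15356 (iv F52632)) (tt N11237 (iv F41533)) (tt N7104 (iv D21359)) (tt N11237 (iv F41534)))
theorem Q11131 : ∀ i, i < 11131 → P i := stepQ 11130 Q11130 (allL N11130 (tt N11127 (iv F41331)) (tt N7105 (iv D21360)) (tt N15358 D25637) (tt N11131 F41333) (tt N14412 (iv F50116)) (tt N7106 F41319) (tt N14396 (iv F50080)))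
theorem Q11132 : ∀ i, i < 11132 → P i := stepQ 11131 Q11131 (allL N11131 (tt N7106 (iv D21361)) (tt N11126 (iv F41332)) (tt N15359 D25638) (tt N11130 (iv F41333)) (tt N14413 (iv F50119)) (tt N11127 F41325) (tt N15360 D25639))
theorem Q11133 : ∀ i, i < 11133 → P i := stepQ 11132 Q11132 (allL N11132 (tt N15359 (iv F52636)) (tt N7113 F41320) (tt N7106 (iv D21362)) (tt N15361 D25640) (tt N14414 (iv F50122)) (tt N15358 (iv F52635)) (tt N15362 D25641))
theorem Q11134 : ∀ i, i < 11134 → P i := stepQ 11133 Q11133 (allL N11133 (tt N15360 (iv F52638)) (tt N10086 F41321) (tt N15362 (iv F52644)) (tt N10087 F41322) (tt N11113 F41323) (tt N10087 F41324) (tt N7106 (iv D21363)))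
theorem Q11135 : ∀ i, i < 11135 → P i := stepQ 11134 Q11134 (allL N11134 (tt N7107 (iv D21364)) (tt N12522 (iv F44828)) (tt N15363 D25642) (tt N7223 F41334) (tt N10874 F41335) (tt N9936 (iv F41336)) (tt N15190 (iv F52263)))
theorem Q11136 : ∀ i, i < 11136 → P i := stepQ 11135 Q11135 (allL N11135 (tt N15363 (iv F52647)) (tt N15364 D25643) (tt N7107 (iv D21365)) (tt N15365 D25644) (tt N11230 (iv F41519)) (tt N15366 D25645) (tt N15367 D25646))
theorem Q11137 : ∀ i, i < 11137 → P i := stepQ 11136 Q11136 (allL N11136 (tt N9936 F41337) (tt N11172 (iv F41391)) (tt N15366 (iv F52653)) (tt N7225 F41338) (tt N10872 F41339) (tt N7107 (iv D21366)) (tt N11011 (iv F41340)))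
theorem Q11138 : ∀ i, i < 11138 → P i := stepQ 11137 Q11137 (allL N11137 (tt N15190 (iv F52259)) (tt N7116 F41341) (tt N15367 (iv F52656)) (tt N7226 F41342) (tt N11222 (iv F41506)) (tt N14201 (iv F49597)) (tt N7107 (iv D21367)))
theorem Q11139 : ∀ i, i < 11139 → P i := stepQ 11138 Q11138 (allL N11138 (tt N15368 D25647) (tt N7108 (iv D21368)) (tt N15364 (iv F52651)) (tt N15369 D25648) (tt N11229 (iv F41518)) (tt N15370 D25649) (tt N15371 D25650))
theorem Q11140 : ∀ i, i < 11140 → P i := stepQ 11139 Q11139 (allL N11139 (tt N7109 F41343) (tt N15369 (iv F52657)) (tt N11334 (iv F41751)) (tt N7108 (iv D21369)) (tt N15372 D25651) (tt N11167 (iv F41386)) (tt N7118 F41344))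
theorem Q11141 : ∀ i, i < 11141 → P i := stepQ 11140 Q11140 (allL N11140 (tt N11334 (iv F41750)) (tt N15373 D25652) (tt N7109 (iv D21370)) (tt N11331 (iv F41746)) (tt N15374 D25653) (tt N15375 D25654) (tt N7121 F41345))
theorem Q11142 : ∀ i, i < 11142 → P i := stepQ 11141 Q11141 (allL N11141 (tt N15372 (iv F52659)) (tt N15355 (iv F52630)) (tt N15374 (iv F52661)) (tt N11234 (iv F41523)) (tt N7109 (iv D21371)) (tt N15376 D25655) (tt N7122 F41346))
theorem Q11143 : ∀ i, i < 11143 → P i := stepQ 11142 Q11142 (allL N11142 (tt N11167 (iv F41384)) (tt N15377 D25656) (tt N15375 (iv F52663)) (tt N7110 F41347) (tt N15376 (iv F52666)) (tt N7109 (iv D21372)) (tt N11159 (iv F41377)))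
theorem Q11144 : ∀ i, i < 11144 → P i := stepQ 11143 Q11143 (allL N11143 (tt N15378 D25657) (tt N7110 (iv D21373)) (tt N15379 D25658) (tt N15377 (iv F52667)) (tt N11238 (iv F41535)) (tt N15357 (iv F52633)) (tt N15370 (iv F52725)))
theorem Q11145 : ∀ i, i < 11145 → P i := stepQ 11144 Q11144 (allL N11144 (tt N7111 (iv D21374)) (tt N11004 (iv F41350)) (tt N15380 D25660) (tt N7233 F41348) (tt N11239 (iv F41537)) (tt N7112 F41349) (tt N11151 (iv F41363)))
theorem Q11146 : ∀ i, i < 11146 → P i := stepQ 11145 Q11145 (allL N11145 (tt N15380 (iv F52669)) (tt N15379 (iv F52668)) (tt N7111 (iv D21375)) (tt N15381 D25661) (tt N11240 (iv F41539)) (tt N7113 F41351) (tt N15382 D25662))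
theorem Q11147 : ∀ i, i < 11147 → P i := stepQ 11146 Q11146 (allL N11146 (tt N11151 (iv F41361)) (tt N10880 F41352) (tt N15382 (iv F52672)) (tt N7235 F41353) (tt N11241 (iv F41543)) (tt N11148 (iv F41359)) (tt N7111 (iv D21376)))
theorem Q11148 : ∀ i, i < 11148 → P i := stepQ 11147 Q11147 (allL N11147 (tt N7113 F41354) (tt N15383 D25663) (tt N7112 (iv D21377)) (tt N15384 D25664) (tt N12888 F45921) (tt N15380 (iv F52670)) (tt N15385 D25665))
theorem Q11149 : ∀ i, i < 11149 → P i := stepQ 11148 Q11148 (allL N11148 (tt N7114 F41355) (tt N9997 F41356) (tt N15385 (iv F52676)) (tt N7237 F41357) (tt N11001 F41358) (tt N11146 F41359) (tt N7112 (iv D21378)))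
theorem Q11150 : ∀ i, i < 11150 → P i := stepQ 11149 Q11149 (allL N11149 (tt N15384 (iv F52674)) (tt N15361 (iv F52643)) (tt N15386 D25666) (tt N7113 (iv D21379)) (tt N15387 D25667) (tt N15381 (iv F52671)) (tt N15388 D25668))
theorem Q11151 : ∀ i, i < 11151 → P i := stepQ 11150 Q11150 (allL N11150 (tt N15385 (iv F52675)) (tt N15389 D25669) (tt N7114 F41360) (tt N15388 (iv F52679)) (tt N14415 (iv F50124)) (tt N15390 D25670) (tt N7113 (iv D21380)))
theorem Q11152 : ∀ i, i < 11152 → P i := stepQ 11151 Q11151 (allL N11151 (tt N11146 F41361) (tt N11220 (iv F41496)) (tt N15390 (iv F52682)) (tt N7240 F41362) (tt N14416 (iv F50127)) (tt N7114 (iv D21381)) (tt N11144 F41363))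
theorem Q11153 : ∀ i, i < 11153 → P i := stepQ 11152 Q11152 (allL N11152 (tt N15056 (iv F51965)) (tt N7115 (iv D21382)) (tt N15391 D25671) (tt N7248 F41364) (tt N11205 (iv F41466)) (tt N7120 F41365) (tt N10879 F41366))
theorem Q11154 : ∀ i, i < 11154 → P i := stepQ 11153 Q11153 (allL N11153 (tt N10936 F41367) (tt N9959 F41372) (tt N8687 F41368) (tt N7249 F41369) (tt N10926 F41370) (tt N7116 (iv D21383)) (tt N8686 F41371))
theorem Q11155 : ∀ i, i < 11155 → P i := stepQ 11154 Q11154 (allL N11154 (tt N7117 (iv D21384)) (tt N15392 D25672) (tt N12948 (iv F46063)) (tt N15393 D25673) (tt N11223 (iv F41509)) (tt N15394 D25674) (tt N15395 D25675))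
theorem Q11156 : ∀ i, i < 11156 → P i := stepQ 11155 Q11155 (allL N11155 (tt N15393 (iv F52687)) (tt N7118 F41373) (tt N15396 D25676) (tt N7117 (iv D21385)) (tt N15397 D25677) (tt N15398 D25678) (tt N15399 D25679))
theorem Q11157 : ∀ i, i < 11157 → P i := stepQ 11156 Q11156 (allL N11156 (tt N15394 (iv F52688)) (tt N15400 D25680) (tt N12949 (iv F46066)) (tt N15398 (iv F52691)) (tt N11225 (iv F41511)) (tt N7117 (iv D21386)) (tt N15401 D25681))
theorem Q11158 : ∀ i, i < 11158 → P i := stepQ 11157 Q11157 (allL N11157 (tt N15395 (iv F52689)) (tt N15371 (iv F52658)) (tt N12950 (iv F46069)) (tt N15399 (iv F52692)) (tt N11226 (iv F41512)) (tt N15402 D25682) (tt N7117 (iv D21387)))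
theorem Q11159 : ∀ i, i < 11159 → P i := stepQ 11158 Q11158 (allL N11158 (tt N7122 F41374) (tt N15397 (iv F52690)) (tt N11390 (iv F41860)) (tt N11227 (iv F41514)) (tt N7118 (iv D21388)) (tt N15403 D25683) (tt N15372 (iv F52660)))
theorem Q11160 : ∀ i, i < 11160 → P i := stepQ 11159 Q11159 (allL N11159 (tt N7123 F41375) (tt N15404 D25684) (tt N11391 (iv F41862)) (tt N7119 F41376) (tt N15403 (iv F52698)) (tt N7118 (iv D21389)) (tt N11142 F41377))
theorem Q11161 : ∀ i, i < 11161 → P i := stepQ 11160 Q11160 (allL N11160 (tt N15405 D25685) (tt N7119 (iv D21390)) (tt N15406 D25686) (tt N15404 (iv F52700)) (tt N11207 (iv F41471)) (tt N15400 (iv F52693)) (tt N15407 D25687))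
theorem Q11162 : ∀ i, i < 11162 → P i := stepQ 11161 Q11161 (allL N11161 (tt N15055 (iv F51962)) (tt N15406 (iv F52701)) (tt N7120 (iv D21391)) (tt N15408 D25688) (tt N11204 (iv F41463)) (tt N15391 (iv F52684)) (tt N15053 (iv F51960)))
theorem Q11163 : ∀ i, i < 11163 → P i := stepQ 11162 Q11162 (allL N11162 (tt N15409 D25689) (tt N7121 (iv D21392)) (tt N11162 F41378) (tt N11377 (iv F41837)) (tt N15410 D25690) (tt N15411 D25691) (tt N15412 D25692))
theorem Q11164 : ∀ i, i < 11164 → P i := stepQ 11163 Q11163 (allL N11163 (tt N11390 (iv F41859)) (tt N15410 (iv F52704)) (tt N7122 F41379) (tt N15413 D25693) (tt N7121 (iv D21393)) (tt N15414 D25694) (tt N15374 (iv F52662)))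
theorem Q11165 : ∀ i, i < 11165 → P i := stepQ 11164 Q11164 (allL N11164 (tt N11391 (iv F41861)) (tt N15415 D25695) (tt N7123 F41380) (tt N11379 (iv F41842)) (tt N15414 (iv F52709)) (tt N7121 (iv D21394)) (tt N15416 D25696))
theorem Q11166 : ∀ i, i < 11166 → P i := stepQ 11165 Q11165 (allL N11165 (tt N15403 (iv F52697)) (tt N15417 D25697) (tt N15414 (iv F52708)) (tt N11210 (iv F41475)) (tt N7123 F41381) (tt N7122 (iv D21395)) (tt N15418 D25698))
theorem Q11167 : ∀ i, i < 11167 → P i := stepQ 11166 Q11166 (allL N11166 (tt N11197 (iv F41443)) (tt N7123 (iv D21396)) (tt N15419 D25699) (tt N7124 F41382) (tt N15417 (iv F52714)) (tt N11166 F41383) (tt N15420 D25700))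
theorem Q11168 : ∀ i, i < 11168 → P i := stepQ 11167 Q11167 (allL N11167 (tt N11142 F41384) (tt N15421 D25701) (tt N15416 (iv F52711)) (tt N7125 F41385) (tt N15418 (iv F52717)) (tt N11139 F41386) (tt N7123 (iv D21397)))
theorem Q11169 : ∀ i, i < 11169 → P i := stepQ 11168 Q11168 (allL N11168 (tt N11198 (iv F41446)) (tt N15422 D25702) (tt N10116 F41387) (tt N15420 (iv F52720)) (tt N11198 (iv F41448)) (tt N11198 (iv F41449)) (tt N7124 (iv D21398)))
theorem Q11170 : ∀ i, i < 11170 → P i := stepQ 11169 Q11169 (allL N11169 (tt N15423 D25703) (tt N7125 (iv D21399)) (tt N15424 D25704) (tt N15421 (iv F52721)) (tt N11212 (iv F41478)) (tt N15407 F52723) (tt N15422 (iv F52722)))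
theorem Q11171 : ∀ i, i < 11171 → P i := stepQ 11170 Q11170 (allL N11170 (tt N7126 (iv D21400)) (tt N14249 (iv F49711)) (tt N15425 D25705) (tt N7266 F41388) (tt N11213 (iv F41480)) (tt N14438 (iv F50183)) (tt N10118 F41389))
theorem Q11172 : ∀ i, i < 11172 → P i := stepQ 11171 Q11171 (allL N11171 (tt N15425 (iv F52733)) (tt N15424 (iv F52732)) (tt N7126 (iv D21401)) (tt N15426 D25706) (tt N11214 (iv F41483)) (tt N15427 D25707) (tt N10119 F41390))
theorem Q11173 : ∀ i, i < 11173 → P i := stepQ 11172 Q11172 (allL N11172 (tt N14438 (iv F50179)) (tt N11136 F41391) (tt N15427 (iv F52739)) (tt N7268 F41392) (tt N11215 (iv F41487)) (tt N7126 (iv D21402)) (tt N11025 F41393))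
theorem Q11174 : ∀ i, i < 11174 → P i := stepQ 11173 Q11173 (allL N11173 (tt N7127 (iv D21403)) (tt N15056 (iv F51966)) (tt N15428 D25708) (tt N7279 F41394) (tt N10992 F41395) (tt N7135 F41396) (tt N9992 (iv F41397)))
theorem Q11175 : ∀ i, i < 11175 → P i := stepQ 11174 Q11174 (allL N11174 (tt N15428 (iv F52741)) (tt N12940 (iv F46045)) (tt N7127 (iv D21404)) (tt N15429 D25709) (tt N14417 (iv F50129)) (tt N7136 F41398) (tt N15430 D25710))
theorem Q11176 : ∀ i, i < 11176 → P i := stepQ 11175 Q11175 (allL N11175 (tt N9992 F41399) (tt N11105 F41400) (tt N15430 (iv F52747)) (tt N7281 F41401) (tt N9552 F41402) (tt N11106 F41403) (tt N7127 (iv D21405)))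
theorem Q11177 : ∀ i, i < 11177 → P i := stepQ 11176 Q11176 (allL N11176 (tt N9983 F41404) (tt N7129 (iv D21406)) (tt N15431 D25711) (tt N7282 F41405) (tt N9532 F41406) (tt N14248 (iv F49706)) (tt N9531 F41407))
theorem Q11178 : ∀ i, i < 11178 → P i := stepQ 11177 Q11177 (allL N11177 (tt N14270 (iv F49764)) (tt N11451 (iv F42000)) (tt N7130 (iv D21407)) (tt N14667 (iv F50689)) (tt N10063 F41408) (tt N15187 (iv F52254)) (tt N10167 F41409))
theorem Q11179 : ∀ i, i < 11179 → P i := stepQ 11178 Q11178 (allL N11178 (tt N14434 (iv F50169)) (tt N7131 (iv D21408)) (tt N15432 D25712) (tt N15186 (iv F52249)) (tt N11196 (iv F41441)) (tt N7134 F41410) (tt N14435 (iv F50174)))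
theorem Q11180 : ∀ i, i < 11180 → P i := stepQ 11179 Q11179 (allL N11179 (tt N7141 F41411) (tt N15433 D25713) (tt N11459 (iv F42027)) (tt N11010 F41412) (tt N7133 F41413) (tt N7132 (iv D21409)) (tt N11007 F41414))
theorem Q11181 : ∀ i, i < 11181 → P i := stepQ 11180 Q11180 (allL N11180 (tt N15434 D25714) (tt N7133 (iv D21410)) (tt N15435 D25715) (tt N7134 F41415) (tt N15433 (iv F52756)) (tt N15186 (iv F52251)) (tt N15433 (iv F52758)))
theorem Q11182 : ∀ i, i < 11182 → P i := stepQ 11181 Q11181 (allL N11181 (tt N7134 (iv D21411)) (tt N14418 (iv F50132)) (tt N15436 D25716) (tt N15434 (iv F52759)) (tt N14418 (iv F50133)) (tt N14434 (iv F50171)) (tt N15437 D25717))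
theorem Q11183 : ∀ i, i < 11183 → P i := stepQ 11182 Q11182 (allL N11182 (tt N15436 (iv F52760)) (tt N7136 F41416) (tt N7134 (iv D21412)) (tt N15438 D25718) (tt N14419 (iv F50136)) (tt N15432 (iv F52754)) (tt N15439 D25719))
theorem Q11184 : ∀ i, i < 11184 → P i := stepQ 11183 Q11183 (allL N11183 (tt N15437 (iv F52761)) (tt N11010 F41417) (tt N15439 (iv F52764)) (tt N15433 (iv F52755)) (tt N11202 (iv F41454)) (tt N10117 F41418) (tt N7134 (iv D21413)))
theorem Q11185 : ∀ i, i < 11185 → P i := stepQ 11184 Q11184 (allL N11184 (tt N12521 (iv F44823)) (tt N7135 (iv D21414)) (tt N8623 (iv F41422)) (tt N7299 F41419) (tt N12865 (iv F45873)) (tt N8623 (iv F41421)) (tt N8622 F41420))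
theorem Q11186 : ∀ i, i < 11186 → P i := stepQ 11185 Q11185 (allL N11185 (tt N7136 F41423) (tt N15055 F51964) (tt N7135 (iv D21415)) (tt N15440 D25720) (tt N14420 (iv F50138)) (tt N15428 (iv F52743)) (tt N15326 (iv F52572)))
theorem Q11187 : ∀ i, i < 11187 → P i := stepQ 11186 Q11186 (allL N11186 (tt N15440 (iv F52766)) (tt N15438 (iv F52763)) (tt N15441 D25721) (tt N7136 (iv D21416)) (tt N15442 D25722) (tt N15429 (iv F52745)) (tt N15443 D25723))
theorem Q11188 : ∀ i, i < 11188 → P i := stepQ 11187 Q11187 (allL N11187 (tt N15326 (iv F52570)) (tt N15444 D25724) (tt N7137 F41424) (tt N15443 (iv F52767)) (tt N14422 (iv F50143)) (tt N14256 (iv F49735)) (tt N7136 (iv D21417)))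
theorem Q11189 : ∀ i, i < 11189 → P i := stepQ 11188 Q11188 (allL N11188 (tt N7138 (iv D21418)) (tt N8590 (iv F41427)) (tt N11188 F41425) (tt N8592 F41426) (tt N14878 (iv F51413)) (tt N15445 D25725) (tt N14878 (iv F51414)))
theorem Q11190 : ∀ i, i < 11190 → P i := stepQ 11189 Q11189 (allL N11189 (tt N14878 (iv F51410)) (tt N7139 F41428) (tt N11189 F41429) (tt N11429 (iv F41957)) (tt N7138 (iv D21419)) (tt N15446 D25726) (tt N7138 (iv F41430)))
theorem Q11191 : ∀ i, i < 11191 → P i := stepQ 11190 Q11190 (allL N11190 (tt N15445 (iv F52769)) (tt N15447 D25727) (tt N11190 F41431) (tt N11428 (iv F41953)) (tt N15446 (iv F52774)) (tt N7138 (iv D21420)) (tt N15448 D25728))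
theorem Q11192 : ∀ i, i < 11192 → P i := stepQ 11191 Q11191 (allL N11191 (tt N11459 (iv F42026)) (tt N15449 D25729) (tt N7141 F41432) (tt N8746 F41433) (tt N7140 F41434) (tt N7139 (iv D21421)) (tt N8682 F41435))
theorem Q11193 : ∀ i, i < 11193 → P i := stepQ 11192 Q11192 (allL N11192 (tt N15450 D25730) (tt N7140 (iv D21422)) (tt N15451 D25731) (tt N11430 (iv F41959)) (tt N15449 (iv F52787)) (tt N15447 (iv F52779)) (tt N15452 D25732))
theorem Q11194 : ∀ i, i < 11194 → P i := stepQ 11193 Q11193 (allL N11193 (tt N14430 F50162) (tt N7141 (iv D21423)) (tt N15453 D25733) (tt N14430 (iv F50159)) (tt N7142 F41436) (tt N11193 F41437) (tt N15454 D25734))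
theorem Q11195 : ∀ i, i < 11195 → P i := stepQ 11194 Q11194 (allL N11194 (tt N14431 (iv F50163)) (tt N15451 (iv F52794)) (tt N7142 (iv D21424)) (tt N15455 D25735) (tt N15453 (iv F52799)) (tt N11194 F41438) (tt N15456 D25736))
theorem Q11196 : ∀ i, i < 11196 → P i := stepQ 11195 Q11195 (allL N11195 (tt N14432 (iv F50165)) (tt N11200 (iv F41458)) (tt N15456 (iv F52804)) (tt N7145 F41439) (tt N15454 (iv F52802)) (tt N14432 (iv F50167)) (tt N7142 (iv D21425)))
theorem Q11197 : ∀ i, i < 11197 → P i := stepQ 11196 Q11196 (allL N11196 (tt N11199 (iv F41456)) (tt N7143 (iv D21426)) (tt N15457 D25737) (tt N7146 F41440) (tt N11178 F41441) (tt N10106 F41442) (tt N11200 F41457))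
theorem Q11198 : ∀ i, i < 11198 → P i := stepQ 11197 Q11197 (allL N11197 (tt N11166 F41443) (tt N7149 F41444) (tt N15458 D25738) (tt N7144 (iv D21427)) (tt N15459 D25739) (tt N11197 F41445) (tt N15460 D25740))
theorem Q11199 : ∀ i, i < 11199 → P i := stepQ 11198 Q11198 (allL N11198 (tt N11168 F41446) (tt N15461 D25741) (tt N7145 F41447) (tt N15460 (iv F52814)) (tt N11168 F41448) (tt N11168 F41449) (tt N7144 (iv D21428)))
theorem Q11200 : ∀ i, i < 11200 → P i := stepQ 11199 Q11199 (allL N11199 (tt N11196 F41456) (tt N7145 (iv D21429)) (tt N15462 D25742) (tt N11200 (iv F41459)) (tt N14434 (iv F50170)) (tt N14418 (iv F50134)) (tt N7146 F41450))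
theorem Q11201 : ∀ i, i < 11201 → P i := stepQ 11200 Q11200 (allL N11200 (tt N7146 (iv D21430)) (tt N11195 F41458) (tt N15463 D25743) (tt N11199 F41459) (tt N14435 (iv F50173)) (tt N15464 D25744) (tt N11196 (iv F41457)))
theorem Q11202 : ∀ i, i < 11202 → P i := stepQ 11201 Q11201 (allL N11201 (tt N15463 (iv F52820)) (tt N7153 F41451) (tt N7146 (iv D21431)) (tt N15465 D25745) (tt N14436 (iv F50176)) (tt N15466 D25746) (tt N15462 (iv F52819)))
theorem Q11203 : ∀ i, i < 11203 → P i := stepQ 11202 Q11202 (allL N11202 (tt N15464 (iv F52822)) (tt N10105 F41452) (tt N15466 (iv F52828)) (tt N10106 F41453) (tt N11183 F41454) (tt N7146 (iv D21432)) (tt N10106 (iv F41455)))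
theorem Q11204 : ∀ i, i < 11204 → P i := stepQ 11203 Q11203 (allL N11203 (tt N7147 (iv D21433)) (tt N12521 (iv F44824)) (tt N15467 D25747) (tt N7323 F41460) (tt N10882 F41461) (tt N15156 (iv F52207)) (tt N9939 (iv F41462)))
theorem Q11205 : ∀ i, i < 11205 → P i := stepQ 11204 Q11204 (allL N11204 (tt N15467 (iv F52831)) (tt N15468 D25748) (tt N7147 (iv D21434)) (tt N15469 D25749) (tt N11161 F41463) (tt N15470 D25750) (tt N15471 D25751))
theorem Q11206 : ∀ i, i < 11206 → P i := stepQ 11205 Q11205 (allL N11205 (tt N15156 (iv F52203)) (tt N7155 F41464) (tt N15470 (iv F52837)) (tt N7325 F41465) (tt N11152 F41466) (tt N7147 (iv D21435)) (tt N14205 (iv F49609)))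
theorem Q11207 : ∀ i, i < 11207 → P i := stepQ 11206 Q11206 (allL N11206 (tt N9939 F41467) (tt N11241 (iv F41541)) (tt N15471 (iv F52840)) (tt N7326 F41468) (tt N10880 F41469) (tt N10987 (iv F41470)) (tt N7147 (iv D21436)))
theorem Q11208 : ∀ i, i < 11208 → P i := stepQ 11207 Q11207 (allL N11207 (tt N15472 D25752) (tt N7148 (iv D21437)) (tt N15468 (iv F52835)) (tt N15473 D25753) (tt N11160 F41471) (tt N15474 D25754) (tt N15475 D25755))
theorem Q11209 : ∀ i, i < 11209 → P i := stepQ 11208 Q11208 (allL N11208 (tt N7149 F41472) (tt N15473 (iv F52846)) (tt N11493 (iv F42092)) (tt N7148 (iv D21438)) (tt N15476 D25756) (tt N7158 F41473) (tt N11236 (iv F41530)))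
theorem Q11210 : ∀ i, i < 11210 → P i := stepQ 11209 Q11209 (allL N11209 (tt N11493 (iv F42091)) (tt N15477 D25757) (tt N7149 (iv D21439)) (tt N11490 (iv F42087)) (tt N15478 D25758) (tt N7161 F41474) (tt N15479 D25759))
theorem Q11211 : ∀ i, i < 11211 → P i := stepQ 11210 Q11210 (allL N11210 (tt N15476 (iv F52852)) (tt N15459 (iv F52810)) (tt N15478 (iv F52855)) (tt N11165 F41475) (tt N7149 (iv D21440)) (tt N7162 F41476) (tt N15480 D25760))
theorem Q11212 : ∀ i, i < 11212 → P i := stepQ 11211 Q11211 (allL N11211 (tt N11236 (iv F41528)) (tt N15481 D25761) (tt N15479 (iv F52857)) (tt N7150 F41477) (tt N15480 (iv F52861)) (tt N11228 (iv F41517)) (tt N7149 (iv D21441)))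
theorem Q11213 : ∀ i, i < 11213 → P i := stepQ 11212 Q11212 (allL N11212 (tt N15482 D25762) (tt N7150 (iv D21442)) (tt N15483 D25763) (tt N15481 (iv F52862)) (tt N11169 F41478) (tt N15475 (iv F52851)) (tt N15461 (iv F52817)))
theorem Q11214 : ∀ i, i < 11214 → P i := stepQ 11213 Q11213 (allL N11213 (tt N7151 (iv D21443)) (tt N10981 (iv F41482)) (tt N15484 D25764) (tt N7333 F41479) (tt N11170 F41480) (tt N11220 (iv F41498)) (tt N7152 F41481))
theorem Q11215 : ∀ i, i < 11215 → P i := stepQ 11214 Q11214 (allL N11214 (tt N15484 (iv F52867)) (tt N15483 (iv F52865)) (tt N7151 (iv D21444)) (tt N15485 D25765) (tt N11171 F41483) (tt N15486 D25766) (tt N7153 F41484))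
theorem Q11216 : ∀ i, i < 11216 → P i := stepQ 11215 Q11215 (allL N11215 (tt N11220 (iv F41495)) (tt N10872 F41485) (tt N15486 (iv F52871)) (tt N7335 F41486) (tt N11172 F41487) (tt N7151 (iv D21445)) (tt N11217 (iv F41493)))
theorem Q11217 : ∀ i, i < 11217 → P i := stepQ 11216 Q11216 (allL N11216 (tt N7153 F41488) (tt N15487 D25767) (tt N7152 (iv D21446)) (tt N15488 D25768) (tt N12876 F45899) (tt N15489 D25769) (tt N15484 (iv F52869)))
theorem Q11218 : ∀ i, i < 11218 → P i := stepQ 11217 Q11217 (allL N11217 (tt N7154 F41489) (tt N10014 F41490) (tt N15489 (iv F52876)) (tt N7337 F41491) (tt N11025 F41492) (tt N7152 (iv D21447)) (tt N11215 F41493))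
theorem Q11219 : ∀ i, i < 11219 → P i := stepQ 11218 Q11218 (allL N11218 (tt N15488 (iv F52874)) (tt N15465 (iv F52827)) (tt N15490 D25770) (tt N7153 (iv D21448)) (tt N15491 D25771) (tt N15492 D25772) (tt N15485 (iv F52870)))
theorem Q11220 : ∀ i, i < 11220 → P i := stepQ 11219 Q11219 (allL N11219 (tt N15489 (iv F52875)) (tt N15493 D25773) (tt N7154 F41494) (tt N15492 (iv F52879)) (tt N14437 (iv F50178)) (tt N7153 (iv D21449)) (tt N15494 D25774))
theorem Q11221 : ∀ i, i < 11221 → P i := stepQ 11220 Q11220 (allL N11220 (tt N11215 F41495) (tt N11151 F41496) (tt N15494 (iv F52882)) (tt N7340 F41497) (tt N14438 (iv F50182)) (tt N11213 F41498) (tt N7154 (iv D21450)))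
theorem Q11222 : ∀ i, i < 11222 → P i := stepQ 11221 Q11221 (allL N11221 (tt N10926 F41499) (tt N9965 (iv F41504)) (tt N8675 F41500) (tt N7348 F41501) (tt N10936 F41502) (tt N8674 F41503) (tt N7155 (iv D21451)))
theorem Q11223 : ∀ i, i < 11223 → P i := stepQ 11222 Q11222 (allL N11222 (tt N15044 (iv F51938)) (tt N7156 (iv D21452)) (tt N15495 D25775) (tt N7349 F41505) (tt N11137 F41506) (tt N10871 F41507) (tt N7160 F41508))
theorem Q11224 : ∀ i, i < 11224 → P i := stepQ 11223 Q11223 (allL N11223 (tt N7157 (iv D21453)) (tt N15496 D25776) (tt N12932 (iv F46028)) (tt N15497 D25777) (tt N11154 F41509) (tt N15498 D25778) (tt N15499 D25779))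
theorem Q11225 : ∀ i, i < 11225 → P i := stepQ 11224 Q11224 (allL N11224 (tt N15497 (iv F52890)) (tt N7158 F41510) (tt N15500 D25780) (tt N7157 (iv D21454)) (tt N15501 D25781) (tt N15502 D25782) (tt N15503 D25783))
theorem Q11226 : ∀ i, i < 11226 → P i := stepQ 11225 Q11225 (allL N11225 (tt N15498 (iv F52891)) (tt N15474 (iv F52848)) (tt N12933 (iv F46030)) (tt N15502 (iv F52901)) (tt N11156 F41511) (tt N7157 (iv D21455)) (tt N15504 D25784))
theorem Q11227 : ∀ i, i < 11227 → P i := stepQ 11226 Q11226 (allL N11226 (tt N15499 (iv F52895)) (tt N15505 D25785) (tt N12934 (iv F46032)) (tt N15503 (iv F52902)) (tt N11157 F41512) (tt N15506 D25786) (tt N7157 (iv D21456)))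
theorem Q11228 : ∀ i, i < 11228 → P i := stepQ 11227 Q11227 (allL N11227 (tt N7162 F41513) (tt N15501 (iv F52899)) (tt N11549 (iv F42209)) (tt N11158 F41514) (tt N7158 (iv D21457)) (tt N15476 (iv F52854)) (tt N15507 D25787))
theorem Q11229 : ∀ i, i < 11229 → P i := stepQ 11228 Q11228 (allL N11228 (tt N7163 F41515) (tt N15508 D25788) (tt N11550 (iv F42211)) (tt N7159 F41516) (tt N15507 (iv F52912)) (tt N11211 F41517) (tt N7158 (iv D21458)))
theorem Q11230 : ∀ i, i < 11230 → P i := stepQ 11229 Q11229 (allL N11229 (tt N15509 D25789) (tt N7159 (iv D21459)) (tt N15510 D25790) (tt N15508 (iv F52914)) (tt N11138 F41518) (tt N15511 D25791) (tt N15505 (iv F52906)))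
theorem Q11231 : ∀ i, i < 11231 → P i := stepQ 11230 Q11230 (allL N11230 (tt N15043 (iv F51935)) (tt N15510 (iv F52917)) (tt N7160 (iv D21460)) (tt N15512 D25792) (tt N11135 F41519) (tt N15041 (iv F51933)) (tt N15495 (iv F52886)))
theorem Q11232 : ∀ i, i < 11232 → P i := stepQ 11231 Q11231 (allL N11231 (tt N15513 D25793) (tt N7161 (iv D21461)) (tt N11231 F41520) (tt N11536 (iv F42186)) (tt N15514 D25794) (tt N15515 D25795) (tt N15411 F64358))
theorem Q11233 : ∀ i, i < 11233 → P i := stepQ 11232 Q11232 (allL N11232 (tt N11549 (iv F42208)) (tt N15514 (iv F52923)) (tt N7162 F41521) (tt N15516 D25797) (tt N7161 (iv D21462)) (tt N15478 (iv F52856)) (tt N15517 D25798))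
theorem Q11234 : ∀ i, i < 11234 → P i := stepQ 11233 Q11233 (allL N11233 (tt N11550 (iv F42210)) (tt N15518 D25799) (tt N7163 F41522) (tt N11538 (iv F42191)) (tt N15517 (iv F52928)) (tt N15519 D25800) (tt N7161 (iv D21463)))
theorem Q11235 : ∀ i, i < 11235 → P i := stepQ 11234 Q11234 (allL N11234 (tt N15507 (iv F52910)) (tt N15520 D25801) (tt N15517 (iv F52927)) (tt N11141 F41523) (tt N7163 F41524) (tt N15521 D25802) (tt N7162 (iv D21464)))
theorem Q11236 : ∀ i, i < 11236 → P i := stepQ 11235 Q11235 (allL N11235 (tt N11128 (iv F41527)) (tt N7163 (iv D21465)) (tt N15522 D25803) (tt N7164 F41525) (tt N15520 (iv F52934)) (tt N15523 D25804) (tt N11235 F41526))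
theorem Q11237 : ∀ i, i < 11237 → P i := stepQ 11236 Q11236 (allL N11236 (tt N11211 F41528) (tt N15524 D25805) (tt N15519 (iv F52930)) (tt N7165 F41529) (tt N15521 (iv F52939)) (tt N7163 (iv D21466)) (tt N11208 F41530))
theorem Q11238 : ∀ i, i < 11238 → P i := stepQ 11237 Q11237 (allL N11237 (tt N11129 F41531) (tt N15525 D25806) (tt N10097 F41532) (tt N15523 (iv F52944)) (tt N11129 F41533) (tt N7164 (iv D21467)) (tt N11129 F41534))
theorem Q11239 : ∀ i, i < 11239 → P i := stepQ 11238 Q11238 (allL N11238 (tt N15526 D25807) (tt N7165 (iv D21468)) (tt N15527 D25808) (tt N15524 (iv F52946)) (tt N11143 F41535) (tt N15525 (iv F52949)) (tt N15511 F52921))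
theorem Q11240 : ∀ i, i < 11240 → P i := stepQ 11239 Q11239 (allL N11239 (tt N7166 (iv D21469)) (tt N14268 F49758) (tt N15528 D25809) (tt N7366 F41536) (tt N11144 F41537) (tt N10099 F41538) (tt N14416 (iv F50128)))
theorem Q11241 : ∀ i, i < 11241 → P i := stepQ 11240 Q11240 (allL N11240 (tt N15528 (iv F52955)) (tt N15527 (iv F52953)) (tt N7166 (iv D21470)) (tt N15529 D25810) (tt N11145 F41539) (tt N10100 F41540) (tt N15530 D25811))
theorem Q11242 : ∀ i, i < 11242 → P i := stepQ 11241 Q11241 (allL N11241 (tt N14416 (iv F50125)) (tt N11206 F41541) (tt N15530 (iv F52962)) (tt N7368 F41542) (tt N11146 F41543) (tt N11001 F41544) (tt N7166 (iv D21471)))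
theorem Q11243 : ∀ i, i < 11243 → P i := stepQ 11242 Q11242 (allL N11242 (tt N9930 F41545) (tt N10022 F41546) (tt N7167 (iv D21472)) (tt N15531 D25812) (tt N7615 F41547) (tt N10847 F41548) (tt N11441 (iv F41981)))
theorem Q11244 : ∀ i, i < 11244 → P i := stepQ 11243 Q11243 (allL N11243 (tt N14537 (iv F50402)) (tt N15532 D25813) (tt N8394 F41549) (tt N7170 F41550) (tt N13107 (iv F46462)) (tt N15533 D25814) (tt N7169 (iv D21473)))
theorem Q11245 : ∀ i, i < 11245 → P i := stepQ 11244 Q11244 (allL N11244 (tt N15534 D25815) (tt N7170 (iv D21474)) (tt N15535 D25816) (tt N15532 (iv F52969)) (tt N7617 F41551) (tt N15536 D25817) (tt N7175 F41552))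
theorem Q11246 : ∀ i, i < 11246 → P i := stepQ 11245 Q11245 (allL N11245 (tt N9083 F41553) (tt N10885 (iv F41557)) (tt N7189 F41554) (tt N15533 (iv F52973)) (tt N7618 F41555) (tt N7170 (iv D21475)) (tt N9081 F41556))
theorem Q11247 : ∀ i, i < 11247 → P i := stepQ 11246 Q11246 (allL N11246 (tt N13219 (iv F46696)) (tt N15537 D25818) (tt N8712 F41558) (tt N7619 F41559) (tt N7173 F41560) (tt N13217 (iv F46694)) (tt N7171 (iv D21476)))
theorem Q11248 : ∀ i, i < 11248 → P i := stepQ 11247 Q11247 (allL N11247 (tt N11249 (iv F41566)) (tt N15538 D25819) (tt N8643 F41561) (tt N7174 F41562) (tt N8859 F41563) (tt N10123 F41564) (tt N7172 (iv D21477)))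
theorem Q11249 : ∀ i, i < 11249 → P i := stepQ 11248 Q11248 (allL N11248 (tt N15539 D25820) (tt N7173 (iv D21478)) (tt N15540 D25821) (tt N7175 F41565) (tt N15537 (iv F52988)) (tt N15541 D25822) (tt N15532 (iv F52970)))
theorem Q11250 : ∀ i, i < 11250 → P i := stepQ 11249 Q11249 (allL N11249 (tt N11247 F41566) (tt N15542 D25823) (tt N8714 F41567) (tt N7176 F41568) (tt N13217 (iv F46693)) (tt N7173 (iv D21479)) (tt N10122 F41569))
theorem Q11251 : ∀ i, i < 11251 → P i := stepQ 11250 Q11250 (allL N11250 (tt N15543 D25824) (tt N7174 (iv D21480)) (tt N15544 D25825) (tt N15538 (iv F52989)) (tt N7622 F41570) (tt N15545 D25826) (tt N9096 F41571))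
theorem Q11252 : ∀ i, i < 11252 → P i := stepQ 11251 Q11251 (allL N11251 (tt N7175 (iv D21481)) (tt N15546 D25827) (tt N15547 D25828) (tt N15539 (iv F52992)) (tt N7623 F41572) (tt N15548 D25829) (tt N15534 (iv F52978)))
theorem Q11253 : ∀ i, i < 11253 → P i := stepQ 11252 Q11252 (allL N11252 (tt N15547 (iv F53009)) (tt N7179 F41573) (tt N7175 (iv D21482)) (tt N15549 D25830) (tt N7624 F41574) (tt N15550 D25831) (tt N15535 (iv F52982)))
theorem Q11254 : ∀ i, i < 11254 → P i := stepQ 11253 Q11253 (allL N11253 (tt N15548 (iv F53011)) (tt N11327 F41737) (tt N15550 (iv F53016)) (tt N15541 (iv F52994)) (tt N7625 F41575) (tt N7175 (iv D21483)) (tt N15551 D25832))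
theorem Q11255 : ∀ i, i < 11255 → P i := stepQ 11254 Q11254 (allL N11254 (tt N11329 (iv F41740)) (tt N7176 (iv D21484)) (tt N15552 D25833) (tt N15542 (iv F52995)) (tt N7626 F41576) (tt N11327 F41738) (tt N15553 D25834))
theorem Q11256 : ∀ i, i < 11256 → P i := stepQ 11255 Q11255 (allL N11255 (tt N10052 F41577) (tt N15544 (iv F53000)) (tt N7177 (iv D21485)) (tt N15554 D25835) (tt N7627 F41578) (tt N10049 F41579) (tt N14349 (iv F49961)))
theorem Q11257 : ∀ i, i < 11257 → P i := stepQ 11256 Q11256 (allL N11256 (tt N7179 F41580) (tt N11578 (iv F42287)) (tt N7178 (iv D21486)) (tt N15555 D25836) (tt N7628 F41581) (tt N10075 F41582) (tt N7199 F41583))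
theorem Q11258 : ∀ i, i < 11258 → P i := stepQ 11257 Q11257 (allL N11257 (tt N15555 (iv F53029)) (tt N15549 (iv F53015)) (tt N15556 D25837) (tt N7179 (iv D21487)) (tt N15557 D25838) (tt N15558 D25839) (tt N7201 F41584))
theorem Q11259 : ∀ i, i < 11259 → P i := stepQ 11258 Q11258 (allL N11258 (tt N10075 F41585) (tt N15559 D25840) (tt N7180 F41586) (tt N15558 (iv F53036)) (tt N7630 F41587) (tt N7179 (iv D21488)) (tt N11284 (iv F41643)))
theorem Q11260 : ∀ i, i < 11260 → P i := stepQ 11259 Q11259 (allL N11259 (tt N7302 F41588) (tt N15552 (iv F53022)) (tt N7181 (iv D21489)) (tt N15560 D25841) (tt N7631 F41589) (tt N11418 (iv F41930)) (tt N7300 F41590))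
theorem Q11261 : ∀ i, i < 11261 → P i := stepQ 11260 Q11260 (allL N11260 (tt N15561 D25842) (tt N7183 (iv D21490)) (tt N15562 D25843) (tt N12645 (iv F45226)) (tt N7636 F41591) (tt N15563 D25844) (tt N11260 F41592))
theorem Q11262 : ∀ i, i < 11262 → P i := stepQ 11261 Q11261 (allL N11261 (tt N12600 (iv F45092)) (tt N15564 D25845) (tt N12599 (iv F45087)) (tt N7643 F41593) (tt N7186 F41594) (tt N14800 (iv F51144)) (tt N7184 (iv D21491)))
theorem Q11263 : ∀ i, i < 11263 → P i := stepQ 11262 Q11262 (allL N11262 (tt N11264 (iv F41600)) (tt N15565 D25846) (tt N8378 F41595) (tt N7187 F41596) (tt N14905 (iv F51502)) (tt N8376 F41597) (tt N7185 (iv D21492)))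
theorem Q11264 : ∀ i, i < 11264 → P i := stepQ 11263 Q11263 (allL N11263 (tt N15566 D25847) (tt N7186 (iv D21493)) (tt N15567 D25848) (tt N7188 F41598) (tt N15564 (iv F53052)) (tt N15109 (iv F52070)) (tt N7194 F41599))
theorem Q11265 : ∀ i, i < 11265 → P i := stepQ 11264 Q11264 (allL N11264 (tt N11262 F41600) (tt N10884 (iv F41604)) (tt N8352 F41601) (tt N7189 F41602) (tt N14800 (iv F51143)) (tt N7186 (iv D21494)) (tt N8351 F41603))
theorem Q11266 : ∀ i, i < 11266 → P i := stepQ 11265 Q11265 (allL N11265 (tt N11313 (iv F42666)) (tt N7187 (iv D21495)) (tt N15568 D25849) (tt N15565 (iv F53054)) (tt N7647 F41605) (tt N11311 F42665) (tt N15216 (iv F52298)))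
theorem Q11267 : ∀ i, i < 11267 → P i := stepQ 11266 Q11266 (allL N11266 (tt N7188 (iv D21496)) (tt N15569 D25850) (tt N15570 D25851) (tt N15566 (iv F53055)) (tt N7648 F41606) (tt N11280 (iv F41634)) (tt N7195 F41607))
theorem Q11268 : ∀ i, i < 11268 → P i := stepQ 11267 Q11267 (allL N11267 (tt N15570 (iv F53065)) (tt N15535 (iv F52980)) (tt N7188 (iv D21497)) (tt N15571 D25852) (tt N7649 F41608) (tt N15110 (iv F52074)) (tt N7196 F41609))
theorem Q11269 : ∀ i, i < 11269 → P i := stepQ 11268 Q11268 (allL N11268 (tt N10548 F41610) (tt N8694 F41611) (tt N10545 F41612) (tt N11120 F41613) (tt N8949 F41614) (tt N7190 (iv D21498)) (tt N13057 (iv F46330)))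
theorem Q11270 : ∀ i, i < 11270 → P i := stepQ 11269 Q11269 (allL N11269 (tt N12821 (iv F45749)) (tt N12561 (iv F45016)) (tt N12643 (iv F45218)) (tt N11121 F41615) (tt N12590 (iv F45049)) (tt N14845 (iv F51297)) (tt N7190 (iv D21499)))
theorem Q11271 : ∀ i, i < 11271 → P i := stepQ 11270 Q11270 (allL N11270 (tt N12563 (iv F45015)) (tt N7192 (iv D21500)) (tt N13482 (iv F47429)) (tt N11123 F41616) (tt N12583 (iv F45011)) (tt N12899 (iv F45944)) (tt N12561 F45014))
theorem Q11272 : ∀ i, i < 11272 → P i := stepQ 11271 Q11271 (allL N11271 (tt N15572 D25853) (tt N7193 (iv D21501)) (tt N13479 (iv F47425)) (tt N7651 F41617) (tt N7194 F41618) (tt N15573 D25854) (tt N15564 (iv F53053)))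
theorem Q11273 : ∀ i, i < 11273 → P i := stepQ 11272 Q11272 (allL N11272 (tt N7194 (iv D21502)) (tt N15574 D25855) (tt N15575 D25856) (tt N7195 F41619) (tt N15572 (iv F53072)) (tt N15576 D25857) (tt N15566 (iv F53056)))
theorem Q11274 : ∀ i, i < 11274 → P i := stepQ 11273 Q11273 (allL N11273 (tt N15575 (iv F53079)) (tt N13482 (iv F47428)) (tt N7194 (iv D21503)) (tt N15577 D25858) (tt N13479 F47426) (tt N15578 D25859) (tt N15567 (iv F53057)))
theorem Q11275 : ∀ i, i < 11275 → P i := stepQ 11274 Q11274 (allL N11274 (tt N15576 (iv F53080)) (tt N11036 F41620) (tt N15578 (iv F53085)) (tt N7197 F41621) (tt N15573 (iv F53077)) (tt N7194 (iv D21504)) (tt N15579 D25860))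
theorem Q11276 : ∀ i, i < 11276 → P i := stepQ 11275 Q11275 (allL N11275 (tt N15563 (iv F53047)) (tt N7195 (iv D21505)) (tt N15580 D25861) (tt N15574 (iv F53078)) (tt N7654 F41622) (tt N15561 F53043) (tt N15563 (iv F53050)))
theorem Q11277 : ∀ i, i < 11277 → P i := stepQ 11276 Q11276 (allL N11276 (tt N7196 F41623) (tt N15581 D25862) (tt N7195 (iv D21506)) (tt N15582 D25863) (tt N7655 F41624) (tt N15583 D25864) (tt N15570 (iv F53069)))
theorem Q11278 : ∀ i, i < 11278 → P i := stepQ 11277 Q11277 (allL N11277 (tt N7197 F41625) (tt N10942 (iv F41628)) (tt N15583 (iv F53095)) (tt N15576 (iv F53081)) (tt N7656 F41626) (tt N7195 (iv D21507)) (tt N10945 F41627))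
theorem Q11279 : ∀ i, i < 11279 → P i := stepQ 11278 Q11278 (allL N11278 (tt N15582 (iv F53093)) (tt N7201 F41629) (tt N15584 D25865) (tt N7196 (iv D21508)) (tt N15585 D25866) (tt N15586 D25867) (tt N15571 (iv F53070)))
theorem Q11280 : ∀ i, i < 11280 → P i := stepQ 11279 Q11279 (allL N11279 (tt N15583 (iv F53094)) (tt N12290 (iv F44117)) (tt N7197 F41630) (tt N15586 (iv F53100)) (tt N7658 F41631) (tt N7196 (iv D21509)) (tt N12284 (iv F44105)))
theorem Q11281 : ∀ i, i < 11281 → P i := stepQ 11280 Q11280 (allL N11280 (tt N10945 F41632) (tt N7220 (iv F41635)) (tt N12284 (iv F44104)) (tt N15579 (iv F53087)) (tt N7659 F41633) (tt N11266 F41634) (tt N7197 (iv D21510)))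
theorem Q11282 : ∀ i, i < 11282 → P i := stepQ 11281 Q11281 (allL N11281 (tt N14198 (iv F49587)) (tt N11528 F42174) (tt N7198 (iv D21511)) (tt N15587 D25868) (tt N7660 F41636) (tt N11403 (iv F41892)) (tt N10852 F41637))
theorem Q11283 : ∀ i, i < 11283 → P i := stepQ 11282 Q11282 (allL N11282 (tt N11518 (iv F42148)) (tt N7199 (iv D21512)) (tt N11528 (iv F42172)) (tt N15588 D25869) (tt N7661 F41638) (tt N11930 (iv F43178)) (tt N11515 F42143))
theorem Q11284 : ∀ i, i < 11284 → P i := stepQ 11283 Q11283 (allL N11283 (tt N7201 F41639) (tt N15588 (iv F53102)) (tt N15589 D25870) (tt N7199 (iv D21513)) (tt N15590 D25871) (tt N15591 D25872) (tt N15555 (iv F53031)))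
theorem Q11285 : ∀ i, i < 11285 → P i := stepQ 11284 Q11284 (allL N11284 (tt N7202 F41640) (tt N15592 D25873) (tt N7200 F41641) (tt N15591 (iv F53108)) (tt N7663 F41642) (tt N7199 (iv D21514)) (tt N11258 F41643))
theorem Q11286 : ∀ i, i < 11286 → P i := stepQ 11285 Q11285 (allL N11285 (tt N15589 (iv F53103)) (tt N15593 D25874) (tt N7201 (iv D21515)) (tt N15594 D25875) (tt N15595 D25876) (tt N15596 D25877) (tt N15556 (iv F53032)))
theorem Q11287 : ∀ i, i < 11287 → P i := stepQ 11286 Q11286 (allL N11286 (tt N15590 (iv F53105)) (tt N15585 (iv F53098)) (tt N15595 (iv F53114)) (tt N7665 F41644) (tt N7201 (iv D21516)) (tt N15597 D25878) (tt N15557 (iv F53034)))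
theorem Q11288 : ∀ i, i < 11288 → P i := stepQ 11287 Q11287 (allL N11287 (tt N15591 (iv F53107)) (tt N15598 D25879) (tt N15596 (iv F53115)) (tt N7202 F41645) (tt N15597 (iv F53117)) (tt N7201 (iv D21517)) (tt N14383 (iv F50040)))
theorem Q11289 : ∀ i, i < 11289 → P i := stepQ 11288 Q11288 (allL N11288 (tt N15599 D25880) (tt N7202 (iv D21518)) (tt N11046 F41646) (tt N15598 (iv F53118)) (tt N7667 F41647) (tt N12290 F44119) (tt N15600 D25881))
theorem Q11290 : ∀ i, i < 11290 → P i := stepQ 11289 Q11289 (allL N11289 (tt N7204 F41648) (tt N12823 (iv F45753)) (tt N10265 F41649) (tt N7203 (iv D21519)) (tt N12891 (iv F45927)) (tt N15601 D25882) (tt N15602 D25883))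
theorem Q11291 : ∀ i, i < 11291 → P i := stepQ 11290 Q11290 (allL N11290 (tt N7206 F41650) (tt N12855 (iv F45838)) (tt N7371 F41651) (tt N15601 (iv F53130)) (tt N8260 F41652) (tt N7203 (iv D21520)) (tt N11299 (iv F41681)))
theorem Q11292 : ∀ i, i < 11292 → P i := stepQ 11291 Q11291 (allL N11291 (tt N7207 F41653) (tt N13027 (iv F46256)) (tt N7215 F41654) (tt N15602 (iv F53134)) (tt N12569 (iv F44958)) (tt N11297 (iv F41672)) (tt N7203 (iv D21521)))
theorem Q11293 : ∀ i, i < 11293 → P i := stepQ 11292 Q11292 (allL N11292 (tt N10265 F41655) (tt N11107 F41656) (tt N7204 (iv D21522)) (tt N10259 F41657) (tt N14305 F49852) (tt N15603 D25884) (tt N15604 D25885))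
theorem Q11294 : ∀ i, i < 11294 → P i := stepQ 11293 Q11293 (allL N11293 (tt N12891 (iv F45926)) (tt N7208 F41658) (tt N14305 (iv F49851)) (tt N8639 F41659) (tt N7204 (iv D21523)) (tt N8627 (iv F41660)) (tt N15605 D25886))
theorem Q11295 : ∀ i, i < 11295 → P i := stepQ 11294 Q11294 (allL N11294 (tt N15601 (iv F53128)) (tt N8226 F41661) (tt N15603 (iv F53137)) (tt N7206 F41662) (tt N8627 F41663) (tt N7204 (iv D21524)) (tt N15606 D25887))
theorem Q11296 : ∀ i, i < 11296 → P i := stepQ 11295 Q11295 (allL N11295 (tt N15602 (iv F53132)) (tt N15607 D25888) (tt N15604 (iv F53141)) (tt N7207 F41664) (tt N15605 (iv F53144)) (tt N15608 D25889) (tt N7204 (iv D21525)))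
theorem Q11297 : ∀ i, i < 11297 → P i := stepQ 11296 Q11296 (allL N11296 (tt N12569 (iv F44955)) (tt N8932 F41665) (tt N7213 F41666) (tt N8916 F41667) (tt N7207 F41668) (tt N9028 F41669) (tt N7205 (iv D21526)))
theorem Q11298 : ∀ i, i < 11298 → P i := stepQ 11297 Q11297 (allL N11297 (tt N11299 (iv F41677)) (tt N12560 (iv F44930)) (tt N7373 F41670) (tt N15606 (iv F53147)) (tt N8261 F41671) (tt N11291 F41672) (tt N7206 (iv D21527)))
theorem Q11299 : ∀ i, i < 11299 → P i := stepQ 11298 Q11298 (allL N11298 (tt N12907 (iv F45968)) (tt N7207 (iv D21528)) (tt N7211 F41673) (tt N15607 (iv F53150)) (tt N8932 F41674) (tt N8656 (iv F41676)) (tt N7211 F41675))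
theorem Q11300 : ∀ i, i < 11300 → P i := stepQ 11299 Q11299 (allL N11299 (tt N11297 F41677) (tt N8747 F41678) (tt N7216 F41679) (tt N15608 (iv F53156)) (tt N9028 F41680) (tt N7207 (iv D21529)) (tt N11290 F41681))
theorem Q11301 : ∀ i, i < 11301 → P i := stepQ 11300 Q11300 (allL N11300 (tt N11122 F41682) (tt N15609 D25890) (tt N11108 F41683) (tt N8700 F41684) (tt N7209 F41685) (tt N12921 (iv F46009)) (tt N7208 (iv D21530)))
theorem Q11302 : ∀ i, i < 11302 → P i := stepQ 11301 Q11301 (allL N11301 (tt N12881 (iv F45907)) (tt N7209 (iv D21531)) (tt N15610 D25891) (tt N7211 F41686) (tt N15609 (iv F53160)) (tt N12879 F45905) (tt N15607 (iv F53152)))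
theorem Q11303 : ∀ i, i < 11303 → P i := stepQ 11302 Q11302 (allL N11302 (tt N12861 (iv F45857)) (tt N7212 (iv D21532)) (tt N15611 D25892) (tt N15151 (iv F52192)) (tt N12581 (iv F45002)) (tt N12859 F45853) (tt N12956 (iv F46089)))
theorem Q11304 : ∀ i, i < 11304 → P i := stepQ 11303 Q11303 (allL N11303 (tt N7213 (iv D21533)) (tt N15612 D25893) (tt N12569 (iv F44956)) (tt N7678 F41687) (tt N7215 F41688) (tt N11564 (iv F42251)) (tt N7370 F41689))
theorem Q11305 : ∀ i, i < 11305 → P i := stepQ 11304 Q11304 (allL N11304 (tt N11564 (iv F42247)) (tt N15613 D25894) (tt N9028 F41690) (tt N7680 F41691) (tt N7216 F41692) (tt N7213 (iv D21534)) (tt N11563 (iv F42246)))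
theorem Q11306 : ∀ i, i < 11306 → P i := stepQ 11305 Q11305 (allL N11305 (tt N15614 D25895) (tt N7214 (iv D21535)) (tt N15615 D25896) (tt N7681 F41693) (tt N7217 F41694) (tt N15613 (iv F53173)) (tt N13387 (iv F47167)))
theorem Q11307 : ∀ i, i < 11307 → P i := stepQ 11306 Q11306 (allL N11306 (tt N15616 D25897) (tt N7215 (iv D21536)) (tt N15617 D25898) (tt N7218 F41695) (tt N15612 (iv F53168)) (tt N15618 D25899) (tt N15619 D25900))
theorem Q11308 : ∀ i, i < 11308 → P i := stepQ 11307 Q11307 (allL N11307 (tt N15620 D25901) (tt N7216 (iv D21537)) (tt N15621 D25902) (tt N7219 F41696) (tt N15613 (iv F53172)) (tt N7217 F41697) (tt N15119 (iv F52102)))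
theorem Q11309 : ∀ i, i < 11309 → P i := stepQ 11308 Q11308 (allL N11308 (tt N7217 (iv D21538)) (tt N15579 F53089) (tt N15622 D25903) (tt N7220 F41698) (tt N15614 (iv F53175)) (tt N15620 (iv F53194)) (tt N15623 D25904))
theorem Q11310 : ∀ i, i < 11310 → P i := stepQ 11309 Q11309 (allL N11309 (tt N15622 (iv F53198)) (tt N15611 (iv F53163)) (tt N7217 (iv D21539)) (tt N15624 D25905) (tt N15615 (iv F53180)) (tt N15621 (iv F53197)) (tt N15625 D25906))
theorem Q11311 : ∀ i, i < 11311 → P i := stepQ 11310 Q11310 (allL N11310 (tt N15623 (iv F53202)) (tt N11029 F41699) (tt N15625 (iv F53209)) (tt N7222 F41700) (tt N13387 (iv F47166)) (tt N15626 D25907) (tt N7217 (iv D21540)))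
theorem Q11312 : ∀ i, i < 11312 → P i := stepQ 11311 Q11311 (allL N11311 (tt N7218 (iv D21541)) (tt N15563 (iv F53048)) (tt N15627 D25908) (tt N15616 (iv F53184)) (tt N7687 F41701) (tt N11265 (iv F42665)) (tt N15569 (iv F53063)))
theorem Q11313 : ∀ i, i < 11313 → P i := stepQ 11312 Q11312 (allL N11312 (tt N15627 (iv F53215)) (tt N12767 (iv F45563)) (tt N7218 (iv D21542)) (tt N15628 D25909) (tt N7688 F41702) (tt N14371 F50003) (tt N8566 (iv F41703)))
theorem Q11314 : ∀ i, i < 11314 → P i := stepQ 11313 Q11313 (allL N11313 (tt N11265 F42666) (tt N11571 (iv F42271)) (tt N14371 F50002) (tt N15618 (iv F53189)) (tt N7689 F41704) (tt N7218 (iv D21543)) (tt N15629 D25910))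
theorem Q11315 : ∀ i, i < 11315 → P i := stepQ 11314 Q11314 (allL N11314 (tt N15569 (iv F53061)) (tt N7376 F41705) (tt N8566 F41706) (tt N15619 (iv F53191)) (tt N7690 F41707) (tt N15216 (iv F52297)) (tt N7218 (iv D21544)))
theorem Q11316 : ∀ i, i < 11316 → P i := stepQ 11315 Q11315 (allL N11315 (tt N7219 (iv D21545)) (tt N15629 F53225) (tt N15630 D25911) (tt N15620 (iv F53193)) (tt N7696 F41708) (tt N7220 F41709) (tt N11321 (iv F41724)))
theorem Q11317 : ∀ i, i < 11317 → P i := stepQ 11316 Q11316 (allL N11316 (tt N15630 (iv F53226)) (tt N14664 (iv F50678)) (tt N7219 (iv D21546)) (tt N15631 D25912) (tt N7697 F41710) (tt N7221 F41711) (tt N14535 F50397))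
theorem Q11318 : ∀ i, i < 11318 → P i := stepQ 11317 Q11317 (allL N11317 (tt N7221 F41712) (tt N8101 (iv F41714)) (tt N7220 (iv D21547)) (tt N13477 (iv F47419)) (tt N7698 F41713) (tt N15630 (iv F53228)) (tt N15632 D25913))
theorem Q11319 : ∀ i, i < 11319 → P i := stepQ 11318 Q11318 (allL N11318 (tt N7222 F41715) (tt N10952 F41716) (tt N15632 (iv F53234)) (tt N15623 (iv F53205)) (tt N7699 F41717) (tt N10953 F41718) (tt N7220 (iv D21548)))
theorem Q11320 : ∀ i, i < 11320 → P i := stepQ 11319 Q11319 (allL N11319 (tt N13477 (iv F47417)) (tt N7238 F41719) (tt N15633 D25914) (tt N7221 (iv D21549)) (tt N13476 F47416) (tt N15631 (iv F53231)) (tt N15634 D25915))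
theorem Q11321 : ∀ i, i < 11321 → P i := stepQ 11320 Q11320 (allL N11320 (tt N15632 (iv F53233)) (tt N15635 D25916) (tt N7222 F41720) (tt N15634 (iv F53239)) (tt N7701 F41721) (tt N15636 D25917) (tt N7221 (iv D21550)))
theorem Q11322 : ∀ i, i < 11322 → P i := stepQ 11321 Q11321 (allL N11321 (tt N10953 F41722) (tt N15637 D25918) (tt N15636 (iv F53251)) (tt N15626 (iv F53213)) (tt N7702 F41723) (tt N7222 (iv D21551)) (tt N11315 F41724))
theorem Q11323 : ∀ i, i < 11323 → P i := stepQ 11322 Q11322 (allL N11322 (tt N7224 F41725) (tt N13874 F48665) (tt N7223 (iv D21552)) (tt N15638 D25919) (tt N7703 F41726) (tt N9941 F41727) (tt N13878 (iv F48686)))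
theorem Q11324 : ∀ i, i < 11324 → P i := stepQ 11323 Q11323 (allL N11323 (tt N15639 D25920) (tt N7224 (iv D21553)) (tt N7227 F41728) (tt N15640 D25921) (tt N7704 F41729) (tt N15641 D25922) (tt N15642 D25923))
theorem Q11325 : ∀ i, i < 11325 → P i := stepQ 11324 Q11324 (allL N11324 (tt N15638 (iv F53259)) (tt N15640 (iv F53264)) (tt N15643 D25924) (tt N7224 (iv D21554)) (tt N15644 D25925) (tt N15645 D25926) (tt N15646 D25927))
theorem Q11326 : ∀ i, i < 11326 → P i := stepQ 11325 Q11325 (allL N11325 (tt N9941 F41730) (tt N11874 (iv F43017)) (tt N7225 F41731) (tt N15645 (iv F53273)) (tt N7706 F41732) (tt N7224 (iv D21555)) (tt N11077 (iv F41733)))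
theorem Q11327 : ∀ i, i < 11327 → P i := stepQ 11326 Q11326 (allL N11326 (tt N13878 F48687) (tt N15647 D25928) (tt N7226 F41734) (tt N15646 (iv F53277)) (tt N7707 F41735) (tt N12171 (iv F43830)) (tt N7224 (iv D21556)))
theorem Q11328 : ∀ i, i < 11328 → P i := stepQ 11327 Q11327 (allL N11327 (tt N7227 (iv D21557)) (tt N11253 (iv F41737)) (tt N15639 (iv F53261)) (tt N15648 D25929) (tt N7708 F41736) (tt N11254 (iv F41738)) (tt N15649 D25930))
theorem Q11329 : ∀ i, i < 11329 → P i := stepQ 11328 Q11328 (allL N11328 (tt N15648 (iv F53282)) (tt N7228 F41739) (tt N15650 D25931) (tt N7227 (iv D21558)) (tt N15651 D25932) (tt N15652 D25933) (tt N15653 D25934))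
theorem Q11330 : ∀ i, i < 11330 → P i := stepQ 11329 Q11329 (allL N11329 (tt N11254 F41740) (tt N11400 (iv F41877)) (tt N15641 (iv F53266)) (tt N15652 (iv F53290)) (tt N7710 F41741) (tt N7227 (iv D21559)) (tt N15654 D25935))
theorem Q11331 : ∀ i, i < 11331 → P i := stepQ 11330 Q11330 (allL N11330 (tt N15649 (iv F53285)) (tt N7253 F41742) (tt N15642 (iv F53268)) (tt N15653 (iv F53292)) (tt N7711 F41743) (tt N15553 (iv F53026)) (tt N7227 (iv D21560)))
theorem Q11332 : ∀ i, i < 11332 → P i := stepQ 11331 Q11331 (allL N11331 (tt N7229 F41744) (tt N15655 D25936) (tt N7228 (iv D21561)) (tt N11140 F41746) (tt N15656 D25937) (tt N11395 (iv F41868)) (tt N7254 F41745))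
theorem Q11333 : ∀ i, i < 11333 → P i := stepQ 11332 Q11332 (allL N11332 (tt N7230 F41747) (tt N15651 (iv F53287)) (tt N15656 (iv F53298)) (tt N7713 F41748) (tt N7228 (iv D21562)) (tt N11396 (iv F41872)) (tt N7255 F41749))
theorem Q11334 : ∀ i, i < 11334 → P i := stepQ 11333 Q11333 (allL N11333 (tt N15657 D25938) (tt N7229 (iv D21563)) (tt N14655 (iv F50655)) (tt N15658 D25939) (tt N15659 D25940) (tt N15660 D25941) (tt N15661 D25942))
theorem Q11335 : ∀ i, i < 11335 → P i := stepQ 11334 Q11334 (allL N11334 (tt N11140 F41750) (tt N15658 (iv F53300)) (tt N11139 F41751) (tt N7229 (iv D21564)) (tt N15662 D25943) (tt N15416 (iv F52713)) (tt N7260 F41752))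
theorem Q11336 : ∀ i, i < 11336 → P i := stepQ 11335 Q11335 (allL N11335 (tt N15656 (iv F53297)) (tt N15659 (iv F53301)) (tt N7230 F41753) (tt N15663 D25944) (tt N7229 (iv D21565)) (tt N15664 D25945) (tt N7261 F41754))
theorem Q11337 : ∀ i, i < 11337 → P i := stepQ 11336 Q11336 (allL N11336 (tt N11395 (iv F41866)) (tt N15665 D25946) (tt N7231 F41755) (tt N15416 (iv F52712)) (tt N15664 (iv F53309)) (tt N7229 (iv D21566)) (tt N11379 (iv F41843)))
theorem Q11338 : ∀ i, i < 11338 → P i := stepQ 11337 Q11337 (allL N11337 (tt N11396 (iv F41869)) (tt N15666 D25947) (tt N15664 (iv F53308)) (tt N7718 F41756) (tt N7231 F41757) (tt N7230 (iv D21567)) (tt N11380 (iv F41847)))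
theorem Q11339 : ∀ i, i < 11339 → P i := stepQ 11338 Q11338 (allL N11338 (tt N15667 D25948) (tt N7231 (iv D21568)) (tt N15668 D25949) (tt N7232 F41758) (tt N15666 (iv F53311)) (tt N14660 (iv F50670)) (tt N15669 D25950))
theorem Q11340 : ∀ i, i < 11340 → P i := stepQ 11339 Q11339 (allL N11339 (tt N7232 (iv D21569)) (tt N15670 D25951) (tt N15671 D25952) (tt N15667 (iv F53312)) (tt N7720 F41759) (tt N14663 (iv F50676)) (tt N15672 D25953))
theorem Q11341 : ∀ i, i < 11341 → P i := stepQ 11340 Q11340 (allL N11340 (tt N15671 (iv F53317)) (tt N7234 F41760) (tt N7232 (iv D21570)) (tt N15673 D25954) (tt N7721 F41761) (tt N14664 (iv F50680)) (tt N15674 D25955))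
theorem Q11342 : ∀ i, i < 11342 → P i := stepQ 11341 Q11341 (allL N11341 (tt N15672 (iv F53321)) (tt N11383 (iv F41851)) (tt N15674 (iv F53330)) (tt N15669 (iv F53313)) (tt N7722 F41762) (tt N15675 D25956) (tt N7232 (iv D21571)))
theorem Q11343 : ∀ i, i < 11343 → P i := stepQ 11342 Q11342 (allL N11342 (tt N7234 F41763) (tt N9507 F41764) (tt N7233 (iv D21572)) (tt N15676 D25957) (tt N7723 F41765) (tt N7236 F41766) (tt N11351 (iv F41785)))
theorem Q11344 : ∀ i, i < 11344 → P i := stepQ 11343 Q11343 (allL N11343 (tt N15676 (iv F53338)) (tt N15673 (iv F53326)) (tt N13194 F46644) (tt N7234 (iv D21573)) (tt N10668 F41767) (tt N7238 F41768) (tt N15677 D25958))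
theorem Q11345 : ∀ i, i < 11345 → P i := stepQ 11344 Q11344 (allL N11344 (tt N11351 (iv F41782)) (tt N15678 D25959) (tt N7235 F41769) (tt N15677 (iv F53343)) (tt N7725 F41770) (tt N11346 (iv F41776)) (tt N7234 (iv D21574)))
theorem Q11346 : ∀ i, i < 11346 → P i := stepQ 11345 Q11345 (allL N11345 (tt N7238 F41771) (tt N10047 F41772) (tt N15679 D25960) (tt N7236 (iv D21575)) (tt N15680 D25961) (tt N15676 (iv F53341)) (tt N15681 D25962))
theorem Q11347 : ∀ i, i < 11347 → P i := stepQ 11346 Q11346 (allL N11346 (tt N7239 F41773) (tt N15682 D25963) (tt N7237 F41774) (tt N15681 (iv F53363)) (tt N7727 F41775) (tt N11344 F41776) (tt N7236 (iv D21576)))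
theorem Q11348 : ∀ i, i < 11348 → P i := stepQ 11347 Q11347 (allL N11347 (tt N15679 (iv F53349)) (tt N13193 F46646) (tt N7238 (iv D21577)) (tt N15683 D25964) (tt N13468 (iv F47388)) (tt N13194 (iv F46645)) (tt N15684 D25965))
theorem Q11349 : ∀ i, i < 11349 → P i := stepQ 11348 Q11348 (allL N11348 (tt N15680 (iv F53357)) (tt N13476 F47415) (tt N13468 F47391) (tt N7729 F41777) (tt N7238 (iv D21578)) (tt N10668 F41778) (tt N15685 D25966))
theorem Q11350 : ∀ i, i < 11350 → P i := stepQ 11349 Q11349 (allL N11349 (tt N15681 (iv F53362)) (tt N15686 D25967) (tt N15684 (iv F53371)) (tt N7239 F41779) (tt N15685 (iv F53374)) (tt N15687 D25968) (tt N7238 (iv D21579)))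
theorem Q11351 : ∀ i, i < 11351 → P i := stepQ 11350 Q11350 (allL N11350 (tt N13661 (iv F48032)) (tt N7239 (iv D21580)) (tt N9529 F41780) (tt N15686 (iv F53375)) (tt N7731 F41781) (tt N15688 D25969) (tt N15635 (iv F53246)))
theorem Q11352 : ∀ i, i < 11352 → P i := stepQ 11351 Q11351 (allL N11351 (tt N11344 F41782) (tt N15689 D25970) (tt N7240 F41783) (tt N15687 (iv F53380)) (tt N7732 F41784) (tt N7239 (iv D21581)) (tt N11342 F41785))
theorem Q11353 : ∀ i, i < 11353 → P i := stepQ 11352 Q11352 (allL N11352 (tt N7409 (iv F41787)) (tt N7241 (iv D21582)) (tt N11511 (iv F42127)) (tt N15690 D25971) (tt N7733 F41786) (tt N15691 D25972) (tt N15692 D25973))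
theorem Q11354 : ∀ i, i < 11354 → P i := stepQ 11353 Q11353 (allL N11353 (tt N7245 F41788) (tt N15690 (iv F53386)) (tt N8777 F41789) (tt N7241 (iv D21583)) (tt N15111 (iv F52077)) (tt N15693 D25974) (tt N15694 D25975))
theorem Q11355 : ∀ i, i < 11355 → P i := stepQ 11354 Q11354 (allL N11354 (tt N7246 F41790) (tt N15695 D25976) (tt N7242 F41791) (tt N15693 (iv F53394)) (tt N7734 F41792) (tt N7241 (iv D21584)) (tt N7901 F41793))
theorem Q11356 : ∀ i, i < 11356 → P i := stepQ 11355 Q11355 (allL N11355 (tt N7247 F41794) (tt N15696 D25977) (tt N7243 F41795) (tt N15694 (iv F53399)) (tt N7735 F41796) (tt N10958 F41797) (tt N7241 (iv D21585)))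
theorem Q11357 : ∀ i, i < 11357 → P i := stepQ 11356 Q11356 (allL N11356 (tt N7244 (iv D21586)) (tt N7411 F41798) (tt N7250 F41799) (tt N15697 D25978) (tt N7736 F41800) (tt N11442 F41986) (tt N15698 D25979))
theorem Q11358 : ∀ i, i < 11358 → P i := stepQ 11357 Q11357 (allL N11357 (tt N15697 (iv F53408)) (tt N7245 F41801) (tt N8855 F41802) (tt N7244 (iv D21587)) (tt N15699 D25980) (tt N15700 D25981) (tt N15701 D25982))
theorem Q11359 : ∀ i, i < 11359 → P i := stepQ 11358 Q11358 (allL N11358 (tt N11442 (iv F41985)) (tt N15702 D25983) (tt N7252 F41803) (tt N15700 (iv F53422)) (tt N7738 F41804) (tt N7244 (iv D21588)) (tt N15703 D25984))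
theorem Q11360 : ∀ i, i < 11360 → P i := stepQ 11359 Q11359 (allL N11359 (tt N15698 (iv F53412)) (tt N15704 D25985) (tt N7253 F41805) (tt N15701 (iv F53425)) (tt N7739 F41806) (tt N12135 (iv F43737)) (tt N7244 (iv D21589)))
theorem Q11361 : ∀ i, i < 11361 → P i := stepQ 11360 Q11360 (allL N11360 (tt N15111 (iv F52075)) (tt N15699 (iv F53417)) (tt N8780 F41807) (tt N7740 F41808) (tt N7245 (iv D21590)) (tt N15705 D25986) (tt N11520 F42157))
theorem Q11362 : ∀ i, i < 11362 → P i := stepQ 11361 Q11361 (allL N11361 (tt N15693 (iv F53392)) (tt N15706 D25987) (tt N8766 F41809) (tt N7246 F41810) (tt N15705 (iv F53438)) (tt N7245 (iv D21591)) (tt N15123 (iv F52117)))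
theorem Q11363 : ∀ i, i < 11363 → P i := stepQ 11362 Q11362 (allL N11362 (tt N15694 (iv F53397)) (tt N15707 D25988) (tt N8781 F41811) (tt N7247 F41812) (tt N11520 (iv F42156)) (tt N11519 F42153) (tt N7245 (iv D21592)))
theorem Q11364 : ∀ i, i < 11364 → P i := stepQ 11363 Q11363 (allL N11363 (tt N15708 D25989) (tt N7246 (iv D21593)) (tt N15709 D25990) (tt N15706 (iv F53440)) (tt N7742 F41813) (tt N15702 (iv F53427)) (tt N15710 D25991))
theorem Q11365 : ∀ i, i < 11365 → P i := stepQ 11364 Q11364 (allL N11364 (tt N11364 F43185) (tt N7247 (iv D21594)) (tt N15647 (iv F53279)) (tt N15707 (iv F53442)) (tt N7743 F41814) (tt N15647 (iv F53281)) (tt N15704 (iv F53434)))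
theorem Q11366 : ∀ i, i < 11366 → P i := stepQ 11365 Q11365 (allL N11365 (tt N11646 (iv F42439)) (tt N15709 (iv F53445)) (tt N7248 (iv D21595)) (tt N15711 D25992) (tt N7744 F41815) (tt N7258 F41816) (tt N10892 F41817))
theorem Q11367 : ∀ i, i < 11367 → P i := stepQ 11366 Q11366 (allL N11366 (tt N7386 F41818) (tt N7250 (iv D21596)) (tt N7417 F41819) (tt N15712 D25993) (tt N7745 F41820) (tt N15026 (iv F51902)) (tt N15713 D25994))
theorem Q11368 : ∀ i, i < 11368 → P i := stepQ 11367 Q11367 (allL N11367 (tt N7251 F41821) (tt N15712 (iv F53455)) (tt N13224 (iv F46711)) (tt N7250 (iv D21597)) (tt N15714 D25995) (tt N15715 D25996) (tt N15716 D25997))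
theorem Q11369 : ∀ i, i < 11369 → P i := stepQ 11368 Q11368 (allL N11368 (tt N7252 F41822) (tt N11441 (iv F41982)) (tt N11442 (iv F41983)) (tt N15715 (iv F53463)) (tt N7747 F41823) (tt N7250 (iv D21598)) (tt N11376 (iv F41836)))
theorem Q11370 : ∀ i, i < 11370 → P i := stepQ 11369 Q11369 (allL N11369 (tt N7253 F41824) (tt N15717 D25998) (tt N15698 (iv F53414)) (tt N15716 (iv F53465)) (tt N7748 F41825) (tt N11375 (iv F41833)) (tt N7250 (iv D21599)))
theorem Q11371 : ∀ i, i < 11371 → P i := stepQ 11370 Q11370 (allL N11370 (tt N13224 (iv F46709)) (tt N15718 D25999) (tt N7251 (iv D21600)) (tt N13223 F46708) (tt N15719 D26000) (tt N15720 D26001) (tt N15721 D26002))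
theorem Q11372 : ∀ i, i < 11372 → P i := stepQ 11371 Q11371 (allL N11371 (tt N15714 (iv F53460)) (tt N7255 F41826) (tt N15719 (iv F53469)) (tt N7750 F41827) (tt N7251 (iv D21601)) (tt N15722 D26003) (tt N15723 D26004))
theorem Q11373 : ∀ i, i < 11373 → P i := stepQ 11372 Q11372 (allL N11372 (tt N15715 (iv F53462)) (tt N15724 D26005) (tt N15720 (iv F53470)) (tt N7252 F41828) (tt N15722 (iv F53473)) (tt N7251 (iv D21602)) (tt N15725 D26006))
theorem Q11374 : ∀ i, i < 11374 → P i := stepQ 11373 Q11373 (allL N11373 (tt N15716 (iv F53464)) (tt N15653 (iv F53291)) (tt N15721 (iv F53471)) (tt N7253 F41829) (tt N15723 (iv F53475)) (tt N15726 D26007) (tt N7251 (iv D21603)))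
theorem Q11375 : ∀ i, i < 11375 → P i := stepQ 11374 Q11374 (allL N11374 (tt N12792 (iv F45646)) (tt N7252 (iv D21604)) (tt N14674 (iv F50709)) (tt N15724 (iv F53476)) (tt N7753 F41830) (tt N7257 F41831) (tt N15727 D26008))
theorem Q11376 : ∀ i, i < 11376 → P i := stepQ 11375 Q11375 (allL N11375 (tt N11376 (iv F41834)) (tt N14069 (iv F49187)) (tt N15703 (iv F53429)) (tt N15725 (iv F53478)) (tt N7754 F41832) (tt N11369 F41833) (tt N7252 (iv D21605)))
theorem Q11377 : ∀ i, i < 11377 → P i := stepQ 11376 Q11376 (allL N11376 (tt N11375 F41834) (tt N14296 (iv F49829)) (tt N12135 (iv F43736)) (tt N15726 (iv F53481)) (tt N7755 F41835) (tt N7253 (iv D21606)) (tt N11368 F41836))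
theorem Q11378 : ∀ i, i < 11378 → P i := stepQ 11377 Q11377 (allL N11377 (tt N15728 D26009) (tt N7254 (iv D21607)) (tt N15718 (iv F53468)) (tt N11162 F41837) (tt N15729 D26010) (tt N15730 D26011) (tt N15731 D26012))
theorem Q11379 : ∀ i, i < 11379 → P i := stepQ 11378 Q11378 (allL N11378 (tt N7261 F41838) (tt N15729 (iv F53486)) (tt N7255 F41839) (tt N15732 D26013) (tt N7254 (iv D21608)) (tt N15733 D26014) (tt N15656 (iv F53299)))
theorem Q11380 : ∀ i, i < 11380 → P i := stepQ 11379 Q11379 (allL N11379 (tt N7262 F41840) (tt N15734 D26015) (tt N7256 F41841) (tt N11164 F41842) (tt N15733 (iv F53493)) (tt N7254 (iv D21609)) (tt N11336 F41843))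
theorem Q11381 : ∀ i, i < 11381 → P i := stepQ 11380 Q11380 (allL N11380 (tt N7263 F41844) (tt N12712 (iv F45412)) (tt N15733 (iv F53492)) (tt N7759 F41845) (tt N7256 F41846) (tt N7255 (iv D21610)) (tt N11337 F41847))
theorem Q11382 : ∀ i, i < 11382 → P i := stepQ 11381 Q11381 (allL N11381 (tt N12715 (iv F45418)) (tt N7256 (iv D21611)) (tt N15735 D26016) (tt N7257 F41848) (tt N12712 (iv F45413)) (tt N15724 (iv F53477)) (tt N15736 D26017))
theorem Q11383 : ∀ i, i < 11383 → P i := stepQ 11382 Q11382 (allL N11382 (tt N12803 (iv F45681)) (tt N7258 F41849) (tt N7257 (iv D21612)) (tt N15737 D26018) (tt N7760 F41850) (tt N14674 (iv F50711)) (tt N14530 (iv F50380)))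
theorem Q11384 : ∀ i, i < 11384 → P i := stepQ 11383 Q11383 (allL N11383 (tt N12805 (iv F45689)) (tt N11341 F41851) (tt N14530 F50381) (tt N15736 (iv F53499)) (tt N7761 F41852) (tt N15738 D26019) (tt N7257 (iv D21613)))
theorem Q11385 : ∀ i, i < 11385 → P i := stepQ 11384 Q11384 (allL N11384 (tt N15066 (iv F51979)) (tt N15737 (iv F53500)) (tt N15739 D26020) (tt N7258 (iv D21614)) (tt N15740 D26021) (tt N15711 (iv F53452)) (tt N15063 (iv F51977)))
theorem Q11386 : ∀ i, i < 11386 → P i := stepQ 11385 Q11385 (allL N11385 (tt N7259 (iv D21615)) (tt N15741 D26022) (tt N7396 F41853) (tt N15742 D26023) (tt N15743 D26024) (tt N15744 D26025) (tt N15745 D26026))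
theorem Q11387 : ∀ i, i < 11387 → P i := stepQ 11386 Q11386 (allL N11386 (tt N15742 (iv F53512)) (tt N7260 F41854) (tt N15746 D26027) (tt N7259 (iv D21616)) (tt N15747 D26028) (tt N15748 D26029) (tt N15749 D26030))
theorem Q11388 : ∀ i, i < 11388 → P i := stepQ 11387 Q11387 (allL N11387 (tt N15743 (iv F53513)) (tt N7261 F41855) (tt N7397 F41856) (tt N15750 D26031) (tt N7259 (iv D21617)) (tt N15751 D26032) (tt N15752 D26033))
theorem Q11389 : ∀ i, i < 11389 → P i := stepQ 11388 Q11388 (allL N11388 (tt N15744 (iv F53515)) (tt N15753 D26034) (tt N7398 F41857) (tt N15748 (iv F53521)) (tt N15751 (iv F53525)) (tt N7259 (iv D21618)) (tt N15754 D26035))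
theorem Q11390 : ∀ i, i < 11390 → P i := stepQ 11389 Q11389 (allL N11389 (tt N15745 (iv F53517)) (tt N15661 (iv F53302)) (tt N7399 F41858) (tt N15749 (iv F53522)) (tt N15752 (iv F53527)) (tt N15755 D26036) (tt N7259 (iv D21619)))
theorem Q11391 : ∀ i, i < 11391 → P i := stepQ 11390 Q11390 (allL N11390 (tt N11163 F41859) (tt N15747 (iv F53520)) (tt N11158 F41860) (tt N15756 D26037) (tt N7260 (iv D21620)) (tt N15757 D26038) (tt N15662 (iv F53306)))
theorem Q11392 : ∀ i, i < 11392 → P i := stepQ 11391 Q11391 (allL N11391 (tt N11164 F41861) (tt N15758 D26039) (tt N11159 F41862) (tt N7262 F41863) (tt N15757 (iv F53538)) (tt N7260 (iv D21621)) (tt N15375 (iv F52665)))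
theorem Q11393 : ∀ i, i < 11393 → P i := stepQ 11392 Q11392 (allL N11392 (tt N15732 (iv F53489)) (tt N15750 (iv F53523)) (tt N15759 D26040) (tt N7261 (iv D21622)) (tt N15756 (iv F53535)) (tt N15760 D26041) (tt N15663 (iv F53307)))
theorem Q11394 : ∀ i, i < 11394 → P i := stepQ 11393 Q11393 (allL N11393 (tt N15733 (iv F53491)) (tt N15761 D26042) (tt N7263 F41864) (tt N15760 (iv F53540)) (tt N7262 F41865) (tt N7261 (iv D21623)) (tt N15762 D26043))
theorem Q11395 : ∀ i, i < 11395 → P i := stepQ 11394 Q11394 (allL N11394 (tt N15753 (iv F59254)) (tt N7262 (iv D21624)) (tt N14581 (iv F50488)) (tt N15758 (iv F53539)) (tt N15761 (iv F53541)) (tt N15753 (iv F53528)) (tt N15763 D26045))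
theorem Q11396 : ∀ i, i < 11396 → P i := stepQ 11395 Q11395 (allL N11395 (tt N11336 F41866) (tt N15764 D26046) (tt N7264 F41867) (tt N15375 (iv F52664)) (tt N15762 (iv F53544)) (tt N11331 F41868) (tt N7262 (iv D21625)))
theorem Q11397 : ∀ i, i < 11397 → P i := stepQ 11396 Q11396 (allL N11396 (tt N11337 F41869) (tt N15765 D26047) (tt N15762 (iv F53543)) (tt N7773 F41870) (tt N7264 F41871) (tt N11332 F41872) (tt N7263 (iv D21626)))
theorem Q11398 : ∀ i, i < 11398 → P i := stepQ 11397 Q11397 (allL N11397 (tt N15766 D26048) (tt N7264 (iv D21627)) (tt N15767 D26049) (tt N7265 F41873) (tt N15765 (iv F53547)) (tt N15768 D26050) (tt N14583 (iv F50493)))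
theorem Q11399 : ∀ i, i < 11399 → P i := stepQ 11398 Q11398 (allL N11398 (tt N7265 (iv D21628)) (tt N13618 F47907) (tt N15769 D26051) (tt N15766 (iv F53548)) (tt N7775 F41874) (tt N15770 D26052) (tt N14585 (iv F50500)))
theorem Q11400 : ∀ i, i < 11400 → P i := stepQ 11399 Q11399 (allL N11399 (tt N15769 (iv F53551)) (tt N7267 F41875) (tt N7265 (iv D21629)) (tt N12896 F45940) (tt N7776 F41876) (tt N15771 D26053) (tt N14586 (iv F50503)))
theorem Q11401 : ∀ i, i < 11401 → P i := stepQ 11400 Q11400 (allL N11400 (tt N15770 (iv F53554)) (tt N11329 F41877) (tt N15771 (iv F53557)) (tt N15768 (iv F53550)) (tt N7777 F41878) (tt N7265 (iv D21630)) (tt N15772 D26054))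
theorem Q11402 : ∀ i, i < 11402 → P i := stepQ 11401 Q11401 (allL N11401 (tt N7267 F41879) (tt N15773 D26055) (tt N7266 (iv D21631)) (tt N10745 (iv F41883)) (tt N7778 F41880) (tt N10762 F41881) (tt N10184 F41882))
theorem Q11403 : ∀ i, i < 11403 → P i := stepQ 11402 Q11402 (allL N11402 (tt N10762 F41884) (tt N15774 D26056) (tt N7268 F41885) (tt N10771 F41886) (tt N7780 F41887) (tt N7267 (iv D21632)) (tt N11101 F41888))
theorem Q11404 : ∀ i, i < 11404 → P i := stepQ 11403 Q11403 (allL N11403 (tt N9932 F41889) (tt N10056 F41890) (tt N7270 (iv D21633)) (tt N15775 D26057) (tt N7782 F41891) (tt N11281 F41892) (tt N10850 F41893))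
theorem Q11405 : ∀ i, i < 11405 → P i := stepQ 11404 Q11404 (allL N11404 (tt N14588 (iv F50506)) (tt N15776 D26058) (tt N8413 F41894) (tt N7272 F41895) (tt N13167 (iv F46588)) (tt N7271 (iv D21634)) (tt N15777 D26059))
theorem Q11406 : ∀ i, i < 11406 → P i := stepQ 11405 Q11405 (allL N11405 (tt N15778 D26060) (tt N7272 (iv D21635)) (tt N15710 (iv F53449)) (tt N15776 (iv F53577)) (tt N7783 F41896) (tt N7276 F41897) (tt N15709 F53447))
theorem Q11407 : ∀ i, i < 11407 → P i := stepQ 11406 Q11406 (allL N11406 (tt N9137 F41898) (tt N10892 (iv F41902)) (tt N7289 F41899) (tt N15777 (iv F53581)) (tt N7784 F41900) (tt N9135 F41901) (tt N7272 (iv D21636)))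
theorem Q11408 : ∀ i, i < 11408 → P i := stepQ 11407 Q11407 (allL N11407 (tt N13239 (iv F46745)) (tt N15779 D26061) (tt N8757 F41903) (tt N7785 F41904) (tt N7274 F41905) (tt N7273 (iv D21637)) (tt N13237 (iv F46743)))
theorem Q11409 : ∀ i, i < 11409 → P i := stepQ 11408 Q11408 (allL N11408 (tt N15780 D26062) (tt N7274 (iv D21638)) (tt N15781 D26063) (tt N7276 F41906) (tt N15779 (iv F53589)) (tt N15776 (iv F53578)) (tt N15782 D26064))
theorem Q11410 : ∀ i, i < 11410 → P i := stepQ 11409 Q11409 (allL N11409 (tt N11410 (iv F41910)) (tt N15783 D26065) (tt N8759 F41907) (tt N7277 F41908) (tt N13237 (iv F46742)) (tt N10156 F41909) (tt N7274 (iv D21639)))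
theorem Q11411 : ∀ i, i < 11411 → P i := stepQ 11410 Q11410 (allL N11410 (tt N11409 F41910) (tt N15784 D26066) (tt N8659 F41911) (tt N7278 F41912) (tt N8873 F41913) (tt N7275 (iv D21640)) (tt N10155 F41914))
theorem Q11412 : ∀ i, i < 11412 → P i := stepQ 11411 Q11411 (allL N11411 (tt N7276 (iv D21641)) (tt N15785 D26067) (tt N15786 D26068) (tt N15780 (iv F53590)) (tt N7788 F41915) (tt N15778 (iv F53586)) (tt N15787 D26069))
theorem Q11413 : ∀ i, i < 11413 → P i := stepQ 11412 Q11412 (allL N11412 (tt N15786 (iv F53601)) (tt N7280 F41916) (tt N7276 (iv D21642)) (tt N15788 D26070) (tt N7789 F41917) (tt N15710 F53451) (tt N15789 D26071))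
theorem Q11414 : ∀ i, i < 11414 → P i := stepQ 11413 Q11413 (allL N11413 (tt N15787 (iv F53604)) (tt N11486 (iv F43417)) (tt N15789 (iv F53611)) (tt N15782 (iv F53592)) (tt N7790 F41918) (tt N15790 D26072) (tt N7276 (iv D21643)))
theorem Q11415 : ∀ i, i < 11415 → P i := stepQ 11414 Q11414 (allL N11414 (tt N11489 (iv F43421)) (tt N7277 (iv D21644)) (tt N15592 (iv F53110)) (tt N15783 (iv F53593)) (tt N7791 F41919) (tt N15791 D26073) (tt N11486 F43420))
theorem Q11416 : ∀ i, i < 11416 → P i := stepQ 11415 Q11415 (allL N11415 (tt N15792 D26074) (tt N7278 (iv D21645)) (tt N15793 D26075) (tt N15784 (iv F53594)) (tt N7792 F41920) (tt N9150 F41921) (tt N15794 D26076))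
theorem Q11417 : ∀ i, i < 11417 → P i := stepQ 11416 Q11416 (allL N11416 (tt N7280 F41922) (tt N11629 (iv F42405)) (tt N7279 (iv D21646)) (tt N15795 D26077) (tt N7793 F41923) (tt N7300 F41924) (tt N10041 F41925))
theorem Q11418 : ∀ i, i < 11418 → P i := stepQ 11417 Q11417 (allL N11417 (tt N15795 (iv F53631)) (tt N15788 (iv F53609)) (tt N15796 D26078) (tt N7280 (iv D21647)) (tt N15797 D26079) (tt N7301 F41926) (tt N15798 D26080))
theorem Q11419 : ∀ i, i < 11419 → P i := stepQ 11418 Q11418 (allL N11418 (tt N10041 F41927) (tt N15799 D26081) (tt N7281 F41928) (tt N15798 (iv F53638)) (tt N7795 F41929) (tt N11259 F41930) (tt N7280 (iv D21648)))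
theorem Q11420 : ∀ i, i < 11420 → P i := stepQ 11419 Q11419 (allL N11419 (tt N10019 F41931) (tt N15793 (iv F53626)) (tt N7282 (iv D21649)) (tt N15800 D26082) (tt N7796 F41932) (tt N14292 (iv F49818)) (tt N10015 F41933))
theorem Q11421 : ∀ i, i < 11421 → P i := stepQ 11420 Q11420 (allL N11420 (tt N15801 D26083) (tt N7283 (iv D21650)) (tt N15802 D26084) (tt N12654 (iv F45263)) (tt N7801 F41934) (tt N11420 F41935) (tt N15803 D26085))
theorem Q11422 : ∀ i, i < 11422 → P i := stepQ 11421 Q11421 (allL N11421 (tt N12602 (iv F45103)) (tt N15804 D26086) (tt N12601 (iv F45098)) (tt N7807 F41936) (tt N7286 F41937) (tt N7285 (iv D21651)) (tt N14832 (iv F51255)))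
theorem Q11423 : ∀ i, i < 11423 → P i := stepQ 11422 Q11422 (allL N11422 (tt N15805 D26087) (tt N7286 (iv D21652)) (tt N15806 D26088) (tt N7288 F41938) (tt N15804 (iv F53656)) (tt N7295 F41939) (tt N15121 (iv F52109)))
theorem Q11424 : ∀ i, i < 11424 → P i := stepQ 11423 Q11423 (allL N11423 (tt N11424 (iv F41944)) (tt N10891 (iv F41943)) (tt N8356 F41940) (tt N7289 F41941) (tt N14832 (iv F51254)) (tt N8355 F41942) (tt N7286 (iv D21653)))
theorem Q11425 : ∀ i, i < 11425 → P i := stepQ 11424 Q11424 (allL N11424 (tt N11423 F41944) (tt N15807 D26089) (tt N8385 F41945) (tt N7290 F41946) (tt N14953 (iv F51661)) (tt N7287 (iv D21654)) (tt N8383 F41947))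
theorem Q11426 : ∀ i, i < 11426 → P i := stepQ 11425 Q11425 (allL N11425 (tt N7288 (iv D21655)) (tt N15808 D26090) (tt N15809 D26091) (tt N15805 (iv F53658)) (tt N7812 F41948) (tt N7296 F41949) (tt N11440 (iv F41977)))
theorem Q11427 : ∀ i, i < 11427 → P i := stepQ 11426 Q11426 (allL N11426 (tt N15809 (iv F53666)) (tt N15710 (iv F53448)) (tt N7288 (iv D21656)) (tt N15810 D26092) (tt N7813 F41950) (tt N7297 F41951) (tt N15122 (iv F52113)))
theorem Q11428 : ∀ i, i < 11428 → P i := stepQ 11427 Q11427 (allL N11427 (tt N11473 F42773) (tt N7290 (iv D21657)) (tt N15811 D26093) (tt N15807 (iv F53661)) (tt N7814 F41952) (tt N15269 (iv F52423)) (tt N11470 (iv F42772)))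
theorem Q11429 : ∀ i, i < 11429 → P i := stepQ 11428 Q11428 (allL N11428 (tt N12822 (iv F45751)) (tt N12555 F45024) (tt N12652 (iv F45255)) (tt N11190 F41953) (tt N12584 (iv F45022)) (tt N7291 (iv D21658)) (tt N14879 (iv F51419)))
theorem Q11430 : ∀ i, i < 11430 → P i := stepQ 11429 Q11429 (allL N11429 (tt N10603 F41954) (tt N8740 F41955) (tt N10600 F41956) (tt N11189 F41957) (tt N9017 F41958) (tt N12982 F46146) (tt N7291 (iv D21659)))
theorem Q11431 : ∀ i, i < 11431 → P i := stepQ 11430 Q11430 (allL N11430 (tt N12557 F45026) (tt N7293 (iv D21660)) (tt N13430 (iv F47284)) (tt N11192 F41959) (tt N12586 (iv F45034)) (tt N12555 (iv F45025)) (tt N12914 (iv F45984)))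
theorem Q11432 : ∀ i, i < 11432 → P i := stepQ 11431 Q11431 (allL N11431 (tt N15812 D26094) (tt N7294 (iv D21661)) (tt N13427 F47280) (tt N7816 F41960) (tt N7295 F41961) (tt N15804 (iv F53657)) (tt N15813 D26095))
theorem Q11433 : ∀ i, i < 11433 → P i := stepQ 11432 Q11432 (allL N11432 (tt N7295 (iv D21662)) (tt N15814 D26096) (tt N15815 D26097) (tt N7296 F41962) (tt N15812 (iv F53676)) (tt N15805 (iv F53659)) (tt N15816 D26098))
theorem Q11434 : ∀ i, i < 11434 → P i := stepQ 11433 Q11433 (allL N11433 (tt N15815 (iv F53681)) (tt N13430 (iv F47283)) (tt N7295 (iv D21663)) (tt N15817 D26099) (tt N13427 (iv F47281)) (tt N15806 (iv F53660)) (tt N15818 D26100))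
theorem Q11435 : ∀ i, i < 11435 → P i := stepQ 11434 Q11434 (allL N11434 (tt N15816 (iv F53682)) (tt N11074 F41963) (tt N15818 (iv F53689)) (tt N7298 F41964) (tt N15813 (iv F53679)) (tt N15819 D26101) (tt N7295 (iv D21664)))
theorem Q11436 : ∀ i, i < 11436 → P i := stepQ 11435 Q11435 (allL N11435 (tt N15803 (iv F53651)) (tt N7296 (iv D21665)) (tt N15820 D26102) (tt N15814 (iv F53680)) (tt N7819 F41965) (tt N15803 (iv F53654)) (tt N15801 F53647))
theorem Q11437 : ∀ i, i < 11437 → P i := stepQ 11436 Q11436 (allL N11436 (tt N7297 F41966) (tt N15821 D26103) (tt N7296 (iv D21666)) (tt N15822 D26104) (tt N7820 F41967) (tt N15809 (iv F53669)) (tt N15823 D26105))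
theorem Q11438 : ∀ i, i < 11438 → P i := stepQ 11437 Q11437 (allL N11437 (tt N7298 F41968) (tt N10954 (iv F41971)) (tt N15823 (iv F53699)) (tt N15816 (iv F53683)) (tt N7821 F41969) (tt N10957 F41970) (tt N7296 (iv D21667)))
theorem Q11439 : ∀ i, i < 11439 → P i := stepQ 11438 Q11438 (allL N11438 (tt N15822 (iv F53697)) (tt N7301 F41972) (tt N15824 D26106) (tt N7297 (iv D21668)) (tt N15825 D26107) (tt N15810 (iv F53671)) (tt N15826 D26108))
theorem Q11440 : ∀ i, i < 11440 → P i := stepQ 11439 Q11439 (allL N11439 (tt N15823 (iv F53698)) (tt N12230 (iv F43978)) (tt N7298 F41973) (tt N15826 (iv F53704)) (tt N7823 F41974) (tt N12225 (iv F43955)) (tt N7297 (iv D21669)))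
theorem Q11441 : ∀ i, i < 11441 → P i := stepQ 11440 Q11440 (allL N11440 (tt N10957 F41975) (tt N7320 (iv F41978)) (tt N12225 (iv F43954)) (tt N15819 (iv F53691)) (tt N7824 F41976) (tt N7298 (iv D21670)) (tt N11425 F41977))
theorem Q11442 : ∀ i, i < 11442 → P i := stepQ 11441 Q11441 (allL N11441 (tt N14196 (iv F49582)) (tt N11368 F41982) (tt N7299 (iv D21671)) (tt N15827 D26109) (tt N7825 F41979) (tt N10849 F41980) (tt N11242 F41981))
theorem Q11443 : ∀ i, i < 11443 → P i := stepQ 11442 Q11442 (allL N11442 (tt N11358 F41985) (tt N7300 (iv D21672)) (tt N11368 F41983) (tt N15828 D26110) (tt N7826 F41984) (tt N11356 (iv F41986)) (tt N12135 (iv F43738)))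
theorem Q11444 : ∀ i, i < 11444 → P i := stepQ 11443 Q11443 (allL N11443 (tt N7301 F41987) (tt N15828 (iv F53709)) (tt N15829 D26111) (tt N7300 (iv D21673)) (tt N15830 D26112) (tt N15795 (iv F53632)) (tt N15560 (iv F53039)))
theorem Q11445 : ∀ i, i < 11445 → P i := stepQ 11444 Q11444 (allL N11444 (tt N15829 (iv F53711)) (tt N15831 D26113) (tt N7301 (iv D21674)) (tt N15832 D26114) (tt N15833 D26115) (tt N15796 (iv F53634)) (tt N15834 D26116))
theorem Q11446 : ∀ i, i < 11446 → P i := stepQ 11445 Q11445 (allL N11445 (tt N15830 (iv F53713)) (tt N15825 (iv F53702)) (tt N15833 (iv F53717)) (tt N7829 F41988) (tt N7301 (iv D21675)) (tt N15797 (iv F53636)) (tt N15835 D26117))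
theorem Q11447 : ∀ i, i < 11447 → P i := stepQ 11446 Q11446 (allL N11446 (tt N15560 (iv F53038)) (tt N15836 D26118) (tt N15834 (iv F53718)) (tt N7302 F41989) (tt N15835 (iv F53720)) (tt N14328 (iv F49904)) (tt N7301 (iv D21676)))
theorem Q11448 : ∀ i, i < 11448 → P i := stepQ 11447 Q11447 (allL N11447 (tt N15837 D26119) (tt N7302 (iv D21677)) (tt N11084 F41990) (tt N15836 (iv F53721)) (tt N7831 F41991) (tt N15838 D26120) (tt N12230 F43980))
theorem Q11449 : ∀ i, i < 11449 → P i := stepQ 11448 Q11448 (allL N11448 (tt N7304 F41992) (tt N12827 (iv F45760)) (tt N10283 F41993) (tt N7303 (iv D21678)) (tt N12906 (iv F45966)) (tt N15839 D26121) (tt N15840 D26122))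
theorem Q11450 : ∀ i, i < 11450 → P i := stepQ 11449 Q11449 (allL N11449 (tt N7306 F41994) (tt N13097 (iv F46424)) (tt N7315 F41995) (tt N15839 (iv F53733)) (tt N12575 (iv F44981)) (tt N7303 (iv D21679)) (tt N11458 (iv F42025)))
theorem Q11451 : ∀ i, i < 11451 → P i := stepQ 11450 Q11450 (allL N11450 (tt N7307 F41996) (tt N12862 (iv F45860)) (tt N7402 F41997) (tt N15840 (iv F53736)) (tt N8271 F41998) (tt N11457 (iv F42021)) (tt N7303 (iv D21680)))
theorem Q11452 : ∀ i, i < 11452 → P i := stepQ 11451 Q11451 (allL N11451 (tt N10283 F41999) (tt N11177 F42000) (tt N7304 (iv D21681)) (tt N10277 F42001) (tt N14360 F49988) (tt N15841 D26123) (tt N15842 D26124))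
theorem Q11453 : ∀ i, i < 11453 → P i := stepQ 11452 Q11452 (allL N11452 (tt N12906 (iv F45965)) (tt N7308 F42002) (tt N14360 (iv F49987)) (tt N8656 F42003) (tt N7304 (iv D21682)) (tt N15607 F53153) (tt N8632 (iv F42004)))
theorem Q11454 : ∀ i, i < 11454 → P i := stepQ 11453 Q11453 (allL N11453 (tt N15839 (iv F53731)) (tt N15605 F53146) (tt N15841 (iv F53740)) (tt N7306 F42005) (tt N15607 (iv F53151)) (tt N7304 (iv D21683)) (tt N15609 (iv F53161)))
theorem Q11455 : ∀ i, i < 11455 → P i := stepQ 11454 Q11454 (allL N11454 (tt N15840 (iv F53734)) (tt N8230 F42006) (tt N15842 (iv F53744)) (tt N7307 F42007) (tt N8632 F42008) (tt N15843 D26125) (tt N7304 (iv D21684)))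
theorem Q11456 : ∀ i, i < 11456 → P i := stepQ 11455 Q11455 (allL N11455 (tt N12575 (iv F44978)) (tt N8916 F42009) (tt N7313 F42010) (tt N8932 F42011) (tt N7306 F42012) (tt N7305 (iv D21685)) (tt N8958 F42013))
theorem Q11457 : ∀ i, i < 11457 → P i := stepQ 11456 Q11456 (allL N11456 (tt N12892 (iv F45929)) (tt N7306 (iv D21686)) (tt N7311 F42014) (tt N15605 (iv F53143)) (tt N8916 F42015) (tt N7311 F42016) (tt N8639 F42017))
theorem Q11458 : ∀ i, i < 11458 → P i := stepQ 11457 Q11457 (allL N11457 (tt N11458 (iv F42022)) (tt N8700 F42018) (tt N7316 F42019) (tt N15609 (iv F53159)) (tt N8958 F42020) (tt N11450 F42021) (tt N7306 (iv D21687)))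
theorem Q11459 : ∀ i, i < 11459 → P i := stepQ 11458 Q11458 (allL N11458 (tt N11457 F42022) (tt N12566 (iv F44945)) (tt N7404 F42023) (tt N15843 (iv F53748)) (tt N8272 F42024) (tt N7307 (iv D21688)) (tt N11449 F42025))
theorem Q11460 : ∀ i, i < 11460 → P i := stepQ 11459 Q11459 (allL N11459 (tt N11191 F42026) (tt N15608 (iv F53155)) (tt N11179 F42027) (tt N8747 F42028) (tt N7309 F42029) (tt N7308 (iv D21689)) (tt N12937 (iv F46041)))
theorem Q11461 : ∀ i, i < 11461 → P i := stepQ 11460 Q11460 (allL N11460 (tt N12869 (iv F45885)) (tt N7309 (iv D21690)) (tt N15844 D26126) (tt N7311 F42030) (tt N15608 (iv F53157)) (tt N15605 (iv F53145)) (tt N12867 F45883))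
theorem Q11462 : ∀ i, i < 11462 → P i := stepQ 11461 Q11461 (allL N11461 (tt N12856 (iv F45840)) (tt N7312 (iv D21691)) (tt N15845 D26127) (tt N15185 (iv F52248)) (tt N12588 (iv F45040)) (tt N13032 (iv F46273)) (tt N12853 F45834))
theorem Q11463 : ∀ i, i < 11463 → P i := stepQ 11462 Q11462 (allL N11462 (tt N7313 (iv D21692)) (tt N15846 D26128) (tt N12575 (iv F44979)) (tt N7842 F42031) (tt N7315 F42032) (tt N7401 F42033) (tt N11616 (iv F42370)))
theorem Q11464 : ∀ i, i < 11464 → P i := stepQ 11463 Q11463 (allL N11463 (tt N11616 (iv F42366)) (tt N15847 D26129) (tt N8958 F42034) (tt N7844 F42035) (tt N7316 F42036) (tt N11615 (iv F42365)) (tt N7313 (iv D21693)))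
theorem Q11465 : ∀ i, i < 11465 → P i := stepQ 11464 Q11464 (allL N11464 (tt N15848 D26130) (tt N7314 (iv D21694)) (tt N15849 D26131) (tt N7845 F42037) (tt N7317 F42038) (tt N13439 (iv F47301)) (tt N15847 (iv F53762)))
theorem Q11466 : ∀ i, i < 11466 → P i := stepQ 11465 Q11465 (allL N11465 (tt N15850 D26132) (tt N7315 (iv D21695)) (tt N15851 D26133) (tt N7318 F42039) (tt N15846 (iv F53757)) (tt N15852 D26134) (tt N15853 D26135))
theorem Q11467 : ∀ i, i < 11467 → P i := stepQ 11466 Q11466 (allL N11466 (tt N15854 D26136) (tt N7316 (iv D21696)) (tt N15855 D26137) (tt N7319 F42040) (tt N15847 (iv F53761)) (tt N15131 (iv F52141)) (tt N7317 F42041))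
theorem Q11468 : ∀ i, i < 11468 → P i := stepQ 11467 Q11467 (allL N11467 (tt N7317 (iv D21697)) (tt N15819 F53693) (tt N15856 D26138) (tt N7320 F42042) (tt N15848 (iv F53764)) (tt N15857 D26139) (tt N15854 (iv F53783)))
theorem Q11469 : ∀ i, i < 11469 → P i := stepQ 11468 Q11468 (allL N11468 (tt N15856 (iv F53787)) (tt N15845 (iv F53752)) (tt N7317 (iv D21698)) (tt N15858 D26140) (tt N15849 (iv F53769)) (tt N15859 D26141) (tt N15855 (iv F53786)))
theorem Q11470 : ∀ i, i < 11470 → P i := stepQ 11469 Q11469 (allL N11469 (tt N15857 (iv F53791)) (tt N11066 F42043) (tt N15859 (iv F53798)) (tt N7322 F42044) (tt N13439 (iv F47300)) (tt N7317 (iv D21699)) (tt N15860 D26142))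
theorem Q11471 : ∀ i, i < 11471 → P i := stepQ 11470 Q11470 (allL N11470 (tt N7318 (iv D21700)) (tt N15803 (iv F53652)) (tt N15861 D26143) (tt N15850 (iv F53773)) (tt N7851 F42045) (tt N15808 (iv F53664)) (tt N11427 F42772))
theorem Q11472 : ∀ i, i < 11472 → P i := stepQ 11471 Q11471 (allL N11471 (tt N15861 (iv F53804)) (tt N12792 (iv F45647)) (tt N7318 (iv D21701)) (tt N15862 D26144) (tt N7852 F42046) (tt N8557 (iv F42047)) (tt N14316 F49867))
theorem Q11473 : ∀ i, i < 11473 → P i := stepQ 11472 Q11472 (allL N11472 (tt N15808 (iv F53662)) (tt N7407 F42048) (tt N8557 F42049) (tt N15852 (iv F53778)) (tt N7853 F42050) (tt N7318 (iv D21702)) (tt N15269 (iv F52424)))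
theorem Q11474 : ∀ i, i < 11474 → P i := stepQ 11473 Q11473 (allL N11473 (tt N11427 (iv F42773)) (tt N11623 (iv F42390)) (tt N14316 F49866) (tt N15853 (iv F53781)) (tt N7854 F42051) (tt N15863 D26145) (tt N7318 (iv D21703)))
theorem Q11475 : ∀ i, i < 11475 → P i := stepQ 11474 Q11474 (allL N11474 (tt N7319 (iv D21704)) (tt N15863 (iv F53814)) (tt N15864 D26146) (tt N15854 (iv F53782)) (tt N7860 F42052) (tt N11480 (iv F42068)) (tt N7320 F42053))
theorem Q11476 : ∀ i, i < 11476 → P i := stepQ 11475 Q11475 (allL N11475 (tt N15864 (iv F53815)) (tt N14691 (iv F50752)) (tt N7319 (iv D21705)) (tt N15865 D26147) (tt N7861 F42054) (tt N14486 F50285) (tt N7321 F42055))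
theorem Q11477 : ∀ i, i < 11477 → P i := stepQ 11476 Q11476 (allL N11476 (tt N7321 F42056) (tt N8057 (iv F42058)) (tt N7320 (iv D21706)) (tt N13425 (iv F47274)) (tt N7862 F42057) (tt N15866 D26148) (tt N15864 (iv F53817)))
theorem Q11478 : ∀ i, i < 11478 → P i := stepQ 11477 Q11477 (allL N11477 (tt N7322 F42059) (tt N10964 F42060) (tt N15866 (iv F53823)) (tt N15857 (iv F53794)) (tt N7863 F42061) (tt N7320 (iv D21707)) (tt N10965 F42062))
theorem Q11479 : ∀ i, i < 11479 → P i := stepQ 11478 Q11478 (allL N11478 (tt N13425 (iv F47272)) (tt N7338 F42063) (tt N15867 D26149) (tt N7321 (iv D21708)) (tt N13424 F47271) (tt N15868 D26150) (tt N15865 (iv F53821)))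
theorem Q11480 : ∀ i, i < 11480 → P i := stepQ 11479 Q11479 (allL N11479 (tt N15866 (iv F53822)) (tt N15869 D26151) (tt N7322 F42064) (tt N15868 (iv F53828)) (tt N7865 F42065) (tt N7321 (iv D21709)) (tt N15870 D26152))
theorem Q11481 : ∀ i, i < 11481 → P i := stepQ 11480 Q11480 (allL N11480 (tt N10965 F42066) (tt N15871 D26153) (tt N15870 (iv F53840)) (tt N15860 (iv F53802)) (tt N7866 F42067) (tt N11474 F42068) (tt N7322 (iv D21710)))
theorem Q11482 : ∀ i, i < 11482 → P i := stepQ 11481 Q11481 (allL N11481 (tt N7324 F42069) (tt N13824 F48543) (tt N7323 (iv D21711)) (tt N15872 D26154) (tt N7867 F42070) (tt N13829 (iv F48564)) (tt N9943 F42071))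
theorem Q11483 : ∀ i, i < 11483 → P i := stepQ 11482 Q11482 (allL N11482 (tt N15873 D26155) (tt N7324 (iv D21712)) (tt N7327 F42072) (tt N15874 D26156) (tt N7868 F42073) (tt N15875 D26157) (tt N15876 D26158))
theorem Q11484 : ∀ i, i < 11484 → P i := stepQ 11483 Q11483 (allL N11483 (tt N15872 (iv F53848)) (tt N15874 (iv F53853)) (tt N15877 D26159) (tt N7324 (iv D21713)) (tt N15878 D26160) (tt N15879 D26161) (tt N15880 D26162))
theorem Q11485 : ∀ i, i < 11485 → P i := stepQ 11484 Q11484 (allL N11484 (tt N13829 (iv F48566)) (tt N15881 D26163) (tt N7325 F42074) (tt N15879 (iv F53862)) (tt N7870 F42075) (tt N7324 (iv D21714)) (tt N11969 (iv F43277)))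
theorem Q11486 : ∀ i, i < 11486 → P i := stepQ 11485 Q11485 (allL N11485 (tt N9943 F42076) (tt N12085 (iv F43564)) (tt N7326 F42077) (tt N15880 (iv F53866)) (tt N7871 F42078) (tt N11039 (iv F42079)) (tt N7324 (iv D21715)))
theorem Q11487 : ∀ i, i < 11487 → P i := stepQ 11486 Q11486 (allL N11486 (tt N7327 (iv D21716)) (tt N11413 F43417) (tt N15873 (iv F53850)) (tt N15882 D26164) (tt N7872 F42080) (tt N15883 D26165) (tt N11414 (iv F43420)))
theorem Q11488 : ∀ i, i < 11488 → P i := stepQ 11487 Q11487 (allL N11487 (tt N15882 (iv F53874)) (tt N7328 F42081) (tt N15651 (iv F61760)) (tt N7327 (iv D21717)) (tt N15650 (iv F61766)) (tt N15884 D26168) (tt N15885 D26169))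
theorem Q11489 : ∀ i, i < 11489 → P i := stepQ 11488 Q11488 (allL N11488 (tt N15883 (iv F53877)) (tt N7352 F42082) (tt N15875 (iv F53854)) (tt N15884 (iv F53882)) (tt N7874 F42083) (tt N7327 (iv D21718)) (tt N15791 (iv F53621)))
theorem Q11490 : ∀ i, i < 11490 → P i := stepQ 11489 Q11489 (allL N11489 (tt N11414 F43421) (tt N11559 (iv F42226)) (tt N15876 (iv F53857)) (tt N15885 (iv F53884)) (tt N7875 F42084) (tt N15886 D26170) (tt N7327 (iv D21719)))
theorem Q11491 : ∀ i, i < 11491 → P i := stepQ 11490 Q11490 (allL N11490 (tt N7329 F42085) (tt N15656 (iv F61756)) (tt N7328 (iv D21720)) (tt N11209 F42087) (tt N15655 (iv F61750)) (tt N7354 F42086) (tt N11554 (iv F42217)))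
theorem Q11492 : ∀ i, i < 11492 → P i := stepQ 11491 Q11491 (allL N11491 (tt N7330 F42088) (tt N15650 (iv F61764)) (tt N15655 (iv F61749)) (tt N7876 F42089) (tt N7328 (iv D21721)) (tt N7355 F42090) (tt N11555 (iv F42221)))
theorem Q11493 : ∀ i, i < 11493 → P i := stepQ 11492 Q11492 (allL N11492 (tt N15887 D26173) (tt N7329 (iv D21722)) (tt N14682 (iv F50728)) (tt N15888 D26174) (tt N15889 D26175) (tt N15890 D26176) (tt N15891 D26177))
theorem Q11494 : ∀ i, i < 11494 → P i := stepQ 11493 Q11493 (allL N11493 (tt N11209 F42091) (tt N15888 (iv F53892)) (tt N11208 F42092) (tt N7329 (iv D21723)) (tt N15892 D26178) (tt N7360 F42093) (tt N15519 (iv F52932)))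
theorem Q11495 : ∀ i, i < 11495 → P i := stepQ 11494 Q11494 (allL N11494 (tt N15655 (iv F61748)) (tt N15889 (iv F53893)) (tt N7330 F42094) (tt N15893 D26179) (tt N7329 (iv D21724)) (tt N7361 F42095) (tt N15894 D26180))
theorem Q11496 : ∀ i, i < 11496 → P i := stepQ 11495 Q11495 (allL N11495 (tt N11554 (iv F42215)) (tt N15895 D26181) (tt N7331 F42096) (tt N15519 (iv F52931)) (tt N15894 (iv F53901)) (tt N11538 (iv F42192)) (tt N7329 (iv D21725)))
theorem Q11497 : ∀ i, i < 11497 → P i := stepQ 11496 Q11496 (allL N11496 (tt N11555 (iv F42218)) (tt N15896 D26182) (tt N15894 (iv F53900)) (tt N7880 F42097) (tt N7331 F42098) (tt N11539 (iv F42196)) (tt N7330 (iv D21726)))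
theorem Q11498 : ∀ i, i < 11498 → P i := stepQ 11497 Q11497 (allL N11497 (tt N15897 D26183) (tt N7331 (iv D21727)) (tt N15898 D26184) (tt N7332 F42099) (tt N15896 (iv F53903)) (tt N15899 D26185) (tt N14688 (iv F50746)))
theorem Q11499 : ∀ i, i < 11499 → P i := stepQ 11498 Q11498 (allL N11498 (tt N7332 (iv D21728)) (tt N15900 D26186) (tt N15901 D26187) (tt N15897 (iv F53904)) (tt N7882 F42100) (tt N15902 D26188) (tt N14690 (iv F50750)))
theorem Q11500 : ∀ i, i < 11500 → P i := stepQ 11499 Q11499 (allL N11499 (tt N15901 (iv F53909)) (tt N7334 F42101) (tt N7332 (iv D21729)) (tt N15903 D26189) (tt N7883 F42102) (tt N15904 D26190) (tt N14691 (iv F50754)))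
theorem Q11501 : ∀ i, i < 11501 → P i := stepQ 11500 Q11500 (allL N11500 (tt N15902 (iv F53913)) (tt N11542 (iv F42200)) (tt N15904 (iv F53922)) (tt N15899 (iv F53905)) (tt N7884 F42103) (tt N7332 (iv D21730)) (tt N15905 D26191))
theorem Q11502 : ∀ i, i < 11502 → P i := stepQ 11501 Q11501 (allL N11501 (tt N7334 F42104) (tt N9523 F42105) (tt N7333 (iv D21731)) (tt N15906 D26192) (tt N7885 F42106) (tt N11510 (iv F42126)) (tt N7336 F42107))
theorem Q11503 : ∀ i, i < 11503 → P i := stepQ 11502 Q11502 (allL N11502 (tt N15906 (iv F53930)) (tt N15903 (iv F53918)) (tt N13135 (iv F46935)) (tt N7334 (iv D21732)) (tt N10750 F42108) (tt N15907 D26193) (tt N7338 F42109))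
theorem Q11504 : ∀ i, i < 11504 → P i := stepQ 11503 Q11503 (allL N11503 (tt N11510 (iv F42123)) (tt N15908 D26194) (tt N7335 F42110) (tt N15907 (iv F53935)) (tt N7887 F42111) (tt N7334 (iv D21733)) (tt N11505 (iv F42117)))
theorem Q11505 : ∀ i, i < 11505 → P i := stepQ 11504 Q11504 (allL N11504 (tt N7338 F42112) (tt N10081 F42113) (tt N15909 D26195) (tt N7336 (iv D21734)) (tt N15910 D26196) (tt N15911 D26197) (tt N15906 (iv F53933)))
theorem Q11506 : ∀ i, i < 11506 → P i := stepQ 11505 Q11505 (allL N11505 (tt N7339 F42114) (tt N15912 D26198) (tt N7337 F42115) (tt N15911 (iv F53955)) (tt N7889 F42116) (tt N7336 (iv D21735)) (tt N11503 F42117))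
theorem Q11507 : ∀ i, i < 11507 → P i := stepQ 11506 Q11506 (allL N11506 (tt N15909 (iv F53941)) (tt N13134 (iv F46937)) (tt N7338 (iv D21736)) (tt N15913 D26199) (tt N13416 (iv F47250)) (tt N15914 D26200) (tt N13135 F46936))
theorem Q11508 : ∀ i, i < 11508 → P i := stepQ 11507 Q11507 (allL N11507 (tt N15910 (iv F53949)) (tt N13424 F47270) (tt N13416 F47253) (tt N7891 F42118) (tt N7338 (iv D21737)) (tt N15915 D26201) (tt N10750 F42119))
theorem Q11509 : ∀ i, i < 11509 → P i := stepQ 11508 Q11508 (allL N11508 (tt N15911 (iv F53954)) (tt N15916 D26202) (tt N15914 (iv F53963)) (tt N7339 F42120) (tt N15915 (iv F53966)) (tt N7338 (iv D21738)) (tt N15917 D26203))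
theorem Q11510 : ∀ i, i < 11510 → P i := stepQ 11509 Q11509 (allL N11509 (tt N13655 (iv F48014)) (tt N7339 (iv D21739)) (tt N9542 F42121) (tt N15916 (iv F53967)) (tt N7893 F42122) (tt N15869 (iv F53835)) (tt N15918 D26204))
theorem Q11511 : ∀ i, i < 11511 → P i := stepQ 11510 Q11510 (allL N11510 (tt N11503 F42123) (tt N15919 D26205) (tt N7340 F42124) (tt N15917 (iv F53972)) (tt N7894 F42125) (tt N11501 F42126) (tt N7339 (iv D21740)))
theorem Q11512 : ∀ i, i < 11512 → P i := stepQ 11511 Q11511 (allL N11511 (tt N7378 (iv F42129)) (tt N7341 (iv D21741)) (tt N11352 F42127) (tt N15920 D26206) (tt N7895 F42128) (tt N15921 D26207) (tt N15922 D26208))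
theorem Q11513 : ∀ i, i < 11513 → P i := stepQ 11512 Q11512 (allL N11512 (tt N7345 F42130) (tt N15920 (iv F53979)) (tt N8732 F42131) (tt N7341 (iv D21742)) (tt N15123 (iv F52116)) (tt N15923 D26209) (tt N15705 (iv F53439)))
theorem Q11514 : ∀ i, i < 11514 → P i := stepQ 11513 Q11513 (allL N11513 (tt N7346 F42132) (tt N15924 D26210) (tt N7342 F42133) (tt N15923 (iv F53989)) (tt N7896 F42134) (tt N7341 (iv D21743)) (tt N10946 F42135))
theorem Q11515 : ∀ i, i < 11515 → P i := stepQ 11514 Q11514 (allL N11514 (tt N7347 F42136) (tt N15925 D26211) (tt N7343 F42137) (tt N15705 (iv F53437)) (tt N7741 F42138) (tt N7740 F42139) (tt N7341 (iv D21744)))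
theorem Q11516 : ∀ i, i < 11516 → P i := stepQ 11515 Q11515 (allL N11515 (tt N7344 (iv D21745)) (tt N7380 F42140) (tt N7350 F42141) (tt N15926 D26212) (tt N7897 F42142) (tt N15927 D26213) (tt N11282 (iv F42143)))
theorem Q11517 : ∀ i, i < 11517 → P i := stepQ 11516 Q11516 (allL N11516 (tt N15926 (iv F53999)) (tt N7345 F42144) (tt N8818 F42145) (tt N7344 (iv D21746)) (tt N15928 D26214) (tt N15929 D26215) (tt N15930 D26216))
theorem Q11518 : ∀ i, i < 11518 → P i := stepQ 11517 Q11517 (allL N11517 (tt N15927 (iv F54004)) (tt N15931 D26217) (tt N7352 F42146) (tt N15929 (iv F54015)) (tt N7899 F42147) (tt N7344 (iv D21747)) (tt N11930 (iv F43179)))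
theorem Q11519 : ∀ i, i < 11519 → P i := stepQ 11518 Q11518 (allL N11518 (tt N11282 F42148) (tt N15932 D26218) (tt N7353 F42149) (tt N15930 (iv F54020)) (tt N7900 F42150) (tt N15933 D26219) (tt N7344 (iv D21748)))
theorem Q11520 : ∀ i, i < 11520 → P i := stepQ 11519 Q11519 (allL N11519 (tt N15123 (iv F52114)) (tt N15928 (iv F54009)) (tt N8735 F42151) (tt N7901 F42152) (tt N7345 (iv D21749)) (tt N11362 (iv F42153)) (tt N15693 (iv F53396)))
theorem Q11521 : ∀ i, i < 11521 → P i := stepQ 11520 Q11520 (allL N11520 (tt N15923 (iv F53987)) (tt N15934 D26220) (tt N8736 F42154) (tt N7346 F42155) (tt N11362 F42156) (tt N7345 (iv D21750)) (tt N11360 (iv F42157)))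
theorem Q11522 : ∀ i, i < 11522 → P i := stepQ 11521 Q11521 (allL N11521 (tt N15705 (iv F53435)) (tt N15935 D26221) (tt N8721 F42158) (tt N7347 F42159) (tt N15693 (iv F53395)) (tt N15111 (iv F52078)) (tt N7345 (iv D21751)))
theorem Q11523 : ∀ i, i < 11523 → P i := stepQ 11522 Q11522 (allL N11522 (tt N11522 F43186) (tt N7346 (iv D21752)) (tt N15881 (iv F53871)) (tt N15934 (iv F54035)) (tt N7902 F42160) (tt N15931 (iv F54024)) (tt N15881 (iv F53873)))
theorem Q11524 : ∀ i, i < 11524 → P i := stepQ 11523 Q11523 (allL N11523 (tt N15936 D26222) (tt N7347 (iv D21753)) (tt N15536 (iv F52985)) (tt N15935 (iv F54038)) (tt N7903 F42161) (tt N15535 F52983) (tt N15932 (iv F54027)))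
theorem Q11525 : ∀ i, i < 11525 → P i := stepQ 11524 Q11524 (allL N11524 (tt N11595 F42320) (tt N15536 (iv F52984)) (tt N7349 (iv D21754)) (tt N15937 D26223) (tt N7904 F42162) (tt N10885 F42163) (tt N7358 F42164))
theorem Q11526 : ∀ i, i < 11526 → P i := stepQ 11525 Q11525 (allL N11525 (tt N7417 F42165) (tt N7350 (iv D21755)) (tt N7386 F42166) (tt N15938 D26224) (tt N7905 F42167) (tt N15939 D26225) (tt N15030 (iv F51911)))
theorem Q11527 : ∀ i, i < 11527 → P i := stepQ 11526 Q11526 (allL N11526 (tt N7351 F42168) (tt N15938 (iv F54045)) (tt N13244 (iv F46763)) (tt N7350 (iv D21756)) (tt N15940 D26226) (tt N15941 D26227) (tt N15942 D26228))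
theorem Q11528 : ∀ i, i < 11528 → P i := stepQ 11527 Q11527 (allL N11527 (tt N7352 F42169) (tt N15943 D26229) (tt N15927 (iv F54006)) (tt N15941 (iv F54053)) (tt N7907 F42170) (tt N7350 (iv D21757)) (tt N11535 (iv F42185)))
theorem Q11529 : ∀ i, i < 11529 → P i := stepQ 11528 Q11528 (allL N11528 (tt N7353 F42171) (tt N11281 (iv F42174)) (tt N11282 F42172) (tt N15942 (iv F54055)) (tt N7908 F42173) (tt N11533 (iv F42180)) (tt N7350 (iv D21758)))
theorem Q11530 : ∀ i, i < 11530 → P i := stepQ 11529 Q11529 (allL N11529 (tt N13244 (iv F46761)) (tt N15944 D26230) (tt N7351 (iv D21759)) (tt N13243 F46760) (tt N15945 D26231) (tt N15946 D26232) (tt N15947 D26233))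
theorem Q11531 : ∀ i, i < 11531 → P i := stepQ 11530 Q11530 (allL N11530 (tt N15940 (iv F54050)) (tt N7355 F42175) (tt N15945 (iv F54060)) (tt N7910 F42176) (tt N7351 (iv D21760)) (tt N15948 D26234) (tt N15949 D26235))
theorem Q11532 : ∀ i, i < 11532 → P i := stepQ 11531 Q11531 (allL N11531 (tt N15941 (iv F54052)) (tt N15884 (iv F53881)) (tt N15946 (iv F54061)) (tt N7352 F42177) (tt N15948 (iv F54064)) (tt N7351 (iv D21761)) (tt N15950 D26236))
theorem Q11533 : ∀ i, i < 11533 → P i := stepQ 11532 Q11532 (allL N11532 (tt N15942 (iv F54054)) (tt N15951 D26237) (tt N15947 (iv F54062)) (tt N7353 F42178) (tt N15949 (iv F54066)) (tt N15952 D26238) (tt N7351 (iv D21762)))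
theorem Q11534 : ∀ i, i < 11534 → P i := stepQ 11533 Q11533 (allL N11533 (tt N11535 (iv F42183)) (tt N14351 (iv F49966)) (tt N11930 (iv F43177)) (tt N15950 (iv F54067)) (tt N7913 F42179) (tt N11528 F42180) (tt N7352 (iv D21763)))
theorem Q11535 : ∀ i, i < 11535 → P i := stepQ 11534 Q11534 (allL N11534 (tt N12767 (iv F45562)) (tt N7353 (iv D21764)) (tt N14645 (iv F50632)) (tt N15951 (iv F54069)) (tt N7914 F42181) (tt N15953 D26239) (tt N7357 F42182))
theorem Q11536 : ∀ i, i < 11536 → P i := stepQ 11535 Q11535 (allL N11535 (tt N11533 F42183) (tt N14120 (iv F49348)) (tt N15933 (iv F54031)) (tt N15952 (iv F54072)) (tt N7915 F42184) (tt N7353 (iv D21765)) (tt N11527 F42185))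
theorem Q11537 : ∀ i, i < 11537 → P i := stepQ 11536 Q11536 (allL N11536 (tt N15954 D26240) (tt N7354 (iv D21766)) (tt N15944 (iv F54059)) (tt N11231 F42186) (tt N15955 D26241) (tt N15956 D26242) (tt N15730 F64355))
theorem Q11538 : ∀ i, i < 11538 → P i := stepQ 11537 Q11537 (allL N11537 (tt N7361 F42187) (tt N15955 (iv F54077)) (tt N7355 F42188) (tt N15957 D26244) (tt N7354 (iv D21767)) (tt N15655 (iv F61751)) (tt N15958 D26245))
theorem Q11539 : ∀ i, i < 11539 → P i := stepQ 11538 Q11538 (allL N11538 (tt N7362 F42189) (tt N15959 D26246) (tt N7356 F42190) (tt N11233 F42191) (tt N15958 (iv F54084)) (tt N11495 F42192) (tt N7354 (iv D21768)))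
theorem Q11540 : ∀ i, i < 11540 → P i := stepQ 11539 Q11539 (allL N11539 (tt N7363 F42193) (tt N12683 (iv F45342)) (tt N15958 (iv F54083)) (tt N7916 F42194) (tt N7356 F42195) (tt N11496 F42196) (tt N7355 (iv D21769)))
theorem Q11541 : ∀ i, i < 11541 → P i := stepQ 11540 Q11540 (allL N11540 (tt N12686 (iv F45348)) (tt N7356 (iv D21770)) (tt N15960 D26247) (tt N7357 F42197) (tt N12683 (iv F45343)) (tt N15961 D26248) (tt N15951 (iv F54070)))
theorem Q11542 : ∀ i, i < 11542 → P i := stepQ 11541 Q11541 (allL N11541 (tt N12778 (iv F45597)) (tt N7358 F42198) (tt N7357 (iv D21771)) (tt N15962 D26249) (tt N7917 F42199) (tt N14481 (iv F50268)) (tt N14645 (iv F50634)))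
theorem Q11543 : ∀ i, i < 11543 → P i := stepQ 11542 Q11542 (allL N11542 (tt N12780 (iv F45605)) (tt N11500 F42200) (tt N14481 F50269) (tt N15961 (iv F54090)) (tt N7918 F42201) (tt N7357 (iv D21772)) (tt N15963 D26250))
theorem Q11544 : ∀ i, i < 11544 → P i := stepQ 11543 Q11543 (allL N11543 (tt N15061 (iv F51973)) (tt N15962 (iv F54091)) (tt N15964 D26251) (tt N7358 (iv D21773)) (tt N15965 D26252) (tt N15058 (iv F51971)) (tt N15937 (iv F54043)))
theorem Q11545 : ∀ i, i < 11545 → P i := stepQ 11544 Q11544 (allL N11544 (tt N7359 (iv D21774)) (tt N15966 D26253) (tt N7427 F42202) (tt N15967 D26254) (tt N15968 D26255) (tt N15969 D26256) (tt N15970 D26257))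
theorem Q11546 : ∀ i, i < 11546 → P i := stepQ 11545 Q11545 (allL N11545 (tt N15967 (iv F54103)) (tt N7360 F42203) (tt N15971 D26258) (tt N7359 (iv D21775)) (tt N15972 D26259) (tt N15973 D26260) (tt N15974 D26261))
theorem Q11547 : ∀ i, i < 11547 → P i := stepQ 11546 Q11546 (allL N11546 (tt N15968 (iv F54104)) (tt N7361 F42204) (tt N7428 F42205) (tt N15975 D26262) (tt N7359 (iv D21776)) (tt N15976 D26263) (tt N15977 D26264))
theorem Q11548 : ∀ i, i < 11548 → P i := stepQ 11547 Q11547 (allL N11547 (tt N15969 (iv F54106)) (tt N15890 (iv F53894)) (tt N7429 F42206) (tt N15973 (iv F54112)) (tt N15976 (iv F54116)) (tt N7359 (iv D21777)) (tt N15978 D26265))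
theorem Q11549 : ∀ i, i < 11549 → P i := stepQ 11548 Q11548 (allL N11548 (tt N15970 (iv F54108)) (tt N15979 D26266) (tt N7430 F42207) (tt N15974 (iv F54113)) (tt N15977 (iv F54118)) (tt N15980 D26267) (tt N7359 (iv D21778)))
theorem Q11550 : ∀ i, i < 11550 → P i := stepQ 11549 Q11549 (allL N11549 (tt N11232 F42208) (tt N15972 (iv F54111)) (tt N11227 F42209) (tt N15981 D26268) (tt N7360 (iv D21779)) (tt N15892 (iv F53898)) (tt N15982 D26269))
theorem Q11551 : ∀ i, i < 11551 → P i := stepQ 11550 Q11550 (allL N11550 (tt N11233 F42210) (tt N15983 D26270) (tt N11228 F42211) (tt N7362 F42212) (tt N15982 (iv F54129)) (tt N15479 (iv F52859)) (tt N7360 (iv D21780)))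
theorem Q11552 : ∀ i, i < 11552 → P i := stepQ 11551 Q11551 (allL N11551 (tt N15957 (iv F54080)) (tt N15975 (iv F54114)) (tt N15984 D26271) (tt N7361 (iv D21781)) (tt N15981 (iv F54126)) (tt N15893 (iv F53899)) (tt N15985 D26272))
theorem Q11553 : ∀ i, i < 11553 → P i := stepQ 11552 Q11552 (allL N11552 (tt N15958 (iv F54082)) (tt N15986 D26273) (tt N7363 F42213) (tt N15985 (iv F54131)) (tt N7362 F42214) (tt N15987 D26274) (tt N7361 (iv D21782)))
theorem Q11554 : ∀ i, i < 11554 → P i := stepQ 11553 Q11553 (allL N11553 (tt N15979 (iv F61246)) (tt N7362 (iv D21783)) (tt N14630 (iv F50588)) (tt N15983 (iv F54130)) (tt N15986 (iv F54132)) (tt N15988 D26276) (tt N15979 (iv F54121)))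
theorem Q11555 : ∀ i, i < 11555 → P i := stepQ 11554 Q11554 (allL N11554 (tt N11495 F42215) (tt N15989 D26277) (tt N7364 F42216) (tt N15479 (iv F52858)) (tt N15987 (iv F54135)) (tt N7362 (iv D21784)) (tt N11490 F42217))
theorem Q11556 : ∀ i, i < 11556 → P i := stepQ 11555 Q11555 (allL N11555 (tt N11496 F42218) (tt N15990 D26278) (tt N15987 (iv F54134)) (tt N7927 F42219) (tt N7364 F42220) (tt N7363 (iv D21785)) (tt N11491 F42221))
theorem Q11557 : ∀ i, i < 11557 → P i := stepQ 11556 Q11556 (allL N11556 (tt N15991 D26279) (tt N7364 (iv D21786)) (tt N15992 D26280) (tt N7365 F42222) (tt N15990 (iv F54138)) (tt N14632 (iv F50593)) (tt N15993 D26281))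
theorem Q11558 : ∀ i, i < 11558 → P i := stepQ 11557 Q11557 (allL N11557 (tt N7365 (iv D21787)) (tt N13620 F47914) (tt N15994 D26282) (tt N15991 (iv F54139)) (tt N7929 F42223) (tt N14634 (iv F50600)) (tt N15995 D26283))
theorem Q11559 : ∀ i, i < 11559 → P i := stepQ 11558 Q11558 (allL N11558 (tt N15994 (iv F54142)) (tt N7367 F42224) (tt N7365 (iv D21788)) (tt N12911 F45979) (tt N7930 F42225) (tt N14635 (iv F50603)) (tt N15996 D26284))
theorem Q11560 : ∀ i, i < 11560 → P i := stepQ 11559 Q11559 (allL N11559 (tt N15995 (iv F54145)) (tt N11489 F42226) (tt N15996 (iv F54148)) (tt N15993 (iv F54141)) (tt N7931 F42227) (tt N15997 D26285) (tt N7365 (iv D21789)))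
theorem Q11561 : ∀ i, i < 11561 → P i := stepQ 11560 Q11560 (allL N11560 (tt N7367 F42228) (tt N15998 D26286) (tt N7366 (iv D21790)) (tt N10663 (iv F42232)) (tt N7932 F42229) (tt N10151 F42230) (tt N10678 F42231))
theorem Q11562 : ∀ i, i < 11562 → P i := stepQ 11561 Q11561 (allL N11561 (tt N10678 F42233) (tt N15999 D26287) (tt N7368 F42234) (tt N10687 F42235) (tt N7934 F42236) (tt N11063 F42237) (tt N7367 (iv D21791)))
theorem Q11563 : ∀ i, i < 11563 → P i := stepQ 11562 Q11562 (allL N11562 (tt N12593 (iv F45060)) (tt N15619 (iv F53190)) (tt N8311 F42238) (tt N7376 F42239) (tt N8338 F42240) (tt N8310 F42241) (tt N7369 (iv D21792)))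
theorem Q11564 : ∀ i, i < 11564 → P i := stepQ 11563 Q11563 (allL N11563 (tt N7372 F42242) (tt N12605 (iv F45117)) (tt N8260 F42243) (tt N7936 F42244) (tt N7371 F42245) (tt N7370 (iv D21793)) (tt N11304 F42246))
theorem Q11565 : ∀ i, i < 11565 → P i := stepQ 11564 Q11564 (allL N11564 (tt N11304 F42247) (tt N16000 D26288) (tt N8261 F42248) (tt N7679 F42249) (tt N7373 F42250) (tt N11303 F42251) (tt N7372 (iv D21794)))
theorem Q11566 : ∀ i, i < 11566 → P i := stepQ 11565 Q11565 (allL N11565 (tt N16001 D26289) (tt N7373 (iv D21795)) (tt N16002 D26290) (tt N7377 F42252) (tt N16000 (iv F54165)) (tt N16003 D26291) (tt N11565 F42253))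
theorem Q11567 : ∀ i, i < 11567 → P i := stepQ 11566 Q11566 (allL N11566 (tt N7376 F42254) (tt N15561 F53042) (tt N9401 F42255) (tt N12593 (iv F45062)) (tt N7939 F42256) (tt N10942 F42257) (tt N7374 (iv D21796)))
theorem Q11568 : ∀ i, i < 11568 → P i := stepQ 11567 Q11567 (allL N11567 (tt N9401 F42258) (tt N8565 F42259) (tt N7376 F42260) (tt N13651 (iv F48004)) (tt N7941 F42261) (tt N13651 (iv F48006)) (tt N7375 (iv D21797)))
theorem Q11569 : ∀ i, i < 11569 → P i := stepQ 11568 Q11568 (allL N11568 (tt N10942 F42262) (tt N11027 F42266) (tt N13651 (iv F48003)) (tt N8310 F42263) (tt N7942 F42264) (tt N7376 (iv D21798)) (tt N8309 F42265))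
theorem Q11570 : ∀ i, i < 11570 → P i := stepQ 11569 Q11569 (allL N11569 (tt N7377 (iv D21799)) (tt N11031 (iv F43068)) (tt N16004 D26292) (tt N16001 (iv F54168)) (tt N7949 F42267) (tt N15637 (iv F53257)) (tt N11569 F42268))
theorem Q11571 : ∀ i, i < 11571 → P i := stepQ 11570 Q11570 (allL N11570 (tt N16004 (iv F54177)) (tt N12537 (iv F44865)) (tt N7377 (iv D21800)) (tt N12499 F44763) (tt N7950 F42269) (tt N16005 D26293) (tt N11570 F42270))
theorem Q11572 : ∀ i, i < 11572 → P i := stepQ 11571 Q11571 (allL N11571 (tt N15637 (iv F53255)) (tt N11313 F42271) (tt N16005 (iv F54180)) (tt N16003 (iv F54176)) (tt N7951 F42272) (tt N7377 (iv D21801)) (tt N15637 (iv F53258)))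
theorem Q11573 : ∀ i, i < 11573 → P i := stepQ 11572 Q11572 (allL N11572 (tt N15920 (iv F53978)) (tt N7379 F42273) (tt N16006 D26294) (tt N7378 (iv D21802)) (tt N16007 D26295) (tt N16008 D26296) (tt N16009 D26297))
theorem Q11574 : ∀ i, i < 11574 → P i := stepQ 11573 Q11573 (allL N11573 (tt N15921 (iv F53980)) (tt N7382 F42274) (tt N11625 (iv F42394)) (tt N16008 (iv F54187)) (tt N7953 F42275) (tt N7378 (iv D21803)) (tt N12082 (iv F43554)))
theorem Q11575 : ∀ i, i < 11575 → P i := stepQ 11574 Q11574 (allL N11574 (tt N15922 (iv F53983)) (tt N9632 F42276) (tt N11626 (iv F42397)) (tt N16009 (iv F54191)) (tt N7954 F42277) (tt N16010 D26298) (tt N7378 (iv D21804)))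
theorem Q11576 : ∀ i, i < 11576 → P i := stepQ 11575 Q11575 (allL N11575 (tt N7385 F42278) (tt N16007 (iv F54183)) (tt N11672 (iv F42483)) (tt N7955 F42279) (tt N7379 (iv D21805)) (tt N7385 F42280) (tt N9633 F42281))
theorem Q11577 : ∀ i, i < 11577 → P i := stepQ 11576 Q11576 (allL N11576 (tt N7381 F42282) (tt N15926 (iv F54000)) (tt N16011 D26299) (tt N7380 (iv D21806)) (tt N16012 D26300) (tt N16013 D26301) (tt N16014 D26302))
theorem Q11578 : ∀ i, i < 11578 → P i := stepQ 11577 Q11577 (allL N11577 (tt N7382 F42283) (tt N14108 F49312) (tt N7388 F42284) (tt N16013 (iv F54201)) (tt N7957 F42285) (tt N7380 (iv D21807)) (tt N11584 (iv F42301)))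
theorem Q11579 : ∀ i, i < 11579 → P i := stepQ 11578 Q11578 (allL N11578 (tt N7383 F42286) (tt N11256 F42287) (tt N7389 F42288) (tt N16014 (iv F54204)) (tt N7958 F42289) (tt N11583 (iv F42297)) (tt N7380 (iv D21808)))
theorem Q11580 : ∀ i, i < 11580 → P i := stepQ 11579 Q11579 (allL N11579 (tt N16011 (iv F54196)) (tt N16015 D26303) (tt N7381 (iv D21809)) (tt N16016 D26304) (tt N16017 D26305) (tt N16018 D26306) (tt N16019 D26307))
theorem Q11581 : ∀ i, i < 11581 → P i := stepQ 11580 Q11580 (allL N11580 (tt N16012 (iv F54197)) (tt N7385 F42290) (tt N16017 (iv F54206)) (tt N7960 F42291) (tt N7381 (iv D21810)) (tt N16020 D26308) (tt N16021 D26309))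
theorem Q11582 : ∀ i, i < 11582 → P i := stepQ 11581 Q11581 (allL N11581 (tt N16013 (iv F54200)) (tt N16008 (iv F54186)) (tt N16018 (iv F54207)) (tt N7382 F42292) (tt N16020 (iv F54211)) (tt N7381 (iv D21811)) (tt N16022 D26310))
theorem Q11583 : ∀ i, i < 11583 → P i := stepQ 11582 Q11582 (allL N11582 (tt N16014 (iv F54202)) (tt N9573 F42293) (tt N16019 (iv F54208)) (tt N7383 F42294) (tt N16021 (iv F54215)) (tt N16023 D26311) (tt N7381 (iv D21812)))
theorem Q11584 : ∀ i, i < 11584 → P i := stepQ 11583 Q11583 (allL N11583 (tt N11584 (iv F42298)) (tt N12089 (iv F43571)) (tt N7394 F42295) (tt N16022 (iv F54217)) (tt N7963 F42296) (tt N11578 F42297) (tt N7382 (iv D21813)))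
theorem Q11585 : ∀ i, i < 11585 → P i := stepQ 11584 Q11584 (allL N11584 (tt N11583 F42298) (tt N15599 F53123) (tt N7395 F42299) (tt N16023 (iv F54221)) (tt N7964 F42300) (tt N7383 (iv D21814)) (tt N11577 F42301))
theorem Q11586 : ∀ i, i < 11586 → P i := stepQ 11585 Q11585 (allL N11585 (tt N16024 D26312) (tt N7384 (iv D21815)) (tt N16015 (iv F54205)) (tt N11667 (iv F42479)) (tt N16025 D26313) (tt N16026 D26314) (tt N16027 D26315))
theorem Q11587 : ∀ i, i < 11587 → P i := stepQ 11586 Q11586 (allL N11586 (tt N11672 (iv F42482)) (tt N16025 (iv F54223)) (tt N7385 F42302) (tt N13143 (iv F46533)) (tt N7384 (iv D21816)) (tt N11672 (iv F42484)) (tt N9635 F42303))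
theorem Q11588 : ∀ i, i < 11588 → P i := stepQ 11587 Q11587 (allL N11587 (tt N15712 (iv F53454)) (tt N7387 F42304) (tt N16028 D26316) (tt N7386 (iv D21817)) (tt N16029 D26317) (tt N16030 D26318) (tt N16031 D26319))
theorem Q11589 : ∀ i, i < 11589 → P i := stepQ 11588 Q11588 (allL N11588 (tt N15026 F51903) (tt N16032 D26320) (tt N15939 (iv F54048)) (tt N16030 (iv F54229)) (tt N7968 F42305) (tt N7386 (iv D21818)) (tt N16033 D26321))
theorem Q11590 : ∀ i, i < 11590 → P i := stepQ 11589 Q11589 (allL N11589 (tt N15713 (iv F53457)) (tt N10888 (iv F42307)) (tt N15030 (iv F51909)) (tt N16031 (iv F54230)) (tt N7969 F42306) (tt N16034 D26322) (tt N7386 (iv D21819)))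
theorem Q11591 : ∀ i, i < 11591 → P i := stepQ 11590 Q11590 (allL N11590 (tt N7390 F42308) (tt N16035 D26323) (tt N7387 (iv D21820)) (tt N16036 D26324) (tt N16037 D26325) (tt N16038 D26326) (tt N16039 D26327))
theorem Q11592 : ∀ i, i < 11592 → P i := stepQ 11591 Q11591 (allL N11591 (tt N7391 F42309) (tt N16029 (iv F54227)) (tt N16037 (iv F54247)) (tt N7971 F42310) (tt N7387 (iv D21821)) (tt N16040 D26328) (tt N16041 D26329))
theorem Q11593 : ∀ i, i < 11593 → P i := stepQ 11592 Q11592 (allL N11592 (tt N7392 F42311) (tt N16042 D26330) (tt N16038 (iv F54249)) (tt N7388 F42312) (tt N16040 (iv F54254)) (tt N7387 (iv D21822)) (tt N11603 (iv F42335)))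
theorem Q11594 : ∀ i, i < 11594 → P i := stepQ 11593 Q11593 (allL N11593 (tt N7393 F42313) (tt N16043 D26331) (tt N16039 (iv F54251)) (tt N7389 F42314) (tt N16041 (iv F54258)) (tt N11602 (iv F42332)) (tt N7387 (iv D21823)))
theorem Q11595 : ∀ i, i < 11595 → P i := stepQ 11594 Q11594 (allL N11594 (tt N9096 (iv F42316)) (tt N7388 (iv D21824)) (tt N16044 D26332) (tt N16042 (iv F54259)) (tt N7974 F42315) (tt N16032 (iv F54234)) (tt N15543 (iv F52997)))
theorem Q11596 : ∀ i, i < 11596 → P i := stepQ 11595 Q11595 (allL N11595 (tt N11524 (iv F42320)) (tt N7389 (iv D21825)) (tt N10889 F42317) (tt N16043 (iv F54262)) (tt N7975 F42318) (tt N14376 (iv F50022)) (tt N10888 F42319))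
theorem Q11597 : ∀ i, i < 11597 → P i := stepQ 11596 Q11596 (allL N11596 (tt N16036 (iv F54244)) (tt N10216 F42321) (tt N16045 D26333) (tt N7390 (iv D21826)) (tt N16046 D26334) (tt N16047 D26335) (tt N16048 D26336))
theorem Q11598 : ∀ i, i < 11598 → P i := stepQ 11597 Q11597 (allL N11597 (tt N16037 (iv F54246)) (tt N10211 F42322) (tt N7391 F42323) (tt N16049 D26337) (tt N7390 (iv D21827)) (tt N16050 D26338) (tt N16051 D26339))
theorem Q11599 : ∀ i, i < 11599 → P i := stepQ 11598 Q11598 (allL N11598 (tt N16038 (iv F54248)) (tt N16052 D26340) (tt N7392 F42324) (tt N16047 (iv F54272)) (tt N16050 (iv F54276)) (tt N7390 (iv D21828)) (tt N16053 D26341))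
theorem Q11600 : ∀ i, i < 11600 → P i := stepQ 11599 Q11599 (allL N11599 (tt N16039 (iv F54250)) (tt N16054 D26342) (tt N7393 F42325) (tt N16048 (iv F54273)) (tt N16051 (iv F54278)) (tt N16055 D26343) (tt N7390 (iv D21829)))
theorem Q11601 : ∀ i, i < 11601 → P i := stepQ 11600 Q11600 (allL N11600 (tt N16040 (iv F54252)) (tt N11610 (iv F42346)) (tt N16050 (iv F54275)) (tt N7979 F42326) (tt N7392 F42327) (tt N7391 (iv D21830)) (tt N16056 D26344))
theorem Q11602 : ∀ i, i < 11602 → P i := stepQ 11601 Q11601 (allL N11601 (tt N16041 (iv F54256)) (tt N9568 F42328) (tt N16051 (iv F54277)) (tt N7980 F42329) (tt N7393 F42330) (tt N16057 D26345) (tt N7391 (iv D21831)))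
theorem Q11603 : ∀ i, i < 11603 → P i := stepQ 11602 Q11602 (allL N11602 (tt N11603 (iv F42333)) (tt N16058 D26346) (tt N16053 (iv F54281)) (tt N7394 F42331) (tt N16056 (iv F54289)) (tt N11593 F42332) (tt N7392 (iv D21832)))
theorem Q11604 : ∀ i, i < 11604 → P i := stepQ 11603 Q11603 (allL N11603 (tt N11602 F42333) (tt N16059 D26347) (tt N16055 (iv F54286)) (tt N7395 F42334) (tt N16057 (iv F54293)) (tt N7393 (iv D21833)) (tt N11592 F42335))
theorem Q11605 : ∀ i, i < 11605 → P i := stepQ 11604 Q11604 (allL N11604 (tt N14293 F49821) (tt N7394 (iv D21834)) (tt N16060 D26348) (tt N16058 (iv F54295)) (tt N7983 F42336) (tt N16061 D26349) (tt N14566 (iv F50465)))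
theorem Q11606 : ∀ i, i < 11606 → P i := stepQ 11605 Q11605 (allL N11605 (tt N16062 D26350) (tt N7395 (iv D21835)) (tt N16063 D26351) (tt N16059 (iv F54296)) (tt N7984 F42337) (tt N9570 F42338) (tt N16064 D26352))
theorem Q11607 : ∀ i, i < 11607 → P i := stepQ 11606 Q11606 (allL N11606 (tt N13128 (iv F48548)) (tt N7396 (iv D21836)) (tt N13125 F48555) (tt N10207 F42339) (tt N16065 D26353) (tt N16066 D26354) (tt N16067 D26355))
theorem Q11608 : ∀ i, i < 11608 → P i := stepQ 11607 Q11607 (allL N11607 (tt N7397 F42340) (tt N16065 (iv F54313)) (tt N15743 (iv F53514)) (tt N10463 F42341) (tt N7396 (iv D21837)) (tt N16068 D26356) (tt N16069 D26357))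
theorem Q11609 : ∀ i, i < 11609 → P i := stepQ 11608 Q11608 (allL N11608 (tt N7398 F42342) (tt N16070 D26358) (tt N15744 (iv F53516)) (tt N10208 F42343) (tt N16068 (iv F54319)) (tt N7396 (iv D21838)) (tt N11613 (iv F42356)))
theorem Q11610 : ∀ i, i < 11610 → P i := stepQ 11609 Q11609 (allL N11609 (tt N7399 F42344) (tt N16071 D26359) (tt N15745 (iv F53518)) (tt N10204 F42345) (tt N16069 (iv F54323)) (tt N11612 (iv F42353)) (tt N7396 (iv D21839)))
theorem Q11611 : ∀ i, i < 11611 → P i := stepQ 11610 Q11610 (allL N11610 (tt N16068 (iv F54317)) (tt N11600 F42346) (tt N15751 (iv F53524)) (tt N8728 F42347) (tt N7398 F42348) (tt N7397 (iv D21840)) (tt N16072 D26360))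
theorem Q11612 : ∀ i, i < 11612 → P i := stepQ 11611 Q11611 (allL N11611 (tt N16069 (iv F54321)) (tt N10200 F42349) (tt N15752 (iv F53526)) (tt N10453 F42350) (tt N7399 F42351) (tt N16073 D26361) (tt N7397 (iv D21841)))
theorem Q11613 : ∀ i, i < 11613 → P i := stepQ 11612 Q11612 (allL N11612 (tt N11613 (iv F42354)) (tt N16074 D26362) (tt N15754 (iv F53529)) (tt N10209 F42352) (tt N16072 (iv F54329)) (tt N11609 F42353) (tt N7398 (iv D21842)))
theorem Q11614 : ∀ i, i < 11614 → P i := stepQ 11613 Q11613 (allL N11613 (tt N11612 F42354) (tt N16075 D26363) (tt N15755 (iv F53532)) (tt N10205 F42355) (tt N16073 (iv F54333)) (tt N7399 (iv D21843)) (tt N11608 F42356))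
theorem Q11615 : ∀ i, i < 11615 → P i := stepQ 11614 Q11614 (allL N11614 (tt N12594 (iv F45064)) (tt N15852 (iv F53777)) (tt N8317 F42357) (tt N7407 F42358) (tt N8346 F42359) (tt N7400 (iv D21844)) (tt N8316 F42360))
theorem Q11616 : ∀ i, i < 11616 → P i := stepQ 11615 Q11615 (allL N11615 (tt N7403 F42361) (tt N12612 (iv F45137)) (tt N8271 F42362) (tt N7994 F42363) (tt N7402 F42364) (tt N11463 F42365) (tt N7401 (iv D21845)))
theorem Q11617 : ∀ i, i < 11617 → P i := stepQ 11616 Q11616 (allL N11616 (tt N11463 F42366) (tt N16076 D26364) (tt N8272 F42367) (tt N7843 F42368) (tt N7404 F42369) (tt N7403 (iv D21846)) (tt N11462 F42370))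
theorem Q11618 : ∀ i, i < 11618 → P i := stepQ 11617 Q11617 (allL N11617 (tt N16077 D26365) (tt N7404 (iv D21847)) (tt N16078 D26366) (tt N7408 F42371) (tt N16076 (iv F54341)) (tt N11617 F42372) (tt N16079 D26367))
theorem Q11619 : ∀ i, i < 11619 → P i := stepQ 11618 Q11618 (allL N11618 (tt N7407 F42373) (tt N15801 F53646) (tt N9404 F42374) (tt N12594 (iv F45066)) (tt N7997 F42375) (tt N7405 (iv D21848)) (tt N10954 F42376))
theorem Q11620 : ∀ i, i < 11620 → P i := stepQ 11619 Q11619 (allL N11619 (tt N9404 F42377) (tt N8556 F42378) (tt N7407 F42379) (tt N13658 (iv F48024)) (tt N7999 F42380) (tt N7406 (iv D21849)) (tt N13658 (iv F48026)))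
theorem Q11621 : ∀ i, i < 11621 → P i := stepQ 11620 Q11620 (allL N11620 (tt N10954 F42381) (tt N11064 (iv F42385)) (tt N13658 (iv F48023)) (tt N8316 F42382) (tt N8000 F42383) (tt N8315 F42384) (tt N7407 (iv D21850)))
theorem Q11622 : ∀ i, i < 11622 → P i := stepQ 11621 Q11621 (allL N11621 (tt N7408 (iv D21851)) (tt N11068 (iv F43619)) (tt N16080 D26368) (tt N16077 (iv F54344)) (tt N8007 F42386) (tt N11621 F42387) (tt N15871 (iv F53847)))
theorem Q11623 : ∀ i, i < 11623 → P i := stepQ 11622 Q11622 (allL N11622 (tt N16080 (iv F54353)) (tt N12546 (iv F44889)) (tt N7408 (iv D21852)) (tt N12501 F44769) (tt N8008 F42388) (tt N11622 F42389) (tt N16081 D26369))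
theorem Q11624 : ∀ i, i < 11624 → P i := stepQ 11623 Q11623 (allL N11623 (tt N15871 (iv F53844)) (tt N11473 F42390) (tt N16081 (iv F54356)) (tt N16079 (iv F54352)) (tt N8009 F42391) (tt N15871 (iv F53846)) (tt N7408 (iv D21853)))
theorem Q11625 : ∀ i, i < 11625 → P i := stepQ 11624 Q11624 (allL N11624 (tt N15690 (iv F53385)) (tt N7410 F42392) (tt N16082 D26370) (tt N7409 (iv D21854)) (tt N16083 D26371) (tt N16084 D26372) (tt N16085 D26373))
theorem Q11626 : ∀ i, i < 11626 → P i := stepQ 11625 Q11625 (allL N11625 (tt N15691 (iv F53387)) (tt N9638 F42393) (tt N11573 F42394) (tt N16084 (iv F54363)) (tt N8011 F42395) (tt N7409 (iv D21855)) (tt N16086 D26374))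
theorem Q11627 : ∀ i, i < 11627 → P i := stepQ 11626 Q11626 (allL N11626 (tt N15692 (iv F53390)) (tt N7414 F42396) (tt N11574 F42397) (tt N16085 (iv F54365)) (tt N8012 F42398) (tt N11871 (iv F43008)) (tt N7409 (iv D21856)))
theorem Q11628 : ∀ i, i < 11628 → P i := stepQ 11627 Q11627 (allL N11627 (tt N7416 F42399) (tt N16083 (iv F54359)) (tt N11679 (iv F42493)) (tt N8013 F42400) (tt N7410 (iv D21857)) (tt N9640 F42401) (tt N7416 F42402))
theorem Q11629 : ∀ i, i < 11629 → P i := stepQ 11628 Q11628 (allL N11628 (tt N7412 F42403) (tt N15697 (iv F53409)) (tt N16087 D26375) (tt N7411 (iv D21858)) (tt N16088 D26376) (tt N16089 D26377) (tt N16090 D26378))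
theorem Q11630 : ∀ i, i < 11630 → P i := stepQ 11629 Q11629 (allL N11629 (tt N7413 F42404) (tt N11416 F42405) (tt N7419 F42406) (tt N16089 (iv F54378)) (tt N8015 F42407) (tt N7411 (iv D21859)) (tt N11636 (iv F42422)))
theorem Q11631 : ∀ i, i < 11631 → P i := stepQ 11630 Q11630 (allL N11630 (tt N7414 F42408) (tt N14054 (iv F49151)) (tt N7420 F42409) (tt N16090 (iv F54380)) (tt N8016 F42410) (tt N11635 (iv F42418)) (tt N7411 (iv D21860)))
theorem Q11632 : ∀ i, i < 11632 → P i := stepQ 11631 Q11631 (allL N11631 (tt N16087 (iv F54372)) (tt N16091 D26379) (tt N7412 (iv D21861)) (tt N16092 D26380) (tt N16093 D26381) (tt N16094 D26382) (tt N16095 D26383))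
theorem Q11633 : ∀ i, i < 11633 → P i := stepQ 11632 Q11632 (allL N11632 (tt N16088 (iv F54373)) (tt N7416 F42411) (tt N16093 (iv F54382)) (tt N8018 F42412) (tt N7412 (iv D21862)) (tt N16096 D26384) (tt N16097 D26385))
theorem Q11634 : ∀ i, i < 11634 → P i := stepQ 11633 Q11633 (allL N11633 (tt N16089 (iv F54376)) (tt N9611 F42413) (tt N16094 (iv F54383)) (tt N7413 F42414) (tt N16096 (iv F54387)) (tt N7412 (iv D21863)) (tt N16098 D26386))
theorem Q11635 : ∀ i, i < 11635 → P i := stepQ 11634 Q11634 (allL N11634 (tt N16090 (iv F54379)) (tt N16085 (iv F54364)) (tt N16095 (iv F54384)) (tt N7414 F42415) (tt N16097 (iv F54390)) (tt N16099 D26387) (tt N7412 (iv D21864)))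
theorem Q11636 : ∀ i, i < 11636 → P i := stepQ 11635 Q11635 (allL N11635 (tt N11636 (iv F42419)) (tt N15837 F53726) (tt N7425 F42416) (tt N16098 (iv F54392)) (tt N8021 F42417) (tt N11630 F42418) (tt N7413 (iv D21865)))
theorem Q11637 : ∀ i, i < 11637 → P i := stepQ 11636 Q11636 (allL N11636 (tt N11635 F42419) (tt N11880 (iv F43028)) (tt N7426 F42420) (tt N16099 (iv F54396)) (tt N8022 F42421) (tt N7414 (iv D21866)) (tt N11629 F42422))
theorem Q11638 : ∀ i, i < 11638 → P i := stepQ 11637 Q11637 (allL N11637 (tt N16100 D26388) (tt N7415 (iv D21867)) (tt N16091 (iv F54381)) (tt N11674 (iv F42489)) (tt N16101 D26389) (tt N16102 D26390) (tt N16103 D26391))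
theorem Q11639 : ∀ i, i < 11639 → P i := stepQ 11638 Q11638 (allL N11638 (tt N11679 (iv F42492)) (tt N16101 (iv F54399)) (tt N7416 F42423) (tt N13202 (iv F46666)) (tt N7415 (iv D21868)) (tt N9642 F42424) (tt N11679 (iv F42495)))
theorem Q11640 : ∀ i, i < 11640 → P i := stepQ 11639 Q11639 (allL N11639 (tt N15938 (iv F54044)) (tt N7418 F42425) (tt N16104 D26392) (tt N7417 (iv D21869)) (tt N16105 D26393) (tt N16106 D26394) (tt N16107 D26395))
theorem Q11641 : ∀ i, i < 11641 → P i := stepQ 11640 Q11640 (allL N11640 (tt N15939 (iv F54047)) (tt N10895 (iv F42427)) (tt N15026 (iv F51900)) (tt N16106 (iv F54405)) (tt N8026 F42426) (tt N7417 (iv D21870)) (tt N16108 D26396))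
theorem Q11642 : ∀ i, i < 11642 → P i := stepQ 11641 Q11641 (allL N11641 (tt N15030 F51912) (tt N16109 D26397) (tt N15713 (iv F53458)) (tt N16107 (iv F54407)) (tt N8027 F42428) (tt N16110 D26398) (tt N7417 (iv D21871)))
theorem Q11643 : ∀ i, i < 11643 → P i := stepQ 11642 Q11642 (allL N11642 (tt N7421 F42429) (tt N16111 D26399) (tt N7418 (iv D21872)) (tt N16112 D26400) (tt N16113 D26401) (tt N16114 D26402) (tt N16115 D26403))
theorem Q11644 : ∀ i, i < 11644 → P i := stepQ 11643 Q11643 (allL N11643 (tt N7422 F42430) (tt N16105 (iv F54403)) (tt N16113 (iv F54425)) (tt N8029 F42431) (tt N7418 (iv D21873)) (tt N16116 D26404) (tt N16117 D26405))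
theorem Q11645 : ∀ i, i < 11645 → P i := stepQ 11644 Q11644 (allL N11644 (tt N7423 F42432) (tt N16118 D26406) (tt N16114 (iv F54427)) (tt N7419 F42433) (tt N16116 (iv F54432)) (tt N7418 (iv D21874)) (tt N11655 (iv F42456)))
theorem Q11646 : ∀ i, i < 11646 → P i := stepQ 11645 Q11645 (allL N11645 (tt N7424 F42434) (tt N16119 D26407) (tt N16115 (iv F54429)) (tt N7420 F42435) (tt N16117 (iv F54435)) (tt N11654 (iv F42453)) (tt N7418 (iv D21875)))
theorem Q11647 : ∀ i, i < 11647 → P i := stepQ 11646 Q11646 (allL N11646 (tt N11365 F42439) (tt N7419 (iv D21876)) (tt N10896 F42436) (tt N16118 (iv F54437)) (tt N8032 F42437) (tt N10895 F42438) (tt N14321 (iv F49887)))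
theorem Q11648 : ∀ i, i < 11648 → P i := stepQ 11647 Q11647 (allL N11647 (tt N9150 (iv F42441)) (tt N7420 (iv D21877)) (tt N16120 D26408) (tt N16119 (iv F54440)) (tt N8033 F42440) (tt N15792 (iv F53623)) (tt N16109 (iv F54414)))
theorem Q11649 : ∀ i, i < 11649 → P i := stepQ 11648 Q11648 (allL N11648 (tt N16112 (iv F54422)) (tt N10251 F42442) (tt N16121 D26409) (tt N7421 (iv D21878)) (tt N16122 D26410) (tt N16123 D26411) (tt N16124 D26412))
theorem Q11650 : ∀ i, i < 11650 → P i := stepQ 11649 Q11649 (allL N11649 (tt N16113 (iv F54424)) (tt N10246 F42443) (tt N7422 F42444) (tt N16125 D26413) (tt N7421 (iv D21879)) (tt N16126 D26414) (tt N16127 D26415))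
theorem Q11651 : ∀ i, i < 11651 → P i := stepQ 11650 Q11650 (allL N11650 (tt N16114 (iv F54426)) (tt N16128 D26416) (tt N7423 F42445) (tt N16123 (iv F54450)) (tt N16126 (iv F54454)) (tt N7421 (iv D21880)) (tt N16129 D26417))
theorem Q11652 : ∀ i, i < 11652 → P i := stepQ 11651 Q11651 (allL N11651 (tt N16115 (iv F54428)) (tt N16130 D26418) (tt N7424 F42446) (tt N16124 (iv F54451)) (tt N16127 (iv F54456)) (tt N16131 D26419) (tt N7421 (iv D21881)))
theorem Q11653 : ∀ i, i < 11653 → P i := stepQ 11652 Q11652 (allL N11652 (tt N16116 (iv F54430)) (tt N9606 F42447) (tt N16126 (iv F54453)) (tt N8037 F42448) (tt N7423 F42449) (tt N7422 (iv D21882)) (tt N16132 D26420))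
theorem Q11654 : ∀ i, i < 11654 → P i := stepQ 11653 Q11653 (allL N11653 (tt N16117 (iv F54433)) (tt N11663 (iv F42470)) (tt N16127 (iv F54455)) (tt N8038 F42450) (tt N7424 F42451) (tt N16133 D26421) (tt N7422 (iv D21883)))
theorem Q11655 : ∀ i, i < 11655 → P i := stepQ 11654 Q11654 (allL N11654 (tt N11655 (iv F42454)) (tt N16134 D26422) (tt N16129 (iv F54459)) (tt N7425 F42452) (tt N16132 (iv F54467)) (tt N11645 F42453) (tt N7423 (iv D21884)))
theorem Q11656 : ∀ i, i < 11656 → P i := stepQ 11655 Q11655 (allL N11655 (tt N11654 F42454) (tt N16135 D26423) (tt N16131 (iv F54464)) (tt N7426 F42455) (tt N16133 (iv F54471)) (tt N7424 (iv D21885)) (tt N11644 F42456))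
theorem Q11657 : ∀ i, i < 11657 → P i := stepQ 11656 Q11656 (allL N11656 (tt N16136 D26424) (tt N7425 (iv D21886)) (tt N16137 D26425) (tt N16134 (iv F54473)) (tt N8041 F42457) (tt N16138 D26426) (tt N9608 F42458))
theorem Q11658 : ∀ i, i < 11658 → P i := stepQ 11657 Q11657 (allL N11657 (tt N14347 F49954) (tt N7426 (iv D21887)) (tt N16139 D26427) (tt N16135 (iv F54475)) (tt N8042 F42459) (tt N14617 (iv F50569)) (tt N16140 D26428))
theorem Q11659 : ∀ i, i < 11659 → P i := stepQ 11658 Q11658 (allL N11658 (tt N13187 (iv F48669)) (tt N7427 (iv D21888)) (tt N13184 F48676) (tt N10242 F42460) (tt N16141 D26429) (tt N16142 D26430) (tt N16143 D26431))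
theorem Q11660 : ∀ i, i < 11660 → P i := stepQ 11659 Q11659 (allL N11659 (tt N7428 F42461) (tt N16141 (iv F54491)) (tt N15968 (iv F54105)) (tt N10513 F42462) (tt N7427 (iv D21889)) (tt N16144 D26432) (tt N16145 D26433))
theorem Q11661 : ∀ i, i < 11661 → P i := stepQ 11660 Q11660 (allL N11660 (tt N7429 F42463) (tt N16146 D26434) (tt N15969 (iv F54107)) (tt N10238 F42464) (tt N16144 (iv F54497)) (tt N7427 (iv D21890)) (tt N11665 (iv F42477)))
theorem Q11662 : ∀ i, i < 11662 → P i := stepQ 11661 Q11661 (allL N11661 (tt N7430 F42465) (tt N16147 D26435) (tt N15970 (iv F54109)) (tt N10243 F42466) (tt N16145 (iv F54500)) (tt N11664 (iv F42474)) (tt N7427 (iv D21891)))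
theorem Q11663 : ∀ i, i < 11663 → P i := stepQ 11662 Q11662 (allL N11662 (tt N16144 (iv F54495)) (tt N10234 F42467) (tt N15976 (iv F54115)) (tt N10502 F42468) (tt N7429 F42469) (tt N7428 (iv D21892)) (tt N16148 D26436))
theorem Q11664 : ∀ i, i < 11664 → P i := stepQ 11663 Q11663 (allL N11663 (tt N16145 (iv F54498)) (tt N11653 F42470) (tt N15977 (iv F54117)) (tt N8773 F42471) (tt N7430 F42472) (tt N16149 D26437) (tt N7428 (iv D21893)))
theorem Q11665 : ∀ i, i < 11665 → P i := stepQ 11664 Q11664 (allL N11664 (tt N11665 (iv F42475)) (tt N16150 D26438) (tt N15978 (iv F54119)) (tt N10239 F42473) (tt N16148 (iv F54507)) (tt N11661 F42474) (tt N7429 (iv D21894)))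
theorem Q11666 : ∀ i, i < 11666 → P i := stepQ 11665 Q11665 (allL N11665 (tt N11664 F42475) (tt N16151 D26439) (tt N15980 (iv F54123)) (tt N10244 F42476) (tt N16149 (iv F54511)) (tt N7430 (iv D21895)) (tt N11660 F42477))
theorem Q11667 : ∀ i, i < 11667 → P i := stepQ 11666 Q11666 (allL N11666 (tt N11666 F42478) (tt N16152 D26440) (tt N7431 (iv D21896)) (tt N16153 D26441) (tt N13221 (iv F46704)) (tt N11673 (iv F42487)) (tt N11673 (iv F42488)))
theorem Q11668 : ∀ i, i < 11668 → P i := stepQ 11667 Q11667 (allL N11667 (tt N16154 D26442) (tt N7432 (iv D21897)) (tt N16152 (iv F54517)) (tt N11585 F42479) (tt N13222 (iv F46706)) (tt N16155 D26443) (tt N16156 D26444))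
theorem Q11669 : ∀ i, i < 11669 → P i := stepQ 11668 Q11668 (allL N11668 (tt N7433 (iv D21898)) (tt N16157 D26445) (tt N13922 (iv F48781)) (tt N16158 D26446) (tt N13223 (iv F46707)) (tt N16159 D26447) (tt N16160 D26448))
theorem Q11670 : ∀ i, i < 11670 → P i := stepQ 11669 Q11669 (allL N11669 (tt N16158 (iv F54528)) (tt N7434 F42480) (tt N16161 D26449) (tt N7433 (iv D21899)) (tt N16162 D26450) (tt N16163 D26451) (tt N16164 D26452))
theorem Q11671 : ∀ i, i < 11671 → P i := stepQ 11670 Q11670 (allL N11670 (tt N16159 (iv F54530)) (tt N16155 (iv F54524)) (tt N13923 (iv F48784)) (tt N16163 (iv F54537)) (tt N13225 (iv F46712)) (tt N7433 (iv D21900)) (tt N16165 D26453))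
theorem Q11672 : ∀ i, i < 11672 → P i := stepQ 11671 Q11671 (allL N11671 (tt N16160 (iv F54531)) (tt N9647 F42481) (tt N13924 (iv F48788)) (tt N16164 (iv F54539)) (tt N13226 (iv F46714)) (tt N16166 D26454) (tt N7433 (iv D21901)))
theorem Q11673 : ∀ i, i < 11673 → P i := stepQ 11672 Q11672 (allL N11672 (tt N11586 F42482) (tt N16162 (iv F54535)) (tt N11575 F42483) (tt N13227 (iv F46717)) (tt N7434 (iv D21902)) (tt N11586 F42484) (tt N9648 F42485))
theorem Q11674 : ∀ i, i < 11674 → P i := stepQ 11673 Q11673 (allL N11673 (tt N11673 F42486) (tt N16167 D26455) (tt N7435 (iv D21903)) (tt N16168 D26456) (tt N13241 (iv F46753)) (tt N11666 F42487) (tt N11666 F42488))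
theorem Q11675 : ∀ i, i < 11675 → P i := stepQ 11674 Q11674 (allL N11674 (tt N16169 D26457) (tt N7436 (iv D21904)) (tt N16167 (iv F54543)) (tt N11637 F42489) (tt N13242 (iv F46757)) (tt N16170 D26458) (tt N16171 D26459))
theorem Q11676 : ∀ i, i < 11676 → P i := stepQ 11675 Q11675 (allL N11675 (tt N7437 (iv D21905)) (tt N16172 D26460) (tt N13913 (iv F48750)) (tt N16173 D26461) (tt N13243 (iv F46759)) (tt N16174 D26462) (tt N16175 D26463))
theorem Q11677 : ∀ i, i < 11677 → P i := stepQ 11676 Q11676 (allL N11676 (tt N16173 (iv F54557)) (tt N7438 F42490) (tt N16176 D26464) (tt N7437 (iv D21906)) (tt N16177 D26465) (tt N16178 D26466) (tt N16179 D26467))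
theorem Q11678 : ∀ i, i < 11678 → P i := stepQ 11677 Q11677 (allL N11677 (tt N16174 (iv F54559)) (tt N9652 F42491) (tt N13914 (iv F48754)) (tt N16178 (iv F54566)) (tt N13245 (iv F46766)) (tt N7437 (iv D21907)) (tt N16180 D26468))
theorem Q11679 : ∀ i, i < 11679 → P i := stepQ 11678 Q11678 (allL N11678 (tt N16175 (iv F54560)) (tt N16171 (iv F54555)) (tt N13915 (iv F48757)) (tt N16179 (iv F54568)) (tt N13246 (iv F46768)) (tt N16181 D26469) (tt N7437 (iv D21908)))
theorem Q11680 : ∀ i, i < 11680 → P i := stepQ 11679 Q11679 (allL N11679 (tt N11638 F42492) (tt N16177 (iv F54564)) (tt N11627 F42493) (tt N13247 (iv F46771)) (tt N7438 (iv D21909)) (tt N9653 F42494) (tt N11638 F42495))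
theorem Q11681 : ∀ i, i < 11681 → P i := stepQ 11680 Q11680 (allL N11680 (tt N10447 F42496) (tt N12241 (iv F44001)) (tt N7443 F42497) (tt N8955 F42498) (tt N14747 (iv F50944)) (tt N7473 F42499) (tt N7442 (iv D21910)))
theorem Q11682 : ∀ i, i < 11682 → P i := stepQ 11681 Q11681 (allL N11681 (tt N10498 F42500) (tt N12298 (iv F44130)) (tt N7445 F42501) (tt N9024 F42502) (tt N14768 (iv F51021)) (tt N7444 (iv D21911)) (tt N7478 F42503))
theorem Q11683 : ∀ i, i < 11683 → P i := stepQ 11682 Q11682 (allL N11682 (tt N12854 (iv F45835)) (tt N8698 F42504) (tt N12853 F45832) (tt N15024 (iv F51898)) (tt N7447 (iv D21912)) (tt N14695 (iv F50763)) (tt N15845 (iv F53754)))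
theorem Q11684 : ∀ i, i < 11684 → P i := stepQ 11683 Q11683 (allL N11683 (tt N13255 (iv F46796)) (tt N15849 (iv F53768)) (tt N12588 F45044) (tt N7448 F42505) (tt N15845 (iv F53753)) (tt N12083 (iv F43556)) (tt N7447 (iv D21913)))
theorem Q11685 : ∀ i, i < 11685 → P i := stepQ 11684 Q11684 (allL N11684 (tt N7968 (iv F42508)) (tt N7448 (iv D21914)) (tt N8026 F42506) (tt N15849 (iv F53772)) (tt N15026 (iv F51901)) (tt N7745 F42507) (tt N12241 (iv F44002)))
theorem Q11686 : ∀ i, i < 11686 → P i := stepQ 11685 Q11685 (allL N11685 (tt N12860 (iv F45855)) (tt N8744 F42509) (tt N12859 F45852) (tt N15028 (iv F51907)) (tt N7450 (iv D21915)) (tt N15611 (iv F53165)) (tt N14697 (iv F50770)))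
theorem Q11687 : ∀ i, i < 11687 → P i := stepQ 11686 Q11686 (allL N11686 (tt N13256 (iv F46799)) (tt N15615 (iv F53179)) (tt N12581 F45006) (tt N7451 F42510) (tt N15611 (iv F53164)) (tt N7450 (iv D21916)) (tt N11872 (iv F43010)))
theorem Q11688 : ∀ i, i < 11688 → P i := stepQ 11687 Q11687 (allL N11687 (tt N8027 (iv F42513)) (tt N7451 (iv D21917)) (tt N7969 F42511) (tt N15615 (iv F53183)) (tt N15030 (iv F51910)) (tt N12298 (iv F44132)) (tt N7905 F42512))
theorem Q11689 : ∀ i, i < 11689 → P i := stepQ 11688 Q11688 (allL N11688 (tt N11688 F42514) (tt N7456 F42515) (tt N11688 F42519) (tt N7453 (iv D21918)) (tt N9410 F42516) (tt N11688 F42517) (tt N11688 F42518))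
theorem Q11690 : ∀ i, i < 11690 → P i := stepQ 11689 Q11689 (allL N11689 (tt N11690 (iv F42524)) (tt N7542 (iv F42523)) (tt N7462 F42520) (tt N13664 (iv F48044)) (tt N7459 F42521) (tt N7802 F42522) (tt N7457 (iv D21919)))
theorem Q11691 : ∀ i, i < 11691 → P i := stepQ 11690 Q11690 (allL N11690 (tt N11689 F42524) (tt N7587 (iv F42528)) (tt N7464 F42525) (tt N13663 (iv F48038)) (tt N7460 F42526) (tt N7458 (iv D21920)) (tt N7637 F42527))
theorem Q11692 : ∀ i, i < 11692 → P i := stepQ 11691 Q11691 (allL N11691 (tt N16182 D26470) (tt N7459 (iv D21921)) (tt N7541 F42529) (tt N13668 (iv F48059)) (tt N7542 F42530) (tt N16183 D26471) (tt N11691 F42531))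
theorem Q11693 : ∀ i, i < 11693 → P i := stepQ 11692 Q11692 (allL N11692 (tt N16184 D26472) (tt N7460 (iv D21922)) (tt N7586 F42532) (tt N13667 (iv F48056)) (tt N7587 F42533) (tt N11692 F42534) (tt N16185 D26473))
theorem Q11694 : ∀ i, i < 11694 → P i := stepQ 11693 Q11693 (allL N11693 (tt N11693 F42535) (tt N7481 F42536) (tt N11693 F42537) (tt N11733 (iv F42672)) (tt N7469 (iv D21923)) (tt N11693 F42538) (tt N16186 D26474))
theorem Q11695 : ∀ i, i < 11695 → P i := stepQ 11694 Q11694 (allL N11694 (tt N11694 F42539) (tt N7634 F42540) (tt N11694 F42541) (tt N7470 F42542) (tt N16186 (iv F54594)) (tt N11694 F42543) (tt N7469 (iv D21924)))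
theorem Q11696 : ∀ i, i < 11696 → P i := stepQ 11695 Q11695 (allL N11695 (tt N11695 F42544) (tt N7490 F42545) (tt N11695 F42546) (tt N11776 (iv F42778)) (tt N7474 (iv D21925)) (tt N16187 D26475) (tt N11695 F42547))
theorem Q11697 : ∀ i, i < 11697 → P i := stepQ 11696 Q11696 (allL N11696 (tt N11696 F42548) (tt N7800 F42549) (tt N11696 F42550) (tt N7475 F42551) (tt N16187 (iv F54600)) (tt N7474 (iv D21926)) (tt N11696 F42552))
theorem Q11698 : ∀ i, i < 11698 → P i := stepQ 11697 Q11697 (allL N11697 (tt N7481 F42553) (tt N7936 F42554) (tt N7502 F42555) (tt N12605 (iv F45119)) (tt N7480 (iv D21927)) (tt N7502 F42556) (tt N11714 (iv F42602)))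
theorem Q11699 : ∀ i, i < 11699 → P i := stepQ 11698 Q11698 (allL N11698 (tt N11714 (iv F42599)) (tt N11854 F42966) (tt N7506 F42557) (tt N14707 (iv F50805)) (tt N7482 F42558) (tt N11710 (iv F42589)) (tt N7481 (iv D21928)))
theorem Q11700 : ∀ i, i < 11700 → P i := stepQ 11699 Q11699 (allL N11699 (tt N7485 F42559) (tt N10525 F42560) (tt N7912 F42563) (tt N7484 (iv D21929)) (tt N16188 D26476) (tt N7919 F42561) (tt N7909 F42562))
theorem Q11701 : ∀ i, i < 11701 → P i := stepQ 11700 Q11700 (allL N11700 (tt N7912 F42564) (tt N11872 (iv F43009)) (tt N7485 (iv D21930)) (tt N7908 F42565) (tt N16189 D26477) (tt N12185 (iv F43866)) (tt N7906 F42566))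
theorem Q11702 : ∀ i, i < 11702 → P i := stepQ 11701 Q11701 (allL N11701 (tt N16188 (iv F54602)) (tt N12955 F46086) (tt N16189 (iv F54608)) (tt N15060 (iv F51972)) (tt N7485 (iv D21931)) (tt N16190 D26478) (tt N13104 (iv F46451)))
theorem Q11703 : ∀ i, i < 11703 → P i := stepQ 11702 Q11702 (allL N11702 (tt N7919 F42567) (tt N12238 (iv F43991)) (tt N12185 (iv F43864)) (tt N7486 F42568) (tt N16190 (iv F54611)) (tt N7485 (iv D21932)) (tt N12182 (iv F43860)))
theorem Q11704 : ∀ i, i < 11704 → P i := stepQ 11703 Q11703 (allL N11703 (tt N7490 F42569) (tt N7994 F42570) (tt N7516 F42571) (tt N12612 (iv F45139)) (tt N7489 (iv D21933)) (tt N11723 (iv F42629)) (tt N7516 F42572))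
theorem Q11705 : ∀ i, i < 11705 → P i := stepQ 11704 Q11704 (allL N11704 (tt N11723 (iv F42626)) (tt N12066 F43509) (tt N7520 F42573) (tt N14726 (iv F50868)) (tt N7491 F42574) (tt N7490 (iv D21934)) (tt N11719 (iv F42616)))
theorem Q11706 : ∀ i, i < 11706 → P i := stepQ 11705 Q11705 (allL N11705 (tt N7494 F42575) (tt N10475 F42576) (tt N7751 F42579) (tt N7493 (iv D21935)) (tt N16191 D26479) (tt N7749 F42577) (tt N7762 F42578))
theorem Q11707 : ∀ i, i < 11707 → P i := stepQ 11706 Q11706 (allL N11706 (tt N7751 F42580) (tt N12083 (iv F43555)) (tt N7494 (iv D21936)) (tt N7747 F42581) (tt N16192 D26480) (tt N7746 F42582) (tt N11989 (iv F43321)))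
theorem Q11708 : ∀ i, i < 11708 → P i := stepQ 11707 Q11707 (allL N11707 (tt N16191 (iv F54612)) (tt N13030 F46267) (tt N16192 (iv F54618)) (tt N15065 (iv F51978)) (tt N7494 (iv D21937)) (tt N13163 (iv F46574)) (tt N16193 D26481))
theorem Q11709 : ∀ i, i < 11709 → P i := stepQ 11708 Q11708 (allL N11708 (tt N7762 F42583) (tt N12296 (iv F44126)) (tt N11989 (iv F43319)) (tt N7495 F42584) (tt N16193 (iv F54621)) (tt N11985 (iv F43311)) (tt N7494 (iv D21938)))
theorem Q11710 : ∀ i, i < 11710 → P i := stepQ 11709 Q11709 (allL N11709 (tt N12215 (iv F43929)) (tt N11864 F42991) (tt N7938 F42585) (tt N7501 F42586) (tt N12607 (iv F45127)) (tt N12214 (iv F43928)) (tt N7500 (iv D21939)))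
theorem Q11711 : ∀ i, i < 11711 → P i := stepQ 11710 Q11710 (allL N11710 (tt N7506 F42587) (tt N16194 D26482) (tt N11714 (iv F42600)) (tt N12606 (iv F45122)) (tt N7503 F42588) (tt N11698 F42589) (tt N7502 (iv D21940)))
theorem Q11712 : ∀ i, i < 11712 → P i := stepQ 11711 Q11711 (allL N11711 (tt N11865 (iv F42992)) (tt N7503 (iv D21941)) (tt N12078 (iv F43545)) (tt N7504 F42590) (tt N16194 (iv F54622)) (tt N7645 F42591) (tt N11864 (iv F42990)))
theorem Q11713 : ∀ i, i < 11713 → P i := stepQ 11712 Q11712 (allL N11712 (tt N8010 F42592) (tt N7505 F42593) (tt N7504 (iv D21942)) (tt N7733 (iv F42595)) (tt N15110 (iv F52073)) (tt N7649 F42594) (tt N11869 (iv F43003)))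
theorem Q11714 : ∀ i, i < 11714 → P i := stepQ 11713 Q11713 (allL N11713 (tt N7541 (iv F42598)) (tt N7506 (iv D21943)) (tt N16182 (iv F54572)) (tt N15115 (iv F52087)) (tt N7507 F42596) (tt N16195 D26483) (tt N11713 F42597))
theorem Q11715 : ∀ i, i < 11715 → P i := stepQ 11714 Q11714 (allL N11714 (tt N11698 F42599) (tt N16196 D26484) (tt N11710 F42600) (tt N15116 (iv F52093)) (tt N7508 F42601) (tt N7506 (iv D21944)) (tt N11697 F42602))
theorem Q11716 : ∀ i, i < 11716 → P i := stepQ 11715 Q11715 (allL N11715 (tt N7542 F42603) (tt N11851 F42958) (tt N7507 (iv D21945)) (tt N16197 D26485) (tt N16182 (iv F54574)) (tt N16198 D26486) (tt N11715 F42604))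
theorem Q11717 : ∀ i, i < 11717 → P i := stepQ 11716 Q11716 (allL N11716 (tt N7543 F42605) (tt N11904 (iv F43096)) (tt N16198 (iv F54636)) (tt N7509 F42606) (tt N16195 (iv F54625)) (tt N7507 (iv D21946)) (tt N7543 F42607))
theorem Q11718 : ∀ i, i < 11718 → P i := stepQ 11717 Q11717 (allL N11717 (tt N7849 F42610) (tt N7508 (iv D21947)) (tt N7848 (iv F42611)) (tt N7510 F42608) (tt N16196 (iv F54627)) (tt N11904 (iv F43098)) (tt N7683 F42609))
theorem Q11719 : ∀ i, i < 11719 → P i := stepQ 11718 Q11718 (allL N11718 (tt N12274 (iv F44075)) (tt N12077 F43543) (tt N7996 F42612) (tt N7515 F42613) (tt N12613 (iv F45144)) (tt N7514 (iv D21948)) (tt N12273 (iv F44074)))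
theorem Q11720 : ∀ i, i < 11720 → P i := stepQ 11719 Q11719 (allL N11719 (tt N7520 F42614) (tt N16199 D26487) (tt N11723 (iv F42627)) (tt N12611 (iv F45134)) (tt N7517 F42615) (tt N7516 (iv D21949)) (tt N11704 F42616))
theorem Q11721 : ∀ i, i < 11721 → P i := stepQ 11720 Q11720 (allL N11720 (tt N12078 (iv F43544)) (tt N7517 (iv D21950)) (tt N11865 (iv F42993)) (tt N7518 F42617) (tt N16199 (iv F54638)) (tt N12077 (iv F43542)) (tt N7809 F42618))
theorem Q11722 : ∀ i, i < 11722 → P i := stepQ 11721 Q11721 (allL N11721 (tt N7952 F42619) (tt N7519 F42620) (tt N7518 (iv D21951)) (tt N7895 (iv F42622)) (tt N15122 (iv F52112)) (tt N12081 (iv F43552)) (tt N7813 F42621))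
theorem Q11723 : ∀ i, i < 11723 → P i := stepQ 11722 Q11722 (allL N11722 (tt N7586 F42625) (tt N7520 (iv D21952)) (tt N16184 (iv F54582)) (tt N15127 (iv F52126)) (tt N7521 F42623) (tt N11722 F42624) (tt N16200 D26488))
theorem Q11724 : ∀ i, i < 11724 → P i := stepQ 11723 Q11723 (allL N11723 (tt N11704 F42626) (tt N16201 D26489) (tt N11719 F42627) (tt N15128 (iv F52132)) (tt N7522 F42628) (tt N11703 F42629) (tt N7520 (iv D21953)))
theorem Q11725 : ∀ i, i < 11725 → P i := stepQ 11724 Q11724 (allL N11724 (tt N7587 F42630) (tt N12063 F43499) (tt N7521 (iv D21954)) (tt N16202 D26490) (tt N16184 (iv F54584)) (tt N11724 F42631) (tt N16203 D26491))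
theorem Q11726 : ∀ i, i < 11726 → P i := stepQ 11725 Q11725 (allL N11725 (tt N7588 F42632) (tt N12111 (iv F43652)) (tt N16203 (iv F54653)) (tt N7523 F42633) (tt N16200 (iv F54641)) (tt N7588 F42634) (tt N7521 (iv D21955)))
theorem Q11727 : ∀ i, i < 11727 → P i := stepQ 11726 Q11726 (allL N11726 (tt N7685 (iv F42637)) (tt N7522 (iv D21956)) (tt N7684 F42638) (tt N7524 F42635) (tt N16201 (iv F54643)) (tt N7847 F42636) (tt N12111 (iv F43655)))
theorem Q11728 : ∀ i, i < 11728 → P i := stepQ 11727 Q11727 (allL N11727 (tt N7535 F42639) (tt N12215 (iv F43934)) (tt N10812 F42640) (tt N7531 F42641) (tt N9078 F42642) (tt N11731 (iv F42659)) (tt N7529 (iv D21957)))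
theorem Q11729 : ∀ i, i < 11729 → P i := stepQ 11728 Q11728 (allL N11728 (tt N9076 F42643) (tt N8437 F42644) (tt N7533 F42645) (tt N7640 F42647) (tt N7532 (iv D21958)) (tt N7638 F42646) (tt N15002 (iv F51829)))
theorem Q11730 : ∀ i, i < 11730 → P i := stepQ 11729 Q11729 (allL N11729 (tt N9077 F42648) (tt N7642 F42649) (tt N7638 F42650) (tt N9074 F42651) (tt N7534 F42652) (tt N7533 (iv D21959)) (tt N13390 (iv F47181)))
theorem Q11731 : ∀ i, i < 11731 → P i := stepQ 11730 Q11730 (allL N11730 (tt N9078 F42653) (tt N11897 (iv F43077)) (tt N15002 (iv F51826)) (tt N9075 F42654) (tt N7535 F42655) (tt N13389 (iv F47176)) (tt N7533 (iv D21960)))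
theorem Q11732 : ∀ i, i < 11732 → P i := stepQ 11731 Q11731 (allL N11731 (tt N10810 F42656) (tt N16204 D26492) (tt N10808 F42657) (tt N7536 F42658) (tt N13390 (iv F47180)) (tt N11727 F42659) (tt N7534 (iv D21961)))
theorem Q11733 : ∀ i, i < 11733 → P i := stepQ 11732 Q11732 (allL N11732 (tt N11906 (iv F43104)) (tt N7536 (iv D21962)) (tt N8532 F42660) (tt N16204 (iv F54656)) (tt N15216 (iv F52296)) (tt N7690 F42661) (tt N7647 F42662))
theorem Q11734 : ∀ i, i < 11734 → P i := stepQ 11733 Q11733 (allL N11733 (tt N11733 F42668) (tt N10310 F42669) (tt N7539 (iv D21964)) (tt N11693 F42672) (tt N10857 F42670) (tt N11733 F42671) (tt N14745 (iv F50936)))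
theorem Q11735 : ∀ i, i < 11735 → P i := stepQ 11734 Q11734 (allL N11734 (tt N16195 (iv F54624)) (tt N11862 (iv F42985)) (tt N16183 (iv F54578)) (tt N15220 (iv F52309)) (tt N7543 F42673) (tt N7541 (iv D21965)) (tt N16195 (iv F54626)))
theorem Q11736 : ∀ i, i < 11736 → P i := stepQ 11735 Q11735 (allL N11735 (tt N16197 (iv F54631)) (tt N13664 F48047) (tt N16205 D26493) (tt N7542 (iv D21966)) (tt N13666 (iv F48054)) (tt N16206 D26494) (tt N11735 F42674))
theorem Q11737 : ∀ i, i < 11737 → P i := stepQ 11736 Q11736 (allL N11736 (tt N16198 (iv F54635)) (tt N7805 F42675) (tt N7543 F42676) (tt N16206 (iv F54665)) (tt N16183 (iv F54580)) (tt N7542 (iv D21967)) (tt N16198 (iv F54637)))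
theorem Q11738 : ∀ i, i < 11738 → P i := stepQ 11737 Q11737 (allL N11737 (tt N11807 (iv F42851)) (tt N8328 F42677) (tt N7544 (iv D21968)) (tt N16207 D26495) (tt N16208 D26496) (tt N16209 D26497) (tt N11737 F42678))
theorem Q11739 : ∀ i, i < 11739 → P i := stepQ 11738 Q11738 (allL N11738 (tt N11805 F42847) (tt N7551 F42679) (tt N16208 (iv F54673)) (tt N15224 (iv F52315)) (tt N7544 (iv D21969)) (tt N16210 D26498) (tt N11738 F42680))
theorem Q11740 : ∀ i, i < 11740 → P i := stepQ 11739 Q11739 (allL N11739 (tt N11808 (iv F42853)) (tt N16211 D26499) (tt N16209 (iv F54678)) (tt N7545 F42681) (tt N16210 (iv F54681)) (tt N7544 (iv D21970)) (tt N11808 (iv F42855)))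
theorem Q11741 : ∀ i, i < 11741 → P i := stepQ 11740 Q11740 (allL N11740 (tt N11743 (iv F42688)) (tt N7545 (iv D21971)) (tt N8020 F42682) (tt N16211 (iv F54682)) (tt N15226 (iv F52319)) (tt N7553 F42683) (tt N8017 (iv F42684)))
theorem Q11742 : ∀ i, i < 11742 → P i := stepQ 11741 Q11741 (allL N11741 (tt N12286 (iv F44109)) (tt N7549 F42685) (tt N8034 F42686) (tt N7548 (iv D21972)) (tt N16212 D26500) (tt N16213 D26501) (tt N13335 (iv F47026)))
theorem Q11743 : ∀ i, i < 11743 → P i := stepQ 11742 Q11742 (allL N11742 (tt N12288 (iv F44112)) (tt N11760 (iv F42727)) (tt N11882 (iv F43036)) (tt N16213 (iv F54690)) (tt N15229 (iv F52323)) (tt N7548 (iv D21973)) (tt N7553 F42687))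
theorem Q11744 : ∀ i, i < 11744 → P i := stepQ 11743 Q11743 (allL N11743 (tt N11740 F42688) (tt N7558 F42689) (tt N9798 F42690) (tt N13335 (iv F47027)) (tt N15230 (iv F52328)) (tt N11749 (iv F42701)) (tt N7548 (iv D21974)))
theorem Q11745 : ∀ i, i < 11745 → P i := stepQ 11744 Q11744 (allL N11744 (tt N7550 F42691) (tt N8091 F42692) (tt N7549 (iv D21975)) (tt N8094 F42693) (tt N12659 (iv F45284)) (tt N11761 (iv F42731)) (tt N7559 F42694))
theorem Q11746 : ∀ i, i < 11746 → P i := stepQ 11745 Q11745 (allL N11745 (tt N7551 F42695) (tt N16212 (iv F54687)) (tt N12659 (iv F45282)) (tt N15232 (iv F52333)) (tt N7549 (iv D21976)) (tt N11763 (iv F42736)) (tt N7560 F42696))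
theorem Q11747 : ∀ i, i < 11747 → P i := stepQ 11746 Q11746 (allL N11746 (tt N11761 (iv F42729)) (tt N8044 F42697) (tt N7552 F42698) (tt N12395 (iv F44445)) (tt N12660 (iv F45290)) (tt N7550 (iv D21977)) (tt N11756 (iv F42720)))
theorem Q11748 : ∀ i, i < 11748 → P i := stepQ 11747 Q11747 (allL N11747 (tt N11763 (iv F42734)) (tt N16214 D26502) (tt N12660 (iv F45288)) (tt N15237 (iv F52341)) (tt N7552 F42699) (tt N7551 (iv D21978)) (tt N11757 (iv F42723)))
theorem Q11749 : ∀ i, i < 11749 → P i := stepQ 11748 Q11748 (allL N11748 (tt N16215 D26503) (tt N7552 (iv D21979)) (tt N16216 D26504) (tt N7553 F42700) (tt N16214 (iv F54692)) (tt N16211 (iv F54683)) (tt N16213 (iv F54691)))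
theorem Q11750 : ∀ i, i < 11750 → P i := stepQ 11749 Q11749 (allL N11749 (tt N7553 (iv D21980)) (tt N12262 (iv F44048)) (tt N11881 (iv F43030)) (tt N16215 (iv F54693)) (tt N15239 (iv F52344)) (tt N11743 F42701) (tt N12288 (iv F44114)))
theorem Q11751 : ∀ i, i < 11751 → P i := stepQ 11750 Q11750 (allL N11750 (tt N11750 F42702) (tt N7555 (iv D21981)) (tt N11793 (iv F42813)) (tt N16217 D26505) (tt N15240 (iv F52347)) (tt N11793 (iv F42815)) (tt N11793 (iv F42814)))
theorem Q11752 : ∀ i, i < 11752 → P i := stepQ 11751 Q11751 (allL N11751 (tt N7556 F42703) (tt N16217 (iv F54703)) (tt N9003 (iv F42705)) (tt N7555 (iv D21982)) (tt N16218 D26506) (tt N9002 F42704) (tt N13336 (iv F47032)))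
theorem Q11753 : ∀ i, i < 11753 → P i := stepQ 11752 Q11752 (allL N11752 (tt N7558 F42706) (tt N9855 (iv F42709)) (tt N9799 F42707) (tt N13336 (iv F47030)) (tt N15242 (iv F52354)) (tt N9800 F42708) (tt N7555 (iv D21983)))
theorem Q11754 : ∀ i, i < 11754 → P i := stepQ 11753 Q11753 (allL N11753 (tt N16218 (iv F54705)) (tt N7560 F42710) (tt N13012 (iv F46217)) (tt N15244 (iv F52360)) (tt N7556 (iv D21984)) (tt N16219 D26507) (tt N13011 F46215))
theorem Q11755 : ∀ i, i < 11755 → P i := stepQ 11754 Q11754 (allL N11754 (tt N9002 F42711) (tt N16220 D26508) (tt N9001 F42712) (tt N7557 F42713) (tt N16219 (iv F54712)) (tt N7556 (iv D21985)) (tt N9000 F42714))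
theorem Q11756 : ∀ i, i < 11756 → P i := stepQ 11755 Q11755 (allL N11755 (tt N11767 (iv F42742)) (tt N7557 (iv D21986)) (tt N14736 (iv F50908)) (tt N16220 (iv F54715)) (tt N15247 (iv F52364)) (tt N7562 F42715) (tt N11768 (iv F42743)))
theorem Q11757 : ∀ i, i < 11757 → P i := stepQ 11756 Q11756 (allL N11756 (tt N7563 F42716) (tt N8469 F42717) (tt N7561 F42718) (tt N10334 F42719) (tt N12655 (iv F45269)) (tt N7559 (iv D21987)) (tt N11746 F42720))
theorem Q11758 : ∀ i, i < 11758 → P i := stepQ 11757 Q11757 (allL N11757 (tt N7564 F42721) (tt N16221 D26509) (tt N12655 (iv F45267)) (tt N15251 (iv F52375)) (tt N7561 F42722) (tt N7560 (iv D21988)) (tt N11747 F42723))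
theorem Q11759 : ∀ i, i < 11759 → P i := stepQ 11758 Q11758 (allL N11758 (tt N16222 D26510) (tt N7561 (iv D21989)) (tt N16223 D26511) (tt N7562 F42724) (tt N16221 (iv F54717)) (tt N16220 (iv F54716)) (tt N16224 D26512))
theorem Q11760 : ∀ i, i < 11760 → P i := stepQ 11759 Q11759 (allL N11759 (tt N7562 (iv D21990)) (tt N7959 F42725) (tt N7965 F42726) (tt N16222 (iv F54719)) (tt N15253 (iv F52381)) (tt N11767 F42741) (tt N16225 D26513))
theorem Q11761 : ∀ i, i < 11761 → P i := stepQ 11760 Q11760 (allL N11760 (tt N16225 (iv F54726)) (tt N11742 F42727) (tt N14735 (iv F50902)) (tt N16224 (iv F54724)) (tt N15254 (iv F52383)) (tt N7568 F42728) (tt N7562 (iv D21991)))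
theorem Q11762 : ∀ i, i < 11762 → P i := stepQ 11761 Q11761 (allL N11761 (tt N11746 F42729) (tt N12772 (iv F45580)) (tt N7566 F42730) (tt N12376 (iv F44370)) (tt N12656 (iv F45273)) (tt N11744 F42731) (tt N7563 (iv D21992)))
theorem Q11763 : ∀ i, i < 11763 → P i := stepQ 11762 Q11762 (allL N11762 (tt N11781 (iv F42786)) (tt N7564 (iv D21993)) (tt N12654 (iv F45262)) (tt N15261 (iv F52403)) (tt N7565 F42732) (tt N11762 F42733) (tt N16226 D26514))
theorem Q11764 : ∀ i, i < 11764 → P i := stepQ 11763 Q11763 (allL N11763 (tt N11747 F42734) (tt N16227 D26515) (tt N12656 (iv F45271)) (tt N15262 (iv F52407)) (tt N7566 F42735) (tt N11745 F42736) (tt N7564 (iv D21994)))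
theorem Q11765 : ∀ i, i < 11765 → P i := stepQ 11764 Q11764 (allL N11764 (tt N11780 (iv F42783)) (tt N12602 F45107) (tt N7565 (iv D21995)) (tt N16228 D26516) (tt N12654 (iv F45264)) (tt N11764 F42737) (tt N16229 D26517))
theorem Q11766 : ∀ i, i < 11766 → P i := stepQ 11765 Q11765 (allL N11765 (tt N11782 (iv F42789)) (tt N16230 D26518) (tt N16229 (iv F54735)) (tt N7567 F42738) (tt N16226 (iv F54729)) (tt N11782 (iv F42791)) (tt N7565 (iv D21996)))
theorem Q11767 : ∀ i, i < 11767 → P i := stepQ 11766 Q11766 (allL N11766 (tt N16231 D26519) (tt N7566 (iv D21997)) (tt N16232 D26520) (tt N7568 F42739) (tt N16227 (iv F54730)) (tt N16224 (iv F54725)) (tt N16230 (iv F54737)))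
theorem Q11768 : ∀ i, i < 11768 → P i := stepQ 11767 Q11767 (allL N11767 (tt N11755 F42742) (tt N7567 (iv D21998)) (tt N12233 (iv F43985)) (tt N16230 (iv F54736)) (tt N15266 (iv F52413)) (tt N11759 (iv F42741)) (tt N7568 F42740))
theorem Q11769 : ∀ i, i < 11769 → P i := stepQ 11768 Q11768 (allL N11768 (tt N7568 (iv D21999)) (tt N16233 D26521) (tt N16234 D26522) (tt N16231 (iv F54740)) (tt N15267 (iv F52417)) (tt N16225 (iv F54728)) (tt N11755 F42743))
theorem Q11770 : ∀ i, i < 11770 → P i := stepQ 11769 Q11769 (allL N11769 (tt N16234 (iv F54744)) (tt N7569 F42744) (tt N7568 (iv D22000)) (tt N14921 (iv F51558)) (tt N15268 (iv F52420)) (tt N14735 (iv F50904)) (tt N12233 F43986))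
theorem Q11771 : ∀ i, i < 11771 → P i := stepQ 11770 Q11770 (allL N11770 (tt N7579 F42745) (tt N12274 F44080) (tt N10834 F42746) (tt N7575 F42747) (tt N9131 F42748) (tt N7574 (iv D22001)) (tt N11774 (iv F42765)))
theorem Q11772 : ∀ i, i < 11772 → P i := stepQ 11771 Q11771 (allL N11771 (tt N9130 F42749) (tt N8438 F42750) (tt N7578 F42751) (tt N7806 F42753) (tt N7577 (iv D22002)) (tt N15015 (iv F51872)) (tt N7803 F42752))
theorem Q11773 : ∀ i, i < 11773 → P i := stepQ 11772 Q11772 (allL N11772 (tt N9131 F42754) (tt N12106 (iv F43635)) (tt N15015 (iv F51869)) (tt N9128 F42755) (tt N7579 F42756) (tt N7578 (iv D22003)) (tt N13442 (iv F47315)))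
theorem Q11774 : ∀ i, i < 11774 → P i := stepQ 11773 Q11773 (allL N11773 (tt N9132 F42757) (tt N7808 F42758) (tt N7803 F42759) (tt N9129 F42760) (tt N7580 F42761) (tt N13441 (iv F47310)) (tt N7578 (iv D22004)))
theorem Q11775 : ∀ i, i < 11775 → P i := stepQ 11774 Q11774 (allL N11774 (tt N10831 F42762) (tt N16235 D26523) (tt N10829 F42763) (tt N7582 F42764) (tt N13441 (iv F47309)) (tt N7580 (iv D22005)) (tt N11770 F42765))
theorem Q11776 : ∀ i, i < 11776 → P i := stepQ 11775 Q11775 (allL N11775 (tt N12113 (iv F43661)) (tt N7582 (iv D22007)) (tt N8503 F42767) (tt N16235 (iv F54749)) (tt N15269 (iv F52422)) (tt N7814 F42768) (tt N7853 F42769))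
theorem Q11777 : ∀ i, i < 11777 → P i := stepQ 11776 Q11776 (allL N11776 (tt N11776 F42774) (tt N10347 F42775) (tt N7584 (iv D22008)) (tt N11695 F42778) (tt N10862 F42776) (tt N14766 (iv F51012)) (tt N11776 F42777))
theorem Q11778 : ∀ i, i < 11778 → P i := stepQ 11777 Q11777 (allL N11777 (tt N16200 (iv F54640)) (tt N12075 (iv F43535)) (tt N16185 (iv F54587)) (tt N15273 (iv F52435)) (tt N7588 F42779) (tt N16200 (iv F54642)) (tt N7586 (iv D22009)))
theorem Q11779 : ∀ i, i < 11779 → P i := stepQ 11778 Q11778 (allL N11778 (tt N16202 (iv F54647)) (tt N13663 F48041) (tt N16228 (iv F54734)) (tt N7587 (iv D22010)) (tt N13665 (iv F48050)) (tt N11778 F42780) (tt N16236 D26524))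
theorem Q11780 : ∀ i, i < 11780 → P i := stepQ 11779 Q11779 (allL N11779 (tt N16203 (iv F54651)) (tt N7641 F42781) (tt N7588 F42782) (tt N16236 (iv F54754)) (tt N16185 (iv F54589)) (tt N16203 (iv F54654)) (tt N7587 (iv D22011)))
theorem Q11781 : ∀ i, i < 11781 → P i := stepQ 11780 Q11780 (allL N11780 (tt N11764 F42783) (tt N8331 F42784) (tt N7589 (iv D22012)) (tt N16237 D26525) (tt N16238 D26526) (tt N11780 F42785) (tt N16239 D26527))
theorem Q11782 : ∀ i, i < 11782 → P i := stepQ 11781 Q11781 (allL N11781 (tt N11762 F42786) (tt N7596 F42787) (tt N16238 (iv F54762)) (tt N15277 (iv F52443)) (tt N7589 (iv D22013)) (tt N11781 F42788) (tt N16240 D26528))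
theorem Q11783 : ∀ i, i < 11783 → P i := stepQ 11782 Q11782 (allL N11782 (tt N11765 F42789) (tt N16241 D26529) (tt N16239 (iv F54768)) (tt N7590 F42790) (tt N16240 (iv F54773)) (tt N11765 F42791) (tt N7589 (iv D22014)))
theorem Q11784 : ∀ i, i < 11784 → P i := stepQ 11783 Q11783 (allL N11783 (tt N11785 (iv F42797)) (tt N7590 (iv D22015)) (tt N7961 F42792) (tt N16241 (iv F54776)) (tt N15279 (iv F52449)) (tt N7959 F42793) (tt N7598 F42794))
theorem Q11785 : ∀ i, i < 11785 → P i := stepQ 11784 Q11784 (allL N11784 (tt N12227 (iv F43959)) (tt N7594 F42795) (tt N7976 F42796) (tt N7593 (iv D22016)) (tt N16242 D26530) (tt N13342 (iv F47048)) (tt N16243 D26531))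
theorem Q11786 : ∀ i, i < 11786 → P i := stepQ 11785 Q11785 (allL N11785 (tt N11783 F42797) (tt N7602 F42798) (tt N9851 F42799) (tt N13342 (iv F47049)) (tt N15282 (iv F52456)) (tt N7593 (iv D22017)) (tt N11792 (iv F42811)))
theorem Q11787 : ∀ i, i < 11787 → P i := stepQ 11786 Q11786 (allL N11786 (tt N12229 (iv F43962)) (tt N11803 (iv F42840)) (tt N12091 (iv F43580)) (tt N16243 (iv F54783)) (tt N15283 (iv F52457)) (tt N7598 F42800) (tt N7593 (iv D22018)))
theorem Q11788 : ∀ i, i < 11788 → P i := stepQ 11787 Q11787 (allL N11787 (tt N7595 F42801) (tt N8082 F42802) (tt N7594 (iv D22019)) (tt N8076 F42803) (tt N12650 (iv F45247)) (tt N7604 F42804) (tt N11804 (iv F42844)))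
theorem Q11789 : ∀ i, i < 11789 → P i := stepQ 11788 Q11788 (allL N11788 (tt N7596 F42805) (tt N16242 (iv F54780)) (tt N12650 (iv F45245)) (tt N15285 (iv F52463)) (tt N7594 (iv D22020)) (tt N7605 F42806) (tt N11806 (iv F42850)))
theorem Q11790 : ∀ i, i < 11790 → P i := stepQ 11789 Q11789 (allL N11789 (tt N11804 (iv F42842)) (tt N7987 F42807) (tt N7597 F42808) (tt N12349 (iv F44279)) (tt N12651 (iv F45253)) (tt N11799 (iv F42833)) (tt N7595 (iv D22021)))
theorem Q11791 : ∀ i, i < 11791 → P i := stepQ 11790 Q11790 (allL N11790 (tt N11806 (iv F42848)) (tt N16244 D26532) (tt N12651 (iv F45251)) (tt N15290 (iv F52471)) (tt N7597 F42809) (tt N11800 (iv F42836)) (tt N7596 (iv D22022)))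
theorem Q11792 : ∀ i, i < 11792 → P i := stepQ 11791 Q11791 (allL N11791 (tt N16245 D26533) (tt N7597 (iv D22023)) (tt N16246 D26534) (tt N7598 F42810) (tt N16244 (iv F54785)) (tt N16243 (iv F54784)) (tt N16241 (iv F54778)))
theorem Q11793 : ∀ i, i < 11793 → P i := stepQ 11792 Q11792 (allL N11792 (tt N7598 (iv D22024)) (tt N12319 (iv F44181)) (tt N12090 (iv F43574)) (tt N16245 (iv F54786)) (tt N15292 (iv F52474)) (tt N12229 (iv F43964)) (tt N11785 F42811))
theorem Q11794 : ∀ i, i < 11794 → P i := stepQ 11793 Q11793 (allL N11793 (tt N11793 F42812) (tt N7600 (iv D22025)) (tt N11750 F42813) (tt N16247 D26535) (tt N15293 (iv F52478)) (tt N11750 F42815) (tt N11750 F42814))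
theorem Q11795 : ∀ i, i < 11795 → P i := stepQ 11794 Q11794 (allL N11794 (tt N7601 F42816) (tt N16247 (iv F54796)) (tt N9065 (iv F42818)) (tt N7600 (iv D22026)) (tt N16248 D26536) (tt N13338 F47039) (tt N9064 F42817))
theorem Q11796 : ∀ i, i < 11796 → P i := stepQ 11795 Q11795 (allL N11795 (tt N7602 F42819) (tt N9802 F42820) (tt N9852 F42821) (tt N13338 (iv F47036)) (tt N15295 (iv F52488)) (tt N7600 (iv D22027)) (tt N9853 F42822))
theorem Q11797 : ∀ i, i < 11797 → P i := stepQ 11796 Q11796 (allL N11796 (tt N16248 (iv F54801)) (tt N7605 F42823) (tt N13083 (iv F46386)) (tt N15297 (iv F52493)) (tt N7601 (iv D22028)) (tt N13082 F46384) (tt N16249 D26537))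
theorem Q11798 : ∀ i, i < 11798 → P i := stepQ 11797 Q11797 (allL N11797 (tt N9064 F42824) (tt N16250 D26538) (tt N9063 F42825) (tt N7603 F42826) (tt N16249 (iv F54808)) (tt N9062 (iv F42827)) (tt N7601 (iv D22029)))
theorem Q11799 : ∀ i, i < 11799 → P i := stepQ 11798 Q11798 (allL N11798 (tt N11810 (iv F42857)) (tt N7603 (iv D22030)) (tt N14717 (iv F50843)) (tt N16250 (iv F54811)) (tt N15300 (iv F52497)) (tt N11811 (iv F42860)) (tt N7607 F42828))
theorem Q11800 : ∀ i, i < 11800 → P i := stepQ 11799 Q11799 (allL N11799 (tt N7608 F42829) (tt N8458 F42830) (tt N7606 F42831) (tt N10369 F42832) (tt N12646 (iv F45232)) (tt N11789 F42833) (tt N7604 (iv D22031)))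
theorem Q11801 : ∀ i, i < 11801 → P i := stepQ 11800 Q11800 (allL N11800 (tt N7609 F42834) (tt N16251 D26539) (tt N12646 (iv F45230)) (tt N15304 (iv F52508)) (tt N7606 F42835) (tt N11790 F42836) (tt N7605 (iv D22032)))
theorem Q11802 : ∀ i, i < 11802 → P i := stepQ 11801 Q11801 (allL N11801 (tt N16252 D26540) (tt N7606 (iv D22033)) (tt N16253 D26541) (tt N7607 F42837) (tt N16251 (iv F54813)) (tt N16254 D26542) (tt N16250 (iv F54812)))
theorem Q11803 : ∀ i, i < 11803 → P i := stepQ 11802 Q11802 (allL N11802 (tt N7607 (iv D22034)) (tt N8017 F42838) (tt N8023 F42839) (tt N16252 (iv F54815)) (tt N15306 (iv F52514)) (tt N16255 D26543) (tt N11810 (iv F42859)))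
theorem Q11804 : ∀ i, i < 11804 → P i := stepQ 11803 Q11803 (allL N11803 (tt N16255 (iv F54822)) (tt N11786 F42840) (tt N14716 (iv F50837)) (tt N16254 (iv F54820)) (tt N15307 (iv F52516)) (tt N7607 (iv D22035)) (tt N7613 (iv F42841)))
theorem Q11805 : ∀ i, i < 11805 → P i := stepQ 11804 Q11804 (allL N11804 (tt N11789 F42842) (tt N12797 (iv F45664)) (tt N7611 F42843) (tt N12355 (iv F44305)) (tt N12647 (iv F45236)) (tt N7608 (iv D22036)) (tt N11787 F42844))
theorem Q11806 : ∀ i, i < 11806 → P i := stepQ 11805 Q11805 (allL N11805 (tt N11738 (iv F42847)) (tt N7609 (iv D22037)) (tt N12645 (iv F45225)) (tt N15314 (iv F52536)) (tt N7610 F42845) (tt N16256 D26544) (tt N11805 F42846))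
theorem Q11807 : ∀ i, i < 11807 → P i := stepQ 11806 Q11806 (allL N11806 (tt N11790 F42848) (tt N16257 D26545) (tt N12647 (iv F45234)) (tt N15315 (iv F52541)) (tt N7611 F42849) (tt N7609 (iv D22038)) (tt N11788 F42850))
theorem Q11808 : ∀ i, i < 11808 → P i := stepQ 11807 Q11807 (allL N11807 (tt N11737 F42851) (tt N12600 F45096) (tt N7610 (iv D22039)) (tt N16205 (iv F54663)) (tt N12645 (iv F45227)) (tt N16258 D26546) (tt N11807 F42852))
theorem Q11809 : ∀ i, i < 11809 → P i := stepQ 11808 Q11808 (allL N11808 (tt N11739 F42853) (tt N16259 D26547) (tt N16258 (iv F54830)) (tt N7612 F42854) (tt N16256 (iv F54826)) (tt N7610 (iv D22040)) (tt N11739 F42855))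
theorem Q11810 : ∀ i, i < 11810 → P i := stepQ 11809 Q11809 (allL N11809 (tt N16260 D26548) (tt N7611 (iv D22041)) (tt N16261 D26549) (tt N7613 F42856) (tt N16257 (iv F54828)) (tt N16259 (iv F54834)) (tt N16254 F54821))
theorem Q11811 : ∀ i, i < 11811 → P i := stepQ 11810 Q11810 (allL N11810 (tt N11798 F42857) (tt N7612 (iv D22042)) (tt N12293 (iv F44123)) (tt N16259 (iv F54833)) (tt N15319 (iv F52551)) (tt N7613 F42858) (tt N11802 F42859))
theorem Q11812 : ∀ i, i < 11812 → P i := stepQ 11811 Q11811 (allL N11811 (tt N7613 (iv D22043)) (tt N16262 D26550) (tt N16263 D26551) (tt N16260 (iv F54836)) (tt N15320 (iv F52554)) (tt N11798 F42860) (tt N16255 (iv F54824)))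
theorem Q11813 : ∀ i, i < 11813 → P i := stepQ 11812 Q11812 (allL N11812 (tt N16263 (iv F54840)) (tt N7614 F42861) (tt N7613 (iv D22044)) (tt N14969 (iv F51719)) (tt N15321 (iv F52557)) (tt N12293 F44124) (tt N14716 (iv F50840)))
theorem Q11814 : ∀ i, i < 11814 → P i := stepQ 11813 Q11813 (allL N11813 (tt N10293 F42862) (tt N10308 F42863) (tt N8902 F42864) (tt N7615 (iv D22045)) (tt N16264 D26552) (tt N8901 F42865) (tt N12083 (iv F43557)))
theorem Q11815 : ∀ i, i < 11815 → P i := stepQ 11814 Q11814 (allL N11814 (tt N7617 (iv D22046)) (tt N9807 (iv F42872)) (tt N16265 D26553) (tt N13393 (iv F47184)) (tt N15534 (iv F52977)) (tt N11830 (iv F42896)) (tt N7623 F42866))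
theorem Q11816 : ∀ i, i < 11816 → P i := stepQ 11815 Q11815 (allL N11815 (tt N16265 (iv F54848)) (tt N7649 F42867) (tt N7617 (iv D22047)) (tt N16266 D26554) (tt N15535 (iv F52981)) (tt N7903 (iv F42869)) (tt N7624 F42868))
theorem Q11817 : ∀ i, i < 11817 → P i := stepQ 11816 Q11816 (allL N11816 (tt N11830 (iv F42895)) (tt N7904 F42870) (tt N7903 F42871) (tt N13395 (iv F47188)) (tt N15536 (iv F52986)) (tt N7617 (iv D22048)) (tt N11827 (iv F42892)))
theorem Q11818 : ∀ i, i < 11818 → P i := stepQ 11817 Q11817 (allL N11817 (tt N16267 D26555) (tt N7619 (iv D22049)) (tt N16268 D26556) (tt N15537 (iv F52987)) (tt N7620 F42873) (tt N16269 D26557) (tt N13109 (iv F46468)))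
theorem Q11819 : ∀ i, i < 11819 → P i := stepQ 11818 Q11818 (allL N11818 (tt N7620 (iv D22050)) (tt N16270 D26558) (tt N16271 D26559) (tt N7623 F42874) (tt N16267 (iv F54863)) (tt N16272 D26560) (tt N13393 (iv F47185)))
theorem Q11820 : ∀ i, i < 11820 → P i := stepQ 11819 Q11819 (allL N11819 (tt N16271 (iv F54872)) (tt N11819 F42875) (tt N7620 (iv D22051)) (tt N16273 D26561) (tt N16268 (iv F54865)) (tt N16274 D26562) (tt N13394 (iv F47186)))
theorem Q11821 : ∀ i, i < 11821 → P i := stepQ 11820 Q11820 (allL N11820 (tt N16272 (iv F54875)) (tt N11932 (iv F43188)) (tt N16274 (iv F54884)) (tt N7625 F42876) (tt N16269 (iv F54868)) (tt N7620 (iv D22052)) (tt N16275 D26563))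
theorem Q11822 : ∀ i, i < 11822 → P i := stepQ 11821 Q11821 (allL N11821 (tt N11936 (iv F43192)) (tt N7621 (iv D22053)) (tt N16276 D26564) (tt N7626 F42877) (tt N13218 (iv F46695)) (tt N11932 (iv F43189)) (tt N16277 D26565))
theorem Q11823 : ∀ i, i < 11823 → P i := stepQ 11822 Q11822 (allL N11822 (tt N7622 (iv D22054)) (tt N12263 (iv F44051)) (tt N9041 F42880) (tt N9110 F42878) (tt N15543 (iv F52996)) (tt N13405 (iv F47226)) (tt N7974 F42879))
theorem Q11824 : ∀ i, i < 11824 → P i := stepQ 11823 Q11823 (allL N11823 (tt N9041 F42881) (tt N7627 F42882) (tt N7622 (iv D22055)) (tt N9040 F42884) (tt N15544 (iv F53001)) (tt N12786 (iv F45631)) (tt N9099 F42883))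
theorem Q11825 : ∀ i, i < 11825 → P i := stepQ 11824 Q11824 (allL N11824 (tt N13405 (iv F47222)) (tt N10374 F42885) (tt N12786 (iv F45629)) (tt N9111 F42886) (tt N15545 (iv F53004)) (tt N7622 (iv D22056)) (tt N12239 (iv F43996)))
theorem Q11826 : ∀ i, i < 11826 → P i := stepQ 11825 Q11825 (allL N11825 (tt N10466 (iv F42888)) (tt N7623 (iv D22057)) (tt N9811 (iv F42889)) (tt N16270 (iv F54870)) (tt N15546 (iv F53005)) (tt N14796 (iv F51125)) (tt N9804 F42887))
theorem Q11827 : ∀ i, i < 11827 → P i := stepQ 11826 Q11826 (allL N11826 (tt N7624 F42890) (tt N14045 (iv F49121)) (tt N7623 (iv D22058)) (tt N14699 (iv F50778)) (tt N15547 (iv F53010)) (tt N12173 F43839) (tt N16265 (iv F54851)))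
theorem Q11828 : ∀ i, i < 11828 → P i := stepQ 11827 Q11827 (allL N11827 (tt N7625 F42891) (tt N11907 (iv F43107)) (tt N12173 (iv F43835)) (tt N16272 (iv F54876)) (tt N15548 (iv F53012)) (tt N7623 (iv D22059)) (tt N11816 F42892))
theorem Q11829 : ∀ i, i < 11829 → P i := stepQ 11828 Q11828 (allL N11828 (tt N14699 (iv F50775)) (tt N7629 F42893) (tt N9677 (iv F42905)) (tt N7624 (iv D22060)) (tt N16278 D26566) (tt N14100 F49281) (tt N16266 (iv F54862)))
theorem Q11830 : ∀ i, i < 11830 → P i := stepQ 11829 Q11829 (allL N11829 (tt N12173 (iv F43838)) (tt N16279 D26567) (tt N7625 F42894) (tt N14100 (iv F49280)) (tt N15550 (iv F53017)) (tt N7624 (iv D22061)) (tt N12174 (iv F43842)))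
theorem Q11831 : ∀ i, i < 11831 → P i := stepQ 11830 Q11830 (allL N11830 (tt N11816 F42895) (tt N9775 (iv F42897)) (tt N12174 (iv F43840)) (tt N16275 (iv F54888)) (tt N15551 (iv F53019)) (tt N11814 F42896) (tt N7625 (iv D22062)))
theorem Q11832 : ∀ i, i < 11832 → P i := stepQ 11831 Q11831 (allL N11831 (tt N11928 (iv F43172)) (tt N7631 F42898) (tt N7626 (iv D22063)) (tt N12134 (iv F43735)) (tt N15552 (iv F53023)) (tt N11926 (iv F43169)) (tt N12132 F43727))
theorem Q11833 : ∀ i, i < 11833 → P i := stepQ 11832 Q11832 (allL N11832 (tt N11938 (iv F43196)) (tt N10313 F42899) (tt N12132 F43726) (tt N16277 (iv F54895)) (tt N15553 (iv F53025)) (tt N7711 F42900) (tt N7626 (iv D22064)))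
theorem Q11834 : ∀ i, i < 11834 → P i := stepQ 11833 Q11833 (allL N11833 (tt N7629 F42901) (tt N12091 (iv F43579)) (tt N10330 F42904) (tt N7628 (iv D22065)) (tt N16280 D26568) (tt N10327 F42902) (tt N7662 F42903))
theorem Q11835 : ∀ i, i < 11835 → P i := stepQ 11834 Q11834 (allL N11834 (tt N10330 F42906) (tt N9678 F42907) (tt N7629 (iv D22066)) (tt N13981 (iv F48953)) (tt N16281 D26569) (tt N10329 (iv F42909)) (tt N7664 F42908))
theorem Q11836 : ∀ i, i < 11836 → P i := stepQ 11835 Q11835 (allL N11835 (tt N16280 (iv F54904)) (tt N16278 (iv F54898)) (tt N16281 (iv F54911)) (tt N15557 (iv F53033)) (tt N7629 (iv D22067)) (tt N16282 D26570) (tt N7665 F42910))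
theorem Q11837 : ∀ i, i < 11837 → P i := stepQ 11836 Q11836 (allL N11836 (tt N10327 F42911) (tt N16283 D26571) (tt N10329 F42912) (tt N7630 F42913) (tt N16282 (iv F54916)) (tt N7629 (iv D22068)) (tt N11875 (iv F43020)))
theorem Q11838 : ∀ i, i < 11838 → P i := stepQ 11837 Q11837 (allL N11837 (tt N16284 D26572) (tt N7630 (iv D22069)) (tt N12051 (iv F43457)) (tt N16283 (iv F54917)) (tt N15559 (iv F53037)) (tt N16279 (iv F54902)) (tt N14134 F49384))
theorem Q11839 : ∀ i, i < 11839 → P i := stepQ 11838 Q11838 (allL N11838 (tt N7830 F42914) (tt N12134 (iv F43733)) (tt N14734 (iv F50897)) (tt N7631 (iv D22070)) (tt N16285 D26573) (tt N12050 (iv F43456)) (tt N7827 F42915))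
theorem Q11840 : ∀ i, i < 11840 → P i := stepQ 11839 Q11839 (allL N11839 (tt N7640 F42916) (tt N11839 F42917) (tt N7634 F42918) (tt N9076 F42919) (tt N10637 F42920) (tt N7632 (iv D22071)) (tt N11851 (iv F42957)))
theorem Q11841 : ∀ i, i < 11841 → P i := stepQ 11840 Q11840 (allL N11840 (tt N7641 F42921) (tt N13603 (iv F47853)) (tt N7635 F42922) (tt N10811 F42923) (tt N10806 F42924) (tt N11850 (iv F42954)) (tt N7632 (iv D22072)))
theorem Q11842 : ∀ i, i < 11842 → P i := stepQ 11841 Q11841 (allL N11841 (tt N7642 F42925) (tt N16186 (iv F54591)) (tt N10637 F42926) (tt N10468 F42927) (tt N7634 F42928) (tt N7633 (iv D22073)) (tt N11854 (iv F42965)))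
theorem Q11843 : ∀ i, i < 11843 → P i := stepQ 11842 Q11842 (allL N11842 (tt N7643 F42929) (tt N16205 (iv F54660)) (tt N10806 F42930) (tt N12600 (iv F45094)) (tt N7635 F42931) (tt N11852 (iv F42960)) (tt N7633 (iv D22074)))
theorem Q11844 : ∀ i, i < 11844 → P i := stepQ 11843 Q11843 (allL N11843 (tt N16286 D26574) (tt N7635 (iv D22075)) (tt N13666 (iv F48052)) (tt N7636 F42932) (tt N16205 (iv F54661)) (tt N16287 D26575) (tt N11843 F42933))
theorem Q11845 : ∀ i, i < 11845 → P i := stepQ 11844 Q11844 (allL N11844 (tt N7636 (iv D22076)) (tt N7939 F42940) (tt N16288 D26576) (tt N16286 (iv F54927)) (tt N15561 (iv F53040)) (tt N7654 F42938) (tt N11844 F42934))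
theorem Q11846 : ∀ i, i < 11846 → P i := stepQ 11845 Q11845 (allL N11845 (tt N16288 (iv F54937)) (tt N9820 F43966) (tt N7636 (iv D22077)) (tt N9821 (iv F43977)) (tt N15562 (iv F53045)) (tt N16289 D26577) (tt N11845 F42935))
theorem Q11847 : ∀ i, i < 11847 → P i := stepQ 11846 Q11846 (allL N11846 (tt N7654 F42939) (tt N7687 F42936) (tt N16289 (iv F54945)) (tt N16287 (iv F54935)) (tt N15563 (iv F53049)) (tt N7636 (iv D22078)) (tt N7654 (iv F42937)))
theorem Q11848 : ∀ i, i < 11848 → P i := stepQ 11847 Q11847 (allL N11847 (tt N10811 F42941) (tt N16236 (iv F54753)) (tt N13390 (iv F47178)) (tt N7641 F42942) (tt N10808 F42943) (tt N13388 (iv F47172)) (tt N7638 (iv D22079)))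
theorem Q11849 : ∀ i, i < 11849 → P i := stepQ 11848 Q11848 (allL N11848 (tt N10637 F42944) (tt N8439 F42945) (tt N7642 F42946) (tt N8441 F42947) (tt N7640 F42948) (tt N7639 (iv D22080)) (tt N14998 (iv F51818)))
theorem Q11850 : ∀ i, i < 11850 → P i := stepQ 11849 Q11849 (allL N11849 (tt N10806 F42949) (tt N16185 (iv F54586)) (tt N7643 F42950) (tt N10805 F42951) (tt N7641 F42952) (tt N14901 (iv F51489)) (tt N7639 (iv D22081)))
theorem Q11851 : ∀ i, i < 11851 → P i := stepQ 11850 Q11850 (allL N11850 (tt N11851 (iv F42955)) (tt N12064 (iv F43503)) (tt N7644 F42953) (tt N15002 (iv F51827)) (tt N14998 (iv F51817)) (tt N11840 F42954) (tt N7640 (iv D22082)))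
theorem Q11852 : ∀ i, i < 11852 → P i := stepQ 11851 Q11851 (allL N11851 (tt N11850 F42955) (tt N11715 (iv F42958)) (tt N7646 F42956) (tt N13388 (iv F47170)) (tt N14901 (iv F51488)) (tt N7641 (iv D22083)) (tt N11839 F42957))
theorem Q11853 : ∀ i, i < 11853 → P i := stepQ 11852 Q11852 (allL N11852 (tt N11854 (iv F42963)) (tt N16290 D26578) (tt N14998 (iv F51815)) (tt N14905 (iv F51501)) (tt N7644 F42959) (tt N11842 F42960) (tt N7642 (iv D22084)))
theorem Q11854 : ∀ i, i < 11854 → P i := stepQ 11853 Q11853 (allL N11853 (tt N16291 D26579) (tt N7643 (iv D22085)) (tt N12075 (iv F43536)) (tt N15564 (iv F53051)) (tt N7645 F42961) (tt N16194 (iv F54623)) (tt N7651 F42962))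
theorem Q11855 : ∀ i, i < 11855 → P i := stepQ 11854 Q11854 (allL N11854 (tt N11852 F42963) (tt N11698 (iv F42966)) (tt N14901 (iv F51486)) (tt N14800 (iv F51142)) (tt N7646 F42964) (tt N7643 (iv D22086)) (tt N11841 F42965))
theorem Q11856 : ∀ i, i < 11856 → P i := stepQ 11855 Q11855 (allL N11855 (tt N11900 (iv F43081)) (tt N7644 (iv D22087)) (tt N12069 (iv F43516)) (tt N7647 F42967) (tt N16290 (iv F54948)) (tt N11898 F43080) (tt N16204 (iv F54658)))
theorem Q11857 : ∀ i, i < 11857 → P i := stepQ 11856 Q11856 (allL N11856 (tt N7645 (iv D22088)) (tt N16292 D26580) (tt N12077 (iv F43540)) (tt N7648 F42968) (tt N16291 (iv F54949)) (tt N11865 (iv F42995)) (tt N7652 F42969))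
theorem Q11858 : ∀ i, i < 11858 → P i := stepQ 11857 Q11857 (allL N11857 (tt N10354 F42970) (tt N12804 (iv F45686)) (tt N7647 (iv D22089)) (tt N8534 (iv F42972)) (tt N15568 (iv F53059)) (tt N11905 (iv F43100)) (tt N8532 F42971))
theorem Q11859 : ∀ i, i < 11859 → P i := stepQ 11858 Q11858 (allL N11858 (tt N7690 F42973) (tt N7648 (iv D22090)) (tt N8567 (iv F42975)) (tt N16292 (iv F54953)) (tt N15569 (iv F53062)) (tt N11906 (iv F43105)) (tt N7687 F42974))
theorem Q11860 : ∀ i, i < 11860 → P i := stepQ 11859 Q11859 (allL N11859 (tt N7649 F42976) (tt N9881 F42977) (tt N7648 (iv D22091)) (tt N8011 F42980) (tt N15570 (iv F53067)) (tt N8010 F42978) (tt N7655 F42979))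
theorem Q11861 : ∀ i, i < 11861 → P i := stepQ 11860 Q11860 (allL N11860 (tt N8011 F42981) (tt N16266 (iv F54859)) (tt N12168 (iv F43815)) (tt N7649 (iv D22092)) (tt N15691 (iv F53388)) (tt N7733 F42982) (tt N7657 F42983))
theorem Q11862 : ∀ i, i < 11862 → P i := stepQ 11861 Q11861 (allL N11861 (tt N7651 (iv D22093)) (tt N16293 D26581) (tt N12074 (iv F43533)) (tt N15572 (iv F53071)) (tt N7652 F42984) (tt N16294 D26582) (tt N16291 (iv F54950)))
theorem Q11863 : ∀ i, i < 11863 → P i := stepQ 11862 Q11862 (allL N11862 (tt N16294 (iv F54959)) (tt N11734 F42985) (tt N12065 F43506) (tt N15573 (iv F53076)) (tt N7653 F42986) (tt N7651 (iv D22094)) (tt N16295 D26583))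
theorem Q11864 : ∀ i, i < 11864 → P i := stepQ 11863 Q11863 (allL N11863 (tt N16287 (iv F54932)) (tt N7652 (iv D22095)) (tt N16296 D26584) (tt N7654 F42987) (tt N16293 (iv F54957)) (tt N16286 (iv F54931)) (tt N16287 (iv F54936)))
theorem Q11865 : ∀ i, i < 11865 → P i := stepQ 11864 Q11864 (allL N11864 (tt N7653 F42988) (tt N11709 (iv F42991)) (tt N12068 (iv F43513)) (tt N7656 F42989) (tt N16294 (iv F54962)) (tt N7652 (iv D22096)) (tt N11711 F42990))
theorem Q11866 : ∀ i, i < 11866 → P i := stepQ 11865 Q11865 (allL N11865 (tt N11711 F42992) (tt N7684 (iv F42996)) (tt N11720 F42993) (tt N7659 F42994) (tt N16295 (iv F54966)) (tt N11856 F42995) (tt N7653 (iv D22097)))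
theorem Q11867 : ∀ i, i < 11867 → P i := stepQ 11866 Q11866 (allL N11866 (tt N16289 (iv F54943)) (tt N16297 D26585) (tt N7654 (iv D22098)) (tt N16298 D26586) (tt N15580 (iv F53090)) (tt N16288 (iv F54939)) (tt N16289 (iv F54947)))
theorem Q11868 : ∀ i, i < 11868 → P i := stepQ 11867 Q11867 (allL N11867 (tt N16279 (iv F54900)) (tt N7655 (iv D22099)) (tt N16297 (iv F54974)) (tt N16299 D26587) (tt N15581 (iv F53091)) (tt N16284 (iv F54918)) (tt N9878 F42997))
theorem Q11869 : ∀ i, i < 11869 → P i := stepQ 11868 Q11868 (allL N11868 (tt N7657 F42998) (tt N16299 (iv F54979)) (tt N7822 F43000) (tt N7655 (iv D22100)) (tt N16086 (iv F54370)) (tt N11965 (iv F43262)) (tt N8011 F42999))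
theorem Q11870 : ∀ i, i < 11870 → P i := stepQ 11869 Q11869 (allL N11869 (tt N7658 F43001) (tt N16300 D26588) (tt N7656 F43002) (tt N11965 (iv F43261)) (tt N15583 (iv F53096)) (tt N7655 (iv D22101)) (tt N11712 F43003))
theorem Q11871 : ∀ i, i < 11871 → P i := stepQ 11870 Q11870 (allL N11870 (tt N7822 F43004) (tt N16301 D26589) (tt N7657 (iv D22102)) (tt N7820 F43005) (tt N16010 (iv F54194)) (tt N7954 F43006) (tt N12168 (iv F43817)))
theorem Q11872 : ∀ i, i < 11872 → P i := stepQ 11871 Q11871 (allL N11871 (tt N16086 (iv F54368)) (tt N7665 F43007) (tt N16010 (iv F54193)) (tt N15585 (iv F53099)) (tt N7657 (iv D22103)) (tt N11626 F43008) (tt N15691 (iv F53389)))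
theorem Q11873 : ∀ i, i < 11873 → P i := stepQ 11872 Q11872 (allL N11872 (tt N14698 (iv F50771)) (tt N11700 F43009) (tt N8950 (iv F43011)) (tt N7660 (iv D22104)) (tt N16302 D26590) (tt N12030 (iv F43398)) (tt N11686 F43010))
theorem Q11874 : ∀ i, i < 11874 → P i := stepQ 11873 Q11873 (allL N11873 (tt N7664 F43012) (tt N7780 F43013) (tt N7662 (iv D22105)) (tt N10383 F43015) (tt N15774 (iv F53569)) (tt N14715 (iv F50834)) (tt N10330 F43014))
theorem Q11875 : ∀ i, i < 11875 → P i := stepQ 11874 Q11874 (allL N11874 (tt N7665 F43016) (tt N11325 F43017) (tt N15774 (iv F53567)) (tt N15590 (iv F53106)) (tt N7662 (iv D22106)) (tt N16303 D26591) (tt N16280 (iv F54908)))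
theorem Q11876 : ∀ i, i < 11876 → P i := stepQ 11875 Q11875 (allL N11875 (tt N7666 F43018) (tt N11928 (iv F43173)) (tt N14715 (iv F50832)) (tt N7663 F43019) (tt N16303 (iv F54997)) (tt N7662 (iv D22107)) (tt N11836 F43020))
theorem Q11877 : ∀ i, i < 11877 → P i := stepQ 11876 Q11876 (allL N11876 (tt N12134 (iv F43732)) (tt N7663 (iv D22108)) (tt N7791 F43021) (tt N11928 (iv F43175)) (tt N15592 (iv F53111)) (tt N11927 F43171) (tt N12131 F43724))
theorem Q11878 : ∀ i, i < 11878 → P i := stepQ 11877 Q11877 (allL N11877 (tt N16304 D26592) (tt N7664 (iv D22109)) (tt N16301 (iv F54988)) (tt N14160 F49460) (tt N16305 D26593) (tt N16306 D26594) (tt N9684 F43022))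
theorem Q11879 : ∀ i, i < 11879 → P i := stepQ 11878 Q11878 (allL N11878 (tt N10383 F43023) (tt N14160 (iv F49458)) (tt N9717 F43024) (tt N7664 (iv D22110)) (tt N9739 (iv F43026)) (tt N9716 F43025) (tt N13981 (iv F48955)))
theorem Q11880 : ∀ i, i < 11880 → P i := stepQ 11879 Q11879 (allL N11879 (tt N15774 F53570) (tt N16305 (iv F55002)) (tt N7665 F43027) (tt N16307 D26595) (tt N7664 (iv D22111)) (tt N14331 F49912) (tt N16281 (iv F54913)))
theorem Q11881 : ∀ i, i < 11881 → P i := stepQ 11880 Q11880 (allL N11880 (tt N16303 (iv F54995)) (tt N11636 F43028) (tt N14331 (iv F49909)) (tt N15597 (iv F53116)) (tt N7666 F43029) (tt N7665 (iv D22112)) (tt N14327 (iv F49903)))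
theorem Q11882 : ∀ i, i < 11882 → P i := stepQ 11881 Q11881 (allL N11881 (tt N7667 (iv D22113)) (tt N7964 (iv F43034)) (tt N11749 F43030) (tt N8021 F43031) (tt N15599 (iv F53120)) (tt N9798 F43032) (tt N8019 (iv F43033)))
theorem Q11883 : ∀ i, i < 11883 → P i := stepQ 11882 Q11882 (allL N11882 (tt N8019 F43035) (tt N12047 (iv F43443)) (tt N11742 F43036) (tt N8015 F43037) (tt N15600 (iv F53126)) (tt N8014 F43038) (tt N7667 (iv D22114)))
theorem Q11884 : ∀ i, i < 11884 → P i := stepQ 11883 Q11883 (allL N11883 (tt N10386 F43039) (tt N13597 F47836) (tt N14547 (iv F50427)) (tt N7669 F43040) (tt N7671 F43041) (tt N10860 F43042) (tt N7668 (iv D22115)))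
theorem Q11885 : ∀ i, i < 11885 → P i := stepQ 11884 Q11884 (allL N11884 (tt N8203 (iv F43045)) (tt N7669 (iv D22116)) (tt N16308 D26596) (tt N13597 (iv F47833)) (tt N7670 F43043) (tt N16309 D26597) (tt N11884 F43044))
theorem Q11886 : ∀ i, i < 11886 → P i := stepQ 11885 Q11885 (allL N11885 (tt N8207 F43046) (tt N10377 F43047) (tt N7670 (iv D22117)) (tt N8172 (iv F43049)) (tt N16308 (iv F55014)) (tt N8171 (iv F43050)) (tt N11885 F43048))
theorem Q11887 : ∀ i, i < 11887 → P i := stepQ 11886 Q11886 (allL N11886 (tt N8208 F43051) (tt N12095 (iv F43596)) (tt N8171 F43052) (tt N7676 F43053) (tt N16309 (iv F55020)) (tt N7670 (iv D22118)) (tt N8208 F43054))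
theorem Q11888 : ∀ i, i < 11888 → P i := stepQ 11887 Q11887 (allL N11887 (tt N13605 (iv F47864)) (tt N7679 F43055) (tt N7672 (iv D22119)) (tt N16000 (iv F54164)) (tt N7675 F43056) (tt N16310 D26598) (tt N11887 F43057))
theorem Q11889 : ∀ i, i < 11889 → P i := stepQ 11888 Q11888 (allL N11888 (tt N12098 (iv F43607)) (tt N12097 F43606) (tt N16310 (iv F55022)) (tt N13608 (iv F47877)) (tt N7676 F43058) (tt N7672 (iv D22120)) (tt N12098 (iv F43611)))
theorem Q11890 : ∀ i, i < 11890 → P i := stepQ 11889 Q11889 (allL N11889 (tt N12097 (iv F43603)) (tt N7673 (iv D22121)) (tt N16311 D26599) (tt N9367 F43059) (tt N7677 F43060) (tt N12097 (iv F43605)) (tt N9361 F43061))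
theorem Q11891 : ∀ i, i < 11891 → P i := stepQ 11890 Q11890 (allL N11890 (tt N7675 F43062) (tt N10810 F43063) (tt N7674 (iv D22122)) (tt N7949 (iv F43067)) (tt N13605 (iv F47866)) (tt N12101 (iv F43626)) (tt N11890 F43064))
theorem Q11892 : ∀ i, i < 11892 → P i := stepQ 11891 Q11891 (allL N11891 (tt N12101 (iv F43624)) (tt N11900 (iv F43082)) (tt N7676 F43069) (tt N7951 F43070) (tt N16310 (iv F55023)) (tt N7675 (iv D22123)) (tt N12101 (iv F43627)))
theorem Q11893 : ∀ i, i < 11893 → P i := stepQ 11892 Q11892 (allL N11892 (tt N12100 (iv F43620)) (tt N7685 F43071) (tt N7677 (iv D22124)) (tt N12130 (iv F43720)) (tt N16311 (iv F55025)) (tt N12100 (iv F43623)) (tt N12099 (iv F43615)))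
theorem Q11894 : ∀ i, i < 11894 → P i := stepQ 11893 Q11893 (allL N11893 (tt N16312 D26600) (tt N7678 (iv D22125)) (tt N16313 D26601) (tt N15612 (iv F53167)) (tt N7682 F43072) (tt N16314 D26602) (tt N16315 D26603))
theorem Q11895 : ∀ i, i < 11895 → P i := stepQ 11894 Q11894 (allL N11894 (tt N16316 D26604) (tt N7680 (iv D22126)) (tt N16317 D26605) (tt N15613 (iv F53171)) (tt N7683 F43073) (tt N7681 F43074) (tt N16196 (iv F54628)))
theorem Q11896 : ∀ i, i < 11896 → P i := stepQ 11895 Q11895 (allL N11895 (tt N7681 (iv D22127)) (tt N16295 F54968) (tt N16201 (iv F54646)) (tt N15614 (iv F53174)) (tt N7684 F43075) (tt N16316 (iv F55037)) (tt N16318 D26606))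
theorem Q11897 : ∀ i, i < 11897 → P i := stepQ 11896 Q11896 (allL N11896 (tt N16201 F54645) (tt N16311 (iv F55024)) (tt N7681 (iv D22128)) (tt N16319 D26607) (tt N7685 F43076) (tt N16317 (iv F55043)) (tt N12106 F43638))
theorem Q11898 : ∀ i, i < 11898 → P i := stepQ 11897 Q11897 (allL N11897 (tt N16318 (iv F55045)) (tt N11730 F43077) (tt N12106 (iv F43636)) (tt N13387 (iv F47165)) (tt N7686 F43078) (tt N12105 F43634) (tt N7681 (iv D22129)))
theorem Q11899 : ∀ i, i < 11899 → P i := stepQ 11898 Q11898 (allL N11898 (tt N7682 (iv D22130)) (tt N16287 (iv F54933)) (tt N16235 F54752) (tt N7687 F43079) (tt N16312 (iv F55027)) (tt N11855 (iv F43080)) (tt N16292 (iv F54955)))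
theorem Q11900 : ∀ i, i < 11900 → P i := stepQ 11899 Q11899 (allL N11899 (tt N16235 (iv F54748)) (tt N11903 (iv F43091)) (tt N7682 (iv D22131)) (tt N12113 (iv F43662)) (tt N16313 (iv F55029)) (tt N12110 F43650) (tt N16320 D26608))
theorem Q11901 : ∀ i, i < 11901 → P i := stepQ 11900 Q11900 (allL N11900 (tt N11855 F43081) (tt N11891 F43082) (tt N12110 (iv F43648)) (tt N7689 F43083) (tt N16314 (iv F55032)) (tt N7682 (iv D22132)) (tt N12108 F43643))
theorem Q11902 : ∀ i, i < 11902 → P i := stepQ 11901 Q11901 (allL N11901 (tt N16292 (iv F54951)) (tt N7938 F43084) (tt N16320 (iv F55054)) (tt N7690 F43085) (tt N16315 (iv F55035)) (tt N16204 (iv F54657)) (tt N7682 (iv D22133)))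
theorem Q11903 : ∀ i, i < 11903 → P i := stepQ 11902 Q11902 (allL N11902 (tt N7683 (iv D22134)) (tt N12108 (iv F43641)) (tt N7847 (iv F43089)) (tt N7696 F43086) (tt N16316 (iv F55036)) (tt N7684 F43087) (tt N7849 F43088))
theorem Q11904 : ∀ i, i < 11904 → P i := stepQ 11903 Q11903 (allL N11903 (tt N7847 F43090) (tt N11899 F43091) (tt N7683 (iv D22135)) (tt N7860 (iv F43094)) (tt N16317 (iv F55042)) (tt N7685 F43092) (tt N7848 F43093))
theorem Q11905 : ∀ i, i < 11905 → P i := stepQ 11904 Q11904 (allL N11904 (tt N7686 F43095) (tt N11716 F43096) (tt N12111 (iv F43653)) (tt N7699 F43097) (tt N16318 (iv F55048)) (tt N11717 F43098) (tt N7684 (iv D22136)))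
theorem Q11906 : ∀ i, i < 11906 → P i := stepQ 11905 Q11905 (allL N11905 (tt N7688 F43099) (tt N10516 (iv F43102)) (tt N7687 (iv D22137)) (tt N8569 (iv F43103)) (tt N15627 (iv F53216)) (tt N11857 F43100) (tt N8567 F43101))
theorem Q11907 : ∀ i, i < 11907 → P i := stepQ 11906 Q11906 (allL N11906 (tt N11732 F43104) (tt N7696 (iv F43106)) (tt N12789 (iv F45640)) (tt N12108 (iv F43642)) (tt N15629 (iv F53223)) (tt N11858 F43105) (tt N7689 (iv D22138)))
theorem Q11908 : ∀ i, i < 11908 → P i := stepQ 11907 Q11907 (allL N11907 (tt N7691 (iv D22139)) (tt N11827 F43107) (tt N7914 F43108) (tt N16321 D26609) (tt N14645 (iv F50633)) (tt N16322 D26610) (tt N7917 F43109))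
theorem Q11909 : ∀ i, i < 11909 → P i := stepQ 11908 Q11908 (allL N11908 (tt N16321 (iv F55057)) (tt N7692 F43110) (tt N14392 (iv F50067)) (tt N7691 (iv D22140)) (tt N14391 (iv F50065)) (tt N16323 D26611) (tt N8506 F43111))
theorem Q11910 : ∀ i, i < 11910 → P i := stepQ 11909 Q11909 (allL N11909 (tt N16322 (iv F55061)) (tt N12221 (iv F43947)) (tt N12189 (iv F43879)) (tt N16323 (iv F55065)) (tt N14646 (iv F50635)) (tt N7691 (iv D22141)) (tt N10398 F43112))
theorem Q11911 : ∀ i, i < 11911 → P i := stepQ 11910 Q11910 (allL N11910 (tt N7694 F43113) (tt N14391 (iv F50063)) (tt N12217 (iv F43939)) (tt N14642 (iv F50625)) (tt N7692 (iv D22142)) (tt N12217 (iv F43941)) (tt N7944 F43114))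
theorem Q11912 : ∀ i, i < 11912 → P i := stepQ 11911 Q11911 (allL N11911 (tt N16324 D26612) (tt N7693 (iv D22143)) (tt N7714 F43115) (tt N7695 F43116) (tt N16325 D26613) (tt N7719 F43117) (tt N14157 (iv F49452)))
theorem Q11913 : ∀ i, i < 11913 → P i := stepQ 11912 Q11912 (allL N11912 (tt N12217 (iv F43938)) (tt N16325 (iv F55071)) (tt N7694 F43118) (tt N14658 (iv F50664)) (tt N7693 (iv D22144)) (tt N7694 F43119) (tt N7945 F43120))
theorem Q11914 : ∀ i, i < 11914 → P i := stepQ 11913 Q11913 (allL N11913 (tt N7695 (iv D22145)) (tt N9780 (iv F43122)) (tt N13941 (iv F48850)) (tt N16324 (iv F55069)) (tt N14663 (iv F50675)) (tt N7720 F43121) (tt N11956 (iv F43232)))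
theorem Q11915 : ∀ i, i < 11915 → P i := stepQ 11914 Q11914 (allL N11914 (tt N13941 F48853) (tt N7697 F43123) (tt N7695 (iv D22146)) (tt N14883 (iv F51436)) (tt N14664 (iv F50679)) (tt N7721 F43124) (tt N12029 (iv F43394)))
theorem Q11916 : ∀ i, i < 11916 → P i := stepQ 11915 Q11915 (allL N11915 (tt N11956 (iv F43231)) (tt N10307 F43125) (tt N12029 (iv F43391)) (tt N14157 (iv F49451)) (tt N14665 (iv F50682)) (tt N11953 (iv F43218)) (tt N7695 (iv D22147)))
theorem Q11917 : ∀ i, i < 11917 → P i := stepQ 11916 Q11916 (allL N11916 (tt N7697 F43126) (tt N9927 (iv F43128)) (tt N7696 (iv D22148)) (tt N8099 (iv F43129)) (tt N15630 (iv F53227)) (tt N7698 F43127) (tt N11923 (iv F43160)))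
theorem Q11918 : ∀ i, i < 11918 → P i := stepQ 11917 Q11917 (allL N11917 (tt N8099 F43130) (tt N14883 (iv F51434)) (tt N12123 (iv F43686)) (tt N7697 (iv D22149)) (tt N14889 (iv F51453)) (tt N7700 F43131) (tt N12125 (iv F43696)))
theorem Q11919 : ∀ i, i < 11919 → P i := stepQ 11918 Q11918 (allL N11918 (tt N7701 F43132) (tt N12293 (iv F44122)) (tt N7699 F43133) (tt N8100 F43134) (tt N15632 (iv F53235)) (tt N10438 F43135) (tt N7698 (iv D22150)))
theorem Q11920 : ∀ i, i < 11920 → P i := stepQ 11919 Q11919 (allL N11919 (tt N8096 F43136) (tt N10405 F43137) (tt N7700 (iv D22151)) (tt N10404 F43138) (tt N10585 (iv F43139)) (tt N12123 (iv F43687)) (tt N8055 F43140))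
theorem Q11921 : ∀ i, i < 11921 → P i := stepQ 11920 Q11920 (allL N11920 (tt N8098 F43141) (tt N7729 F43142) (tt N10585 F43143) (tt N13476 (iv F47413)) (tt N7700 (iv D22152)) (tt N14889 (iv F51454)) (tt N10635 (iv F43144)))
theorem Q11922 : ∀ i, i < 11922 → P i := stepQ 11921 Q11921 (allL N11921 (tt N8100 F43145) (tt N10782 (iv F43150)) (tt N8055 F43146) (tt N7701 F43147) (tt N10635 F43148) (tt N8052 F43149) (tt N7700 (iv D22153)))
theorem Q11923 : ∀ i, i < 11923 → P i := stepQ 11922 Q11922 (allL N11922 (tt N9823 (iv F43154)) (tt N7701 (iv D22154)) (tt N9822 F43151) (tt N10782 F43152) (tt N15635 (iv F53245)) (tt N10781 (iv F43155)) (tt N7731 F43153))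
theorem Q11924 : ∀ i, i < 11924 → P i := stepQ 11923 Q11923 (allL N11923 (tt N10438 F43156) (tt N8053 F43157) (tt N7702 F43158) (tt N8052 F43159) (tt N15636 (iv F53253)) (tt N7701 (iv D22155)) (tt N11916 F43160))
theorem Q11925 : ∀ i, i < 11925 → P i := stepQ 11924 Q11924 (allL N11924 (tt N7951 F43161) (tt N7702 (iv D22156)) (tt N12337 (iv F44238)) (tt N12101 F43628) (tt N15637 (iv F53256)) (tt N7949 F43162) (tt N7951 F43163))
theorem Q11926 : ∀ i, i < 11926 → P i := stepQ 11925 Q11925 (allL N11925 (tt N7705 F43164) (tt N14117 (iv F49339)) (tt N7915 (iv F43166)) (tt N7703 (iv D22157)) (tt N15933 (iv F54032)) (tt N7900 F43165) (tt N12170 (iv F43826)))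
theorem Q11927 : ∀ i, i < 11927 → P i := stepQ 11926 Q11926 (allL N11926 (tt N7704 (iv D22158)) (tt N14144 F49412) (tt N7708 F43168) (tt N16326 D26614) (tt N15639 (iv F53262)) (tt N11831 F43169) (tt N14145 (iv F49415)))
theorem Q11928 : ∀ i, i < 11928 → P i := stepQ 11927 Q11927 (allL N11927 (tt N16326 (iv F55074)) (tt N7705 F43170) (tt N12043 (iv F43431)) (tt N7704 (iv D22159)) (tt N16327 D26615) (tt N11876 (iv F43171)) (tt N12133 (iv F43731)))
theorem Q11929 : ∀ i, i < 11929 → P i := stepQ 11928 Q11928 (allL N11928 (tt N11831 F43172) (tt N11875 F43173) (tt N7710 F43174) (tt N11876 F43175) (tt N15641 (iv F53267)) (tt N7704 (iv D22160)) (tt N16328 D26616))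
theorem Q11930 : ∀ i, i < 11930 → P i := stepQ 11929 Q11929 (allL N11929 (tt N14145 F49416) (tt N16329 D26617) (tt N7711 F43176) (tt N12133 (iv F43730)) (tt N15642 (iv F53269)) (tt N12132 F43728) (tt N7704 (iv D22161)))
theorem Q11931 : ∀ i, i < 11931 → P i := stepQ 11930 Q11930 (allL N11930 (tt N15933 (iv F54030)) (tt N16327 (iv F55078)) (tt N11533 F43177) (tt N15644 (iv F53270)) (tt N7705 (iv D22162)) (tt N11282 F43178) (tt N11517 F43179))
theorem Q11932 : ∀ i, i < 11932 → P i := stepQ 11931 Q11931 (allL N11931 (tt N11931 F43180) (tt N7707 (iv D22163)) (tt N7743 F43181) (tt N12172 (iv F43833)) (tt N15647 (iv F53280)) (tt N7743 F43182) (tt N16329 (iv F55089)))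
theorem Q11933 : ∀ i, i < 11933 → P i := stepQ 11932 Q11932 (allL N11932 (tt N7709 F43187) (tt N11820 F43188) (tt N16330 D26618) (tt N7708 (iv D22164)) (tt N16331 D26619) (tt N11821 F43189) (tt N13322 F46994))
theorem Q11934 : ∀ i, i < 11934 → P i := stepQ 11933 Q11933 (allL N11933 (tt N7711 F43190) (tt N13312 (iv F46964)) (tt N14145 (iv F49413)) (tt N13322 (iv F46993)) (tt N15649 (iv F53286)) (tt N11938 (iv F43197)) (tt N7708 (iv D22165)))
theorem Q11935 : ∀ i, i < 11935 → P i := stepQ 11934 Q11934 (allL N11934 (tt N16330 (iv F55090)) (tt N13406 (iv F47228)) (tt N7709 (iv D22166)) (tt N13408 (iv F47234)) (tt N16332 D26620) (tt N12020 (iv F46884)) (tt N16333 D26621))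
theorem Q11936 : ∀ i, i < 11936 → P i := stepQ 11935 Q11935 (allL N11935 (tt N16331 (iv F55092)) (tt N7713 F43191) (tt N16332 (iv F55095)) (tt N15651 (iv F53288)) (tt N7709 (iv D22167)) (tt N16334 D26622) (tt N16335 D26623))
theorem Q11937 : ∀ i, i < 11937 → P i := stepQ 11936 Q11936 (allL N11936 (tt N11821 F43192) (tt N12023 (iv F46879)) (tt N12020 F46883) (tt N7710 F43193) (tt N16334 (iv F55099)) (tt N7709 (iv D22168)) (tt N16336 D26624))
theorem Q11938 : ∀ i, i < 11938 → P i := stepQ 11937 Q11937 (allL N11937 (tt N13322 (iv F46992)) (tt N7752 F43194) (tt N16333 (iv F55097)) (tt N7711 F43195) (tt N16335 (iv F55101)) (tt N16277 (iv F54897)) (tt N7709 (iv D22169)))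
theorem Q11939 : ∀ i, i < 11939 → P i := stepQ 11938 Q11938 (allL N11938 (tt N11832 F43196) (tt N14164 (iv F49468)) (tt N16328 (iv F55083)) (tt N16336 (iv F55106)) (tt N15654 (iv F53294)) (tt N11933 F43197) (tt N7710 (iv D22170)))
theorem Q11940 : ∀ i, i < 11940 → P i := stepQ 11939 Q11939 (allL N11939 (tt N7716 F43198) (tt N13407 (iv F47233)) (tt N7713 F43199) (tt N16337 D26625) (tt N7712 (iv D22171)) (tt N12019 (iv F43375)) (tt N7757 F43200))
theorem Q11941 : ∀ i, i < 11941 → P i := stepQ 11940 Q11940 (allL N11940 (tt N7714 (iv D22172)) (tt N13420 (iv F47262)) (tt N16324 (iv F55068)) (tt N12774 F45586) (tt N16338 D26626) (tt N13484 F47432) (tt N16339 D26627))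
theorem Q11942 : ∀ i, i < 11942 → P i := stepQ 11941 Q11941 (allL N11941 (tt N16338 (iv F55111)) (tt N7716 F43201) (tt N16325 (iv F55072)) (tt N16340 D26628) (tt N7714 (iv D22173)) (tt N16341 D26629) (tt N16342 D26630))
theorem Q11943 : ∀ i, i < 11943 → P i := stepQ 11942 Q11942 (allL N11942 (tt N13484 F47431) (tt N16343 D26631) (tt N7719 F43202) (tt N12776 (iv F45592)) (tt N16341 (iv F55118)) (tt N7714 (iv D22174)) (tt N12402 F44477))
theorem Q11944 : ∀ i, i < 11944 → P i := stepQ 11943 Q11943 (allL N11943 (tt N16339 (iv F55112)) (tt N7767 F43203) (tt N14157 (iv F49450)) (tt N12777 (iv F45596)) (tt N16342 (iv F55120)) (tt N16344 D26632) (tt N7714 (iv D22175)))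
theorem Q11945 : ∀ i, i < 11945 → P i := stepQ 11944 Q11944 (allL N11944 (tt N7925 F43204) (tt N12680 (iv F45332)) (tt N7916 F43205) (tt N16345 D26633) (tt N7715 (iv D22176)) (tt N12149 (iv F43760)) (tt N7768 F43206))
theorem Q11946 : ∀ i, i < 11946 → P i := stepQ 11945 Q11945 (allL N11945 (tt N16337 (iv F55108)) (tt N16340 (iv F55116)) (tt N16346 D26634) (tt N7716 (iv D22177)) (tt N16345 (iv F55129)) (tt N16347 D26635) (tt N7770 F43207))
theorem Q11947 : ∀ i, i < 11947 → P i := stepQ 11946 Q11946 (allL N11946 (tt N12019 (iv F43372)) (tt N16348 D26636) (tt N7718 F43208) (tt N16347 (iv F55132)) (tt N7717 F43209) (tt N7716 (iv D22178)) (tt N11997 (iv F43335)))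
theorem Q11948 : ∀ i, i < 11948 → P i := stepQ 11947 Q11947 (allL N11947 (tt N11947 F54892) (tt N7717 (iv D22179)) (tt N16343 (iv F55122)) (tt N12150 (iv F43761)) (tt N16348 (iv F55133)) (tt N16343 (iv F55123)) (tt N16349 D26637))
theorem Q11949 : ∀ i, i < 11949 → P i := stepQ 11948 Q11948 (allL N11948 (tt N16350 D26638) (tt N7718 (iv D22180)) (tt N16341 (iv F55117)) (tt N15666 (iv F53310)) (tt N7719 F43210) (tt N16325 (iv F55073)) (tt N16351 D26639))
theorem Q11950 : ∀ i, i < 11950 → P i := stepQ 11949 Q11949 (allL N11949 (tt N7719 (iv D22181)) (tt N13294 (iv F46913)) (tt N13484 (iv F47430)) (tt N7720 F43211) (tt N16350 (iv F55137)) (tt N16324 (iv F55070)) (tt N16352 D26640))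
theorem Q11951 : ∀ i, i < 11951 → P i := stepQ 11950 Q11950 (allL N11950 (tt N16352 (iv F55140)) (tt N8547 F43212) (tt N12402 (iv F44475)) (tt N7722 F43213) (tt N16351 (iv F55139)) (tt N16353 D26641) (tt N7719 (iv D22182)))
theorem Q11952 : ∀ i, i < 11952 → P i := stepQ 11951 Q11951 (allL N11951 (tt N13291 (iv F46904)) (tt N7720 (iv D22183)) (tt N9777 (iv F43215)) (tt N13294 (iv F46914)) (tt N15670 (iv F53314)) (tt N9776 F43214) (tt N13299 (iv F46921)))
theorem Q11953 : ∀ i, i < 11953 → P i := stepQ 11952 Q11952 (allL N11952 (tt N7721 F43216) (tt N12430 (iv F44566)) (tt N7720 (iv D22184)) (tt N10626 (iv F43224)) (tt N15671 (iv F53318)) (tt N13941 (iv F48852)) (tt N10625 F43225))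
theorem Q11954 : ∀ i, i < 11954 → P i := stepQ 11953 Q11953 (allL N11953 (tt N7722 F43217) (tt N12342 (iv F44260)) (tt N10625 (iv F43226)) (tt N16352 (iv F55142)) (tt N15672 (iv F53323)) (tt N11915 F43218) (tt N7720 (iv D22185)))
theorem Q11955 : ∀ i, i < 11955 → P i := stepQ 11954 Q11954 (allL N11954 (tt N10626 F43222) (tt N7724 F43219) (tt N10561 (iv F43220)) (tt N7721 (iv D22186)) (tt N10566 (iv F43221)) (tt N14883 (iv F51438)) (tt N10624 F43223))
theorem Q11956 : ∀ i, i < 11956 → P i := stepQ 11955 Q11955 (allL N11955 (tt N10625 F43227) (tt N10433 (iv F43230)) (tt N7722 F43228) (tt N10624 F43229) (tt N15674 (iv F53332)) (tt N16354 D26642) (tt N7721 (iv D22187)))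
theorem Q11957 : ∀ i, i < 11957 → P i := stepQ 11956 Q11956 (allL N11956 (tt N11915 F43231) (tt N10321 F43233) (tt N16354 (iv F55150)) (tt N16353 (iv F55147)) (tt N15675 (iv F53335)) (tt N7722 (iv D22188)) (tt N11913 F43232))
theorem Q11958 : ∀ i, i < 11958 → P i := stepQ 11957 Q11957 (allL N11957 (tt N7724 F43234) (tt N9689 F43235) (tt N10655 F43236) (tt N7723 (iv D22189)) (tt N10667 (iv F43239)) (tt N7726 F43237) (tt N10673 F43238))
theorem Q11959 : ∀ i, i < 11959 → P i := stepQ 11958 Q11958 (allL N11958 (tt N10430 (iv F43243)) (tt N7725 (iv D22190)) (tt N10429 F43240) (tt N10670 F43241) (tt N15678 (iv F53346)) (tt N14779 (iv F51063)) (tt N10433 F43242))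
theorem Q11960 : ∀ i, i < 11960 → P i := stepQ 11959 Q11959 (allL N11959 (tt N7729 F43244) (tt N10335 F43245) (tt N10664 F43246) (tt N15680 (iv F53360)) (tt N7726 (iv D22191)) (tt N10667 F43247) (tt N13596 (iv F47832)))
theorem Q11961 : ∀ i, i < 11961 → P i := stepQ 11960 Q11960 (allL N11960 (tt N11960 F43248) (tt N7727 (iv D22192)) (tt N10337 F43249) (tt N14920 (iv F51556)) (tt N15682 (iv F53367)) (tt N16355 D26643) (tt N10337 F43250))
theorem Q11962 : ∀ i, i < 11962 → P i := stepQ 11961 Q11961 (allL N11961 (tt N13596 (iv F47829)) (tt N10794 F43251) (tt N10665 F43252) (tt N15685 (iv F53373)) (tt N7730 F43253) (tt N13591 (iv F47811)) (tt N7729 (iv D22193)))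
theorem Q11963 : ∀ i, i < 11963 → P i := stepQ 11962 Q11962 (allL N11962 (tt N10644 (iv F43257)) (tt N7730 (iv D22194)) (tt N10643 (iv F43258)) (tt N7731 F43254) (tt N10794 F43255) (tt N14975 (iv F51751)) (tt N10782 F43256))
theorem Q11964 : ∀ i, i < 11964 → P i := stepQ 11963 Q11963 (allL N11963 (tt N13717 (iv F48249)) (tt N16356 D26644) (tt N9713 F43259) (tt N14975 (iv F51749)) (tt N15688 (iv F53383)) (tt N7731 (iv D22195)) (tt N14081 (iv F49219)))
theorem Q11965 : ∀ i, i < 11965 → P i := stepQ 11964 Q11964 (allL N11964 (tt N16357 D26645) (tt N7732 (iv D22196)) (tt N12167 (iv F43813)) (tt N14918 (iv F51548)) (tt N15689 (iv F53384)) (tt N16356 (iv F55158)) (tt N13958 (iv F48887)))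
theorem Q11966 : ∀ i, i < 11966 → P i := stepQ 11965 Q11965 (allL N11965 (tt N8012 F43260) (tt N13966 F48912) (tt N12072 (iv F43527)) (tt N11869 F43261) (tt N15692 (iv F53391)) (tt N11868 F43262) (tt N7733 (iv D22197)))
theorem Q11967 : ∀ i, i < 11967 → P i := stepQ 11966 Q11966 (allL N11966 (tt N9843 (iv F43266)) (tt N7734 (iv D22198)) (tt N9842 F43263) (tt N7903 F43264) (tt N15695 (iv F53402)) (tt N16266 (iv F54861)) (tt N10297 F43265))
theorem Q11968 : ∀ i, i < 11968 → P i := stepQ 11967 Q11967 (allL N11967 (tt N9479 (iv F43268)) (tt N7735 (iv D22199)) (tt N9478 F43267) (tt N12169 (iv F43819)) (tt N15696 (iv F53406)) (tt N16358 D26646) (tt N13966 (iv F48911)))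
theorem Q11969 : ∀ i, i < 11969 → P i := stepQ 11968 Q11968 (allL N11968 (tt N7739 F43269) (tt N9814 F43270) (tt N7748 F43271) (tt N9815 F43272) (tt N15698 (iv F53415)) (tt N11971 (iv F43283)) (tt N7736 (iv D22200)))
theorem Q11970 : ∀ i, i < 11970 → P i := stepQ 11969 Q11969 (allL N11969 (tt N11039 F43273) (tt N7740 F43274) (tt N9942 F43275) (tt N15699 (iv F53419)) (tt N7737 (iv D22201)) (tt N9943 F43276) (tt N11484 F43277))
theorem Q11971 : ∀ i, i < 11971 → P i := stepQ 11970 Q11970 (allL N11970 (tt N12041 (iv F43423)) (tt N7738 (iv D22202)) (tt N12039 (iv F43413)) (tt N10299 F43278) (tt N15702 (iv F53426)) (tt N7742 F43279) (tt N12038 F43411))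
theorem Q11972 : ∀ i, i < 11972 → P i := stepQ 11971 Q11971 (allL N11971 (tt N7869 F43280) (tt N14064 (iv F49174)) (tt N7754 F43281) (tt N7867 F43282) (tt N15703 (iv F53430)) (tt N11968 F43283) (tt N7738 (iv D22203)))
theorem Q11973 : ∀ i, i < 11973 → P i := stepQ 11972 Q11972 (allL N11972 (tt N11972 F43284) (tt N7739 (iv D22204)) (tt N16329 (iv F55087)) (tt N12136 (iv F43741)) (tt N15704 (iv F53433)) (tt N16329 (iv F55088)) (tt N7743 F43285))
theorem Q11974 : ∀ i, i < 11974 → P i := stepQ 11973 Q11973 (allL N11973 (tt N9790 (iv F43289)) (tt N7741 (iv D22205)) (tt N9789 F43286) (tt N7742 F43287) (tt N15925 (iv F53996)) (tt N10299 F43288) (tt N16359 D26647))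
theorem Q11975 : ∀ i, i < 11975 → P i := stepQ 11974 Q11974 (allL N11974 (tt N7742 (iv D22206)) (tt N14115 F49333) (tt N12042 (iv F43427)) (tt N9790 F43290) (tt N15708 (iv F53444)) (tt N12041 F43425) (tt N16360 D26648))
theorem Q11976 : ∀ i, i < 11976 → P i := stepQ 11975 Q11975 (allL N11975 (tt N12042 (iv F43426)) (tt N7744 F43291) (tt N7742 (iv D22207)) (tt N13448 (iv F47328)) (tt N15709 (iv F53446)) (tt N12039 (iv F43414)) (tt N7783 (iv F43292)))
theorem Q11977 : ∀ i, i < 11977 → P i := stepQ 11976 Q11976 (allL N11976 (tt N16360 (iv F55169)) (tt N7813 F43293) (tt N7783 F43294) (tt N16359 (iv F55167)) (tt N15710 (iv F53450)) (tt N7789 (iv F43295)) (tt N7742 (iv D22208)))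
theorem Q11978 : ∀ i, i < 11978 → P i := stepQ 11977 Q11977 (allL N11977 (tt N11985 (iv F43308)) (tt N13448 (iv F47327)) (tt N11981 (iv F43304)) (tt N7744 (iv D22209)) (tt N16361 D26649) (tt N7762 F43296) (tt N9136 F43297))
theorem Q11979 : ∀ i, i < 11979 → P i := stepQ 11978 Q11978 (allL N11978 (tt N7967 F43298) (tt N7746 F43299) (tt N13439 (iv F47298)) (tt N7745 (iv D22210)) (tt N15859 (iv F53799)) (tt N15849 (iv F53770)) (tt N16362 D26650))
theorem Q11980 : ∀ i, i < 11980 → P i := stepQ 11979 Q11979 (allL N11979 (tt N7969 F43300) (tt N14025 (iv F49060)) (tt N8027 F43301) (tt N16362 (iv F55179)) (tt N15713 (iv F53459)) (tt N12240 (iv F43999)) (tt N7745 (iv D22211)))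
theorem Q11981 : ∀ i, i < 11981 → P i := stepQ 11980 Q11980 (allL N11980 (tt N7750 F43302) (tt N15859 F53800) (tt N13163 F46576) (tt N15714 (iv F53461)) (tt N7746 (iv D22212)) (tt N16192 (iv F54619)) (tt N16363 D26651))
theorem Q11982 : ∀ i, i < 11982 → P i := stepQ 11981 Q11981 (allL N11981 (tt N7752 F43303) (tt N8919 F46810) (tt N11977 F43304) (tt N7748 F43305) (tt N16363 (iv F55182)) (tt N11988 (iv F43317)) (tt N7746 (iv D22213)))
theorem Q11983 : ∀ i, i < 11983 → P i := stepQ 11982 Q11982 (allL N11982 (tt N8918 F46811) (tt N7748 (iv D22214)) (tt N14783 (iv F51076)) (tt N8919 F46812) (tt N15717 (iv F53466)) (tt N14783 (iv F51078)) (tt N14025 (iv F49062)))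
theorem Q11984 : ∀ i, i < 11984 → P i := stepQ 11983 Q11983 (allL N11983 (tt N16364 D26652) (tt N7749 (iv D22215)) (tt N7756 F43306) (tt N12322 (iv F44189)) (tt N16365 D26653) (tt N16366 D26654) (tt N12317 (iv F44173)))
theorem Q11985 : ∀ i, i < 11985 → P i := stepQ 11984 Q11984 (allL N11984 (tt N13163 F46575) (tt N16365 (iv F55188)) (tt N7750 F43307) (tt N16367 D26655) (tt N7749 (iv D22216)) (tt N16191 (iv F54615)) (tt N16368 D26656))
theorem Q11986 : ∀ i, i < 11986 → P i := stepQ 11985 Q11985 (allL N11985 (tt N11977 F43308) (tt N8030 F43312) (tt N7752 F43309) (tt N8032 F43310) (tt N16368 (iv F55196)) (tt N11708 F43311) (tt N7749 (iv D22217)))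
theorem Q11987 : ∀ i, i < 11987 → P i := stepQ 11986 Q11986 (allL N11986 (tt N16192 (iv F54617)) (tt N12703 F45392) (tt N16191 (iv F54614)) (tt N15722 (iv F53472)) (tt N7751 F43313) (tt N7750 (iv D22218)) (tt N16369 D26657))
theorem Q11988 : ∀ i, i < 11988 → P i := stepQ 11987 Q11987 (allL N11987 (tt N16363 (iv F55180)) (tt N16335 (iv F55100)) (tt N16368 (iv F55195)) (tt N15723 (iv F53474)) (tt N7752 F43314) (tt N16370 D26658) (tt N7750 (iv D22219)))
theorem Q11989 : ∀ i, i < 11989 → P i := stepQ 11988 Q11988 (allL N11988 (tt N11989 (iv F43318)) (tt N9746 (iv F43339)) (tt N7762 F43315) (tt N7754 F43316) (tt N16369 (iv F55200)) (tt N11981 F43317) (tt N7751 (iv D22220)))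
theorem Q11990 : ∀ i, i < 11990 → P i := stepQ 11989 Q11989 (allL N11989 (tt N11988 F43318) (tt N14706 (iv F50801)) (tt N11708 F43319) (tt N7755 F43320) (tt N16370 (iv F55206)) (tt N7752 (iv D22221)) (tt N11706 F43321))
theorem Q11991 : ∀ i, i < 11991 → P i := stepQ 11990 Q11990 (allL N11990 (tt N7855 F43322) (tt N12039 F43415) (tt N7753 (iv D22222)) (tt N16371 D26659) (tt N14674 (iv F50710)) (tt N7760 F43323) (tt N16372 D26660))
theorem Q11992 : ∀ i, i < 11992 → P i := stepQ 11991 Q11991 (allL N11991 (tt N11999 (iv F43341)) (tt N14049 F49134) (tt N16372 (iv F55213)) (tt N8551 F43324) (tt N15727 (iv F53483)) (tt N8550 F43325) (tt N7753 (iv D22223)))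
theorem Q11993 : ∀ i, i < 11993 → P i := stepQ 11992 Q11992 (allL N11992 (tt N7756 (iv D22225)) (tt N16373 D26661) (tt N16364 (iv F55184)) (tt N7920 F43326) (tt N16374 D26662) (tt N16375 D26663) (tt N16376 D26664))
theorem Q11994 : ∀ i, i < 11994 → P i := stepQ 11993 Q11993 (allL N11993 (tt N16374 (iv F55219)) (tt N7757 F43327) (tt N16365 (iv F55189)) (tt N16377 D26665) (tt N7756 (iv D22226)) (tt N16378 D26666) (tt N16379 D26667))
theorem Q11995 : ∀ i, i < 11995 → P i := stepQ 11994 Q11994 (allL N11994 (tt N16375 (iv F55220)) (tt N12801 (iv F45675)) (tt N16366 (iv F55192)) (tt N7922 F43328) (tt N16378 (iv F55230)) (tt N7756 (iv D22227)) (tt N16380 D26668))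
theorem Q11996 : ∀ i, i < 11996 → P i := stepQ 11995 Q11995 (allL N11995 (tt N16376 (iv F55224)) (tt N13315 (iv F46977)) (tt N12317 F44174) (tt N7923 F43329) (tt N16379 (iv F55231)) (tt N16381 D26669) (tt N7756 (iv D22228)))
theorem Q11997 : ∀ i, i < 11997 → P i := stepQ 11996 Q11996 (allL N11996 (tt N7770 F43330) (tt N16377 (iv F55228)) (tt N16382 D26670) (tt N7757 (iv D22229)) (tt N7924 F43331) (tt N16383 D26671) (tt N16337 (iv F55110)))
theorem Q11998 : ∀ i, i < 11998 → P i := stepQ 11997 Q11997 (allL N11997 (tt N7771 F43332) (tt N12709 (iv F45402)) (tt N7759 F43333) (tt N16383 (iv F55243)) (tt N7758 F43334) (tt N7757 (iv D22230)) (tt N11946 F43335))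
theorem Q11999 : ∀ i, i < 11999 → P i := stepQ 11998 Q11998 (allL N11998 (tt N8535 F43336) (tt N7762 F43337) (tt N8492 F43338) (tt N7760 (iv D22231)) (tt N14332 (iv F49914)) (tt N16371 (iv F55210)) (tt N14772 (iv F51035)))
theorem Q12000 : ∀ i, i < 12000 → P i := stepQ 11999 Q11999 (allL N11999 (tt N11991 F43341) (tt N9674 F43342) (tt N12115 (iv F43667)) (tt N8538 F43343) (tt N15738 (iv F53506)) (tt N7761 (iv D22232)) (tt N8537 F43344))
theorem Q12001 : ∀ i, i < 12001 → P i := stepQ 12000 Q12000 (allL N12000 (tt N16193 (iv F54620)) (tt N14332 F49916) (tt N16369 (iv F55199)) (tt N15740 (iv F53509)) (tt N7762 (iv D22233)) (tt N16361 (iv F55174)) (tt N16191 (iv F54616)))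
theorem Q12002 : ∀ i, i < 12002 → P i := stepQ 12001 Q12001 (allL N12001 (tt N16384 D26672) (tt N7763 (iv D22234)) (tt N12614 (iv F45146)) (tt N16385 D26673) (tt N16386 D26674) (tt N16387 D26675) (tt N16388 D26676))
theorem Q12003 : ∀ i, i < 12003 → P i := stepQ 12002 Q12002 (allL N12002 (tt N7764 F43345) (tt N16385 (iv F55253)) (tt N16389 D26677) (tt N7763 (iv D22235)) (tt N16390 D26678) (tt N16391 D26679) (tt N16392 D26680))
theorem Q12004 : ∀ i, i < 12004 → P i := stepQ 12003 Q12003 (allL N12003 (tt N7765 F43346) (tt N16386 (iv F55257)) (tt N7985 F43347) (tt N16393 D26681) (tt N7763 (iv D22236)) (tt N16394 D26682) (tt N16395 D26683))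
theorem Q12005 : ∀ i, i < 12005 → P i := stepQ 12004 Q12004 (allL N12004 (tt N7766 F43348) (tt N16376 F55227) (tt N7986 F43349) (tt N16391 (iv F55275)) (tt N16394 (iv F55284)) (tt N7763 (iv D22237)) (tt N12014 (iv F43365)))
theorem Q12006 : ∀ i, i < 12006 → P i := stepQ 12005 Q12005 (allL N12005 (tt N7767 F43350) (tt N16246 (iv F54791)) (tt N7987 F43351) (tt N16392 (iv F55280)) (tt N16395 (iv F55287)) (tt N12013 (iv F43362)) (tt N7763 (iv D22238)))
theorem Q12007 : ∀ i, i < 12007 → P i := stepQ 12006 Q12006 (allL N12006 (tt N16389 (iv F55267)) (tt N7909 F43352) (tt N7764 (iv D22239)) (tt N12260 (iv F44042)) (tt N16396 D26684) (tt N12257 (iv F44032)) (tt N16397 D26685))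
theorem Q12008 : ∀ i, i < 12008 → P i := stepQ 12007 Q12007 (allL N12007 (tt N16390 (iv F55272)) (tt N7768 F43353) (tt N16396 (iv F55289)) (tt N16398 D26686) (tt N7764 (iv D22240)) (tt N16399 D26687) (tt N16400 D26688))
theorem Q12009 : ∀ i, i < 12009 → P i := stepQ 12008 Q12008 (allL N12008 (tt N16391 (iv F55273)) (tt N13332 F47018) (tt N12257 F44033) (tt N7766 F43354) (tt N16399 (iv F55296)) (tt N7764 (iv D22241)) (tt N16401 D26689))
theorem Q12010 : ∀ i, i < 12010 → P i := stepQ 12009 Q12009 (allL N12009 (tt N16392 (iv F55277)) (tt N12777 (iv F45594)) (tt N16397 (iv F55292)) (tt N7767 F43355) (tt N16400 (iv F55297)) (tt N16402 D26690) (tt N7764 (iv D22242)))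
theorem Q12011 : ∀ i, i < 12011 → P i := stepQ 12010 Q12010 (allL N12010 (tt N16393 (iv F55281)) (tt N7770 F43356) (tt N16074 (iv F55308)) (tt N7765 (iv D22243)) (tt N16398 (iv F55295)) (tt N16403 D26692) (tt N16404 D26693))
theorem Q12012 : ∀ i, i < 12012 → P i := stepQ 12011 Q12011 (allL N12011 (tt N16394 (iv F55282)) (tt N13068 (iv F46353)) (tt N7989 F43357) (tt N16403 (iv F55305)) (tt N7766 F43358) (tt N7765 (iv D22244)) (tt N16405 D26694))
theorem Q12013 : ∀ i, i < 12013 → P i := stepQ 12012 Q12012 (allL N12012 (tt N16395 (iv F55285)) (tt N16342 (iv F55119)) (tt N7990 F43359) (tt N16404 (iv F55306)) (tt N7767 F43360) (tt N16406 D26695) (tt N7765 (iv D22245)))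
theorem Q12014 : ∀ i, i < 12014 → P i := stepQ 12013 Q12013 (allL N12013 (tt N12014 (iv F43363)) (tt N14894 (iv F51466)) (tt N7991 F43361) (tt N16401 (iv F55300)) (tt N16405 (iv F55315)) (tt N12005 F43362) (tt N7766 (iv D22246)))
theorem Q12015 : ∀ i, i < 12015 → P i := stepQ 12014 Q12014 (allL N12014 (tt N12013 F43363) (tt N16407 D26696) (tt N7992 F43364) (tt N16402 (iv F55303)) (tt N16406 (iv F55319)) (tt N7767 (iv D22247)) (tt N12004 F43365))
theorem Q12016 : ∀ i, i < 12016 → P i := stepQ 12015 Q12015 (allL N12015 (tt N7924 F43366) (tt N16398 (iv F55294)) (tt N16408 D26697) (tt N7768 (iv D22248)) (tt N7770 F43367) (tt N16409 D26698) (tt N16345 (iv F55130)))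
theorem Q12017 : ∀ i, i < 12017 → P i := stepQ 12016 Q12016 (allL N12016 (tt N7878 F43368) (tt N13459 (iv F47370)) (tt N7876 F43369) (tt N16409 (iv F55327)) (tt N7769 F43370) (tt N7768 (iv D22249)) (tt N12202 (iv F43902)))
theorem Q12018 : ∀ i, i < 12018 → P i := stepQ 12017 Q12017 (allL N12017 (tt N16382 (iv F55239)) (tt N15754 F55309) (tt N7770 (iv D22250)) (tt N16410 D26699) (tt N16408 (iv F55324)) (tt N15966 F54102) (tt N16346 (iv F55131)))
theorem Q12019 : ∀ i, i < 12019 → P i := stepQ 12018 Q12018 (allL N12018 (tt N16383 (iv F55242)) (tt N13184 (iv F46621)) (tt N15966 (iv F54101)) (tt N7771 F43371) (tt N16409 (iv F55328)) (tt N7770 (iv D22251)) (tt N16411 D26700))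
theorem Q12020 : ∀ i, i < 12020 → P i := stepQ 12019 Q12019 (allL N12019 (tt N11946 F43372) (tt N16412 D26701) (tt N7773 F43373) (tt N16411 (iv F55332)) (tt N7772 F43374) (tt N11939 F43375) (tt N7771 (iv D22252)))
theorem Q12021 : ∀ i, i < 12021 → P i := stepQ 12020 Q12020 (allL N12020 (tt N16276 (iv F54890)) (tt N7772 (iv D22253)) (tt N11936 (iv F46883)) (tt N12203 (iv F43903)) (tt N16412 (iv F55334)) (tt N11934 F46884) (tt N13460 (iv F47372)))
theorem Q12022 : ∀ i, i < 12022 → P i := stepQ 12021 Q12021 (allL N12021 (tt N16413 D26702) (tt N7773 (iv D22254)) (tt N16414 D26703) (tt N15765 (iv F53546)) (tt N7774 F43376) (tt N16414 F55342) (tt N14809 (iv F51169)))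
theorem Q12023 : ∀ i, i < 12023 → P i := stepQ 12022 Q12022 (allL N12022 (tt N7774 (iv D22255)) (tt N8952 (iv F43379)) (tt N16415 D26704) (tt N7775 F43377) (tt N16413 (iv F55337)) (tt N16415 F55347) (tt N8956 F43378))
theorem Q12024 : ∀ i, i < 12024 → P i := stepQ 12023 Q12023 (allL N12023 (tt N16415 (iv F55343)) (tt N11936 F46879) (tt N7774 (iv D22256)) (tt N7777 F46880) (tt N16414 (iv F55341)) (tt N7774 F46881) (tt N13287 F46882))
theorem Q12025 : ∀ i, i < 12025 → P i := stepQ 12024 Q12024 (allL N12024 (tt N7776 F43382) (tt N9453 F43383) (tt N7775 (iv D22258)) (tt N16416 D26705) (tt N15769 (iv F53553)) (tt N16417 D26706) (tt N14812 (iv F51183)))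
theorem Q12026 : ∀ i, i < 12026 → P i := stepQ 12025 Q12025 (allL N12025 (tt N7777 F43384) (tt N14041 (iv F49112)) (tt N16417 (iv F55353)) (tt N16415 F55346) (tt N15770 (iv F53555)) (tt N7775 (iv D22259)) (tt N10490 F43385))
theorem Q12027 : ∀ i, i < 12027 → P i := stepQ 12026 Q12026 (allL N12026 (tt N16416 (iv F55348)) (tt N7779 F43386) (tt N16418 D26707) (tt N7776 (iv D22260)) (tt N10744 (iv F43387)) (tt N16419 D26708) (tt N14813 (iv F51185)))
theorem Q12028 : ∀ i, i < 12028 → P i := stepQ 12027 Q12027 (allL N12027 (tt N16417 (iv F55351)) (tt N14715 F50835) (tt N7777 F43388) (tt N16419 (iv F55362)) (tt N15771 (iv F53558)) (tt N7776 (iv D22261)) (tt N16420 D26709))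
theorem Q12029 : ∀ i, i < 12029 → P i := stepQ 12028 Q12028 (allL N12028 (tt N10490 F43389) (tt N14792 (iv F51110)) (tt N16420 (iv F55365)) (tt N13287 (iv F46877)) (tt N15772 (iv F53560)) (tt N10488 F43390) (tt N7777 (iv D22262)))
theorem Q12030 : ∀ i, i < 12030 → P i := stepQ 12029 Q12029 (allL N12029 (tt N16354 (iv F55149)) (tt N7778 (iv D22263)) (tt N11915 F43391) (tt N10612 F43392) (tt N15773 (iv F53564)) (tt N10625 F43393) (tt N11914 F43394))
theorem Q12031 : ∀ i, i < 12031 → P i := stepQ 12030 Q12030 (allL N12030 (tt N10295 F43395) (tt N10345 F43396) (tt N8910 F43397) (tt N7782 (iv D22264)) (tt N16421 D26710) (tt N11872 F43398) (tt N8908 F43399))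
theorem Q12032 : ∀ i, i < 12032 → P i := stepQ 12031 Q12031 (allL N12031 (tt N7783 (iv D22265)) (tt N9859 (iv F43401)) (tt N16360 (iv F55171)) (tt N13446 (iv F47321)) (tt N15778 (iv F53585)) (tt N7788 F43400) (tt N12042 (iv F43428)))
theorem Q12033 : ∀ i, i < 12033 → P i := stepQ 12032 Q12032 (allL N12032 (tt N16422 D26711) (tt N7785 (iv D22266)) (tt N16423 D26712) (tt N15779 (iv F53588)) (tt N7786 F43402) (tt N13169 (iv F46592)) (tt N16424 D26713))
theorem Q12034 : ∀ i, i < 12034 → P i := stepQ 12033 Q12033 (allL N12033 (tt N7786 (iv D22267)) (tt N16425 D26714) (tt N16426 D26715) (tt N7788 F43403) (tt N16422 (iv F55372)) (tt N13446 (iv F47322)) (tt N16427 D26716))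
theorem Q12035 : ∀ i, i < 12035 → P i := stepQ 12034 Q12034 (allL N12034 (tt N16426 (iv F55381)) (tt N12034 F43404) (tt N7786 (iv D22268)) (tt N16428 D26717) (tt N16423 (iv F55374)) (tt N13447 (iv F47325)) (tt N16429 D26718))
theorem Q12036 : ∀ i, i < 12036 → P i := stepQ 12035 Q12035 (allL N12035 (tt N16427 (iv F55384)) (tt N12137 (iv F43744)) (tt N16429 (iv F55394)) (tt N7790 F43405) (tt N16424 (iv F55377)) (tt N16430 D26719) (tt N7786 (iv D22269)))
theorem Q12037 : ∀ i, i < 12037 → P i := stepQ 12036 Q12036 (allL N12036 (tt N12142 (iv F43750)) (tt N7787 (iv D22270)) (tt N16431 D26720) (tt N7791 F43406) (tt N13238 (iv F46744)) (tt N16432 D26721) (tt N12137 (iv F43745)))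
theorem Q12038 : ∀ i, i < 12038 → P i := stepQ 12037 Q12037 (allL N12037 (tt N10515 (iv F43408)) (tt N7788 (iv D22271)) (tt N9863 (iv F43409)) (tt N16425 (iv F55379)) (tt N15785 (iv F53597)) (tt N9857 F43407) (tt N14829 (iv F51241)))
theorem Q12039 : ∀ i, i < 12039 → P i := stepQ 12038 Q12038 (allL N12038 (tt N7789 F43410) (tt N14101 (iv F49282)) (tt N7788 (iv D22272)) (tt N14700 (iv F50783)) (tt N15786 (iv F53602)) (tt N16360 (iv F55173)) (tt N11970 (iv F43411)))
theorem Q12040 : ∀ i, i < 12040 → P i := stepQ 12039 Q12039 (allL N12039 (tt N7790 F43412) (tt N11990 (iv F43415)) (tt N11970 F43413) (tt N16427 (iv F55385)) (tt N15787 (iv F53606)) (tt N11975 F43414) (tt N7788 (iv D22273)))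
theorem Q12041 : ∀ i, i < 12041 → P i := stepQ 12040 Q12040 (allL N12040 (tt N14700 (iv F50780)) (tt N7794 F43422) (tt N9699 F43450) (tt N7789 (iv D22274)) (tt N16433 D26722) (tt N16359 (iv F55168)) (tt N14043 F49119))
theorem Q12042 : ∀ i, i < 12042 → P i := stepQ 12041 Q12041 (allL N12041 (tt N11970 F43423) (tt N16434 D26723) (tt N7790 F43424) (tt N14043 (iv F49118)) (tt N15789 (iv F53612)) (tt N11974 (iv F43425)) (tt N7789 (iv D22275)))
theorem Q12043 : ∀ i, i < 12043 → P i := stepQ 12042 Q12042 (allL N12042 (tt N11975 F43426) (tt N9829 (iv F43429)) (tt N11974 F43427) (tt N16430 (iv F55398)) (tt N15790 (iv F53616)) (tt N7790 (iv D22276)) (tt N12031 F43428))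
theorem Q12044 : ∀ i, i < 12044 → P i := stepQ 12043 Q12043 (allL N12043 (tt N12143 (iv F43752)) (tt N10350 F43430) (tt N11927 F43431) (tt N16432 (iv F55404)) (tt N15791 (iv F53620)) (tt N7791 (iv D22277)) (tt N7874 F43432))
theorem Q12045 : ∀ i, i < 12045 → P i := stepQ 12044 Q12044 (allL N12044 (tt N7792 (iv D22278)) (tt N12320 (iv F44183)) (tt N8976 F43435) (tt N9164 F43433) (tt N15792 (iv F53622)) (tt N8033 F43434) (tt N13457 (iv F47363)))
theorem Q12046 : ∀ i, i < 12046 → P i := stepQ 12045 Q12045 (allL N12045 (tt N8976 F43436) (tt N7796 F43437) (tt N7792 (iv D22279)) (tt N8974 F43439) (tt N15793 (iv F53627)) (tt N9153 F43438) (tt N12761 (iv F45547)))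
theorem Q12047 : ∀ i, i < 12047 → P i := stepQ 12046 Q12046 (allL N12046 (tt N13457 (iv F47359)) (tt N10408 F43440) (tt N12761 (iv F45545)) (tt N9165 F43441) (tt N15794 (iv F53630)) (tt N12299 F44136) (tt N7792 (iv D22280)))
theorem Q12048 : ∀ i, i < 12048 → P i := stepQ 12047 Q12047 (allL N12047 (tt N7794 F43442) (tt N11882 F43443) (tt N10366 F43446) (tt N7793 (iv D22281)) (tt N16435 D26724) (tt N7827 F43444) (tt N10328 F43445))
theorem Q12049 : ∀ i, i < 12049 → P i := stepQ 12048 Q12048 (allL N12048 (tt N10366 F43447) (tt N9700 F43449) (tt N7794 (iv D22282)) (tt N13985 (iv F48968)) (tt N16436 D26725) (tt N7828 F43448) (tt N10364 F43451))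
theorem Q12050 : ∀ i, i < 12050 → P i := stepQ 12049 Q12049 (allL N12049 (tt N16435 (iv F55413)) (tt N16433 (iv F55407)) (tt N16436 (iv F55420)) (tt N15797 (iv F53635)) (tt N7794 (iv D22283)) (tt N7829 F43452) (tt N16437 D26726))
theorem Q12051 : ∀ i, i < 12051 → P i := stepQ 12050 Q12050 (allL N12050 (tt N10328 F43453) (tt N16438 D26727) (tt N10364 F43454) (tt N7795 F43455) (tt N16437 (iv F55425)) (tt N11838 F43456) (tt N7794 (iv D22284)))
theorem Q12052 : ∀ i, i < 12052 → P i := stepQ 12051 Q12051 (allL N12051 (tt N16439 D26728) (tt N7795 (iv D22285)) (tt N11837 F43457) (tt N16438 (iv F55428)) (tt N15799 (iv F53641)) (tt N14144 (iv F49411)) (tt N16434 (iv F55412)))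
theorem Q12053 : ∀ i, i < 12053 → P i := stepQ 12052 Q12052 (allL N12052 (tt N7805 F43458) (tt N13604 (iv F47859)) (tt N7799 F43459) (tt N10832 F43460) (tt N10827 F43461) (tt N7797 (iv D22286)) (tt N12064 (iv F43502)))
theorem Q12054 : ∀ i, i < 12054 → P i := stepQ 12053 Q12053 (allL N12053 (tt N7806 F43462) (tt N12053 F43463) (tt N7800 F43464) (tt N9130 F43465) (tt N10724 F43466) (tt N12063 (iv F43498)) (tt N7797 (iv D22287)))
theorem Q12055 : ∀ i, i < 12055 → P i := stepQ 12054 Q12054 (allL N12054 (tt N7807 F43467) (tt N16228 (iv F54731)) (tt N10827 F43468) (tt N12602 (iv F45105)) (tt N7799 F43469) (tt N7798 (iv D22288)) (tt N12067 (iv F43512)))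
theorem Q12056 : ∀ i, i < 12056 → P i := stepQ 12055 Q12055 (allL N12055 (tt N7808 F43470) (tt N16187 (iv F54597)) (tt N10724 F43471) (tt N10518 F43472) (tt N7800 F43473) (tt N12066 (iv F43508)) (tt N7798 (iv D22289)))
theorem Q12057 : ∀ i, i < 12057 → P i := stepQ 12056 Q12056 (allL N12056 (tt N16440 D26729) (tt N7799 (iv D22290)) (tt N13665 (iv F48048)) (tt N7801 F43474) (tt N16228 (iv F54732)) (tt N12056 F43475) (tt N16441 D26730))
theorem Q12058 : ∀ i, i < 12058 → P i := stepQ 12057 Q12057 (allL N12057 (tt N7801 (iv D22291)) (tt N7997 (iv F43484)) (tt N16442 D26731) (tt N16440 (iv F55437)) (tt N15801 (iv F53644)) (tt N12057 F43476) (tt N7819 F43483))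
theorem Q12059 : ∀ i, i < 12059 → P i := stepQ 12058 Q12058 (allL N12058 (tt N16442 (iv F55446)) (tt N9873 F43477) (tt N7801 (iv D22292)) (tt N9874 (iv F43479)) (tt N15802 (iv F53649)) (tt N12058 F43478) (tt N16443 D26732))
theorem Q12060 : ∀ i, i < 12060 → P i := stepQ 12059 Q12059 (allL N12059 (tt N7819 F43482) (tt N7851 F43480) (tt N16443 (iv F55453)) (tt N16441 (iv F55444)) (tt N15803 (iv F53653)) (tt N7819 F43481) (tt N7801 (iv D22293)))
theorem Q12061 : ∀ i, i < 12061 → P i := stepQ 12060 Q12060 (allL N12060 (tt N10832 F43485) (tt N16206 (iv F54664)) (tt N13441 (iv F47307)) (tt N7805 F43486) (tt N10829 F43487) (tt N7803 (iv D22294)) (tt N13440 (iv F47306)))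
theorem Q12062 : ∀ i, i < 12062 → P i := stepQ 12061 Q12061 (allL N12061 (tt N10827 F43488) (tt N16183 (iv F54577)) (tt N7807 F43489) (tt N10826 F43490) (tt N7805 F43491) (tt N7804 (iv D22295)) (tt N14949 (iv F51647)))
theorem Q12063 : ∀ i, i < 12063 → P i := stepQ 12062 Q12062 (allL N12062 (tt N10724 F43492) (tt N8440 F43493) (tt N7808 F43494) (tt N8442 F43495) (tt N7806 F43496) (tt N15012 (iv F51862)) (tt N7804 (iv D22296)))
theorem Q12064 : ∀ i, i < 12064 → P i := stepQ 12063 Q12063 (allL N12063 (tt N12064 (iv F43500)) (tt N11724 (iv F43499)) (tt N7810 F43497) (tt N13440 (iv F47304)) (tt N14949 (iv F51646)) (tt N12053 F43498) (tt N7805 (iv D22297)))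
theorem Q12065 : ∀ i, i < 12065 → P i := stepQ 12064 Q12064 (allL N12064 (tt N12063 F43500) (tt N11850 F43503) (tt N7811 F43501) (tt N15015 (iv F51870)) (tt N15012 (iv F51861)) (tt N7806 (iv D22298)) (tt N12052 F43502))
theorem Q12066 : ∀ i, i < 12066 → P i := stepQ 12065 Q12065 (allL N12065 (tt N16444 D26733) (tt N7807 (iv D22299)) (tt N11862 (iv F43506)) (tt N15804 (iv F53655)) (tt N7809 F43504) (tt N7816 F43505) (tt N16199 (iv F54639)))
theorem Q12067 : ∀ i, i < 12067 → P i := stepQ 12066 Q12066 (allL N12066 (tt N12067 (iv F43510)) (tt N11704 (iv F43509)) (tt N14949 (iv F51644)) (tt N14832 (iv F51253)) (tt N7810 F43507) (tt N12055 F43508) (tt N7807 (iv D22300)))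
theorem Q12068 : ∀ i, i < 12068 → P i := stepQ 12067 Q12067 (allL N12067 (tt N12066 F43510) (tt N16445 D26734) (tt N15012 (iv F51859)) (tt N14953 (iv F51660)) (tt N7811 F43511) (tt N7808 (iv D22301)) (tt N12054 F43512))
theorem Q12069 : ∀ i, i < 12069 → P i := stepQ 12068 Q12068 (allL N12068 (tt N7809 (iv D22302)) (tt N16320 (iv F55053)) (tt N11864 F43513) (tt N7812 F43514) (tt N16444 (iv F55457)) (tt N7817 F43515) (tt N12078 (iv F43547)))
theorem Q12070 : ∀ i, i < 12070 → P i := stepQ 12069 Q12069 (allL N12069 (tt N12110 (iv F43646)) (tt N7811 (iv D22303)) (tt N11855 F43516) (tt N7814 F43517) (tt N16445 (iv F55460)) (tt N16235 (iv F54750)) (tt N12107 F43640))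
theorem Q12071 : ∀ i, i < 12071 → P i := stepQ 12070 Q12070 (allL N12070 (tt N7853 F43518) (tt N7812 (iv D22304)) (tt N8558 F43520) (tt N16320 (iv F55055)) (tt N15808 (iv F53663)) (tt N7851 F43519) (tt N12113 (iv F43663)))
theorem Q12072 : ∀ i, i < 12072 → P i := stepQ 12071 Q12071 (allL N12071 (tt N7813 F43521) (tt N9883 F43522) (tt N7812 (iv D22305)) (tt N7954 F43525) (tt N15809 (iv F53668)) (tt N7820 F43523) (tt N7952 F43524))
theorem Q12073 : ∀ i, i < 12073 → P i := stepQ 12072 Q12072 (allL N12072 (tt N7954 F43526) (tt N16359 (iv F55165)) (tt N11965 F43527) (tt N7813 (iv D22306)) (tt N15922 (iv F53985)) (tt N7822 F43528) (tt N7895 F43529))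
theorem Q12074 : ∀ i, i < 12074 → P i := stepQ 12073 Q12073 (allL N12073 (tt N10317 F43530) (tt N12779 (iv F45602)) (tt N7814 (iv D22307)) (tt N8505 F43532) (tt N15811 (iv F53673)) (tt N8503 F43531) (tt N12112 (iv F43658)))
theorem Q12075 : ∀ i, i < 12075 → P i := stepQ 12074 Q12074 (allL N12074 (tt N7816 (iv D22308)) (tt N16446 D26735) (tt N11861 F43533) (tt N15812 (iv F53675)) (tt N7817 F43534) (tt N16444 (iv F55458)) (tt N16447 D26736))
theorem Q12076 : ∀ i, i < 12076 → P i := stepQ 12075 Q12075 (allL N12075 (tt N16447 (iv F55464)) (tt N11777 F43535) (tt N11853 F43536) (tt N15813 (iv F53678)) (tt N7818 F43537) (tt N16448 D26737) (tt N7816 (iv D22309)))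
theorem Q12077 : ∀ i, i < 12077 → P i := stepQ 12076 Q12076 (allL N12076 (tt N16441 (iv F55441)) (tt N7817 (iv D22310)) (tt N16449 D26738) (tt N7819 F43538) (tt N16446 (iv F55462)) (tt N16441 (iv F55445)) (tt N16440 F55440))
theorem Q12078 : ∀ i, i < 12078 → P i := stepQ 12077 Q12077 (allL N12077 (tt N7818 F43539) (tt N11718 (iv F43543)) (tt N11856 F43540) (tt N7821 F43541) (tt N16447 (iv F55468)) (tt N11720 F43542) (tt N7817 (iv D22311)))
theorem Q12079 : ∀ i, i < 12079 → P i := stepQ 12078 Q12078 (allL N12078 (tt N11720 F43544) (tt N7848 (iv F43548)) (tt N11711 F43545) (tt N7824 F43546) (tt N16448 (iv F55472)) (tt N7818 (iv D22312)) (tt N12068 F43547))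
theorem Q12080 : ∀ i, i < 12080 → P i := stepQ 12079 Q12079 (allL N12079 (tt N16443 (iv F55451)) (tt N16450 D26739) (tt N7819 (iv D22313)) (tt N16451 D26740) (tt N15820 (iv F53694)) (tt N16443 (iv F55455)) (tt N16442 (iv F55449)))
theorem Q12081 : ∀ i, i < 12081 → P i := stepQ 12080 Q12080 (allL N12080 (tt N16434 (iv F55409)) (tt N7820 (iv D22314)) (tt N16450 (iv F55481)) (tt N16301 (iv F54989)) (tt N15821 (iv F53695)) (tt N9889 F43549) (tt N16439 (iv F55434)))
theorem Q12082 : ∀ i, i < 12082 → P i := stepQ 12081 Q12081 (allL N12081 (tt N7823 F43550) (tt N16358 (iv F55160)) (tt N7821 F43551) (tt N12168 (iv F43816)) (tt N15823 (iv F53700)) (tt N11721 F43552) (tt N7820 (iv D22315)))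
theorem Q12083 : ∀ i, i < 12083 → P i := stepQ 12082 Q12082 (allL N12082 (tt N16010 (iv F54192)) (tt N7829 F43553) (tt N16086 (iv F54369)) (tt N15825 (iv F53703)) (tt N7822 (iv D22316)) (tt N15922 (iv F53986)) (tt N11573 F43554))
theorem Q12084 : ∀ i, i < 12084 → P i := stepQ 12083 Q12083 (allL N12083 (tt N14696 (iv F50764)) (tt N11706 F43555) (tt N9016 (iv F43558)) (tt N7825 (iv D22317)) (tt N16452 D26741) (tt N11683 F43556) (tt N11813 F43557))
theorem Q12085 : ∀ i, i < 12085 → P i := stepQ 12084 Q12084 (allL N12084 (tt N7828 F43559) (tt N7934 F43560) (tt N7827 (iv D22318)) (tt N10417 F43562) (tt N15999 (iv F54160)) (tt N10366 F43561) (tt N14734 (iv F50899)))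
theorem Q12086 : ∀ i, i < 12086 → P i := stepQ 12085 Q12085 (allL N12085 (tt N7829 F43563) (tt N11485 F43564) (tt N15999 (iv F54158)) (tt N15830 (iv F53714)) (tt N7827 (iv D22319)) (tt N16435 (iv F55416)) (tt N16285 (iv F54925)))
theorem Q12087 : ∀ i, i < 12087 → P i := stepQ 12086 Q12086 (allL N12086 (tt N16453 D26742) (tt N7828 (iv D22320)) (tt N16299 F54982) (tt N14181 F49523) (tt N16454 D26743) (tt N9706 F43565) (tt N16455 D26744))
theorem Q12088 : ∀ i, i < 12088 → P i := stepQ 12087 Q12087 (allL N12087 (tt N10417 F43566) (tt N14181 (iv F49521)) (tt N9725 F43567) (tt N7828 (iv D22321)) (tt N9759 (iv F43569)) (tt N13985 (iv F48970)) (tt N9724 F43568))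
theorem Q12089 : ∀ i, i < 12089 → P i := stepQ 12088 Q12088 (allL N12088 (tt N15999 F54161) (tt N16454 (iv F55494)) (tt N7829 F43570) (tt N16456 D26745) (tt N7828 (iv D22322)) (tt N16436 (iv F55421)) (tt N14385 F50046))
theorem Q12090 : ∀ i, i < 12090 → P i := stepQ 12089 Q12089 (allL N12089 (tt N16285 (iv F54923)) (tt N11583 F43571) (tt N14385 (iv F50043)) (tt N15835 (iv F53719)) (tt N7830 F43572) (tt N14382 (iv F50039)) (tt N7829 (iv D22323)))
theorem Q12091 : ∀ i, i < 12091 → P i := stepQ 12090 Q12090 (allL N12090 (tt N7831 (iv D22324)) (tt N8021 F43573) (tt N11792 F43574) (tt N7964 F43575) (tt N15837 (iv F53723)) (tt N7962 F43577) (tt N9851 F43576))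
theorem Q12092 : ∀ i, i < 12092 → P i := stepQ 12091 Q12091 (allL N12091 (tt N7962 F43578) (tt N11833 F43579) (tt N11786 F43580) (tt N7958 F43581) (tt N15838 (iv F53729)) (tt N7831 (iv D22325)) (tt N7956 F43582))
theorem Q12093 : ∀ i, i < 12093 → P i := stepQ 12092 Q12092 (allL N12092 (tt N10420 F43583) (tt N13600 (iv F47843)) (tt N14599 (iv F50534)) (tt N7833 F43584) (tt N7835 F43585) (tt N7832 (iv D22326)) (tt N10865 F43586))
theorem Q12094 : ∀ i, i < 12094 → P i := stepQ 12093 Q12093 (allL N12093 (tt N8204 F43587) (tt N7833 (iv D22327)) (tt N16457 D26746) (tt N13600 (iv F47844)) (tt N7834 F43588) (tt N12093 F43589) (tt N16458 D26747))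
theorem Q12095 : ∀ i, i < 12095 → P i := stepQ 12094 Q12094 (allL N12094 (tt N8209 F43590) (tt N10411 F43591) (tt N7834 (iv D22328)) (tt N8202 (iv F43593)) (tt N16457 (iv F55506)) (tt N12094 F43592) (tt N8201 (iv F43594)))
theorem Q12096 : ∀ i, i < 12096 → P i := stepQ 12095 Q12095 (allL N12095 (tt N8210 F43595) (tt N11886 F43596) (tt N8201 F43597) (tt N7840 F43598) (tt N16458 (iv F55513)) (tt N8210 F43599) (tt N7834 (iv D22329)))
theorem Q12097 : ∀ i, i < 12097 → P i := stepQ 12096 Q12096 (allL N12096 (tt N13606 (iv F47869)) (tt N7843 F43600) (tt N7836 (iv D22330)) (tt N16076 (iv F54340)) (tt N7839 F43601) (tt N12096 F43602) (tt N16459 D26748))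
theorem Q12098 : ∀ i, i < 12098 → P i := stepQ 12097 Q12097 (allL N12097 (tt N11889 F43603) (tt N11888 (iv F43606)) (tt N16459 (iv F55516)) (tt N13612 (iv F47887)) (tt N7840 F43604) (tt N11889 F43605) (tt N7836 (iv D22331)))
theorem Q12099 : ∀ i, i < 12099 → P i := stepQ 12098 Q12098 (allL N12098 (tt N11888 F43607) (tt N7837 (iv D22332)) (tt N16460 D26749) (tt N9364 F43608) (tt N7841 F43609) (tt N9360 F43610) (tt N11888 F43611))
theorem Q12100 : ∀ i, i < 12100 → P i := stepQ 12099 Q12099 (allL N12099 (tt N7839 F43612) (tt N10831 F43613) (tt N7838 (iv D22333)) (tt N8007 (iv F43618)) (tt N13606 (iv F47871)) (tt N12099 F43614) (tt N11892 F43615))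
theorem Q12101 : ∀ i, i < 12101 → P i := stepQ 12100 Q12100 (allL N12100 (tt N11892 F43620) (tt N12110 (iv F43647)) (tt N7840 F43621) (tt N8009 F43622) (tt N16459 (iv F55517)) (tt N11892 F43623) (tt N7839 (iv D22334)))
theorem Q12102 : ∀ i, i < 12102 → P i := stepQ 12101 Q12101 (allL N12101 (tt N11891 F43624) (tt N7849 F43625) (tt N7841 (iv D22335)) (tt N11924 (iv F43628)) (tt N16460 (iv F55521)) (tt N11890 F43626) (tt N11891 F43627))
theorem Q12103 : ∀ i, i < 12103 → P i := stepQ 12102 Q12102 (allL N12102 (tt N16461 D26750) (tt N7842 (iv D22336)) (tt N16462 D26751) (tt N15846 (iv F53756)) (tt N7846 F43629) (tt N16463 D26752) (tt N16464 D26753))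
theorem Q12104 : ∀ i, i < 12104 → P i := stepQ 12103 Q12103 (allL N12103 (tt N16317 (iv F55040)) (tt N7844 (iv D22337)) (tt N16316 (iv F55039)) (tt N15847 (iv F53760)) (tt N7847 F43630) (tt N16201 (iv F54644)) (tt N7845 F43631))
theorem Q12105 : ∀ i, i < 12105 → P i := stepQ 12104 Q12104 (allL N12104 (tt N7845 (iv D22338)) (tt N16448 (iv F55474)) (tt N16196 F54630) (tt N15848 (iv F53763)) (tt N7848 F43632) (tt N16465 D26754) (tt N16317 (iv F55044)))
theorem Q12106 : ∀ i, i < 12106 → P i := stepQ 12105 Q12105 (allL N12105 (tt N16196 (iv F54629)) (tt N16460 (iv F55520)) (tt N7845 (iv D22339)) (tt N16466 D26755) (tt N7849 F43633) (tt N11897 (iv F43634)) (tt N16316 (iv F55038)))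
theorem Q12107 : ∀ i, i < 12107 → P i := stepQ 12106 Q12106 (allL N12106 (tt N16465 (iv F55537)) (tt N11772 F43635) (tt N11897 F43636) (tt N13439 (iv F47299)) (tt N7850 F43637) (tt N7845 (iv D22340)) (tt N11896 (iv F43638)))
theorem Q12108 : ∀ i, i < 12108 → P i := stepQ 12107 Q12107 (allL N12107 (tt N7846 (iv D22341)) (tt N16441 (iv F55442)) (tt N16204 F54659) (tt N7851 F43639) (tt N16461 (iv F55524)) (tt N16320 (iv F55056)) (tt N12069 (iv F43640)))
theorem Q12109 : ∀ i, i < 12109 → P i := stepQ 12108 Q12108 (allL N12108 (tt N16204 (iv F54655)) (tt N11902 F43641) (tt N7846 (iv D22342)) (tt N11906 F43642) (tt N16462 (iv F55527)) (tt N16292 (iv F54954)) (tt N11900 (iv F43643)))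
theorem Q12110 : ∀ i, i < 12110 → P i := stepQ 12109 Q12109 (allL N12109 (tt N16320 (iv F55052)) (tt N7996 F43644) (tt N16292 (iv F54952)) (tt N7853 F43645) (tt N16463 (iv F55531)) (tt N7846 (iv D22343)) (tt N16235 (iv F54751)))
theorem Q12111 : ∀ i, i < 12111 → P i := stepQ 12110 Q12110 (allL N12110 (tt N12069 F43646) (tt N12100 F43647) (tt N11900 F43648) (tt N7854 F43649) (tt N16464 (iv F55535)) (tt N11899 (iv F43650)) (tt N7846 (iv D22344)))
theorem Q12112 : ∀ i, i < 12112 → P i := stepQ 12111 Q12111 (allL N12111 (tt N7850 F43651) (tt N11725 F43652) (tt N11904 F43653) (tt N7863 F43654) (tt N16465 (iv F55541)) (tt N7848 (iv D22345)) (tt N11726 F43655))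
theorem Q12113 : ∀ i, i < 12113 → P i := stepQ 12112 Q12112 (allL N12112 (tt N7852 F43656) (tt N10465 (iv F43660)) (tt N7851 (iv D22346)) (tt N8560 (iv F43659)) (tt N15861 (iv F53805)) (tt N8558 F43657) (tt N12073 F43658))
theorem Q12114 : ∀ i, i < 12114 → P i := stepQ 12113 Q12113 (allL N12113 (tt N11775 F43661) (tt N7860 F43664) (tt N12764 (iv F45556)) (tt N11899 F43662) (tt N15863 (iv F53812)) (tt N7854 (iv D22347)) (tt N12070 F43663))
theorem Q12115 : ∀ i, i < 12115 → P i := stepQ 12114 Q12114 (allL N12114 (tt N16371 (iv F55208)) (tt N7856 F43665) (tt N14337 (iv F49931)) (tt N7855 (iv D22348)) (tt N14336 (iv F49929)) (tt N8535 F43666) (tt N16467 D26756))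
theorem Q12116 : ∀ i, i < 12116 → P i := stepQ 12115 Q12115 (allL N12115 (tt N16372 (iv F55211)) (tt N12280 (iv F44093)) (tt N11999 F43667) (tt N16467 (iv F55545)) (tt N14675 (iv F50712)) (tt N10432 F43668) (tt N7855 (iv D22349)))
theorem Q12117 : ∀ i, i < 12117 → P i := stepQ 12116 Q12116 (allL N12116 (tt N7858 F43669) (tt N14336 (iv F49927)) (tt N12276 (iv F44085)) (tt N14671 (iv F50702)) (tt N7856 (iv D22350)) (tt N8002 F43670) (tt N12276 (iv F44087)))
theorem Q12118 : ∀ i, i < 12118 → P i := stepQ 12117 Q12117 (allL N12117 (tt N16468 D26757) (tt N7857 (iv D22351)) (tt N7877 F43671) (tt N7859 F43672) (tt N16469 D26758) (tt N14178 (iv F49515)) (tt N7881 F43673))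
theorem Q12119 : ∀ i, i < 12119 → P i := stepQ 12118 Q12118 (allL N12118 (tt N12276 (iv F44084)) (tt N16469 (iv F55551)) (tt N7858 F43674) (tt N14686 (iv F50738)) (tt N7857 (iv D22352)) (tt N8003 F43675) (tt N7858 F43676))
theorem Q12120 : ∀ i, i < 12120 → P i := stepQ 12119 Q12119 (allL N12119 (tt N7859 (iv D22353)) (tt N9833 F43784) (tt N13964 (iv F48904)) (tt N16468 (iv F55549)) (tt N14690 (iv F50749)) (tt N12159 (iv F43782)) (tt N7882 F43677))
theorem Q12121 : ∀ i, i < 12121 → P i := stepQ 12120 Q12120 (allL N12120 (tt N13964 (iv F48907)) (tt N7861 F43678) (tt N7859 (iv D22354)) (tt N14851 (iv F51325)) (tt N14691 (iv F50753)) (tt N12212 (iv F43921)) (tt N7883 F43679))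
theorem Q12122 : ∀ i, i < 12122 → P i := stepQ 12121 Q12121 (allL N12121 (tt N12159 (iv F43781)) (tt N10343 F43680) (tt N12212 (iv F43919)) (tt N14178 (iv F49514)) (tt N14692 (iv F50756)) (tt N7859 (iv D22355)) (tt N12156 (iv F43768)))
theorem Q12123 : ∀ i, i < 12123 → P i := stepQ 12122 Q12122 (allL N12122 (tt N7861 F43681) (tt N9911 (iv F43684)) (tt N7860 (iv D22356)) (tt N8056 F43683) (tt N15864 (iv F53816)) (tt N12129 (iv F43718)) (tt N7862 F43682))
theorem Q12124 : ∀ i, i < 12124 → P i := stepQ 12123 Q12123 (allL N12123 (tt N8056 F43685) (tt N14851 (iv F51323)) (tt N11917 F43686) (tt N7861 (iv D22357)) (tt N14857 (iv F51340)) (tt N11919 F43687) (tt N7864 F43688))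
theorem Q12125 : ∀ i, i < 12125 → P i := stepQ 12124 Q12124 (allL N12124 (tt N7865 F43689) (tt N12233 (iv F43984)) (tt N7863 F43690) (tt N8055 F43691) (tt N15866 (iv F53824)) (tt N7862 (iv D22358)) (tt N10404 F43692))
theorem Q12126 : ∀ i, i < 12126 → P i := stepQ 12125 Q12125 (allL N12125 (tt N8052 F43693) (tt N10439 F43694) (tt N7864 (iv D22359)) (tt N10438 F43695) (tt N10634 (iv F43698)) (tt N8100 (iv F43697)) (tt N11917 F43696))
theorem Q12127 : ∀ i, i < 12127 → P i := stepQ 12126 Q12126 (allL N12126 (tt N8054 F43699) (tt N7891 F43700) (tt N10634 F43701) (tt N13424 (iv F47268)) (tt N7864 (iv D22360)) (tt N10588 F43702) (tt N14857 (iv F51342)))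
theorem Q12128 : ∀ i, i < 12128 → P i := stepQ 12127 Q12127 (allL N12127 (tt N8055 F43703) (tt N10699 (iv F43708)) (tt N8100 F43704) (tt N7865 F43705) (tt N10588 F43706) (tt N7864 (iv D22361)) (tt N8096 F43707))
theorem Q12129 : ∀ i, i < 12129 → P i := stepQ 12128 Q12128 (allL N12128 (tt N9876 (iv F43712)) (tt N7865 (iv D22362)) (tt N9875 F43709) (tt N10699 F43710) (tt N15869 (iv F53834)) (tt N7893 F43711) (tt N10697 (iv F43713)))
theorem Q12130 : ∀ i, i < 12130 → P i := stepQ 12129 Q12129 (allL N12129 (tt N10404 F43714) (tt N8097 F43715) (tt N7866 F43716) (tt N8096 F43717) (tt N15870 (iv F53842)) (tt N12122 F43718) (tt N7865 (iv D22363)))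
theorem Q12131 : ∀ i, i < 12131 → P i := stepQ 12130 Q12130 (allL N12130 (tt N8009 F43719) (tt N7866 (iv D22364)) (tt N12383 (iv F44403)) (tt N11892 F43720) (tt N15871 (iv F53845)) (tt N8009 F43721) (tt N8007 F43722))
theorem Q12132 : ∀ i, i < 12132 → P i := stepQ 12131 Q12131 (allL N12131 (tt N7868 (iv D22365)) (tt N14134 (iv F49383)) (tt N7872 F43723) (tt N16328 (iv F55084)) (tt N15873 (iv F53851)) (tt N14135 (iv F49386)) (tt N11876 (iv F43724)))
theorem Q12133 : ∀ i, i < 12133 → P i := stepQ 12132 Q12132 (allL N12132 (tt N16328 (iv F55082)) (tt N7869 F43725) (tt N11832 (iv F43726)) (tt N7868 (iv D22366)) (tt N16470 D26759) (tt N11929 (iv F43728)) (tt N11831 (iv F43727)))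
theorem Q12134 : ∀ i, i < 12134 → P i := stepQ 12133 Q12133 (allL N12133 (tt N14135 (iv F49387)) (tt N16471 D26760) (tt N7874 F43729) (tt N11929 F43730) (tt N15875 (iv F53855)) (tt N7868 (iv D22367)) (tt N11927 F43731))
theorem Q12135 : ∀ i, i < 12135 → P i := stepQ 12134 Q12134 (allL N12134 (tt N11876 F43732) (tt N11838 F43733) (tt N7875 F43734) (tt N11831 F43735) (tt N15876 (iv F53858)) (tt N16326 (iv F55075)) (tt N7868 (iv D22368)))
theorem Q12136 : ∀ i, i < 12136 → P i := stepQ 12135 Q12135 (allL N12135 (tt N15703 (iv F53428)) (tt N16470 (iv F55554)) (tt N11376 F43736) (tt N15878 (iv F53859)) (tt N7869 (iv D22369)) (tt N11359 F43737) (tt N11442 F43738))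
theorem Q12137 : ∀ i, i < 12137 → P i := stepQ 12136 Q12136 (allL N12136 (tt N12136 F43739) (tt N7870 (iv D22370)) (tt N7902 F43740) (tt N11972 F43741) (tt N15881 (iv F53872)) (tt N16471 (iv F55561)) (tt N7902 F43742))
theorem Q12138 : ∀ i, i < 12138 → P i := stepQ 12137 Q12137 (allL N12137 (tt N7873 F43743) (tt N12035 F43744) (tt N16472 D26761) (tt N7872 (iv D22371)) (tt N16473 D26762) (tt N13377 F47143) (tt N12036 F43745))
theorem Q12139 : ∀ i, i < 12139 → P i := stepQ 12138 Q12138 (allL N12138 (tt N7874 F43746) (tt N13371 (iv F47126)) (tt N14135 (iv F49385)) (tt N13377 (iv F47142)) (tt N15883 (iv F53878)) (tt N7872 (iv D22372)) (tt N12143 (iv F43753)))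
theorem Q12140 : ∀ i, i < 12140 → P i := stepQ 12139 Q12139 (allL N12139 (tt N16472 (iv F55563)) (tt N13458 (iv F47365)) (tt N7873 (iv D22373)) (tt N13460 (iv F47371)) (tt N16474 D26763) (tt N16475 D26764) (tt N12203 F46889))
theorem Q12141 : ∀ i, i < 12141 → P i := stepQ 12140 Q12140 (allL N12140 (tt N16473 (iv F55565)) (tt N7876 F43747) (tt N16474 (iv F55568)) (tt N15650 (iv F61765)) (tt N7873 (iv D22374)) (tt N16476 D26765) (tt N16477 D26766))
theorem Q12142 : ∀ i, i < 12142 → P i := stepQ 12141 Q12141 (allL N12141 (tt N13377 (iv F47141)) (tt N7911 F43748) (tt N16475 (iv F55570)) (tt N7874 F43749) (tt N16476 (iv F55572)) (tt N7873 (iv D22375)) (tt N16432 (iv F55406)))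
theorem Q12143 : ∀ i, i < 12143 → P i := stepQ 12142 Q12142 (allL N12142 (tt N12036 F43750) (tt N12206 (iv F46886)) (tt N12203 (iv F46885)) (tt N7875 F43751) (tt N16477 (iv F55575)) (tt N16478 D26767) (tt N7873 (iv D22376)))
theorem Q12144 : ∀ i, i < 12144 → P i := stepQ 12143 Q12143 (allL N12143 (tt N12043 F43752) (tt N14185 (iv F49545)) (tt N16326 (iv F55077)) (tt N16478 (iv F55579)) (tt N15886 (iv F53886)) (tt N7875 (iv D22377)) (tt N12138 F43753))
theorem Q12145 : ∀ i, i < 12145 → P i := stepQ 12144 Q12144 (allL N12144 (tt N7877 (iv D22378)) (tt N13472 (iv F47400)) (tt N16468 (iv F55548)) (tt N12799 F45670) (tt N16479 D26768) (tt N16480 D26769) (tt N13431 F47287))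
theorem Q12146 : ∀ i, i < 12146 → P i := stepQ 12145 Q12145 (allL N12145 (tt N16479 (iv F55581)) (tt N7878 F43754) (tt N16469 (iv F55552)) (tt N16481 D26770) (tt N7877 (iv D22379)) (tt N16482 D26771) (tt N16483 D26772))
theorem Q12147 : ∀ i, i < 12147 → P i := stepQ 12146 Q12146 (allL N12146 (tt N16480 (iv F55582)) (tt N7922 F43755) (tt N14178 (iv F49513)) (tt N12801 (iv F45677)) (tt N16482 (iv F55588)) (tt N7877 (iv D22380)) (tt N16484 D26773))
theorem Q12148 : ∀ i, i < 12148 → P i := stepQ 12147 Q12147 (allL N12147 (tt N13431 (iv F47285)) (tt N16485 D26774) (tt N7881 F43756) (tt N12802 (iv F45679)) (tt N16483 (iv F55590)) (tt N12357 F44315) (tt N7877 (iv D22381)))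
theorem Q12149 : ∀ i, i < 12149 → P i := stepQ 12148 Q12148 (allL N12148 (tt N16409 (iv F55326)) (tt N16481 (iv F55586)) (tt N16486 D26775) (tt N7878 (iv D22382)) (tt N16383 (iv F55244)) (tt N7924 F43757) (tt N16487 D26776))
theorem Q12150 : ∀ i, i < 12150 → P i := stepQ 12149 Q12149 (allL N12149 (tt N12202 (iv F43899)) (tt N16488 D26777) (tt N7880 F43758) (tt N16487 (iv F55600)) (tt N7879 F43759) (tt N11944 F43760) (tt N7878 (iv D22383)))
theorem Q12151 : ∀ i, i < 12151 → P i := stepQ 12150 Q12150 (allL N12150 (tt N12150 F54893) (tt N7879 (iv D22384)) (tt N16485 (iv F55596)) (tt N11947 F43761) (tt N16488 (iv F55603)) (tt N16489 D26778) (tt N16485 (iv F55598)))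
theorem Q12152 : ∀ i, i < 12152 → P i := stepQ 12151 Q12151 (allL N12151 (tt N16490 D26779) (tt N7880 (iv D22385)) (tt N16483 (iv F55589)) (tt N15896 (iv F53902)) (tt N7881 F43762) (tt N16491 D26780) (tt N16469 (iv F55553)))
theorem Q12153 : ∀ i, i < 12153 → P i := stepQ 12152 Q12152 (allL N12152 (tt N7881 (iv D22386)) (tt N13353 (iv F47085)) (tt N13431 F47286) (tt N7882 F43763) (tt N16490 (iv F55608)) (tt N16492 D26781) (tt N16468 (iv F55550)))
theorem Q12154 : ∀ i, i < 12154 → P i := stepQ 12153 Q12153 (allL N12153 (tt N16492 (iv F55611)) (tt N8518 F43764) (tt N12357 (iv F44313)) (tt N7884 F43765) (tt N16491 (iv F55610)) (tt N7881 (iv D22387)) (tt N16493 D26782))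
theorem Q12155 : ∀ i, i < 12155 → P i := stepQ 12154 Q12154 (allL N12154 (tt N13351 (iv F47078)) (tt N7882 (iv D22388)) (tt N9831 F43786) (tt N13353 (iv F47086)) (tt N15900 (iv F53906)) (tt N13359 (iv F47095)) (tt N9830 (iv F43785)))
theorem Q12156 : ∀ i, i < 12156 → P i := stepQ 12155 Q12155 (allL N12155 (tt N7883 F43766) (tt N12416 (iv F44518)) (tt N7882 (iv D22389)) (tt N10576 (iv F43771)) (tt N15901 (iv F53910)) (tt N10575 F43770) (tt N13964 (iv F48906)))
theorem Q12157 : ∀ i, i < 12157 → P i := stepQ 12156 Q12156 (allL N12156 (tt N7884 F43767) (tt N12388 (iv F44425)) (tt N10575 F43769) (tt N16492 (iv F55614)) (tt N15902 (iv F53915)) (tt N7882 (iv D22390)) (tt N12121 F43768))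
theorem Q12158 : ∀ i, i < 12158 → P i := stepQ 12157 Q12157 (allL N12157 (tt N10576 F43772) (tt N7886 F43773) (tt N10574 (iv F43774)) (tt N7883 (iv D22391)) (tt N10579 (iv F43775)) (tt N10573 F43776) (tt N14851 (iv F51327)))
theorem Q12159 : ∀ i, i < 12159 → P i := stepQ 12158 Q12158 (allL N12158 (tt N10575 F43777) (tt N10399 (iv F43780)) (tt N7884 F43778) (tt N10573 F43779) (tt N15904 (iv F53924)) (tt N7883 (iv D22392)) (tt N16494 D26783))
theorem Q12160 : ∀ i, i < 12160 → P i := stepQ 12159 Q12159 (allL N12159 (tt N12121 F43781) (tt N10358 (iv F43783)) (tt N16494 (iv F55622)) (tt N16493 (iv F55619)) (tt N15905 (iv F53927)) (tt N12119 F43782) (tt N7884 (iv D22393)))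
theorem Q12161 : ∀ i, i < 12161 → P i := stepQ 12160 Q12160 (allL N12160 (tt N7886 F43787) (tt N9711 F43788) (tt N10739 F43789) (tt N7885 (iv D22394)) (tt N10749 (iv F43792)) (tt N10757 F43790) (tt N7888 F43791))
theorem Q12162 : ∀ i, i < 12162 → P i := stepQ 12161 Q12161 (allL N12161 (tt N10396 F43796) (tt N7887 (iv D22395)) (tt N10395 F43793) (tt N10754 F43794) (tt N15908 (iv F53938)) (tt N10399 F43795) (tt N14758 (iv F50986)))
theorem Q12163 : ∀ i, i < 12163 → P i := stepQ 12162 Q12162 (allL N12162 (tt N7891 F43797) (tt N10370 F43798) (tt N10746 F43799) (tt N15910 (iv F53952)) (tt N7888 (iv D22396)) (tt N13575 (iv F47744)) (tt N10749 F43800))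
theorem Q12164 : ∀ i, i < 12164 → P i := stepQ 12163 Q12163 (allL N12163 (tt N12163 F43801) (tt N7889 (iv D22397)) (tt N10372 F43802) (tt N14968 (iv F51717)) (tt N15912 (iv F53959)) (tt N10372 F43803) (tt N16495 D26784))
theorem Q12165 : ∀ i, i < 12165 → P i := stepQ 12164 Q12164 (allL N12164 (tt N13575 (iv F47741)) (tt N10713 F43804) (tt N10747 F43805) (tt N15915 (iv F53965)) (tt N7892 F43806) (tt N7891 (iv D22398)) (tt N13569 (iv F47724)))
theorem Q12166 : ∀ i, i < 12166 → P i := stepQ 12165 Q12165 (allL N12165 (tt N10729 F43810) (tt N7892 (iv D22399)) (tt N10728 (iv F43811)) (tt N7893 F43807) (tt N10713 F43808) (tt N10699 F43809) (tt N14927 (iv F51590)))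
theorem Q12167 : ∀ i, i < 12167 → P i := stepQ 12166 Q12166 (allL N12166 (tt N13713 (iv F48235)) (tt N16496 D26785) (tt N9691 F43812) (tt N14927 (iv F51588)) (tt N15918 (iv F53975)) (tt N14132 (iv F49381)) (tt N7893 (iv D22400)))
theorem Q12168 : ∀ i, i < 12168 → P i := stepQ 12167 Q12167 (allL N12167 (tt N16497 D26786) (tt N7894 (iv D22401)) (tt N11964 F43813) (tt N14966 (iv F51709)) (tt N15919 (iv F53977)) (tt N13978 (iv F48945)) (tt N16496 (iv F55630)))
theorem Q12169 : ∀ i, i < 12169 → P i := stepQ 12168 Q12168 (allL N12168 (tt N7953 F43814) (tt N13945 (iv F48864)) (tt N11860 F43815) (tt N12081 F43816) (tt N15921 (iv F53982)) (tt N7895 (iv D22402)) (tt N11870 F43817))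
theorem Q12170 : ∀ i, i < 12170 → P i := stepQ 12169 Q12169 (allL N12169 (tt N9487 (iv F43820)) (tt N7896 (iv D22403)) (tt N9486 F43818) (tt N11967 F43819) (tt N15924 (iv F53993)) (tt N13945 F48863) (tt N16300 (iv F54987)))
theorem Q12171 : ∀ i, i < 12171 → P i := stepQ 12170 Q12170 (allL N12170 (tt N7899 F43822) (tt N9867 F43823) (tt N7907 F43824) (tt N9868 F43825) (tt N15927 (iv F54007)) (tt N7897 (iv D22404)) (tt N11925 F43826))
theorem Q12172 : ∀ i, i < 12172 → P i := stepQ 12171 Q12171 (allL N12171 (tt N11077 F43827) (tt N7901 F43828) (tt N9940 F43829) (tt N15928 (iv F54011)) (tt N7898 (iv D22405)) (tt N11326 F43830) (tt N9941 F43831))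
theorem Q12173 : ∀ i, i < 12173 → P i := stepQ 12172 Q12172 (allL N12172 (tt N12172 F43832) (tt N7899 (iv D22406)) (tt N16471 (iv F55559)) (tt N11931 F43833) (tt N15931 (iv F54023)) (tt N7902 F43834) (tt N16471 (iv F55562)))
theorem Q12174 : ∀ i, i < 12174 → P i := stepQ 12173 Q12173 (allL N12173 (tt N11829 F43838) (tt N7900 (iv D22407)) (tt N11827 F43835) (tt N10297 F43836) (tt N15932 (iv F54026)) (tt N11826 (iv F43839)) (tt N7903 F43837))
theorem Q12175 : ∀ i, i < 12175 → P i := stepQ 12174 Q12174 (allL N12174 (tt N7903 (iv D22408)) (tt N14063 F49173) (tt N11830 F43840) (tt N9843 F43841) (tt N15936 (iv F54040)) (tt N16265 (iv F54850)) (tt N11829 F43842))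
theorem Q12176 : ∀ i, i < 12176 → P i := stepQ 12175 Q12175 (allL N12175 (tt N12182 (iv F43857)) (tt N13395 (iv F47187)) (tt N12179 (iv F43851)) (tt N7904 (iv D22409)) (tt N16498 D26787) (tt N9082 F43843) (tt N7919 F43844))
theorem Q12177 : ∀ i, i < 12177 → P i := stepQ 12176 Q12176 (allL N12176 (tt N8025 F43845) (tt N7906 F43846) (tt N13387 (iv F47164)) (tt N7905 (iv D22410)) (tt N15625 (iv F53210)) (tt N16499 D26788) (tt N15615 (iv F53182)))
theorem Q12178 : ∀ i, i < 12178 → P i := stepQ 12177 Q12177 (allL N12177 (tt N8026 F43847) (tt N14082 (iv F49220)) (tt N7968 F43848) (tt N16499 (iv F55637)) (tt N15939 (iv F54049)) (tt N7905 (iv D22411)) (tt N12300 (iv F44141)))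
theorem Q12179 : ∀ i, i < 12179 → P i := stepQ 12178 Q12178 (allL N12178 (tt N7910 F43849) (tt N15625 F53211) (tt N13104 F46453) (tt N15940 (iv F54051)) (tt N7906 (iv D22412)) (tt N16500 D26789) (tt N16189 (iv F54609)))
theorem Q12180 : ∀ i, i < 12180 → P i := stepQ 12179 Q12179 (allL N12179 (tt N7911 F43850) (tt N8935 F43855) (tt N12175 F43851) (tt N7907 F43852) (tt N16500 (iv F55640)) (tt N7906 (iv D22413)) (tt N12186 (iv F43870)))
theorem Q12181 : ∀ i, i < 12181 → P i := stepQ 12180 Q12180 (allL N12180 (tt N8934 F43853) (tt N7907 (iv D22414)) (tt N14817 (iv F51197)) (tt N8935 (iv F43854)) (tt N15943 (iv F54057)) (tt N14082 (iv F49222)) (tt N14817 (iv F51200)))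
theorem Q12182 : ∀ i, i < 12182 → P i := stepQ 12181 Q12181 (allL N12181 (tt N13104 F46452) (tt N16396 (iv F55288)) (tt N7910 F43856) (tt N16501 D26790) (tt N7909 (iv D22415)) (tt N16502 D26791) (tt N16188 (iv F54606)))
theorem Q12183 : ∀ i, i < 12183 → P i := stepQ 12182 Q12182 (allL N12182 (tt N12175 F43857) (tt N7973 (iv F43861)) (tt N7911 F43858) (tt N7975 F43859) (tt N16502 (iv F55644)) (tt N7909 (iv D22416)) (tt N11702 F43860))
theorem Q12184 : ∀ i, i < 12184 → P i := stepQ 12183 Q12183 (allL N12183 (tt N16500 (iv F55638)) (tt N16476 (iv F55571)) (tt N16502 (iv F55643)) (tt N15948 (iv F54063)) (tt N7911 F43862) (tt N7910 (iv D22417)) (tt N16503 D26792))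
theorem Q12185 : ∀ i, i < 12185 → P i := stepQ 12184 Q12184 (allL N12184 (tt N16189 (iv F54607)) (tt N12674 F45323) (tt N16188 (iv F54604)) (tt N15949 (iv F54065)) (tt N7912 F43863) (tt N16504 D26793) (tt N7910 (iv D22418)))
theorem Q12186 : ∀ i, i < 12186 → P i := stepQ 12185 Q12185 (allL N12185 (tt N12186 (iv F43867)) (tt N14725 (iv F50864)) (tt N11702 F43864) (tt N7913 F43865) (tt N16503 (iv F55649)) (tt N11700 F43866) (tt N7911 (iv D22419)))
theorem Q12187 : ∀ i, i < 12187 → P i := stepQ 12186 Q12186 (allL N12186 (tt N12185 F43867) (tt N9766 (iv F43871)) (tt N7919 F43868) (tt N7915 F43869) (tt N16504 (iv F55653)) (tt N7912 (iv D22420)) (tt N12179 F43870))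
theorem Q12188 : ∀ i, i < 12188 → P i := stepQ 12187 Q12187 (allL N12187 (tt N12189 (iv F43877)) (tt N14103 (iv F49295)) (tt N16322 (iv F55063)) (tt N8522 F43872) (tt N15953 (iv F54074)) (tt N7914 (iv D22421)) (tt N8521 F43873))
theorem Q12189 : ∀ i, i < 12189 → P i := stepQ 12188 Q12188 (allL N12188 (tt N8506 F43874) (tt N7919 F43875) (tt N8484 F43876) (tt N7917 (iv D22422)) (tt N14387 (iv F50050)) (tt N14751 (iv F50958)) (tt N16321 (iv F55060)))
theorem Q12190 : ∀ i, i < 12190 → P i := stepQ 12189 Q12189 (allL N12189 (tt N12187 F43877) (tt N9696 F43878) (tt N11909 F43879) (tt N8509 F43880) (tt N15963 (iv F54097)) (tt N8508 F43881) (tt N7918 (iv D22423)))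
theorem Q12191 : ∀ i, i < 12191 → P i := stepQ 12190 Q12190 (allL N12190 (tt N16190 (iv F54610)) (tt N14387 F50052) (tt N16504 (iv F55652)) (tt N15965 (iv F54100)) (tt N7919 (iv D22424)) (tt N16188 (iv F54605)) (tt N16498 (iv F55633)))
theorem Q12192 : ∀ i, i < 12192 → P i := stepQ 12191 Q12191 (allL N12191 (tt N16505 D26794) (tt N7920 (iv D22425)) (tt N12608 (iv F45129)) (tt N16373 (iv F55215)) (tt N16506 D26795) (tt N16507 D26796) (tt N16508 D26797))
theorem Q12193 : ∀ i, i < 12193 → P i := stepQ 12192 Q12192 (allL N12192 (tt N7921 F43882) (tt N16506 (iv F55663)) (tt N8043 F43883) (tt N16509 D26798) (tt N7920 (iv D22426)) (tt N16510 D26799) (tt N16511 D26800))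
theorem Q12194 : ∀ i, i < 12194 → P i := stepQ 12193 Q12193 (allL N12193 (tt N7922 F43884) (tt N16216 (iv F54698)) (tt N8044 F43885) (tt N16375 (iv F55223)) (tt N16510 (iv F55677)) (tt N7920 (iv D22427)) (tt N12199 (iv F43897)))
theorem Q12195 : ∀ i, i < 12195 → P i := stepQ 12194 Q12194 (allL N12194 (tt N7923 F43886) (tt N16391 F55276) (tt N8045 F43887) (tt N16376 (iv F55226)) (tt N16511 (iv F55680)) (tt N12198 (iv F43894)) (tt N7920 (iv D22428)))
theorem Q12196 : ∀ i, i < 12196 → P i := stepQ 12195 Q12195 (allL N12195 (tt N16509 (iv F55674)) (tt N7924 F43888) (tt N16151 F55313) (tt N7921 (iv D22429)) (tt N16377 (iv F55229)) (tt N16512 D26801) (tt N16513 D26802))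
theorem Q12197 : ∀ i, i < 12197 → P i := stepQ 12196 Q12196 (allL N12196 (tt N16510 (iv F55675)) (tt N16482 (iv F55587)) (tt N8047 F43889) (tt N16512 (iv F55682)) (tt N7922 F43890) (tt N7921 (iv D22430)) (tt N16514 D26803))
theorem Q12198 : ∀ i, i < 12198 → P i := stepQ 12197 Q12197 (allL N12197 (tt N16511 (iv F55678)) (tt N12994 (iv F46173)) (tt N8048 F43891) (tt N16513 (iv F55683)) (tt N7923 F43892) (tt N16515 D26804) (tt N7921 (iv D22431)))
theorem Q12199 : ∀ i, i < 12199 → P i := stepQ 12198 Q12198 (allL N12198 (tt N12199 (iv F43895)) (tt N16516 D26805) (tt N8049 F43893) (tt N16380 (iv F55232)) (tt N16514 (iv F55685)) (tt N12194 F43894) (tt N7922 (iv D22432)))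
theorem Q12200 : ∀ i, i < 12200 → P i := stepQ 12199 Q12199 (allL N12199 (tt N12198 F43895) (tt N14863 (iv F51357)) (tt N8050 F43896) (tt N16381 (iv F55237)) (tt N16515 (iv F55689)) (tt N7923 (iv D22433)) (tt N12193 F43897))
theorem Q12201 : ∀ i, i < 12201 → P i := stepQ 12200 Q12200 (allL N12200 (tt N16408 (iv F55323)) (tt N15980 (iv F55312)) (tt N7924 (iv D22434)) (tt N16517 D26806) (tt N16382 (iv F55240)) (tt N16486 (iv F55599)) (tt N15741 F53511))
theorem Q12202 : ∀ i, i < 12202 → P i := stepQ 12201 Q12201 (allL N12201 (tt N16345 (iv F55128)) (tt N13125 (iv F46498)) (tt N15741 (iv F53510)) (tt N7925 F43898) (tt N16337 (iv F55109)) (tt N16518 D26807) (tt N7924 (iv D22435)))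
theorem Q12203 : ∀ i, i < 12203 → P i := stepQ 12202 Q12202 (allL N12202 (tt N12149 F43899) (tt N16519 D26808) (tt N7927 F43900) (tt N16518 (iv F55698)) (tt N7926 F43901) (tt N7925 (iv D22436)) (tt N12016 F43902))
theorem Q12204 : ∀ i, i < 12204 → P i := stepQ 12203 Q12203 (allL N12203 (tt N16431 (iv F55400)) (tt N7926 (iv D22437)) (tt N12142 F46885) (tt N12020 F43903) (tt N16519 (iv F55701)) (tt N13408 (iv F47235)) (tt N12139 (iv F46889)))
theorem Q12205 : ∀ i, i < 12205 → P i := stepQ 12204 Q12204 (allL N12204 (tt N16520 D26809) (tt N7927 (iv D22438)) (tt N16521 D26810) (tt N15990 (iv F54137)) (tt N7928 F43904) (tt N14807 (iv F51164)) (tt N16521 F55709))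
theorem Q12206 : ∀ i, i < 12206 → P i := stepQ 12205 Q12205 (allL N12205 (tt N7928 (iv D22439)) (tt N9018 (iv F43907)) (tt N16522 D26811) (tt N7929 F43905) (tt N16520 (iv F55704)) (tt N9022 F43906) (tt N16522 F55714))
theorem Q12207 : ∀ i, i < 12207 → P i := stepQ 12206 Q12206 (allL N12206 (tt N16522 (iv F55710)) (tt N12142 F46886) (tt N7928 (iv D22440)) (tt N7931 F46887) (tt N16521 (iv F55708)) (tt N13347 (iv F47066)) (tt N7928 F46888))
theorem Q12208 : ∀ i, i < 12208 → P i := stepQ 12207 Q12207 (allL N12207 (tt N7930 F43910) (tt N9444 F43911) (tt N7929 (iv D22442)) (tt N16523 D26812) (tt N15994 (iv F54144)) (tt N14840 (iv F51278)) (tt N16524 D26813))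
theorem Q12209 : ∀ i, i < 12209 → P i := stepQ 12208 Q12208 (allL N12208 (tt N7931 F43912) (tt N14097 (iv F49270)) (tt N16524 (iv F55720)) (tt N16522 F55713) (tt N15995 (iv F54146)) (tt N10536 F43913) (tt N7929 (iv D22443)))
theorem Q12210 : ∀ i, i < 12210 → P i := stepQ 12209 Q12209 (allL N12209 (tt N16523 (iv F55715)) (tt N7933 F43914) (tt N16525 D26814) (tt N7930 (iv D22444)) (tt N10662 (iv F43915)) (tt N14841 (iv F51280)) (tt N16526 D26815))
theorem Q12211 : ∀ i, i < 12211 → P i := stepQ 12210 Q12210 (allL N12210 (tt N16524 (iv F55718)) (tt N14734 F50900) (tt N7931 F43916) (tt N16526 (iv F55729)) (tt N15996 (iv F54149)) (tt N16527 D26816) (tt N7930 (iv D22445)))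
theorem Q12212 : ∀ i, i < 12212 → P i := stepQ 12211 Q12211 (allL N12211 (tt N10536 F43917) (tt N14810 (iv F51172)) (tt N16527 (iv F55732)) (tt N13347 (iv F47065)) (tt N15997 (iv F54151)) (tt N7931 (iv D22446)) (tt N10534 F43918))
theorem Q12213 : ∀ i, i < 12213 → P i := stepQ 12212 Q12212 (allL N12212 (tt N16494 (iv F55621)) (tt N7932 (iv D22447)) (tt N12121 F43919) (tt N10559 F43920) (tt N15998 (iv F54155)) (tt N12120 F43921) (tt N10575 F43922))
theorem Q12214 : ∀ i, i < 12214 → P i := stepQ 12213 Q12213 (allL N12213 (tt N12603 (iv F45108)) (tt N16315 (iv F55033)) (tt N12607 (iv F45125)) (tt N8338 F43923) (tt N7938 F43924) (tt N8337 F43925) (tt N7935 (iv D22448)))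
theorem Q12215 : ∀ i, i < 12215 → P i := stepQ 12214 Q12214 (allL N12214 (tt N7938 F43926) (tt N16286 F54930) (tt N12215 (iv F43930)) (tt N7939 F43927) (tt N12603 (iv F45111)) (tt N11709 F43928) (tt N7937 (iv D22449)))
theorem Q12216 : ∀ i, i < 12216 → P i := stepQ 12215 Q12215 (allL N12215 (tt N11709 F43929) (tt N11727 F43934) (tt N12214 F43930) (tt N7942 F43931) (tt N8337 F43932) (tt N7938 (iv D22450)) (tt N8336 F43933))
theorem Q12217 : ∀ i, i < 12217 → P i := stepQ 12216 Q12216 (allL N12216 (tt N10269 F43935) (tt N14155 (iv F49446)) (tt N16528 D26817) (tt N7945 (iv D22451)) (tt N10261 F43936) (tt N10260 F43937) (tt N14658 (iv F50666)))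
theorem Q12218 : ∀ i, i < 12218 → P i := stepQ 12217 Q12217 (allL N12217 (tt N11912 F43938) (tt N15909 (iv F53942)) (tt N11910 F43939) (tt N14657 (iv F50660)) (tt N7947 F43940) (tt N11910 F43941) (tt N7946 (iv D22452)))
theorem Q12219 : ∀ i, i < 12219 → P i := stepQ 12218 Q12218 (allL N12218 (tt N13416 F47252) (tt N7947 (iv D22453)) (tt N15910 (iv F53951)) (tt N7948 F43942) (tt N15909 (iv F53948)) (tt N16529 D26818) (tt N10455 F43943))
theorem Q12220 : ∀ i, i < 12220 → P i := stepQ 12219 Q12219 (allL N12219 (tt N7948 (iv D22454)) (tt N13405 (iv F47223)) (tt N14143 (iv F49408)) (tt N13416 (iv F47249)) (tt N14661 (iv F50671)) (tt N14074 (iv F49206)) (tt N10459 F43944))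
theorem Q12221 : ∀ i, i < 12221 → P i := stepQ 12220 Q12220 (allL N12220 (tt N14143 (iv F49407)) (tt N7950 F43945) (tt N7948 (iv D22455)) (tt N12574 (iv F44976)) (tt N12537 F44867) (tt N14140 (iv F49398)) (tt N9887 (iv F43971)))
theorem Q12222 : ∀ i, i < 12222 → P i := stepQ 12221 Q12221 (allL N12221 (tt N14074 (iv F49203)) (tt N11909 F43947) (tt N14140 (iv F49396)) (tt N16529 (iv F55738)) (tt N14662 (iv F50674)) (tt N7948 (iv D22456)) (tt N14071 F49196))
theorem Q12223 : ∀ i, i < 12223 → P i := stepQ 12222 Q12222 (allL N12222 (tt N7950 F43948) (tt N13713 F48239) (tt N7949 (iv D22457)) (tt N12338 (iv F44243)) (tt N16004 (iv F54178)) (tt N12337 F44239) (tt N12222 F43949))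
theorem Q12224 : ∀ i, i < 12224 → P i := stepQ 12223 Q12223 (allL N12223 (tt N12338 (iv F44240)) (tt N12574 (iv F44974)) (tt N12457 (iv F44636)) (tt N7950 (iv D22458)) (tt N12457 (iv F44638)) (tt N12336 (iv F44233)) (tt N12223 F43950))
theorem Q12225 : ∀ i, i < 12225 → P i := stepQ 12224 Q12224 (allL N12224 (tt N12337 (iv F44235)) (tt N10355 (iv F43952)) (tt N7951 F43951) (tt N12336 F44232) (tt N16005 (iv F54181)) (tt N7950 (iv D22459)) (tt N12337 (iv F44237)))
theorem Q12226 : ∀ i, i < 12226 → P i := stepQ 12225 Q12225 (allL N12225 (tt N15122 (iv F52110)) (tt N7955 F43953) (tt N11440 F43954) (tt N16007 (iv F54184)) (tt N7952 (iv D22460)) (tt N11439 F43955) (tt N15809 (iv F53670)))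
theorem Q12227 : ∀ i, i < 12227 → P i := stepQ 12226 Q12226 (allL N12226 (tt N7960 F43956) (tt N11077 F43957) (tt N11079 F43958) (tt N16012 (iv F54199)) (tt N7956 (iv D22461)) (tt N13865 F48640) (tt N15838 (iv F53730)))
theorem Q12228 : ∀ i, i < 12228 → P i := stepQ 12227 Q12227 (allL N12227 (tt N11784 F43959) (tt N16222 (iv F54718)) (tt N12243 (iv F44004)) (tt N7959 (iv D22462)) (tt N16530 D26819) (tt N16241 (iv F54777)) (tt N16531 D26820))
theorem Q12229 : ∀ i, i < 12229 → P i := stepQ 12228 Q12228 (allL N12228 (tt N11079 F43960) (tt N15253 (iv F52379)) (tt N7960 F43961) (tt N16532 D26821) (tt N7959 (iv D22463)) (tt N15279 (iv F52450)) (tt N16533 D26822))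
theorem Q12230 : ∀ i, i < 12230 → P i := stepQ 12229 Q12229 (allL N12229 (tt N11786 F43962) (tt N14038 (iv F49104)) (tt N7962 F43963) (tt N16531 (iv F55742)) (tt N16533 (iv F55748)) (tt N11792 F43964) (tt N7959 (iv D22464)))
theorem Q12231 : ∀ i, i < 12231 → P i := stepQ 12230 Q12230 (allL N12230 (tt N13865 F48639) (tt N11439 F43978) (tt N15279 (iv F52448)) (tt N16020 (iv F54210)) (tt N7961 F43979) (tt N7960 (iv D22465)) (tt N11447 (iv F43980)))
theorem Q12232 : ∀ i, i < 12232 → P i := stepQ 12231 Q12231 (allL N12231 (tt N15838 (iv F53727)) (tt N9796 F43981) (tt N16533 (iv F55747)) (tt N16021 (iv F54214)) (tt N7962 F43982) (tt N15837 (iv F53725)) (tt N7960 (iv D22466)))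
theorem Q12233 : ∀ i, i < 12233 → P i := stepQ 12232 Q12232 (allL N12232 (tt N14389 (iv F50057)) (tt N7966 F43983) (tt N15253 (iv F52380)) (tt N13506 (iv F47515)) (tt N7965 (iv D22467)) (tt N16534 D26823) (tt N16535 D26824))
theorem Q12234 : ∀ i, i < 12234 → P i := stepQ 12233 Q12233 (allL N12233 (tt N14736 (iv F50906)) (tt N12124 F43984) (tt N11767 F43985) (tt N12332 (iv F44214)) (tt N16534 (iv F55752)) (tt N7965 (iv D22468)) (tt N11769 (iv F43986)))
theorem Q12235 : ∀ i, i < 12235 → P i := stepQ 12234 Q12234 (allL N12234 (tt N14735 (iv F50901)) (tt N9888 F43987) (tt N16225 (iv F54727)) (tt N12333 (iv F44218)) (tt N16535 (iv F55755)) (tt N16234 (iv F54745)) (tt N7965 (iv D22469)))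
theorem Q12236 : ∀ i, i < 12236 → P i := stepQ 12235 Q12235 (allL N12235 (tt N13439 (iv F47302)) (tt N16536 D26825) (tt N7967 (iv D22470)) (tt N16465 (iv F55540)) (tt N15857 (iv F53795)) (tt N15848 (iv F53765)) (tt N16537 D26826))
theorem Q12237 : ∀ i, i < 12237 → P i := stepQ 12236 Q12236 (allL N12236 (tt N15859 (iv F53797)) (tt N7971 F43988) (tt N15857 (iv F53793)) (tt N16029 (iv F54228)) (tt N7967 (iv D22471)) (tt N15856 F53790) (tt N16538 D26827))
theorem Q12238 : ∀ i, i < 12238 → P i := stepQ 12237 Q12237 (allL N12237 (tt N15849 (iv F53767)) (tt N9107 F43989) (tt N15848 F53766) (tt N7968 F43990) (tt N15856 (iv F53788)) (tt N7967 (iv D22472)) (tt N16539 D26828))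
theorem Q12239 : ∀ i, i < 12239 → P i := stepQ 12238 Q12238 (allL N12238 (tt N16362 (iv F55176)) (tt N11702 F43991) (tt N16537 (iv F55764)) (tt N7969 F43992) (tt N16538 (iv F55770)) (tt N13285 (iv F46871)) (tt N7967 (iv D22473)))
theorem Q12240 : ∀ i, i < 12240 → P i := stepQ 12239 Q12239 (allL N12239 (tt N9097 F43993) (tt N7968 (iv D22474)) (tt N10427 (iv F43997)) (tt N9107 F43994) (tt N16032 (iv F54233)) (tt N7974 F43995) (tt N11824 F43996))
theorem Q12241 : ∀ i, i < 12241 → P i := stepQ 12240 Q12240 (allL N12240 (tt N12241 (iv F44000)) (tt N10380 F43998) (tt N12300 (iv F44140)) (tt N16539 (iv F55774)) (tt N16033 (iv F54238)) (tt N11979 F43999) (tt N7968 (iv D22475)))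
theorem Q12242 : ∀ i, i < 12242 → P i := stepQ 12241 Q12241 (allL N12241 (tt N12240 F44000) (tt N11680 F44001) (tt N12298 (iv F44131)) (tt N13285 (iv F46870)) (tt N16034 (iv F54242)) (tt N7969 (iv D22476)) (tt N11684 F44002))
theorem Q12243 : ∀ i, i < 12243 → P i := stepQ 12242 Q12242 (allL N12242 (tt N16540 D26829) (tt N7970 (iv D22477)) (tt N16536 (iv F55757)) (tt N16541 D26830) (tt N16542 D26831) (tt N16540 (iv F55777)) (tt N16543 D26832))
theorem Q12244 : ∀ i, i < 12244 → P i := stepQ 12243 Q12243 (allL N12243 (tt N7976 F44003) (tt N16541 (iv F55780)) (tt N12227 F44004) (tt N7970 (iv D22478)) (tt N16544 D26833) (tt N13341 (iv F47046)) (tt N16545 D26834))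
theorem Q12245 : ∀ i, i < 12245 → P i := stepQ 12244 Q12244 (allL N12244 (tt N7977 F44005) (tt N16542 (iv F55782)) (tt N7971 F44006) (tt N16546 D26835) (tt N7970 (iv D22479)) (tt N13022 (iv F46245)) (tt N16547 D26836))
theorem Q12246 : ∀ i, i < 12246 → P i := stepQ 12245 Q12245 (allL N12245 (tt N7978 F44007) (tt N16475 (iv F55569)) (tt N7973 F44008) (tt N16545 (iv F55794)) (tt N16547 (iv F55799)) (tt N9010 F44009) (tt N7970 (iv D22480)))
theorem Q12247 : ∀ i, i < 12247 → P i := stepQ 12246 Q12246 (allL N12246 (tt N7979 F44010) (tt N8807 (iv F44012)) (tt N13022 (iv F46243)) (tt N16040 (iv F54253)) (tt N7972 F44011) (tt N7971 (iv D22481)) (tt N12256 (iv F44030)))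
theorem Q12248 : ∀ i, i < 12248 → P i := stepQ 12247 Q12247 (allL N12247 (tt N7980 F44013) (tt N16502 F55646) (tt N16547 (iv F55798)) (tt N16041 (iv F54257)) (tt N7973 F44014) (tt N12255 (iv F44027)) (tt N7971 (iv D22482)))
theorem Q12249 : ∀ i, i < 12249 → P i := stepQ 12248 Q12248 (allL N12248 (tt N9099 F44015) (tt N14107 (iv F49307)) (tt N7974 (iv D22483)) (tt N9042 F44018) (tt N16044 (iv F54266)) (tt N10427 F44016) (tt N9041 F44017))
theorem Q12250 : ∀ i, i < 12250 → P i := stepQ 12249 Q12249 (allL N12249 (tt N16544 (iv F55790)) (tt N12366 (iv F44340)) (tt N16242 (iv F54781)) (tt N16548 D26837) (tt N7976 (iv D22484)) (tt N13080 (iv F46378)) (tt N16549 D26838))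
theorem Q12251 : ∀ i, i < 12251 → P i := stepQ 12250 Q12250 (allL N12250 (tt N16545 (iv F55792)) (tt N16550 D26839) (tt N16243 (iv F54782)) (tt N7978 F44019) (tt N16549 (iv F55802)) (tt N16246 (iv F54793)) (tt N7976 (iv D22485)))
theorem Q12252 : ∀ i, i < 12252 → P i := stepQ 12251 Q12251 (allL N12251 (tt N16546 (iv F55796)) (tt N12368 (iv F44346)) (tt N16551 D26840) (tt N7977 (iv D22486)) (tt N16548 (iv F55801)) (tt N13023 (iv F46247)) (tt N16552 D26841))
theorem Q12253 : ∀ i, i < 12253 → P i := stepQ 12252 Q12252 (allL N12252 (tt N16547 (iv F55797)) (tt N16553 D26842) (tt N7980 F44020) (tt N16552 (iv F55807)) (tt N7978 F44021) (tt N16554 D26843) (tt N7977 (iv D22487)))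
theorem Q12254 : ∀ i, i < 12254 → P i := stepQ 12253 Q12253 (allL N12253 (tt N13276 (iv F46846)) (tt N7978 (iv D22488)) (tt N9783 F44022) (tt N16550 (iv F55803)) (tt N16553 (iv F55809)) (tt N13331 (iv F47014)) (tt N12371 (iv F44353)))
theorem Q12255 : ∀ i, i < 12255 → P i := stepQ 12254 Q12254 (allL N12254 (tt N9010 F44023) (tt N16392 (iv F55278)) (tt N7982 F44024) (tt N16246 (iv F54792)) (tt N16554 (iv F55812)) (tt N7978 (iv D22489)) (tt N9008 F44025))
theorem Q12256 : ∀ i, i < 12256 → P i := stepQ 12255 Q12255 (allL N12255 (tt N12256 (iv F44028)) (tt N16555 D26844) (tt N13024 (iv F46248)) (tt N16056 (iv F54288)) (tt N7981 F44026) (tt N12247 F44027) (tt N7979 (iv D22490)))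
theorem Q12257 : ∀ i, i < 12257 → P i := stepQ 12256 Q12256 (allL N12256 (tt N12255 F44028) (tt N16556 D26845) (tt N16554 (iv F55811)) (tt N16057 (iv F54292)) (tt N7982 F44029) (tt N7980 (iv D22491)) (tt N12246 F44030))
theorem Q12258 : ∀ i, i < 12258 → P i := stepQ 12257 Q12257 (allL N12257 (tt N14704 (iv F50795)) (tt N7981 (iv D22492)) (tt N12008 (iv F44033)) (tt N7983 F44031) (tt N16555 (iv F55814)) (tt N12006 F44032) (tt N13339 (iv F47042)))
theorem Q12259 : ∀ i, i < 12259 → P i := stepQ 12258 Q12258 (allL N12258 (tt N8971 F44046) (tt N7982 (iv D22493)) (tt N8970 (iv F44047)) (tt N7984 F44035) (tt N16556 (iv F55817)) (tt N9785 F44036) (tt N13418 (iv F47256)))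
theorem Q12260 : ∀ i, i < 12260 → P i := stepQ 12259 Q12259 (allL N12259 (tt N10406 F44037) (tt N10365 F44038) (tt N7983 (iv D22494)) (tt N12340 (iv F44254)) (tt N16060 (iv F54300)) (tt N10360 (iv F44039)) (tt N14798 (iv F51132)))
theorem Q12261 : ∀ i, i < 12261 → P i := stepQ 12260 Q12260 (allL N12260 (tt N12342 (iv F44259)) (tt N10359 F44040) (tt N10360 F44041) (tt N12006 F44042) (tt N16061 (iv F54304)) (tt N7983 (iv D22495)) (tt N14759 (iv F50988)))
theorem Q12262 : ∀ i, i < 12262 → P i := stepQ 12261 Q12261 (allL N12261 (tt N7984 (iv D22496)) (tt N8976 F44043) (tt N16557 D26846) (tt N8971 (iv F44045)) (tt N16062 (iv F54306)) (tt N9786 F44044) (tt N14041 (iv F49114)))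
theorem Q12263 : ∀ i, i < 12263 → P i := stepQ 12262 Q12262 (allL N12262 (tt N16557 (iv F55821)) (tt N11749 F44048) (tt N7984 (iv D22497)) (tt N13320 (iv F46991)) (tt N16063 (iv F54309)) (tt N9787 F44049) (tt N16558 D26847))
theorem Q12264 : ∀ i, i < 12264 → P i := stepQ 12263 Q12263 (allL N12263 (tt N14041 (iv F49111)) (tt N11822 F44051) (tt N16558 (iv F55825)) (tt N13418 (iv F47255)) (tt N16064 (iv F54312)) (tt N14039 (iv F49107)) (tt N7984 (iv D22498)))
theorem Q12265 : ∀ i, i < 12265 → P i := stepQ 12264 Q12264 (allL N12264 (tt N7988 F44052) (tt N8317 F44053) (tt N16559 D26848) (tt N7985 (iv D22499)) (tt N8347 F44054) (tt N14006 (iv F49021)) (tt N12689 (iv F45359)))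
theorem Q12266 : ∀ i, i < 12266 → P i := stepQ 12265 Q12265 (allL N12265 (tt N7989 F44055) (tt N12597 (iv F45077)) (tt N16394 (iv F55283)) (tt N14006 (iv F49019)) (tt N7986 F44056) (tt N7985 (iv D22500)) (tt N12271 (iv F44068)))
theorem Q12267 : ∀ i, i < 12267 → P i := stepQ 12266 Q12266 (allL N12266 (tt N7990 F44057) (tt N12651 (iv F45250)) (tt N16395 (iv F55286)) (tt N12689 (iv F45357)) (tt N7987 F44058) (tt N12270 (iv F44064)) (tt N7985 (iv D22501)))
theorem Q12268 : ∀ i, i < 12268 → P i := stepQ 12267 Q12267 (allL N12267 (tt N16559 (iv F55826)) (tt N12641 F45212) (tt N7988 (iv D22502)) (tt N16560 D26849) (tt N12350 (iv F44285)) (tt N16561 D26850) (tt N12919 (iv F46000)))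
theorem Q12269 : ∀ i, i < 12269 → P i := stepQ 12268 Q12268 (allL N12268 (tt N14006 (iv F49018)) (tt N12642 (iv F45214)) (tt N16561 (iv F55833)) (tt N7989 F44059) (tt N12351 (iv F44291)) (tt N7988 (iv D22503)) (tt N16562 D26851))
theorem Q12270 : ∀ i, i < 12270 → P i := stepQ 12269 Q12269 (allL N12269 (tt N12689 F45360) (tt N8614 F44060) (tt N12919 (iv F45997)) (tt N7990 F44061) (tt N8906 F44062) (tt N14944 (iv F51630)) (tt N7988 (iv D22504)))
theorem Q12271 : ∀ i, i < 12271 → P i := stepQ 12270 Q12270 (allL N12270 (tt N12271 (iv F44066)) (tt N8363 (iv F44065)) (tt N16405 (iv F55314)) (tt N16562 (iv F55839)) (tt N7991 F44063) (tt N12266 F44064) (tt N7989 (iv D22505)))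
theorem Q12272 : ∀ i, i < 12272 → P i := stepQ 12271 Q12271 (allL N12271 (tt N12270 F44066) (tt N12329 F44203) (tt N16406 (iv F55318)) (tt N14944 F51631) (tt N7992 F44067) (tt N7990 (iv D22506)) (tt N12265 F44068))
theorem Q12273 : ∀ i, i < 12273 → P i := stepQ 12272 Q12272 (allL N12272 (tt N12604 (iv F45112)) (tt N16463 (iv F55529)) (tt N12613 (iv F45142)) (tt N8346 F44069) (tt N7996 F44070) (tt N7993 (iv D22507)) (tt N8345 F44071))
theorem Q12274 : ∀ i, i < 12274 → P i := stepQ 12273 Q12273 (allL N12273 (tt N7996 F44072) (tt N16440 (iv F55435)) (tt N12274 (iv F44076)) (tt N7997 F44073) (tt N12604 (iv F45115)) (tt N7995 (iv D22508)) (tt N11718 F44074))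
theorem Q12275 : ∀ i, i < 12275 → P i := stepQ 12274 Q12274 (allL N12274 (tt N11718 F44075) (tt N11770 (iv F44080)) (tt N12273 F44076) (tt N8000 F44077) (tt N8345 F44078) (tt N8344 F44079) (tt N7996 (iv D22509)))
theorem Q12276 : ∀ i, i < 12276 → P i := stepQ 12275 Q12275 (allL N12275 (tt N10288 F44081) (tt N14176 (iv F49509)) (tt N16563 D26852) (tt N8003 (iv D22510)) (tt N10280 F44082) (tt N14686 (iv F50740)) (tt N10278 F44083))
theorem Q12277 : ∀ i, i < 12277 → P i := stepQ 12276 Q12276 (allL N12276 (tt N12118 F44084) (tt N15679 (iv F53350)) (tt N12116 F44085) (tt N14687 (iv F50742)) (tt N8005 F44086) (tt N8004 (iv D22511)) (tt N12116 F44087))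
theorem Q12278 : ∀ i, i < 12278 → P i := stepQ 12277 Q12277 (allL N12277 (tt N13468 F47390) (tt N8005 (iv D22512)) (tt N15680 (iv F53359)) (tt N8006 F44088) (tt N15679 (iv F53356)) (tt N10508 F44089) (tt N16564 D26853))
theorem Q12279 : ∀ i, i < 12279 → P i := stepQ 12278 Q12278 (allL N12278 (tt N8006 (iv D22513)) (tt N13457 (iv F47360)) (tt N14152 (iv F49436)) (tt N13468 (iv F47387)) (tt N14693 (iv F50757)) (tt N10512 F44090) (tt N14125 (iv F49367)))
theorem Q12280 : ∀ i, i < 12280 → P i := stepQ 12279 Q12279 (allL N12279 (tt N14152 (iv F49435)) (tt N8008 F44091) (tt N8006 (iv D22514)) (tt N12580 (iv F44999)) (tt N12546 F44891) (tt N9895 F44092) (tt N14148 (iv F49423)))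
theorem Q12281 : ∀ i, i < 12281 → P i := stepQ 12280 Q12280 (allL N12280 (tt N14125 (iv F49364)) (tt N12115 F44093) (tt N14148 (iv F49421)) (tt N16564 (iv F55846)) (tt N14694 (iv F50760)) (tt N14122 (iv F49356)) (tt N8006 (iv D22515)))
theorem Q12282 : ∀ i, i < 12282 → P i := stepQ 12281 Q12281 (allL N12281 (tt N8008 F44094) (tt N13717 F48253) (tt N8007 (iv D22516)) (tt N12384 (iv F44408)) (tt N16080 (iv F54354)) (tt N12281 F44095) (tt N12383 F44404))
theorem Q12283 : ∀ i, i < 12283 → P i := stepQ 12282 Q12282 (allL N12282 (tt N12384 (iv F44405)) (tt N12580 (iv F44997)) (tt N12493 (iv F44739)) (tt N8008 (iv D22517)) (tt N12493 (iv F44741)) (tt N12282 F44100) (tt N12382 (iv F44399)))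
theorem Q12284 : ∀ i, i < 12284 → P i := stepQ 12283 Q12283 (allL N12283 (tt N12383 (iv F44400)) (tt N10318 (iv F44102)) (tt N8009 F44101) (tt N12382 F44398) (tt N16081 (iv F54357)) (tt N12383 (iv F44402)) (tt N8008 (iv D22518)))
theorem Q12285 : ∀ i, i < 12285 → P i := stepQ 12284 Q12284 (allL N12284 (tt N15110 (iv F52071)) (tt N8013 F44103) (tt N11280 F44104) (tt N16083 (iv F54360)) (tt N8010 (iv D22519)) (tt N15570 (iv F53068)) (tt N11279 F44105))
theorem Q12286 : ∀ i, i < 12286 → P i := stepQ 12285 Q12285 (allL N12285 (tt N8018 F44106) (tt N11039 F44107) (tt N11041 F44108) (tt N16088 (iv F54375)) (tt N8014 (iv D22520)) (tt N15600 (iv F53127)) (tt N13816 F48519))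
theorem Q12287 : ∀ i, i < 12287 → P i := stepQ 12286 Q12286 (allL N12286 (tt N11741 F44109) (tt N16252 (iv F54814)) (tt N12302 (iv F44143)) (tt N8017 (iv D22521)) (tt N16565 D26854) (tt N16566 D26855) (tt N16211 (iv F54686)))
theorem Q12288 : ∀ i, i < 12288 → P i := stepQ 12287 Q12287 (allL N12287 (tt N11041 F44110) (tt N15306 (iv F52512)) (tt N8018 F44111) (tt N16567 D26856) (tt N8017 (iv D22522)) (tt N16568 D26857) (tt N15226 F52321))
theorem Q12289 : ∀ i, i < 12289 → P i := stepQ 12288 Q12288 (allL N12288 (tt N11742 F44112) (tt N14095 F49265) (tt N8019 F44113) (tt N16566 (iv F55850)) (tt N16568 (iv F55856)) (tt N8017 (iv D22523)) (tt N11749 F44114))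
theorem Q12290 : ∀ i, i < 12290 → P i := stepQ 12289 Q12289 (allL N12289 (tt N15600 (iv F53124)) (tt N9849 F44115) (tt N16568 (iv F55855)) (tt N16096 (iv F54386)) (tt N8019 F44116) (tt N8018 (iv D22524)) (tt N15599 F53122))
theorem Q12291 : ∀ i, i < 12291 → P i := stepQ 12290 Q12290 (allL N12290 (tt N13816 F48518) (tt N11279 F44117) (tt N15226 (iv F52318)) (tt N16097 (iv F54389)) (tt N8020 F44118) (tt N11288 (iv F44119)) (tt N8018 (iv D22525)))
theorem Q12292 : ∀ i, i < 12292 → P i := stepQ 12291 Q12291 (allL N12291 (tt N14334 (iv F49921)) (tt N8024 F44120) (tt N15306 (iv F52513)) (tt N13530 (iv F47592)) (tt N8023 (iv D22526)) (tt N16569 D26858) (tt N16570 D26859))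
theorem Q12293 : ∀ i, i < 12293 → P i := stepQ 12292 Q12292 (allL N12292 (tt N14716 (iv F50836)) (tt N9894 F44121) (tt N16255 (iv F54823)) (tt N12378 (iv F44379)) (tt N16569 (iv F55859)) (tt N8023 (iv D22527)) (tt N16263 (iv F54842)))
theorem Q12294 : ∀ i, i < 12294 → P i := stepQ 12293 Q12293 (allL N12293 (tt N14717 (iv F50841)) (tt N11918 F44122) (tt N11810 F44123) (tt N12379 (iv F44383)) (tt N16570 (iv F55862)) (tt N11812 (iv F44124)) (tt N8023 (iv D22528)))
theorem Q12295 : ∀ i, i < 12295 → P i := stepQ 12294 Q12294 (allL N12294 (tt N13387 F47168) (tt N16571 D26860) (tt N8025 (iv D22529)) (tt N16318 (iv F55047)) (tt N15623 (iv F53206)) (tt N16572 D26861) (tt N15614 (iv F53176)))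
theorem Q12296 : ∀ i, i < 12296 → P i := stepQ 12295 Q12295 (allL N12295 (tt N15625 (iv F53208)) (tt N8029 F44125) (tt N15623 (iv F53204)) (tt N16105 (iv F54404)) (tt N8025 (iv D22530)) (tt N16573 D26862) (tt N15622 F53201))
theorem Q12297 : ∀ i, i < 12297 → P i := stepQ 12296 Q12296 (allL N12296 (tt N16499 (iv F55634)) (tt N11708 F44126) (tt N16572 (iv F55872)) (tt N8026 F44127) (tt N16573 (iv F55878)) (tt N8025 (iv D22531)) (tt N13349 (iv F47075)))
theorem Q12298 : ∀ i, i < 12298 → P i := stepQ 12297 Q12297 (allL N12297 (tt N15615 (iv F53178)) (tt N9161 F44128) (tt N15614 F53177) (tt N8027 F44129) (tt N15622 (iv F53199)) (tt N16574 D26863) (tt N8025 (iv D22532)))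
theorem Q12299 : ∀ i, i < 12299 → P i := stepQ 12298 Q12298 (allL N12298 (tt N12300 (iv F44138)) (tt N11681 F44130) (tt N12241 F44131) (tt N13349 (iv F47074)) (tt N16108 (iv F54410)) (tt N11687 F44132) (tt N8026 (iv D22533)))
theorem Q12300 : ∀ i, i < 12300 → P i := stepQ 12299 Q12299 (allL N12299 (tt N9151 F44133) (tt N8027 (iv D22534)) (tt N10393 (iv F44137)) (tt N9161 F44134) (tt N16109 (iv F54413)) (tt N12046 (iv F44136)) (tt N8033 F44135))
theorem Q12301 : ∀ i, i < 12301 → P i := stepQ 12300 Q12300 (allL N12300 (tt N12298 F44138) (tt N10414 F44139) (tt N12240 F44140) (tt N16574 (iv F55882)) (tt N16110 (iv F54420)) (tt N8027 (iv D22535)) (tt N12177 F44141))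
theorem Q12302 : ∀ i, i < 12302 → P i := stepQ 12301 Q12301 (allL N12301 (tt N16575 D26864) (tt N8028 (iv D22536)) (tt N16571 (iv F55865)) (tt N16576 D26865) (tt N16577 D26866) (tt N16578 D26867) (tt N16575 (iv F55887)))
theorem Q12303 : ∀ i, i < 12303 → P i := stepQ 12302 Q12302 (allL N12302 (tt N8034 F44142) (tt N16576 (iv F55888)) (tt N12286 F44143) (tt N8028 (iv D22537)) (tt N16579 D26868) (tt N16580 D26869) (tt N13334 (iv F47024)))
theorem Q12304 : ∀ i, i < 12304 → P i := stepQ 12303 Q12303 (allL N12303 (tt N8035 F44144) (tt N16577 (iv F55890)) (tt N8029 F44145) (tt N16581 D26870) (tt N8028 (iv D22538)) (tt N16582 D26871) (tt N13093 (iv F46415)))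
theorem Q12305 : ∀ i, i < 12305 → P i := stepQ 12304 Q12304 (allL N12304 (tt N8036 F44146) (tt N16333 (iv F55096)) (tt N8030 F44147) (tt N16580 (iv F55902)) (tt N16582 (iv F55907)) (tt N8028 (iv D22539)) (tt N9071 F44148))
theorem Q12306 : ∀ i, i < 12306 → P i := stepQ 12305 Q12305 (allL N12305 (tt N8037 F44149) (tt N16368 (iv F55198)) (tt N16582 (iv F55906)) (tt N16116 (iv F54431)) (tt N8030 F44150) (tt N8029 (iv D22540)) (tt N12315 (iv F44169)))
theorem Q12307 : ∀ i, i < 12307 → P i := stepQ 12306 Q12306 (allL N12306 (tt N8038 F44151) (tt N8844 (iv F44153)) (tt N13093 (iv F46413)) (tt N16117 (iv F54434)) (tt N8031 F44152) (tt N12314 (iv F44166)) (tt N8029 (iv D22541)))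
theorem Q12308 : ∀ i, i < 12308 → P i := stepQ 12307 Q12307 (allL N12307 (tt N9153 F44154) (tt N14053 (iv F49146)) (tt N8033 (iv D22542)) (tt N8977 F44157) (tt N16120 (iv F54444)) (tt N8976 F44155) (tt N10393 F44156))
theorem Q12309 : ∀ i, i < 12309 → P i := stepQ 12308 Q12308 (allL N12308 (tt N16579 (iv F55898)) (tt N12407 (iv F44492)) (tt N16212 (iv F54688)) (tt N16583 D26872) (tt N8034 (iv D22543)) (tt N16584 D26873) (tt N13009 (iv F46209)))
theorem Q12310 : ∀ i, i < 12310 → P i := stepQ 12309 Q12309 (allL N12309 (tt N16580 (iv F55900)) (tt N16585 D26874) (tt N16213 (iv F54689)) (tt N8036 F44158) (tt N16584 (iv F55910)) (tt N8034 (iv D22544)) (tt N16216 (iv F54701)))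
theorem Q12311 : ∀ i, i < 12311 → P i := stepQ 12310 Q12310 (allL N12310 (tt N16581 (iv F55904)) (tt N12408 (iv F44495)) (tt N16586 D26875) (tt N8035 (iv D22545)) (tt N16583 (iv F55909)) (tt N16587 D26876) (tt N13094 (iv F46417)))
theorem Q12312 : ∀ i, i < 12312 → P i := stepQ 12311 Q12311 (allL N12311 (tt N16582 (iv F55905)) (tt N16588 D26877) (tt N8037 F44159) (tt N16587 (iv F55915)) (tt N8036 F44160) (tt N8035 (iv D22546)) (tt N16589 D26878))
theorem Q12313 : ∀ i, i < 12313 → P i := stepQ 12312 Q12312 (allL N12312 (tt N13263 (iv F46818)) (tt N8036 (iv D22547)) (tt N9836 F44161) (tt N16585 (iv F55911)) (tt N16588 (iv F55917)) (tt N12411 (iv F44504)) (tt N13383 (iv F47155)))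
theorem Q12314 : ∀ i, i < 12314 → P i := stepQ 12313 Q12313 (allL N12313 (tt N9071 F44162) (tt N16375 (iv F55221)) (tt N8039 F44163) (tt N16216 (iv F54699)) (tt N16589 (iv F55920)) (tt N9070 F44164) (tt N8036 (iv D22548)))
theorem Q12315 : ∀ i, i < 12315 → P i := stepQ 12314 Q12314 (allL N12314 (tt N12315 (iv F44167)) (tt N16590 D26879) (tt N16589 (iv F55919)) (tt N16132 (iv F54466)) (tt N8039 F44165) (tt N12306 F44166) (tt N8037 (iv D22549)))
theorem Q12316 : ∀ i, i < 12316 → P i := stepQ 12315 Q12315 (allL N12315 (tt N12314 F44167) (tt N16591 D26880) (tt N13095 (iv F46418)) (tt N16133 (iv F54470)) (tt N8040 F44168) (tt N8038 (iv D22550)) (tt N12305 F44169))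
theorem Q12317 : ∀ i, i < 12317 → P i := stepQ 12316 Q12316 (allL N12316 (tt N9037 F44179) (tt N8039 (iv D22551)) (tt N9036 (iv F44180)) (tt N8041 F44170) (tt N16590 (iv F55922)) (tt N13470 (iv F47395)) (tt N9838 F44171))
theorem Q12318 : ∀ i, i < 12318 → P i := stepQ 12317 Q12317 (allL N12317 (tt N14723 (iv F50858)) (tt N8040 (iv D22552)) (tt N11995 (iv F44174)) (tt N8042 F44172) (tt N16591 (iv F55926)) (tt N13385 (iv F47160)) (tt N11983 F44173))
theorem Q12319 : ∀ i, i < 12319 → P i := stepQ 12318 Q12318 (allL N12318 (tt N8041 (iv D22553)) (tt N9041 F44176) (tt N16592 D26881) (tt N9037 (iv F44178)) (tt N16136 (iv F54477)) (tt N14097 (iv F49272)) (tt N9839 F44177))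
theorem Q12320 : ∀ i, i < 12320 → P i := stepQ 12319 Q12319 (allL N12319 (tt N16592 (iv F55929)) (tt N11792 F44181) (tt N8041 (iv D22554)) (tt N13375 (iv F47140)) (tt N16137 (iv F54480)) (tt N16593 D26882) (tt N9840 F44182))
theorem Q12321 : ∀ i, i < 12321 → P i := stepQ 12320 Q12320 (allL N12320 (tt N14097 (iv F49269)) (tt N12044 F44183) (tt N16593 (iv F55935)) (tt N13470 (iv F47394)) (tt N16138 (iv F54483)) (tt N8041 (iv D22555)) (tt N14096 (iv F49268)))
theorem Q12322 : ∀ i, i < 12322 → P i := stepQ 12321 Q12321 (allL N12321 (tt N10440 F44184) (tt N10331 F44185) (tt N8042 (iv D22556)) (tt N12387 (iv F44422)) (tt N16139 (iv F54486)) (tt N14830 (iv F51243)) (tt N10323 (iv F44186)))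
theorem Q12323 : ∀ i, i < 12323 → P i := stepQ 12322 Q12322 (allL N12322 (tt N12388 (iv F44424)) (tt N10322 F44187) (tt N10323 F44188) (tt N11983 F44189) (tt N16140 (iv F54490)) (tt N14780 (iv F51064)) (tt N8042 (iv D22557)))
theorem Q12324 : ∀ i, i < 12324 → P i := stepQ 12323 Q12323 (allL N12323 (tt N8046 F44190) (tt N8311 F44191) (tt N16594 D26883) (tt N8043 (iv D22558)) (tt N8339 F44192) (tt N12718 (iv F45429)) (tt N13987 (iv F48979)))
theorem Q12325 : ∀ i, i < 12325 → P i := stepQ 12324 Q12324 (allL N12324 (tt N8047 F44193) (tt N12660 (iv F45287)) (tt N16510 (iv F55676)) (tt N12718 (iv F45427)) (tt N8044 F44194) (tt N8043 (iv D22559)) (tt N12330 (iv F44206)))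
theorem Q12326 : ∀ i, i < 12326 → P i := stepQ 12325 Q12325 (allL N12325 (tt N8048 F44195) (tt N12595 (iv F45068)) (tt N16511 (iv F55679)) (tt N13987 (iv F48977)) (tt N8045 F44196) (tt N12329 (iv F44202)) (tt N8043 (iv D22560)))
theorem Q12327 : ∀ i, i < 12327 → P i := stepQ 12326 Q12326 (allL N12326 (tt N16594 (iv F55936)) (tt N12630 F45184) (tt N8046 (iv D22561)) (tt N16595 D26884) (tt N12396 (iv F44451)) (tt N12904 (iv F45959)) (tt N16596 D26885))
theorem Q12328 : ∀ i, i < 12328 → P i := stepQ 12327 Q12327 (allL N12327 (tt N12718 F45430) (tt N8619 F44197) (tt N12904 (iv F45957)) (tt N8047 F44198) (tt N8913 F44199) (tt N8046 (iv D22562)) (tt N14992 (iv F51796)))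
theorem Q12329 : ∀ i, i < 12329 → P i := stepQ 12328 Q12328 (allL N12328 (tt N13987 (iv F48976)) (tt N12631 (iv F45186)) (tt N16596 (iv F55943)) (tt N8048 F44200) (tt N12397 (iv F44457)) (tt N16597 D26886) (tt N8046 (iv D22563)))
theorem Q12330 : ∀ i, i < 12330 → P i := stepQ 12329 Q12329 (allL N12329 (tt N12330 (iv F44204)) (tt N12271 (iv F44203)) (tt N16514 (iv F55684)) (tt N14992 F51797) (tt N8049 F44201) (tt N12325 F44202) (tt N8047 (iv D22564)))
theorem Q12331 : ∀ i, i < 12331 → P i := stepQ 12330 Q12330 (allL N12330 (tt N12329 F44204) (tt N8371 (iv F44207)) (tt N16515 (iv F55688)) (tt N16597 (iv F55949)) (tt N8050 F44205) (tt N8048 (iv D22565)) (tt N12324 F44206))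
theorem Q12332 : ∀ i, i < 12332 → P i := stepQ 12331 Q12331 (allL N12331 (tt N8051 (iv D22566)) (tt N10367 F44208) (tt N9335 F44209) (tt N10368 F44210) (tt N9205 F44211) (tt N16598 D26887) (tt N13986 (iv F48975)))
theorem Q12333 : ∀ i, i < 12333 → P i := stepQ 12332 Q12332 (allL N12332 (tt N16598 (iv F55952)) (tt N8055 F44212) (tt N9336 F44213) (tt N12233 F44214) (tt N9207 F44215) (tt N8051 (iv D22567)) (tt N14921 (iv F51561)))
theorem Q12334 : ∀ i, i < 12334 → P i := stepQ 12333 Q12333 (allL N12333 (tt N13986 (iv F48972)) (tt N9220 F44216) (tt N9281 F44217) (tt N12234 F44218) (tt N9208 F44219) (tt N14908 (iv F51513)) (tt N8051 (iv D22568)))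
theorem Q12335 : ∀ i, i < 12335 → P i := stepQ 12334 Q12334 (allL N12334 (tt N10633 F44220) (tt N15636 (iv F53250)) (tt N12339 (iv F44247)) (tt N10591 F44221) (tt N8053 (iv D22569)) (tt N10784 F44222) (tt N10717 F44223))
theorem Q12336 : ∀ i, i < 12336 → P i := stepQ 12335 Q12335 (allL N12335 (tt N10588 F44224) (tt N9207 F44225) (tt N10635 F44226) (tt N13281 (iv F46859)) (tt N8055 F44227) (tt N8054 (iv D22570)) (tt N10585 F44228))
theorem Q12337 : ∀ i, i < 12337 → P i := stepQ 12336 Q12336 (allL N12336 (tt N8058 (iv D22571)) (tt N8140 F44229) (tt N8163 F44230) (tt N12224 (iv F44232)) (tt N8163 F44231) (tt N12223 F44233) (tt N8058 F44234))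
theorem Q12338 : ∀ i, i < 12338 → P i := stepQ 12337 Q12337 (allL N12337 (tt N12224 F44235) (tt N8059 F44236) (tt N11924 F44238) (tt N8058 (iv D22572)) (tt N16599 D26888) (tt N12222 (iv F44239)) (tt N12224 F44237))
theorem Q12339 : ∀ i, i < 12339 → P i := stepQ 12338 Q12338 (allL N12338 (tt N12223 F44240) (tt N10698 F44241) (tt N8172 F44242) (tt N12222 F44243) (tt N8172 F44244) (tt N8058 (iv D22573)) (tt N12338 F44245))
theorem Q12340 : ∀ i, i < 12340 → P i := stepQ 12339 Q12339 (allL N12339 (tt N8064 F44246) (tt N16599 (iv F55959)) (tt N12334 F44247) (tt N8170 F44248) (tt N8059 (iv D22574)) (tt N10700 F44249) (tt N8142 F44250))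
theorem Q12341 : ∀ i, i < 12341 → P i := stepQ 12340 Q12340 (allL N12340 (tt N8062 F44251) (tt N9724 F44252) (tt N8068 F44253) (tt N12259 F44254) (tt N9754 F44255) (tt N8060 (iv D22575)) (tt N12346 (iv F44271)))
theorem Q12342 : ∀ i, i < 12342 → P i := stepQ 12341 Q12341 (allL N12341 (tt N8063 F44256) (tt N16600 D26889) (tt N8069 F44257) (tt N14731 (iv F50885)) (tt N10722 F44258) (tt N12345 (iv F44267)) (tt N8060 (iv D22576)))
theorem Q12343 : ∀ i, i < 12343 → P i := stepQ 12342 Q12342 (allL N12342 (tt N12260 F44259) (tt N11953 F44260) (tt N8061 (iv D22577)) (tt N16389 (iv F55269)) (tt N16601 D26890) (tt N10306 F44261) (tt N14799 (iv F51139)))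
theorem Q12344 : ∀ i, i < 12344 → P i := stepQ 12343 Q12343 (allL N12343 (tt N14377 F50025) (tt N8064 F44262) (tt N16601 (iv F55971)) (tt N10718 F44263) (tt N8061 (iv D22578)) (tt N14487 (iv F50289)) (tt N16602 D26891))
theorem Q12345 : ∀ i, i < 12345 → P i := stepQ 12344 Q12344 (allL N12344 (tt N14731 (iv F50884)) (tt N14166 F49475) (tt N14799 (iv F51137)) (tt N8063 F44264) (tt N16602 (iv F55974)) (tt N14798 F51134) (tt N8061 (iv D22579)))
theorem Q12346 : ∀ i, i < 12346 → P i := stepQ 12345 Q12345 (allL N12345 (tt N12346 (iv F44268)) (tt N14756 (iv F50976)) (tt N8073 F44265) (tt N14757 (iv F50981)) (tt N10692 F44266) (tt N12341 F44267) (tt N8062 (iv D22580)))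
theorem Q12347 : ∀ i, i < 12347 → P i := stepQ 12346 Q12346 (allL N12346 (tt N12345 F44268) (tt N14162 (iv F49463)) (tt N8074 F44269) (tt N14798 F51133) (tt N10723 F44270) (tt N8063 (iv D22581)) (tt N12340 F44271))
theorem Q12348 : ∀ i, i < 12348 → P i := stepQ 12347 Q12347 (allL N12347 (tt N14172 (iv F49493)) (tt N8065 (iv D22582)) (tt N14710 (iv F50814)) (tt N8066 F44272) (tt N14989 (iv F51784)) (tt N9911 F44273) (tt N14166 (iv F49474)))
theorem Q12349 : ∀ i, i < 12349 → P i := stepQ 12348 Q12348 (allL N12348 (tt N8072 F44274) (tt N8486 F44275) (tt N10722 F44276) (tt N8523 F44277) (tt N8069 F44278) (tt N12352 (iv F44296)) (tt N8067 (iv D22583)))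
theorem Q12350 : ∀ i, i < 12350 → P i := stepQ 12349 Q12349 (allL N12349 (tt N12355 (iv F44303)) (tt N8069 (iv D22584)) (tt N10371 (iv F44283)) (tt N11789 F44279) (tt N8486 F44280) (tt N10369 F44281) (tt N8475 F44282))
theorem Q12351 : ∀ i, i < 12351 → P i := stepQ 12350 Q12350 (allL N12350 (tt N12616 (iv F45147)) (tt N8471 F44284) (tt N8070 (iv D22585)) (tt N10692 F44287) (tt N12267 F44285) (tt N14946 (iv F51638)) (tt N8944 F44286))
theorem Q12352 : ∀ i, i < 12352 → P i := stepQ 12351 Q12351 (allL N12351 (tt N9753 F44288) (tt N8472 F44289) (tt N14946 (iv F51636)) (tt N8071 F44290) (tt N12268 F44291) (tt N8070 (iv D22586)) (tt N12783 (iv F45620)))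
theorem Q12353 : ∀ i, i < 12353 → P i := stepQ 12352 Q12352 (allL N12352 (tt N9755 F44292) (tt N10594 F44293) (tt N10692 F44294) (tt N12783 (iv F45619)) (tt N8073 F44295) (tt N12348 F44296) (tt N8071 (iv D22587)))
theorem Q12354 : ∀ i, i < 12354 → P i := stepQ 12353 Q12353 (allL N12353 (tt N12753 (iv F45520)) (tt N8143 F44297) (tt N12766 (iv F45560)) (tt N8075 (iv D22588)) (tt N10073 F44298) (tt N10080 F44299) (tt N16603 D26892))
theorem Q12355 : ∀ i, i < 12355 → P i := stepQ 12354 Q12354 (allL N12354 (tt N12754 (iv F45523)) (tt N12450 (iv F44613)) (tt N8077 F44300) (tt N16603 (iv F55976)) (tt N10362 F44301) (tt N8481 F44302) (tt N8075 (iv D22589)))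
theorem Q12356 : ∀ i, i < 12356 → P i := stepQ 12355 Q12355 (allL N12355 (tt N12349 F44303) (tt N12406 (iv F44488)) (tt N10362 F44304) (tt N11804 F44305) (tt N8077 F44306) (tt N8474 F44307) (tt N8076 (iv D22590)))
theorem Q12357 : ∀ i, i < 12357 → P i := stepQ 12356 Q12356 (allL N12356 (tt N9657 F44308) (tt N8077 (iv D22591)) (tt N9656 (iv F44312)) (tt N8510 F44309) (tt N12406 (iv F44490)) (tt N8482 F44310) (tt N8083 F44311))
theorem Q12358 : ∀ i, i < 12358 → P i := stepQ 12357 Q12357 (allL N12357 (tt N16484 (iv F55591)) (tt N8078 (iv D22592)) (tt N12153 F44313) (tt N10572 F44314) (tt N16604 D26893) (tt N12147 (iv F44315)) (tt N16480 (iv F55585)))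
theorem Q12359 : ∀ i, i < 12359 → P i := stepQ 12358 Q12358 (allL N12358 (tt N8085 F44316) (tt N16604 (iv F55979)) (tt N8079 F44317) (tt N16605 D26894) (tt N8078 (iv D22593)) (tt N16606 D26895) (tt N16607 D26896))
theorem Q12360 : ∀ i, i < 12360 → P i := stepQ 12359 Q12359 (allL N12359 (tt N8086 F44318) (tt N16608 D26897) (tt N8080 F44319) (tt N12375 (iv F44366)) (tt N16606 (iv F55985)) (tt N8078 (iv D22594)) (tt N8132 F44320))
theorem Q12361 : ∀ i, i < 12361 → P i := stepQ 12360 Q12360 (allL N12360 (tt N8087 F44321) (tt N16609 D26898) (tt N8081 F44322) (tt N8127 F44323) (tt N16607 (iv F55989)) (tt N8125 F44324) (tt N8078 (iv D22595)))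
theorem Q12362 : ∀ i, i < 12362 → P i := stepQ 12361 Q12361 (allL N12361 (tt N8088 F44325) (tt N12650 (iv F45244)) (tt N12366 (iv F44341)) (tt N8079 (iv D22596)) (tt N8082 F44326) (tt N8131 (iv F44327)) (tt N12404 (iv F44483)))
theorem Q12363 : ∀ i, i < 12363 → P i := stepQ 12362 Q12362 (allL N12362 (tt N8089 F44328) (tt N12681 (iv F45334)) (tt N16606 (iv F55984)) (tt N8131 F44329) (tt N8080 F44330) (tt N8079 (iv D22597)) (tt N8129 F44331))
theorem Q12364 : ∀ i, i < 12364 → P i := stepQ 12363 Q12363 (allL N12363 (tt N8090 F44332) (tt N16610 D26899) (tt N16607 (iv F55988)) (tt N12404 (iv F44481)) (tt N8081 F44333) (tt N12374 (iv F44363)) (tt N8079 (iv D22598)))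
theorem Q12365 : ∀ i, i < 12365 → P i := stepQ 12364 Q12364 (allL N12364 (tt N9660 F44336) (tt N8081 (iv D22599)) (tt N13953 (iv F48874)) (tt N8083 F44334) (tt N16610 (iv F55999)) (tt N12772 (iv F45582)) (tt N8510 F44335))
theorem Q12366 : ∀ i, i < 12366 → P i := stepQ 12365 Q12365 (allL N12365 (tt N9661 F44337) (tt N12376 (iv F44368)) (tt N9659 F44338) (tt N12772 (iv F45581)) (tt N12401 (iv F44471)) (tt N8083 (iv D22600)) (tt N10733 F44339))
theorem Q12367 : ∀ i, i < 12367 → P i := stepQ 12366 Q12366 (allL N12366 (tt N12372 (iv F44354)) (tt N12249 F44340) (tt N12361 F44341) (tt N16611 D26900) (tt N8084 (iv D22601)) (tt N12410 F44502) (tt N16612 D26901))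
theorem Q12368 : ∀ i, i < 12368 → P i := stepQ 12367 Q12367 (allL N12367 (tt N8127 F44342) (tt N16613 D26902) (tt N8123 F44343) (tt N8087 F44344) (tt N16612 (iv F56006)) (tt N8121 (iv F44345)) (tt N8084 (iv D22602)))
theorem Q12369 : ∀ i, i < 12369 → P i := stepQ 12368 Q12368 (allL N12368 (tt N16605 (iv F55982)) (tt N12251 F44346) (tt N16614 D26903) (tt N8085 (iv D22603)) (tt N16611 (iv F56003)) (tt N16615 D26904) (tt N16616 D26905))
theorem Q12370 : ∀ i, i < 12370 → P i := stepQ 12369 Q12369 (allL N12369 (tt N16606 (iv F55983)) (tt N8733 F44347) (tt N8089 F44348) (tt N16615 (iv F56013)) (tt N8086 F44349) (tt N8085 (iv D22604)) (tt N12407 (iv F44494)))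
theorem Q12371 : ∀ i, i < 12371 → P i := stepQ 12370 Q12370 (allL N12370 (tt N16607 (iv F55987)) (tt N16617 D26906) (tt N8090 F44350) (tt N16616 (iv F56014)) (tt N8087 F44351) (tt N12412 (iv F44507)) (tt N8085 (iv D22605)))
theorem Q12372 : ∀ i, i < 12372 → P i := stepQ 12371 Q12371 (allL N12371 (tt N13330 (iv F47010)) (tt N8087 (iv D22606)) (tt N8252 F44352) (tt N16613 (iv F56009)) (tt N16617 (iv F56016)) (tt N13327 (iv F47005)) (tt N12253 F44353))
theorem Q12373 : ∀ i, i < 12373 → P i := stepQ 12372 Q12372 (allL N12372 (tt N12366 F44354) (tt N14859 (iv F51348)) (tt N8088 (iv D22607)) (tt N16618 D26907) (tt N8092 F44355) (tt N16619 D26908) (tt N12409 F44498))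
theorem Q12374 : ∀ i, i < 12374 → P i := stepQ 12373 Q12373 (allL N12373 (tt N8131 F44356) (tt N12711 (iv F45407)) (tt N16619 (iv F56021)) (tt N8089 F44357) (tt N8093 F44358) (tt N8088 (iv D22608)) (tt N8122 F44359))
theorem Q12375 : ∀ i, i < 12375 → P i := stepQ 12374 Q12374 (allL N12374 (tt N8129 F44360) (tt N12659 (iv F45281)) (tt N12407 (iv F44493)) (tt N8122 F44361) (tt N8091 F44362) (tt N12363 F44363) (tt N8089 (iv D22609)))
theorem Q12376 : ∀ i, i < 12376 → P i := stepQ 12375 Q12375 (allL N12375 (tt N8128 F44364) (tt N16620 D26909) (tt N8093 F44365) (tt N12359 F44366) (tt N16619 (iv F56022)) (tt N8092 (iv D22610)) (tt N8121 F44367))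
theorem Q12377 : ∀ i, i < 12377 → P i := stepQ 12376 Q12376 (allL N12376 (tt N12395 (iv F44444)) (tt N12365 F44368) (tt N10325 F44369) (tt N11761 F44370) (tt N8120 F44371) (tt N8094 (iv D22611)) (tt N8477 F44372))
theorem Q12378 : ∀ i, i < 12378 → P i := stepQ 12377 Q12377 (allL N12377 (tt N8095 (iv D22612)) (tt N10332 F44373) (tt N9288 F44374) (tt N10333 F44375) (tt N9241 F44376) (tt N13982 (iv F48960)) (tt N16621 D26910))
theorem Q12379 : ∀ i, i < 12379 → P i := stepQ 12378 Q12378 (allL N12378 (tt N13982 (iv F48957)) (tt N9255 F44377) (tt N9290 F44378) (tt N12292 F44379) (tt N9243 F44380) (tt N8095 (iv D22613)) (tt N14956 (iv F51673)))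
theorem Q12380 : ∀ i, i < 12380 → P i := stepQ 12379 Q12379 (allL N12379 (tt N16621 (iv F56029)) (tt N8100 F44381) (tt N9291 F44382) (tt N12293 F44383) (tt N9244 F44384) (tt N14969 (iv F51721)) (tt N8095 (iv D22614)))
theorem Q12381 : ∀ i, i < 12381 → P i := stepQ 12380 Q12380 (allL N12380 (tt N10584 F44385) (tt N15870 (iv F53839)) (tt N12385 (iv F44412)) (tt N10589 F44386) (tt N8097 (iv D22615)) (tt N10798 F44387) (tt N10700 F44388))
theorem Q12382 : ∀ i, i < 12382 → P i := stepQ 12381 Q12381 (allL N12381 (tt N10635 F44389) (tt N9244 F44390) (tt N10588 F44391) (tt N13267 (iv F46831)) (tt N8100 F44392) (tt N10634 F44393) (tt N8098 (iv D22616)))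
theorem Q12383 : ∀ i, i < 12383 → P i := stepQ 12382 Q12382 (allL N12382 (tt N8102 (iv D22617)) (tt N8175 F44394) (tt N8193 F44395) (tt N12283 (iv F44398)) (tt N8193 F44396) (tt N8102 F44397) (tt N12282 F44399))
theorem Q12384 : ∀ i, i < 12384 → P i := stepQ 12383 Q12383 (allL N12383 (tt N12283 F44400) (tt N8103 F44401) (tt N12130 F44403) (tt N8102 (iv D22618)) (tt N16622 D26911) (tt N12283 F44402) (tt N12281 (iv F44404)))
theorem Q12385 : ∀ i, i < 12385 → P i := stepQ 12384 Q12384 (allL N12384 (tt N12282 F44405) (tt N10783 F44406) (tt N8202 F44407) (tt N12281 F44408) (tt N8202 F44409) (tt N12384 F44410) (tt N8102 (iv D22619)))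
theorem Q12386 : ∀ i, i < 12386 → P i := stepQ 12385 Q12385 (allL N12385 (tt N8108 F44411) (tt N16622 (iv F56036)) (tt N12380 F44412) (tt N8200 F44413) (tt N8103 (iv D22620)) (tt N8177 F44414) (tt N10784 F44415))
theorem Q12387 : ∀ i, i < 12387 → P i := stepQ 12386 Q12386 (allL N12386 (tt N8106 F44416) (tt N16623 D26912) (tt N8112 F44417) (tt N14712 (iv F50822)) (tt N10803 F44418) (tt N8104 (iv D22621)) (tt N12392 (iv F44436)))
theorem Q12388 : ∀ i, i < 12388 → P i := stepQ 12387 Q12387 (allL N12387 (tt N8107 F44419) (tt N9716 F44420) (tt N8113 F44421) (tt N12321 F44422) (tt N9734 F44423) (tt N12391 (iv F44432)) (tt N8104 (iv D22622)))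
theorem Q12389 : ∀ i, i < 12389 → P i := stepQ 12388 Q12388 (allL N12388 (tt N12322 F44424) (tt N12156 F44425) (tt N8105 (iv D22623)) (tt N16364 (iv F55185)) (tt N16624 D26913) (tt N14831 (iv F51250)) (tt N10342 F44426))
theorem Q12390 : ∀ i, i < 12390 → P i := stepQ 12389 Q12389 (allL N12389 (tt N14322 F49889) (tt N8108 F44427) (tt N16624 (iv F56048)) (tt N10799 F44428) (tt N8105 (iv D22624)) (tt N16625 D26914) (tt N14536 (iv F50401)))
theorem Q12391 : ∀ i, i < 12391 → P i := stepQ 12390 Q12390 (allL N12390 (tt N14712 (iv F50821)) (tt N14187 F49553) (tt N14831 (iv F51248)) (tt N8106 F44429) (tt N16625 (iv F56051)) (tt N8105 (iv D22625)) (tt N14830 F51245))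
theorem Q12392 : ∀ i, i < 12392 → P i := stepQ 12391 Q12391 (allL N12391 (tt N12392 (iv F44433)) (tt N14184 (iv F49540)) (tt N8117 F44430) (tt N14830 F51244) (tt N10804 F44431) (tt N12387 F44432) (tt N8106 (iv D22626)))
theorem Q12393 : ∀ i, i < 12393 → P i := stepQ 12392 Q12392 (allL N12392 (tt N12391 F44433) (tt N14777 (iv F51053)) (tt N8118 F44434) (tt N14778 (iv F51058)) (tt N10776 F44435) (tt N8107 (iv D22627)) (tt N12386 F44436))
theorem Q12394 : ∀ i, i < 12394 → P i := stepQ 12393 Q12393 (allL N12393 (tt N14193 (iv F49571)) (tt N8109 (iv D22628)) (tt N14729 (iv F50877)) (tt N8110 F44437) (tt N14941 (iv F51620)) (tt N14187 (iv F49552)) (tt N9927 F44438))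
theorem Q12395 : ∀ i, i < 12395 → P i := stepQ 12394 Q12394 (allL N12394 (tt N8115 F44439) (tt N8494 F44440) (tt N10803 F44441) (tt N8552 F44442) (tt N8112 F44443) (tt N8111 (iv D22629)) (tt N12398 (iv F44462)))
theorem Q12396 : ∀ i, i < 12396 → P i := stepQ 12395 Q12395 (allL N12395 (tt N12376 F44444) (tt N8112 (iv D22630)) (tt N10336 (iv F44449)) (tt N11746 F44445) (tt N8494 F44446) (tt N8478 F44447) (tt N10334 F44448))
theorem Q12397 : ∀ i, i < 12397 → P i := stepQ 12396 Q12396 (allL N12396 (tt N12610 (iv F45130)) (tt N8460 F44450) (tt N8114 (iv D22631)) (tt N10776 F44453) (tt N12326 F44451) (tt N8928 F44452) (tt N14994 (iv F51805)))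
theorem Q12398 : ∀ i, i < 12398 → P i := stepQ 12397 Q12397 (allL N12397 (tt N9733 F44454) (tt N8461 F44455) (tt N14994 (iv F51803)) (tt N8116 F44456) (tt N12328 F44457) (tt N12808 (iv F45704)) (tt N8114 (iv D22632)))
theorem Q12399 : ∀ i, i < 12399 → P i := stepQ 12398 Q12398 (allL N12398 (tt N9735 F44458) (tt N10539 F44459) (tt N10776 F44460) (tt N12808 (iv F45703)) (tt N8118 F44461) (tt N8116 (iv D22633)) (tt N12394 F44462))
theorem Q12400 : ∀ i, i < 12400 → P i := stepQ 12399 Q12399 (allL N12399 (tt N12757 (iv F45530)) (tt N8178 F44463) (tt N12791 (iv F45644)) (tt N8119 (iv D22634)) (tt N10039 F44464) (tt N16626 D26915) (tt N10046 F44465))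
theorem Q12401 : ∀ i, i < 12401 → P i := stepQ 12400 Q12400 (allL N12400 (tt N12758 (iv F45533)) (tt N12485 (iv F44716)) (tt N8120 F44466) (tt N16626 (iv F56053)) (tt N10325 F44467) (tt N8119 (iv D22635)) (tt N8489 F44468))
theorem Q12402 : ∀ i, i < 12402 → P i := stepQ 12401 Q12401 (allL N12401 (tt N9664 F44469) (tt N8120 (iv D22636)) (tt N9663 (iv F44474)) (tt N8539 F44470) (tt N12365 F44471) (tt N8124 F44472) (tt N8490 F44473))
theorem Q12403 : ∀ i, i < 12403 → P i := stepQ 12402 Q12402 (allL N12402 (tt N16344 (iv F55124)) (tt N8121 (iv D22637)) (tt N11950 F44475) (tt N10623 F44476) (tt N16627 D26916) (tt N16339 (iv F55115)) (tt N11942 (iv F44477)))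
theorem Q12404 : ∀ i, i < 12404 → P i := stepQ 12403 Q12403 (allL N12403 (tt N8126 F44478) (tt N16627 (iv F56056)) (tt N8122 F44479) (tt N16628 D26917) (tt N8121 (iv D22638)) (tt N16612 F56007) (tt N16619 (iv F56023)))
theorem Q12405 : ∀ i, i < 12405 → P i := stepQ 12404 Q12404 (allL N12404 (tt N8130 F44480) (tt N16629 D26918) (tt N16612 (iv F56005)) (tt N12363 F44481) (tt N8123 F44482) (tt N8122 (iv D22639)) (tt N12361 F44483))
theorem Q12406 : ∀ i, i < 12406 → P i := stepQ 12405 Q12405 (allL N12405 (tt N9667 F44484) (tt N8123 (iv D22640)) (tt N13974 (iv F48928)) (tt N8124 F44485) (tt N16629 (iv F56062)) (tt N8539 F44486) (tt N12797 (iv F45666)))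
theorem Q12407 : ∀ i, i < 12407 → P i := stepQ 12406 Q12406 (allL N12406 (tt N9668 F44487) (tt N12355 F44488) (tt N9666 F44489) (tt N12797 (iv F45665)) (tt N12356 F44490) (tt N10648 F44491) (tt N8124 (iv D22641)))
theorem Q12408 : ∀ i, i < 12408 → P i := stepQ 12407 Q12407 (allL N12407 (tt N12412 (iv F44505)) (tt N12308 F44492) (tt N12374 F44493) (tt N16630 D26919) (tt N8125 (iv D22642)) (tt N16607 (iv F55990)) (tt N12369 F44494))
theorem Q12409 : ∀ i, i < 12409 → P i := stepQ 12408 Q12408 (allL N12408 (tt N16628 (iv F56059)) (tt N12310 F44495) (tt N16631 D26920) (tt N8126 (iv D22643)) (tt N16630 (iv F56065)) (tt N16632 D26921) (tt N16633 D26922))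
theorem Q12410 : ∀ i, i < 12410 → P i := stepQ 12409 Q12409 (allL N12409 (tt N16612 (iv F56004)) (tt N16634 D26923) (tt N8130 F44496) (tt N16632 (iv F56067)) (tt N8127 F44497) (tt N8126 (iv D22644)) (tt N12372 (iv F44498)))
theorem Q12411 : ∀ i, i < 12411 → P i := stepQ 12410 Q12410 (allL N12410 (tt N16619 (iv F56020)) (tt N8778 F44499) (tt N8131 F44500) (tt N16633 (iv F56070)) (tt N8128 F44501) (tt N12366 (iv F44502)) (tt N8126 (iv D22645)))
theorem Q12412 : ∀ i, i < 12412 → P i := stepQ 12411 Q12411 (allL N12411 (tt N13384 (iv F47156)) (tt N8127 (iv D22646)) (tt N8253 F44503) (tt N16609 (iv F55996)) (tt N16634 (iv F56074)) (tt N12312 F44504) (tt N13381 (iv F47152)))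
theorem Q12413 : ∀ i, i < 12413 → P i := stepQ 12412 Q12412 (allL N12412 (tt N12407 F44505) (tt N14890 (iv F51457)) (tt N8129 (iv D22647)) (tt N16635 D26924) (tt N8132 F44506) (tt N12370 F44507) (tt N16606 (iv F55986)))
theorem Q12414 : ∀ i, i < 12414 → P i := stepQ 12413 Q12413 (allL N12413 (tt N12422 (iv F44541)) (tt N9701 F44508) (tt N8134 F44509) (tt N9697 F44510) (tt N8144 F44511) (tt N8133 (iv D22648)) (tt N8136 F44512))
theorem Q12415 : ∀ i, i < 12415 → P i := stepQ 12414 Q12414 (allL N12414 (tt N12439 (iv F44591)) (tt N8135 (iv D22649)) (tt N14909 (iv F51514)) (tt N8151 F44513) (tt N8151 F44514) (tt N16636 D26925) (tt N12436 F44588))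
theorem Q12416 : ∀ i, i < 12416 → P i := stepQ 12415 Q12415 (allL N12415 (tt N8136 F44515) (tt N16637 D26926) (tt N8135 (iv D22650)) (tt N14730 (iv F50882)) (tt N8152 F44516) (tt N8138 F44517) (tt N12422 (iv F44544)))
theorem Q12417 : ∀ i, i < 12417 → P i := stepQ 12416 Q12416 (allL N12416 (tt N14730 (iv F50880)) (tt N12155 F44518) (tt N9698 (iv F44521)) (tt N8136 (iv D22651)) (tt N16638 D26927) (tt N8139 F44519) (tt N9697 F44520))
theorem Q12418 : ∀ i, i < 12418 → P i := stepQ 12417 Q12417 (allL N12417 (tt N8137 (iv D22652)) (tt N8155 F44522) (tt N16639 D26928) (tt N8155 F44523) (tt N8155 F44524) (tt N8187 F44526) (tt N8180 F44525))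
theorem Q12419 : ∀ i, i < 12419 → P i := stepQ 12418 Q12418 (allL N12418 (tt N16639 (iv F56095)) (tt N13679 (iv F48099)) (tt N8137 (iv D22653)) (tt N9480 (iv F44529)) (tt N8156 F44527) (tt N9466 F44530) (tt N8181 F44528))
theorem Q12420 : ∀ i, i < 12420 → P i := stepQ 12419 Q12419 (allL N12419 (tt N8187 F44531) (tt N16636 (iv F56080)) (tt N9466 F44532) (tt N8157 F44533) (tt N8157 F44534) (tt N8137 (iv D22654)) (tt N8185 F44535))
theorem Q12421 : ∀ i, i < 12421 → P i := stepQ 12420 Q12420 (allL N12420 (tt N9443 (iv F44538)) (tt N8138 (iv D22655)) (tt N13679 (iv F48100)) (tt N9441 F44536) (tt N8158 F44537) (tt N13678 F48098) (tt N14732 (iv F50889)))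
theorem Q12422 : ∀ i, i < 12422 → P i := stepQ 12421 Q12421 (allL N12421 (tt N14374 (iv F50012)) (tt N8142 F44539) (tt N14373 (iv F50009)) (tt N8161 F44540) (tt N8139 (iv D22656)) (tt N16638 (iv F56093)) (tt N14372 F50007))
theorem Q12423 : ∀ i, i < 12423 → P i := stepQ 12422 Q12422 (allL N12422 (tt N12413 F44541) (tt N13516 F47538) (tt N8141 F44542) (tt N13961 (iv F48896)) (tt N8164 F44543) (tt N8140 (iv D22657)) (tt N12415 F44544))
theorem Q12424 : ∀ i, i < 12424 → P i := stepQ 12423 Q12423 (allL N12423 (tt N16640 D26929) (tt N8141 (iv D22658)) (tt N13571 (iv F47728)) (tt N8165 F44545) (tt N8165 F44546) (tt N8165 F44547) (tt N12475 (iv F44696)))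
theorem Q12425 : ∀ i, i < 12425 → P i := stepQ 12424 Q12424 (allL N12424 (tt N12454 (iv F44621)) (tt N10073 F44548) (tt N14728 (iv F50873)) (tt N10069 F44549) (tt N8143 (iv D22659)) (tt N16641 D26930) (tt N12452 (iv F44618)))
theorem Q12426 : ∀ i, i < 12426 → P i := stepQ 12425 Q12425 (allL N12425 (tt N12456 (iv F44629)) (tt N12770 (iv F45575)) (tt N12768 F45570) (tt N8144 F44550) (tt N16641 (iv F56109)) (tt N8143 (iv D22660)) (tt N8153 F44551))
theorem Q12427 : ∀ i, i < 12427 → P i := stepQ 12426 Q12426 (allL N12426 (tt N14020 (iv F49043)) (tt N8144 (iv D22661)) (tt N9679 (iv F44555)) (tt N12770 (iv F45577)) (tt N9701 F44552) (tt N9710 F44553) (tt N9687 F44554))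
theorem Q12428 : ∀ i, i < 12428 → P i := stepQ 12427 Q12427 (allL N12427 (tt N12467 (iv F44666)) (tt N9679 F44556) (tt N8145 (iv D22662)) (tt N9675 (iv F44560)) (tt N8179 F44557) (tt N8147 F44558) (tt N8154 F44559))
theorem Q12429 : ∀ i, i < 12429 → P i := stepQ 12428 Q12428 (allL N12428 (tt N12475 (iv F44692)) (tt N8146 (iv D22663)) (tt N14964 (iv F51700)) (tt N8182 F44561) (tt N8182 F44562) (tt N12459 (iv F44641)) (tt N16640 (iv F56106)))
theorem Q12430 : ∀ i, i < 12430 → P i := stepQ 12429 Q12429 (allL N12429 (tt N8147 F44563) (tt N16642 D26931) (tt N8146 (iv D22664)) (tt N14711 (iv F50819)) (tt N8183 F44564) (tt N12467 (iv F44669)) (tt N8173 F44565))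
theorem Q12431 : ∀ i, i < 12431 → P i := stepQ 12430 Q12430 (allL N12430 (tt N14711 (iv F50817)) (tt N11952 F44566) (tt N9676 (iv F44569)) (tt N8147 (iv D22665)) (tt N16643 D26932) (tt N9675 F44567) (tt N8174 F44568))
theorem Q12432 : ∀ i, i < 12432 → P i := stepQ 12431 Q12431 (allL N12431 (tt N12431 F44570) (tt N8148 (iv D22666)) (tt N12472 (iv F44690)) (tt N12472 (iv F44683)) (tt N12472 (iv F44684)) (tt N12472 (iv F44685)) (tt N12472 (iv F44686)))
theorem Q12433 : ∀ i, i < 12433 → P i := stepQ 12432 Q12432 (allL N12432 (tt N8149 F44571) (tt N12473 (iv F44689)) (tt N8148 (iv D22667)) (tt N9681 (iv F44572)) (tt N12473 (iv F44688)) (tt N16644 D26933) (tt N12444 (iv F44602)))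
theorem Q12434 : ∀ i, i < 12434 → P i := stepQ 12433 Q12433 (allL N12433 (tt N8150 F44573) (tt N8185 F44577) (tt N16644 (iv F56123)) (tt N8185 F44574) (tt N8185 F44575) (tt N8148 (iv D22668)) (tt N8157 F44576))
theorem Q12435 : ∀ i, i < 12435 → P i := stepQ 12434 Q12434 (allL N12434 (tt N16644 (iv F56121)) (tt N13688 (iv F48133)) (tt N8150 F44578) (tt N9488 F44579) (tt N8186 F44580) (tt N8149 (iv D22669)) (tt N9471 (iv F44581)))
theorem Q12436 : ∀ i, i < 12436 → P i := stepQ 12435 Q12435 (allL N12435 (tt N8157 F44582) (tt N16640 (iv F56101)) (tt N9471 F44583) (tt N8187 F44584) (tt N8187 F44585) (tt N8155 F44586) (tt N8150 (iv D22670)))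
theorem Q12437 : ∀ i, i < 12437 → P i := stepQ 12436 Q12436 (allL N12436 (tt N8151 (iv D22671)) (tt N12475 (iv F44693)) (tt N13590 (iv F47804)) (tt N12439 (iv F44592)) (tt N12439 (iv F44593)) (tt N8195 F44587) (tt N12414 (iv F44588)))
theorem Q12438 : ∀ i, i < 12438 → P i := stepQ 12437 Q12437 (allL N12437 (tt N13590 F47808) (tt N16645 D26934) (tt N8151 (iv D22672)) (tt N14922 (iv F51569)) (tt N14909 (iv F51515)) (tt N13593 (iv F47820)) (tt N10657 F47715))
theorem Q12439 : ∀ i, i < 12439 → P i := stepQ 12438 Q12438 (allL N12438 (tt N8195 F44589) (tt N8157 F44590) (tt N13593 (iv F47818)) (tt N16636 (iv F56082)) (tt N16636 (iv F56083)) (tt N8151 (iv D22673)) (tt N16636 (iv F56084)))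
theorem Q12440 : ∀ i, i < 12440 → P i := stepQ 12439 Q12439 (allL N12439 (tt N12414 F44591) (tt N12459 (iv F44640)) (tt N10657 (iv F47712)) (tt N12436 F44592) (tt N12436 F44593) (tt N12468 (iv F44672)) (tt N8151 (iv D22674)))
theorem Q12441 : ∀ i, i < 12441 → P i := stepQ 12440 Q12440 (allL N12440 (tt N16646 D26935) (tt N8152 (iv D22675)) (tt N16645 (iv F56128)) (tt N16647 D26936) (tt N16637 (iv F56087)) (tt N16648 D26937) (tt N9212 F44594))
theorem Q12442 : ∀ i, i < 12442 → P i := stepQ 12441 Q12441 (allL N12441 (tt N8153 F44595) (tt N16647 (iv F56140)) (tt N13960 (iv F48892)) (tt N8152 (iv D22676)) (tt N16649 D26938) (tt N8159 F44596) (tt N12456 (iv F44633)))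
theorem Q12443 : ∀ i, i < 12443 → P i := stepQ 12442 Q12442 (allL N12442 (tt N13960 (iv F48890)) (tt N16493 (iv F55617)) (tt N8153 (iv D22677)) (tt N10358 F44598) (tt N16650 D26939) (tt N8160 F44597) (tt N12768 (iv F45569)))
theorem Q12444 : ∀ i, i < 12444 → P i := stepQ 12443 Q12443 (allL N12443 (tt N16649 (iv F56148)) (tt N14870 (iv F51380)) (tt N16650 (iv F56150)) (tt N16638 (iv F56092)) (tt N8153 (iv D22678)) (tt N8161 F44599) (tt N16641 (iv F56110)))
theorem Q12445 : ∀ i, i < 12445 → P i := stepQ 12444 Q12444 (allL N12444 (tt N8156 F44600) (tt N9201 F44604) (tt N8155 (iv D22679)) (tt N9483 (iv F44603)) (tt N16639 (iv F56098)) (tt N9471 F44601) (tt N12432 F44602))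
theorem Q12446 : ∀ i, i < 12446 → P i := stepQ 12445 Q12445 (allL N12445 (tt N12818 (iv F45735)) (tt N8156 (iv D22680)) (tt N8158 F44605) (tt N13938 (iv F48842)) (tt N13679 (iv F48102)) (tt N13671 (iv F48071)) (tt N13929 (iv F48817)))
theorem Q12447 : ∀ i, i < 12447 → P i := stepQ 12446 Q12446 (allL N12446 (tt N9471 F44606) (tt N9457 F44610) (tt N8157 F44607) (tt N9486 F44608) (tt N9466 F44609) (tt N8156 (iv D22681)) (tt N16644 (iv F56126)))
theorem Q12448 : ∀ i, i < 12448 → P i := stepQ 12447 Q12447 (allL N12447 (tt N8158 (iv D22682)) (tt N16651 D26940) (tt N12818 F45738) (tt N13394 (iv F54854)) (tt N9443 F44611) (tt N14007 (iv F49024)) (tt N16273 (iv F54882)))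
theorem Q12449 : ∀ i, i < 12449 → P i := stepQ 12448 Q12448 (allL N12448 (tt N13394 (iv F54855)) (tt N8159 F44612) (tt N13393 (iv F54853)) (tt N8158 (iv D22683)) (tt N16652 D26941) (tt N16653 D26942) (tt N16271 (iv F54873)))
theorem Q12450 : ∀ i, i < 12450 → P i := stepQ 12449 Q12449 (allL N12449 (tt N14007 (iv F49022)) (tt N16648 (iv F56144)) (tt N13671 F48073) (tt N16653 (iv F56160)) (tt N13678 (iv F48096)) (tt N8158 (iv D22684)) (tt N13673 (iv F48079)))
theorem Q12451 : ∀ i, i < 12451 → P i := stepQ 12450 Q12450 (allL N12450 (tt N16273 (iv F54878)) (tt N12354 F44613) (tt N13929 (iv F48813)) (tt N16271 (iv F54874)) (tt N14732 (iv F50888)) (tt N16654 D26943) (tt N8158 (iv D22685)))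
theorem Q12452 : ∀ i, i < 12452 → P i := stepQ 12451 Q12451 (allL N12451 (tt N8160 F44614) (tt N16655 D26944) (tt N8159 (iv D22686)) (tt N10356 F44615) (tt N16656 D26945) (tt N13960 (iv F48894)) (tt N10353 F44616))
theorem Q12453 : ∀ i, i < 12453 → P i := stepQ 12452 Q12452 (allL N12452 (tt N8161 F44617) (tt N16652 (iv F56157)) (tt N16656 (iv F56173)) (tt N14374 (iv F50014)) (tt N8159 (iv D22687)) (tt N16649 (iv F56149)) (tt N12424 F44618))
theorem Q12454 : ∀ i, i < 12454 → P i := stepQ 12453 Q12453 (allL N12453 (tt N16656 (iv F56172)) (tt N14763 (iv F50998)) (tt N8161 F44619) (tt N16657 D26946) (tt N8160 (iv D22688)) (tt N16650 (iv F56151)) (tt N10352 F44620))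
theorem Q12455 : ∀ i, i < 12455 → P i := stepQ 12454 Q12454 (allL N12454 (tt N12424 F44621) (tt N16658 D26947) (tt N10352 F44622) (tt N14372 F50006) (tt N8162 F44623) (tt N16659 D26948) (tt N8161 (iv D22689)))
theorem Q12456 : ∀ i, i < 12456 → P i := stepQ 12455 Q12455 (allL N12455 (tt N8171 (iv F44628)) (tt N8162 (iv D22690)) (tt N8208 F44624) (tt N8163 F44625) (tt N16658 (iv F56180)) (tt N8207 (iv F44627)) (tt N8171 F44626))
theorem Q12457 : ∀ i, i < 12457 → P i := stepQ 12456 Q12456 (allL N12456 (tt N12425 F44629) (tt N8269 F44630) (tt N9695 F44631) (tt N8164 F44632) (tt N16659 (iv F56186)) (tt N8162 (iv D22691)) (tt N12441 F44633))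
theorem Q12458 : ∀ i, i < 12458 → P i := stepQ 12457 Q12457 (allL N12457 (tt N8172 F44634) (tt N8268 F44635) (tt N12223 F44636) (tt N8207 F44637) (tt N12223 F44638) (tt N8163 (iv D22692)) (tt N12457 F44639))
theorem Q12459 : ∀ i, i < 12459 → P i := stepQ 12458 Q12458 (allL N12458 (tt N8165 (iv D22693)) (tt N8187 (iv F44644)) (tt N13573 (iv F47735)) (tt N16640 (iv F56103)) (tt N16640 (iv F56104)) (tt N16640 (iv F56105)) (tt N8182 F44643))
theorem Q12460 : ∀ i, i < 12460 → P i := stepQ 12459 Q12459 (allL N12459 (tt N8182 (iv F44642)) (tt N12439 F44640) (tt N13567 F47710) (tt N12475 (iv F44694)) (tt N12475 (iv F44695)) (tt N12428 F44641) (tt N8165 (iv D22694)))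
theorem Q12461 : ∀ i, i < 12461 → P i := stepQ 12460 Q12460 (allL N12460 (tt N8166 (iv D22695)) (tt N13685 (iv F48121)) (tt N8167 F44645) (tt N9801 F44646) (tt N8574 F44647) (tt N9726 F44649) (tt N9741 F44648))
theorem Q12462 : ∀ i, i < 12462 → P i := stepQ 12461 Q12461 (allL N12461 (tt N9726 F44650) (tt N12495 (iv F44749)) (tt N8168 F44651) (tt N9803 F44652) (tt N8575 F44653) (tt N8166 (iv D22696)) (tt N8577 F44654))
theorem Q12463 : ∀ i, i < 12463 → P i := stepQ 12462 Q12462 (allL N12462 (tt N16651 (iv F56152)) (tt N8167 (iv D22697)) (tt N13609 (iv F47881)) (tt N14987 (iv F51778)) (tt N14173 (iv F49500)) (tt N16660 D26949) (tt N12462 F44655))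
theorem Q12464 : ∀ i, i < 12464 → P i := stepQ 12463 Q12463 (allL N12463 (tt N8168 F44656) (tt N16661 D26950) (tt N9726 F44657) (tt N13437 (iv F47293)) (tt N9762 F44658) (tt N8167 (iv D22698)) (tt N9210 F44659))
theorem Q12465 : ∀ i, i < 12465 → P i := stepQ 12464 Q12464 (allL N12464 (tt N16658 (iv F56177)) (tt N8170 (iv D22699)) (tt N16309 (iv F55019)) (tt N16599 (iv F55961)) (tt N8171 F44660) (tt N16308 F55017) (tt N16658 (iv F56181)))
theorem Q12466 : ∀ i, i < 12466 → P i := stepQ 12465 Q12465 (allL N12465 (tt N9452 (iv F44663)) (tt N8173 (iv D22700)) (tt N13688 (iv F48134)) (tt N9450 F44661) (tt N8188 F44662) (tt N14713 (iv F50826)) (tt N13687 F48132))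
theorem Q12467 : ∀ i, i < 12467 → P i := stepQ 12466 Q12466 (allL N12466 (tt N14319 (iv F49876)) (tt N8177 F44664) (tt N14318 (iv F49873)) (tt N8191 F44665) (tt N8174 (iv D22701)) (tt N14317 F49871) (tt N16643 (iv F56120)))
theorem Q12468 : ∀ i, i < 12468 → P i := stepQ 12467 Q12467 (allL N12467 (tt N12427 F44666) (tt N13539 F47612) (tt N8176 F44667) (tt N13937 (iv F48838)) (tt N8194 F44668) (tt N12429 F44669) (tt N8175 (iv D22702)))
theorem Q12469 : ∀ i, i < 12469 → P i := stepQ 12468 Q12468 (allL N12468 (tt N16636 (iv F56079)) (tt N8176 (iv D22703)) (tt N13592 (iv F47813)) (tt N8195 F44670) (tt N8195 F44671) (tt N12439 F44672) (tt N8195 F44673))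
theorem Q12470 : ∀ i, i < 12470 → P i := stepQ 12469 Q12469 (allL N12469 (tt N12490 (iv F44724)) (tt N10039 F44674) (tt N14709 (iv F50810)) (tt N10035 F44675) (tt N8178 (iv D22704)) (tt N12488 (iv F44721)) (tt N16662 D26951))
theorem Q12471 : ∀ i, i < 12471 → P i := stepQ 12470 Q12470 (allL N12470 (tt N12492 (iv F44732)) (tt N12795 (iv F45659)) (tt N12793 (iv F45653)) (tt N8179 F44676) (tt N16662 (iv F56194)) (tt N8184 F44677) (tt N8178 (iv D22705)))
theorem Q12472 : ∀ i, i < 12472 → P i := stepQ 12471 Q12471 (allL N12471 (tt N14001 (iv F49001)) (tt N8179 (iv D22706)) (tt N9701 F44678) (tt N12795 (iv F45661)) (tt N9679 F44679) (tt N9709 F44680) (tt N9688 F44681))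
theorem Q12473 : ∀ i, i < 12473 → P i := stepQ 12472 Q12472 (allL N12472 (tt N12472 F44682) (tt N8180 (iv D22707)) (tt N12431 F44690) (tt N12431 F44683) (tt N12431 F44684) (tt N12431 F44685) (tt N12431 F44686))
theorem Q12474 : ∀ i, i < 12474 → P i := stepQ 12473 Q12473 (allL N12473 (tt N8181 F44687) (tt N12432 F44689) (tt N8180 (iv D22708)) (tt N9703 (iv F44691)) (tt N12432 F44688) (tt N12480 (iv F44704)) (tt N16639 (iv F56100)))
theorem Q12475 : ∀ i, i < 12475 → P i := stepQ 12474 Q12474 (allL N12474 (tt N13567 (iv F47711)) (tt N16663 D26952) (tt N8182 (iv D22709)) (tt N14970 (iv F51730)) (tt N14964 (iv F51701)) (tt N10751 F47714) (tt N13573 (iv F47737)))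
theorem Q12476 : ∀ i, i < 12476 → P i := stepQ 12475 Q12475 (allL N12475 (tt N12428 F44692) (tt N12436 F44693) (tt N10751 (iv F47713)) (tt N12459 F44694) (tt N12459 F44695) (tt N8182 (iv D22710)) (tt N12423 F44696))
theorem Q12477 : ∀ i, i < 12477 → P i := stepQ 12476 Q12476 (allL N12476 (tt N16664 D26953) (tt N8183 (iv D22711)) (tt N16663 (iv F56197)) (tt N16665 D26954) (tt N16642 (iv F56113)) (tt N9248 F44697) (tt N16666 D26955))
theorem Q12478 : ∀ i, i < 12478 → P i := stepQ 12477 Q12477 (allL N12477 (tt N8184 F44698) (tt N16665 (iv F56209)) (tt N13936 (iv F48834)) (tt N8183 (iv D22712)) (tt N16667 D26956) (tt N12492 (iv F44736)) (tt N8189 F44699))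
theorem Q12479 : ∀ i, i < 12479 → P i := stepQ 12478 Q12478 (allL N12478 (tt N13936 (iv F48832)) (tt N16353 (iv F55145)) (tt N8184 (iv D22713)) (tt N10321 F44701) (tt N16668 D26957) (tt N12793 F45652) (tt N8190 F44700))
theorem Q12480 : ∀ i, i < 12480 → P i := stepQ 12479 Q12479 (allL N12479 (tt N16667 (iv F56217)) (tt N14899 (iv F51480)) (tt N16668 (iv F56219)) (tt N16643 (iv F56118)) (tt N8184 (iv D22714)) (tt N16662 (iv F56195)) (tt N8191 F44702))
theorem Q12481 : ∀ i, i < 12481 → P i := stepQ 12480 Q12480 (allL N12480 (tt N8186 F44703) (tt N9237 F44706) (tt N8185 (iv D22715)) (tt N9476 (iv F44707)) (tt N16644 (iv F56125)) (tt N12473 F44704) (tt N9466 F44705))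
theorem Q12482 : ∀ i, i < 12482 → P i := stepQ 12481 Q12481 (allL N12481 (tt N12820 (iv F45745)) (tt N8186 (iv D22716)) (tt N8188 F44708) (tt N13962 (iv F48900)) (tt N13688 (iv F48136)) (tt N13932 (iv F48824)) (tt N13674 (iv F48084)))
theorem Q12483 : ∀ i, i < 12483 → P i := stepQ 12482 Q12482 (allL N12482 (tt N9466 F44709) (tt N9462 (iv F44713)) (tt N8187 F44710) (tt N9478 F44711) (tt N9471 F44712) (tt N16639 (iv F56099)) (tt N8186 (iv D22717)))
theorem Q12484 : ∀ i, i < 12484 → P i := stepQ 12483 Q12483 (allL N12483 (tt N8188 (iv D22718)) (tt N16669 D26958) (tt N12820 F45748) (tt N13447 F47326) (tt N9452 F44714) (tt N16428 (iv F55392)) (tt N13988 (iv F48982)))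
theorem Q12485 : ∀ i, i < 12485 → P i := stepQ 12484 Q12484 (allL N12484 (tt N13447 (iv F47324)) (tt N8189 F44715) (tt N13446 (iv F47323)) (tt N8188 (iv D22719)) (tt N16670 D26959) (tt N16426 (iv F55382)) (tt N16671 D26960))
theorem Q12486 : ∀ i, i < 12486 → P i := stepQ 12485 Q12485 (allL N12485 (tt N16428 (iv F55388)) (tt N12400 F44716) (tt N13932 (iv F48821)) (tt N16426 (iv F55383)) (tt N14713 (iv F50825)) (tt N8188 (iv D22720)) (tt N16672 D26961))
theorem Q12487 : ∀ i, i < 12487 → P i := stepQ 12486 Q12486 (allL N12486 (tt N13988 (iv F48980)) (tt N16666 (iv F56213)) (tt N13674 F48085) (tt N16671 (iv F56229)) (tt N13687 (iv F48130)) (tt N13676 (iv F48091)) (tt N8188 (iv D22721)))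
theorem Q12488 : ∀ i, i < 12488 → P i := stepQ 12487 Q12487 (allL N12487 (tt N8190 F44717) (tt N16673 D26962) (tt N8189 (iv D22722)) (tt N10319 F44718) (tt N16674 D26963) (tt N10316 F44719) (tt N13936 (iv F48836)))
theorem Q12489 : ∀ i, i < 12489 → P i := stepQ 12488 Q12488 (allL N12488 (tt N8191 F44720) (tt N16670 (iv F56226)) (tt N16674 (iv F56242)) (tt N14319 (iv F49878)) (tt N8189 (iv D22723)) (tt N12469 F44721) (tt N16667 (iv F56218)))
theorem Q12490 : ∀ i, i < 12490 → P i := stepQ 12489 Q12489 (allL N12489 (tt N16674 (iv F56241)) (tt N14742 (iv F50921)) (tt N8191 F44722) (tt N16675 D26964) (tt N8190 (iv D22724)) (tt N10315 F44723) (tt N16668 (iv F56220)))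
theorem Q12491 : ∀ i, i < 12491 → P i := stepQ 12490 Q12490 (allL N12490 (tt N12469 F44724) (tt N16676 D26965) (tt N10315 F44725) (tt N14317 F49870) (tt N8192 F44726) (tt N8191 (iv D22725)) (tt N16677 D26966))
theorem Q12492 : ∀ i, i < 12492 → P i := stepQ 12491 Q12491 (allL N12491 (tt N8201 (iv F44730)) (tt N8192 (iv D22726)) (tt N8210 F44727) (tt N8193 F44728) (tt N16676 (iv F56249)) (tt N8201 F44729) (tt N8209 (iv F44731)))
theorem Q12493 : ∀ i, i < 12493 → P i := stepQ 12492 Q12492 (allL N12492 (tt N12470 F44732) (tt N8280 F44733) (tt N9673 F44734) (tt N8194 F44735) (tt N16677 (iv F56255)) (tt N12477 F44736) (tt N8192 (iv D22727)))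
theorem Q12494 : ∀ i, i < 12494 → P i := stepQ 12493 Q12493 (allL N12493 (tt N8202 F44737) (tt N8279 F44738) (tt N12282 F44739) (tt N8209 F44740) (tt N12282 F44741) (tt N12493 F44742) (tt N8193 (iv D22728)))
theorem Q12495 : ∀ i, i < 12495 → P i := stepQ 12494 Q12494 (allL N12494 (tt N8196 (iv D22729)) (tt N13694 (iv F48155)) (tt N8197 F44743) (tt N9854 F44744) (tt N8583 F44745) (tt N9761 F44746) (tt N9718 (iv F44747)))
theorem Q12496 : ∀ i, i < 12496 → P i := stepQ 12495 Q12495 (allL N12495 (tt N9718 F44748) (tt N12461 F44749) (tt N8199 F44750) (tt N9856 F44751) (tt N8584 F44752) (tt N8586 F44753) (tt N8196 (iv D22730)))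
theorem Q12497 : ∀ i, i < 12497 → P i := stepQ 12496 Q12496 (allL N12496 (tt N16669 (iv F56221)) (tt N8197 (iv D22731)) (tt N13613 (iv F47891)) (tt N14939 (iv F51614)) (tt N14194 (iv F49578)) (tt N12496 F44754) (tt N16678 D26967))
theorem Q12498 : ∀ i, i < 12498 → P i := stepQ 12497 Q12497 (allL N12497 (tt N8199 F44755) (tt N16679 D26968) (tt N9718 F44756) (tt N13489 (iv F47442)) (tt N9742 F44757) (tt N9246 F44758) (tt N8197 (iv D22732)))
theorem Q12499 : ∀ i, i < 12499 → P i := stepQ 12498 Q12498 (allL N12498 (tt N16676 (iv F56246)) (tt N8200 (iv D22733)) (tt N16458 (iv F55512)) (tt N16622 (iv F56038)) (tt N8201 F44759) (tt N16676 (iv F56250)) (tt N16457 F55509))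
theorem Q12500 : ∀ i, i < 12500 → P i := stepQ 12499 Q12499 (allL N12499 (tt N16308 (iv F55012)) (tt N8236 F44760) (tt N8203 (iv D22734)) (tt N11570 (iv F44763)) (tt N8207 F44761) (tt N16658 F56182) (tt N12499 F44762))
theorem Q12501 : ∀ i, i < 12501 → P i := stepQ 12500 Q12500 (allL N12500 (tt N16309 (iv F55018)) (tt N10351 F44764) (tt N16658 (iv F56178)) (tt N13599 (iv F47841)) (tt N8208 F44765) (tt N8203 (iv D22735)) (tt N16309 (iv F55021)))
theorem Q12502 : ∀ i, i < 12502 → P i := stepQ 12501 Q12501 (allL N12501 (tt N16457 (iv F55504)) (tt N8240 F44766) (tt N8204 (iv D22736)) (tt N11622 (iv F44769)) (tt N8209 F44767) (tt N12501 F44768) (tt N16676 F56251))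
theorem Q12503 : ∀ i, i < 12503 → P i := stepQ 12502 Q12502 (allL N12502 (tt N16458 (iv F55510)) (tt N10314 F44770) (tt N16676 (iv F56247)) (tt N13602 (iv F47851)) (tt N8210 F44771) (tt N16458 (iv F55514)) (tt N8204 (iv D22737)))
theorem Q12504 : ∀ i, i < 12504 → P i := stepQ 12503 Q12503 (allL N12503 (tt N8214 F44772) (tt N14844 (iv F51289)) (tt N9945 F44773) (tt N8212 F44774) (tt N8589 F44775) (tt N8211 (iv D22738)) (tt N12506 (iv F44788)))
theorem Q12505 : ∀ i, i < 12505 → P i := stepQ 12504 Q12504 (allL N12504 (tt N8215 F44776) (tt N14878 (iv F51411)) (tt N9946 F44777) (tt N8213 F44778) (tt N8590 F44779) (tt N12505 (iv F44783)) (tt N8211 (iv D22739)))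
theorem Q12506 : ∀ i, i < 12506 → P i := stepQ 12505 Q12505 (allL N12505 (tt N12506 (iv F44784)) (tt N16680 D26969) (tt N9948 F44780) (tt N8216 F44781) (tt N8594 F44782) (tt N12504 F44783) (tt N8214 (iv D22740)))
theorem Q12507 : ∀ i, i < 12507 → P i := stepQ 12506 Q12506 (allL N12506 (tt N12505 F44784) (tt N16681 D26970) (tt N9950 F44785) (tt N8217 F44786) (tt N8596 F44787) (tt N8215 (iv D22741)) (tt N12503 F44788))
theorem Q12508 : ∀ i, i < 12508 → P i := stepQ 12507 Q12507 (allL N12507 (tt N13003 (iv F46190)) (tt N8216 (iv D22742)) (tt N16617 (iv F56015)) (tt N16680 (iv F56264)) (tt N8252 F44789) (tt N13001 F46188) (tt N14036 (iv F49101)))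
theorem Q12509 : ∀ i, i < 12509 → P i := stepQ 12508 Q12508 (allL N12508 (tt N13078 (iv F46372)) (tt N8217 (iv D22743)) (tt N16634 (iv F56073)) (tt N16681 (iv F56266)) (tt N8253 F44790) (tt N14093 (iv F49260)) (tt N13075 F46368))
theorem Q12510 : ∀ i, i < 12510 → P i := stepQ 12509 Q12509 (allL N12509 (tt N8218 (iv D22744)) (tt N16682 D26971) (tt N16683 D26972) (tt N8220 F44791) (tt N8605 F44792) (tt N14027 (iv F49071)) (tt N16684 D26973))
theorem Q12511 : ∀ i, i < 12511 → P i := stepQ 12510 Q12510 (allL N12510 (tt N16683 (iv F56270)) (tt N9934 F44793) (tt N8218 (iv D22745)) (tt N16685 D26974) (tt N8606 F44794) (tt N14034 (iv F49095)) (tt N16686 D26975))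
theorem Q12512 : ∀ i, i < 12512 → P i := stepQ 12511 Q12511 (allL N12511 (tt N16684 (iv F56275)) (tt N12530 (iv F44846)) (tt N16686 (iv F56280)) (tt N8221 F44795) (tt N8607 F44796) (tt N16687 D26976) (tt N8218 (iv D22746)))
theorem Q12513 : ∀ i, i < 12513 → P i := stepQ 12512 Q12512 (allL N12512 (tt N8219 (iv D22747)) (tt N16688 D26977) (tt N16689 D26978) (tt N8222 F44797) (tt N8608 F44798) (tt N16690 D26979) (tt N14084 (iv F49231)))
theorem Q12514 : ∀ i, i < 12514 → P i := stepQ 12513 Q12513 (allL N12513 (tt N16689 (iv F56289)) (tt N9937 F44799) (tt N8219 (iv D22748)) (tt N16691 D26980) (tt N8609 F44800) (tt N16692 D26981) (tt N14091 (iv F49255)))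
theorem Q12515 : ∀ i, i < 12515 → P i := stepQ 12514 Q12514 (allL N12514 (tt N16690 (iv F56291)) (tt N12526 (iv F44837)) (tt N16692 (iv F56296)) (tt N8223 F44801) (tt N8610 F44802) (tt N8219 (iv D22749)) (tt N16693 D26982))
theorem Q12516 : ∀ i, i < 12516 → P i := stepQ 12515 Q12515 (allL N12515 (tt N12855 (iv F45837)) (tt N8220 (iv D22750)) (tt N14695 (iv F50762)) (tt N16682 (iv F56268)) (tt N8254 F44803) (tt N12853 F45833) (tt N16694 D26983))
theorem Q12517 : ∀ i, i < 12517 → P i := stepQ 12516 Q12516 (allL N12516 (tt N8221 F44804) (tt N13021 (iv F46242)) (tt N9784 F44805) (tt N16684 (iv F56276)) (tt N8255 F44806) (tt N9782 F44807) (tt N8220 (iv D22751)))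
theorem Q12518 : ∀ i, i < 12518 → P i := stepQ 12517 Q12517 (allL N12517 (tt N9782 F44808) (tt N8769 (iv F44812)) (tt N9774 F44809) (tt N16687 (iv F56283)) (tt N8256 F44810) (tt N8221 (iv D22752)) (tt N9773 F44811))
theorem Q12519 : ∀ i, i < 12519 → P i := stepQ 12518 Q12518 (allL N12518 (tt N12862 (iv F45859)) (tt N8222 (iv D22753)) (tt N14697 (iv F50769)) (tt N16688 (iv F56287)) (tt N8257 F44813) (tt N16695 D26984) (tt N12859 F45854))
theorem Q12520 : ∀ i, i < 12520 → P i := stepQ 12519 Q12519 (allL N12519 (tt N8223 F44814) (tt N13092 F46412) (tt N9837 F44815) (tt N16690 (iv F56292)) (tt N8258 F44816) (tt N8222 (iv D22754)) (tt N9835 F44817))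
theorem Q12521 : ∀ i, i < 12521 → P i := stepQ 12520 Q12520 (allL N12520 (tt N9835 F44818) (tt N8724 (iv F44822)) (tt N9828 F44819) (tt N16693 (iv F56299)) (tt N8259 F44820) (tt N9827 F44821) (tt N8223 (iv D22755)))
theorem Q12522 : ∀ i, i < 12522 → P i := stepQ 12521 Q12521 (allL N12521 (tt N11184 F44823) (tt N11203 F44824) (tt N12865 (iv F45871)) (tt N9931 F44825) (tt N8623 F44826) (tt N12865 (iv F45874)) (tt N8224 (iv D22756)))
theorem Q12523 : ∀ i, i < 12523 → P i := stepQ 12522 Q12522 (allL N12522 (tt N11114 F44827) (tt N11134 F44828) (tt N12866 (iv F45877)) (tt N9933 F44829) (tt N8626 F44830) (tt N8225 (iv D22757)) (tt N12866 (iv F45880)))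
theorem Q12524 : ∀ i, i < 12524 → P i := stepQ 12523 Q12523 (allL N12523 (tt N16696 D26985) (tt N8228 (iv D22758)) (tt N16697 D26986) (tt N8234 F44831) (tt N8628 F44832) (tt N16698 D26987) (tt N8229 F44833))
theorem Q12525 : ∀ i, i < 12525 → P i := stepQ 12524 Q12524 (allL N12524 (tt N8229 (iv D22759)) (tt N16699 D26988) (tt N16700 D26989) (tt N8235 F44834) (tt N8629 F44835) (tt N16701 D26990) (tt N16696 (iv F56313)))
theorem Q12526 : ∀ i, i < 12526 → P i := stepQ 12525 Q12525 (allL N12525 (tt N16700 (iv F56322)) (tt N14206 (iv F49610)) (tt N8229 (iv D22760)) (tt N16702 D26991) (tt N8630 F44836) (tt N16703 D26992) (tt N16697 (iv F56315)))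
theorem Q12527 : ∀ i, i < 12527 → P i := stepQ 12526 Q12526 (allL N12526 (tt N16701 (iv F56325)) (tt N12514 F44837) (tt N16703 (iv F56332)) (tt N8237 F44838) (tt N8631 F44839) (tt N8229 (iv D22761)) (tt N16704 D26993))
theorem Q12528 : ∀ i, i < 12528 → P i := stepQ 12527 Q12527 (allL N12527 (tt N16705 D26994) (tt N8232 (iv D22762)) (tt N16706 D26995) (tt N8238 F44840) (tt N8633 F44841) (tt N8233 F44842) (tt N16707 D26996))
theorem Q12529 : ∀ i, i < 12529 → P i := stepQ 12528 Q12528 (allL N12528 (tt N8233 (iv D22763)) (tt N16708 D26997) (tt N16709 D26998) (tt N8239 F44843) (tt N8634 F44844) (tt N16705 (iv F56340)) (tt N16710 D26999))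
theorem Q12530 : ∀ i, i < 12530 → P i := stepQ 12529 Q12529 (allL N12529 (tt N16709 (iv F56349)) (tt N14202 (iv F49599)) (tt N8233 (iv D22764)) (tt N16711 D27000) (tt N8635 F44845) (tt N16706 (iv F56342)) (tt N16712 D27001))
theorem Q12531 : ∀ i, i < 12531 → P i := stepQ 12530 Q12530 (allL N12530 (tt N16710 (iv F56352)) (tt N12511 F44846) (tt N16712 (iv F56359)) (tt N8241 F44847) (tt N8636 F44848) (tt N16713 D27002) (tt N8233 (iv D22765)))
theorem Q12532 : ∀ i, i < 12532 → P i := stepQ 12531 Q12531 (allL N12531 (tt N8234 (iv D22766)) (tt N16714 D27003) (tt N16715 D27004) (tt N16696 (iv F56311)) (tt N8262 F44849) (tt N12539 (iv F44872)) (tt N8235 F44850))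
theorem Q12533 : ∀ i, i < 12533 → P i := stepQ 12532 Q12532 (allL N12532 (tt N16715 (iv F56370)) (tt N12532 F44851) (tt N8234 (iv D22767)) (tt N14141 (iv F49402)) (tt N8263 F44852) (tt N9217 (iv F44854)) (tt N8236 F44853))
theorem Q12534 : ∀ i, i < 12534 → P i := stepQ 12533 Q12533 (allL N12533 (tt N12539 (iv F44870)) (tt N12557 (iv F44921)) (tt N9217 F44855) (tt N16698 (iv F56317)) (tt N8264 F44856) (tt N8234 (iv D22768)) (tt N12536 (iv F44864)))
theorem Q12535 : ∀ i, i < 12535 → P i := stepQ 12534 Q12534 (allL N12534 (tt N13045 (iv F46302)) (tt N8235 (iv D22769)) (tt N16716 D27005) (tt N16699 (iv F56319)) (tt N8265 F44857) (tt N8756 (iv F44858)) (tt N13043 F46296))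
theorem Q12536 : ∀ i, i < 12536 → P i := stepQ 12535 Q12535 (allL N12535 (tt N8236 F44859) (tt N16717 D27006) (tt N8235 (iv D22770)) (tt N16718 D27007) (tt N8266 F44860) (tt N13518 F47546) (tt N16715 (iv F56373)))
theorem Q12537 : ∀ i, i < 12537 → P i := stepQ 12536 Q12536 (allL N12536 (tt N8237 F44861) (tt N8666 F44862) (tt N13518 (iv F47544)) (tt N16701 (iv F56327)) (tt N8267 F44863) (tt N8235 (iv D22771)) (tt N12533 F44864))
theorem Q12538 : ∀ i, i < 12538 → P i := stepQ 12537 Q12537 (allL N12537 (tt N16718 (iv F56379)) (tt N11570 F44865) (tt N10273 (iv F44866)) (tt N8236 (iv D22772)) (tt N12220 (iv F44867)) (tt N16719 D27008) (tt N14141 F49404))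
theorem Q12539 : ∀ i, i < 12539 → P i := stepQ 12538 Q12538 (allL N12538 (tt N13518 (iv F47543)) (tt N16659 (iv F56184)) (tt N8237 F44868) (tt N16719 (iv F56385)) (tt N8269 F44869) (tt N8236 (iv D22773)) (tt N13514 (iv F47530)))
theorem Q12540 : ∀ i, i < 12540 → P i := stepQ 12539 Q12539 (allL N12539 (tt N12533 F44870) (tt N13014 (iv F46222)) (tt N13514 (iv F47529)) (tt N16704 (iv F56335)) (tt N8270 F44871) (tt N12531 F44872) (tt N8237 (iv D22774)))
theorem Q12541 : ∀ i, i < 12541 → P i := stepQ 12540 Q12540 (allL N12540 (tt N8238 (iv D22775)) (tt N16720 D27009) (tt N16721 D27010) (tt N16705 (iv F56338)) (tt N8273 F44873) (tt N8239 F44874) (tt N12548 (iv F44896)))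
theorem Q12542 : ∀ i, i < 12542 → P i := stepQ 12541 Q12541 (allL N12541 (tt N16721 (iv F56393)) (tt N12541 F44875) (tt N8238 (iv D22776)) (tt N14151 (iv F49432)) (tt N8274 F44876) (tt N8240 F44877) (tt N9253 (iv F44878)))
theorem Q12543 : ∀ i, i < 12543 → P i := stepQ 12542 Q12542 (allL N12542 (tt N12548 (iv F44894)) (tt N12563 (iv F44936)) (tt N9253 F44879) (tt N16707 (iv F56344)) (tt N8275 F44880) (tt N12545 (iv F44888)) (tt N8238 (iv D22777)))
theorem Q12544 : ∀ i, i < 12544 → P i := stepQ 12543 Q12543 (allL N12543 (tt N12969 (iv F46117)) (tt N8239 (iv D22778)) (tt N16722 D27011) (tt N16708 (iv F56346)) (tt N8276 F44881) (tt N12967 (iv F46111)) (tt N8711 (iv F44882)))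
theorem Q12545 : ∀ i, i < 12545 → P i := stepQ 12544 Q12544 (allL N12544 (tt N8240 F44883) (tt N16723 D27012) (tt N8239 (iv D22779)) (tt N16724 D27013) (tt N8277 F44884) (tt N16721 (iv F56395)) (tt N13542 (iv F47623)))
theorem Q12546 : ∀ i, i < 12546 → P i := stepQ 12545 Q12545 (allL N12545 (tt N8241 F44885) (tt N8650 F44886) (tt N13542 (iv F47621)) (tt N16710 (iv F56354)) (tt N8278 F44887) (tt N12542 F44888) (tt N8239 (iv D22780)))
theorem Q12547 : ∀ i, i < 12547 → P i := stepQ 12546 Q12546 (allL N12546 (tt N16724 (iv F56402)) (tt N11622 F44889) (tt N10292 (iv F44890)) (tt N8240 (iv D22781)) (tt N12279 (iv F44891)) (tt N14151 F49434) (tt N16725 D27014))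
theorem Q12548 : ∀ i, i < 12548 → P i := stepQ 12547 Q12547 (allL N12547 (tt N13542 (iv F47620)) (tt N16677 (iv F56253)) (tt N8241 F44892) (tt N16725 (iv F56408)) (tt N8280 F44893) (tt N13538 (iv F47607)) (tt N8240 (iv D22782)))
theorem Q12549 : ∀ i, i < 12549 → P i := stepQ 12548 Q12548 (allL N12548 (tt N12542 F44894) (tt N13085 (iv F46391)) (tt N13538 (iv F47606)) (tt N16713 (iv F56362)) (tt N8281 F44895) (tt N8241 (iv D22783)) (tt N12540 F44896))
theorem Q12550 : ∀ i, i < 12550 → P i := stepQ 12549 Q12549 (allL N12549 (tt N15447 F52780) (tt N8242 (iv D22784)) (tt N16726 D27015) (tt N8248 F44897) (tt N8671 F44898) (tt N15450 (iv F52792)) (tt N15217 (iv F52301)))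
theorem Q12551 : ∀ i, i < 12551 → P i := stepQ 12550 Q12550 (allL N12550 (tt N10932 F44904) (tt N8243 (iv D22785)) (tt N10932 F44899) (tt N9398 F44900) (tt N8672 F44901) (tt N9397 F44902) (tt N8672 F44903))
theorem Q12552 : ∀ i, i < 12552 → P i := stepQ 12551 Q12551 (allL N12551 (tt N16727 D27016) (tt N8244 (iv D22786)) (tt N16728 D27017) (tt N8249 F44905) (tt N8676 F44906) (tt N12952 (iv F46076)) (tt N16729 D27018))
theorem Q12553 : ∀ i, i < 12553 → P i := stepQ 12552 Q12552 (allL N12552 (tt N15343 F52603) (tt N8245 (iv D22787)) (tt N16730 D27019) (tt N8250 F44907) (tt N8683 F44908) (tt N15270 (iv F52427)) (tt N15346 (iv F52615)))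
theorem Q12554 : ∀ i, i < 12554 → P i := stepQ 12553 Q12553 (allL N12553 (tt N10923 (iv F44914)) (tt N8246 (iv D22788)) (tt N10923 F44909) (tt N9393 F44910) (tt N8684 F44911) (tt N8684 F44912) (tt N9392 F44913))
theorem Q12555 : ∀ i, i < 12555 → P i := stepQ 12554 Q12554 (allL N12554 (tt N16731 D27020) (tt N8247 (iv D22789)) (tt N16732 D27021) (tt N8251 F44915) (tt N8688 F44916) (tt N16733 D27022) (tt N12936 (iv F46036)))
theorem Q12556 : ∀ i, i < 12556 → P i := stepQ 12555 Q12555 (allL N12555 (tt N8248 (iv D22790)) (tt N11428 (iv F45024)) (tt N16734 D27023) (tt N15447 (iv F52777)) (tt N8285 F44917) (tt N11430 F45025) (tt N12916 (iv F45990)))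
theorem Q12557 : ∀ i, i < 12557 → P i := stepQ 12556 Q12556 (allL N12556 (tt N16734 (iv F56433)) (tt N12556 F44918) (tt N8248 (iv D22791)) (tt N16735 D27024) (tt N8286 F44919) (tt N9122 (iv F44920)) (tt N15218 (iv F52304)))
theorem Q12558 : ∀ i, i < 12558 → P i := stepQ 12557 Q12557 (allL N12557 (tt N11430 (iv F45026)) (tt N12533 F44921) (tt N9122 F44922) (tt N15450 (iv F52790)) (tt N8287 F44923) (tt N8248 (iv D22792)) (tt N8664 (iv F44924)))
theorem Q12559 : ∀ i, i < 12559 → P i := stepQ 12558 Q12558 (allL N12558 (tt N8249 (iv D22793)) (tt N8620 (iv F44926)) (tt N14990 (iv F51788)) (tt N16727 (iv F56413)) (tt N8288 F44925) (tt N13097 (iv F46426)) (tt N12905 (iv F45963)))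
theorem Q12560 : ∀ i, i < 12560 → P i := stepQ 12559 Q12559 (allL N12559 (tt N14990 (iv F51786)) (tt N12559 F44927) (tt N8249 (iv D22794)) (tt N14170 (iv F49489)) (tt N8289 F44928) (tt N9126 F44929) (tt N14988 (iv F51782)))
theorem Q12561 : ∀ i, i < 12561 → P i := stepQ 12560 Q12560 (allL N12560 (tt N12905 F45964) (tt N11297 F44930) (tt N14988 (iv F51781)) (tt N16729 (iv F56420)) (tt N8290 F44931) (tt N16736 D27025) (tt N8249 (iv D22795)))
theorem Q12562 : ∀ i, i < 12562 → P i := stepQ 12561 Q12561 (allL N12561 (tt N8250 (iv D22796)) (tt N11269 F45016) (tt N16737 D27026) (tt N15343 (iv F52600)) (tt N8294 F44932) (tt N12901 (iv F45950)) (tt N11270 (iv F45014)))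
theorem Q12563 : ∀ i, i < 12563 → P i := stepQ 12562 Q12562 (allL N12562 (tt N16737 (iv F56442)) (tt N12562 F44933) (tt N8250 (iv D22797)) (tt N16738 D27027) (tt N8295 F44934) (tt N15271 (iv F52430)) (tt N9176 (iv F44935)))
theorem Q12564 : ∀ i, i < 12564 → P i := stepQ 12563 Q12563 (allL N12563 (tt N11270 F45015) (tt N12542 F44936) (tt N9176 F44937) (tt N15346 (iv F52613)) (tt N8296 F44938) (tt N8648 (iv F44939)) (tt N8250 (iv D22798)))
theorem Q12565 : ∀ i, i < 12565 → P i := stepQ 12564 Q12564 (allL N12564 (tt N8251 (iv D22799)) (tt N8615 (iv F44941)) (tt N14942 (iv F51623)) (tt N16731 (iv F56424)) (tt N8297 F44940) (tt N12920 (iv F46003)) (tt N13027 (iv F46258)))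
theorem Q12566 : ∀ i, i < 12566 → P i := stepQ 12565 Q12565 (allL N12565 (tt N14942 (iv F51622)) (tt N12565 F44942) (tt N8251 (iv D22800)) (tt N14192 (iv F49569)) (tt N8298 F44943) (tt N14940 (iv F51618)) (tt N9180 F44944))
theorem Q12567 : ∀ i, i < 12567 → P i := stepQ 12566 Q12566 (allL N12566 (tt N12920 F46004) (tt N11458 F44945) (tt N14940 (iv F51617)) (tt N16733 (iv F56431)) (tt N8299 F44946) (tt N8251 (iv D22801)) (tt N16739 D27028))
theorem Q12568 : ∀ i, i < 12568 → P i := stepQ 12567 Q12567 (allL N12567 (tt N9016 F44947) (tt N9004 F44948) (tt N14696 (iv F50765)) (tt N8903 F44949) (tt N16694 (iv F56305)) (tt N8903 F44950) (tt N8254 (iv D22802)))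
theorem Q12569 : ∀ i, i < 12569 → P i := stepQ 12568 Q12568 (allL N12568 (tt N8950 F44951) (tt N9067 F44952) (tt N14698 (iv F50772)) (tt N8909 F44953) (tt N16695 (iv F56309)) (tt N8257 (iv D22803)) (tt N8909 F44954))
theorem Q12570 : ∀ i, i < 12570 → P i := stepQ 12569 Q12569 (allL N12569 (tt N11296 F44955) (tt N9011 F44960) (tt N11303 F44956) (tt N8915 F44957) (tt N11291 F44958) (tt N8261 (iv D22804)) (tt N8888 F44959))
theorem Q12571 : ∀ i, i < 12571 → P i := stepQ 12570 Q12570 (allL N12570 (tt N8896 F44961) (tt N8262 (iv D22805)) (tt N8530 (iv F44965)) (tt N8922 F44962) (tt N16714 (iv F56366)) (tt N8897 F44963) (tt N8529 F44964))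
theorem Q12572 : ∀ i, i < 12572 → P i := stepQ 12571 Q12571 (allL N12571 (tt N8263 F44966) (tt N12747 (iv F45504)) (tt N8262 (iv D22806)) (tt N9215 F44967) (tt N16715 (iv F56371)) (tt N9213 F44968) (tt N8266 F44969))
theorem Q12573 : ∀ i, i < 12573 → P i := stepQ 12572 Q12572 (allL N12572 (tt N10424 F44970) (tt N12744 (iv F45495)) (tt N8265 (iv D22807)) (tt N10427 F44973) (tt N16716 (iv F56375)) (tt N9042 F44971) (tt N8528 F44972))
theorem Q12574 : ∀ i, i < 12574 → P i := stepQ 12573 Q12573 (allL N12573 (tt N16740 D27029) (tt N8266 (iv D22808)) (tt N12744 F45496) (tt N13520 (iv F47551)) (tt N16717 (iv F56378)) (tt N16741 D27030) (tt N12743 (iv F45497)))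
theorem Q12575 : ∀ i, i < 12575 → P i := stepQ 12574 Q12574 (allL N12574 (tt N13519 (iv F47547)) (tt N12223 F44974) (tt N9308 F44975) (tt N12220 F44976) (tt N8268 (iv D22809)) (tt N13516 (iv F47537)) (tt N9219 F44977))
theorem Q12576 : ∀ i, i < 12576 → P i := stepQ 12575 Q12575 (allL N12575 (tt N11455 F44978) (tt N9072 (iv F44983)) (tt N11462 F44979) (tt N8931 F44980) (tt N11449 F44981) (tt N8894 F44982) (tt N8272 (iv D22810)))
theorem Q12577 : ∀ i, i < 12577 → P i := stepQ 12576 Q12576 (allL N12576 (tt N8890 F44984) (tt N8273 (iv D22811)) (tt N8501 (iv F44988)) (tt N8938 F44985) (tt N16720 (iv F56389)) (tt N8500 F44986) (tt N8891 F44987))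
theorem Q12578 : ∀ i, i < 12578 → P i := stepQ 12577 Q12577 (allL N12577 (tt N8274 F44989) (tt N12738 (iv F45479)) (tt N8273 (iv D22812)) (tt N9252 F44990) (tt N16721 (iv F56394)) (tt N8277 F44991) (tt N9249 F44992))
theorem Q12579 : ∀ i, i < 12579 → P i := stepQ 12578 Q12578 (allL N12578 (tt N10390 F44993) (tt N12735 (iv F45470)) (tt N8276 (iv D22813)) (tt N10393 F44996) (tt N16722 (iv F56398)) (tt N8499 F44994) (tt N8977 F44995))
theorem Q12580 : ∀ i, i < 12580 → P i := stepQ 12579 Q12579 (allL N12579 (tt N16742 D27031) (tt N8277 (iv D22814)) (tt N12735 F45471) (tt N13544 (iv F47628)) (tt N16723 (iv F56401)) (tt N12734 (iv F45472)) (tt N16743 D27032))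
theorem Q12581 : ∀ i, i < 12581 → P i := stepQ 12580 Q12580 (allL N12580 (tt N13543 (iv F47624)) (tt N12282 F44997) (tt N9351 F44998) (tt N12279 F44999) (tt N8279 (iv D22815)) (tt N9256 F45000) (tt N13539 (iv F47611)))
theorem Q12582 : ∀ i, i < 12582 → P i := stepQ 12581 Q12581 (allL N12581 (tt N8909 (iv F45005)) (tt N8282 (iv D22816)) (tt N11686 (iv F45006)) (tt N8950 F45001) (tt N11302 F45002) (tt N8907 F45003) (tt N8950 F45004))
theorem Q12583 : ∀ i, i < 12583 → P i := stepQ 12582 Q12582 (allL N12582 (tt N13279 (iv F46854)) (tt N15219 (iv F52305)) (tt N8283 (iv D22817)) (tt N9123 (iv F45008)) (tt N15218 (iv F52303)) (tt N13277 (iv F46849)) (tt N8286 F45007))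
theorem Q12584 : ∀ i, i < 12584 → P i := stepQ 12583 Q12583 (allL N12583 (tt N8296 F45009) (tt N8284 (iv D22818)) (tt N9173 (iv F45017)) (tt N8962 F45010) (tt N11270 F45011) (tt N8923 F45012) (tt N8294 (iv F45013)))
theorem Q12585 : ∀ i, i < 12585 → P i := stepQ 12584 Q12584 (allL N12584 (tt N8887 F45018) (tt N8285 (iv D22819)) (tt N10610 (iv F45020)) (tt N8973 F45019) (tt N11428 F45022) (tt N8886 (iv F45021)) (tt N10608 F45023))
theorem Q12586 : ∀ i, i < 12586 → P i := stepQ 12585 Q12585 (allL N12585 (tt N8286 F45027) (tt N16744 D27033) (tt N8285 (iv D22820)) (tt N9120 F45028) (tt N16734 (iv F56434)) (tt N9119 (iv F45029)) (tt N13279 (iv F46857)))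
theorem Q12587 : ∀ i, i < 12587 → P i := stepQ 12586 Q12586 (allL N12586 (tt N8287 F45030) (tt N8293 F45031) (tt N9119 F45032) (tt N8975 F45033) (tt N11430 F45034) (tt N8285 (iv D22821)) (tt N8939 F45035))
theorem Q12588 : ∀ i, i < 12588 → P i := stepQ 12587 Q12587 (allL N12587 (tt N9073 F45036) (tt N12592 (iv F45057)) (tt N13437 (iv F47292)) (tt N9003 F45037) (tt N16736 (iv F56440)) (tt N8290 (iv D22822)) (tt N9072 F45038))
theorem Q12589 : ∀ i, i < 12589 → P i := stepQ 12588 Q12588 (allL N12588 (tt N8903 (iv F45043)) (tt N8291 (iv D22823)) (tt N11683 (iv F45044)) (tt N9016 F45039) (tt N11461 F45040) (tt N9016 F45041) (tt N8900 F45042))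
theorem Q12590 : ∀ i, i < 12590 → P i := stepQ 12589 Q12589 (allL N12589 (tt N13266 (iv F46826)) (tt N15272 (iv F52431)) (tt N8292 (iv D22824)) (tt N9178 (iv F45046)) (tt N15271 (iv F52429)) (tt N8295 F45045) (tt N13264 (iv F46822)))
theorem Q12591 : ∀ i, i < 12591 → P i := stepQ 12590 Q12590 (allL N12590 (tt N8885 F45047) (tt N8294 (iv D22825)) (tt N10557 F45052) (tt N9039 F45048) (tt N11269 F45049) (tt N10554 (iv F45051)) (tt N8884 F45050))
theorem Q12592 : ∀ i, i < 12592 → P i := stepQ 12591 Q12591 (allL N12591 (tt N8295 F45053) (tt N16745 D27034) (tt N8294 (iv D22826)) (tt N9175 F45054) (tt N16737 (iv F56443)) (tt N13266 (iv F46829)) (tt N9173 F45055))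
theorem Q12593 : ∀ i, i < 12593 → P i := stepQ 12592 Q12592 (allL N12592 (tt N9012 F45056) (tt N12587 F45057) (tt N13489 (iv F47441)) (tt N9065 F45058) (tt N16739 (iv F56450)) (tt N9011 F45059) (tt N8299 (iv D22827)))
theorem Q12594 : ∀ i, i < 12594 → P i := stepQ 12593 Q12593 (allL N12593 (tt N11562 F45060) (tt N16208 (iv F54672)) (tt N8302 F45061) (tt N11566 F45062) (tt N8328 F45063) (tt N12596 (iv F45076)) (tt N8301 (iv D22828)))
theorem Q12595 : ∀ i, i < 12595 → P i := stepQ 12594 Q12594 (allL N12594 (tt N11614 F45064) (tt N16238 (iv F54761)) (tt N8305 F45065) (tt N11618 F45066) (tt N8331 F45067) (tt N8304 (iv D22829)) (tt N12598 (iv F45085)))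
theorem Q12596 : ∀ i, i < 12596 → P i := stepQ 12595 Q12595 (allL N12595 (tt N14158 (iv F49453)) (tt N12325 F45068) (tt N14703 (iv F50792)) (tt N9732 F45069) (tt N8332 F45070) (tt N9903 F45071) (tt N8306 (iv D22830)))
theorem Q12597 : ∀ i, i < 12597 → P i := stepQ 12596 Q12596 (allL N12596 (tt N8310 F45072) (tt N15576 F53084) (tt N8308 F45073) (tt N10942 F45074) (tt N8335 F45075) (tt N12593 F45076) (tt N8307 (iv D22831)))
theorem Q12598 : ∀ i, i < 12598 → P i := stepQ 12597 Q12597 (allL N12597 (tt N14179 (iv F49516)) (tt N12265 F45077) (tt N14722 (iv F50855)) (tt N9752 F45078) (tt N8340 F45079) (tt N8312 (iv D22832)) (tt N9919 F45080))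
theorem Q12599 : ∀ i, i < 12599 → P i := stepQ 12598 Q12598 (allL N12598 (tt N8316 F45081) (tt N15816 F53685) (tt N8314 F45082) (tt N10954 F45083) (tt N8343 F45084) (tt N8313 (iv D22833)) (tt N12594 F45085))
theorem Q12600 : ∀ i, i < 12600 → P i := stepQ 12599 Q12599 (allL N12599 (tt N8322 F45086) (tt N10622 (iv F45091)) (tt N11261 F45087) (tt N8473 F45088) (tt N8375 F45089) (tt N10469 F45090) (tt N8320 (iv D22834)))
theorem Q12601 : ∀ i, i < 12601 → P i := stepQ 12600 Q12600 (allL N12600 (tt N11261 F45092) (tt N11807 (iv F45096)) (tt N8322 F45093) (tt N11842 F45094) (tt N8376 F45095) (tt N14905 (iv F51503)) (tt N8321 (iv D22835)))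
theorem Q12602 : ∀ i, i < 12602 → P i := stepQ 12601 Q12601 (allL N12601 (tt N8325 F45097) (tt N10571 F45102) (tt N11421 F45098) (tt N8476 F45099) (tt N8382 F45100) (tt N8323 (iv D22836)) (tt N10519 F45101))
theorem Q12603 : ∀ i, i < 12603 → P i := stepQ 12602 Q12602 (allL N12602 (tt N11421 F45103) (tt N11764 (iv F45107)) (tt N8325 F45104) (tt N12054 F45105) (tt N8383 F45106) (tt N8324 (iv D22837)) (tt N14953 (iv F51662)))
theorem Q12604 : ∀ i, i < 12604 → P i := stepQ 12603 Q12603 (allL N12603 (tt N12213 F45108) (tt N16207 (iv F54668)) (tt N8337 F45109) (tt N8328 F45110) (tt N12214 F45111) (tt N12607 (iv F45128)) (tt N8327 (iv D22838)))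
theorem Q12605 : ∀ i, i < 12605 → P i := stepQ 12604 Q12604 (allL N12604 (tt N12272 F45112) (tt N16237 (iv F54757)) (tt N8345 F45113) (tt N8331 F45114) (tt N12273 F45115) (tt N8330 (iv D22839)) (tt N12613 (iv F45145)))
theorem Q12606 : ∀ i, i < 12606 → P i := stepQ 12605 Q12605 (allL N12605 (tt N10310 F45116) (tt N11563 F45117) (tt N10308 F45118) (tt N11697 F45119) (tt N10883 F45120) (tt N8333 (iv D22840)) (tt N15116 (iv F52095)))
theorem Q12607 : ∀ i, i < 12607 → P i := stepQ 12606 Q12606 (allL N12606 (tt N10949 F45121) (tt N16746 D27035) (tt N14701 (iv F50786)) (tt N11710 F45122) (tt N10944 F45123) (tt N14707 (iv F50807)) (tt N8333 (iv D22841)))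
theorem Q12608 : ∀ i, i < 12608 → P i := stepQ 12607 Q12607 (allL N12607 (tt N8337 F45124) (tt N16294 (iv F54960)) (tt N12213 F45125) (tt N8335 F45126) (tt N11709 F45127) (tt N12603 F45128) (tt N8334 (iv D22842)))
theorem Q12609 : ∀ i, i < 12609 → P i := stepQ 12608 Q12608 (allL N12608 (tt N15573 (iv F53074)) (tt N8335 (iv D22843)) (tt N12191 F45129) (tt N16294 (iv F54961)) (tt N15576 (iv F53082)) (tt N15572 (iv F53073)) (tt N16746 (iv F56479)))
theorem Q12610 : ∀ i, i < 12610 → P i := stepQ 12609 Q12609 (allL N12609 (tt N16747 D27036) (tt N8338 (iv D22844)) (tt N16748 D27037) (tt N16315 (iv F55034)) (tt N15619 (iv F53192)) (tt N13392 (iv F47183)) (tt N15612 (iv F53169)))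
theorem Q12611 : ∀ i, i < 12611 → P i := stepQ 12610 Q12610 (allL N12610 (tt N12396 F45130) (tt N16748 (iv F56481)) (tt N8339 (iv D22845)) (tt N10804 F45132) (tt N16594 (iv F55937)) (tt N12807 (iv F45697)) (tt N10802 F45131))
theorem Q12612 : ∀ i, i < 12612 → P i := stepQ 12611 Q12611 (allL N12611 (tt N10961 F45133) (tt N16749 D27038) (tt N14720 (iv F50849)) (tt N11719 F45134) (tt N10956 F45135) (tt N8341 (iv D22846)) (tt N14726 (iv F50870)))
theorem Q12613 : ∀ i, i < 12613 → P i := stepQ 12612 Q12612 (allL N12612 (tt N10347 F45136) (tt N11615 F45137) (tt N10345 F45138) (tt N11703 F45139) (tt N10890 F45140) (tt N15128 (iv F52134)) (tt N8341 (iv D22847)))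
theorem Q12614 : ∀ i, i < 12614 → P i := stepQ 12613 Q12613 (allL N12613 (tt N8345 F45141) (tt N16447 (iv F55465)) (tt N12272 F45142) (tt N8343 F45143) (tt N11718 F45144) (tt N8342 (iv D22848)) (tt N12604 F45145))
theorem Q12615 : ∀ i, i < 12615 → P i := stepQ 12614 Q12614 (allL N12614 (tt N15813 F53687) (tt N8343 (iv D22849)) (tt N12001 F45146) (tt N16447 (iv F55467)) (tt N15816 (iv F53686)) (tt N16749 (iv F56486)) (tt N15812 F53688))
theorem Q12616 : ∀ i, i < 12616 → P i := stepQ 12615 Q12615 (allL N12615 (tt N16750 D27039) (tt N8346 (iv D22850)) (tt N16751 D27040) (tt N16463 (iv F55530)) (tt N15852 (iv F53779)) (tt N15846 (iv F53758)) (tt N13443 (iv F47316)))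
theorem Q12617 : ∀ i, i < 12617 → P i := stepQ 12616 Q12616 (allL N12616 (tt N12350 F45147) (tt N16751 (iv F56489)) (tt N8347 (iv D22851)) (tt N10723 F45149) (tt N16559 (iv F55827)) (tt N10721 F45148) (tt N12782 (iv F45613)))
theorem Q12618 : ∀ i, i < 12618 → P i := stepQ 12617 Q12617 (allL N12617 (tt N14836 (iv F51267)) (tt N8352 (iv D22852)) (tt N14750 (iv F50953)) (tt N8362 F45150) (tt N10521 F45151) (tt N14834 (iv F51263)) (tt N8353 F45152))
theorem Q12619 : ∀ i, i < 12619 → P i := stepQ 12618 Q12618 (allL N12618 (tt N8353 (iv D22853)) (tt N16562 (iv F55837)) (tt N14749 (iv F50949)) (tt N8363 F45153) (tt N10520 F45154) (tt N10522 F45155) (tt N14836 (iv F51271)))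
theorem Q12620 : ∀ i, i < 12620 → P i := stepQ 12619 Q12619 (allL N12619 (tt N14804 (iv F51156)) (tt N8356 (iv D22854)) (tt N14771 (iv F51030)) (tt N8370 F45156) (tt N10471 F45157) (tt N8357 F45158) (tt N14802 (iv F51152)))
theorem Q12621 : ∀ i, i < 12621 → P i := stepQ 12620 Q12620 (allL N12620 (tt N8357 (iv D22855)) (tt N16597 (iv F55947)) (tt N14770 (iv F51026)) (tt N8371 F45159) (tt N10470 F45160) (tt N14804 (iv F51160)) (tt N10472 F45161))
theorem Q12622 : ∀ i, i < 12622 → P i := stepQ 12621 Q12621 (allL N12621 (tt N14784 (iv F51080)) (tt N12678 (iv F45329)) (tt N10452 F45162) (tt N14781 (iv F51069)) (tt N8452 F45163) (tt N14781 (iv F51071)) (tt N8358 (iv D22856)))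
theorem Q12623 : ∀ i, i < 12623 → P i := stepQ 12622 Q12622 (allL N12622 (tt N8360 F45164) (tt N10260 F45165) (tt N13101 (iv F46440)) (tt N8359 (iv D22857)) (tt N10257 F45166) (tt N8390 F45167) (tt N12671 (iv F45316)))
theorem Q12624 : ∀ i, i < 12624 → P i := stepQ 12623 Q12623 (allL N12623 (tt N12671 (iv F45314)) (tt N16752 D27041) (tt N13106 (iv F46457)) (tt N8361 F45168) (tt N13105 (iv F46456)) (tt N12665 (iv F45302)) (tt N8360 (iv D22858)))
theorem Q12625 : ∀ i, i < 12625 → P i := stepQ 12624 Q12624 (allL N12624 (tt N16753 D27042) (tt N8361 (iv D22859)) (tt N16754 D27043) (tt N16752 (iv F56492)) (tt N8453 F45169) (tt N16755 D27044) (tt N8644 F45170))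
theorem Q12626 : ∀ i, i < 12626 → P i := stepQ 12625 Q12625 (allL N12625 (tt N8362 (iv D22860)) (tt N14804 (iv F51157)) (tt N16756 D27045) (tt N14836 (iv F51269)) (tt N8454 F45171) (tt N12631 (iv F45189)) (tt N8363 F45172))
theorem Q12627 : ∀ i, i < 12627 → P i := stepQ 12626 Q12626 (allL N12626 (tt N16756 (iv F56504)) (tt N16754 (iv F56496)) (tt N8362 (iv D22861)) (tt N14528 F50376) (tt N8455 F45173) (tt N16757 D27046) (tt N8364 F45174))
theorem Q12628 : ∀ i, i < 12628 → P i := stepQ 12627 Q12627 (allL N12627 (tt N12631 (iv F45185)) (tt N12668 (iv F45307)) (tt N16757 (iv F56510)) (tt N14834 (iv F51261)) (tt N8456 F45175) (tt N8362 (iv D22862)) (tt N12629 (iv F45181)))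
theorem Q12629 : ∀ i, i < 12629 → P i := stepQ 12628 Q12628 (allL N12628 (tt N8364 F45176) (tt N14895 (iv F51470)) (tt N8363 (iv D22863)) (tt N14531 (iv F50384)) (tt N8457 F45177) (tt N16758 D27047) (tt N16756 (iv F56506)))
theorem Q12630 : ∀ i, i < 12630 → P i := stepQ 12629 Q12629 (allL N12629 (tt N8365 F45178) (tt N12646 (iv F45229)) (tt N16758 (iv F56513)) (tt N10522 F45179) (tt N8458 F45180) (tt N8363 (iv D22864)) (tt N12627 F45181))
theorem Q12631 : ∀ i, i < 12631 → P i := stepQ 12630 Q12630 (allL N12630 (tt N16758 (iv F56512)) (tt N12326 (iv F45184)) (tt N8365 F45182) (tt N14533 (iv F50389)) (tt N8460 F45183) (tt N8364 (iv D22865)) (tt N16759 D27048))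
theorem Q12632 : ∀ i, i < 12632 → P i := stepQ 12631 Q12631 (allL N12631 (tt N12627 F45185) (tt N12328 F45186) (tt N16759 (iv F56517)) (tt N10524 F45187) (tt N8461 F45188) (tt N12625 F45189) (tt N8365 (iv D22866)))
theorem Q12633 : ∀ i, i < 12633 → P i := stepQ 12632 Q12632 (allL N12632 (tt N14818 (iv F51201)) (tt N12707 (iv F45398)) (tt N10504 F45190) (tt N14815 (iv F51190)) (tt N8463 F45191) (tt N8366 (iv D22867)) (tt N14815 (iv F51192)))
theorem Q12634 : ∀ i, i < 12634 → P i := stepQ 12633 Q12633 (allL N12633 (tt N8368 F45192) (tt N10278 F45193) (tt N13160 (iv F46563)) (tt N8367 (iv D22868)) (tt N10275 F45194) (tt N12700 (iv F45385)) (tt N8409 F45195))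
theorem Q12635 : ∀ i, i < 12635 → P i := stepQ 12634 Q12634 (allL N12634 (tt N12700 (iv F45383)) (tt N16760 D27049) (tt N13165 (iv F46580)) (tt N8369 F45196) (tt N13164 (iv F46579)) (tt N8368 (iv D22869)) (tt N12694 (iv F45371)))
theorem Q12636 : ∀ i, i < 12636 → P i := stepQ 12635 Q12635 (allL N12635 (tt N16761 D27050) (tt N8369 (iv D22870)) (tt N16762 D27051) (tt N16760 (iv F56520)) (tt N8464 F45197) (tt N8660 F45198) (tt N16763 D27052))
theorem Q12637 : ∀ i, i < 12637 → P i := stepQ 12636 Q12636 (allL N12636 (tt N8370 (iv D22871)) (tt N14836 (iv F51268)) (tt N16764 D27053) (tt N14804 (iv F51158)) (tt N8465 F45199) (tt N8371 F45200) (tt N12642 (iv F45217)))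
theorem Q12638 : ∀ i, i < 12638 → P i := stepQ 12637 Q12637 (allL N12637 (tt N16764 (iv F56532)) (tt N16762 (iv F56524)) (tt N8370 (iv D22872)) (tt N14479 F50264) (tt N8466 F45201) (tt N8372 F45202) (tt N16765 D27054))
theorem Q12639 : ∀ i, i < 12639 → P i := stepQ 12638 Q12638 (allL N12638 (tt N12642 (iv F45213)) (tt N12697 (iv F45376)) (tt N16765 (iv F56538)) (tt N14802 (iv F51150)) (tt N8467 F45203) (tt N12640 (iv F45209)) (tt N8370 (iv D22873)))
theorem Q12640 : ∀ i, i < 12640 → P i := stepQ 12639 Q12639 (allL N12639 (tt N8372 F45204) (tt N14864 (iv F51361)) (tt N8371 (iv D22874)) (tt N14482 F50272) (tt N8468 F45205) (tt N16764 (iv F56534)) (tt N16766 D27055))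
theorem Q12641 : ∀ i, i < 12641 → P i := stepQ 12640 Q12640 (allL N12640 (tt N8373 F45206) (tt N12655 (iv F45266)) (tt N16766 (iv F56541)) (tt N10472 F45207) (tt N8469 F45208) (tt N12638 F45209) (tt N8371 (iv D22875)))
theorem Q12642 : ∀ i, i < 12642 → P i := stepQ 12641 Q12641 (allL N12641 (tt N16766 (iv F56540)) (tt N12267 (iv F45212)) (tt N8373 F45210) (tt N14484 (iv F50277)) (tt N8471 F45211) (tt N16767 D27056) (tt N8372 (iv D22876)))
theorem Q12643 : ∀ i, i < 12643 → P i := stepQ 12642 Q12642 (allL N12642 (tt N12638 F45213) (tt N12268 F45214) (tt N16767 (iv F56545)) (tt N10474 F45215) (tt N8472 F45216) (tt N8373 (iv D22877)) (tt N12636 F45217))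
theorem Q12644 : ∀ i, i < 12644 → P i := stepQ 12643 Q12643 (allL N12643 (tt N14846 (iv F51298)) (tt N16768 D27057) (tt N11269 F45218) (tt N8388 F45219) (tt N10557 F45220) (tt N10550 F45221) (tt N8374 (iv D22878)))
theorem Q12645 : ∀ i, i < 12645 → P i := stepQ 12644 Q12644 (allL N12644 (tt N10618 (iv F45224)) (tt N8375 (iv D22879)) (tt N16769 D27058) (tt N8392 F45222) (tt N10622 F45223) (tt N12682 F45340) (tt N16768 (iv F56552)))
theorem Q12646 : ∀ i, i < 12646 → P i := stepQ 12645 Q12645 (allL N12645 (tt N16208 (iv F54671)) (tt N8376 (iv D22880)) (tt N11805 F45225) (tt N11260 F45226) (tt N11807 F45227) (tt N16770 D27059) (tt N12645 F45228))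
theorem Q12647 : ∀ i, i < 12647 → P i := stepQ 12646 Q12646 (allL N12646 (tt N8377 (iv D22881)) (tt N12629 F45229) (tt N11800 F45230) (tt N8397 F45231) (tt N11799 F45232) (tt N12651 (iv F45254)) (tt N8379 F45233))
theorem Q12648 : ∀ i, i < 12648 → P i := stepQ 12647 Q12647 (allL N12647 (tt N12651 (iv F45249)) (tt N16771 D27060) (tt N11806 F45234) (tt N8399 F45235) (tt N11804 F45236) (tt N8377 (iv D22882)) (tt N12650 (iv F45248)))
theorem Q12649 : ∀ i, i < 12649 → P i := stepQ 12648 Q12648 (allL N12648 (tt N8419 (iv F45239)) (tt N8378 (iv D22883)) (tt N13741 (iv F48313)) (tt N8400 F45237) (tt N8540 F45238) (tt N16771 (iv F56565)) (tt N16772 D27061))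
theorem Q12650 : ∀ i, i < 12650 → P i := stepQ 12649 Q12649 (allL N12649 (tt N12834 (iv F45778)) (tt N8379 (iv D22884)) (tt N12833 F45777) (tt N8401 F45240) (tt N10621 F45241) (tt N10620 (iv F45242)) (tt N12668 (iv F45309)))
theorem Q12651 : ∀ i, i < 12651 → P i := stepQ 12650 Q12650 (allL N12650 (tt N8380 F45243) (tt N12361 F45244) (tt N11788 F45245) (tt N8403 F45246) (tt N11787 F45247) (tt N8379 (iv D22885)) (tt N12647 F45248))
theorem Q12652 : ∀ i, i < 12652 → P i := stepQ 12651 Q12651 (allL N12651 (tt N12647 F45249) (tt N12266 F45250) (tt N11790 F45251) (tt N8406 F45252) (tt N11789 F45253) (tt N12646 F45254) (tt N8380 (iv D22886)))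
theorem Q12653 : ∀ i, i < 12653 → P i := stepQ 12652 Q12652 (allL N12652 (tt N14848 (iv F51313)) (tt N16773 D27062) (tt N11428 F45255) (tt N8407 F45256) (tt N10610 F45257) (tt N8381 (iv D22887)) (tt N10604 F45258))
theorem Q12654 : ∀ i, i < 12654 → P i := stepQ 12653 Q12653 (allL N12653 (tt N10567 (iv F45261)) (tt N8382 (iv D22888)) (tt N16774 D27063) (tt N8411 F45259) (tt N10571 F45260) (tt N16773 (iv F56575)) (tt N12710 F45406))
theorem Q12655 : ∀ i, i < 12655 → P i := stepQ 12654 Q12654 (allL N12654 (tt N16238 (iv F54760)) (tt N8383 (iv D22889)) (tt N11762 F45262) (tt N11420 F45263) (tt N11764 F45264) (tt N12654 F45265) (tt N16775 D27064))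
theorem Q12656 : ∀ i, i < 12656 → P i := stepQ 12655 Q12655 (allL N12655 (tt N8384 (iv D22890)) (tt N12640 F45266) (tt N11757 F45267) (tt N8416 F45268) (tt N11756 F45269) (tt N8386 F45270) (tt N12660 (iv F45291)))
theorem Q12657 : ∀ i, i < 12657 → P i := stepQ 12656 Q12656 (allL N12656 (tt N12660 (iv F45286)) (tt N16776 D27065) (tt N11763 F45271) (tt N8418 F45272) (tt N11761 F45273) (tt N12659 (iv F45285)) (tt N8384 (iv D22891)))
theorem Q12658 : ∀ i, i < 12658 → P i := stepQ 12657 Q12657 (allL N12657 (tt N8400 (iv F45276)) (tt N8385 (iv D22892)) (tt N13766 (iv F48382)) (tt N8419 F45274) (tt N8511 F45275) (tt N16777 D27066) (tt N16776 (iv F56590)))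
theorem Q12659 : ∀ i, i < 12659 → P i := stepQ 12658 Q12658 (allL N12658 (tt N12839 (iv F45799)) (tt N8386 (iv D22893)) (tt N12838 (iv F45798)) (tt N8420 F45277) (tt N10570 F45278) (tt N12697 (iv F45378)) (tt N10569 (iv F45279)))
theorem Q12660 : ∀ i, i < 12660 → P i := stepQ 12659 Q12659 (allL N12659 (tt N8387 F45280) (tt N12374 F45281) (tt N11745 F45282) (tt N8422 F45283) (tt N11744 F45284) (tt N12656 F45285) (tt N8386 (iv D22894)))
theorem Q12661 : ∀ i, i < 12661 → P i := stepQ 12660 Q12660 (allL N12660 (tt N12656 F45286) (tt N12324 F45287) (tt N11747 F45288) (tt N8425 F45289) (tt N11746 F45290) (tt N8387 (iv D22895)) (tt N12655 F45291))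
theorem Q12662 : ∀ i, i < 12662 → P i := stepQ 12661 Q12661 (allL N12661 (tt N10620 (iv F45294)) (tt N8388 (iv D22896)) (tt N12835 (iv F45785)) (tt N16768 (iv F56549)) (tt N8495 F45292) (tt N12834 F45781) (tt N8392 F45293))
theorem Q12663 : ∀ i, i < 12663 → P i := stepQ 12662 Q12662 (allL N12662 (tt N14289 (iv F49811)) (tt N8390 F45295) (tt N14539 (iv F50410)) (tt N8389 (iv D22897)) (tt N14285 (iv F49804)) (tt N14155 (iv F49447)) (tt N16778 D27067))
theorem Q12664 : ∀ i, i < 12664 → P i := stepQ 12663 Q12663 (allL N12663 (tt N14703 (iv F50791)) (tt N12983 F46150) (tt N14158 (iv F49454)) (tt N16778 (iv F56596)) (tt N8496 F45296) (tt N16779 D27068) (tt N8389 (iv D22898)))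
theorem Q12665 : ∀ i, i < 12665 → P i := stepQ 12664 Q12664 (allL N12664 (tt N8393 F45297) (tt N14285 (iv F49803)) (tt N13102 (iv F46444)) (tt N8497 F45298) (tt N8390 (iv D22899)) (tt N10257 F45299) (tt N16780 D27069))
theorem Q12666 : ∀ i, i < 12666 → P i := stepQ 12665 Q12665 (allL N12665 (tt N8394 F45300) (tt N16781 D27070) (tt N14537 (iv F50403)) (tt N8391 F45301) (tt N16780 (iv F56605)) (tt N12623 F45302) (tt N8390 (iv D22900)))
theorem Q12667 : ∀ i, i < 12667 → P i := stepQ 12666 Q12666 (allL N12666 (tt N12968 (iv F46114)) (tt N8391 (iv D22901)) (tt N12967 F46113) (tt N16781 (iv F56607)) (tt N8499 F45303) (tt N16722 (iv F56399)) (tt N12983 (iv F46149)))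
theorem Q12668 : ∀ i, i < 12668 → P i := stepQ 12667 Q12667 (allL N12667 (tt N10619 F45304) (tt N12967 (iv F46112)) (tt N8392 (iv D22902)) (tt N16782 D27071) (tt N8500 F45305) (tt N16720 (iv F56390)) (tt N12835 (iv F45787)))
theorem Q12669 : ∀ i, i < 12669 → P i := stepQ 12668 Q12668 (allL N12668 (tt N10606 F45306) (tt N12627 F45307) (tt N16720 F56392) (tt N12682 (iv F45338)) (tt N8501 F45308) (tt N8392 (iv D22903)) (tt N12649 F45309))
theorem Q12670 : ∀ i, i < 12670 → P i := stepQ 12669 Q12669 (allL N12669 (tt N16780 (iv F56602)) (tt N16783 D27072) (tt N13107 (iv F46460)) (tt N8502 F45310) (tt N8394 F45311) (tt N14637 (iv F50610)) (tt N8393 (iv D22904)))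
theorem Q12671 : ∀ i, i < 12671 → P i := stepQ 12670 Q12670 (allL N12670 (tt N16784 D27073) (tt N8394 (iv D22905)) (tt N16785 D27074) (tt N8395 F45312) (tt N16783 (iv F56610)) (tt N16786 D27075) (tt N8427 F45313))
theorem Q12672 : ∀ i, i < 12672 → P i := stepQ 12671 Q12671 (allL N12671 (tt N12623 F45314) (tt N14390 (iv F50061)) (tt N15533 (iv F52972)) (tt N8396 F45315) (tt N14637 (iv F50609)) (tt N8394 (iv D22906)) (tt N12622 F45316))
theorem Q12673 : ∀ i, i < 12673 → P i := stepQ 12672 Q12672 (allL N12672 (tt N8395 (iv D22907)) (tt N16787 D27076) (tt N12731 (iv F45460)) (tt N16784 (iv F56612)) (tt N8504 F45317) (tt N12725 (iv F45448)) (tt N8428 F45318))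
theorem Q12674 : ∀ i, i < 12674 → P i := stepQ 12673 Q12673 (allL N12673 (tt N12725 (iv F45445)) (tt N14379 F50031) (tt N12732 (iv F45464)) (tt N16786 (iv F56615)) (tt N8505 F45319) (tt N8395 (iv D22908)) (tt N12724 (iv F45444)))
theorem Q12675 : ∀ i, i < 12675 → P i := stepQ 12674 Q12674 (allL N12674 (tt N8398 F45320) (tt N12184 (iv F45323)) (tt N8397 (iv D22909)) (tt N16788 D27077) (tt N8507 F45321) (tt N12688 (iv F45356)) (tt N8402 F45322))
theorem Q12676 : ∀ i, i < 12676 → P i := stepQ 12675 Q12675 (allL N12675 (tt N16788 (iv F56619)) (tt N12729 (iv F45453)) (tt N16789 D27078) (tt N8398 (iv D22910)) (tt N16790 D27079) (tt N16791 D27080) (tt N8404 F45324))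
theorem Q12677 : ∀ i, i < 12677 → P i := stepQ 12676 Q12676 (allL N12676 (tt N12688 (iv F45353)) (tt N16792 D27081) (tt N8399 F45325) (tt N16791 (iv F56628)) (tt N8509 F45326) (tt N8398 (iv D22911)) (tt N12684 (iv F45347)))
theorem Q12678 : ∀ i, i < 12678 → P i := stepQ 12677 Q12677 (allL N12677 (tt N16777 (iv F56591)) (tt N8399 (iv D22912)) (tt N13760 F48368) (tt N16771 (iv F56563)) (tt N8510 F45327) (tt N8400 F45328) (tt N16610 (iv F56000)))
theorem Q12679 : ∀ i, i < 12679 → P i := stepQ 12678 Q12678 (allL N12678 (tt N16776 (iv F56586)) (tt N12621 F45329) (tt N13768 (iv F48388)) (tt N16772 (iv F56569)) (tt N8513 F45330) (tt N13931 (iv F48819)) (tt N8400 (iv D22913)))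
theorem Q12680 : ∀ i, i < 12680 → P i := stepQ 12679 Q12679 (allL N12679 (tt N8401 (iv D22914)) (tt N12708 (iv F45400)) (tt N16793 D27082) (tt N12834 F45782) (tt N8514 F45331) (tt N16768 (iv F56551)) (tt N14880 F51424))
theorem Q12681 : ∀ i, i < 12681 → P i := stepQ 12680 Q12680 (allL N12680 (tt N16793 (iv F56634)) (tt N11944 F45332) (tt N8401 (iv D22915)) (tt N16794 D27083) (tt N8515 F45333) (tt N16795 D27084) (tt N16796 D27085))
theorem Q12682 : ∀ i, i < 12682 → P i := stepQ 12681 Q12681 (allL N12681 (tt N16768 (iv F56548)) (tt N12362 F45334) (tt N16795 (iv F56639)) (tt N10620 F45335) (tt N8516 F45336) (tt N8401 (iv D22916)) (tt N10618 (iv F45337)))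
theorem Q12683 : ∀ i, i < 12683 → P i := stepQ 12682 Q12682 (allL N12682 (tt N14880 (iv F51420)) (tt N14834 (iv F51260)) (tt N16796 (iv F56643)) (tt N12668 F45338) (tt N8517 F45339) (tt N12644 (iv F45340)) (tt N8401 (iv D22917)))
theorem Q12684 : ∀ i, i < 12684 → P i := stepQ 12683 Q12683 (allL N12683 (tt N8404 F45341) (tt N11539 F45342) (tt N15310 (iv F52530)) (tt N8402 (iv D22918)) (tt N11540 F45343) (tt N16797 D27086) (tt N16788 (iv F56622)))
theorem Q12685 : ∀ i, i < 12685 → P i := stepQ 12684 Q12684 (allL N12684 (tt N8405 F45344) (tt N16491 (iv F55609)) (tt N8403 F45345) (tt N16797 (iv F56647)) (tt N8518 F45346) (tt N8402 (iv D22919)) (tt N12676 F45347))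
theorem Q12686 : ∀ i, i < 12686 → P i := stepQ 12685 Q12685 (allL N12685 (tt N15310 (iv F52529)) (tt N13182 (iv F46617)) (tt N8404 (iv D22920)) (tt N15302 F52502) (tt N16798 D27087) (tt N16799 D27088) (tt N16789 (iv F56623)))
theorem Q12687 : ∀ i, i < 12687 → P i := stepQ 12686 Q12686 (allL N12686 (tt N11540 F45348) (tt N8430 F45349) (tt N16798 (iv F56651)) (tt N8520 F45350) (tt N8404 (iv D22921)) (tt N16800 D27089) (tt N16790 (iv F56627)))
theorem Q12688 : ∀ i, i < 12688 → P i := stepQ 12687 Q12687 (allL N12687 (tt N16797 (iv F56646)) (tt N8827 F45351) (tt N16799 (iv F56653)) (tt N8405 F45352) (tt N16800 (iv F56657)) (tt N8404 (iv D22922)) (tt N16801 D27090))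
theorem Q12689 : ∀ i, i < 12689 → P i := stepQ 12688 Q12688 (allL N12688 (tt N12676 F45353) (tt N16802 D27091) (tt N8406 F45354) (tt N16801 (iv F56659)) (tt N8522 F45355) (tt N12674 F45356) (tt N8405 (iv D22923)))
theorem Q12690 : ∀ i, i < 12690 → P i := stepQ 12689 Q12689 (allL N12689 (tt N12269 (iv F45360)) (tt N8406 (iv D22924)) (tt N16803 D27092) (tt N12266 F45357) (tt N8523 F45358) (tt N16562 (iv F55841)) (tt N12264 F45359))
theorem Q12691 : ∀ i, i < 12691 → P i := stepQ 12690 Q12690 (allL N12690 (tt N10569 (iv F45363)) (tt N8407 (iv D22925)) (tt N12840 (iv F45807)) (tt N16773 (iv F56573)) (tt N8524 F45361) (tt N8411 F45362) (tt N12839 F45803))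
theorem Q12692 : ∀ i, i < 12692 → P i := stepQ 12691 Q12691 (allL N12691 (tt N14344 (iv F49948)) (tt N8409 F45364) (tt N14590 (iv F50514)) (tt N8408 (iv D22926)) (tt N14340 (iv F49941)) (tt N16804 D27093) (tt N14176 (iv F49510)))
theorem Q12693 : ∀ i, i < 12693 → P i := stepQ 12692 Q12692 (allL N12692 (tt N14722 (iv F50854)) (tt N13058 F46334) (tt N14179 (iv F49517)) (tt N16804 (iv F56671)) (tt N8525 F45365) (tt N8408 (iv D22927)) (tt N16805 D27094))
theorem Q12694 : ∀ i, i < 12694 → P i := stepQ 12693 Q12693 (allL N12693 (tt N8412 F45366) (tt N14340 (iv F49940)) (tt N13162 (iv F46569)) (tt N8526 F45367) (tt N8409 (iv D22928)) (tt N16806 D27095) (tt N10275 F45368))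
theorem Q12695 : ∀ i, i < 12695 → P i := stepQ 12694 Q12694 (allL N12694 (tt N8413 F45369) (tt N16807 D27096) (tt N14588 (iv F50507)) (tt N8410 F45370) (tt N16806 (iv F56680)) (tt N8409 (iv D22929)) (tt N12634 F45371))
theorem Q12696 : ∀ i, i < 12696 → P i := stepQ 12695 Q12695 (allL N12695 (tt N13044 (iv F46299)) (tt N8410 (iv D22930)) (tt N13043 (iv F46298)) (tt N16807 (iv F56682)) (tt N8528 F45372) (tt N13058 (iv F46333)) (tt N16716 (iv F56377)))
theorem Q12697 : ∀ i, i < 12697 → P i := stepQ 12696 Q12696 (allL N12696 (tt N10568 F45373) (tt N13043 F46297) (tt N8411 (iv D22931)) (tt N16808 D27097) (tt N8529 F45374) (tt N12840 F45809) (tt N16714 (iv F56368)))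
theorem Q12698 : ∀ i, i < 12698 → P i := stepQ 12697 Q12697 (allL N12697 (tt N10552 F45375) (tt N12638 F45376) (tt N16714 F56369) (tt N12710 (iv F45404)) (tt N8530 F45377) (tt N12658 F45378) (tt N8411 (iv D22932)))
theorem Q12699 : ∀ i, i < 12699 → P i := stepQ 12698 Q12698 (allL N12698 (tt N16806 (iv F56677)) (tt N16809 D27098) (tt N13167 (iv F46586)) (tt N8531 F45379) (tt N8413 F45380) (tt N8412 (iv D22933)) (tt N14666 (iv F50687)))
theorem Q12700 : ∀ i, i < 12700 → P i := stepQ 12699 Q12699 (allL N12699 (tt N16810 D27099) (tt N8413 (iv D22934)) (tt N16811 D27100) (tt N8414 F45381) (tt N16809 (iv F56685)) (tt N8432 F45382) (tt N16812 D27101))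
theorem Q12701 : ∀ i, i < 12701 → P i := stepQ 12700 Q12700 (allL N12700 (tt N12634 F45383) (tt N14335 (iv F49925)) (tt N15777 (iv F53580)) (tt N8415 F45384) (tt N14666 (iv F50686)) (tt N12633 F45385) (tt N8413 (iv D22935)))
theorem Q12702 : ∀ i, i < 12702 → P i := stepQ 12701 Q12701 (allL N12701 (tt N8414 (iv D22936)) (tt N16813 D27102) (tt N12724 (iv F45442)) (tt N16810 (iv F56687)) (tt N8533 F45386) (tt N8433 F45387) (tt N12732 (iv F45466)))
theorem Q12703 : ∀ i, i < 12703 → P i := stepQ 12702 Q12702 (allL N12702 (tt N12732 (iv F45463)) (tt N14324 F49895) (tt N12725 (iv F45446)) (tt N16812 (iv F56690)) (tt N8534 F45388) (tt N12731 (iv F45462)) (tt N8414 (iv D22937)))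
theorem Q12704 : ∀ i, i < 12704 → P i := stepQ 12703 Q12703 (allL N12703 (tt N8417 F45389) (tt N11986 (iv F45392)) (tt N8416 (iv D22938)) (tt N16814 D27103) (tt N8536 F45390) (tt N8421 F45391) (tt N12717 (iv F45426)))
theorem Q12705 : ∀ i, i < 12705 → P i := stepQ 12704 Q12704 (allL N12704 (tt N16814 (iv F56694)) (tt N12722 (iv F45435)) (tt N16815 D27104) (tt N8417 (iv D22939)) (tt N16816 D27105) (tt N8423 F45393) (tt N16817 D27106))
theorem Q12706 : ∀ i, i < 12706 → P i := stepQ 12705 Q12705 (allL N12705 (tt N12717 (iv F45423)) (tt N16818 D27107) (tt N8418 F45394) (tt N16817 (iv F56703)) (tt N8538 F45395) (tt N12713 (iv F45417)) (tt N8417 (iv D22940)))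
theorem Q12707 : ∀ i, i < 12707 → P i := stepQ 12706 Q12706 (allL N12706 (tt N16772 (iv F56567)) (tt N8418 (iv D22941)) (tt N13735 F48301) (tt N16776 (iv F56587)) (tt N8539 F45396) (tt N16629 (iv F56063)) (tt N8419 F45397))
theorem Q12708 : ∀ i, i < 12708 → P i := stepQ 12707 Q12707 (allL N12707 (tt N16771 (iv F56562)) (tt N12632 F45398) (tt N13743 (iv F48319)) (tt N16777 (iv F56593)) (tt N8542 F45399) (tt N8419 (iv D22942)) (tt N13934 (iv F48829)))
theorem Q12709 : ∀ i, i < 12709 → P i := stepQ 12708 Q12708 (allL N12708 (tt N8420 (iv D22943)) (tt N12679 F45400) (tt N16819 D27108) (tt N12839 F45804) (tt N8543 F45401) (tt N14847 F51308) (tt N16773 (iv F56576)))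
theorem Q12710 : ∀ i, i < 12710 → P i := stepQ 12709 Q12709 (allL N12709 (tt N16819 (iv F56709)) (tt N11997 F45402) (tt N8420 (iv D22944)) (tt N16820 D27109) (tt N8544 F45403) (tt N16821 D27110) (tt N16822 D27111))
theorem Q12711 : ∀ i, i < 12711 → P i := stepQ 12710 Q12710 (allL N12710 (tt N14847 (iv F51304)) (tt N14802 (iv F51149)) (tt N16821 (iv F56715)) (tt N12697 F45404) (tt N8545 F45405) (tt N8420 (iv D22945)) (tt N12653 (iv F45406)))
theorem Q12712 : ∀ i, i < 12712 → P i := stepQ 12711 Q12711 (allL N12711 (tt N16773 (iv F56572)) (tt N12373 F45407) (tt N16822 (iv F56718)) (tt N10569 F45408) (tt N8546 F45409) (tt N10567 (iv F45410)) (tt N8420 (iv D22946)))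
theorem Q12713 : ∀ i, i < 12713 → P i := stepQ 12712 Q12712 (allL N12712 (tt N8423 F45411) (tt N11380 F45412) (tt N15257 (iv F52397)) (tt N8421 (iv D22947)) (tt N11381 F45413) (tt N16814 (iv F56697)) (tt N16823 D27112))
theorem Q12714 : ∀ i, i < 12714 → P i := stepQ 12713 Q12713 (allL N12713 (tt N8424 F45414) (tt N16351 (iv F55138)) (tt N8422 F45415) (tt N16823 (iv F56722)) (tt N8547 F45416) (tt N12705 F45417) (tt N8421 (iv D22948)))
theorem Q12715 : ∀ i, i < 12715 → P i := stepQ 12714 Q12714 (allL N12714 (tt N15257 (iv F52396)) (tt N13123 (iv F46494)) (tt N8423 (iv D22949)) (tt N15249 F52369) (tt N16824 D27113) (tt N16815 (iv F56698)) (tt N16825 D27114))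
theorem Q12716 : ∀ i, i < 12716 → P i := stepQ 12715 Q12715 (allL N12715 (tt N11381 F45418) (tt N8435 F45419) (tt N16824 (iv F56726)) (tt N8549 F45420) (tt N8423 (iv D22950)) (tt N16816 (iv F56702)) (tt N16826 D27115))
theorem Q12717 : ∀ i, i < 12717 → P i := stepQ 12716 Q12716 (allL N12716 (tt N16823 (iv F56721)) (tt N8791 F45421) (tt N16825 (iv F56728)) (tt N8424 F45422) (tt N16826 (iv F56732)) (tt N16827 D27116) (tt N8423 (iv D22951)))
theorem Q12718 : ∀ i, i < 12718 → P i := stepQ 12717 Q12717 (allL N12717 (tt N12705 F45423) (tt N16828 D27117) (tt N8425 F45424) (tt N16827 (iv F56734)) (tt N8551 F45425) (tt N8424 (iv D22952)) (tt N12703 F45426))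
theorem Q12719 : ∀ i, i < 12719 → P i := stepQ 12718 Q12718 (allL N12718 (tt N12327 (iv F45430)) (tt N8425 (iv D22953)) (tt N16829 D27118) (tt N12324 F45427) (tt N8552 F45428) (tt N12323 F45429) (tt N16597 (iv F55951)))
theorem Q12720 : ∀ i, i < 12720 → P i := stepQ 12719 Q12719 (allL N12719 (tt N16070 (iv F54324)) (tt N8426 (iv D22954)) (tt N16830 D27119) (tt N8557 F45431) (tt N8427 F45432) (tt N15862 (iv F53810)) (tt N16783 (iv F56611)))
theorem Q12721 : ∀ i, i < 12721 → P i := stepQ 12720 Q12720 (allL N12720 (tt N8427 (iv D22955)) (tt N16068 F54320) (tt N16831 D27120) (tt N8428 F45433) (tt N16070 (iv F54326)) (tt N16832 D27121) (tt N16784 (iv F56613)))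
theorem Q12722 : ∀ i, i < 12722 → P i := stepQ 12721 Q12721 (allL N12721 (tt N16831 (iv F56748)) (tt N8797 F45434) (tt N8427 (iv D22956)) (tt N16833 D27122) (tt N16830 (iv F56747)) (tt N16834 D27123) (tt N16785 (iv F56614)))
theorem Q12723 : ∀ i, i < 12723 → P i := stepQ 12722 Q12722 (allL N12722 (tt N16832 (iv F56751)) (tt N12704 F45435) (tt N16834 (iv F56758)) (tt N8429 F45436) (tt N15862 (iv F53809)) (tt N8427 (iv D22957)) (tt N16835 D27124))
theorem Q12724 : ∀ i, i < 12724 → P i := stepQ 12723 Q12723 (allL N12723 (tt N8728 F45437) (tt N8428 (iv D22958)) (tt N8727 (iv F45439)) (tt N16068 (iv F54318)) (tt N8559 F45438) (tt N10463 (iv F45440)) (tt N14787 (iv F51095)))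
theorem Q12725 : ∀ i, i < 12725 → P i := stepQ 12724 Q12724 (allL N12724 (tt N8429 F45441) (tt N16836 D27125) (tt N12701 F45442) (tt N16832 (iv F56752)) (tt N8560 F45443) (tt N8428 (iv D22959)) (tt N12673 F45444))
theorem Q12726 : ∀ i, i < 12726 → P i := stepQ 12725 Q12725 (allL N12725 (tt N12673 F45445) (tt N14709 F50812) (tt N12702 F45446) (tt N16835 (iv F56760)) (tt N8561 F45447) (tt N12672 F45448) (tt N8429 (iv D22960)))
theorem Q12727 : ∀ i, i < 12727 → P i := stepQ 12726 Q12726 (allL N12726 (tt N16147 (iv F54503)) (tt N8431 (iv D22961)) (tt N16837 D27126) (tt N8566 F45449) (tt N8432 F45450) (tt N16809 (iv F56686)) (tt N15628 (iv F53221)))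
theorem Q12728 : ∀ i, i < 12728 → P i := stepQ 12727 Q12727 (allL N12727 (tt N8432 (iv D22962)) (tt N16145 F54501) (tt N16838 D27127) (tt N8433 F45451) (tt N16147 (iv F54505)) (tt N16810 (iv F56688)) (tt N16839 D27128))
theorem Q12729 : ∀ i, i < 12729 → P i := stepQ 12728 Q12728 (allL N12728 (tt N16838 (iv F56766)) (tt N8834 F45452) (tt N8432 (iv D22963)) (tt N16840 D27129) (tt N16837 (iv F56765)) (tt N16811 (iv F56689)) (tt N16841 D27130))
theorem Q12730 : ∀ i, i < 12730 → P i := stepQ 12729 Q12729 (allL N12729 (tt N16839 (iv F56769)) (tt N12675 F45453) (tt N16841 (iv F56776)) (tt N8434 F45454) (tt N15628 (iv F53220)) (tt N16842 D27131) (tt N8432 (iv D22964)))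
theorem Q12731 : ∀ i, i < 12731 → P i := stepQ 12730 Q12730 (allL N12730 (tt N8773 F45455) (tt N8433 (iv D22965)) (tt N8772 F45456) (tt N16145 (iv F54499)) (tt N8568 F45457) (tt N14820 (iv F51214)) (tt N10513 (iv F45458)))
theorem Q12732 : ∀ i, i < 12732 → P i := stepQ 12731 Q12731 (allL N12731 (tt N8434 F45459) (tt N16843 D27132) (tt N12672 F45460) (tt N16839 (iv F56770)) (tt N8569 F45461) (tt N12702 F45462) (tt N8433 (iv D22966)))
theorem Q12733 : ∀ i, i < 12733 → P i := stepQ 12732 Q12732 (allL N12732 (tt N12702 F45463) (tt N14728 F50875) (tt N12673 F45464) (tt N16842 (iv F56778)) (tt N8570 F45465) (tt N8434 (iv D22967)) (tt N12701 F45466))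
theorem Q12734 : ∀ i, i < 12734 → P i := stepQ 12733 Q12733 (allL N12733 (tt N8453 (iv D22968)) (tt N16362 (iv F55177)) (tt N16844 D27133) (tt N14025 (iv F49061)) (tt N16753 (iv F56494)) (tt N13262 (iv F46816)) (tt N8919 F45467))
theorem Q12735 : ∀ i, i < 12735 → P i := stepQ 12734 Q12734 (allL N12734 (tt N16844 (iv F56782)) (tt N8455 F45468) (tt N8453 (iv D22969)) (tt N14960 (iv F51686)) (tt N16754 (iv F56497)) (tt N12579 F45472) (tt N8920 F45469))
theorem Q12736 : ∀ i, i < 12736 → P i := stepQ 12735 Q12735 (allL N12735 (tt N13262 (iv F46814)) (tt N12578 F45470) (tt N12579 (iv F45471)) (tt N14026 (iv F49067)) (tt N16755 (iv F56503)) (tt N8453 (iv D22970)) (tt N13260 (iv F46809)))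
theorem Q12737 : ∀ i, i < 12737 → P i := stepQ 12736 Q12736 (allL N12736 (tt N8455 F45473) (tt N13595 (iv F47826)) (tt N8454 (iv D22971)) (tt N9277 F45475) (tt N16756 (iv F56505)) (tt N12741 (iv F45491)) (tt N8457 F45474))
theorem Q12738 : ∀ i, i < 12738 → P i := stepQ 12737 Q12737 (allL N12737 (tt N9277 F45476) (tt N14960 (iv F51684)) (tt N9276 F45477) (tt N8455 (iv D22972)) (tt N14773 (iv F51038)) (tt N13541 F47618) (tt N8459 F45478))
theorem Q12739 : ∀ i, i < 12739 → P i := stepQ 12738 Q12738 (allL N12738 (tt N12741 (iv F45489)) (tt N12577 F45479) (tt N8456 F45480) (tt N13541 (iv F47616)) (tt N16757 (iv F56511)) (tt N8455 (iv D22973)) (tt N12739 (iv F45484)))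
theorem Q12740 : ∀ i, i < 12740 → P i := stepQ 12739 Q12739 (allL N12739 (tt N8460 F45481) (tt N16253 (iv F54816)) (tt N8458 F45482) (tt N9329 F45483) (tt N16758 (iv F56514)) (tt N8457 (iv D22974)) (tt N12738 F45484))
theorem Q12741 : ∀ i, i < 12741 → P i := stepQ 12740 Q12740 (allL N12740 (tt N9329 F45485) (tt N10776 F45486) (tt N9328 F45487) (tt N8460 F45488) (tt N14777 (iv F51056)) (tt N8459 (iv D22975)) (tt N13556 (iv F47669)))
theorem Q12742 : ∀ i, i < 12742 → P i := stepQ 12741 Q12741 (allL N12741 (tt N12738 F45489) (tt N16845 D27134) (tt N8461 F45490) (tt N13556 (iv F47668)) (tt N16759 (iv F56518)) (tt N12736 F45491) (tt N8460 (iv D22976)))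
theorem Q12743 : ∀ i, i < 12743 → P i := stepQ 12742 Q12742 (allL N12742 (tt N8464 (iv D22977)) (tt N16499 (iv F55635)) (tt N16846 D27135) (tt N14082 (iv F49221)) (tt N16761 (iv F56522)) (tt N8935 F45492) (tt N13275 (iv F46844)))
theorem Q12744 : ∀ i, i < 12744 → P i := stepQ 12743 Q12743 (allL N12743 (tt N16846 (iv F56786)) (tt N8466 F45493) (tt N8464 (iv D22978)) (tt N14913 (iv F51530)) (tt N16762 (iv F56525)) (tt N8936 F45494) (tt N12573 F45497))
theorem Q12745 : ∀ i, i < 12745 → P i := stepQ 12744 Q12744 (allL N12744 (tt N13275 (iv F46842)) (tt N12572 F45495) (tt N12573 (iv F45496)) (tt N14083 (iv F49227)) (tt N16763 (iv F56531)) (tt N13273 (iv F46840)) (tt N8464 (iv D22979)))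
theorem Q12746 : ∀ i, i < 12746 → P i := stepQ 12745 Q12745 (allL N12745 (tt N8466 F45498) (tt N13574 (iv F47738)) (tt N8465 (iv D22980)) (tt N9325 F45500) (tt N16764 (iv F56533)) (tt N8468 F45499) (tt N12750 (iv F45516)))
theorem Q12747 : ∀ i, i < 12747 → P i := stepQ 12746 Q12746 (allL N12746 (tt N9325 F45501) (tt N14913 (iv F51528)) (tt N9310 F45502) (tt N8466 (iv D22981)) (tt N14752 (iv F50961)) (tt N8470 F45503) (tt N13517 (iv F47541)))
theorem Q12748 : ∀ i, i < 12748 → P i := stepQ 12747 Q12747 (allL N12747 (tt N12750 (iv F45514)) (tt N12571 F45504) (tt N8467 F45505) (tt N13517 (iv F47539)) (tt N16765 (iv F56539)) (tt N12748 (iv F45509)) (tt N8466 (iv D22982)))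
theorem Q12749 : ∀ i, i < 12749 → P i := stepQ 12748 Q12748 (allL N12748 (tt N8471 F45506) (tt N16223 (iv F54720)) (tt N8469 F45507) (tt N9282 F45508) (tt N16766 (iv F56542)) (tt N12747 F45509) (tt N8468 (iv D22983)))
theorem Q12750 : ∀ i, i < 12750 → P i := stepQ 12749 Q12749 (allL N12749 (tt N9282 F45510) (tt N10692 F45511) (tt N9280 F45512) (tt N8471 F45513) (tt N14756 (iv F50979)) (tt N13583 (iv F47777)) (tt N8470 (iv D22984)))
theorem Q12751 : ∀ i, i < 12751 → P i := stepQ 12750 Q12750 (allL N12750 (tt N12747 F45514) (tt N16847 D27136) (tt N8472 F45515) (tt N13583 (iv F47776)) (tt N16767 (iv F56546)) (tt N8471 (iv D22985)) (tt N12745 F45516))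
theorem Q12752 : ∀ i, i < 12752 → P i := stepQ 12751 Q12751 (allL N12751 (tt N14392 (iv F50066)) (tt N13503 (iv F47506)) (tt N16321 (iv F55059)) (tt N8481 (iv D22986)) (tt N14388 (iv F50055)) (tt N16603 (iv F55978)) (tt N8484 F45517))
theorem Q12753 : ∀ i, i < 12753 → P i := stepQ 12752 Q12752 (allL N12752 (tt N14883 (iv F51433)) (tt N13940 (iv F48846)) (tt N8483 (iv D22987)) (tt N13941 (iv F48851)) (tt N10632 F45518) (tt N10626 F45519) (tt N14882 (iv F51432)))
theorem Q12754 : ∀ i, i < 12754 → P i := stepQ 12753 Q12753 (allL N12753 (tt N12353 F45520) (tt N10719 (iv F45522)) (tt N14751 (iv F50956)) (tt N8485 F45521) (tt N14378 (iv F50027)) (tt N8484 (iv D22988)) (tt N16848 D27137))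
theorem Q12755 : ∀ i, i < 12755 → P i := stepQ 12754 Q12754 (allL N12754 (tt N12354 F45523) (tt N16849 D27138) (tt N8486 F45524) (tt N16848 (iv F56792)) (tt N10371 F45525) (tt N10370 F45526) (tt N8485 (iv D22989)))
theorem Q12756 : ∀ i, i < 12756 → P i := stepQ 12755 Q12755 (allL N12755 (tt N14337 (iv F49930)) (tt N13527 (iv F47583)) (tt N16371 (iv F55209)) (tt N8489 (iv D22990)) (tt N14333 (iv F49919)) (tt N8492 F45527) (tt N16626 (iv F56055)))
theorem Q12757 : ∀ i, i < 12757 → P i := stepQ 12756 Q12756 (allL N12756 (tt N14851 (iv F51322)) (tt N13954 (iv F48876)) (tt N8491 (iv D22991)) (tt N13964 (iv F48905)) (tt N10583 F45528) (tt N14850 (iv F51320)) (tt N10576 F45529))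
theorem Q12758 : ∀ i, i < 12758 → P i := stepQ 12757 Q12757 (allL N12757 (tt N12399 F45530) (tt N10800 (iv F45532)) (tt N14772 (iv F51033)) (tt N8493 F45531) (tt N14323 (iv F49891)) (tt N16850 D27139) (tt N8492 (iv D22992)))
theorem Q12759 : ∀ i, i < 12759 → P i := stepQ 12758 Q12758 (allL N12758 (tt N12400 F45533) (tt N16851 D27140) (tt N8494 F45534) (tt N16850 (iv F56801)) (tt N10336 F45535) (tt N8493 (iv D22993)) (tt N10335 F45536))
theorem Q12760 : ∀ i, i < 12760 → P i := stepQ 12759 Q12759 (allL N12759 (tt N9901 F45537) (tt N14811 (iv F51177)) (tt N9898 F45538) (tt N10305 F45539) (tt N16779 (iv F56600)) (tt N8496 (iv D22994)) (tt N9896 F45540))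
theorem Q12761 : ∀ i, i < 12761 → P i := stepQ 12760 Q12760 (allL N12760 (tt N8502 F45541) (tt N16852 D27141) (tt N9557 F45542) (tt N16780 (iv F56604)) (tt N8498 F45543) (tt N9554 F45544) (tt N8497 (iv D22995)))
theorem Q12762 : ∀ i, i < 12762 → P i := stepQ 12761 Q12761 (allL N12761 (tt N10394 F45548) (tt N8498 (iv D22996)) (tt N12046 F45545) (tt N8499 F45546) (tt N16852 (iv F56809)) (tt N10393 (iv F45549)) (tt N12045 F45547))
theorem Q12763 : ∀ i, i < 12763 → P i := stepQ 12762 Q12762 (allL N12762 (tt N8994 F45550) (tt N8941 F45551) (tt N14896 (iv F51473)) (tt N8500 (iv D22997)) (tt N16853 D27142) (tt N8938 F45552) (tt N8991 F45553))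
theorem Q12764 : ∀ i, i < 12764 → P i := stepQ 12763 Q12763 (allL N12763 (tt N16854 D27143) (tt N8502 (iv D22998)) (tt N15269 (iv F52421)) (tt N16783 (iv F56609)) (tt N8503 F45554) (tt N15811 (iv F53674)) (tt N8557 F45555))
theorem Q12765 : ∀ i, i < 12765 → P i := stepQ 12764 Q12764 (allL N12764 (tt N8503 (iv D22999)) (tt N14169 (iv F49484)) (tt N12113 F45556) (tt N8504 F45557) (tt N16854 (iv F56818)) (tt N10317 F45558) (tt N8558 F45559))
theorem Q12766 : ∀ i, i < 12766 → P i := stepQ 12765 Q12765 (allL N12765 (tt N10530 F46891) (tt N8504 (iv D23000)) (tt N9858 (iv F46892)) (tt N14169 (iv F49486)) (tt N16787 (iv F56616)) (tt N16673 (iv F56239)) (tt N14167 F49480))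
theorem Q12767 : ∀ i, i < 12767 → P i := stepQ 12766 Q12766 (allL N12766 (tt N14751 (iv F50955)) (tt N8505 (iv D23001)) (tt N12353 F45560) (tt N12779 (iv F45604)) (tt N14379 (iv F50029)) (tt N8506 F45561) (tt N16855 D27144))
theorem Q12768 : ∀ i, i < 12768 → P i := stepQ 12767 Q12767 (allL N12767 (tt N11534 F45562) (tt N11312 F45563) (tt N10264 F45564) (tt N16790 (iv F56626)) (tt N8508 (iv D23002)) (tt N15963 (iv F54098)) (tt N8520 F45565))
theorem Q12769 : ∀ i, i < 12769 → P i := stepQ 12768 Q12768 (allL N12768 (tt N9695 F45568) (tt N8509 (iv D23003)) (tt N12425 (iv F45570)) (tt N9696 F45566) (tt N16792 (iv F56630)) (tt N10353 F45567) (tt N12442 F45569))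
theorem Q12770 : ∀ i, i < 12770 → P i := stepQ 12769 Q12769 (allL N12769 (tt N8510 (iv D23004)) (tt N10493 F45571) (tt N16856 D27145) (tt N9657 F45572) (tt N16777 (iv F56594)) (tt N8511 F45573) (tt N9660 F45574))
theorem Q12771 : ∀ i, i < 12771 → P i := stepQ 12770 Q12770 (allL N12770 (tt N16856 (iv F56825)) (tt N12425 F45575) (tt N8510 (iv D23005)) (tt N12426 F45577) (tt N13760 (iv F48366)) (tt N8512 F45576) (tt N13953 (iv F48875)))
theorem Q12772 : ∀ i, i < 12772 → P i := stepQ 12771 Q12771 (allL N12771 (tt N8512 F45578) (tt N16857 D27146) (tt N8511 (iv D23006)) (tt N13971 (iv F48920)) (tt N13766 F48383) (tt N16856 (iv F56828)) (tt N16858 D27147))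
theorem Q12773 : ∀ i, i < 12773 → P i := stepQ 12772 Q12772 (allL N12772 (tt N8513 F45579) (tt N11761 F45580) (tt N16858 (iv F56831)) (tt N12365 F45581) (tt N16776 (iv F56588)) (tt N12364 F45582) (tt N8511 (iv D23007)))
theorem Q12774 : ∀ i, i < 12774 → P i := stepQ 12773 Q12773 (allL N12773 (tt N16858 (iv F56830)) (tt N14789 (iv F51098)) (tt N8513 F45583) (tt N13976 (iv F48937)) (tt N13768 (iv F48390)) (tt N13930 (iv F48818)) (tt N8512 (iv D23008)))
theorem Q12775 : ∀ i, i < 12775 → P i := stepQ 12774 Q12774 (allL N12774 (tt N8515 F45584) (tt N9112 (iv F45585)) (tt N8514 (iv D23009)) (tt N11940 (iv F45586)) (tt N16793 (iv F56635)) (tt N16745 (iv F56473)) (tt N14881 (iv F51428)))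
theorem Q12776 : ∀ i, i < 12776 → P i := stepQ 12775 Q12775 (allL N12775 (tt N8516 F45587) (tt N10557 F45588) (tt N16745 (iv F56471)) (tt N10561 F45589) (tt N16768 (iv F56550)) (tt N8514 (iv D23010)) (tt N10622 F45590))
theorem Q12777 : ∀ i, i < 12777 → P i := stepQ 12776 Q12776 (allL N12776 (tt N16745 (iv F56474)) (tt N16489 (iv F55606)) (tt N8516 F45591) (tt N11942 F45592) (tt N16795 (iv F56640)) (tt N8515 (iv D23011)) (tt N10623 (iv F45593)))
theorem Q12778 : ∀ i, i < 12778 → P i := stepQ 12777 Q12777 (allL N12777 (tt N14881 (iv F51425)) (tt N12009 F45594) (tt N8517 F45595) (tt N11943 F45596) (tt N16796 (iv F56644)) (tt N14892 (iv F51462)) (tt N8515 (iv D23012)))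
theorem Q12779 : ∀ i, i < 12779 → P i := stepQ 12778 Q12778 (allL N12778 (tt N11541 F45597) (tt N10258 F45598) (tt N8520 F45599) (tt N16859 D27148) (tt N8519 (iv D23013)) (tt N16860 D27149) (tt N10264 F45600))
theorem Q12780 : ∀ i, i < 12780 → P i := stepQ 12779 Q12779 (allL N12779 (tt N10398 F45601) (tt N12073 F45602) (tt N8521 F45603) (tt N12766 F45604) (tt N16860 (iv F56842)) (tt N8519 (iv D23014)) (tt N16322 (iv F55064)))
theorem Q12781 : ∀ i, i < 12781 → P i := stepQ 12780 Q12780 (allL N12780 (tt N11542 F45605) (tt N9137 F45606) (tt N16860 (iv F56841)) (tt N16800 (iv F56656)) (tt N8521 F45607) (tt N8520 (iv D23015)) (tt N15953 (iv F54075)))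
theorem Q12782 : ∀ i, i < 12782 → P i := stepQ 12781 Q12781 (allL N12781 (tt N14105 (iv F49298)) (tt N8522 (iv D23016)) (tt N9758 (iv F45610)) (tt N14103 (iv F49294)) (tt N16802 (iv F56661)) (tt N9766 F45608) (tt N9138 F45609))
theorem Q12783 : ∀ i, i < 12783 → P i := stepQ 12782 Q12782 (allL N12782 (tt N8944 F45611) (tt N9758 F45612) (tt N8523 (iv D23017)) (tt N9754 F45614) (tt N16803 (iv F56667)) (tt N10719 (iv F45615)) (tt N12616 F45613))
theorem Q12784 : ∀ i, i < 12784 → P i := stepQ 12783 Q12783 (allL N12783 (tt N10720 F45616) (tt N10520 F45617) (tt N10719 F45618) (tt N12352 F45619) (tt N16562 (iv F55840)) (tt N8523 (iv D23018)) (tt N12351 F45620))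
theorem Q12785 : ∀ i, i < 12785 → P i := stepQ 12784 Q12784 (allL N12784 (tt N9918 F45621) (tt N14791 (iv F51105)) (tt N9915 F45622) (tt N10344 F45623) (tt N16805 (iv F56675)) (tt N9913 F45624) (tt N8525 (iv D23019)))
theorem Q12786 : ∀ i, i < 12786 → P i := stepQ 12785 Q12785 (allL N12785 (tt N8531 F45625) (tt N16861 D27150) (tt N9594 F45626) (tt N16806 (iv F56679)) (tt N8527 F45627) (tt N8526 (iv D23020)) (tt N9592 F45628))
theorem Q12787 : ∀ i, i < 12787 → P i := stepQ 12786 Q12786 (allL N12786 (tt N10428 (iv F45632)) (tt N8527 (iv D23021)) (tt N11824 F45629) (tt N8528 F45630) (tt N16861 (iv F56844)) (tt N11823 F45631) (tt N10427 (iv F45633)))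
theorem Q12788 : ∀ i, i < 12788 → P i := stepQ 12787 Q12787 (allL N12787 (tt N9057 F45634) (tt N8925 F45635) (tt N14867 (iv F51373)) (tt N8529 (iv D23022)) (tt N16862 D27151) (tt N9055 F45636) (tt N8922 F45637))
theorem Q12789 : ∀ i, i < 12789 → P i := stepQ 12788 Q12788 (allL N12788 (tt N16863 D27152) (tt N8531 (iv D23023)) (tt N15216 (iv F52295)) (tt N16809 (iv F56684)) (tt N8532 F45638) (tt N8566 F45639) (tt N15568 (iv F53060)))
theorem Q12790 : ∀ i, i < 12790 → P i := stepQ 12789 Q12789 (allL N12789 (tt N8532 (iv D23024)) (tt N14190 (iv F49562)) (tt N11906 F45640) (tt N8533 F45641) (tt N16863 (iv F56853)) (tt N8567 F45642) (tt N10354 F45643))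
theorem Q12791 : ∀ i, i < 12791 → P i := stepQ 12790 Q12790 (allL N12790 (tt N10482 F47068) (tt N8533 (iv D23025)) (tt N9805 (iv F47069)) (tt N14190 (iv F49564)) (tt N16813 (iv F56691)) (tt N14188 F49558) (tt N16655 (iv F56171)))
theorem Q12792 : ∀ i, i < 12792 → P i := stepQ 12791 Q12791 (allL N12791 (tt N14772 (iv F51032)) (tt N8534 (iv D23026)) (tt N12399 F45644) (tt N12804 (iv F45688)) (tt N14324 (iv F49893)) (tt N16864 D27153) (tt N8535 F45645))
theorem Q12793 : ∀ i, i < 12793 → P i := stepQ 12792 Q12792 (allL N12792 (tt N11374 F45646) (tt N11471 F45647) (tt N10281 F45648) (tt N16816 (iv F56701)) (tt N8537 (iv D23027)) (tt N8549 F45649) (tt N15738 (iv F53507)))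
theorem Q12794 : ∀ i, i < 12794 → P i := stepQ 12793 Q12793 (allL N12793 (tt N9673 (iv F45654)) (tt N8538 (iv D23028)) (tt N12470 F45653) (tt N9674 F45650) (tt N16818 (iv F56705)) (tt N12478 (iv F45652)) (tt N10316 F45651))
theorem Q12795 : ∀ i, i < 12795 → P i := stepQ 12794 Q12794 (allL N12794 (tt N8539 (iv D23029)) (tt N10443 F45655) (tt N16865 D27154) (tt N9664 F45656) (tt N16772 (iv F56570)) (tt N9667 F45657) (tt N8540 F45658))
theorem Q12796 : ∀ i, i < 12796 → P i := stepQ 12795 Q12795 (allL N12795 (tt N16865 (iv F56860)) (tt N12470 F45659) (tt N8539 (iv D23030)) (tt N12471 F45661) (tt N13735 (iv F48299)) (tt N13974 (iv F48929)) (tt N8541 F45660))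
theorem Q12797 : ∀ i, i < 12797 → P i := stepQ 12796 Q12796 (allL N12796 (tt N8541 F45662) (tt N16866 D27155) (tt N8540 (iv D23031)) (tt N13950 (iv F48869)) (tt N13741 F48314) (tt N16867 D27156) (tt N16865 (iv F56864)))
theorem Q12798 : ∀ i, i < 12798 → P i := stepQ 12797 Q12797 (allL N12797 (tt N8542 F45663) (tt N11804 F45664) (tt N16867 (iv F56866)) (tt N12406 F45665) (tt N16771 (iv F56564)) (tt N8540 (iv D23032)) (tt N12405 F45666))
theorem Q12799 : ∀ i, i < 12799 → P i := stepQ 12798 Q12798 (allL N12798 (tt N16867 (iv F56865)) (tt N14824 (iv F51223)) (tt N8542 F45667) (tt N13956 (iv F48882)) (tt N13743 (iv F48321)) (tt N8541 (iv D23033)) (tt N13933 (iv F48826)))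
theorem Q12800 : ∀ i, i < 12800 → P i := stepQ 12799 Q12799 (allL N12799 (tt N8544 F45668) (tt N9166 F45669) (tt N8543 (iv D23034)) (tt N12144 (iv F45670)) (tt N16819 (iv F56711)) (tt N14849 (iv F51316)) (tt N16744 (iv F56468)))
theorem Q12801 : ∀ i, i < 12801 → P i := stepQ 12800 Q12800 (allL N12800 (tt N8546 F45671) (tt N10610 F45672) (tt N16744 (iv F56466)) (tt N10574 F45673) (tt N16773 (iv F56574)) (tt N10571 F45674) (tt N8543 (iv D23035)))
theorem Q12802 : ∀ i, i < 12802 → P i := stepQ 12801 Q12801 (allL N12801 (tt N14849 (iv F51314)) (tt N11994 F45675) (tt N8545 F45676) (tt N12146 F45677) (tt N16821 (iv F56716)) (tt N8544 (iv D23036)) (tt N14861 (iv F51353)))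
theorem Q12803 : ∀ i, i < 12803 → P i := stepQ 12802 Q12802 (allL N12802 (tt N16744 (iv F56469)) (tt N16349 (iv F55136)) (tt N8546 F45678) (tt N12147 F45679) (tt N16822 (iv F56719)) (tt N10572 (iv F45680)) (tt N8544 (iv D23037)))
theorem Q12804 : ∀ i, i < 12804 → P i := stepQ 12803 Q12803 (allL N12803 (tt N11382 F45681) (tt N10276 F45682) (tt N8549 F45683) (tt N16868 D27157) (tt N8548 (iv D23038)) (tt N10281 F45684) (tt N16869 D27158))
theorem Q12805 : ∀ i, i < 12805 → P i := stepQ 12804 Q12804 (allL N12804 (tt N10432 F45685) (tt N11857 F45686) (tt N8550 F45687) (tt N12791 F45688) (tt N16869 (iv F56877)) (tt N16372 (iv F55214)) (tt N8548 (iv D23039)))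
theorem Q12806 : ∀ i, i < 12806 → P i := stepQ 12805 Q12805 (allL N12805 (tt N11383 F45689) (tt N9083 F45690) (tt N16869 (iv F56876)) (tt N16826 (iv F56731)) (tt N8550 F45691) (tt N15727 (iv F53484)) (tt N8549 (iv D23040)))
theorem Q12807 : ∀ i, i < 12807 → P i := stepQ 12806 Q12806 (allL N12806 (tt N14051 (iv F49137)) (tt N8551 (iv D23041)) (tt N9738 (iv F45694)) (tt N14049 (iv F49133)) (tt N16828 (iv F56736)) (tt N9085 F45692) (tt N9746 F45693))
theorem Q12808 : ∀ i, i < 12808 → P i := stepQ 12807 Q12807 (allL N12807 (tt N8928 F45695) (tt N9738 F45696) (tt N8552 (iv D23042)) (tt N9734 F45698) (tt N16829 (iv F56742)) (tt N12610 F45697) (tt N10800 (iv F45699)))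
theorem Q12809 : ∀ i, i < 12809 → P i := stepQ 12808 Q12808 (allL N12808 (tt N10801 F45700) (tt N10470 F45701) (tt N10800 F45702) (tt N12398 F45703) (tt N16597 (iv F55950)) (tt N12397 F45704) (tt N8552 (iv D23043)))
theorem Q12810 : ∀ i, i < 12810 → P i := stepQ 12809 Q12809 (allL N12809 (tt N14701 (iv F50785)) (tt N16277 (iv F54894)) (tt N10949 F45705) (tt N10313 F45706) (tt N10948 F45707) (tt N14706 (iv F50803)) (tt N8553 (iv D23044)))
theorem Q12811 : ∀ i, i < 12811 → P i := stepQ 12810 Q12810 (allL N12810 (tt N9493 F45708) (tt N13658 (iv F48022)) (tt N9196 F45709) (tt N8556 F45710) (tt N8555 F45711) (tt N9196 F45712) (tt N8554 (iv D23045)))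
theorem Q12812 : ∀ i, i < 12812 → P i := stepQ 12811 Q12811 (allL N12811 (tt N8557 (iv D23046)) (tt N10208 F45713) (tt N15808 (iv F53665)) (tt N16070 (iv F54325)) (tt N8558 F45714) (tt N15861 (iv F53806)) (tt N16854 (iv F56820)))
theorem Q12813 : ∀ i, i < 12813 → P i := stepQ 12812 Q12812 (allL N12812 (tt N14794 (iv F51115)) (tt N8560 (iv D23047)) (tt N14056 F49157) (tt N10465 F45715) (tt N16836 (iv F56762)) (tt N10464 F45716) (tt N16870 D27159))
theorem Q12814 : ∀ i, i < 12814 → P i := stepQ 12813 Q12813 (allL N12813 (tt N14720 (iv F50848)) (tt N16432 (iv F55403)) (tt N10961 F45717) (tt N10350 F45718) (tt N10960 F45719) (tt N8562 (iv D23048)) (tt N14725 (iv F50866)))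
theorem Q12815 : ∀ i, i < 12815 → P i := stepQ 12814 Q12814 (allL N12814 (tt N9509 F45720) (tt N13651 (iv F48002)) (tt N9233 F45721) (tt N8565 F45722) (tt N8564 F45723) (tt N8563 (iv D23049)) (tt N9233 F45724))
theorem Q12816 : ∀ i, i < 12816 → P i := stepQ 12815 Q12815 (allL N12815 (tt N8566 (iv D23050)) (tt N10243 F45725) (tt N15569 F53064) (tt N16147 (iv F54504)) (tt N8567 F45726) (tt N16863 (iv F56854)) (tt N15627 (iv F53218)))
theorem Q12817 : ∀ i, i < 12817 → P i := stepQ 12816 Q12816 (allL N12816 (tt N14826 (iv F51226)) (tt N8569 (iv D23051)) (tt N14109 F49315) (tt N10516 F45727) (tt N16843 (iv F56780)) (tt N16871 D27160) (tt N10514 F45728))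
theorem Q12818 : ∀ i, i < 12818 → P i := stepQ 12817 Q12817 (allL N12817 (tt N9619 F45733) (tt N8572 (iv D23052)) (tt N10254 (iv F45734)) (tt N9578 F45729) (tt N8573 F45730) (tt N9617 F45731) (tt N9536 F45732))
theorem Q12819 : ∀ i, i < 12819 → P i := stepQ 12818 Q12818 (allL N12818 (tt N12445 F45735) (tt N8574 (iv D23053)) (tt N12447 (iv F45738)) (tt N9844 F45736) (tt N13685 (iv F48124)) (tt N9756 F45737) (tt N13521 (iv F47555)))
theorem Q12820 : ∀ i, i < 12820 → P i := stepQ 12819 Q12819 (allL N12819 (tt N9582 (iv F45743)) (tt N8581 (iv D23054)) (tt N10220 (iv F45744)) (tt N9616 F45739) (tt N8582 F45740) (tt N9549 F45741) (tt N9579 F45742))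
theorem Q12821 : ∀ i, i < 12821 → P i := stepQ 12820 Q12820 (allL N12820 (tt N12481 F45745) (tt N8583 (iv D23055)) (tt N12483 (iv F45748)) (tt N9792 F45746) (tt N13694 (iv F48158)) (tt N13491 (iv F47449)) (tt N9736 F45747))
theorem Q12822 : ∀ i, i < 12822 → P i := stepQ 12821 Q12821 (allL N12821 (tt N11269 F45749) (tt N12840 (iv F45806)) (tt N14846 (iv F51300)) (tt N15341 (iv F52594)) (tt N8885 F45750) (tt N13057 (iv F46329)) (tt N8591 (iv D23056)))
theorem Q12823 : ∀ i, i < 12823 → P i := stepQ 12822 Q12822 (allL N12822 (tt N11428 F45751) (tt N12835 (iv F45784)) (tt N14848 (iv F51309)) (tt N15445 (iv F52771)) (tt N8887 F45752) (tt N8592 (iv D23057)) (tt N12982 (iv F46145)))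
theorem Q12824 : ∀ i, i < 12824 → P i := stepQ 12823 Q12823 (allL N12823 (tt N8593 (iv D23058)) (tt N11289 F45753) (tt N16872 D27161) (tt N8597 F45754) (tt N14027 (iv F49070)) (tt N8605 F45755) (tt N12846 (iv F45819)))
theorem Q12825 : ∀ i, i < 12825 → P i := stepQ 12824 Q12824 (allL N12824 (tt N16872 (iv F56888)) (tt N10904 F45756) (tt N8593 (iv D23059)) (tt N16873 D27162) (tt N14034 (iv F49094)) (tt N8606 F45757) (tt N16874 D27163))
theorem Q12826 : ∀ i, i < 12826 → P i := stepQ 12825 Q12825 (allL N12825 (tt N12846 (iv F45817)) (tt N16875 D27164) (tt N16874 (iv F56897)) (tt N8599 F45758) (tt N14035 (iv F49097)) (tt N12843 (iv F45814)) (tt N8593 (iv D23060)))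
theorem Q12827 : ∀ i, i < 12827 → P i := stepQ 12826 Q12826 (allL N12826 (tt N16876 D27165) (tt N8594 (iv D23061)) (tt N16877 D27166) (tt N8600 F45759) (tt N16680 (iv F56265)) (tt N16878 D27167) (tt N16875 (iv F56899)))
theorem Q12828 : ∀ i, i < 12828 → P i := stepQ 12827 Q12827 (allL N12827 (tt N8595 (iv D23062)) (tt N11448 F45760) (tt N16879 D27168) (tt N8601 F45761) (tt N14084 (iv F49230)) (tt N12852 (iv F45829)) (tt N8608 F45762))
theorem Q12829 : ∀ i, i < 12829 → P i := stepQ 12828 Q12828 (allL N12828 (tt N16879 (iv F56908)) (tt N10906 F45763) (tt N8595 (iv D23063)) (tt N16880 D27169) (tt N14091 (iv F49254)) (tt N16881 D27170) (tt N8609 F45764))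
theorem Q12830 : ∀ i, i < 12830 → P i := stepQ 12829 Q12829 (allL N12829 (tt N12852 (iv F45827)) (tt N16882 D27171) (tt N16881 (iv F56917)) (tt N8603 F45765) (tt N14092 (iv F49257)) (tt N8595 (iv D23064)) (tt N12849 (iv F45824)))
theorem Q12831 : ∀ i, i < 12831 → P i := stepQ 12830 Q12830 (allL N12830 (tt N16883 D27172) (tt N8596 (iv D23065)) (tt N16884 D27173) (tt N8604 F45766) (tt N16681 (iv F56267)) (tt N16882 (iv F56919)) (tt N16885 D27174))
theorem Q12832 : ∀ i, i < 12832 → P i := stepQ 12831 Q12831 (allL N12831 (tt N9732 F45767) (tt N10601 (iv F45770)) (tt N8599 F45768) (tt N14158 (iv F49455)) (tt N8889 F45769) (tt N12857 (iv F45845)) (tt N8598 (iv D23066)))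
theorem Q12833 : ∀ i, i < 12833 → P i := stepQ 12832 Q12832 (allL N12832 (tt N16720 (iv F56388)) (tt N8599 (iv D23067)) (tt N10606 F45771) (tt N16875 (iv F56898)) (tt N8890 F45772) (tt N10619 (iv F45774)) (tt N8600 F45773))
theorem Q12834 : ∀ i, i < 12834 → P i := stepQ 12833 Q12833 (allL N12833 (tt N8600 (iv D23068)) (tt N13083 (iv F46385)) (tt N12649 (iv F45777)) (tt N16876 (iv F56901)) (tt N8891 F45775) (tt N8779 F45776) (tt N16720 (iv F56391)))
theorem Q12835 : ∀ i, i < 12835 → P i := stepQ 12834 Q12834 (allL N12834 (tt N12649 F45778) (tt N12839 (iv F45800)) (tt N8600 (iv D23069)) (tt N12679 (iv F45782)) (tt N8892 F45779) (tt N12661 (iv F45781)) (tt N10606 F45780))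
theorem Q12836 : ∀ i, i < 12836 → P i := stepQ 12835 Q12835 (allL N12835 (tt N8779 F45783) (tt N12822 F45784) (tt N12661 F45785) (tt N16878 (iv F56906)) (tt N8893 F45786) (tt N8600 (iv D23070)) (tt N12667 F45787))
theorem Q12837 : ∀ i, i < 12837 → P i := stepQ 12836 Q12836 (allL N12836 (tt N9752 F45788) (tt N10546 F45791) (tt N8603 F45789) (tt N14179 (iv F49518)) (tt N8895 F45790) (tt N8602 (iv D23071)) (tt N12863 (iv F45865)))
theorem Q12838 : ∀ i, i < 12838 → P i := stepQ 12837 Q12837 (allL N12837 (tt N16714 (iv F56365)) (tt N8603 (iv D23072)) (tt N10552 F45792) (tt N16882 (iv F56918)) (tt N8896 F45793) (tt N8604 F45794) (tt N10568 F45795))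
theorem Q12839 : ∀ i, i < 12839 → P i := stepQ 12838 Q12838 (allL N12838 (tt N8604 (iv D23073)) (tt N13012 (iv F46216)) (tt N12658 F45798) (tt N16883 (iv F56921)) (tt N8897 F45796) (tt N16714 (iv F56367)) (tt N8734 (iv F45797)))
theorem Q12840 : ∀ i, i < 12840 → P i := stepQ 12839 Q12839 (allL N12839 (tt N12658 F45799) (tt N12834 F45800) (tt N8604 (iv D23074)) (tt N12708 (iv F45804)) (tt N8898 F45801) (tt N10552 F45802) (tt N12690 (iv F45803)))
theorem Q12841 : ∀ i, i < 12841 → P i := stepQ 12840 Q12840 (allL N12840 (tt N8734 F45805) (tt N12821 F45806) (tt N12690 F45807) (tt N16885 (iv F56926)) (tt N8899 F45808) (tt N12696 (iv F45809)) (tt N8604 (iv D23075)))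
theorem Q12842 : ∀ i, i < 12842 → P i := stepQ 12841 Q12841 (allL N12841 (tt N16886 D27175) (tt N8605 (iv D23076)) (tt N16682 (iv F56273)) (tt N8611 F45810) (tt N16682 (iv F56269)) (tt N16887 D27176) (tt N16888 D27177))
theorem Q12843 : ∀ i, i < 12843 → P i := stepQ 12842 Q12842 (allL N12842 (tt N8606 F45811) (tt N16683 (iv F56272)) (tt N8605 (iv D23077)) (tt N16889 D27178) (tt N16683 (iv F56271)) (tt N16872 (iv F56890)) (tt N16890 D27179))
theorem Q12844 : ∀ i, i < 12844 → P i := stepQ 12843 Q12843 (allL N12843 (tt N8607 F45812) (tt N16891 D27180) (tt N16890 (iv F56943)) (tt N8613 F45813) (tt N16684 (iv F56277)) (tt N12825 F45814) (tt N8605 (iv D23078)))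
theorem Q12845 : ∀ i, i < 12845 → P i := stepQ 12844 Q12844 (allL N12844 (tt N16889 (iv F56939)) (tt N10869 F45815) (tt N16892 D27181) (tt N8606 (iv D23079)) (tt N16893 D27182) (tt N16873 (iv F56895)) (tt N16894 D27183))
theorem Q12846 : ∀ i, i < 12846 → P i := stepQ 12845 Q12845 (allL N12845 (tt N16890 (iv F56942)) (tt N16895 D27184) (tt N8607 F45816) (tt N16894 (iv F56955)) (tt N16686 (iv F56281)) (tt N16896 D27185) (tt N8606 (iv D23080)))
theorem Q12847 : ∀ i, i < 12847 → P i := stepQ 12846 Q12846 (allL N12846 (tt N12825 F45817) (tt N16731 F56426) (tt N16896 (iv F56958)) (tt N8615 F45818) (tt N16687 (iv F56284)) (tt N8607 (iv D23081)) (tt N12823 F45819))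
theorem Q12848 : ∀ i, i < 12848 → P i := stepQ 12847 Q12847 (allL N12847 (tt N16897 D27186) (tt N8608 (iv D23082)) (tt N16688 (iv F56971)) (tt N8616 F45820) (tt N16688 (iv F56288)) (tt N16898 D27188) (tt N16899 D27189))
theorem Q12849 : ∀ i, i < 12849 → P i := stepQ 12848 Q12848 (allL N12848 (tt N8609 F45821) (tt N16689 F56972) (tt N8608 (iv D23083)) (tt N16900 D27190) (tt N16689 (iv F56290)) (tt N16901 D27191) (tt N16879 (iv F56910)))
theorem Q12850 : ∀ i, i < 12850 → P i := stepQ 12849 Q12849 (allL N12849 (tt N8610 F45822) (tt N16902 D27192) (tt N16901 (iv F56978)) (tt N8618 F45823) (tt N16690 (iv F56293)) (tt N8608 (iv D23084)) (tt N12829 F45824))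
theorem Q12851 : ∀ i, i < 12851 → P i := stepQ 12850 Q12850 (allL N12850 (tt N16900 (iv F56974)) (tt N10877 F45825) (tt N16903 D27193) (tt N8609 (iv D23085)) (tt N16904 D27194) (tt N16905 D27195) (tt N16880 (iv F56915)))
theorem Q12852 : ∀ i, i < 12852 → P i := stepQ 12851 Q12851 (allL N12851 (tt N16901 (iv F56977)) (tt N16906 D27196) (tt N8610 F45826) (tt N16905 (iv F56990)) (tt N16692 (iv F56297)) (tt N8609 (iv D23086)) (tt N16907 D27197))
theorem Q12853 : ∀ i, i < 12853 → P i := stepQ 12852 Q12852 (allL N12852 (tt N12829 F45827) (tt N16727 F56415) (tt N16907 (iv F56993)) (tt N8620 F45828) (tt N16693 (iv F56300)) (tt N12827 F45829) (tt N8610 (iv D23087)))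
theorem Q12854 : ∀ i, i < 12854 → P i := stepQ 12853 Q12853 (allL N12853 (tt N8611 (iv D23088)) (tt N8637 F45830) (tt N11682 (iv F45832)) (tt N16886 (iv F56929)) (tt N8900 F45831) (tt N12515 (iv F45833)) (tt N11461 (iv F45834)))
theorem Q12855 : ∀ i, i < 12855 → P i := stepQ 12854 Q12854 (allL N12854 (tt N11682 F45835) (tt N14153 (iv F49440)) (tt N8611 (iv D23089)) (tt N16908 D27198) (tt N8901 F45836) (tt N16264 (iv F54847)) (tt N16909 D27199))
theorem Q12856 : ∀ i, i < 12856 → P i := stepQ 12855 Q12855 (allL N12855 (tt N12515 F45837) (tt N11290 F45838) (tt N16264 (iv F54846)) (tt N16887 (iv F56935)) (tt N8902 F45839) (tt N8611 (iv D23090)) (tt N13032 (iv F46274)))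
theorem Q12857 : ∀ i, i < 12857 → P i := stepQ 12856 Q12856 (allL N12856 (tt N11461 F45840) (tt N13089 F46403) (tt N16909 (iv F56999)) (tt N16888 (iv F56938)) (tt N8903 F45841) (tt N16694 (iv F56306)) (tt N8611 (iv D23091)))
theorem Q12858 : ∀ i, i < 12858 → P i := stepQ 12857 Q12857 (allL N12857 (tt N8614 F45842) (tt N10500 (iv F45846)) (tt N8613 F45843) (tt N14154 (iv F49444)) (tt N8904 F45844) (tt N12831 F45845) (tt N8612 (iv D23092)))
theorem Q12859 : ∀ i, i < 12859 → P i := stepQ 12858 Q12858 (allL N12858 (tt N13092 (iv F46409)) (tt N8613 (iv D23093)) (tt N10502 F45847) (tt N16891 (iv F56945)) (tt N8905 F45848) (tt N8775 F45849) (tt N13089 (iv F46402)))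
theorem Q12860 : ∀ i, i < 12860 → P i := stepQ 12859 Q12859 (allL N12859 (tt N8616 (iv D23094)) (tt N8653 F45850) (tt N11685 (iv F45852)) (tt N16897 (iv F56961)) (tt N8907 F45851) (tt N11302 (iv F45853)) (tt N12518 (iv F45854)))
theorem Q12861 : ∀ i, i < 12861 → P i := stepQ 12860 Q12860 (allL N12860 (tt N11685 F45855) (tt N14174 (iv F49503)) (tt N8616 (iv D23095)) (tt N16910 D27200) (tt N8908 F45856) (tt N16911 D27201) (tt N16421 (iv F55371)))
theorem Q12862 : ∀ i, i < 12862 → P i := stepQ 12861 Q12861 (allL N12861 (tt N11302 F45857) (tt N13019 F46236) (tt N16911 (iv F57005)) (tt N16898 (iv F56965)) (tt N8909 F45858) (tt N8616 (iv D23096)) (tt N16695 (iv F56310)))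
theorem Q12863 : ∀ i, i < 12863 → P i := stepQ 12862 Q12862 (allL N12862 (tt N12518 F45859) (tt N11450 F45860) (tt N16421 (iv F55369)) (tt N16899 (iv F56968)) (tt N8910 F45861) (tt N12956 (iv F46088)) (tt N8616 (iv D23097)))
theorem Q12864 : ∀ i, i < 12864 → P i := stepQ 12863 Q12863 (allL N12863 (tt N8619 F45862) (tt N10450 F45866) (tt N8618 F45863) (tt N14175 (iv F49507)) (tt N8911 F45864) (tt N8617 (iv D23098)) (tt N12836 F45865))
theorem Q12865 : ∀ i, i < 12865 → P i := stepQ 12864 Q12864 (allL N12864 (tt N13021 (iv F46239)) (tt N8618 (iv D23099)) (tt N10453 F45867) (tt N16902 (iv F56980)) (tt N8912 F45868) (tt N13019 (iv F46235)) (tt N8729 F45869))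
theorem Q12866 : ∀ i, i < 12866 → P i := stepQ 12865 Q12865 (allL N12865 (tt N8623 F45870) (tt N10107 (iv F45875)) (tt N12521 F45871) (tt N10166 F45872) (tt N11184 F45873) (tt N12521 F45874) (tt N8621 (iv D23100)))
theorem Q12867 : ∀ i, i < 12867 → P i := stepQ 12866 Q12866 (allL N12866 (tt N8626 F45876) (tt N10088 F45881) (tt N12522 F45877) (tt N10133 F45878) (tt N11114 F45879) (tt N8624 (iv D23101)) (tt N12522 F45880))
theorem Q12868 : ∀ i, i < 12868 → P i := stepQ 12867 Q12867 (allL N12867 (tt N8627 (iv D23102)) (tt N16886 (iv F56928)) (tt N16912 D27202) (tt N8637 F45882) (tt N15601 (iv F53131)) (tt N12891 (iv F45928)) (tt N11460 (iv F45883)))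
theorem Q12869 : ∀ i, i < 12869 → P i := stepQ 12868 Q12868 (allL N12868 (tt N16912 (iv F57007)) (tt N10978 F45884) (tt N8627 (iv D23103)) (tt N13725 (iv F48277)) (tt N15603 (iv F53139)) (tt N14305 (iv F49850)) (tt N16913 D27203))
theorem Q12870 : ∀ i, i < 12870 → P i := stepQ 12869 Q12869 (allL N12869 (tt N11460 F45885) (tt N12931 (iv F46026)) (tt N16913 (iv F57014)) (tt N8640 F45886) (tt N15606 (iv F53148)) (tt N16914 D27204) (tt N8627 (iv D23104)))
theorem Q12871 : ∀ i, i < 12871 → P i := stepQ 12870 Q12870 (allL N12870 (tt N8628 (iv D23105)) (tt N16915 D27205) (tt N15426 (iv F52737)) (tt N8645 F45887) (tt N16696 (iv F56312)) (tt N12878 (iv F45903)) (tt N8629 F45888))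
theorem Q12872 : ∀ i, i < 12872 → P i := stepQ 12871 Q12871 (allL N12871 (tt N15426 (iv F52736)) (tt N15326 (iv F52571)) (tt N8628 (iv D23106)) (tt N15425 (iv F52735)) (tt N16697 (iv F56314)) (tt N16916 D27206) (tt N8630 F45889))
theorem Q12873 : ∀ i, i < 12873 → P i := stepQ 12872 Q12872 (allL N12872 (tt N12878 (iv F45901)) (tt N12925 (iv F46014)) (tt N16916 (iv F57020)) (tt N8647 F45890) (tt N16698 (iv F56318)) (tt N8628 (iv D23107)) (tt N12875 (iv F45896)))
theorem Q12874 : ∀ i, i < 12874 → P i := stepQ 12873 Q12873 (allL N12873 (tt N15348 (iv F52618)) (tt N8629 (iv D23108)) (tt N16917 D27207) (tt N8648 F45891) (tt N16699 (iv F56320)) (tt N15346 F52616) (tt N16918 D27208))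
theorem Q12875 : ∀ i, i < 12875 → P i := stepQ 12874 Q12874 (allL N12874 (tt N8630 F45892) (tt N16919 D27209) (tt N8629 (iv D23109)) (tt N10119 F45893) (tt N16700 (iv F56323)) (tt N16920 D27210) (tt N15426 (iv F52738)))
theorem Q12876 : ∀ i, i < 12876 → P i := stepQ 12875 Q12875 (allL N12875 (tt N8631 F45894) (tt N16710 (iv F56353)) (tt N16920 (iv F57026)) (tt N8650 F45895) (tt N16701 (iv F56328)) (tt N8629 (iv D23110)) (tt N12872 F45896))
theorem Q12877 : ∀ i, i < 12877 → P i := stepQ 12876 Q12876 (allL N12876 (tt N10119 F45897) (tt N15054 (iv F51961)) (tt N10118 F45898) (tt N8630 (iv D23111)) (tt N11216 (iv F45899)) (tt N15215 (iv F52293)) (tt N15425 (iv F52734)))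
theorem Q12878 : ∀ i, i < 12878 → P i := stepQ 12877 Q12877 (allL N12877 (tt N16920 (iv F57025)) (tt N16921 D27211) (tt N8631 F45900) (tt N15215 (iv F52294)) (tt N16703 (iv F56333)) (tt N8630 (iv D23112)) (tt N16922 D27212))
theorem Q12879 : ∀ i, i < 12879 → P i := stepQ 12878 Q12878 (allL N12878 (tt N12872 F45901) (tt N16923 D27213) (tt N16922 (iv F57031)) (tt N8652 F45902) (tt N16704 (iv F56336)) (tt N12870 F45903) (tt N8631 (iv D23113)))
theorem Q12880 : ∀ i, i < 12880 → P i := stepQ 12879 Q12879 (allL N12879 (tt N8632 (iv D23114)) (tt N16897 (iv F56960)) (tt N16924 D27214) (tt N8653 F45904) (tt N15840 (iv F53737)) (tt N11301 (iv F45905)) (tt N12906 (iv F45967)))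
theorem Q12881 : ∀ i, i < 12881 → P i := stepQ 12880 Q12880 (allL N12880 (tt N16924 (iv F57037)) (tt N11003 F45906) (tt N8632 (iv D23115)) (tt N13750 (iv F48344)) (tt N15842 (iv F53746)) (tt N16925 D27215) (tt N14360 (iv F49986)))
theorem Q12882 : ∀ i, i < 12882 → P i := stepQ 12881 Q12881 (allL N12881 (tt N11301 F45907) (tt N12947 (iv F46060)) (tt N16925 (iv F57044)) (tt N8655 F45908) (tt N15843 (iv F53749)) (tt N8632 (iv D23116)) (tt N16926 D27216))
theorem Q12883 : ∀ i, i < 12883 → P i := stepQ 12882 Q12882 (allL N12882 (tt N8633 (iv D23117)) (tt N16927 D27217) (tt N15529 (iv F52960)) (tt N8661 F45909) (tt N16705 (iv F56339)) (tt N8634 F45910) (tt N12890 (iv F45925)))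
theorem Q12884 : ∀ i, i < 12884 → P i := stepQ 12883 Q12883 (allL N12883 (tt N15529 (iv F52959)) (tt N15336 (iv F52587)) (tt N8633 (iv D23118)) (tt N15528 (iv F52958)) (tt N16706 (iv F56341)) (tt N8635 F45911) (tt N16928 D27218))
theorem Q12885 : ∀ i, i < 12885 → P i := stepQ 12884 Q12884 (allL N12884 (tt N12890 (iv F45923)) (tt N12941 (iv F46046)) (tt N16928 (iv F57050)) (tt N8663 F45912) (tt N16707 (iv F56345)) (tt N12887 (iv F45918)) (tt N8633 (iv D23119)))
theorem Q12886 : ∀ i, i < 12886 → P i := stepQ 12885 Q12885 (allL N12885 (tt N15452 (iv F52795)) (tt N8634 (iv D23120)) (tt N16929 D27219) (tt N8664 F45913) (tt N16708 (iv F56347)) (tt N16930 D27220) (tt N15450 F52793))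
theorem Q12887 : ∀ i, i < 12887 → P i := stepQ 12886 Q12886 (allL N12886 (tt N8635 F45914) (tt N16931 D27221) (tt N8634 (iv D23121)) (tt N10100 F45915) (tt N16709 (iv F56350)) (tt N15529 (iv F52961)) (tt N16932 D27222))
theorem Q12888 : ∀ i, i < 12888 → P i := stepQ 12887 Q12887 (allL N12887 (tt N8636 F45916) (tt N16701 (iv F56326)) (tt N16932 (iv F57056)) (tt N8666 F45917) (tt N16710 (iv F56355)) (tt N12884 F45918) (tt N8634 (iv D23122)))
theorem Q12889 : ∀ i, i < 12889 → P i := stepQ 12888 Q12888 (allL N12888 (tt N10100 F45919) (tt N15042 (iv F51934)) (tt N10099 F45920) (tt N8635 (iv D23123)) (tt N11147 (iv F45921)) (tt N15528 (iv F52957)) (tt N15181 (iv F52237)))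
theorem Q12890 : ∀ i, i < 12890 → P i := stepQ 12889 Q12889 (allL N12889 (tt N16932 (iv F57055)) (tt N16933 D27223) (tt N8636 F45922) (tt N15181 (iv F52238)) (tt N16712 (iv F56360)) (tt N16934 D27224) (tt N8635 (iv D23124)))
theorem Q12891 : ∀ i, i < 12891 → P i := stepQ 12890 Q12890 (allL N12890 (tt N12884 F45923) (tt N16935 D27225) (tt N16934 (iv F57061)) (tt N8668 F45924) (tt N16713 (iv F56363)) (tt N8636 (iv D23125)) (tt N12882 F45925))
theorem Q12892 : ∀ i, i < 12892 → P i := stepQ 12891 Q12891 (allL N12891 (tt N11293 F45926) (tt N14027 (iv F49069)) (tt N14647 (iv F50639)) (tt N8638 (iv D23126)) (tt N11289 F45927) (tt N12867 F45928) (tt N16914 (iv F57018)))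
theorem Q12893 : ∀ i, i < 12893 → P i := stepQ 12892 Q12892 (allL N12892 (tt N11456 F45929) (tt N13081 F46381) (tt N8640 F45930) (tt N16914 (iv F57016)) (tt N8915 F45931) (tt N8640 F45932) (tt N8638 (iv D23127)))
theorem Q12894 : ∀ i, i < 12894 → P i := stepQ 12893 Q12893 (allL N12893 (tt N12988 (iv F46160)) (tt N16936 D27226) (tt N8859 F45933) (tt N8917 F45934) (tt N8643 F45935) (tt N12977 (iv F46137)) (tt N8642 (iv D23128)))
theorem Q12895 : ∀ i, i < 12895 → P i := stepQ 12894 Q12894 (allL N12894 (tt N16937 D27227) (tt N8643 (iv D23129)) (tt N16938 D27228) (tt N8644 F45936) (tt N16936 (iv F57068)) (tt N16939 D27229) (tt N16752 (iv F56493)))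
theorem Q12896 : ∀ i, i < 12896 → P i := stepQ 12895 Q12895 (allL N12895 (tt N8644 (iv D23130)) (tt N16363 F55183) (tt N16940 D27230) (tt N16937 (iv F57069)) (tt N8919 F45937) (tt N16941 D27231) (tt N16753 (iv F56495)))
theorem Q12897 : ∀ i, i < 12897 → P i := stepQ 12896 Q12896 (allL N12896 (tt N16940 (iv F57071)) (tt N8646 F45938) (tt N8644 (iv D23131)) (tt N11399 (iv F45940)) (tt N8920 F45939) (tt N16942 D27232) (tt N16754 (iv F56498)))
theorem Q12898 : ∀ i, i < 12898 → P i := stepQ 12897 Q12897 (allL N12897 (tt N16941 (iv F57074)) (tt N12981 (iv F46142)) (tt N16942 (iv F57077)) (tt N16939 (iv F57070)) (tt N8921 F45941) (tt N8644 (iv D23132)) (tt N16943 D27233))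
theorem Q12899 : ∀ i, i < 12899 → P i := stepQ 12898 Q12898 (allL N12898 (tt N14093 (iv F49258)) (tt N8645 (iv D23133)) (tt N16944 D27234) (tt N16915 (iv F57019)) (tt N8922 F45942) (tt N13078 F46374) (tt N16862 (iv F56851)))
theorem Q12900 : ∀ i, i < 12900 → P i := stepQ 12899 Q12899 (allL N12899 (tt N8648 (iv D23134)) (tt N12914 (iv F45982)) (tt N16945 D27235) (tt N15348 (iv F52619)) (tt N8923 F45943) (tt N11270 F45944) (tt N11071 (iv F45945)))
theorem Q12901 : ∀ i, i < 12901 → P i := stepQ 12900 Q12900 (allL N12900 (tt N16945 (iv F57086)) (tt N16946 D27236) (tt N8648 (iv D23135)) (tt N16947 D27237) (tt N8924 F45946) (tt N9176 F45947) (tt N16948 D27238))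
theorem Q12902 : ∀ i, i < 12902 → P i := stepQ 12901 Q12901 (allL N12901 (tt N11071 F45948) (tt N16862 (iv F56849)) (tt N16948 (iv F57096)) (tt N16918 (iv F57022)) (tt N8925 F45949) (tt N12561 F45950) (tt N8648 (iv D23136)))
theorem Q12903 : ∀ i, i < 12903 → P i := stepQ 12902 Q12902 (allL N12902 (tt N14875 (iv F51397)) (tt N8649 (iv D23137)) (tt N16946 (iv F57090)) (tt N14535 (iv F50395)) (tt N8926 F45951) (tt N16949 D27239) (tt N15631 (iv F53232)))
theorem Q12904 : ∀ i, i < 12904 → P i := stepQ 12903 Q12903 (allL N12903 (tt N8651 F45952) (tt N16950 D27240) (tt N8650 F45953) (tt N11101 F45954) (tt N8927 F45955) (tt N8649 (iv D23138)) (tt N10771 F45956))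
theorem Q12905 : ∀ i, i < 12905 → P i := stepQ 12904 Q12904 (allL N12904 (tt N16829 (iv F56740)) (tt N8651 (iv D23139)) (tt N12327 F45957) (tt N14536 (iv F50399)) (tt N8928 F45958) (tt N12326 F45959) (tt N10799 F45960))
theorem Q12906 : ∀ i, i < 12906 → P i := stepQ 12905 Q12905 (allL N12905 (tt N12560 (iv F45964)) (tt N8652 (iv D23140)) (tt N10796 F45961) (tt N16923 (iv F57035)) (tt N8929 F45962) (tt N13098 (iv F46429)) (tt N12558 F45963))
theorem Q12907 : ∀ i, i < 12907 → P i := stepQ 12906 Q12906 (allL N12906 (tt N11452 F45965) (tt N14084 (iv F49229)) (tt N14676 (iv F50716)) (tt N8654 (iv D23141)) (tt N11448 F45966) (tt N16926 (iv F57048)) (tt N12879 F45967))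
theorem Q12908 : ∀ i, i < 12908 → P i := stepQ 12907 Q12907 (allL N12907 (tt N11298 F45968) (tt N13010 F46212) (tt N8655 F45969) (tt N16926 (iv F57046)) (tt N8931 F45970) (tt N8654 (iv D23142)) (tt N8655 F45971))
theorem Q12909 : ∀ i, i < 12909 → P i := stepQ 12908 Q12908 (allL N12908 (tt N13062 (iv F46340)) (tt N16951 D27241) (tt N8873 F45972) (tt N8933 F45973) (tt N8659 F45974) (tt N8658 (iv D23143)) (tt N13052 (iv F46321)))
theorem Q12910 : ∀ i, i < 12910 → P i := stepQ 12909 Q12909 (allL N12909 (tt N16952 D27242) (tt N8659 (iv D23144)) (tt N16953 D27243) (tt N8660 F45975) (tt N16951 (iv F57107)) (tt N16760 (iv F56521)) (tt N16954 D27244))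
theorem Q12911 : ∀ i, i < 12911 → P i := stepQ 12910 Q12910 (allL N12910 (tt N8660 (iv D23145)) (tt N16500 F55641) (tt N16955 D27245) (tt N16952 (iv F57108)) (tt N8935 F45976) (tt N16761 (iv F56523)) (tt N16956 D27246))
theorem Q12912 : ∀ i, i < 12912 → P i := stepQ 12911 Q12911 (allL N12911 (tt N16955 (iv F57110)) (tt N8662 F45977) (tt N8660 (iv D23146)) (tt N11558 (iv F45979)) (tt N8936 F45978) (tt N16762 (iv F56526)) (tt N16957 D27247))
theorem Q12913 : ∀ i, i < 12913 → P i := stepQ 12912 Q12912 (allL N12912 (tt N16956 (iv F57113)) (tt N13056 (iv F46326)) (tt N16957 (iv F57116)) (tt N16954 (iv F57109)) (tt N8937 F45980) (tt N16958 D27248) (tt N8660 (iv D23147)))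
theorem Q12914 : ∀ i, i < 12914 → P i := stepQ 12913 Q12913 (allL N12913 (tt N14036 (iv F49098)) (tt N8661 (iv D23148)) (tt N16959 D27249) (tt N16927 (iv F57049)) (tt N8938 F45981) (tt N16853 (iv F56815)) (tt N13003 F46192))
theorem Q12915 : ∀ i, i < 12915 → P i := stepQ 12914 Q12914 (allL N12914 (tt N8664 (iv D23149)) (tt N12899 F45982) (tt N16960 D27250) (tt N15452 (iv F52797)) (tt N8939 F45983) (tt N11033 F45985) (tt N11430 F45984))
theorem Q12916 : ∀ i, i < 12916 → P i := stepQ 12915 Q12915 (allL N12915 (tt N16960 (iv F57125)) (tt N16961 D27251) (tt N8664 (iv D23150)) (tt N16962 D27252) (tt N8940 F45986) (tt N16963 D27253) (tt N9122 F45987))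
theorem Q12917 : ∀ i, i < 12917 → P i := stepQ 12916 Q12916 (allL N12916 (tt N11033 F45988) (tt N16853 (iv F56814)) (tt N16963 (iv F57135)) (tt N16930 (iv F57052)) (tt N8941 F45989) (tt N8664 (iv D23151)) (tt N12555 F45990))
theorem Q12918 : ∀ i, i < 12918 → P i := stepQ 12917 Q12917 (allL N12917 (tt N14873 (iv F51390)) (tt N8665 (iv D23152)) (tt N16961 (iv F57129)) (tt N14486 (iv F50283)) (tt N8942 F45991) (tt N15865 (iv F53820)) (tt N16964 D27254))
theorem Q12919 : ∀ i, i < 12919 → P i := stepQ 12918 Q12918 (allL N12918 (tt N8667 F45992) (tt N16965 D27255) (tt N8666 F45993) (tt N11063 F45994) (tt N8943 F45995) (tt N10687 F45996) (tt N8665 (iv D23153)))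
theorem Q12920 : ∀ i, i < 12920 → P i := stepQ 12919 Q12919 (allL N12919 (tt N16803 (iv F56665)) (tt N8667 (iv D23154)) (tt N12269 F45997) (tt N14487 (iv F50287)) (tt N8944 F45998) (tt N10718 F45999) (tt N12267 F46000))
theorem Q12921 : ∀ i, i < 12921 → P i := stepQ 12920 Q12920 (allL N12920 (tt N12566 (iv F46004)) (tt N8668 (iv D23155)) (tt N10715 F46001) (tt N16935 (iv F57065)) (tt N8945 F46002) (tt N12564 F46003) (tt N13028 (iv F46261)))
theorem Q12922 : ∀ i, i < 12922 → P i := stepQ 12921 Q12921 (allL N12921 (tt N8670 F46005) (tt N16966 D27256) (tt N10983 F46006) (tt N8695 F46007) (tt N10982 F46008) (tt N11300 F46009) (tt N8669 (iv D23156)))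
theorem Q12923 : ∀ i, i < 12923 → P i := stepQ 12922 Q12922 (allL N12922 (tt N16967 D27257) (tt N8670 (iv D23157)) (tt N16968 D27258) (tt N8701 F46010) (tt N15217 (iv F52300)) (tt N16969 D27259) (tt N8671 F46011))
theorem Q12924 : ∀ i, i < 12924 → P i := stepQ 12923 Q12923 (allL N12923 (tt N8671 (iv D23158)) (tt N15446 F52776) (tt N16970 D27260) (tt N8709 F46012) (tt N15447 (iv F52778)) (tt N15449 (iv F52788)) (tt N16967 (iv F57152)))
theorem Q12925 : ∀ i, i < 12925 → P i := stepQ 12924 Q12924 (allL N12924 (tt N16970 (iv F57161)) (tt N11104 F46013) (tt N8671 (iv D23159)) (tt N16971 D27261) (tt N16726 (iv F56412)) (tt N16972 D27262) (tt N16968 (iv F57156)))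
theorem Q12926 : ∀ i, i < 12926 → P i := stepQ 12925 Q12925 (allL N12925 (tt N15449 (iv F52789)) (tt N12872 F46014) (tt N16972 (iv F57164)) (tt N8711 F46015) (tt N15450 (iv F52791)) (tt N8671 (iv D23160)) (tt N16708 F56348))
theorem Q12927 : ∀ i, i < 12927 → P i := stepQ 12926 Q12926 (allL N12926 (tt N8672 (iv D23161)) (tt N8674 (iv F46021)) (tt N8672 F46020) (tt N9971 F46016) (tt N10932 F46017) (tt N9963 F46018) (tt N10932 F46019))
theorem Q12928 : ∀ i, i < 12928 → P i := stepQ 12927 Q12927 (allL N12927 (tt N16973 D27263) (tt N8673 (iv D23162)) (tt N16974 D27264) (tt N8719 F46022) (tt N12951 (iv F46073)) (tt N16975 D27265) (tt N16976 D27266))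
theorem Q12929 : ∀ i, i < 12929 → P i := stepQ 12928 Q12928 (allL N12928 (tt N16977 D27267) (tt N8675 (iv D23163)) (tt N16978 D27268) (tt N8723 F46023) (tt N12952 (iv F46075)) (tt N8676 F46024) (tt N16979 D27269))
theorem Q12930 : ∀ i, i < 12930 → P i := stepQ 12929 Q12929 (allL N12929 (tt N8676 (iv D23164)) (tt N16693 F56302) (tt N16980 D27270) (tt N8724 F46025) (tt N16727 (iv F56414)) (tt N16977 (iv F57178)) (tt N16981 D27271))
theorem Q12931 : ∀ i, i < 12931 → P i := stepQ 12930 Q12930 (allL N12930 (tt N16980 (iv F57185)) (tt N15322 (iv F52559)) (tt N8676 (iv D23165)) (tt N16982 D27272) (tt N16728 (iv F56417)) (tt N16978 (iv F57182)) (tt N16983 D27273))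
theorem Q12932 : ∀ i, i < 12932 → P i := stepQ 12931 Q12931 (allL N12931 (tt N16981 (iv F57186)) (tt N12869 F46026) (tt N16983 (iv F57191)) (tt N8726 F46027) (tt N16729 (iv F56421)) (tt N16984 D27274) (tt N8676 (iv D23166)))
theorem Q12933 : ∀ i, i < 12933 → P i := stepQ 12932 Q12932 (allL N12932 (tt N8677 (iv D23167)) (tt N12948 (iv F46062)) (tt N11223 F46028) (tt N8727 F46029) (tt N12948 (iv F46065)) (tt N16985 D27275) (tt N16986 D27276))
theorem Q12934 : ∀ i, i < 12934 → P i := stepQ 12933 Q12933 (allL N12933 (tt N16985 (iv F57195)) (tt N14860 (iv F51350)) (tt N11225 F46030) (tt N8729 F46031) (tt N12949 (iv F46068)) (tt N8677 (iv D23168)) (tt N16902 (iv F56981)))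
theorem Q12935 : ∀ i, i < 12935 → P i := stepQ 12934 Q12934 (allL N12934 (tt N16986 (iv F57198)) (tt N16976 (iv F57174)) (tt N11226 F46032) (tt N8730 F46033) (tt N12950 (iv F46071)) (tt N16987 D27277) (tt N8677 (iv D23169)))
theorem Q12936 : ∀ i, i < 12936 → P i := stepQ 12935 Q12935 (allL N12935 (tt N16885 (iv F56924)) (tt N8678 (iv D23170)) (tt N16988 D27278) (tt N8734 F46034) (tt N12943 (iv F46055)) (tt N14860 (iv F51351)) (tt N16883 F56922))
theorem Q12937 : ∀ i, i < 12937 → P i := stepQ 12936 Q12936 (allL N12936 (tt N16989 D27279) (tt N8680 (iv D23171)) (tt N15090 (iv F52041)) (tt N8737 F46035) (tt N12944 (iv F46057)) (tt N16990 D27280) (tt N12554 F46036))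
theorem Q12938 : ∀ i, i < 12938 → P i := stepQ 12937 Q12937 (allL N12937 (tt N8682 F46037) (tt N16991 D27281) (tt N11007 F46038) (tt N8739 F46039) (tt N11006 F46040) (tt N8681 (iv D23172)) (tt N11459 F46041))
theorem Q12939 : ∀ i, i < 12939 → P i := stepQ 12938 Q12938 (allL N12938 (tt N16992 D27282) (tt N8682 (iv D23173)) (tt N16993 D27283) (tt N8745 F46042) (tt N15270 (iv F52426)) (tt N8683 F46043) (tt N16994 D27284))
theorem Q12940 : ∀ i, i < 12940 → P i := stepQ 12939 Q12939 (allL N12939 (tt N8683 (iv D23174)) (tt N15342 F52599) (tt N16995 D27285) (tt N8754 F46044) (tt N15343 (iv F52601)) (tt N16992 (iv F57223)) (tt N15345 (iv F52611)))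
theorem Q12941 : ∀ i, i < 12941 → P i := stepQ 12940 Q12940 (allL N12940 (tt N16995 (iv F57233)) (tt N11174 F46045) (tt N8683 (iv D23175)) (tt N16996 D27286) (tt N16730 (iv F56423)) (tt N16993 (iv F57227)) (tt N16997 D27287))
theorem Q12942 : ∀ i, i < 12942 → P i := stepQ 12941 Q12941 (allL N12941 (tt N15345 F52612) (tt N12884 F46046) (tt N16997 (iv F57236)) (tt N8756 F46047) (tt N15346 (iv F52614)) (tt N16699 F56321) (tt N8683 (iv D23176)))
theorem Q12943 : ∀ i, i < 12943 → P i := stepQ 12942 Q12942 (allL N12942 (tt N8684 (iv D23177)) (tt N8686 (iv F46053)) (tt N8684 F46052) (tt N9969 F46048) (tt N10923 F46049) (tt N10923 F46050) (tt N9957 F46051))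
theorem Q12944 : ∀ i, i < 12944 → P i := stepQ 12943 Q12943 (allL N12943 (tt N16998 D27288) (tt N8685 (iv D23178)) (tt N16999 D27289) (tt N8764 F46054) (tt N12935 F46055) (tt N17000 D27290) (tt N17001 D27291))
theorem Q12945 : ∀ i, i < 12945 → P i := stepQ 12944 Q12944 (allL N12944 (tt N17002 D27292) (tt N8687 (iv D23179)) (tt N17003 D27293) (tt N8768 F46056) (tt N12936 F46057) (tt N17004 D27294) (tt N8688 F46058))
theorem Q12946 : ∀ i, i < 12946 → P i := stepQ 12945 Q12945 (allL N12945 (tt N8688 (iv D23180)) (tt N16687 F56286) (tt N17005 D27295) (tt N8769 F46059) (tt N16731 (iv F56425)) (tt N17006 D27296) (tt N17002 (iv F57252)))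
theorem Q12947 : ∀ i, i < 12947 → P i := stepQ 12946 Q12946 (allL N12946 (tt N17005 (iv F57260)) (tt N15431 (iv F52751)) (tt N8688 (iv D23181)) (tt N17007 D27297) (tt N16732 (iv F56428)) (tt N17008 D27298) (tt N17003 (iv F57256)))
theorem Q12948 : ∀ i, i < 12948 → P i := stepQ 12947 Q12947 (allL N12947 (tt N17006 (iv F57261)) (tt N12881 F46060) (tt N17008 (iv F57266)) (tt N8771 F46061) (tt N16733 (iv F56432)) (tt N8688 (iv D23182)) (tt N17009 D27299))
theorem Q12949 : ∀ i, i < 12949 → P i := stepQ 12948 Q12948 (allL N12948 (tt N8689 (iv D23183)) (tt N12932 F46062) (tt N11154 F46063) (tt N8772 F46064) (tt N12932 F46065) (tt N17010 D27300) (tt N17011 D27301))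
theorem Q12950 : ∀ i, i < 12950 → P i := stepQ 12949 Q12949 (allL N12949 (tt N17010 (iv F57271)) (tt N17000 (iv F57243)) (tt N11156 F46066) (tt N8774 F46067) (tt N12933 F46068) (tt N8689 (iv D23184)) (tt N17012 D27302))
theorem Q12951 : ∀ i, i < 12951 → P i := stepQ 12950 Q12950 (allL N12950 (tt N17011 (iv F57277)) (tt N14891 (iv F51459)) (tt N11157 F46069) (tt N8775 F46070) (tt N12934 F46071) (tt N16891 (iv F56946)) (tt N8689 (iv D23185)))
theorem Q12952 : ∀ i, i < 12952 → P i := stepQ 12951 Q12951 (allL N12951 (tt N16878 (iv F56904)) (tt N8690 (iv D23186)) (tt N17013 D27303) (tt N8779 F46072) (tt N12927 F46073) (tt N16876 (iv F56902)) (tt N14891 (iv F51460)))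
theorem Q12953 : ∀ i, i < 12953 → P i := stepQ 12952 Q12952 (allL N12952 (tt N17014 D27304) (tt N8692 (iv D23187)) (tt N15100 (iv F52056)) (tt N8782 F46074) (tt N12928 F46075) (tt N12551 F46076) (tt N17015 D27305))
theorem Q12954 : ∀ i, i < 12954 → P i := stepQ 12953 Q12953 (allL N12953 (tt N8697 F46077) (tt N8785 F46078) (tt N14638 (iv F50611)) (tt N8693 (iv D23188)) (tt N17016 D27306) (tt N17017 D27307) (tt N17018 D27308))
theorem Q12955 : ∀ i, i < 12955 → P i := stepQ 12954 Q12954 (allL N12954 (tt N8698 F46079) (tt N10444 F46080) (tt N8694 F46081) (tt N17017 (iv F57306)) (tt N8947 F46082) (tt N8693 (iv D23189)) (tt N12966 (iv F46108)))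
theorem Q12956 : ∀ i, i < 12956 → P i := stepQ 12955 Q12955 (allL N12955 (tt N8699 F46083) (tt N11701 (iv F46086)) (tt N8695 F46084) (tt N17018 (iv F57309)) (tt N8948 F46085) (tt N12964 (iv F46103)) (tt N8693 (iv D23190)))
theorem Q12957 : ∀ i, i < 12957 → P i := stepQ 12956 Q12956 (allL N12956 (tt N16695 (iv F56307)) (tt N8695 (iv D23191)) (tt N16302 (iv F54993)) (tt N16966 (iv F57146)) (tt N8950 F46087) (tt N12862 F46088) (tt N11302 F46089))
theorem Q12958 : ∀ i, i < 12958 → P i := stepQ 12957 Q12957 (allL N12957 (tt N8703 F46090) (tt N8697 F46091) (tt N14441 (iv F50190)) (tt N8696 (iv D23192)) (tt N13617 (iv F47903)) (tt N17019 D27309) (tt N17020 D27310))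
theorem Q12959 : ∀ i, i < 12959 → P i := stepQ 12958 Q12958 (allL N12958 (tt N8704 F46092) (tt N14695 (iv F50761)) (tt N8704 F46093) (tt N17019 (iv F57313)) (tt N8951 F46094) (tt N8696 (iv D23193)) (tt N12976 (iv F46133)))
theorem Q12960 : ∀ i, i < 12960 → P i := stepQ 12959 Q12959 (allL N12959 (tt N8705 F46095) (tt N16413 F55339) (tt N8705 F46096) (tt N17020 (iv F57315)) (tt N8952 F46097) (tt N12974 (iv F46127)) (tt N8696 (iv D23194)))
theorem Q12961 : ∀ i, i < 12961 → P i := stepQ 12960 Q12960 (allL N12960 (tt N14638 F50613) (tt N15134 (iv F52149)) (tt N8697 (iv D23195)) (tt N14250 F49717) (tt N17021 D27311) (tt N14405 (iv F50101)) (tt N15154 (iv F52201)))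
theorem Q12962 : ∀ i, i < 12962 → P i := stepQ 12961 Q12961 (allL N12961 (tt N17016 (iv F57297)) (tt N13617 (iv F47902)) (tt N17021 (iv F57317)) (tt N8953 F46098) (tt N8697 (iv D23196)) (tt N14746 (iv F50941)) (tt N17022 D27312))
theorem Q12963 : ∀ i, i < 12963 → P i := stepQ 12962 Q12962 (allL N12962 (tt N17017 (iv F57303)) (tt N15024 (iv F51897)) (tt N14405 (iv F50102)) (tt N8698 F46099) (tt N14746 (iv F50940)) (tt N8697 (iv D23197)) (tt N17023 D27313))
theorem Q12964 : ∀ i, i < 12964 → P i := stepQ 12963 Q12963 (allL N12963 (tt N17018 (iv F57308)) (tt N17024 D27314) (tt N15154 (iv F52202)) (tt N8699 F46100) (tt N17022 (iv F57322)) (tt N17025 D27315) (tt N8697 (iv D23198)))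
theorem Q12965 : ∀ i, i < 12965 → P i := stepQ 12964 Q12964 (allL N12964 (tt N12966 (iv F46105)) (tt N15855 (iv F53784)) (tt N8700 F46101) (tt N17023 (iv F57323)) (tt N8955 F46102) (tt N12955 F46103) (tt N8698 (iv D23199)))
theorem Q12966 : ∀ i, i < 12966 → P i := stepQ 12965 Q12965 (allL N12965 (tt N14809 F51170) (tt N8699 (iv D23200)) (tt N17026 D27316) (tt N17024 (iv F57325)) (tt N8956 F46104) (tt N17027 D27317) (tt N16413 (iv F55338)))
theorem Q12967 : ∀ i, i < 12967 → P i := stepQ 12966 Q12966 (allL N12966 (tt N12964 F46105) (tt N17028 D27318) (tt N8702 F46106) (tt N17025 (iv F57327)) (tt N8957 F46107) (tt N8699 (iv D23201)) (tt N12954 F46108))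
theorem Q12968 : ∀ i, i < 12968 → P i := stepQ 12967 Q12967 (allL N12967 (tt N8701 (iv D23202)) (tt N12667 F46112) (tt N12666 (iv F46113)) (tt N16967 (iv F57150)) (tt N8959 F46109) (tt N12543 F46111) (tt N8709 F46110))
theorem Q12969 : ∀ i, i < 12969 → P i := stepQ 12968 Q12968 (allL N12968 (tt N12666 F46114) (tt N17026 (iv F57329)) (tt N8701 (iv D23203)) (tt N17029 D27319) (tt N8960 F46115) (tt N14748 (iv F50948)) (tt N8710 F46116))
theorem Q12970 : ∀ i, i < 12970 → P i := stepQ 12969 Q12969 (allL N12969 (tt N12543 F46117) (tt N13045 (iv F46303)) (tt N14748 F50947) (tt N16969 (iv F57158)) (tt N8961 F46118) (tt N8701 (iv D23204)) (tt N12984 (iv F46154)))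
theorem Q12971 : ∀ i, i < 12971 → P i := stepQ 12970 Q12970 (allL N12970 (tt N8756 F46119) (tt N8702 (iv D23205)) (tt N17030 D27320) (tt N15345 (iv F52609)) (tt N8962 F46120) (tt N13045 (iv F46305)) (tt N8754 (iv F46121)))
theorem Q12972 : ∀ i, i < 12972 → P i := stepQ 12971 Q12971 (allL N12971 (tt N13617 (iv F47901)) (tt N8706 F46122) (tt N14442 (iv F50193)) (tt N8963 F46123) (tt N8703 (iv D23206)) (tt N13721 (iv F48265)) (tt N17031 D27321))
theorem Q12973 : ∀ i, i < 12973 → P i := stepQ 12972 Q12972 (allL N12972 (tt N17019 (iv F57312)) (tt N13724 (iv F48273)) (tt N14443 (iv F50194)) (tt N8704 F46124) (tt N13721 (iv F48264)) (tt N8703 (iv D23207)) (tt N17032 D27322))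
theorem Q12974 : ∀ i, i < 12974 → P i := stepQ 12973 Q12973 (allL N12973 (tt N17020 (iv F57314)) (tt N17033 D27323) (tt N14444 (iv F50196)) (tt N8705 F46125) (tt N17031 (iv F57349)) (tt N17034 D27324) (tt N8703 (iv D23208)))
theorem Q12975 : ∀ i, i < 12975 → P i := stepQ 12974 Q12974 (allL N12974 (tt N12976 (iv F46130)) (tt N17035 D27325) (tt N12976 (iv F46131)) (tt N17032 (iv F57350)) (tt N8965 F46126) (tt N12959 F46127) (tt N8704 (iv D23209)))
theorem Q12976 : ∀ i, i < 12976 → P i := stepQ 12975 Q12975 (allL N12975 (tt N17036 D27326) (tt N8705 (iv D23210)) (tt N17037 D27327) (tt N17033 (iv F57352)) (tt N8966 F46128) (tt N17038 D27328) (tt N8708 F46129))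
theorem Q12977 : ∀ i, i < 12977 → P i := stepQ 12976 Q12976 (allL N12976 (tt N12974 F46130) (tt N17039 D27329) (tt N12974 F46131) (tt N17034 (iv F57355)) (tt N8967 F46132) (tt N8705 (iv D23211)) (tt N12958 F46133))
theorem Q12978 : ∀ i, i < 12978 → P i := stepQ 12977 Q12977 (allL N12977 (tt N8712 F46134) (tt N17040 D27330) (tt N13219 (iv F46697)) (tt N8968 F46135) (tt N8707 F46136) (tt N12893 F46137) (tt N8706 (iv D23212)))
theorem Q12979 : ∀ i, i < 12979 → P i := stepQ 12978 Q12978 (allL N12978 (tt N17041 D27331) (tt N8707 (iv D23213)) (tt N17042 D27332) (tt N8708 F46138) (tt N17040 (iv F57369)) (tt N17043 D27333) (tt N17033 (iv F57353)))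
theorem Q12980 : ∀ i, i < 12980 → P i := stepQ 12979 Q12979 (allL N12979 (tt N8708 (iv D23214)) (tt N17044 D27334) (tt N16556 F55820) (tt N17041 (iv F57370)) (tt N8970 F46139) (tt N17045 D27335) (tt N17036 (iv F57361)))
theorem Q12981 : ∀ i, i < 12981 → P i := stepQ 12980 Q12980 (allL N12980 (tt N16556 F55819) (tt N8710 F46140) (tt N8708 (iv D23215)) (tt N17046 D27336) (tt N8971 F46141) (tt N17047 D27337) (tt N17037 (iv F57363)))
theorem Q12982 : ∀ i, i < 12982 → P i := stepQ 12981 Q12981 (allL N12981 (tt N17045 (iv F57374)) (tt N12897 F46142) (tt N17047 (iv F57381)) (tt N17043 (iv F57372)) (tt N8972 F46143) (tt N8708 (iv D23216)) (tt N17048 D27338))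
theorem Q12983 : ∀ i, i < 12983 → P i := stepQ 12982 Q12982 (allL N12982 (tt N14879 (iv F51415)) (tt N8709 (iv D23217)) (tt N14877 (iv F51406)) (tt N15446 (iv F52773)) (tt N8973 F46144) (tt N11429 (iv F46146)) (tt N12822 F46145))
theorem Q12984 : ∀ i, i < 12984 → P i := stepQ 12983 Q12983 (allL N12983 (tt N8710 F46147) (tt N12663 (iv F46150)) (tt N8709 (iv D23218)) (tt N17049 D27339) (tt N8974 F46148) (tt N17050 D27340) (tt N12666 F46149))
theorem Q12985 : ∀ i, i < 12985 → P i := stepQ 12984 Q12984 (allL N12984 (tt N8711 F46151) (tt N8746 F46152) (tt N17050 (iv F57391)) (tt N15449 (iv F52786)) (tt N8975 F46153) (tt N8709 (iv D23219)) (tt N12969 F46154))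
theorem Q12986 : ∀ i, i < 12986 → P i := stepQ 12985 Q12985 (allL N12985 (tt N17049 (iv F57387)) (tt N17046 (iv F57379)) (tt N17051 D27341) (tt N8710 (iv D23220)) (tt N17052 D27342) (tt N17053 D27343) (tt N17029 (iv F57342)))
theorem Q12987 : ∀ i, i < 12987 → P i := stepQ 12986 Q12986 (allL N12986 (tt N17050 (iv F57390)) (tt N17054 D27344) (tt N8711 F46155) (tt N17053 (iv F57396)) (tt N8977 F46156) (tt N8710 (iv D23221)) (tt N16722 (iv F56400)))
theorem Q12988 : ∀ i, i < 12988 → P i := stepQ 12987 Q12987 (allL N12987 (tt N17055 D27345) (tt N8712 (iv D23222)) (tt N17056 D27346) (tt N8978 F46157) (tt N8713 F46158) (tt N17057 D27347) (tt N8794 F46159))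
theorem Q12989 : ∀ i, i < 12989 → P i := stepQ 12988 Q12988 (allL N12988 (tt N12893 F46160) (tt N17058 D27348) (tt N13217 (iv F46691)) (tt N8979 F46161) (tt N8714 F46162) (tt N8712 (iv D23223)) (tt N9558 F46163))
theorem Q12990 : ∀ i, i < 12990 → P i := stepQ 12989 Q12989 (allL N12989 (tt N8713 (iv D23224)) (tt N17059 D27349) (tt N17060 D27350) (tt N8715 F46164) (tt N17055 (iv F57401)) (tt N13121 (iv F46492)) (tt N8796 F46165))
theorem Q12991 : ∀ i, i < 12991 → P i := stepQ 12990 Q12990 (allL N12990 (tt N17060 (iv F57413)) (tt N15540 (iv F52993)) (tt N8713 (iv D23225)) (tt N17061 D27351) (tt N17056 (iv F57403)) (tt N17062 D27352) (tt N8797 F46166))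
theorem Q12992 : ∀ i, i < 12992 → P i := stepQ 12991 Q12991 (allL N12991 (tt N13121 (iv F46490)) (tt N17063 D27353) (tt N17062 (iv F57424)) (tt N8717 F46167) (tt N17057 (iv F57406)) (tt N8713 (iv D23226)) (tt N13117 (iv F46486)))
theorem Q12993 : ∀ i, i < 12993 → P i := stepQ 12992 Q12992 (allL N12992 (tt N17064 D27354) (tt N8714 (iv D23227)) (tt N17065 D27355) (tt N8718 F46168) (tt N17058 (iv F57409)) (tt N17063 (iv F57426)) (tt N17066 D27356))
theorem Q12994 : ∀ i, i < 12994 → P i := stepQ 12993 Q12993 (allL N12993 (tt N17067 D27357) (tt N8715 (iv D23228)) (tt N10524 (iv F46171)) (tt N17059 (iv F57411)) (tt N8983 F46169) (tt N17068 D27358) (tt N10523 F46170))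
theorem Q12995 : ∀ i, i < 12995 → P i := stepQ 12994 Q12994 (allL N12994 (tt N8716 F46172) (tt N12197 F46173) (tt N8715 (iv D23229)) (tt N17069 D27359) (tt N8984 F46174) (tt N13132 (iv F46513)) (tt N8801 F46175))
theorem Q12996 : ∀ i, i < 12996 → P i := stepQ 12995 Q12995 (allL N12995 (tt N17069 (iv F57439)) (tt N8721 F46176) (tt N17070 D27360) (tt N8716 (iv D23230)) (tt N17071 D27361) (tt N17072 D27362) (tt N8803 F46177))
theorem Q12997 : ∀ i, i < 12997 → P i := stepQ 12996 Q12996 (allL N12996 (tt N13132 (iv F46510)) (tt N17073 D27363) (tt N8717 F46178) (tt N17072 (iv F57450)) (tt N8986 F46179) (tt N8716 (iv D23231)) (tt N13126 (iv F46502)))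
theorem Q12998 : ∀ i, i < 12998 → P i := stepQ 12997 Q12997 (allL N12997 (tt N17074 D27364) (tt N8717 (iv D23232)) (tt N17075 D27365) (tt N17063 (iv F57425)) (tt N8987 F46180) (tt N8718 F46181) (tt N17076 D27366))
theorem Q12999 : ∀ i, i < 12999 → P i := stepQ 12998 Q12998 (allL N12998 (tt N8718 (iv D23233)) (tt N17077 D27367) (tt N17078 D27368) (tt N17064 (iv F57427)) (tt N8988 F46182) (tt N17074 (iv F57454)) (tt N17079 D27369))
theorem Q13000 : ∀ i, i < 13000 → P i := stepQ 12999 Q12999 (allL N12999 (tt N17078 (iv F57461)) (tt N8725 F46183) (tt N8718 (iv D23234)) (tt N17080 D27370) (tt N8989 F46184) (tt N17075 (iv F57456)) (tt N17081 D27371))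
theorem Q13001 : ∀ i, i < 13001 → P i := stepQ 13000 Q13000 (allL N13000 (tt N17079 (iv F57463)) (tt N9774 F46185) (tt N17081 (iv F57467)) (tt N17066 (iv F57429)) (tt N8990 F46186) (tt N17082 D27372) (tt N8718 (iv D23235)))
theorem Q13002 : ∀ i, i < 13002 → P i := stepQ 13001 Q13001 (allL N13001 (tt N8719 (iv D23236)) (tt N14879 (iv F51416)) (tt N17083 D27373) (tt N16973 (iv F57166)) (tt N8991 F46187) (tt N12507 (iv F46188)) (tt N16853 (iv F56816)))
theorem Q13003 : ∀ i, i < 13003 → P i := stepQ 13002 Q13002 (allL N13002 (tt N17083 (iv F57473)) (tt N17084 D27374) (tt N8719 (iv D23237)) (tt N17085 D27375) (tt N8992 F46189) (tt N17086 D27376) (tt N17087 D27377))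
theorem Q13004 : ∀ i, i < 13004 → P i := stepQ 13003 Q13003 (allL N13003 (tt N12507 F46190) (tt N13028 (iv F46259)) (tt N17086 (iv F57480)) (tt N16975 (iv F57171)) (tt N8993 F46191) (tt N8719 (iv D23238)) (tt N12913 (iv F46192)))
theorem Q13005 : ∀ i, i < 13005 → P i := stepQ 13004 Q13004 (allL N13004 (tt N16853 (iv F56813)) (tt N8730 F46193) (tt N17087 (iv F57483)) (tt N16976 (iv F57175)) (tt N8994 F46194) (tt N14036 (iv F49100)) (tt N8719 (iv D23239)))
theorem Q13006 : ∀ i, i < 13006 → P i := stepQ 13005 Q13005 (allL N13005 (tt N17088 D27378) (tt N8720 (iv D23240)) (tt N17084 (iv F57476)) (tt N17089 D27379) (tt N8995 F46195) (tt N9158 F46196) (tt N17090 D27380))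
theorem Q13007 : ∀ i, i < 13007 → P i := stepQ 13006 Q13006 (allL N13006 (tt N8721 F46197) (tt N17089 (iv F57490)) (tt N15705 (iv F53436)) (tt N8720 (iv D23241)) (tt N8766 F46198) (tt N8780 F46199) (tt N8732 F46200))
theorem Q13008 : ∀ i, i < 13008 → P i := stepQ 13007 Q13007 (allL N13007 (tt N8766 F46201) (tt N17071 (iv F57447)) (tt N15693 (iv F53393)) (tt N8765 F46202) (tt N8721 (iv D23242)) (tt N8777 (iv F46204)) (tt N8735 F46203))
theorem Q13009 : ∀ i, i < 13009 → P i := stepQ 13008 Q13008 (allL N13008 (tt N8780 F46205) (tt N17091 D27381) (tt N15111 (iv F52076)) (tt N8722 F46206) (tt N8777 F46207) (tt N8721 (iv D23243)) (tt N13026 (iv F46255)))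
theorem Q13010 : ∀ i, i < 13010 → P i := stepQ 13009 Q13009 (allL N13009 (tt N17092 D27382) (tt N8722 (iv D23244)) (tt N17093 D27383) (tt N17091 (iv F57497)) (tt N8996 F46208) (tt N17073 (iv F57452)) (tt N12308 F46209))
theorem Q13011 : ∀ i, i < 13011 → P i := stepQ 13010 Q13010 (allL N13010 (tt N8723 (iv D23245)) (tt N12907 (iv F46212)) (tt N17094 D27384) (tt N16977 (iv F57177)) (tt N8997 F46210) (tt N8724 F46211) (tt N13017 (iv F46229)))
theorem Q13012 : ∀ i, i < 13012 → P i := stepQ 13011 Q13011 (allL N13011 (tt N17094 (iv F57506)) (tt N17093 (iv F57503)) (tt N8723 (iv D23246)) (tt N17095 D27385) (tt N8998 F46213) (tt N8725 F46214) (tt N11753 (iv F46215)))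
theorem Q13013 : ∀ i, i < 13013 → P i := stepQ 13012 Q13012 (allL N13012 (tt N13017 (iv F46227)) (tt N12838 F46216) (tt N11753 F46217) (tt N16979 (iv F57184)) (tt N8999 F46218) (tt N13014 (iv F46224)) (tt N8723 (iv D23247)))
theorem Q13014 : ∀ i, i < 13014 → P i := stepQ 13013 Q13013 (allL N13013 (tt N8725 F46219) (tt N17096 D27386) (tt N8724 (iv D23248)) (tt N17097 D27387) (tt N9000 F46220) (tt N17094 (iv F57509)) (tt N16219 (iv F54713)))
theorem Q13015 : ∀ i, i < 13015 → P i := stepQ 13014 Q13014 (allL N13014 (tt N8726 F46221) (tt N12539 F46222) (tt N16219 (iv F54711)) (tt N16981 (iv F57188)) (tt N9001 F46223) (tt N13012 F46224) (tt N8724 (iv D23249)))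
theorem Q13016 : ∀ i, i < 13016 → P i := stepQ 13015 Q13015 (allL N13015 (tt N17097 (iv F57517)) (tt N17080 (iv F57466)) (tt N17098 D27388) (tt N8725 (iv D23250)) (tt N13818 (iv F48523)) (tt N17095 (iv F57512)) (tt N17099 D27389))
theorem Q13017 : ∀ i, i < 13017 → P i := stepQ 13016 Q13016 (allL N13016 (tt N16219 (iv F54710)) (tt N17100 D27390) (tt N8726 F46225) (tt N17099 (iv F57518)) (tt N9002 F46226) (tt N16218 (iv F54709)) (tt N8725 (iv D23251)))
theorem Q13018 : ∀ i, i < 13018 → P i := stepQ 13017 Q13017 (allL N13017 (tt N13012 F46227) (tt N13088 (iv F46397)) (tt N16218 (iv F54707)) (tt N16984 (iv F57193)) (tt N9003 F46228) (tt N8726 (iv D23252)) (tt N13010 F46229))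
theorem Q13019 : ∀ i, i < 13019 → P i := stepQ 13018 Q13018 (allL N13018 (tt N8729 F46230) (tt N16694 (iv F56304)) (tt N10463 F46231) (tt N16985 (iv F57197)) (tt N9004 F46232) (tt N8727 (iv D23253)) (tt N13021 (iv F46241)))
theorem Q13020 : ∀ i, i < 13020 → P i := stepQ 13019 Q13019 (allL N13019 (tt N8730 F46233) (tt N12861 (iv F46236)) (tt N14787 (iv F51093)) (tt N16986 (iv F57200)) (tt N9005 F46234) (tt N12864 F46235) (tt N8727 (iv D23254)))
theorem Q13021 : ∀ i, i < 13021 → P i := stepQ 13020 Q13020 (allL N13020 (tt N14787 (iv F51092)) (tt N17101 D27391) (tt N8730 F46237) (tt N16072 (iv F54328)) (tt N9006 F46238) (tt N14786 (iv F51091)) (tt N8728 (iv D23255)))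
theorem Q13022 : ∀ i, i < 13022 → P i := stepQ 13021 Q13021 (allL N13021 (tt N12864 F46239) (tt N12516 F46242) (tt N14786 (iv F51088)) (tt N16987 (iv F57205)) (tt N9007 F46240) (tt N8730 (iv D23256)) (tt N13018 F46241))
theorem Q13023 : ∀ i, i < 13023 → P i := stepQ 13022 Q13022 (allL N13022 (tt N8731 (iv D23257)) (tt N17102 D27392) (tt N12246 F46243) (tt N17103 D27393) (tt N9008 F46244) (tt N12244 F46245) (tt N16554 (iv F55813)))
theorem Q13024 : ∀ i, i < 13024 → P i := stepQ 13023 Q13023 (allL N13023 (tt N17103 (iv F57533)) (tt N8732 F46246) (tt N17104 D27394) (tt N8731 (iv D23258)) (tt N17105 D27395) (tt N12251 F46247) (tt N17106 D27396))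
theorem Q13025 : ∀ i, i < 13025 → P i := stepQ 13024 Q13024 (allL N13024 (tt N16554 (iv F55810)) (tt N17090 (iv F57494)) (tt N12255 F46248) (tt N17106 (iv F57539)) (tt N9010 F46249) (tt N16547 (iv F55800)) (tt N8731 (iv D23259)))
theorem Q13026 : ∀ i, i < 13026 → P i := stepQ 13025 Q13025 (allL N13025 (tt N8735 F46250) (tt N17105 (iv F57536)) (tt N15123 (iv F52115)) (tt N8767 F46251) (tt N8732 (iv D23260)) (tt N13096 (iv F46423)) (tt N8766 F46252))
theorem Q13027 : ∀ i, i < 13027 → P i := stepQ 13026 Q13026 (allL N13026 (tt N8736 F46253) (tt N16615 (iv F56012)) (tt N15923 (iv F53988)) (tt N8733 F46254) (tt N13096 (iv F46422)) (tt N8732 (iv D23261)) (tt N13008 F46255))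
theorem Q13028 : ∀ i, i < 13028 → P i := stepQ 13027 Q13027 (allL N13027 (tt N8737 (iv D23262)) (tt N11291 F46256) (tt N13488 (iv F47439)) (tt N16989 (iv F57211)) (tt N9011 F46257) (tt N16739 (iv F56451)) (tt N12564 F46258))
theorem Q13029 : ∀ i, i < 13029 → P i := stepQ 13028 Q13028 (allL N13028 (tt N16739 (iv F56448)) (tt N13003 F46259) (tt N13490 (iv F47444)) (tt N16990 (iv F57214)) (tt N9012 F46260) (tt N8737 (iv D23263)) (tt N12920 F46261))
theorem Q13030 : ∀ i, i < 13030 → P i := stepQ 13029 Q13029 (allL N13029 (tt N8742 F46262) (tt N8822 F46263) (tt N14667 (iv F50688)) (tt N8738 (iv D23264)) (tt N17107 D27397) (tt N17108 D27398) (tt N17109 D27399))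
theorem Q13031 : ∀ i, i < 13031 → P i := stepQ 13030 Q13030 (allL N13030 (tt N8743 F46264) (tt N11707 (iv F46267)) (tt N8739 F46265) (tt N17108 (iv F57547)) (tt N9014 F46266) (tt N8738 (iv D23265)) (tt N13042 (iv F46293)))
theorem Q13032 : ∀ i, i < 13032 → P i := stepQ 13031 Q13031 (allL N13031 (tt N8744 F46268) (tt N10495 F46269) (tt N8740 F46270) (tt N17109 (iv F57553)) (tt N9015 F46271) (tt N13041 (iv F46289)) (tt N8738 (iv D23266)))
theorem Q13033 : ∀ i, i < 13033 → P i := stepQ 13032 Q13032 (allL N13032 (tt N16694 (iv F56303)) (tt N8739 (iv D23267)) (tt N16452 (iv F55488)) (tt N16991 (iv F57217)) (tt N9016 F46272) (tt N11461 F46273) (tt N12855 F46274))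
theorem Q13034 : ∀ i, i < 13034 → P i := stepQ 13033 Q13033 (allL N13033 (tt N8748 F46275) (tt N8742 F46276) (tt N14490 (iv F50296)) (tt N8741 (iv D23268)) (tt N13619 (iv F47910)) (tt N17110 D27400) (tt N17111 D27401))
theorem Q13035 : ∀ i, i < 13035 → P i := stepQ 13034 Q13034 (allL N13034 (tt N8749 F46277) (tt N16520 F55706) (tt N8749 F46278) (tt N17110 (iv F57556)) (tt N9018 F46279) (tt N8741 (iv D23269)) (tt N13051 (iv F46317)))
theorem Q13036 : ∀ i, i < 13036 → P i := stepQ 13035 Q13035 (allL N13035 (tt N8750 F46280) (tt N14697 (iv F50768)) (tt N8750 F46281) (tt N17111 (iv F57558)) (tt N9019 F46282) (tt N13050 (iv F46313)) (tt N8741 (iv D23270)))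
theorem Q13037 : ∀ i, i < 13037 → P i := stepQ 13036 Q13036 (allL N13036 (tt N14667 F50690) (tt N15141 (iv F52167)) (tt N8742 (iv D23271)) (tt N14270 F49769) (tt N17112 D27402) (tt N15188 (iv F52257)) (tt N14427 (iv F50155)))
theorem Q13038 : ∀ i, i < 13038 → P i := stepQ 13037 Q13037 (allL N13037 (tt N17107 (iv F57540)) (tt N13619 (iv F47909)) (tt N17112 (iv F57560)) (tt N9020 F46283) (tt N8742 (iv D23272)) (tt N17113 D27403) (tt N14767 (iv F51018)))
theorem Q13039 : ∀ i, i < 13039 → P i := stepQ 13038 Q13038 (allL N13038 (tt N17108 (iv F57546)) (tt N17114 D27404) (tt N15188 (iv F52258)) (tt N8743 F46284) (tt N17113 (iv F57565)) (tt N8742 (iv D23273)) (tt N17115 D27405))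
theorem Q13040 : ∀ i, i < 13040 → P i := stepQ 13039 Q13039 (allL N13039 (tt N17109 (iv F57550)) (tt N15028 (iv F51906)) (tt N14427 (iv F50156)) (tt N8744 F46285) (tt N14767 (iv F51017)) (tt N17116 D27406) (tt N8742 (iv D23274)))
theorem Q13041 : ∀ i, i < 13041 → P i := stepQ 13040 Q13040 (allL N13040 (tt N14807 F51165) (tt N8743 (iv D23275)) (tt N17117 D27407) (tt N17114 (iv F57566)) (tt N9022 F46286) (tt N16520 (iv F55705)) (tt N17118 D27408))
theorem Q13042 : ∀ i, i < 13042 → P i := stepQ 13041 Q13041 (allL N13041 (tt N13042 (iv F46290)) (tt N17119 D27409) (tt N8746 F46287) (tt N17115 (iv F57567)) (tt N9023 F46288) (tt N13031 F46289) (tt N8743 (iv D23276)))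
theorem Q13043 : ∀ i, i < 13043 → P i := stepQ 13042 Q13042 (allL N13042 (tt N13041 F46290) (tt N15621 (iv F53195)) (tt N8747 F46291) (tt N17116 (iv F57570)) (tt N9024 F46292) (tt N8744 (iv D23277)) (tt N13030 F46293))
theorem Q13044 : ∀ i, i < 13044 → P i := stepQ 13043 Q13043 (allL N13043 (tt N8745 (iv D23278)) (tt N12696 (iv F46297)) (tt N12695 F46298) (tt N16992 (iv F57221)) (tt N9025 F46294) (tt N8754 F46295) (tt N12534 (iv F46296)))
theorem Q13045 : ∀ i, i < 13045 → P i := stepQ 13044 Q13044 (allL N13044 (tt N12695 F46299) (tt N17117 (iv F57572)) (tt N8745 (iv D23279)) (tt N17120 D27410) (tt N9026 F46300) (tt N8755 F46301) (tt N14769 F51025))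
theorem Q13046 : ∀ i, i < 13046 → P i := stepQ 13045 Q13045 (allL N13045 (tt N12534 F46302) (tt N12969 F46303) (tt N14769 (iv F51023)) (tt N16994 (iv F57230)) (tt N9027 F46304) (tt N12970 F46305) (tt N8745 (iv D23280)))
theorem Q13047 : ∀ i, i < 13047 → P i := stepQ 13046 Q13046 (allL N13046 (tt N13619 (iv F47908)) (tt N8751 F46306) (tt N14491 (iv F50299)) (tt N9029 F46307) (tt N8748 (iv D23281)) (tt N17121 D27411) (tt N13746 (iv F48332)))
theorem Q13048 : ∀ i, i < 13048 → P i := stepQ 13047 Q13047 (allL N13047 (tt N17110 (iv F57555)) (tt N17122 D27412) (tt N14492 (iv F50300)) (tt N8749 F46308) (tt N17121 (iv F57587)) (tt N8748 (iv D23282)) (tt N17123 D27413))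
theorem Q13049 : ∀ i, i < 13049 → P i := stepQ 13048 Q13048 (allL N13048 (tt N17111 (iv F57557)) (tt N13749 (iv F48340)) (tt N14493 (iv F50302)) (tt N8750 F46309) (tt N13746 (iv F48331)) (tt N17124 D27414) (tt N8748 (iv D23283)))
theorem Q13050 : ∀ i, i < 13050 → P i := stepQ 13049 Q13049 (allL N13049 (tt N17125 D27415) (tt N8749 (iv D23284)) (tt N17126 D27416) (tt N17122 (iv F57588)) (tt N9031 F46310) (tt N8753 F46311) (tt N17127 D27417))
theorem Q13051 : ∀ i, i < 13051 → P i := stepQ 13050 Q13050 (allL N13050 (tt N13051 (iv F46314)) (tt N17128 D27418) (tt N13051 (iv F46315)) (tt N17123 (iv F57590)) (tt N9032 F46312) (tt N13035 F46313) (tt N8749 (iv D23285)))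
theorem Q13052 : ∀ i, i < 13052 → P i := stepQ 13051 Q13051 (allL N13051 (tt N13050 F46314) (tt N17129 D27419) (tt N13050 F46315) (tt N17124 (iv F57593)) (tt N9033 F46316) (tt N8750 (iv D23286)) (tt N13034 F46317))
theorem Q13053 : ∀ i, i < 13053 → P i := stepQ 13052 Q13052 (allL N13052 (tt N8757 F46318) (tt N17130 D27420) (tt N13239 (iv F46746)) (tt N9034 F46319) (tt N8752 F46320) (tt N8751 (iv D23287)) (tt N12908 F46321))
theorem Q13054 : ∀ i, i < 13054 → P i := stepQ 13053 Q13053 (allL N13053 (tt N17131 D27421) (tt N8752 (iv D23288)) (tt N17132 D27422) (tt N8753 F46322) (tt N17130 (iv F57607)) (tt N17122 (iv F57589)) (tt N17133 D27423))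
theorem Q13055 : ∀ i, i < 13055 → P i := stepQ 13054 Q13054 (allL N13054 (tt N8753 (iv D23289)) (tt N17134 D27424) (tt N16590 F55925) (tt N17131 (iv F57608)) (tt N9036 F46323) (tt N17125 (iv F57597)) (tt N17135 D27425))
theorem Q13056 : ∀ i, i < 13056 → P i := stepQ 13055 Q13055 (allL N13055 (tt N16590 F55924) (tt N8755 F46324) (tt N8753 (iv D23290)) (tt N17136 D27426) (tt N9037 F46325) (tt N17126 (iv F57599)) (tt N17137 D27427))
theorem Q13057 : ∀ i, i < 13057 → P i := stepQ 13056 Q13056 (allL N13056 (tt N17135 (iv F57612)) (tt N12912 F46326) (tt N17137 (iv F57619)) (tt N17133 (iv F57610)) (tt N9038 F46327) (tt N17138 D27428) (tt N8753 (iv D23291)))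
theorem Q13058 : ∀ i, i < 13058 → P i := stepQ 13057 Q13057 (allL N13057 (tt N14845 (iv F51293)) (tt N8754 (iv D23292)) (tt N14843 (iv F51285)) (tt N15342 (iv F52596)) (tt N9039 F46328) (tt N12821 F46329) (tt N11268 F46330))
theorem Q13059 : ∀ i, i < 13059 → P i := stepQ 13058 Q13058 (allL N13058 (tt N8755 F46331) (tt N12692 (iv F46334)) (tt N8754 (iv D23293)) (tt N17139 D27429) (tt N9040 F46332) (tt N12695 F46333) (tt N17030 (iv F57347)))
theorem Q13060 : ∀ i, i < 13060 → P i := stepQ 13059 Q13059 (allL N13059 (tt N17139 (iv F57625)) (tt N17136 (iv F57617)) (tt N17140 D27430) (tt N8755 (iv D23294)) (tt N17141 D27431) (tt N17120 (iv F57585)) (tt N17142 D27432))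
theorem Q13061 : ∀ i, i < 13061 → P i := stepQ 13060 Q13060 (allL N13060 (tt N17030 (iv F57343)) (tt N17143 D27433) (tt N8756 F46335) (tt N17142 (iv F57629)) (tt N9042 F46336) (tt N16716 (iv F56376)) (tt N8755 (iv D23295)))
theorem Q13062 : ∀ i, i < 13062 → P i := stepQ 13061 Q13061 (allL N13061 (tt N17144 D27434) (tt N8757 (iv D23296)) (tt N17145 D27435) (tt N9043 F46337) (tt N8758 F46338) (tt N8831 F46339) (tt N17146 D27436))
theorem Q13063 : ∀ i, i < 13063 → P i := stepQ 13062 Q13062 (allL N13062 (tt N12908 F46340) (tt N17147 D27437) (tt N13237 (iv F46740)) (tt N9044 F46341) (tt N8759 F46342) (tt N9596 F46343) (tt N8757 (iv D23297)))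
theorem Q13064 : ∀ i, i < 13064 → P i := stepQ 13063 Q13063 (allL N13063 (tt N8758 (iv D23298)) (tt N17148 D27438) (tt N17149 D27439) (tt N8760 F46344) (tt N17144 (iv F57634)) (tt N8833 F46345) (tt N13180 (iv F46615)))
theorem Q13065 : ∀ i, i < 13065 → P i := stepQ 13064 Q13064 (allL N13064 (tt N17149 (iv F57646)) (tt N15781 (iv F53591)) (tt N8758 (iv D23299)) (tt N17150 D27440) (tt N17145 (iv F57636)) (tt N8834 F46346) (tt N17151 D27441))
theorem Q13066 : ∀ i, i < 13066 → P i := stepQ 13065 Q13065 (allL N13065 (tt N13180 (iv F46613)) (tt N17152 D27442) (tt N17151 (iv F57657)) (tt N8762 F46347) (tt N17146 (iv F57639)) (tt N13176 (iv F46609)) (tt N8758 (iv D23300)))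
theorem Q13067 : ∀ i, i < 13067 → P i := stepQ 13066 Q13066 (allL N13066 (tt N17065 (iv F61374)) (tt N8759 (iv D23301)) (tt N17064 (iv F61376)) (tt N8763 F46348) (tt N17147 (iv F57642)) (tt N17153 D27445) (tt N17152 (iv F57659)))
theorem Q13068 : ∀ i, i < 13068 → P i := stepQ 13067 Q13067 (allL N13067 (tt N17154 D27446) (tt N8760 (iv D23302)) (tt N10474 (iv F46351)) (tt N17148 (iv F57644)) (tt N9048 F46349) (tt N10473 F46350) (tt N17155 D27447))
theorem Q13069 : ∀ i, i < 13069 → P i := stepQ 13068 Q13068 (allL N13068 (tt N8761 F46352) (tt N12011 F46353) (tt N8760 (iv D23303)) (tt N17156 D27448) (tt N9049 F46354) (tt N8838 F46355) (tt N13191 (iv F46637)))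
theorem Q13070 : ∀ i, i < 13070 → P i := stepQ 13069 Q13069 (allL N13069 (tt N17156 (iv F57672)) (tt N8766 F46356) (tt N17157 D27449) (tt N8761 (iv D23304)) (tt N17089 (iv F57491)) (tt N8840 F46357) (tt N17158 D27450))
theorem Q13071 : ∀ i, i < 13071 → P i := stepQ 13070 Q13070 (allL N13070 (tt N13191 (iv F46634)) (tt N17159 D27451) (tt N8762 F46358) (tt N17158 (iv F57680)) (tt N9050 F46359) (tt N13185 (iv F46625)) (tt N8761 (iv D23305)))
theorem Q13072 : ∀ i, i < 13072 → P i := stepQ 13071 Q13071 (allL N13071 (tt N17160 D27452) (tt N8762 (iv D23306)) (tt N17161 D27453) (tt N17152 (iv F57658)) (tt N9051 F46360) (tt N17162 D27454) (tt N8763 F46361))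
theorem Q13073 : ∀ i, i < 13073 → P i := stepQ 13072 Q13072 (allL N13072 (tt N8763 (iv D23307)) (tt N17163 D27455) (tt N17164 D27456) (tt N17065 (iv F61375)) (tt N9052 F46362) (tt N17165 D27457) (tt N17160 (iv F57684)))
theorem Q13074 : ∀ i, i < 13074 → P i := stepQ 13073 Q13073 (allL N13073 (tt N17164 (iv F57691)) (tt N8770 F46363) (tt N8763 (iv D23308)) (tt N17166 D27458) (tt N9053 F46364) (tt N17096 (iv F57516)) (tt N17161 (iv F57686)))
theorem Q13075 : ∀ i, i < 13075 → P i := stepQ 13074 Q13074 (allL N13074 (tt N17165 (iv F57693)) (tt N9828 F46365) (tt N17096 (iv F57514)) (tt N17153 (iv F57662)) (tt N9054 F46366) (tt N8763 (iv D23309)) (tt N17167 D27459))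
theorem Q13076 : ∀ i, i < 13076 → P i := stepQ 13075 Q13075 (allL N13075 (tt N8764 (iv D23310)) (tt N14845 (iv F51294)) (tt N17168 D27460) (tt N16998 (iv F57238)) (tt N9055 F46367) (tt N16862 (iv F56850)) (tt N12508 (iv F46368)))
theorem Q13077 : ∀ i, i < 13077 → P i := stepQ 13076 Q13076 (allL N13076 (tt N17168 (iv F57700)) (tt N17169 D27461) (tt N8764 (iv D23311)) (tt N17170 D27462) (tt N9056 F46369) (tt N17171 D27463) (tt N17172 D27464))
theorem Q13078 : ∀ i, i < 13078 → P i := stepQ 13077 Q13077 (allL N13077 (tt N16862 (iv F56848)) (tt N8774 F46370) (tt N17171 (iv F57706)) (tt N17000 (iv F57244)) (tt N9057 F46371) (tt N8764 (iv D23312)) (tt N14093 (iv F49261)))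
theorem Q13079 : ∀ i, i < 13079 → P i := stepQ 13078 Q13078 (allL N13078 (tt N12508 F46372) (tt N13098 (iv F46427)) (tt N17172 (iv F57710)) (tt N17001 (iv F57247)) (tt N9058 F46373) (tt N12898 (iv F46374)) (tt N8764 (iv D23313)))
theorem Q13080 : ∀ i, i < 13080 → P i := stepQ 13079 Q13079 (allL N13079 (tt N17173 D27465) (tt N8765 (iv D23314)) (tt N17169 (iv F57703)) (tt N17071 (iv F57448)) (tt N8985 F46375) (tt N17174 D27466) (tt N9104 F46376))
theorem Q13081 : ∀ i, i < 13081 → P i := stepQ 13080 Q13080 (allL N13080 (tt N17175 D27467) (tt N8767 (iv D23315)) (tt N17176 D27468) (tt N17105 (iv F57537)) (tt N9009 F46377) (tt N12249 F46378) (tt N17159 (iv F57682)))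
theorem Q13082 : ∀ i, i < 13082 → P i := stepQ 13081 Q13081 (allL N13081 (tt N8768 (iv D23316)) (tt N12892 (iv F46381)) (tt N17100 (iv F57522)) (tt N17002 (iv F57250)) (tt N9059 F46379) (tt N13088 (iv F46399)) (tt N8769 F46380))
theorem Q13083 : ∀ i, i < 13083 → P i := stepQ 13082 Q13082 (allL N13082 (tt N17100 (iv F57526)) (tt N17176 (iv F57724)) (tt N8768 (iv D23317)) (tt N17177 D27469) (tt N9060 F46382) (tt N11796 (iv F46384)) (tt N8770 F46383))
theorem Q13084 : ∀ i, i < 13084 → P i := stepQ 13083 Q13083 (allL N13083 (tt N13088 (iv F46396)) (tt N12833 F46385) (tt N11796 F46386) (tt N17004 (iv F57258)) (tt N9061 F46387) (tt N8768 (iv D23318)) (tt N13085 (iv F46393)))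
theorem Q13085 : ∀ i, i < 13085 → P i := stepQ 13084 Q13084 (allL N13084 (tt N8770 F46388) (tt N17081 F57469) (tt N8769 (iv D23319)) (tt N17178 D27470) (tt N9062 F46389) (tt N16249 F54809) (tt N17100 (iv F57525)))
theorem Q13086 : ∀ i, i < 13086 → P i := stepQ 13085 Q13085 (allL N13085 (tt N8771 F46390) (tt N12548 F46391) (tt N16249 (iv F54807)) (tt N17006 (iv F57263)) (tt N9063 F46392) (tt N8769 (iv D23320)) (tt N13083 F46393))
theorem Q13087 : ∀ i, i < 13087 → P i := stepQ 13086 Q13086 (allL N13086 (tt N17178 (iv F57730)) (tt N17166 (iv F57696)) (tt N17179 D27471) (tt N8770 (iv D23321)) (tt N13867 (iv F48644)) (tt N17180 D27472) (tt N17177 (iv F57729)))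
theorem Q13088 : ∀ i, i < 13088 → P i := stepQ 13087 Q13087 (allL N13087 (tt N16249 (iv F54806)) (tt N17094 (iv F57507)) (tt N8771 F46394) (tt N17180 (iv F57731)) (tt N9064 F46395) (tt N8770 (iv D23322)) (tt N16248 (iv F54805)))
theorem Q13089 : ∀ i, i < 13089 → P i := stepQ 13088 Q13088 (allL N13088 (tt N13083 F46396) (tt N13017 F46397) (tt N16248 (iv F54803)) (tt N17009 (iv F57269)) (tt N9065 F46398) (tt N13081 F46399) (tt N8771 (iv D23323)))
theorem Q13090 : ∀ i, i < 13090 → P i := stepQ 13089 Q13089 (allL N13089 (tt N8774 F46400) (tt N12856 (iv F46403)) (tt N14820 (iv F51212)) (tt N17010 (iv F57273)) (tt N9066 F46401) (tt N8772 (iv D23324)) (tt N12858 F46402))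
theorem Q13091 : ∀ i, i < 13091 → P i := stepQ 13090 Q13090 (allL N13090 (tt N8775 F46404) (tt N16695 (iv F56308)) (tt N10513 F46405) (tt N17011 (iv F57279)) (tt N9067 F46406) (tt N13092 (iv F46411)) (tt N8772 (iv D23325)))
theorem Q13092 : ∀ i, i < 13092 → P i := stepQ 13091 Q13091 (allL N13091 (tt N14820 (iv F51211)) (tt N17181 D27473) (tt N8774 F46407) (tt N16149 (iv F54510)) (tt N9068 F46408) (tt N8773 (iv D23326)) (tt N14819 F51210))
theorem Q13093 : ∀ i, i < 13093 → P i := stepQ 13092 Q13092 (allL N13092 (tt N12858 F46409) (tt N12519 (iv F46412)) (tt N14819 (iv F51207)) (tt N17012 (iv F57283)) (tt N9069 F46410) (tt N13090 F46411) (tt N8774 (iv D23327)))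
theorem Q13094 : ∀ i, i < 13094 → P i := stepQ 13093 Q13093 (allL N13093 (tt N8776 (iv D23328)) (tt N17182 D27474) (tt N12306 F46413) (tt N17183 D27475) (tt N9070 F46414) (tt N16589 (iv F55921)) (tt N12303 F46415))
theorem Q13095 : ∀ i, i < 13095 → P i := stepQ 13094 Q13094 (allL N13094 (tt N17183 (iv F57741)) (tt N8777 F46416) (tt N17184 D27476) (tt N8776 (iv D23329)) (tt N17091 (iv F57498)) (tt N17185 D27477) (tt N12310 F46417))
theorem Q13096 : ∀ i, i < 13096 → P i := stepQ 13095 Q13095 (allL N13095 (tt N16589 (iv F55918)) (tt N17174 (iv F57718)) (tt N12315 F46418) (tt N17185 (iv F57744)) (tt N9071 F46419) (tt N8776 (iv D23330)) (tt N16582 (iv F55908)))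
theorem Q13097 : ∀ i, i < 13097 → P i := stepQ 13096 Q13096 (allL N13096 (tt N8781 F46420) (tt N16633 (iv F56069)) (tt N15694 (iv F53398)) (tt N8778 F46421) (tt N13026 F46422) (tt N13025 F46423) (tt N8777 (iv D23331)))
theorem Q13098 : ∀ i, i < 13098 → P i := stepQ 13097 Q13097 (allL N13097 (tt N8782 (iv D23332)) (tt N11449 F46424) (tt N13436 (iv F47290)) (tt N17014 (iv F57290)) (tt N9072 F46425) (tt N12558 F46426) (tt N16736 (iv F56441)))
theorem Q13099 : ∀ i, i < 13099 → P i := stepQ 13098 Q13098 (allL N13098 (tt N16736 (iv F56439)) (tt N13078 F46427) (tt N13438 (iv F47295)) (tt N17015 (iv F57294)) (tt N9073 F46428) (tt N12905 F46429) (tt N8782 (iv D23333)))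
theorem Q13100 : ∀ i, i < 13100 → P i := stepQ 13099 Q13099 (allL N13099 (tt N13100 (iv F46434)) (tt N16001 F54171) (tt N8792 F46430) (tt N11031 F46431) (tt N9079 F46432) (tt N11029 F46433) (tt N8783 (iv D23334)))
theorem Q13101 : ∀ i, i < 13101 → P i := stepQ 13100 Q13100 (allL N13100 (tt N13099 F46434) (tt N17186 D27478) (tt N8793 F46435) (tt N11030 F46436) (tt N9080 F46437) (tt N8784 (iv D23335)) (tt N11028 F46438))
theorem Q13102 : ∀ i, i < 13102 → P i := stepQ 13101 Q13101 (allL N13101 (tt N8789 F46439) (tt N17016 (iv F57298)) (tt N12622 F46440) (tt N9081 F46441) (tt N8785 (iv D23336)) (tt N10187 (iv F46442)) (tt N15533 (iv F52975)))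
theorem Q13103 : ∀ i, i < 13103 → P i := stepQ 13102 Q13102 (allL N13102 (tt N8790 F46443) (tt N10190 (iv F46447)) (tt N12664 F46444) (tt N8786 F46445) (tt N10187 F46446) (tt N8785 (iv D23337)) (tt N13108 (iv F46466)))
theorem Q13104 : ∀ i, i < 13104 → P i := stepQ 13103 Q13103 (allL N13103 (tt N8791 F46448) (tt N17187 D27479) (tt N14637 (iv F50607)) (tt N8787 F46449) (tt N15533 (iv F52974)) (tt N13107 (iv F46463)) (tt N8785 (iv D23338)))
theorem Q13105 : ∀ i, i < 13105 → P i := stepQ 13104 Q13104 (allL N13104 (tt N12181 (iv F46452)) (tt N8787 (iv D23339)) (tt N12178 (iv F46453)) (tt N17187 (iv F57749)) (tt N9082 F46450) (tt N16498 (iv F55632)) (tt N11701 F46451))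
theorem Q13106 : ∀ i, i < 13106 → P i := stepQ 13105 Q13105 (allL N13105 (tt N14637 (iv F50606)) (tt N17188 D27480) (tt N8791 F46454) (tt N9554 F46455) (tt N12623 F46456) (tt N16780 (iv F56606)) (tt N8788 (iv D23340)))
theorem Q13107 : ∀ i, i < 13107 → P i := stepQ 13106 Q13106 (allL N13106 (tt N15533 (iv F52971)) (tt N16826 (iv F56730)) (tt N12623 F46457) (tt N9083 F46458) (tt N8791 F46459) (tt N14537 (iv F50406)) (tt N8789 (iv D23341)))
theorem Q13108 : ∀ i, i < 13108 → P i := stepQ 13107 Q13107 (allL N13107 (tt N13108 (iv F46464)) (tt N17189 D27481) (tt N12669 F46460) (tt N8792 F46461) (tt N11243 F46462) (tt N13103 F46463) (tt N8790 (iv D23342)))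
theorem Q13109 : ∀ i, i < 13109 → P i := stepQ 13108 Q13108 (allL N13108 (tt N13107 F46464) (tt N17190 D27482) (tt N16780 (iv F56603)) (tt N8793 F46465) (tt N14537 (iv F50405)) (tt N8791 (iv D23343)) (tt N13102 F46466))
theorem Q13110 : ∀ i, i < 13110 → P i := stepQ 13109 Q13109 (allL N13109 (tt N17191 D27483) (tt N8792 (iv D23344)) (tt N13635 F54857) (tt N17189 (iv F57756)) (tt N9084 F46467) (tt N17192 D27484) (tt N11817 F46468))
theorem Q13111 : ∀ i, i < 13111 → P i := stepQ 13110 Q13110 (allL N13110 (tt N17054 (iv F57399)) (tt N8793 (iv D23345)) (tt N16307 F55011) (tt N17190 (iv F57759)) (tt N9085 F46469) (tt N16828 (iv F56737)) (tt N14782 (iv F51073)))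
theorem Q13112 : ∀ i, i < 13112 → P i := stepQ 13111 Q13111 (allL N13111 (tt N8794 (iv D23346)) (tt N10215 F46470) (tt N17193 D27485) (tt N9093 F46471) (tt N8796 F46472) (tt N13401 (iv F47211)) (tt N17055 (iv F57402)))
theorem Q13113 : ∀ i, i < 13113 → P i := stepQ 13112 Q13112 (allL N13112 (tt N17193 (iv F57765)) (tt N16830 (iv F56746)) (tt N8794 (iv D23347)) (tt N17194 D27486) (tt N8797 F46473) (tt N17195 D27487) (tt N17056 (iv F57404)))
theorem Q13114 : ∀ i, i < 13114 → P i := stepQ 13113 Q13113 (allL N13113 (tt N13401 (iv F47209)) (tt N17196 D27488) (tt N17195 (iv F57771)) (tt N9095 F46474) (tt N8798 F46475) (tt N8794 (iv D23348)) (tt N17197 D27489))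
theorem Q13115 : ∀ i, i < 13115 → P i := stepQ 13114 Q13114 (allL N13114 (tt N16042 F54261) (tt N8795 (iv D23349)) (tt N17198 D27490) (tt N9096 F46476) (tt N8799 F46477) (tt N17196 (iv F57775)) (tt N15538 (iv F52991)))
theorem Q13116 : ∀ i, i < 13116 → P i := stepQ 13115 Q13115 (allL N13115 (tt N10212 F46478) (tt N8796 (iv D23350)) (tt N17199 D27491) (tt N8800 F46479) (tt N10215 F46480) (tt N10210 (iv F46481)) (tt N10529 (iv F46482)))
theorem Q13117 : ∀ i, i < 13117 → P i := stepQ 13116 Q13116 (allL N13116 (tt N8797 F46483) (tt N9584 F48553) (tt N8796 (iv D23351)) (tt N9583 F48554) (tt N17193 (iv F57766)) (tt N17200 D27492) (tt N17060 (iv F57414)))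
theorem Q13118 : ∀ i, i < 13118 → P i := stepQ 13117 Q13117 (allL N13117 (tt N8798 F46484) (tt N17201 D27493) (tt N17200 (iv F57788)) (tt N8802 F46485) (tt N13401 (iv F47210)) (tt N8796 (iv D23352)) (tt N12991 F46486))
theorem Q13119 : ∀ i, i < 13119 → P i := stepQ 13118 Q13118 (allL N13118 (tt N9583 F48550) (tt N16833 (iv F56755)) (tt N10207 F48551) (tt N8797 (iv D23353)) (tt N9808 F48552) (tt N17202 D27494) (tt N17061 (iv F57417)))
theorem Q13120 : ∀ i, i < 13120 → P i := stepQ 13119 Q13119 (allL N13119 (tt N17200 (iv F57787)) (tt N17203 D27495) (tt N8798 F46487) (tt N17202 (iv F57797)) (tt N17195 (iv F57772)) (tt N8797 (iv D23354)) (tt N17204 D27496))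
theorem Q13121 : ∀ i, i < 13121 → P i := stepQ 13120 Q13120 (allL N13120 (tt N17205 D27497) (tt N8798 (iv D23355)) (tt N17206 D27498) (tt N8805 F46488) (tt N17196 (iv F57774)) (tt N8799 F46489) (tt N17207 D27499))
theorem Q13122 : ∀ i, i < 13122 → P i := stepQ 13121 Q13121 (allL N13121 (tt N12991 F46490) (tt N17208 D27500) (tt N17204 (iv F57800)) (tt N8806 F46491) (tt N17197 (iv F57778)) (tt N12989 F46492) (tt N8798 (iv D23356)))
theorem Q13123 : ∀ i, i < 13123 → P i := stepQ 13122 Q13122 (allL N13122 (tt N8799 (iv D23357)) (tt N16040 F54255) (tt N17209 D27501) (tt N8807 F46493) (tt N16042 (iv F54260)) (tt N17205 (iv F57803)) (tt N17210 D27502))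
theorem Q13124 : ∀ i, i < 13124 → P i := stepQ 13123 Q13123 (allL N13123 (tt N17209 (iv F57809)) (tt N12714 F46494) (tt N8799 (iv D23358)) (tt N17211 D27503) (tt N17198 (iv F57781)) (tt N17206 (iv F57804)) (tt N17212 D27504))
theorem Q13125 : ∀ i, i < 13125 → P i := stepQ 13124 Q13124 (allL N13124 (tt N17210 (iv F57810)) (tt N8859 F46495) (tt N17212 (iv F57815)) (tt N8808 F46496) (tt N15538 (iv F52990)) (tt N17213 D27505) (tt N8799 (iv D23359)))
theorem Q13126 : ∀ i, i < 13126 → P i := stepQ 13125 Q13125 (allL N13125 (tt N8803 F46497) (tt N12201 F46498) (tt N11606 (iv F48555)) (tt N8801 (iv D23360)) (tt N17214 D27506) (tt N17215 D27507) (tt N17069 (iv F57441)))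
theorem Q13127 : ∀ i, i < 13127 → P i := stepQ 13126 Q13126 (allL N13126 (tt N8804 F46499) (tt N17216 D27508) (tt N8802 F46500) (tt N17215 (iv F57825)) (tt N9101 F46501) (tt N8801 (iv D23361)) (tt N12996 F46502))
theorem Q13128 : ∀ i, i < 13128 → P i := stepQ 13127 Q13127 (allL N13127 (tt N17217 D27509) (tt N8802 (iv D23362)) (tt N17218 D27510) (tt N17201 (iv F57792)) (tt N9102 F46503) (tt N10478 F46504) (tt N17219 D27511))
theorem Q13129 : ∀ i, i < 13129 → P i := stepQ 13128 Q13128 (allL N13128 (tt N11606 F48548) (tt N13821 F48549) (tt N8803 (iv D23363)) (tt N13820 (iv F48547)) (tt N17220 D27512) (tt N17221 D27513) (tt N17070 (iv F57446)))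
theorem Q13130 : ∀ i, i < 13130 → P i := stepQ 13129 Q13129 (allL N13129 (tt N17214 (iv F57819)) (tt N8812 F46505) (tt N17220 (iv F57837)) (tt N9104 F46506) (tt N8803 (iv D23364)) (tt N17222 D27514) (tt N17071 (iv F57449)))
theorem Q13131 : ∀ i, i < 13131 → P i := stepQ 13130 Q13130 (allL N13130 (tt N17215 (iv F57823)) (tt N17223 D27515) (tt N17221 (iv F57839)) (tt N8804 F46507) (tt N17222 (iv F57841)) (tt N8803 (iv D23365)) (tt N17224 D27516))
theorem Q13132 : ∀ i, i < 13132 → P i := stepQ 13131 Q13131 (allL N13131 (tt N17225 D27517) (tt N8804 (iv D23366)) (tt N13199 (iv F46659)) (tt N17223 (iv F57842)) (tt N9105 F46508) (tt N8809 F46509) (tt N17226 D27518))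
theorem Q13133 : ∀ i, i < 13133 → P i := stepQ 13132 Q13132 (allL N13132 (tt N12996 F46510) (tt N17227 D27519) (tt N8806 F46511) (tt N17224 (iv F57845)) (tt N9106 F46512) (tt N12994 F46513) (tt N8804 (iv D23367)))
theorem Q13134 : ∀ i, i < 13134 → P i := stepQ 13133 Q13133 (allL N13133 (tt N8805 (iv D23368)) (tt N15856 F53789) (tt N13205 (iv F46671)) (tt N17205 (iv F57802)) (tt N9107 F46514) (tt N8807 F46515) (tt N13137 (iv F46523)))
theorem Q13135 : ∀ i, i < 13135 → P i := stepQ 13134 Q13134 (allL N13134 (tt N13137 (iv F46521)) (tt N11506 F46937) (tt N13211 (iv F46681)) (tt N17207 (iv F57805)) (tt N9108 F46516) (tt N13136 (iv F46520)) (tt N8805 (iv D23369)))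
theorem Q13136 : ∀ i, i < 13136 → P i := stepQ 13135 Q13135 (allL N13135 (tt N14785 F51087) (tt N8806 (iv D23370)) (tt N11502 F46935) (tt N17208 (iv F57807)) (tt N9109 F46517) (tt N17228 D27520) (tt N11506 (iv F46936)))
theorem Q13137 : ∀ i, i < 13137 → P i := stepQ 13136 Q13136 (allL N13136 (tt N8808 F46518) (tt N17229 D27521) (tt N13206 (iv F46674)) (tt N17210 (iv F57811)) (tt N9110 F46519) (tt N13134 F46520) (tt N8807 (iv D23371)))
theorem Q13138 : ∀ i, i < 13138 → P i := stepQ 13137 Q13137 (allL N13137 (tt N13134 F46521) (tt N17230 D27522) (tt N13212 (iv F46685)) (tt N17213 (iv F57817)) (tt N9111 F46522) (tt N8808 (iv D23372)) (tt N13133 F46523))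
theorem Q13139 : ∀ i, i < 13139 → P i := stepQ 13138 Q13138 (allL N13138 (tt N8809 (iv D23373)) (tt N16793 (iv F56636)) (tt N13197 (iv F46655)) (tt N16028 (iv F54226)) (tt N9112 F46524) (tt N17225 (iv F57848)) (tt N17231 D27523))
theorem Q13140 : ∀ i, i < 13140 → P i := stepQ 13139 Q13139 (allL N13139 (tt N16028 (iv F54225)) (tt N8810 F46525) (tt N15712 F53456) (tt N8809 (iv D23374)) (tt N17232 D27524) (tt N17223 (iv F57843)) (tt N17233 D27525))
theorem Q13141 : ∀ i, i < 13141 → P i := stepQ 13140 Q13140 (allL N13140 (tt N17231 (iv F57862)) (tt N8816 F46526) (tt N13190 (iv F46631)) (tt N17233 (iv F57868)) (tt N9114 F46527) (tt N17234 D27526) (tt N8809 (iv D23375)))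
theorem Q13142 : ∀ i, i < 13142 → P i := stepQ 13141 Q13141 (allL N13141 (tt N8812 F46528) (tt N17232 (iv F57865)) (tt N13227 (iv F46716)) (tt N9115 F46529) (tt N8810 (iv D23376)) (tt N8812 F46530) (tt N8817 F46531))
theorem Q13143 : ∀ i, i < 13143 → P i := stepQ 13142 Q13142 (allL N13142 (tt N14572 (iv F50476)) (tt N8811 (iv D23377)) (tt N13821 (iv F48556)) (tt N13222 (iv F46705)) (tt N17235 D27527) (tt N17236 D27528) (tt N17237 D27529))
theorem Q13144 : ∀ i, i < 13144 → P i := stepQ 13143 Q13143 (allL N13143 (tt N13227 (iv F46715)) (tt N17235 (iv F57872)) (tt N8812 F46532) (tt N11586 F46533) (tt N8811 (iv D23378)) (tt N13227 (iv F46718)) (tt N8819 F46534))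
theorem Q13145 : ∀ i, i < 13145 → P i := stepQ 13144 Q13144 (allL N13144 (tt N17102 (iv F57530)) (tt N8813 (iv D23379)) (tt N17182 (iv F57739)) (tt N17238 D27530) (tt N9118 F46535) (tt N17239 D27531) (tt N17240 D27532))
theorem Q13146 : ∀ i, i < 13146 → P i := stepQ 13145 Q13145 (allL N13145 (tt N8814 F46536) (tt N17238 (iv F57875)) (tt N17241 D27533) (tt N8813 (iv D23380)) (tt N17242 D27534) (tt N17243 D27535) (tt N17244 D27536))
theorem Q13147 : ∀ i, i < 13147 → P i := stepQ 13146 Q13146 (allL N13146 (tt N8815 F46537) (tt N17245 D27537) (tt N13195 (iv F46648)) (tt N17243 (iv F57885)) (tt N9120 F46538) (tt N8813 (iv D23381)) (tt N13153 (iv F46550)))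
theorem Q13148 : ∀ i, i < 13148 → P i := stepQ 13147 Q13147 (allL N13147 (tt N8816 F46539) (tt N17246 D27538) (tt N13192 (iv F46638)) (tt N17244 (iv F57887)) (tt N9121 F46540) (tt N13152 (iv F46547)) (tt N8813 (iv D23382)))
theorem Q13149 : ∀ i, i < 13149 → P i := stepQ 13148 Q13148 (allL N13148 (tt N17241 (iv F57880)) (tt N13233 (iv F46729)) (tt N8814 (iv D23383)) (tt N17247 D27539) (tt N17248 D27540) (tt N17249 D27541) (tt N17250 D27542))
theorem Q13150 : ∀ i, i < 13150 → P i := stepQ 13149 Q13149 (allL N13149 (tt N17242 (iv F57881)) (tt N8817 F46541) (tt N17248 (iv F57895)) (tt N9122 F46542) (tt N8814 (iv D23384)) (tt N16735 (iv F56438)) (tt N16962 (iv F57133)))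
theorem Q13151 : ∀ i, i < 13151 → P i := stepQ 13150 Q13150 (allL N13150 (tt N17243 (iv F57884)) (tt N13150 F46543) (tt N17249 (iv F57896)) (tt N8815 F46544) (tt N16735 (iv F56437)) (tt N8814 (iv D23385)) (tt N17251 D27543))
theorem Q13152 : ∀ i, i < 13152 → P i := stepQ 13151 Q13151 (allL N13151 (tt N17244 (iv F57886)) (tt N17233 (iv F57867)) (tt N17250 (iv F57897)) (tt N8816 F46545) (tt N16962 (iv F57132)) (tt N17252 D27544) (tt N8814 (iv D23386)))
theorem Q13153 : ∀ i, i < 13153 → P i := stepQ 13152 Q13152 (allL N13152 (tt N13153 (iv F46548)) (tt N17253 D27545) (tt N13196 (iv F46652)) (tt N17251 (iv F57898)) (tt N9123 F46546) (tt N13147 F46547) (tt N8815 (iv D23387)))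
theorem Q13154 : ∀ i, i < 13154 → P i := stepQ 13153 Q13153 (allL N13153 (tt N13152 F46548) (tt N15633 (iv F53237)) (tt N13193 (iv F46641)) (tt N17252 (iv F57901)) (tt N9124 F46549) (tt N8816 (iv D23388)) (tt N13146 F46550))
theorem Q13155 : ∀ i, i < 13155 → P i := stepQ 13154 Q13154 (allL N13154 (tt N8818 (iv D23389)) (tt N17254 D27546) (tt N15926 (iv F54001)) (tt N13228 (iv F46720)) (tt N17255 D27547) (tt N17256 D27548) (tt N17257 D27549))
theorem Q13156 : ∀ i, i < 13156 → P i := stepQ 13155 Q13155 (allL N13155 (tt N17255 (iv F57905)) (tt N8819 F46551) (tt N15928 (iv F54010)) (tt N13897 (iv F48724)) (tt N8818 (iv D23390)) (tt N17258 D27550) (tt N17259 D27551))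
theorem Q13157 : ∀ i, i < 13157 → P i := stepQ 13156 Q13156 (allL N13156 (tt N17256 (iv F57907)) (tt N13156 F46552) (tt N15929 (iv F54014)) (tt N13229 (iv F46722)) (tt N17258 (iv F57912)) (tt N8818 (iv D23391)) (tt N17260 D27552))
theorem Q13158 : ∀ i, i < 13158 → P i := stepQ 13157 Q13157 (allL N13157 (tt N17257 (iv F57908)) (tt N17237 (iv F57874)) (tt N15930 (iv F54019)) (tt N13230 (iv F46723)) (tt N17259 (iv F57915)) (tt N17261 D27553) (tt N8818 (iv D23392)))
theorem Q13159 : ∀ i, i < 13159 → P i := stepQ 13158 Q13158 (allL N13158 (tt N13159 (iv F46557)) (tt N17262 D27554) (tt N8829 F46553) (tt N11069 F46554) (tt N9133 F46555) (tt N11067 F46556) (tt N8820 (iv D23393)))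
theorem Q13160 : ∀ i, i < 13160 → P i := stepQ 13159 Q13159 (allL N13159 (tt N13158 F46557) (tt N16077 F54347) (tt N8830 F46558) (tt N11068 F46559) (tt N9134 F46560) (tt N8821 (iv D23394)) (tt N11066 F46561))
theorem Q13161 : ∀ i, i < 13161 → P i := stepQ 13160 Q13160 (allL N13160 (tt N8826 F46562) (tt N17107 (iv F57541)) (tt N12633 F46563) (tt N9135 F46564) (tt N8822 (iv D23395)) (tt N15777 (iv F53583)) (tt N10222 (iv F46565)))
theorem Q13162 : ∀ i, i < 13162 → P i := stepQ 13161 Q13161 (allL N13161 (tt N8827 F46566) (tt N17263 D27555) (tt N14666 (iv F50684)) (tt N8823 F46567) (tt N15777 (iv F53582)) (tt N8822 (iv D23396)) (tt N13167 (iv F46589)))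
theorem Q13163 : ∀ i, i < 13163 → P i := stepQ 13162 Q13162 (allL N13162 (tt N8828 F46568) (tt N10225 (iv F46572)) (tt N12693 F46569) (tt N8824 F46570) (tt N10222 F46571) (tt N13166 (iv F46584)) (tt N8822 (iv D23397)))
theorem Q13164 : ∀ i, i < 13164 → P i := stepQ 13163 Q13163 (allL N13163 (tt N11984 (iv F46575)) (tt N8823 (iv D23398)) (tt N11980 (iv F46576)) (tt N17263 (iv F57925)) (tt N9136 F46573) (tt N11707 F46574) (tt N16361 (iv F55175)))
theorem Q13165 : ∀ i, i < 13165 → P i := stepQ 13164 Q13164 (allL N13164 (tt N14666 (iv F50683)) (tt N17264 D27556) (tt N8827 F46577) (tt N9592 F46578) (tt N12634 F46579) (tt N8825 (iv D23399)) (tt N16806 (iv F56681)))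
theorem Q13166 : ∀ i, i < 13166 → P i := stepQ 13165 Q13165 (allL N13165 (tt N15777 (iv F53579)) (tt N16800 (iv F56655)) (tt N12634 F46580) (tt N9137 F46581) (tt N8827 F46582) (tt N8826 (iv D23400)) (tt N14588 (iv F50510)))
theorem Q13167 : ∀ i, i < 13167 → P i := stepQ 13166 Q13166 (allL N13166 (tt N13167 (iv F46585)) (tt N17265 D27557) (tt N16806 (iv F56678)) (tt N8829 F46583) (tt N14588 (iv F50509)) (tt N13162 F46584) (tt N8827 (iv D23401)))
theorem Q13168 : ∀ i, i < 13168 → P i := stepQ 13167 Q13167 (allL N13167 (tt N13166 F46585) (tt N17266 D27558) (tt N12698 F46586) (tt N8830 F46587) (tt N11404 F46588) (tt N8828 (iv D23402)) (tt N13161 F46589))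
theorem Q13169 : ∀ i, i < 13169 → P i := stepQ 13168 Q13168 (allL N13168 (tt N17143 F57632) (tt N8829 (iv D23403)) (tt N16456 F55503) (tt N17265 (iv F57932)) (tt N9138 F46590) (tt N14816 (iv F51194)) (tt N16802 (iv F56663)))
theorem Q13170 : ∀ i, i < 13170 → P i := stepQ 13169 Q13169 (allL N13169 (tt N17267 D27559) (tt N8830 (iv D23404)) (tt N13644 F47981) (tt N17266 (iv F57933)) (tt N9139 F46591) (tt N12032 F46592) (tt N17268 D27560))
theorem Q13171 : ∀ i, i < 13171 → P i := stepQ 13170 Q13170 (allL N13170 (tt N8831 (iv D23405)) (tt N10250 F46593) (tt N17269 D27561) (tt N9147 F46594) (tt N8833 F46595) (tt N17144 (iv F57635)) (tt N13453 (iv F47348)))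
theorem Q13172 : ∀ i, i < 13172 → P i := stepQ 13171 Q13171 (allL N13171 (tt N17269 (iv F57941)) (tt N16837 (iv F56764)) (tt N8831 (iv D23406)) (tt N17270 D27562) (tt N8834 F46596) (tt N17145 (iv F57637)) (tt N17271 D27563))
theorem Q13173 : ∀ i, i < 13173 → P i := stepQ 13172 Q13172 (allL N13172 (tt N13453 (iv F47346)) (tt N17272 D27564) (tt N17271 (iv F57947)) (tt N9149 F46597) (tt N8835 F46598) (tt N17273 D27565) (tt N8831 (iv D23407)))
theorem Q13174 : ∀ i, i < 13174 → P i := stepQ 13173 Q13173 (allL N13173 (tt N16119 F54442) (tt N8832 (iv D23408)) (tt N17274 D27566) (tt N9150 F46599) (tt N8836 F46600) (tt N15784 (iv F53596)) (tt N17272 (iv F57951)))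
theorem Q13175 : ∀ i, i < 13175 → P i := stepQ 13174 Q13174 (allL N13174 (tt N10247 F46601) (tt N8833 (iv D23409)) (tt N17275 D27567) (tt N8837 F46602) (tt N10250 F46603) (tt N10480 (iv F46604)) (tt N10245 (iv F46605)))
theorem Q13176 : ∀ i, i < 13176 → P i := stepQ 13175 Q13175 (allL N13175 (tt N8834 F46606) (tt N9622 F48674) (tt N8833 (iv D23410)) (tt N9621 F48675) (tt N17269 (iv F57942)) (tt N17149 (iv F57647)) (tt N17276 D27568))
theorem Q13177 : ∀ i, i < 13177 → P i := stepQ 13176 Q13176 (allL N13176 (tt N8835 F46607) (tt N17277 D27569) (tt N17276 (iv F57964)) (tt N8839 F46608) (tt N13453 (iv F47347)) (tt N13065 F46609) (tt N8833 (iv D23411)))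
theorem Q13178 : ∀ i, i < 13178 → P i := stepQ 13177 Q13177 (allL N13177 (tt N9621 F48671) (tt N16840 (iv F56773)) (tt N10242 F48672) (tt N8834 (iv D23412)) (tt N9861 F48673) (tt N17150 (iv F57650)) (tt N17278 D27570))
theorem Q13179 : ∀ i, i < 13179 → P i := stepQ 13178 Q13178 (allL N13178 (tt N17276 (iv F57963)) (tt N17279 D27571) (tt N8835 F46610) (tt N17278 (iv F57973)) (tt N17271 (iv F57948)) (tt N17280 D27572) (tt N8834 (iv D23413)))
theorem Q13180 : ∀ i, i < 13180 → P i := stepQ 13179 Q13179 (allL N13179 (tt N17281 D27573) (tt N8835 (iv D23414)) (tt N17282 D27574) (tt N8842 F46611) (tt N17272 (iv F57950)) (tt N17283 D27575) (tt N8836 F46612))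
theorem Q13181 : ∀ i, i < 13181 → P i := stepQ 13180 Q13180 (allL N13180 (tt N13065 F46613) (tt N17284 D27576) (tt N17280 (iv F57976)) (tt N8843 F46614) (tt N17273 (iv F57954)) (tt N8835 (iv D23415)) (tt N13063 F46615))
theorem Q13182 : ∀ i, i < 13182 → P i := stepQ 13181 Q13181 (allL N13181 (tt N8836 (iv D23416)) (tt N16117 F54436) (tt N17285 D27577) (tt N8844 F46616) (tt N16119 (iv F54441)) (tt N17286 D27578) (tt N17281 (iv F57979)))
theorem Q13183 : ∀ i, i < 13183 → P i := stepQ 13182 Q13182 (allL N13182 (tt N17285 (iv F57985)) (tt N12685 F46617) (tt N8836 (iv D23417)) (tt N17287 D27579) (tt N17274 (iv F57957)) (tt N17288 D27580) (tt N17282 (iv F57980)))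
theorem Q13184 : ∀ i, i < 13184 → P i := stepQ 13183 Q13183 (allL N13183 (tt N17286 (iv F57986)) (tt N8873 F46618) (tt N17288 (iv F57991)) (tt N8845 F46619) (tt N15784 (iv F53595)) (tt N8836 (iv D23418)) (tt N17289 D27581))
theorem Q13185 : ∀ i, i < 13185 → P i := stepQ 13184 Q13184 (allL N13184 (tt N8840 F46620) (tt N12018 F46621) (tt N11658 (iv F48676)) (tt N8838 (iv D23419)) (tt N17290 D27582) (tt N17156 (iv F57674)) (tt N17291 D27583))
theorem Q13186 : ∀ i, i < 13186 → P i := stepQ 13185 Q13185 (allL N13185 (tt N8841 F46622) (tt N17292 D27584) (tt N8839 F46623) (tt N17291 (iv F58001)) (tt N9155 F46624) (tt N13070 F46625) (tt N8838 (iv D23420)))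
theorem Q13187 : ∀ i, i < 13187 → P i := stepQ 13186 Q13186 (allL N13186 (tt N17293 D27585) (tt N8839 (iv D23421)) (tt N17294 D27586) (tt N17277 (iv F57968)) (tt N9156 F46626) (tt N17295 D27587) (tt N10528 F46627))
theorem Q13188 : ∀ i, i < 13188 → P i := stepQ 13187 Q13187 (allL N13187 (tt N11658 F48669) (tt N13870 F48670) (tt N8840 (iv D23422)) (tt N13869 (iv F48668)) (tt N17296 D27588) (tt N17157 (iv F57679)) (tt N17297 D27589))
theorem Q13189 : ∀ i, i < 13189 → P i := stepQ 13188 Q13188 (allL N13188 (tt N17290 (iv F57995)) (tt N8849 F46628) (tt N17296 (iv F58013)) (tt N9158 F46629) (tt N8840 (iv D23423)) (tt N17089 (iv F57492)) (tt N17298 D27590))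
theorem Q13190 : ∀ i, i < 13190 → P i := stepQ 13189 Q13189 (allL N13189 (tt N17291 (iv F57999)) (tt N17299 D27591) (tt N17297 (iv F58015)) (tt N8841 F46630) (tt N17298 (iv F58017)) (tt N17300 D27592) (tt N8840 (iv D23424)))
theorem Q13191 : ∀ i, i < 13191 → P i := stepQ 13190 Q13190 (allL N13190 (tt N17301 D27593) (tt N8841 (iv D23425)) (tt N13140 F46631) (tt N17299 (iv F58018)) (tt N9159 F46632) (tt N17302 D27594) (tt N8846 F46633))
theorem Q13192 : ∀ i, i < 13192 → P i := stepQ 13191 Q13191 (allL N13191 (tt N13070 F46634) (tt N17303 D27595) (tt N8843 F46635) (tt N17300 (iv F58021)) (tt N9160 F46636) (tt N8841 (iv D23426)) (tt N13068 F46637))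
theorem Q13193 : ∀ i, i < 13193 → P i := stepQ 13192 Q13192 (allL N13192 (tt N8842 (iv D23427)) (tt N15622 F53200) (tt N13147 F46638) (tt N17281 (iv F57978)) (tt N9161 F46639) (tt N13196 (iv F46654)) (tt N8844 F46640))
theorem Q13194 : ∀ i, i < 13194 → P i := stepQ 13193 Q13193 (allL N13193 (tt N13196 (iv F46651)) (tt N11347 (iv F46646)) (tt N13153 F46641) (tt N17283 (iv F57981)) (tt N9162 F46642) (tt N8842 (iv D23428)) (tt N13195 (iv F46650)))
theorem Q13195 : ∀ i, i < 13195 → P i := stepQ 13194 Q13194 (allL N13194 (tt N14822 F51217) (tt N8843 (iv D23429)) (tt N11343 (iv F46644)) (tt N17284 (iv F57983)) (tt N9163 F46643) (tt N11347 F46645) (tt N17304 D27596))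
theorem Q13196 : ∀ i, i < 13196 → P i := stepQ 13195 Q13195 (allL N13195 (tt N8845 F46647) (tt N17305 D27597) (tt N13146 F46648) (tt N17286 (iv F57987)) (tt N9164 F46649) (tt N8844 (iv D23430)) (tt N13193 F46650))
theorem Q13197 : ∀ i, i < 13197 → P i := stepQ 13196 Q13196 (allL N13196 (tt N13193 F46651) (tt N17306 D27598) (tt N13152 F46652) (tt N17289 (iv F57993)) (tt N9165 F46653) (tt N13192 F46654) (tt N8845 (iv D23431)))
theorem Q13198 : ∀ i, i < 13198 → P i := stepQ 13197 Q13197 (allL N13197 (tt N8846 (iv D23432)) (tt N16819 (iv F56710)) (tt N13138 F46655) (tt N16104 (iv F54402)) (tt N9166 F46656) (tt N17307 D27599) (tt N17301 (iv F58025)))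
theorem Q13199 : ∀ i, i < 13199 → P i := stepQ 13198 Q13198 (allL N13198 (tt N16104 (iv F54401)) (tt N8847 F46657) (tt N15938 (iv F54046)) (tt N8846 (iv D23433)) (tt N17308 D27600) (tt N17309 D27601) (tt N17299 (iv F58019)))
theorem Q13200 : ∀ i, i < 13200 → P i := stepQ 13199 Q13199 (allL N13199 (tt N17307 (iv F58040)) (tt N8852 F46658) (tt N13131 F46659) (tt N17309 (iv F58047)) (tt N9168 F46660) (tt N8846 (iv D23434)) (tt N17310 D27602))
theorem Q13201 : ∀ i, i < 13201 → P i := stepQ 13200 Q13200 (allL N13200 (tt N8849 F46661) (tt N17308 (iv F58044)) (tt N13247 (iv F46770)) (tt N9169 F46662) (tt N8847 (iv D23435)) (tt N8854 F46663) (tt N8849 F46664))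
theorem Q13202 : ∀ i, i < 13202 → P i := stepQ 13201 Q13201 (allL N13201 (tt N14623 (iv F50580)) (tt N8848 (iv D23436)) (tt N13870 (iv F48677)) (tt N13242 (iv F46756)) (tt N17311 D27603) (tt N17312 D27604) (tt N17313 D27605))
theorem Q13203 : ∀ i, i < 13203 → P i := stepQ 13202 Q13202 (allL N13202 (tt N13247 (iv F46769)) (tt N17311 (iv F58052)) (tt N8849 F46665) (tt N11638 F46666) (tt N8848 (iv D23437)) (tt N8856 F46667) (tt N13247 (iv F46773)))
theorem Q13204 : ∀ i, i < 13204 → P i := stepQ 13203 Q13203 (allL N13203 (tt N17182 (iv F57738)) (tt N8850 (iv D23438)) (tt N17102 (iv F57531)) (tt N17314 D27606) (tt N9172 F46668) (tt N17315 D27607) (tt N17316 D27608))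
theorem Q13205 : ∀ i, i < 13205 → P i := stepQ 13204 Q13204 (allL N13204 (tt N8851 F46669) (tt N17314 (iv F58055)) (tt N17317 D27609) (tt N8850 (iv D23439)) (tt N17318 D27610) (tt N17319 D27611) (tt N17320 D27612))
theorem Q13206 : ∀ i, i < 13206 → P i := stepQ 13205 Q13205 (allL N13205 (tt N8852 F46670) (tt N17321 D27613) (tt N13133 F46671) (tt N17319 (iv F58065)) (tt N9174 F46672) (tt N8850 (iv D23440)) (tt N13212 (iv F46687)))
theorem Q13207 : ∀ i, i < 13207 → P i := stepQ 13206 Q13206 (allL N13206 (tt N8853 F46673) (tt N17322 D27614) (tt N13136 F46674) (tt N17320 (iv F58067)) (tt N9175 F46675) (tt N13211 (iv F46683)) (tt N8850 (iv D23441)))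
theorem Q13208 : ∀ i, i < 13208 → P i := stepQ 13207 Q13207 (allL N13207 (tt N17317 (iv F58060)) (tt N13252 (iv F46786)) (tt N8851 (iv D23442)) (tt N17323 D27615) (tt N17324 D27616) (tt N17325 D27617) (tt N17326 D27618))
theorem Q13209 : ∀ i, i < 13209 → P i := stepQ 13208 Q13208 (allL N13208 (tt N17318 (iv F58061)) (tt N8854 F46676) (tt N17324 (iv F58075)) (tt N9176 F46677) (tt N8851 (iv D23443)) (tt N16947 (iv F57094)) (tt N16738 (iv F56447)))
theorem Q13210 : ∀ i, i < 13210 → P i := stepQ 13209 Q13209 (allL N13209 (tt N17319 (iv F58064)) (tt N17309 (iv F58046)) (tt N17325 (iv F58076)) (tt N8852 F46678) (tt N16947 (iv F57093)) (tt N8851 (iv D23444)) (tt N17327 D27619))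
theorem Q13211 : ∀ i, i < 13211 → P i := stepQ 13210 Q13210 (allL N13210 (tt N17320 (iv F58066)) (tt N13210 F46679) (tt N17326 (iv F58077)) (tt N8853 F46680) (tt N16738 (iv F56446)) (tt N17328 D27620) (tt N8851 (iv D23445)))
theorem Q13212 : ∀ i, i < 13212 → P i := stepQ 13211 Q13211 (allL N13211 (tt N13212 (iv F46684)) (tt N15867 (iv F53826)) (tt N13134 F46681) (tt N17327 (iv F58078)) (tt N9177 F46682) (tt N13206 F46683) (tt N8852 (iv D23446)))
theorem Q13213 : ∀ i, i < 13213 → P i := stepQ 13212 Q13212 (allL N13212 (tt N13211 F46684) (tt N17329 D27621) (tt N13137 F46685) (tt N17328 (iv F58081)) (tt N9178 F46686) (tt N8853 (iv D23447)) (tt N13205 F46687))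
theorem Q13214 : ∀ i, i < 13214 → P i := stepQ 13213 Q13213 (allL N13213 (tt N8855 (iv D23448)) (tt N17330 D27622) (tt N15697 (iv F53410)) (tt N13248 (iv F46775)) (tt N17331 D27623) (tt N17332 D27624) (tt N17333 D27625))
theorem Q13215 : ∀ i, i < 13215 → P i := stepQ 13214 Q13214 (allL N13214 (tt N17331 (iv F58085)) (tt N8856 F46688) (tt N15699 (iv F53418)) (tt N13910 (iv F48748)) (tt N8855 (iv D23449)) (tt N17334 D27626) (tt N17335 D27627))
theorem Q13216 : ∀ i, i < 13216 → P i := stepQ 13215 Q13215 (allL N13215 (tt N17332 (iv F58087)) (tt N17312 (iv F58054)) (tt N15700 (iv F53421)) (tt N13249 (iv F46777)) (tt N17334 (iv F58091)) (tt N8855 (iv D23450)) (tt N17336 D27628))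
theorem Q13217 : ∀ i, i < 13217 → P i := stepQ 13216 Q13216 (allL N13216 (tt N17333 (iv F58089)) (tt N13216 F46689) (tt N15701 (iv F53424)) (tt N13250 (iv F46780)) (tt N17335 (iv F58094)) (tt N17337 D27629) (tt N8855 (iv D23451)))
theorem Q13218 : ∀ i, i < 13218 → P i := stepQ 13217 Q13217 (allL N13217 (tt N8859 F46690) (tt N17338 D27630) (tt N12988 F46691) (tt N8858 F46692) (tt N11249 F46693) (tt N11246 F46694) (tt N8857 (iv D23452)))
theorem Q13219 : ∀ i, i < 13219 → P i := stepQ 13218 Q13218 (allL N13218 (tt N16334 (iv F55098)) (tt N8858 (iv D23453)) (tt N17339 D27631) (tt N17338 (iv F58101)) (tt N11821 F46695) (tt N16331 (iv F55094)) (tt N15113 (iv F52082)))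
theorem Q13220 : ∀ i, i < 13220 → P i := stepQ 13219 Q13219 (allL N13219 (tt N11246 F46696) (tt N17340 D27632) (tt N12977 F46697) (tt N8860 F46698) (tt N10123 F46699) (tt N8859 (iv D23454)) (tt N10121 F46700))
theorem Q13221 : ∀ i, i < 13221 → P i := stepQ 13220 Q13220 (allL N13220 (tt N14032 (iv F49089)) (tt N8860 (iv D23455)) (tt N17341 D27633) (tt N17340 (iv F58106)) (tt N10373 F46701) (tt N17230 (iv F57861)) (tt N10375 F46702))
theorem Q13222 : ∀ i, i < 13222 → P i := stepQ 13221 Q13221 (allL N13221 (tt N13221 F46703) (tt N15294 (iv F52483)) (tt N8861 (iv D23456)) (tt N15293 (iv F52481)) (tt N11666 F46704) (tt N13241 (iv F46754)) (tt N13241 (iv F46755)))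
theorem Q13223 : ∀ i, i < 13223 → P i := stepQ 13222 Q13222 (allL N13222 (tt N15296 (iv F52490)) (tt N8862 (iv D23457)) (tt N15294 (iv F52484)) (tt N13142 F46705) (tt N11667 F46706) (tt N17342 D27634) (tt N17343 D27635))
theorem Q13224 : ∀ i, i < 13224 → P i := stepQ 13223 Q13223 (allL N13223 (tt N8863 (iv D23458)) (tt N17344 D27636) (tt N13248 (iv F46774)) (tt N11370 (iv F46708)) (tt N11668 F46707) (tt N17345 D27637) (tt N17346 D27638))
theorem Q13225 : ∀ i, i < 13225 → P i := stepQ 13224 Q13224 (allL N13224 (tt N11370 F46709) (tt N8864 F46710) (tt N11367 F46711) (tt N8863 (iv D23459)) (tt N17347 D27639) (tt N17348 D27640) (tt N17349 D27641))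
theorem Q13226 : ∀ i, i < 13226 → P i := stepQ 13225 Q13225 (allL N13225 (tt N17345 (iv F58123)) (tt N17342 (iv F58115)) (tt N13249 (iv F46776)) (tt N17348 (iv F58136)) (tt N11670 F46712) (tt N8863 (iv D23460)) (tt N17350 D27642))
theorem Q13227 : ∀ i, i < 13227 → P i := stepQ 13226 Q13226 (allL N13226 (tt N17346 (iv F58126)) (tt N8869 F46713) (tt N13250 (iv F46779)) (tt N17349 (iv F58140)) (tt N11671 F46714) (tt N15286 (iv F61405)) (tt N8863 (iv D23461)))
theorem Q13228 : ∀ i, i < 13228 → P i := stepQ 13227 Q13227 (allL N13227 (tt N13143 F46715) (tt N17347 (iv F58130)) (tt N13141 F46716) (tt N11672 F46717) (tt N8864 (iv D23462)) (tt N13143 F46718) (tt N8870 F46719))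
theorem Q13229 : ∀ i, i < 13229 → P i := stepQ 13228 Q13228 (allL N13228 (tt N8865 (iv D23463)) (tt N17351 D27644) (tt N13243 (iv F46758)) (tt N13154 F46720) (tt N13913 (iv F48752)) (tt N17352 D27645) (tt N17353 D27646))
theorem Q13230 : ∀ i, i < 13230 → P i := stepQ 13229 Q13229 (allL N13229 (tt N17352 (iv F58147)) (tt N13229 F46721) (tt N13245 (iv F46765)) (tt N13156 F46722) (tt N13914 (iv F48756)) (tt N8865 (iv D23464)) (tt N17354 D27647))
theorem Q13231 : ∀ i, i < 13231 → P i := stepQ 13230 Q13230 (allL N13230 (tt N17353 (iv F58149)) (tt N17343 (iv F58118)) (tt N13246 (iv F46767)) (tt N13157 F46723) (tt N13915 (iv F48759)) (tt N17355 D27648) (tt N8865 (iv D23465)))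
theorem Q13232 : ∀ i, i < 13232 → P i := stepQ 13231 Q13231 (allL N13231 (tt N8867 F46724) (tt N11055 F58170) (tt N17356 D27654) (tt N8866 (iv D23467)) (tt N17357 D27655) (tt N17358 D27656) (tt N13254 (iv F61395)))
theorem Q13233 : ∀ i, i < 13233 → P i := stepQ 13232 Q13232 (allL N13232 (tt N8868 F46725) (tt N17359 D27658) (tt N13232 F46726) (tt N17358 (iv F58161)) (tt N13917 (iv F48764)) (tt N8866 (iv D23468)) (tt N8880 (iv F61393)))
theorem Q13234 : ∀ i, i < 13234 → P i := stepQ 13233 Q13233 (allL N13233 (tt N17356 (iv F58158)) (tt N13148 F46729) (tt N8867 (iv D23470)) (tt N17360 D27660) (tt N17361 D27661) (tt N17362 D27662) (tt N17363 D27663))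
theorem Q13235 : ∀ i, i < 13235 → P i := stepQ 13234 Q13234 (allL N13234 (tt N17357 (iv F58159)) (tt N8870 F46730) (tt N17361 (iv F58181)) (tt N13919 (iv F48770)) (tt N8867 (iv D23471)) (tt N17364 D27664) (tt N17365 D27665))
theorem Q13236 : ∀ i, i < 13236 → P i := stepQ 13235 Q13235 (allL N13235 (tt N17358 (iv F58160)) (tt N13235 F46731) (tt N17362 (iv F58182)) (tt N8868 F46732) (tt N17364 (iv F58185)) (tt N8867 (iv D23472)) (tt N8881 (iv F61399)))
theorem Q13237 : ∀ i, i < 13237 → P i := stepQ 13236 Q13236 (allL N13236 (tt N13254 (iv F61394)) (tt N17349 (iv F58138)) (tt N17363 (iv F58183)) (tt N8869 F46733) (tt N17365 (iv F58186)) (tt N13251 (iv F61400)) (tt N8867 (iv D23473)))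
theorem Q13238 : ∀ i, i < 13238 → P i := stepQ 13237 Q13237 (allL N13237 (tt N8873 F46739) (tt N17366 D27670) (tt N13062 F46740) (tt N8872 F46741) (tt N11409 F46742) (tt N8871 (iv D23476)) (tt N11407 F46743))
theorem Q13239 : ∀ i, i < 13239 → P i := stepQ 13238 Q13238 (allL N13238 (tt N16477 (iv F55574)) (tt N8872 (iv D23477)) (tt N17367 D27671) (tt N17366 (iv F58193)) (tt N12036 F46744) (tt N15125 (iv F52121)) (tt N16473 (iv F55567)))
theorem Q13240 : ∀ i, i < 13240 → P i := stepQ 13239 Q13239 (allL N13239 (tt N11407 F46745) (tt N17368 D27672) (tt N13052 F46746) (tt N8874 F46747) (tt N10155 F46748) (tt N10154 F46749) (tt N8873 (iv D23478)))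
theorem Q13241 : ∀ i, i < 13241 → P i := stepQ 13240 Q13240 (allL N13240 (tt N14089 (iv F49249)) (tt N8874 (iv D23479)) (tt N17369 D27673) (tt N17368 (iv F58198)) (tt N10407 F46750) (tt N10409 F46751) (tt N17306 (iv F58039)))
theorem Q13242 : ∀ i, i < 13242 → P i := stepQ 13241 Q13241 (allL N13241 (tt N13241 F46752) (tt N15241 (iv F52350)) (tt N8875 (iv D23480)) (tt N15240 (iv F52348)) (tt N11673 F46753) (tt N13221 F46754) (tt N13221 F46755))
theorem Q13243 : ∀ i, i < 13243 → P i := stepQ 13242 Q13242 (allL N13242 (tt N15243 (iv F52357)) (tt N8876 (iv D23481)) (tt N15241 (iv F52351)) (tt N13201 F46756) (tt N11674 F46757) (tt N17370 D27674) (tt N17371 D27675))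
theorem Q13244 : ∀ i, i < 13244 → P i := stepQ 13243 Q13243 (allL N13243 (tt N8877 (iv D23482)) (tt N17372 D27676) (tt N13228 F46758) (tt N11529 (iv F46760)) (tt N11675 F46759) (tt N17373 D27677) (tt N17374 D27678))
theorem Q13245 : ∀ i, i < 13245 → P i := stepQ 13244 Q13244 (allL N13244 (tt N11529 F46761) (tt N8878 F46762) (tt N11526 F46763) (tt N8877 (iv D23483)) (tt N17375 D27679) (tt N17376 D27680) (tt N17377 D27681))
theorem Q13246 : ∀ i, i < 13246 → P i := stepQ 13245 Q13245 (allL N13245 (tt N17373 (iv F58215)) (tt N8882 F46764) (tt N13229 F46765) (tt N17376 (iv F58230)) (tt N11677 F46766) (tt N8877 (iv D23484)) (tt N15233 (iv F61411)))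
theorem Q13247 : ∀ i, i < 13247 → P i := stepQ 13246 Q13246 (allL N13246 (tt N17374 (iv F58219)) (tt N17371 (iv F58210)) (tt N13230 F46767) (tt N17377 (iv F58234)) (tt N11678 F46768) (tt N17378 D27683) (tt N8877 (iv D23485)))
theorem Q13248 : ∀ i, i < 13248 → P i := stepQ 13247 Q13247 (allL N13247 (tt N13202 F46769) (tt N17375 (iv F58224)) (tt N13200 F46770) (tt N11679 F46771) (tt N8878 (iv D23486)) (tt N8883 F46772) (tt N13202 F46773))
theorem Q13249 : ∀ i, i < 13249 → P i := stepQ 13248 Q13248 (allL N13248 (tt N8879 (iv D23487)) (tt N17379 D27684) (tt N13223 F46774) (tt N13213 F46775) (tt N13922 (iv F48783)) (tt N17380 D27685) (tt N17381 D27686))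
theorem Q13250 : ∀ i, i < 13250 → P i := stepQ 13249 Q13249 (allL N13249 (tt N17380 (iv F58243)) (tt N17370 (iv F58207)) (tt N13225 F46776) (tt N13215 F46777) (tt N13923 (iv F48786)) (tt N8879 (iv D23488)) (tt N17382 D27687))
theorem Q13251 : ∀ i, i < 13251 → P i := stepQ 13250 Q13250 (allL N13250 (tt N17381 (iv F58246)) (tt N13250 F46778) (tt N13226 F46779) (tt N13216 F46780) (tt N13924 (iv F48790)) (tt N17383 D27688) (tt N8879 (iv D23489)))
theorem Q13252 : ∀ i, i < 13252 → P i := stepQ 13251 Q13251 (allL N13251 (tt N8881 F46781) (tt N11093 F58270) (tt N17384 D27694) (tt N8880 (iv D23491)) (tt N17385 D27695) (tt N13236 F61400) (tt N17358 F61401))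
theorem Q13253 : ∀ i, i < 13253 → P i := stepQ 13252 Q13252 (allL N13252 (tt N17384 (iv F58258)) (tt N13207 F46786) (tt N8881 (iv D23494)) (tt N17386 D27700) (tt N17387 D27701) (tt N17388 D27702) (tt N17362 (iv F61398)))
theorem Q13254 : ∀ i, i < 13254 → P i := stepQ 13253 Q13253 (allL N13253 (tt N17385 (iv F58259)) (tt N8883 F46787) (tt N17387 (iv F58281)) (tt N13927 (iv F48801)) (tt N8881 (iv D23495)) (tt N17389 D27704) (tt N17364 (iv F61397)))
theorem Q13255 : ∀ i, i < 13255 → P i := stepQ 13254 Q13254 (allL N13254 (tt N13236 F61394) (tt N17376 (iv F58228)) (tt N17388 (iv F58282)) (tt N8882 F46788) (tt N17389 (iv F58284)) (tt N8881 (iv D23496)) (tt N13231 F61395))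
theorem Q13256 : ∀ i, i < 13256 → P i := stepQ 13255 Q13255 (allL N13255 (tt N11683 F46796) (tt N13409 F47238) (tt N8903 F46797) (tt N10416 F46798) (tt N16909 (iv F57000)) (tt N14696 (iv F50767)) (tt N8901 (iv D23500)))
theorem Q13257 : ∀ i, i < 13257 → P i := stepQ 13256 Q13256 (allL N13256 (tt N11686 F46799) (tt N13461 F47375) (tt N8909 F46800) (tt N10382 F46801) (tt N16911 (iv F57006)) (tt N8908 (iv D23501)) (tt N14698 (iv F50774)))
theorem Q13258 : ∀ i, i < 13258 → P i := stepQ 13257 Q13257 (allL N13257 (tt N15717 F53467) (tt N8917 (iv D23502)) (tt N17390 D27710) (tt N16936 (iv F57067)) (tt N8918 F46802) (tt N17390 (iv F58295)) (tt N13787 (iv F48457)))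
theorem Q13259 : ∀ i, i < 13259 → P i := stepQ 13258 Q13258 (allL N13258 (tt N14783 (iv F51075)) (tt N13301 (iv F46927)) (tt N8918 (iv D23504)) (tt N8921 (iv F46806)) (tt N17390 (iv F58293)) (tt N8918 F46805) (tt N10379 F46804))
theorem Q13260 : ∀ i, i < 13260 → P i := stepQ 13259 Q13259 (allL N13259 (tt N8920 F46807) (tt N17391 D27711) (tt N8919 (iv D23506)) (tt N14959 (iv F51681)) (tt N16940 (iv F57072)) (tt N16743 F56465) (tt N16844 (iv F56784)))
theorem Q13261 : ∀ i, i < 13261 → P i := stepQ 13260 Q13260 (allL N13260 (tt N8921 F46808) (tt N14003 (iv F49009)) (tt N16743 (iv F56463)) (tt N14783 (iv F51077)) (tt N16941 (iv F57075)) (tt N8919 (iv D23507)) (tt N12735 F46809))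
theorem Q13262 : ∀ i, i < 13262 → P i := stepQ 13261 Q13261 (allL N13261 (tt N16743 (iv F56461)) (tt N13990 (iv F48986)) (tt N8921 F46813) (tt N13989 F48984) (tt N16942 (iv F57079)) (tt N8920 (iv D23508)) (tt N16742 F56460))
theorem Q13263 : ∀ i, i < 13263 → P i := stepQ 13262 Q13262 (allL N13262 (tt N12735 F46814) (tt N10376 (iv F46817)) (tt N16742 (iv F56459)) (tt N10379 F46815) (tt N16943 (iv F57081)) (tt N12733 F46816) (tt N8921 (iv D23509)))
theorem Q13264 : ∀ i, i < 13264 → P i := stepQ 13263 Q13263 (allL N13263 (tt N12312 F46818) (tt N14886 (iv F51443)) (tt N8922 (iv D23510)) (tt N14854 (iv F51334)) (tt N16944 (iv F57085)) (tt N13384 F47158) (tt N14867 (iv F51374)))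
theorem Q13265 : ∀ i, i < 13265 → P i := stepQ 13264 Q13264 (allL N13264 (tt N8924 F46819) (tt N17392 D27712) (tt N8923 (iv D23511)) (tt N9174 F46820) (tt N16945 (iv F57087)) (tt N9173 F46821) (tt N12589 F46822))
theorem Q13266 : ∀ i, i < 13266 → P i := stepQ 13265 Q13265 (allL N13265 (tt N14866 F51369) (tt N8924 (iv D23512)) (tt N8926 F46823) (tt N9168 F46824) (tt N16946 (iv F57091)) (tt N9167 F46825) (tt N17393 D27713))
theorem Q13267 : ∀ i, i < 13267 → P i := stepQ 13266 Q13266 (allL N13266 (tt N12589 F46826) (tt N13414 F47248) (tt N8925 F46827) (tt N9177 F46828) (tt N16948 (iv F57097)) (tt N12591 F46829) (tt N8924 (iv D23513)))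
theorem Q13268 : ∀ i, i < 13268 → P i := stepQ 13267 Q13267 (allL N13267 (tt N14876 (iv F51399)) (tt N13529 (iv F47587)) (tt N9167 F46830) (tt N12381 F46831) (tt N16949 (iv F57102)) (tt N8926 (iv D23514)) (tt N9170 (iv F46832)))
theorem Q13269 : ∀ i, i < 13269 → P i := stepQ 13268 Q13268 (allL N13268 (tt N13478 (iv F47420)) (tt N14888 (iv F51448)) (tt N17393 (iv F58304)) (tt N14889 (iv F51452)) (tt N15631 (iv F53230)) (tt N13476 (iv F47414)) (tt N8926 (iv D23515)))
theorem Q13270 : ∀ i, i < 13270 → P i := stepQ 13269 Q13269 (allL N13269 (tt N14958 (iv F51677)) (tt N8927 (iv D23516)) (tt N13531 (iv F47594)) (tt N10772 F46833) (tt N16950 (iv F57105)) (tt N13529 F47589) (tt N14005 (iv F49016)))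
theorem Q13271 : ∀ i, i < 13271 → P i := stepQ 13270 Q13270 (allL N13270 (tt N15943 (iv F54058)) (tt N8933 (iv D23517)) (tt N17394 D27714) (tt N16951 (iv F57106)) (tt N8934 F46834) (tt N13838 (iv F48585)) (tt N17394 F58309))
theorem Q13272 : ∀ i, i < 13272 → P i := stepQ 13271 Q13271 (allL N13271 (tt N14817 (iv F51196)) (tt N13361 (iv F47101)) (tt N8934 (iv D23518)) (tt N8937 F46837) (tt N17394 (iv F58307)) (tt N10413 F46835) (tt N8934 (iv F46836)))
theorem Q13273 : ∀ i, i < 13273 → P i := stepQ 13272 Q13272 (allL N13272 (tt N8936 F46838) (tt N17395 D27715) (tt N8935 (iv D23519)) (tt N14912 (iv F51525)) (tt N16955 (iv F57111)) (tt N16846 (iv F56787)) (tt N16741 (iv F56458)))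
theorem Q13274 : ∀ i, i < 13274 → P i := stepQ 13273 Q13273 (allL N13273 (tt N8937 F46839) (tt N14022 (iv F49051)) (tt N16741 (iv F56456)) (tt N14817 (iv F51198)) (tt N16956 (iv F57114)) (tt N12744 F46840) (tt N8935 (iv D23520)))
theorem Q13275 : ∀ i, i < 13275 → P i := stepQ 13274 Q13274 (allL N13274 (tt N16741 (iv F56454)) (tt N14009 (iv F49028)) (tt N8937 F46841) (tt N14008 F49026) (tt N16957 (iv F57118)) (tt N16740 (iv F56453)) (tt N8936 (iv D23521)))
theorem Q13276 : ∀ i, i < 13276 → P i := stepQ 13275 Q13275 (allL N13275 (tt N12744 F46842) (tt N10410 (iv F46845)) (tt N16740 (iv F56452)) (tt N10413 F46843) (tt N16958 (iv F57120)) (tt N8937 (iv D23522)) (tt N12742 F46844))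
theorem Q13277 : ∀ i, i < 13277 → P i := stepQ 13276 Q13276 (allL N13276 (tt N12253 F46846) (tt N14854 (iv F51332)) (tt N8938 (iv D23523)) (tt N14886 (iv F51445)) (tt N16959 (iv F57124)) (tt N14896 (iv F51474)) (tt N13330 F47012))
theorem Q13278 : ∀ i, i < 13278 → P i := stepQ 13277 Q13277 (allL N13277 (tt N8940 F46847) (tt N17396 D27716) (tt N8939 (iv D23524)) (tt N9121 F46848) (tt N16960 (iv F57126)) (tt N12582 F46849) (tt N9119 F46850))
theorem Q13279 : ∀ i, i < 13279 → P i := stepQ 13278 Q13278 (allL N13278 (tt N14872 (iv F51386)) (tt N8940 (iv D23525)) (tt N8942 F46851) (tt N9114 F46852) (tt N16961 (iv F57130)) (tt N17397 D27717) (tt N9113 F46853))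
theorem Q13280 : ∀ i, i < 13280 → P i := stepQ 13279 Q13279 (allL N13279 (tt N12582 F46854) (tt N13466 F47404) (tt N8941 F46855) (tt N9124 F46856) (tt N16963 (iv F57136)) (tt N8940 (iv D23526)) (tt N12585 F46857))
theorem Q13281 : ∀ i, i < 13281 → P i := stepQ 13280 Q13280 (allL N13280 (tt N13426 (iv F47275)) (tt N14856 (iv F51337)) (tt N17397 (iv F58319)) (tt N14857 (iv F51339)) (tt N15865 (iv F53819)) (tt N8942 (iv D23527)) (tt N13424 F47269))
theorem Q13282 : ∀ i, i < 13282 → P i := stepQ 13281 Q13281 (allL N13281 (tt N14874 (iv F51392)) (tt N13505 (iv F47510)) (tt N9113 F46858) (tt N12335 F46859) (tt N16964 (iv F57141)) (tt N9116 F46860) (tt N8942 (iv D23528)))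
theorem Q13283 : ∀ i, i < 13283 → P i := stepQ 13282 Q13282 (allL N13282 (tt N14911 (iv F51521)) (tt N8943 (iv D23529)) (tt N13507 (iv F47517)) (tt N10688 F46861) (tt N16965 (iv F57144)) (tt N14024 (iv F49057)) (tt N13505 F47513))
theorem Q13284 : ∀ i, i < 13284 → P i := stepQ 13283 Q13283 (allL N13283 (tt N8953 F46862) (tt N9081 F46863) (tt N10859 F46864) (tt N17016 (iv F57300)) (tt N8946 (iv D23530)) (tt N10193 F46865) (tt N10861 F46866))
theorem Q13285 : ∀ i, i < 13285 → P i := stepQ 13284 Q13284 (allL N13284 (tt N10861 F46867) (tt N14585 (iv F50498)) (tt N10860 F46868) (tt N17022 (iv F57321)) (tt N8954 F46869) (tt N14547 (iv F50429)) (tt N8953 (iv D23531)))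
theorem Q13286 : ∀ i, i < 13286 → P i := stepQ 13285 Q13285 (allL N13285 (tt N16539 (iv F55772)) (tt N8955 (iv D23532)) (tt N15847 (iv F53759)) (tt N12241 F46870) (tt N15855 (iv F53785)) (tt N12238 F46871) (tt N15849 (iv F53771)))
theorem Q13287 : ∀ i, i < 13287 → P i := stepQ 13286 Q13286 (allL N13286 (tt N13287 (iv F46875)) (tt N8960 F46872) (tt N8956 (iv D23533)) (tt N10490 F46874) (tt N17026 (iv F57330)) (tt N10485 (iv F46873)) (tt N16415 (iv F55345)))
theorem Q13288 : ∀ i, i < 13288 → P i := stepQ 13287 Q13287 (allL N13287 (tt N13286 F46875) (tt N10530 (iv F46890)) (tt N10485 F46876) (tt N12028 F46877) (tt N17027 (iv F57334)) (tt N8956 (iv D23534)) (tt N12023 (iv F46882)))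
theorem Q13289 : ∀ i, i < 13289 → P i := stepQ 13288 Q13288 (allL N13288 (tt N16673 (iv F56236)) (tt N8957 (iv D23535)) (tt N10531 (iv F46896)) (tt N10462 F46893) (tt N17028 (iv F57337)) (tt N10530 F46894) (tt N10458 F46895))
theorem Q13290 : ∀ i, i < 13290 → P i := stepQ 13289 Q13289 (allL N13289 (tt N9042 F46897) (tt N10531 F46898) (tt N8962 (iv D23536)) (tt N9099 F46899) (tt N17030 (iv F57345)) (tt N10424 F46900) (tt N9040 F46901))
theorem Q13291 : ∀ i, i < 13291 → P i := stepQ 13290 Q13290 (allL N13290 (tt N13618 (iv F47904)) (tt N17398 D27718) (tt N9087 F46902) (tt N17031 (iv F57348)) (tt N8964 F46903) (tt N17399 D27719) (tt N8963 (iv D23537)))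
theorem Q13292 : ∀ i, i < 13292 → P i := stepQ 13291 Q13291 (allL N13291 (tt N11951 F46904) (tt N8964 (iv D23538)) (tt N14029 (iv F49079)) (tt N8966 F46905) (tt N17398 (iv F58323)) (tt N14028 F49074) (tt N8969 F46906))
theorem Q13293 : ∀ i, i < 13293 → P i := stepQ 13292 Q13292 (allL N13292 (tt N9670 F46907) (tt N14797 (iv F51127)) (tt N9090 F46908) (tt N8967 F46909) (tt N17399 (iv F58327)) (tt N8964 (iv D23539)) (tt N9408 F46910))
theorem Q13294 : ∀ i, i < 13294 → P i := stepQ 13293 Q13293 (allL N13293 (tt N17400 D27720) (tt N8965 (iv D23540)) (tt N13296 (iv F46918)) (tt N9788 F46911) (tt N17035 (iv F57357)) (tt N13295 F46917) (tt N9785 F46912))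
theorem Q13295 : ∀ i, i < 13295 → P i := stepQ 13294 Q13294 (allL N13294 (tt N8966 (iv D23541)) (tt N11949 F46913) (tt N13418 F47258) (tt N11951 F46914) (tt N17036 (iv F57360)) (tt N13305 (iv F46949)) (tt N8970 F46915))
theorem Q13296 : ∀ i, i < 13296 → P i := stepQ 13295 Q13295 (allL N13295 (tt N13418 F47257) (tt N16415 (iv F55344)) (tt N8966 (iv D23542)) (tt N14041 (iv F49113)) (tt N17037 (iv F57362)) (tt N13293 (iv F46917)) (tt N8971 F46916))
theorem Q13297 : ∀ i, i < 13297 → P i := stepQ 13296 Q13296 (allL N13296 (tt N13305 (iv F46946)) (tt N14795 (iv F51120)) (tt N13293 F46918) (tt N14028 (iv F49075)) (tt N17038 (iv F57366)) (tt N8966 (iv D23543)) (tt N13303 (iv F46941)))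
theorem Q13298 : ∀ i, i < 13298 → P i := stepQ 13297 Q13297 (allL N13297 (tt N16870 (iv F56878)) (tt N8967 (iv D23544)) (tt N14795 (iv F51121)) (tt N14797 (iv F51129)) (tt N17039 (iv F57367)) (tt N14795 (iv F51123)) (tt N14794 F51119))
theorem Q13299 : ∀ i, i < 13299 → P i := stepQ 13298 Q13298 (allL N13298 (tt N17401 D27721) (tt N8968 (iv D23545)) (tt N17402 D27722) (tt N17040 (iv F57368)) (tt N8969 F46919) (tt N17403 D27723) (tt N17398 (iv F58324)))
theorem Q13300 : ∀ i, i < 13300 → P i := stepQ 13299 Q13299 (allL N13299 (tt N8969 (iv D23546)) (tt N14799 (iv F51136)) (tt N14030 (iv F49083)) (tt N8970 F46920) (tt N17401 (iv F58333)) (tt N10460 F46922) (tt N11951 F46921))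
theorem Q13301 : ∀ i, i < 13301 → P i := stepQ 13300 Q13300 (allL N13300 (tt N14030 (iv F49082)) (tt N8981 F46923) (tt N8969 (iv D23547)) (tt N8987 (iv F46924)) (tt N17402 (iv F58337)) (tt N8982 (iv F46925)) (tt N14029 (iv F49081)))
theorem Q13302 : ∀ i, i < 13302 → P i := stepQ 13301 Q13301 (allL N13301 (tt N10460 F46926) (tt N13258 F46927) (tt N8982 F46928) (tt N8972 F46929) (tt N17403 (iv F58342)) (tt N8969 (iv D23548)) (tt N9776 F46930))
theorem Q13303 : ∀ i, i < 13303 → P i := stepQ 13302 Q13302 (allL N13302 (tt N16397 (iv F55290)) (tt N8970 (iv D23549)) (tt N16392 (iv F55279)) (tt N14799 (iv F51138)) (tt N17044 (iv F57373)) (tt N13339 (iv F47041)) (tt N16389 F55271))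
theorem Q13304 : ∀ i, i < 13304 → P i := stepQ 13303 Q13303 (allL N13303 (tt N8972 F46938) (tt N10456 (iv F46942)) (tt N9785 F46939) (tt N10460 F46940) (tt N17045 (iv F57376)) (tt N8970 (iv D23550)) (tt N13296 F46941))
theorem Q13305 : ∀ i, i < 13305 → P i := stepQ 13304 Q13304 (allL N13304 (tt N9785 F46943) (tt N14051 (iv F49138)) (tt N8972 F46944) (tt N9786 F46945) (tt N17047 (iv F57382)) (tt N8971 (iv D23551)) (tt N17400 (iv F58332)))
theorem Q13306 : ∀ i, i < 13306 → P i := stepQ 13305 Q13305 (allL N13305 (tt N13296 F46946) (tt N9779 F46947) (tt N17400 (iv F58329)) (tt N9776 F46948) (tt N17048 (iv F57385)) (tt N13294 F46949) (tt N8972 (iv D23552)))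
theorem Q13307 : ∀ i, i < 13307 → P i := stepQ 13306 Q13306 (allL N13306 (tt N8977 F46950) (tt N10483 F46954) (tt N8975 F46951) (tt N9153 F46952) (tt N17050 (iv F57392)) (tt N8974 (iv D23553)) (tt N10390 F46953))
theorem Q13308 : ∀ i, i < 13308 → P i := stepQ 13307 Q13307 (allL N13307 (tt N15793 (iv F53625)) (tt N16062 (iv F54305)) (tt N15792 F53624) (tt N17052 (iv F57395)) (tt N8976 (iv D23554)) (tt N16120 (iv F54445)) (tt N14477 F50258))
theorem Q13309 : ∀ i, i < 13309 → P i := stepQ 13308 Q13308 (allL N13308 (tt N9085 F46956) (tt N8977 (iv D23555)) (tt N10770 F46955) (tt N14053 (iv F49148)) (tt N17054 (iv F57398)) (tt N14051 F49141) (tt N14003 (iv F49012)))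
theorem Q13310 : ∀ i, i < 13310 → P i := stepQ 13309 Q13309 (allL N13309 (tt N8978 (iv D23556)) (tt N14480 (iv F50265)) (tt N13403 (iv F47216)) (tt N17055 (iv F57400)) (tt N8980 F46957) (tt N13403 (iv F47218)) (tt N9093 F46958))
theorem Q13311 : ∀ i, i < 13311 → P i := stepQ 13310 Q13310 (allL N13310 (tt N13403 (iv F47215)) (tt N17402 (iv F58336)) (tt N8978 (iv D23557)) (tt N17057 (iv F57405)) (tt N8981 F46959) (tt N8978 (iv F46961)) (tt N9094 F46960))
theorem Q13312 : ∀ i, i < 13312 → P i := stepQ 13311 Q13311 (allL N13311 (tt N17404 D27724) (tt N8979 (iv D23558)) (tt N17403 (iv F58341)) (tt N17058 (iv F57408)) (tt N8982 F46962) (tt N17402 F58338) (tt N9562 F46963))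
theorem Q13313 : ∀ i, i < 13313 → P i := stepQ 13312 Q13312 (allL N13312 (tt N8982 (iv D23559)) (tt N11933 F46964) (tt N10460 F46965) (tt N8988 F46966) (tt N17404 (iv F58346)) (tt N14030 (iv F49085)) (tt N9775 F46967))
theorem Q13314 : ∀ i, i < 13314 → P i := stepQ 13313 Q13313 (allL N13313 (tt N8983 (iv D23560)) (tt N16397 (iv F55291)) (tt N10526 F46968) (tt N10403 F46969) (tt N17067 (iv F57432)) (tt N10392 F46971) (tt N10525 F46970))
theorem Q13315 : ∀ i, i < 13315 → P i := stepQ 13314 Q13314 (allL N13314 (tt N10392 F46972) (tt N13417 (iv F47254)) (tt N10527 F46973) (tt N10400 F46974) (tt N17068 (iv F57437)) (tt N8983 (iv D23561)) (tt N10391 F46975))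
theorem Q13316 : ∀ i, i < 13316 → P i := stepQ 13315 Q13315 (allL N13315 (tt N8985 F46976) (tt N11995 F46977) (tt N13317 (iv F46985)) (tt N8984 (iv D23562)) (tt N17173 (iv F57713)) (tt N13316 F46982) (tt N9100 F46978))
theorem Q13317 : ∀ i, i < 13317 → P i := stepQ 13316 Q13316 (allL N13316 (tt N13317 (iv F46983)) (tt N9056 F46979) (tt N8985 (iv D23563)) (tt N9106 F46981) (tt N17169 (iv F57704)) (tt N13315 (iv F46982)) (tt N9103 F46980))
theorem Q13318 : ∀ i, i < 13318 → P i := stepQ 13317 Q13317 (allL N13317 (tt N13316 F46983) (tt N9071 F46984) (tt N13315 F46985) (tt N8986 F46986) (tt N17174 (iv F57720)) (tt N8985 (iv D23564)) (tt N13406 (iv F47230)))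
theorem Q13319 : ∀ i, i < 13319 → P i := stepQ 13318 Q13318 (allL N13318 (tt N16216 (iv F54697)) (tt N8986 (iv D23565)) (tt N16215 (iv F54695)) (tt N9071 F46987) (tt N17073 (iv F57451)) (tt N8996 F46988) (tt N16580 (iv F55903)))
theorem Q13320 : ∀ i, i < 13320 → P i := stepQ 13319 Q13319 (allL N13319 (tt N8987 (iv D23566)) (tt N14790 (iv F51100)) (tt N17405 D27725) (tt N14030 (iv F49084)) (tt N17074 (iv F57453)) (tt N8988 F46989) (tt N13326 (iv F47003)))
theorem Q13321 : ∀ i, i < 13321 → P i := stepQ 13320 Q13320 (allL N13320 (tt N17405 (iv F58348)) (tt N16215 F54696) (tt N8987 (iv D23567)) (tt N12262 F46991) (tt N17075 (iv F57455)) (tt N8989 F46990) (tt N17406 D27726))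
theorem Q13322 : ∀ i, i < 13322 → P i := stepQ 13321 Q13321 (allL N13321 (tt N13326 (iv F47001)) (tt N13411 (iv F47240)) (tt N17406 (iv F58351)) (tt N14029 (iv F49080)) (tt N17076 (iv F57457)) (tt N13324 (iv F46998)) (tt N8987 (iv D23568)))
theorem Q13323 : ∀ i, i < 13323 → P i := stepQ 13322 Q13322 (allL N13322 (tt N11937 F46992) (tt N8988 (iv D23569)) (tt N17407 D27727) (tt N11933 F46993) (tt N17077 (iv F57459)) (tt N16336 (iv F55107)) (tt N11932 (iv F46994)))
theorem Q13324 : ∀ i, i < 13324 → P i := stepQ 13323 Q13323 (allL N13323 (tt N8989 F46995) (tt N16531 F55744) (tt N8988 (iv D23570)) (tt N14038 (iv F49105)) (tt N17078 (iv F57462)) (tt N17405 (iv F58350)) (tt N17408 D27728))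
theorem Q13325 : ∀ i, i < 13325 → P i := stepQ 13324 Q13324 (allL N13324 (tt N8990 F46996) (tt N16275 (iv F54887)) (tt N17408 (iv F58359)) (tt N9775 F46997) (tt N17079 (iv F57464)) (tt N13321 F46998) (tt N8988 (iv D23571)))
theorem Q13326 : ∀ i, i < 13326 → P i := stepQ 13325 Q13325 (allL N13325 (tt N17408 (iv F58358)) (tt N9062 (iv F47000)) (tt N8990 F46999) (tt N14040 (iv F49110)) (tt N17081 (iv F57468)) (tt N17409 D27729) (tt N8989 (iv D23572)))
theorem Q13327 : ∀ i, i < 13327 → P i := stepQ 13326 Q13326 (allL N13326 (tt N13321 F47001) (tt N13936 (iv F48833)) (tt N17409 (iv F58363)) (tt N9777 F47002) (tt N17082 (iv F57471)) (tt N8990 (iv D23573)) (tt N13319 F47003))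
theorem Q13328 : ∀ i, i < 13328 → P i := stepQ 13327 Q13327 (allL N13327 (tt N8992 F47004) (tt N14881 (iv F51426)) (tt N8991 (iv D23574)) (tt N14898 (iv F51479)) (tt N17083 (iv F57474)) (tt N12371 F47005) (tt N14896 F51475))
theorem Q13329 : ∀ i, i < 13329 → P i := stepQ 13328 Q13328 (allL N13328 (tt N13333 (iv F47019)) (tt N8992 (iv D23575)) (tt N8995 F47006) (tt N9160 (iv F47008)) (tt N17084 (iv F57477)) (tt N9157 (iv F47007)) (tt N13332 F47017))
theorem Q13330 : ∀ i, i < 13330 → P i := stepQ 13329 Q13329 (allL N13329 (tt N14898 (iv F51477)) (tt N9160 F47009) (tt N14858 (iv F51347)) (tt N8992 (iv D23576)) (tt N17303 (iv F58030)) (tt N17410 D27730) (tt N14894 (iv F51467)))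
theorem Q13331 : ∀ i, i < 13331 → P i := stepQ 13330 Q13330 (allL N13330 (tt N12371 F47010) (tt N17411 D27731) (tt N8993 F47011) (tt N17410 (iv F58369)) (tt N17086 (iv F57481)) (tt N8992 (iv D23577)) (tt N13276 (iv F47012)))
theorem Q13332 : ∀ i, i < 13332 → P i := stepQ 13331 Q13331 (allL N13331 (tt N14896 (iv F51471)) (tt N16401 (iv F55298)) (tt N8994 F47013) (tt N14894 (iv F51468)) (tt N17087 (iv F57484)) (tt N12253 F47014) (tt N8992 (iv D23578)))
theorem Q13333 : ∀ i, i < 13333 → P i := stepQ 13332 Q13332 (allL N13332 (tt N8995 (iv D23579)) (tt N12008 (iv F47018)) (tt N13333 (iv F47021)) (tt N9049 F47015) (tt N17088 (iv F57486)) (tt N9154 F47016) (tt N13328 (iv F47017)))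
theorem Q13334 : ∀ i, i < 13334 → P i := stepQ 13333 Q13333 (allL N13333 (tt N13328 F47019) (tt N9010 F47020) (tt N13332 F47021) (tt N9050 F47022) (tt N17090 (iv F57496)) (tt N13458 (iv F47367)) (tt N8995 (iv D23580)))
theorem Q13335 : ∀ i, i < 13335 → P i := stepQ 13334 Q13334 (allL N13334 (tt N8996 (iv D23581)) (tt N16507 (iv F55667)) (tt N16211 F54684) (tt N9070 F47023) (tt N17092 (iv F57501)) (tt N16216 (iv F54700)) (tt N12302 F47024))
theorem Q13336 : ∀ i, i < 13336 → P i := stepQ 13335 Q13335 (allL N13335 (tt N16211 (iv F54685)) (tt N8998 F47025) (tt N8996 (iv D23582)) (tt N11743 F47027) (tt N17093 (iv F57504)) (tt N16215 (iv F54694)) (tt N11741 F47026))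
theorem Q13337 : ∀ i, i < 13337 → P i := stepQ 13336 Q13336 (allL N13336 (tt N8998 F47028) (tt N9064 F47029) (tt N8997 (iv D23583)) (tt N11752 F47030) (tt N17094 (iv F57508)) (tt N9000 F47031) (tt N11751 F47032))
theorem Q13338 : ∀ i, i < 13338 → P i := stepQ 13337 Q13337 (allL N13337 (tt N17412 D27732) (tt N9000 (iv D23584)) (tt N9054 F47033) (tt N14055 (iv F49153)) (tt N17096 (iv F57515)) (tt N9053 F47034) (tt N17413 D27733))
theorem Q13339 : ∀ i, i < 13339 → P i := stepQ 13338 Q13338 (allL N13338 (tt N9060 F47038) (tt N9002 (iv D23585)) (tt N9059 F47035) (tt N11795 F47036) (tt N17100 (iv F57523)) (tt N11794 (iv F47039)) (tt N9062 F47037))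
theorem Q13340 : ∀ i, i < 13340 → P i := stepQ 13339 Q13339 (allL N13339 (tt N17414 D27734) (tt N9006 (iv D23586)) (tt N16401 (iv F55299)) (tt N10467 F47040) (tt N17101 (iv F57527)) (tt N13302 F47041) (tt N12257 F47042))
theorem Q13341 : ∀ i, i < 13341 → P i := stepQ 13340 Q13340 (allL N13340 (tt N9118 F47043) (tt N9008 (iv D23587)) (tt N9172 F47044) (tt N16388 (iv F55265)) (tt N17102 (iv F57532)) (tt N17415 D27735) (tt N16385 F55254))
theorem Q13342 : ∀ i, i < 13342 → P i := stepQ 13341 Q13341 (allL N13341 (tt N9009 F47045) (tt N16388 (iv F55263)) (tt N16241 F54779) (tt N9008 (iv D23588)) (tt N17175 (iv F57722)) (tt N12243 F47046) (tt N16246 (iv F54794)))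
theorem Q13343 : ∀ i, i < 13343 → P i := stepQ 13342 Q13342 (allL N13342 (tt N16241 (iv F54775)) (tt N9060 F47047) (tt N9009 (iv D23589)) (tt N11785 F47049) (tt N17176 (iv F57725)) (tt N11784 F47048) (tt N16245 (iv F54787)))
theorem Q13344 : ∀ i, i < 13344 → P i := stepQ 13343 Q13343 (allL N13343 (tt N16246 (iv F54790)) (tt N9050 F47050) (tt N16245 (iv F54788)) (tt N9010 F47051) (tt N17159 (iv F57681)) (tt N16545 (iv F55795)) (tt N9009 (iv D23590)))
theorem Q13345 : ∀ i, i < 13345 → P i := stepQ 13344 Q13344 (allL N13344 (tt N9020 F47052) (tt N9135 F47053) (tt N10864 F47054) (tt N17107 (iv F57543)) (tt N9013 (iv D23591)) (tt N10866 F47055) (tt N10229 F47056))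
theorem Q13346 : ∀ i, i < 13346 → P i := stepQ 13345 Q13345 (allL N13345 (tt N10866 F47057) (tt N14634 (iv F50598)) (tt N10865 F47058) (tt N17113 (iv F57564)) (tt N9021 F47059) (tt N9020 (iv D23592)) (tt N14599 (iv F50536)))
theorem Q13347 : ∀ i, i < 13347 → P i := stepQ 13346 Q13346 (allL N13346 (tt N13347 (iv F47063)) (tt N9026 F47060) (tt N9022 (iv D23593)) (tt N10536 (iv F47061)) (tt N17117 (iv F57573)) (tt N16522 (iv F55712)) (tt N10484 (iv F47062)))
theorem Q13348 : ∀ i, i < 13348 → P i := stepQ 13347 Q13347 (allL N13347 (tt N13346 F47063) (tt N10482 (iv F47067)) (tt N10484 F47064) (tt N12211 F47065) (tt N17118 (iv F57577)) (tt N12206 F47066) (tt N9022 (iv D23594)))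
theorem Q13349 : ∀ i, i < 13349 → P i := stepQ 13348 Q13348 (allL N13348 (tt N16655 (iv F56167)) (tt N9023 (iv D23595)) (tt N10483 F47070) (tt N10511 F47071) (tt N17119 (iv F57581)) (tt N10507 F47072) (tt N10482 F47073))
theorem Q13350 : ∀ i, i < 13350 → P i := stepQ 13349 Q13349 (allL N13349 (tt N16574 (iv F55880)) (tt N9024 (iv D23596)) (tt N15613 (iv F53170)) (tt N12298 F47074) (tt N15621 (iv F53196)) (tt N15615 (iv F53181)) (tt N12296 F47075))
theorem Q13351 : ∀ i, i < 13351 → P i := stepQ 13350 Q13350 (allL N13350 (tt N13620 (iv F47911)) (tt N17416 D27736) (tt N9141 F47076) (tt N17121 (iv F57586)) (tt N9030 F47077) (tt N9029 (iv D23597)) (tt N17417 D27737))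
theorem Q13352 : ∀ i, i < 13352 → P i := stepQ 13351 Q13351 (allL N13351 (tt N12154 F47078) (tt N9030 (iv D23598)) (tt N14086 (iv F49239)) (tt N9031 F47079) (tt N17416 (iv F58391)) (tt N9035 F47080) (tt N14085 (iv F49236)))
theorem Q13353 : ∀ i, i < 13353 → P i := stepQ 13352 Q13352 (allL N13352 (tt N9692 F47081) (tt N14828 (iv F51235)) (tt N9143 F47082) (tt N9032 F47083) (tt N17417 (iv F58395)) (tt N9409 F47084) (tt N9030 (iv D23599)))
theorem Q13354 : ∀ i, i < 13354 → P i := stepQ 13353 Q13353 (allL N13353 (tt N9031 (iv D23600)) (tt N12152 F47085) (tt N13470 (iv F47393)) (tt N12154 F47086) (tt N17125 (iv F57596)) (tt N9036 F47087) (tt N13365 (iv F47116)))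
theorem Q13355 : ∀ i, i < 13355 → P i := stepQ 13354 Q13354 (allL N13354 (tt N13470 (iv F47396)) (tt N16522 (iv F55711)) (tt N9031 (iv D23601)) (tt N14097 (iv F49271)) (tt N17126 (iv F57598)) (tt N9037 F47088) (tt N13357 (iv F47091)))
theorem Q13356 : ∀ i, i < 13356 → P i := stepQ 13355 Q13355 (allL N13355 (tt N13365 (iv F47113)) (tt N14827 (iv F51231)) (tt N13357 F47092) (tt N14085 (iv F49234)) (tt N17127 (iv F57600)) (tt N13363 (iv F47108)) (tt N9031 (iv D23602)))
theorem Q13357 : ∀ i, i < 13357 → P i := stepQ 13356 Q13356 (allL N13356 (tt N16871 (iv F56883)) (tt N9032 (iv D23603)) (tt N14827 (iv F51232)) (tt N14828 (iv F51237)) (tt N17128 (iv F57601)) (tt N14826 (iv F51230)) (tt N14827 (iv F51234)))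
theorem Q13358 : ∀ i, i < 13358 → P i := stepQ 13357 Q13357 (allL N13357 (tt N17418 D27738) (tt N9033 (iv D23604)) (tt N13355 (iv F47092)) (tt N9841 F47089) (tt N17129 (iv F57602)) (tt N9838 F47090) (tt N13354 F47091))
theorem Q13359 : ∀ i, i < 13359 → P i := stepQ 13358 Q13358 (allL N13358 (tt N17419 D27739) (tt N9034 (iv D23605)) (tt N17420 D27740) (tt N17130 (iv F57606)) (tt N9035 F47093) (tt N17416 (iv F58392)) (tt N17421 D27741))
theorem Q13360 : ∀ i, i < 13360 → P i := stepQ 13359 Q13359 (allL N13359 (tt N9035 (iv D23606)) (tt N14831 (iv F51247)) (tt N14087 (iv F49243)) (tt N9036 F47094) (tt N17419 (iv F58401)) (tt N12154 F47095) (tt N10509 (iv F47096)))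
theorem Q13361 : ∀ i, i < 13361 → P i := stepQ 13360 Q13360 (allL N13360 (tt N14087 (iv F49242)) (tt N9046 F47097) (tt N9035 (iv D23607)) (tt N9051 (iv F47098)) (tt N17420 (iv F58405)) (tt N14086 (iv F49241)) (tt N9047 (iv F47099)))
theorem Q13362 : ∀ i, i < 13362 → P i := stepQ 13361 Q13361 (allL N13361 (tt N10509 F47100) (tt N13271 F47101) (tt N9047 F47102) (tt N9038 F47103) (tt N17421 (iv F58410)) (tt N9830 F47104) (tt N9035 (iv D23608)))
theorem Q13363 : ∀ i, i < 13363 → P i := stepQ 13362 Q13362 (allL N13362 (tt N16366 (iv F55190)) (tt N9036 (iv D23609)) (tt N16375 (iv F55222)) (tt N14831 (iv F51249)) (tt N17134 (iv F57611)) (tt N16364 (iv F55187)) (tt N13385 (iv F47161)))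
theorem Q13364 : ∀ i, i < 13364 → P i := stepQ 13363 Q13363 (allL N13363 (tt N9038 F47105) (tt N10505 F47109) (tt N9838 F47106) (tt N10509 F47107) (tt N17135 (iv F57614)) (tt N13355 F47108) (tt N9036 (iv D23610)))
theorem Q13365 : ∀ i, i < 13365 → P i := stepQ 13364 Q13364 (allL N13364 (tt N9838 F47110) (tt N14105 (iv F49299)) (tt N9038 F47111) (tt N9839 F47112) (tt N17137 (iv F57620)) (tt N17418 (iv F58399)) (tt N9037 (iv D23611)))
theorem Q13366 : ∀ i, i < 13366 → P i := stepQ 13365 Q13365 (allL N13365 (tt N13355 F47113) (tt N9832 F47114) (tt N17418 (iv F58397)) (tt N9830 F47115) (tt N17138 (iv F57623)) (tt N9038 (iv D23612)) (tt N13353 F47116))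
theorem Q13367 : ∀ i, i < 13367 → P i := stepQ 13366 Q13366 (allL N13366 (tt N15544 (iv F52999)) (tt N16136 (iv F54476)) (tt N15543 F52998) (tt N17141 (iv F57628)) (tt N9041 (iv D23613)) (tt N14526 F50370) (tt N16044 (iv F54268)))
theorem Q13368 : ∀ i, i < 13368 → P i := stepQ 13367 Q13367 (allL N13367 (tt N9138 (iv F47118)) (tt N9042 (iv D23614)) (tt N10686 F47117) (tt N14107 (iv F49309)) (tt N17143 (iv F57631)) (tt N14022 (iv F49054)) (tt N14105 F49302))
theorem Q13369 : ∀ i, i < 13369 → P i := stepQ 13368 Q13368 (allL N13368 (tt N9043 (iv D23615)) (tt N14529 (iv F50377)) (tt N13455 (iv F47353)) (tt N17144 (iv F57633)) (tt N9045 F47119) (tt N9147 F47120) (tt N13455 (iv F47355)))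
theorem Q13370 : ∀ i, i < 13370 → P i := stepQ 13369 Q13369 (allL N13369 (tt N13455 (iv F47352)) (tt N17420 (iv F58404)) (tt N9043 (iv D23616)) (tt N17146 (iv F57638)) (tt N9046 F47121) (tt N9148 F47122) (tt N9043 (iv F47123)))
theorem Q13371 : ∀ i, i < 13371 → P i := stepQ 13370 Q13370 (allL N13370 (tt N17422 D27742) (tt N9044 (iv D23617)) (tt N17421 (iv F58409)) (tt N17147 (iv F57641)) (tt N9047 F47124) (tt N9600 F47125) (tt N17420 F58406))
theorem Q13372 : ∀ i, i < 13372 → P i := stepQ 13371 Q13371 (allL N13371 (tt N9047 (iv D23618)) (tt N12138 F47126) (tt N10509 F47127) (tt N9052 F47128) (tt N17422 (iv F58414)) (tt N9829 F47129) (tt N14087 (iv F49245)))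
theorem Q13373 : ∀ i, i < 13373 → P i := stepQ 13372 Q13372 (allL N13372 (tt N9048 (iv D23619)) (tt N16366 (iv F55191)) (tt N10476 F47130) (tt N10437 F47131) (tt N17154 (iv F57665)) (tt N10475 F47132) (tt N10426 (iv F47133)))
theorem Q13374 : ∀ i, i < 13374 → P i := stepQ 13373 Q13373 (allL N13373 (tt N10426 F47134) (tt N13469 (iv F47392)) (tt N10477 F47135) (tt N10434 F47136) (tt N17155 (iv F57670)) (tt N10425 F47137) (tt N9048 (iv D23620)))
theorem Q13375 : ∀ i, i < 13375 → P i := stepQ 13374 Q13374 (allL N13374 (tt N9051 (iv D23621)) (tt N14823 (iv F51218)) (tt N17423 D27743) (tt N14087 (iv F49244)) (tt N17160 (iv F57683)) (tt N13380 (iv F47150)) (tt N9052 F47138))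
theorem Q13376 : ∀ i, i < 13376 → P i := stepQ 13375 Q13375 (allL N13375 (tt N17423 (iv F58416)) (tt N16245 F54789) (tt N9051 (iv D23622)) (tt N12319 F47140) (tt N17161 (iv F57685)) (tt N17424 D27744) (tt N9053 F47139))
theorem Q13377 : ∀ i, i < 13377 → P i := stepQ 13376 Q13376 (allL N13376 (tt N13380 (iv F47148)) (tt N13463 (iv F47377)) (tt N17424 (iv F58423)) (tt N14086 (iv F49240)) (tt N17162 (iv F57687)) (tt N9051 (iv D23623)) (tt N13379 (iv F47147)))
theorem Q13378 : ∀ i, i < 13378 → P i := stepQ 13377 Q13377 (allL N13377 (tt N12141 F47141) (tt N9052 (iv D23624)) (tt N17425 D27745) (tt N12138 F47142) (tt N17163 (iv F57689)) (tt N12137 (iv F47143)) (tt N16478 (iv F55580)))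
theorem Q13379 : ∀ i, i < 13379 → P i := stepQ 13378 Q13378 (allL N13378 (tt N9053 F47144) (tt N16566 F55852) (tt N9052 (iv D23625)) (tt N14095 (iv F49264)) (tt N17164 (iv F57692)) (tt N17412 (iv F58377)) (tt N17423 (iv F58420)))
theorem Q13380 : ∀ i, i < 13380 → P i := stepQ 13379 Q13379 (allL N13379 (tt N9054 F47145) (tt N16430 (iv F55397)) (tt N17412 (iv F58376)) (tt N9829 F47146) (tt N17165 (iv F57694)) (tt N9052 (iv D23626)) (tt N13376 F47147))
theorem Q13381 : ∀ i, i < 13381 → P i := stepQ 13380 Q13380 (allL N13380 (tt N13376 F47148) (tt N13960 (iv F48891)) (tt N17413 (iv F58379)) (tt N9831 F47149) (tt N17167 (iv F57698)) (tt N13374 F47150) (tt N9054 (iv D23627)))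
theorem Q13382 : ∀ i, i < 13382 → P i := stepQ 13381 Q13381 (allL N13381 (tt N9056 F47151) (tt N14849 (iv F51315)) (tt N9055 (iv D23628)) (tt N14869 (iv F51379)) (tt N17168 (iv F57701)) (tt N14867 F51375) (tt N12411 F47152))
theorem Q13383 : ∀ i, i < 13383 → P i := stepQ 13382 Q13382 (allL N13382 (tt N14869 (iv F51377)) (tt N9106 F47153) (tt N14865 (iv F51364)) (tt N9056 (iv D23629)) (tt N17227 (iv F57852)) (tt N14863 F51359) (tt N17426 D27746))
theorem Q13384 : ∀ i, i < 13384 → P i := stepQ 13383 Q13383 (allL N13383 (tt N14867 (iv F51371)) (tt N16381 (iv F55235)) (tt N9057 F47154) (tt N14863 (iv F51358)) (tt N17171 (iv F57707)) (tt N9056 (iv D23630)) (tt N12312 F47155))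
theorem Q13385 : ∀ i, i < 13385 → P i := stepQ 13384 Q13384 (allL N13384 (tt N12411 F47156) (tt N17427 D27747) (tt N9058 F47157) (tt N17426 (iv F58434)) (tt N17172 (iv F57711)) (tt N13263 (iv F47158)) (tt N9056 (iv D23631)))
theorem Q13386 : ∀ i, i < 13386 → P i := stepQ 13385 Q13385 (allL N13385 (tt N17428 D27748) (tt N9068 (iv D23632)) (tt N16381 (iv F55236)) (tt N10517 F47159) (tt N17181 (iv F57735)) (tt N12317 F47160) (tt N13362 F47161))
theorem Q13387 : ∀ i, i < 13387 → P i := stepQ 13386 Q13386 (allL N13386 (tt N9172 F47162) (tt N9070 (iv D23633)) (tt N9118 F47163) (tt N16507 (iv F55669)) (tt N17182 (iv F57740)) (tt N16373 (iv F55218)) (tt N17429 D27749))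
theorem Q13388 : ∀ i, i < 13388 → P i := stepQ 13387 Q13387 (allL N13387 (tt N12294 (iv F47168)) (tt N9075 (iv D23634)) (tt N12176 F47164) (tt N11897 F47165) (tt N11310 F47166) (tt N16466 (iv F55544)) (tt N11305 F47167))
theorem Q13389 : ∀ i, i < 13389 → P i := stepQ 13388 Q13388 (allL N13388 (tt N15002 (iv F51825)) (tt N16197 (iv F54632)) (tt N9078 F47169) (tt N11851 F47170) (tt N10812 F47171) (tt N11847 F47172) (tt N9076 (iv D23635)))
theorem Q13390 : ∀ i, i < 13390 → P i := stepQ 13389 Q13389 (allL N13389 (tt N13390 (iv F47177)) (tt N13605 (iv F47865)) (tt N10811 F47173) (tt N9079 F47174) (tt N10810 F47175) (tt N11730 F47176) (tt N9077 (iv D23636)))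
theorem Q13391 : ∀ i, i < 13391 → P i := stepQ 13390 Q13390 (allL N13390 (tt N13389 F47177) (tt N17430 D27750) (tt N11847 F47178) (tt N9080 F47179) (tt N11731 F47180) (tt N9078 (iv D23637)) (tt N11729 F47181))
theorem Q13392 : ∀ i, i < 13392 → P i := stepQ 13391 Q13391 (allL N13391 (tt N16000 F54167) (tt N9079 (iv D23638)) (tt N17431 D27751) (tt N13605 F47868) (tt N16001 (iv F54169)) (tt N17432 D27752) (tt N13391 F47182))
theorem Q13393 : ∀ i, i < 13393 → P i := stepQ 13392 Q13392 (allL N13392 (tt N17433 D27753) (tt N9080 (iv D23639)) (tt N17434 D27754) (tt N17430 (iv F58451)) (tt N17186 (iv F57746)) (tt N12609 F47183) (tt N17435 D27755))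
theorem Q13394 : ∀ i, i < 13394 → P i := stepQ 13393 Q13393 (allL N13393 (tt N9084 (iv D23640)) (tt N14059 F49165) (tt N12448 F54853) (tt N11814 F47184) (tt N17191 (iv F57761)) (tt N16275 (iv F54889)) (tt N11818 F47185))
theorem Q13395 : ∀ i, i < 13395 → P i := stepQ 13394 Q13394 (allL N13394 (tt N12448 F54855) (tt N17431 (iv F58457)) (tt N9084 (iv D23641)) (tt N12447 F54854) (tt N13635 (iv F54856)) (tt N17395 F58313) (tt N11819 F47186))
theorem Q13396 : ∀ i, i < 13396 → P i := stepQ 13395 Q13395 (allL N13395 (tt N16275 (iv F54886)) (tt N12175 F47187) (tt N17395 (iv F58310)) (tt N11816 F47188) (tt N17192 (iv F57764)) (tt N9084 (iv D23642)) (tt N16272 (iv F54877)))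
theorem Q13397 : ∀ i, i < 13397 → P i := stepQ 13396 Q13396 (allL N13396 (tt N10770 F47189) (tt N17434 (iv F58466)) (tt N9085 (iv D23643)) (tt N9739 F47191) (tt N16307 (iv F55009)) (tt N9738 F47190) (tt N14000 (iv F49000)))
theorem Q13398 : ∀ i, i < 13398 → P i := stepQ 13397 Q13397 (allL N13397 (tt N13399 (iv F47201)) (tt N9614 (iv F47195)) (tt N13722 (iv F48266)) (tt N9087 F47192) (tt N9088 F47193) (tt N9371 F47194) (tt N9086 (iv D23644)))
theorem Q13399 : ∀ i, i < 13399 → P i := stepQ 13398 Q13398 (allL N13398 (tt N9549 F47200) (tt N9087 (iv D23645)) (tt N14584 (iv F50495)) (tt N9614 F47196) (tt N9089 F47197) (tt N9582 (iv F47199)) (tt N9092 F47198))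
theorem Q13400 : ∀ i, i < 13400 → P i := stepQ 13399 Q13399 (allL N13399 (tt N13397 F47201) (tt N13628 (iv F47936)) (tt N17399 (iv F58326)) (tt N9371 F47202) (tt N9090 F47203) (tt N9087 (iv D23646)) (tt N9368 F47204))
theorem Q13401 : ∀ i, i < 13401 → P i := stepQ 13400 Q13400 (allL N13400 (tt N9613 (iv F47208)) (tt N9091 (iv D23647)) (tt N15295 (iv F52487)) (tt N9092 F47205) (tt N9852 F47206) (tt N13776 (iv F48418)) (tt N9614 F47207))
theorem Q13402 : ∀ i, i < 13402 → P i := stepQ 13401 Q13401 (allL N13401 (tt N13113 F47209) (tt N14573 (iv F50477)) (tt N17436 D27756) (tt N9094 (iv D23648)) (tt N13117 F47210) (tt N13111 F47211) (tt N17057 (iv F57407)))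
theorem Q13403 : ∀ i, i < 13403 → P i := stepQ 13402 Q13402 (allL N13402 (tt N16032 (iv F54232)) (tt N9095 (iv D23649)) (tt N10179 F47212) (tt N17196 (iv F57773)) (tt N9097 F47213) (tt N9096 F47214) (tt N17437 D27757))
theorem Q13404 : ∀ i, i < 13404 → P i := stepQ 13403 Q13403 (allL N13403 (tt N13310 F47215) (tt N14560 F50457) (tt N13309 F47216) (tt N17197 (iv F57777)) (tt N9098 F47217) (tt N13309 F47218) (tt N9095 (iv D23650)))
theorem Q13405 : ∀ i, i < 13405 → P i := stepQ 13404 Q13404 (allL N13404 (tt N16044 (iv F54265)) (tt N10254 F47219) (tt N9096 (iv D23651)) (tt N17438 D27758) (tt N9099 F47220) (tt N10179 F47221) (tt N15544 (iv F53002)))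
theorem Q13406 : ∀ i, i < 13406 → P i := stepQ 13405 Q13405 (allL N13405 (tt N11824 F47222) (tt N12219 F47223) (tt N10428 F47224) (tt N9108 F47225) (tt N17437 (iv F58480)) (tt N11822 F47226) (tt N9097 (iv D23652)))
theorem Q13407 : ∀ i, i < 13407 → P i := stepQ 13406 Q13406 (allL N13406 (tt N9103 F47227) (tt N11934 F47228) (tt N9100 (iv D23653)) (tt N9101 F47229) (tt N17439 D27759) (tt N9100 (iv F47231)) (tt N13317 F47230))
theorem Q13408 : ∀ i, i < 13408 → P i := stepQ 13407 Q13407 (allL N13407 (tt N9104 F47232) (tt N11939 F47233) (tt N17439 (iv F58486)) (tt N17214 (iv F57822)) (tt N9100 (iv D23654)) (tt N17439 (iv F58487)) (tt N17173 (iv F57714)))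
theorem Q13409 : ∀ i, i < 13409 → P i := stepQ 13408 Q13408 (allL N13408 (tt N17440 D27760) (tt N9101 (iv D23655)) (tt N16478 (iv F55578)) (tt N11934 F47234) (tt N17216 (iv F57827)) (tt N12203 F47235) (tt N17425 (iv F58430)))
theorem Q13410 : ∀ i, i < 13410 → P i := stepQ 13409 Q13409 (allL N13409 (tt N9102 (iv D23656)) (tt N13255 (iv F47238)) (tt N14188 (iv F49556)) (tt N9806 F47236) (tt N17217 (iv F57830)) (tt N9805 F47237) (tt N14811 (iv F51180)))
theorem Q13411 : ∀ i, i < 13411 → P i := stepQ 13410 Q13410 (allL N13410 (tt N14188 (iv F49554)) (tt N16478 (iv F55577)) (tt N9102 (iv D23657)) (tt N14185 (iv F49544)) (tt N17218 (iv F57832)) (tt N10482 F47239) (tt N14823 (iv F51221)))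
theorem Q13412 : ∀ i, i < 13412 → P i := stepQ 13411 Q13411 (allL N13411 (tt N14811 (iv F51176)) (tt N13321 F47240) (tt N14823 (iv F51219)) (tt N10486 F47241) (tt N17219 (iv F57835)) (tt N14059 (iv F49164)) (tt N9102 (iv D23658)))
theorem Q13413 : ∀ i, i < 13413 → P i := stepQ 13412 Q13412 (allL N13412 (tt N13485 F47436) (tt N9103 (iv D23659)) (tt N9116 F47242) (tt N9105 F47243) (tt N17441 D27761) (tt N9113 F47244) (tt N17427 (iv F58440)))
theorem Q13414 : ∀ i, i < 13414 → P i := stepQ 13413 Q13413 (allL N13413 (tt N17439 (iv F58484)) (tt N17441 (iv F58495)) (tt N9104 F47245) (tt N17222 (iv F57840)) (tt N9103 (iv D23660)) (tt N9104 F47246) (tt N17169 F57705))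
theorem Q13415 : ∀ i, i < 13415 → P i := stepQ 13414 Q13414 (allL N13414 (tt N9105 (iv D23661)) (tt N13266 (iv F47248)) (tt N13473 (iv F47406)) (tt N13485 (iv F47434)) (tt N17225 (iv F57847)) (tt N9112 F47247) (tt N13423 (iv F47267)))
theorem Q13416 : ∀ i, i < 13416 → P i := stepQ 13415 Q13415 (allL N13415 (tt N13423 (iv F47266)) (tt N17426 (iv F58432)) (tt N13475 (iv F47410)) (tt N17427 (iv F58438)) (tt N17226 (iv F57850)) (tt N13421 (iv F47264)) (tt N9105 (iv D23662)))
theorem Q13417 : ∀ i, i < 13417 → P i := stepQ 13416 Q13416 (allL N13416 (tt N12218 (iv F47252)) (tt N9108 (iv D23663)) (tt N11507 (iv F47253)) (tt N12219 F47249) (tt N11506 F47250) (tt N17442 D27762) (tt N9109 F47251))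
theorem Q13418 : ∀ i, i < 13418 → P i := stepQ 13417 Q13417 (allL N13417 (tt N14072 (iv F49197)) (tt N13314 F47254) (tt N13574 F47740) (tt N14071 F49195) (tt N17228 (iv F57855)) (tt N9109 (iv D23664)) (tt N16529 (iv F55739)))
theorem Q13419 : ∀ i, i < 13419 → P i := stepQ 13418 Q13418 (allL N13418 (tt N13295 (iv F47257)) (tt N9110 (iv D23665)) (tt N13294 (iv F47258)) (tt N12263 F47255) (tt N17229 (iv F57856)) (tt N17400 (iv F58331)) (tt N12258 F47256))
theorem Q13420 : ∀ i, i < 13420 → P i := stepQ 13419 Q13419 (allL N13419 (tt N14033 (iv F49090)) (tt N9111 (iv D23666)) (tt N14935 (iv F51606)) (tt N10374 F47259) (tt N17230 (iv F57860)) (tt N10373 F47260) (tt N14744 (iv F50931)))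
theorem Q13421 : ∀ i, i < 13421 → P i := stepQ 13420 Q13420 (allL N13420 (tt N9113 F47261) (tt N11940 F47262) (tt N14874 (iv F51394)) (tt N9112 (iv D23667)) (tt N17443 D27763) (tt N13485 (iv F47435)) (tt N14872 F51389))
theorem Q13422 : ∀ i, i < 13422 → P i := stepQ 13421 Q13421 (allL N13421 (tt N9114 F47263) (tt N14896 (iv F51472)) (tt N13466 (iv F47384)) (tt N14872 (iv F51388)) (tt N17231 (iv F57863)) (tt N13415 F47264) (tt N9112 (iv D23668)))
theorem Q13423 : ∀ i, i < 13423 → P i := stepQ 13422 Q13422 (allL N13422 (tt N17443 (iv F58504)) (tt N9115 F47265) (tt N16964 (iv F57139)) (tt N17232 (iv F57866)) (tt N9113 (iv D23669)) (tt N17441 (iv F58497)) (tt N16961 (iv F57131)))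
theorem Q13424 : ∀ i, i < 13424 → P i := stepQ 13423 Q13423 (allL N13423 (tt N13415 F47266) (tt N17393 (iv F58303)) (tt N13467 (iv F47386)) (tt N17397 (iv F58320)) (tt N17234 (iv F57870)) (tt N9114 (iv D23670)) (tt N13414 F47267))
theorem Q13425 : ∀ i, i < 13425 → P i := stepQ 13424 Q13424 (allL N13424 (tt N9116 (iv D23671)) (tt N11507 (iv F47270)) (tt N13485 (iv F47433)) (tt N12126 F47268) (tt N11478 (iv F47271)) (tt N14874 (iv F51396)) (tt N13280 (iv F47269)))
theorem Q13426 : ∀ i, i < 13426 → P i := stepQ 13425 Q13425 (allL N13425 (tt N11478 F47272) (tt N9117 F47273) (tt N17441 (iv F58496)) (tt N11476 F47274) (tt N9116 (iv D23672)) (tt N16964 (iv F57142)) (tt N17444 D27764))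
theorem Q13427 : ∀ i, i < 13427 → P i := stepQ 13426 Q13426 (allL N13426 (tt N13280 F47275) (tt N9127 F47276) (tt N17427 (iv F58437)) (tt N10587 F47277) (tt N17444 (iv F58511)) (tt N10586 F47278) (tt N9116 (iv D23673)))
theorem Q13428 : ∀ i, i < 13428 → P i := stepQ 13427 Q13427 (allL N13427 (tt N16388 (iv F55262)) (tt N9119 F47279) (tt N11431 (iv F47280)) (tt N9118 (iv D23674)) (tt N11433 F47281) (tt N17445 D27765) (tt N16384 F55249))
theorem Q13429 : ∀ i, i < 13429 → P i := stepQ 13428 Q13428 (allL N13428 (tt N17415 (iv F58386)) (tt N16484 F55594) (tt N16373 F55217) (tt N17445 (iv F58515)) (tt N17239 (iv F57877)) (tt N9118 (iv D23675)) (tt N16516 (iv F55694)))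
theorem Q13430 : ∀ i, i < 13430 → P i := stepQ 13429 Q13429 (allL N13429 (tt N16385 (iv F55252)) (tt N16505 (iv F55656)) (tt N17429 (iv F58448)) (tt N16384 (iv F55250)) (tt N17240 (iv F57878)) (tt N17392 (iv F58302)) (tt N9118 (iv D23676)))
theorem Q13431 : ∀ i, i < 13431 → P i := stepQ 13430 Q13430 (allL N13430 (tt N9122 F47282) (tt N11433 F47283) (tt N11430 F47284) (tt N17242 (iv F57883)) (tt N9119 (iv D23677)) (tt N16734 (iv F56435)) (tt N16960 (iv F57128)))
theorem Q13432 : ∀ i, i < 13432 → P i := stepQ 13431 Q13431 (allL N13431 (tt N12147 F47285) (tt N9120 (iv D23678)) (tt N12152 (iv F47286)) (tt N16744 (iv F56467)) (tt N17245 (iv F57888)) (tt N16484 (iv F55593)) (tt N12144 (iv F47287)))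
theorem Q13433 : ∀ i, i < 13433 → P i := stepQ 13432 Q13432 (allL N13432 (tt N16508 (iv F55671)) (tt N9121 (iv D23679)) (tt N17446 D27766) (tt N17396 (iv F58316)) (tt N17246 (iv F57893)) (tt N17447 D27767) (tt N16505 F55661))
theorem Q13434 : ∀ i, i < 13434 → P i := stepQ 13433 Q13433 (allL N13433 (tt N17448 D27768) (tt N9123 (iv D23680)) (tt N17449 D27769) (tt N15219 F52308) (tt N17253 (iv F57903)) (tt N17450 D27770) (tt N13433 F47288))
theorem Q13435 : ∀ i, i < 13435 → P i := stepQ 13434 Q13434 (allL N13434 (tt N13464 (iv F47402)) (tt N9124 (iv D23681)) (tt N13476 (iv F47412)) (tt N13466 (iv F47403)) (tt N15633 (iv F53238)) (tt N17393 (iv F58306)) (tt N13472 F47401))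
theorem Q13436 : ∀ i, i < 13436 → P i := stepQ 13435 Q13435 (allL N13435 (tt N17451 D27771) (tt N9125 (iv D23682)) (tt N15846 (iv F53755)) (tt N13508 (iv F47519)) (tt N15851 (iv F53776)) (tt N16751 (iv F56490)) (tt N17452 D27772))
theorem Q13437 : ∀ i, i < 13437 → P i := stepQ 13436 Q13436 (allL N13436 (tt N9126 F47289) (tt N15851 (iv F53775)) (tt N13097 F47290) (tt N14165 (iv F49470)) (tt N9125 (iv D23683)) (tt N14990 F51790) (tt N17453 D27773))
theorem Q13438 : ∀ i, i < 13438 → P i := stepQ 13437 Q13437 (allL N13437 (tt N9127 F47291) (tt N17454 D27774) (tt N12587 F47292) (tt N12463 F47293) (tt N17453 (iv F58541)) (tt N10795 F47294) (tt N9125 (iv D23684)))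
theorem Q13439 : ∀ i, i < 13439 → P i := stepQ 13438 Q13438 (allL N13438 (tt N17453 (iv F58539)) (tt N17444 (iv F58509)) (tt N13098 F47295) (tt N14171 (iv F49491)) (tt N9127 F47296) (tt N10796 (iv F47297)) (tt N9126 (iv D23685)))
theorem Q13440 : ∀ i, i < 13440 → P i := stepQ 13439 Q13439 (allL N13439 (tt N12235 F47302) (tt N9128 (iv D23686)) (tt N11978 F47298) (tt N12106 F47299) (tt N11469 F47300) (tt N11464 F47301) (tt N16319 (iv F55051)))
theorem Q13441 : ∀ i, i < 13441 → P i := stepQ 13440 Q13440 (allL N13440 (tt N15015 (iv F51867)) (tt N16202 (iv F54648)) (tt N9131 F47303) (tt N12063 F47304) (tt N10834 F47305) (tt N9130 (iv D23687)) (tt N12060 F47306))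
theorem Q13442 : ∀ i, i < 13442 → P i := stepQ 13441 Q13441 (allL N13441 (tt N13442 (iv F47311)) (tt N17455 D27775) (tt N12060 F47307) (tt N9133 F47308) (tt N11774 F47309) (tt N11773 F47310) (tt N9131 (iv D23688)))
theorem Q13443 : ∀ i, i < 13443 → P i := stepQ 13442 Q13442 (allL N13442 (tt N13441 F47311) (tt N13606 (iv F47870)) (tt N10832 F47312) (tt N9134 F47313) (tt N10831 F47314) (tt N9132 (iv D23689)) (tt N11772 F47315))
theorem Q13444 : ∀ i, i < 13444 → P i := stepQ 13443 Q13443 (allL N13443 (tt N17456 D27776) (tt N9133 (iv D23690)) (tt N17457 D27777) (tt N17455 (iv F58545)) (tt N17262 (iv F57922)) (tt N17458 D27778) (tt N12615 F47316))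
theorem Q13445 : ∀ i, i < 13445 → P i := stepQ 13444 Q13444 (allL N13444 (tt N16076 F54343) (tt N9134 (iv D23691)) (tt N17459 D27779) (tt N13606 F47873) (tt N16077 (iv F54345)) (tt N13444 F47317) (tt N17460 D27780))
theorem Q13446 : ∀ i, i < 13446 → P i := stepQ 13445 Q13445 (allL N13445 (tt N10686 F47318) (tt N17457 (iv F58554)) (tt N9138 (iv D23692)) (tt N9759 F47320) (tt N16456 (iv F55501)) (tt N14019 (iv F49042)) (tt N9758 F47319))
theorem Q13447 : ∀ i, i < 13447 → P i := stepQ 13446 Q13446 (allL N13446 (tt N9139 (iv D23693)) (tt N14112 F49323) (tt N12484 F47323) (tt N12031 F47321) (tt N17267 (iv F57937)) (tt N12033 F47322) (tt N16430 (iv F55399)))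
theorem Q13448 : ∀ i, i < 13448 → P i := stepQ 13447 Q13447 (allL N13447 (tt N12484 F47324) (tt N17459 (iv F58565)) (tt N9139 (iv D23694)) (tt N12483 (iv F47326)) (tt N13644 (iv F47980)) (tt N12034 F47325) (tt N17391 F58299))
theorem Q13449 : ∀ i, i < 13449 → P i := stepQ 13448 Q13448 (allL N13448 (tt N16430 (iv F55396)) (tt N11977 F47327) (tt N17391 (iv F58296)) (tt N11975 F47328) (tt N17268 (iv F57940)) (tt N16427 (iv F55386)) (tt N9139 (iv D23695)))
theorem Q13450 : ∀ i, i < 13450 → P i := stepQ 13449 Q13449 (allL N13449 (tt N13451 (iv F47338)) (tt N9576 (iv F47332)) (tt N13747 (iv F48333)) (tt N9141 F47329) (tt N9144 F47330) (tt N9140 (iv D23696)) (tt N9373 F47331))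
theorem Q13451 : ∀ i, i < 13451 → P i := stepQ 13450 Q13450 (allL N13450 (tt N9536 (iv F47337)) (tt N9141 (iv D23697)) (tt N14633 (iv F50595)) (tt N9576 F47333) (tt N9142 F47334) (tt N9146 F47335) (tt N9619 F47336))
theorem Q13452 : ∀ i, i < 13452 → P i := stepQ 13451 Q13451 (allL N13451 (tt N13449 F47338) (tt N13624 (iv F47924)) (tt N17417 (iv F58394)) (tt N9373 F47339) (tt N9143 F47340) (tt N9369 F47341) (tt N9141 (iv D23698)))
theorem Q13453 : ∀ i, i < 13453 → P i := stepQ 13452 Q13452 (allL N13452 (tt N9575 (iv F47345)) (tt N9145 (iv D23699)) (tt N15242 (iv F52353)) (tt N9146 F47342) (tt N9799 F47343) (tt N9576 F47344) (tt N13784 (iv F48447)))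
theorem Q13454 : ∀ i, i < 13454 → P i := stepQ 13453 Q13453 (allL N13453 (tt N13172 F47346) (tt N14625 (iv F50582)) (tt N17461 D27781) (tt N9148 (iv D23700)) (tt N13176 F47347) (tt N17146 (iv F57640)) (tt N13170 F47348))
theorem Q13455 : ∀ i, i < 13455 → P i := stepQ 13454 Q13454 (allL N13454 (tt N16109 (iv F54412)) (tt N9149 (iv D23701)) (tt N10146 F47349) (tt N17272 (iv F57949)) (tt N9151 F47350) (tt N17462 D27782) (tt N9150 F47351))
theorem Q13456 : ∀ i, i < 13456 → P i := stepQ 13455 Q13455 (allL N13455 (tt N13369 F47352) (tt N14614 F50565) (tt N13368 F47353) (tt N17273 (iv F57953)) (tt N9152 F47354) (tt N9149 (iv D23702)) (tt N13368 F47355))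
theorem Q13457 : ∀ i, i < 13457 → P i := stepQ 13456 Q13456 (allL N13456 (tt N16120 (iv F54443)) (tt N10220 F47356) (tt N9150 (iv D23703)) (tt N17463 D27783) (tt N9153 F47357) (tt N15793 (iv F53628)) (tt N10146 F47358))
theorem Q13458 : ∀ i, i < 13458 → P i := stepQ 13457 Q13457 (allL N13457 (tt N12046 F47359) (tt N12278 F47360) (tt N10394 F47361) (tt N9162 F47362) (tt N17462 (iv F58576)) (tt N9151 (iv D23704)) (tt N12044 F47363))
theorem Q13459 : ∀ i, i < 13459 → P i := stepQ 13458 Q13458 (allL N13458 (tt N9157 F47364) (tt N12139 F47365) (tt N9154 (iv D23705)) (tt N9155 F47366) (tt N17464 D27784) (tt N13333 F47367) (tt N9154 (iv F47368)))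
theorem Q13460 : ∀ i, i < 13460 → P i := stepQ 13459 Q13459 (allL N13459 (tt N9158 F47369) (tt N12016 F47370) (tt N17464 (iv F58582)) (tt N17290 (iv F57998)) (tt N9154 (iv D23706)) (tt N17088 (iv F57487)) (tt N17464 (iv F58584)))
theorem Q13461 : ∀ i, i < 13461 → P i := stepQ 13460 Q13460 (allL N13460 (tt N17465 D27785) (tt N9155 (iv D23707)) (tt N16336 (iv F55105)) (tt N12139 F47371) (tt N17292 (iv F58003)) (tt N17407 (iv F58355)) (tt N12020 F47372))
theorem Q13462 : ∀ i, i < 13462 → P i := stepQ 13461 Q13461 (allL N13461 (tt N9156 (iv D23708)) (tt N13256 (iv F47375)) (tt N14167 (iv F49478)) (tt N9860 F47373) (tt N17293 (iv F58006)) (tt N14791 (iv F51107)) (tt N9858 F47374))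
theorem Q13463 : ∀ i, i < 13463 → P i := stepQ 13462 Q13462 (allL N13462 (tt N14167 (iv F49476)) (tt N16336 (iv F55104)) (tt N9156 (iv D23709)) (tt N14164 (iv F49466)) (tt N17294 (iv F58008)) (tt N14790 (iv F51102)) (tt N10530 F47376))
theorem Q13464 : ∀ i, i < 13464 → P i := stepQ 13463 Q13463 (allL N13463 (tt N14791 (iv F51104)) (tt N13376 F47377) (tt N14790 (iv F51103)) (tt N10533 F47378) (tt N17295 (iv F58011)) (tt N9156 (iv D23710)) (tt N14112 (iv F49322)))
theorem Q13465 : ∀ i, i < 13465 → P i := stepQ 13464 Q13464 (allL N13464 (tt N13434 F47402) (tt N9157 (iv D23711)) (tt N9170 F47379) (tt N9159 F47380) (tt N17466 D27786) (tt N17411 (iv F58373)) (tt N9167 F47381))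
theorem Q13466 : ∀ i, i < 13466 → P i := stepQ 13465 Q13465 (allL N13465 (tt N17464 (iv F58580)) (tt N17466 (iv F58591)) (tt N9158 F47382) (tt N17298 (iv F58016)) (tt N9157 (iv D23712)) (tt N17084 F57478) (tt N9158 F47383))
theorem Q13467 : ∀ i, i < 13467 → P i := stepQ 13466 Q13466 (allL N13466 (tt N9159 (iv D23713)) (tt N13279 (iv F47404)) (tt N13421 F47384) (tt N13434 F47403) (tt N17301 (iv F58024)) (tt N13475 (iv F47411)) (tt N9166 F47385))
theorem Q13468 : ∀ i, i < 13468 → P i := stepQ 13467 Q13467 (allL N13467 (tt N13475 (iv F47409)) (tt N17410 (iv F58367)) (tt N13423 F47386) (tt N17411 (iv F58372)) (tt N17302 (iv F58028)) (tt N9159 (iv D23714)) (tt N13473 (iv F47407)))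
theorem Q13469 : ∀ i, i < 13469 → P i := stepQ 13468 Q13468 (allL N13468 (tt N12277 (iv F47390)) (tt N9162 (iv D23715)) (tt N11348 (iv F47391)) (tt N12278 F47387) (tt N11347 F47388) (tt N9163 F47389) (tt N17467 D27787))
theorem Q13470 : ∀ i, i < 13470 → P i := stepQ 13469 Q13469 (allL N13469 (tt N14123 (iv F49358)) (tt N13373 F47392) (tt N13595 F47828) (tt N14122 F49357) (tt N17304 (iv F58033)) (tt N16564 (iv F55847)) (tt N9163 (iv D23716)))
theorem Q13471 : ∀ i, i < 13471 → P i := stepQ 13470 Q13470 (allL N13470 (tt N13354 F47396) (tt N9164 (iv D23717)) (tt N13353 F47393) (tt N12320 F47394) (tt N17305 (iv F58035)) (tt N12316 F47395) (tt N17418 (iv F58400)))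
theorem Q13472 : ∀ i, i < 13472 → P i := stepQ 13471 Q13471 (allL N13471 (tt N14090 (iv F49250)) (tt N9165 (iv D23718)) (tt N14983 (iv F51771)) (tt N10408 F47397) (tt N17306 (iv F58038)) (tt N14765 (iv F51008)) (tt N10407 F47398))
theorem Q13473 : ∀ i, i < 13473 → P i := stepQ 13472 Q13472 (allL N13472 (tt N9167 F47399) (tt N12144 F47400) (tt N14876 (iv F51401)) (tt N9166 (iv D23719)) (tt N17468 D27788) (tt N14866 F51370) (tt N13434 (iv F47401)))
theorem Q13474 : ∀ i, i < 13474 → P i := stepQ 13473 Q13473 (allL N13473 (tt N9168 F47405) (tt N14867 (iv F51372)) (tt N13414 F47406) (tt N14866 (iv F51368)) (tt N17307 (iv F58042)) (tt N9166 (iv D23720)) (tt N13467 F47407))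
theorem Q13475 : ∀ i, i < 13475 → P i := stepQ 13474 Q13474 (allL N13474 (tt N17468 (iv F58600)) (tt N9169 F47408) (tt N16949 (iv F57100)) (tt N17308 (iv F58045)) (tt N9167 (iv D23721)) (tt N16946 (iv F57092)) (tt N17466 (iv F58593)))
theorem Q13476 : ∀ i, i < 13476 → P i := stepQ 13475 Q13475 (allL N13475 (tt N13467 F47409) (tt N17397 (iv F58318)) (tt N13415 F47410) (tt N17393 (iv F58305)) (tt N17310 (iv F58050)) (tt N13466 F47411) (tt N9168 (iv D23722)))
theorem Q13477 : ∀ i, i < 13477 → P i := stepQ 13476 Q13476 (allL N13476 (tt N9170 (iv D23723)) (tt N11348 (iv F47415)) (tt N13434 F47412) (tt N11920 F47413) (tt N11319 (iv F47416)) (tt N13268 F47414) (tt N14876 (iv F51403)))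
theorem Q13478 : ∀ i, i < 13478 → P i := stepQ 13477 Q13477 (allL N13477 (tt N11319 F47417) (tt N9171 F47418) (tt N17466 (iv F58592)) (tt N11317 F47419) (tt N9170 (iv D23724)) (tt N17469 D27789) (tt N16949 (iv F57103)))
theorem Q13479 : ∀ i, i < 13479 → P i := stepQ 13478 Q13478 (allL N13478 (tt N13268 F47420) (tt N9181 F47421) (tt N17411 (iv F58371)) (tt N10636 F47422) (tt N17469 (iv F58607)) (tt N9170 (iv D23725)) (tt N10590 F47423))
theorem Q13480 : ∀ i, i < 13480 → P i := stepQ 13479 Q13479 (allL N13479 (tt N16507 (iv F55666)) (tt N9173 F47424) (tt N11271 F47425) (tt N9172 (iv D23726)) (tt N11273 (iv F47426)) (tt N16505 (iv F55659)) (tt N17470 D27790))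
theorem Q13481 : ∀ i, i < 13481 → P i := stepQ 13480 Q13480 (allL N13480 (tt N16373 (iv F55216)) (tt N16384 (iv F55246)) (tt N17415 (iv F58388)) (tt N16505 (iv F55658)) (tt N17315 (iv F58057)) (tt N9172 (iv D23727)) (tt N17396 (iv F58317)))
theorem Q13482 : ∀ i, i < 13482 → P i := stepQ 13481 Q13481 (allL N13481 (tt N17429 (iv F58446)) (tt N16344 F55127) (tt N16385 (iv F55255)) (tt N17470 (iv F58612)) (tt N17316 (iv F58059)) (tt N16407 (iv F55321)) (tt N9172 (iv D23728)))
theorem Q13483 : ∀ i, i < 13483 → P i := stepQ 13482 Q13482 (allL N13482 (tt N9176 F47427) (tt N11273 F47428) (tt N11270 F47429) (tt N17318 (iv F58063)) (tt N9173 (iv D23729)) (tt N16945 (iv F57088)) (tt N16737 (iv F56444)))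
theorem Q13484 : ∀ i, i < 13484 → P i := stepQ 13483 Q13483 (allL N13483 (tt N16387 (iv F55260)) (tt N9174 (iv D23730)) (tt N17471 D27791) (tt N17392 (iv F58301)) (tt N17321 (iv F58069)) (tt N16384 (iv F55251)) (tt N17472 D27792))
theorem Q13485 : ∀ i, i < 13485 → P i := stepQ 13484 Q13484 (allL N13484 (tt N11942 (iv F47431)) (tt N9175 (iv D23731)) (tt N11949 F47430) (tt N16745 (iv F56472)) (tt N17322 (iv F58072)) (tt N11940 (iv F47432)) (tt N16344 (iv F55126)))
theorem Q13486 : ∀ i, i < 13486 → P i := stepQ 13485 Q13485 (allL N13485 (tt N13412 (iv F47436)) (tt N9177 (iv D23732)) (tt N13424 F47433) (tt N13414 F47434) (tt N15867 (iv F53827)) (tt N13420 F47435) (tt N17397 (iv F58321)))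
theorem Q13487 : ∀ i, i < 13487 → P i := stepQ 13486 Q13486 (allL N13486 (tt N17473 D27793) (tt N9178 (iv D23733)) (tt N17474 D27794) (tt N15272 F52434) (tt N17329 (iv F58083)) (tt N13486 F47437) (tt N17475 D27795))
theorem Q13488 : ∀ i, i < 13488 → P i := stepQ 13487 Q13487 (allL N13487 (tt N17476 D27796) (tt N9179 (iv D23734)) (tt N15612 (iv F53166)) (tt N13532 (iv F47596)) (tt N15617 (iv F53187)) (tt N17477 D27797) (tt N16748 (iv F56482)))
theorem Q13489 : ∀ i, i < 13489 → P i := stepQ 13488 Q13488 (allL N13488 (tt N9180 F47438) (tt N15617 (iv F53186)) (tt N13027 F47439) (tt N14186 (iv F49548)) (tt N9179 (iv D23735)) (tt N17478 D27798) (tt N14942 (iv F51625)))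
theorem Q13490 : ∀ i, i < 13490 → P i := stepQ 13489 Q13489 (allL N13489 (tt N9181 F47440) (tt N17479 D27799) (tt N12592 F47441) (tt N12497 F47442) (tt N17478 (iv F58641)) (tt N9179 (iv D23736)) (tt N10714 F47443))
theorem Q13491 : ∀ i, i < 13491 → P i := stepQ 13490 Q13490 (allL N13490 (tt N17478 (iv F58639)) (tt N17469 (iv F58605)) (tt N13028 F47444) (tt N14191 (iv F49565)) (tt N9181 F47445) (tt N9180 (iv D23737)) (tt N10715 (iv F47446)))
theorem Q13492 : ∀ i, i < 13492 → P i := stepQ 13491 Q13491 (allL N13491 (tt N13932 (iv F48820)) (tt N9185 (iv D23738)) (tt N16428 (iv F55390)) (tt N10300 F47447) (tt N9436 F47448) (tt N12820 F47449) (tt N9428 F47450))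
theorem Q13493 : ∀ i, i < 13493 → P i := stepQ 13492 Q13492 (allL N13492 (tt N9192 F47451) (tt N13656 (iv F48017)) (tt N11031 F47452) (tt N9557 F47453) (tt N9188 F47454) (tt N9528 F47455) (tt N9187 (iv D23739)))
theorem Q13494 : ∀ i, i < 13494 → P i := stepQ 13493 Q13493 (allL N13493 (tt N9751 (iv F47459)) (tt N9189 (iv D23740)) (tt N10651 (iv F47460)) (tt N9772 F47456) (tt N9191 F47457) (tt N13501 (iv F47499)) (tt N9750 F47458))
theorem Q13495 : ∀ i, i < 13495 → P i := stepQ 13494 Q13494 (allL N13494 (tt N9191 (iv D23741)) (tt N9662 F47466) (tt N10649 F47461) (tt N9691 F47462) (tt N9751 F47463) (tt N10683 F47465) (tt N9722 F47464))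
theorem Q13496 : ∀ i, i < 13496 → P i := stepQ 13495 Q13495 (allL N13495 (tt N10683 F47467) (tt N13497 (iv F47477)) (tt N10682 F47468) (tt N13714 (iv F48242)) (tt N13501 (iv F47498)) (tt N9191 (iv D23742)) (tt N9232 F47469))
theorem Q13497 : ∀ i, i < 13497 → P i := stepQ 13496 Q13496 (allL N13496 (tt N9528 F47470) (tt N9233 F47471) (tt N11027 F47472) (tt N9234 F47473) (tt N9193 F47474) (tt N9192 (iv D23743)) (tt N9527 F47475))
theorem Q13498 : ∀ i, i < 13498 → P i := stepQ 13497 Q13497 (allL N13497 (tt N10767 F47476) (tt N13495 F47477) (tt N10766 F47478) (tt N13718 (iv F48257)) (tt N13525 (iv F47575)) (tt N9194 (iv D23744)) (tt N9229 F47479))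
theorem Q13499 : ∀ i, i < 13499 → P i := stepQ 13498 Q13498 (allL N13498 (tt N9731 F47480) (tt N9195 (iv D23745)) (tt N10735 (iv F47484)) (tt N9778 F47481) (tt N9229 F47482) (tt N9730 F47483) (tt N13525 (iv F47576)))
theorem Q13500 : ∀ i, i < 13500 → P i := stepQ 13499 Q13499 (allL N13499 (tt N9541 F47490) (tt N9196 (iv D23746)) (tt N11064 (iv F47488)) (tt N9197 F47485) (tt N9198 F47486) (tt N9540 (iv F47489)) (tt N9231 F47487))
theorem Q13501 : ∀ i, i < 13501 → P i := stepQ 13500 Q13500 (allL N13500 (tt N9199 (iv D23747)) (tt N16639 (iv F56096)) (tt N9201 F47491) (tt N9484 F47492) (tt N9201 F47493) (tt N9460 F47494) (tt N9201 F47495))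
theorem Q13502 : ∀ i, i < 13502 → P i := stepQ 13501 Q13501 (allL N13501 (tt N13680 F48106) (tt N13525 (iv F47572)) (tt N10654 F47496) (tt N9826 F47497) (tt N13495 F47498) (tt N13493 F47499) (tt N9200 (iv D23748)))
theorem Q13503 : ∀ i, i < 13503 → P i := stepQ 13502 Q13502 (allL N13502 (tt N9204 F47500) (tt N13555 (iv F47662)) (tt N9337 F47501) (tt N10705 F47502) (tt N9203 (iv D23749)) (tt N10705 F47503) (tt N9292 F47504))
theorem Q13504 : ∀ i, i < 13504 → P i := stepQ 13503 Q13503 (allL N13503 (tt N9206 F47505) (tt N12751 F47506) (tt N17480 D27800) (tt N9205 (iv D23750)) (tt N17481 D27801) (tt N17480 F58648) (tt N14024 (iv F49058)))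
theorem Q13505 : ∀ i, i < 13505 → P i := stepQ 13504 Q13504 (allL N13504 (tt N9207 F47507) (tt N16654 (iv F56163)) (tt N10661 F47508) (tt N17480 (iv F58646)) (tt N16598 (iv F55956)) (tt N9205 (iv D23751)) (tt N10660 F47509))
theorem Q13506 : ∀ i, i < 13506 → P i := stepQ 13505 Q13505 (allL N13505 (tt N17480 (iv F58645)) (tt N13281 F47510) (tt N9206 (iv D23752)) (tt N9207 (iv F47511)) (tt N17482 D27802) (tt N9206 (iv F47512)) (tt N13282 (iv F47513)))
theorem Q13507 : ∀ i, i < 13507 → P i := stepQ 13506 Q13506 (allL N13506 (tt N17481 (iv F58649)) (tt N9209 F47514) (tt N17482 (iv F58653)) (tt N12232 F47515) (tt N9206 (iv D23753)) (tt N17482 (iv F58655)) (tt N17483 D27803))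
theorem Q13508 : ∀ i, i < 13508 → P i := stepQ 13507 Q13507 (allL N13507 (tt N14024 F49059) (tt N9218 F47516) (tt N13282 F47517) (tt N9208 F47518) (tt N17483 (iv F58660)) (tt N14911 (iv F51523)) (tt N9206 (iv D23754)))
theorem Q13509 : ∀ i, i < 13509 → P i := stepQ 13508 Q13508 (allL N13508 (tt N14978 (iv F51760)) (tt N9210 (iv D23755)) (tt N13992 (iv F48991)) (tt N13435 F47519) (tt N9905 F47520) (tt N14948 (iv F51641)) (tt N14932 F51603))
theorem Q13510 : ∀ i, i < 13510 → P i := stepQ 13509 Q13509 (allL N13509 (tt N9212 (iv D23756)) (tt N14978 (iv F51761)) (tt N14977 F51759) (tt N17484 D27804) (tt N15010 (iv F51852)) (tt N15006 (iv F51843)) (tt N16646 (iv F56136)))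
theorem Q13511 : ∀ i, i < 13511 → P i := stepQ 13510 Q13510 (allL N13510 (tt N14977 (iv F51754)) (tt N9270 F47521) (tt N9212 (iv D23757)) (tt N9336 F47523) (tt N13552 (iv F47647)) (tt N9293 (iv F47522)) (tt N16645 (iv F56132)))
theorem Q13512 : ∀ i, i < 13512 → P i := stepQ 13511 Q13511 (allL N13511 (tt N17484 (iv F58661)) (tt N9213 F47524) (tt N16220 (iv F54714)) (tt N9212 (iv D23758)) (tt N17485 D27805) (tt N16223 (iv F54721)) (tt N16647 (iv F56142)))
theorem Q13513 : ∀ i, i < 13513 → P i := stepQ 13512 Q13512 (allL N13512 (tt N15010 (iv F51850)) (tt N9214 F47525) (tt N13552 (iv F47649)) (tt N14137 (iv F49389)) (tt N9212 (iv D23759)) (tt N15008 (iv F51849)) (tt N16637 (iv F56089)))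
theorem Q13514 : ∀ i, i < 13514 → P i := stepQ 13513 Q13513 (allL N13513 (tt N15006 (iv F51841)) (tt N9282 (iv F47527)) (tt N9293 F47526) (tt N16223 (iv F54722)) (tt N15008 (iv F51848)) (tt N9212 (iv D23760)) (tt N14852 (iv F51329)))
theorem Q13515 : ∀ i, i < 13515 → P i := stepQ 13514 Q13514 (allL N13514 (tt N9217 F47528) (tt N17485 (iv F58665)) (tt N12539 F47529) (tt N14138 (iv F49391)) (tt N9213 (iv D23761)) (tt N16715 (iv F56372)) (tt N12538 F47530))
theorem Q13516 : ∀ i, i < 13516 → P i := stepQ 13515 Q13515 (allL N13515 (tt N9219 F47531) (tt N17486 D27806) (tt N9302 F47532) (tt N14139 (iv F49394)) (tt N9215 F47533) (tt N9214 (iv D23762)) (tt N13519 (iv F47550)))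
theorem Q13517 : ∀ i, i < 13517 → P i := stepQ 13516 Q13516 (allL N13516 (tt N9220 F47534) (tt N12422 (iv F47538)) (tt N9303 F47535) (tt N14140 (iv F49397)) (tt N9216 F47536) (tt N12574 F47537) (tt N9214 (iv D23763)))
theorem Q13518 : ∀ i, i < 13518 → P i := stepQ 13517 Q13517 (allL N13517 (tt N13583 (iv F47774)) (tt N9215 (iv D23764)) (tt N9284 (iv F47542)) (tt N12747 F47539) (tt N17486 (iv F58668)) (tt N9282 F47540) (tt N12746 F47541))
theorem Q13519 : ∀ i, i < 13519 → P i := stepQ 13518 Q13518 (allL N13518 (tt N12538 F47543) (tt N17483 (iv F58657)) (tt N12536 F47544) (tt N14142 (iv F49405)) (tt N9218 F47545) (tt N12535 (iv F47546)) (tt N9217 (iv D23765)))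
theorem Q13520 : ∀ i, i < 13520 → P i := stepQ 13519 Q13519 (allL N13519 (tt N12574 F47547) (tt N17487 D27807) (tt N9309 F47548) (tt N14143 (iv F49409)) (tt N9221 F47549) (tt N9220 (iv D23766)) (tt N13515 F47550))
theorem Q13521 : ∀ i, i < 13521 → P i := stepQ 13520 Q13520 (allL N13520 (tt N17488 D27808) (tt N9221 (iv D23767)) (tt N14913 (iv F51529)) (tt N12573 F47551) (tt N17487 (iv F58674)) (tt N14910 (iv F51520)) (tt N14913 (iv F51532)))
theorem Q13522 : ∀ i, i < 13522 → P i := stepQ 13521 Q13521 (allL N13521 (tt N13929 (iv F48812)) (tt N9225 (iv D23768)) (tt N16273 (iv F54880)) (tt N10298 F47552) (tt N9432 F47553) (tt N9426 F47554) (tt N12818 F47555))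
theorem Q13523 : ∀ i, i < 13523 → P i := stepQ 13522 Q13522 (allL N13522 (tt N9231 F47556) (tt N13662 (iv F48035)) (tt N11068 F47557) (tt N9594 F47558) (tt N9228 F47559) (tt N9227 (iv D23769)) (tt N9541 F47560))
theorem Q13524 : ∀ i, i < 13524 → P i := stepQ 13523 Q13523 (allL N13523 (tt N9229 (iv D23770)) (tt N9669 F47561) (tt N10734 F47562) (tt N9713 F47563) (tt N9731 F47564) (tt N9714 F47565) (tt N10767 F47566))
theorem Q13525 : ∀ i, i < 13525 → P i := stepQ 13524 Q13524 (allL N13524 (tt N9235 (iv D23771)) (tt N16644 (iv F56122)) (tt N9237 F47567) (tt N9477 F47568) (tt N9237 F47569) (tt N9237 F47570) (tt N9455 F47571))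
theorem Q13526 : ∀ i, i < 13526 → P i := stepQ 13525 Q13525 (allL N13525 (tt N13689 (iv F48137)) (tt N13501 F47572) (tt N10702 F47573) (tt N9771 F47574) (tt N13497 F47575) (tt N9236 (iv D23772)) (tt N13498 F47576))
theorem Q13527 : ∀ i, i < 13527 → P i := stepQ 13526 Q13526 (allL N13526 (tt N9240 F47577) (tt N13582 (iv F47769)) (tt N9295 F47578) (tt N10787 F47579) (tt N9239 (iv D23773)) (tt N9294 F47580) (tt N10787 F47581))
theorem Q13528 : ∀ i, i < 13528 → P i := stepQ 13527 Q13527 (allL N13527 (tt N9242 F47582) (tt N12755 F47583) (tt N17489 D27809) (tt N9241 (iv D23774)) (tt N17490 D27810) (tt N14005 (iv F49015)) (tt N17489 F58683))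
theorem Q13529 : ∀ i, i < 13529 → P i := stepQ 13528 Q13528 (allL N13528 (tt N9244 F47584) (tt N16672 (iv F56232)) (tt N10743 F47585) (tt N17489 (iv F58681)) (tt N16621 (iv F56033)) (tt N10742 F47586) (tt N9241 (iv D23775)))
theorem Q13530 : ∀ i, i < 13530 → P i := stepQ 13529 Q13529 (allL N13529 (tt N17489 (iv F58680)) (tt N13267 F47587) (tt N9242 (iv D23776)) (tt N9244 (iv F47588)) (tt N17491 D27811) (tt N13269 (iv F47589)) (tt N9242 (iv F47590)))
theorem Q13531 : ∀ i, i < 13531 → P i := stepQ 13530 Q13530 (allL N13530 (tt N17490 (iv F58684)) (tt N9245 F47591) (tt N17491 (iv F58688)) (tt N12291 F47592) (tt N9242 (iv D23777)) (tt N17492 D27812) (tt N17491 (iv F58691)))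
theorem Q13532 : ∀ i, i < 13532 → P i := stepQ 13531 Q13531 (allL N13531 (tt N14005 (iv F49017)) (tt N9254 F47593) (tt N13269 F47594) (tt N9243 F47595) (tt N17492 (iv F58695)) (tt N9242 (iv D23778)) (tt N14958 (iv F51679)))
theorem Q13533 : ∀ i, i < 13533 → P i := stepQ 13532 Q13532 (allL N13532 (tt N14930 (iv F51598)) (tt N9246 (iv D23779)) (tt N14011 (iv F49033)) (tt N13487 F47596) (tt N9922 F47597) (tt N14981 (iv F51768)) (tt N14996 (iv F51810)))
theorem Q13534 : ∀ i, i < 13534 → P i := stepQ 13533 Q13533 (allL N13533 (tt N9248 (iv D23780)) (tt N14930 (iv F51599)) (tt N14929 F51597) (tt N17493 D27813) (tt N15022 (iv F51892)) (tt N16664 (iv F56205)) (tt N15018 (iv F51883)))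
theorem Q13535 : ∀ i, i < 13535 → P i := stepQ 13534 Q13534 (allL N13534 (tt N14929 (iv F51593)) (tt N9322 F47598) (tt N9248 (iv D23781)) (tt N9291 (iv F47599)) (tt N13581 (iv F47765)) (tt N16663 (iv F56200)) (tt N9289 (iv F47600)))
theorem Q13536 : ∀ i, i < 13536 → P i := stepQ 13535 Q13535 (allL N13535 (tt N17493 (iv F58696)) (tt N9249 F47601) (tt N16250 (iv F54810)) (tt N9248 (iv D23782)) (tt N17494 D27814) (tt N16665 (iv F56211)) (tt N16253 (iv F54817)))
theorem Q13537 : ∀ i, i < 13537 → P i := stepQ 13536 Q13536 (allL N13536 (tt N15022 (iv F51890)) (tt N9250 F47602) (tt N13581 F47767) (tt N14146 (iv F49417)) (tt N9248 (iv D23783)) (tt N16642 (iv F56114)) (tt N15020 (iv F51889)))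
theorem Q13538 : ∀ i, i < 13538 → P i := stepQ 13537 Q13537 (allL N13537 (tt N15018 (iv F51881)) (tt N9329 (iv F47604)) (tt N9289 F47603) (tt N16253 (iv F54818)) (tt N15020 (iv F51888)) (tt N14884 (iv F51440)) (tt N9248 (iv D23784)))
theorem Q13539 : ∀ i, i < 13539 → P i := stepQ 13538 Q13538 (allL N13538 (tt N9253 F47605) (tt N17494 (iv F58700)) (tt N12548 F47606) (tt N14147 (iv F49419)) (tt N9249 (iv D23785)) (tt N12547 F47607) (tt N16721 (iv F56396)))
theorem Q13540 : ∀ i, i < 13540 → P i := stepQ 13539 Q13539 (allL N13539 (tt N9255 F47608) (tt N12467 (iv F47612)) (tt N9344 F47609) (tt N14148 (iv F49422)) (tt N9251 F47610) (tt N9250 (iv D23786)) (tt N12580 F47611))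
theorem Q13541 : ∀ i, i < 13541 → P i := stepQ 13540 Q13540 (allL N13540 (tt N9256 F47613) (tt N17495 D27815) (tt N9345 F47614) (tt N14149 (iv F49427)) (tt N9252 F47615) (tt N13543 (iv F47627)) (tt N9250 (iv D23787)))
theorem Q13542 : ∀ i, i < 13542 → P i := stepQ 13541 Q13541 (allL N13541 (tt N13556 (iv F47666)) (tt N9252 (iv D23788)) (tt N9331 F47619) (tt N12738 F47616) (tt N17495 (iv F58703)) (tt N12737 (iv F47618)) (tt N9329 F47617))
theorem Q13543 : ∀ i, i < 13543 → P i := stepQ 13542 Q13542 (allL N13542 (tt N12547 F47620) (tt N17492 (iv F58692)) (tt N12545 F47621) (tt N14150 (iv F49428)) (tt N9254 F47622) (tt N9253 (iv D23789)) (tt N12544 F47623))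
theorem Q13544 : ∀ i, i < 13544 → P i := stepQ 13543 Q13543 (allL N13543 (tt N12580 F47624) (tt N17496 D27816) (tt N9350 F47625) (tt N14152 (iv F49437)) (tt N9257 F47626) (tt N13540 F47627) (tt N9255 (iv D23790)))
theorem Q13545 : ∀ i, i < 13545 → P i := stepQ 13544 Q13544 (allL N13544 (tt N17497 D27817) (tt N9257 (iv D23791)) (tt N14960 (iv F51685)) (tt N12579 F47628) (tt N17496 (iv F58709)) (tt N14960 (iv F51688)) (tt N14957 (iv F51676)))
theorem Q13546 : ∀ i, i < 13546 → P i := stepQ 13545 Q13545 (allL N13545 (tt N14919 (iv F51549)) (tt N9259 (iv D23792)) (tt N14923 (iv F51572)) (tt N13706 (iv F48211)) (tt N13549 (iv F47635)) (tt N14906 (iv F51508)) (tt N13706 (iv F48214)))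
theorem Q13547 : ∀ i, i < 13547 → P i := stepQ 13546 Q13546 (allL N13546 (tt N13586 F47789) (tt N9260 (iv D23793)) (tt N13594 (iv F47821)) (tt N9467 F47629) (tt N9261 F47630) (tt N13594 (iv F47824)) (tt N9263 F47631))
theorem Q13548 : ∀ i, i < 13548 → P i := stepQ 13547 Q13547 (allL N13547 (tt N9261 (iv D23794)) (tt N13585 (iv F47780)) (tt N13553 (iv F47652)) (tt N14916 (iv F51541)) (tt N13586 (iv F47786)) (tt N13553 (iv F47655)) (tt N9264 F47632))
theorem Q13549 : ∀ i, i < 13549 → P i := stepQ 13548 Q13548 (allL N13548 (tt N13553 (iv F47650)) (tt N14923 (iv F51571)) (tt N9261 (iv D23795)) (tt N14914 (iv F51534)) (tt N13594 (iv F47823)) (tt N9261 (iv F47634)) (tt N9265 F47633))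
theorem Q13550 : ∀ i, i < 13550 → P i := stepQ 13549 Q13549 (allL N13549 (tt N10691 (iv F47790)) (tt N9262 (iv D23796)) (tt N14906 (iv F51506)) (tt N13705 (iv F48207)) (tt N13545 F47635) (tt N14923 (iv F51575)) (tt N10689 F47791))
theorem Q13551 : ∀ i, i < 13551 → P i := stepQ 13550 Q13550 (allL N13550 (tt N13551 (iv F47640)) (tt N10651 F47636) (tt N9263 (iv D23797)) (tt N9339 F47638) (tt N9265 F47637) (tt N9338 (iv F47639)) (tt N13594 (iv F47825)))
theorem Q13552 : ∀ i, i < 13552 → P i := stepQ 13551 Q13551 (allL N13551 (tt N13550 F47640) (tt N9342 F47641) (tt N9338 F47642) (tt N10661 F47643) (tt N9266 F47644) (tt N9263 (iv D23798)) (tt N9347 (iv F47645)))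
theorem Q13553 : ∀ i, i < 13553 → P i := stepQ 13552 Q13552 (allL N13552 (tt N10822 F47646) (tt N13554 (iv F47656)) (tt N13512 F47649) (tt N9265 (iv D23799)) (tt N13510 F47647) (tt N10820 F47648) (tt N14914 (iv F51535)))
theorem Q13554 : ∀ i, i < 13554 → P i := stepQ 13553 Q13553 (allL N13553 (tt N13548 F47650) (tt N9345 F47651) (tt N13547 F47652) (tt N10666 F47653) (tt N9347 F47654) (tt N13547 F47655) (tt N9266 (iv D23800)))
theorem Q13555 : ∀ i, i < 13555 → P i := stepQ 13554 Q13554 (allL N13554 (tt N9268 (iv D23801)) (tt N13552 F47656) (tt N9298 F47657) (tt N10685 F47658) (tt N9270 F47659) (tt N13582 (iv F47773)) (tt N9341 F47660))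
theorem Q13556 : ∀ i, i < 13556 → P i := stepQ 13555 Q13555 (allL N13555 (tt N9299 F47661) (tt N13502 F47662) (tt N9272 F47663) (tt N10766 F47664) (tt N10752 F47665) (tt N9271 (iv D23802)) (tt N13568 (iv F47720)))
theorem Q13557 : ∀ i, i < 13557 → P i := stepQ 13556 Q13556 (allL N13556 (tt N13541 F47666) (tt N17498 D27818) (tt N9278 F47667) (tt N12741 F47668) (tt N14917 (iv F51546)) (tt N9277 (iv D23803)) (tt N12740 F47669))
theorem Q13558 : ∀ i, i < 13558 → P i := stepQ 13557 Q13557 (allL N13557 (tt N9281 (iv D23804)) (tt N9458 (iv F47672)) (tt N13986 (iv F48973)) (tt N14925 (iv F51579)) (tt N9467 F47670) (tt N13588 (iv F47798)) (tt N9335 F47671))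
theorem Q13559 : ∀ i, i < 13559 → P i := stepQ 13558 Q13558 (allL N13558 (tt N14756 (iv F50975)) (tt N15008 (iv F51847)) (tt N9283 F47673) (tt N14755 (iv F50973)) (tt N9282 (iv D23805)) (tt N17486 (iv F58669)) (tt N14754 F50970))
theorem Q13560 : ∀ i, i < 13560 → P i := stepQ 13559 Q13559 (allL N13559 (tt N10755 F47674) (tt N13578 (iv F47754)) (tt N17486 (iv F58666)) (tt N10763 F47675) (tt N9284 F47676) (tt N9283 (iv D23806)) (tt N10753 F47677))
theorem Q13561 : ∀ i, i < 13561 → P i := stepQ 13560 Q13560 (allL N13560 (tt N13577 (iv F47748)) (tt N9284 (iv D23807)) (tt N9304 F47678) (tt N9285 F47679) (tt N13578 (iv F47751)) (tt N9296 F47680) (tt N9304 F47681))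
theorem Q13562 : ∀ i, i < 13562 → P i := stepQ 13561 Q13561 (allL N13561 (tt N9290 F47682) (tt N9463 F47683) (tt N13982 (iv F48958)) (tt N14973 (iv F51740)) (tt N9472 F47684) (tt N9288 (iv D23808)) (tt N13563 (iv F47691)))
theorem Q13563 : ∀ i, i < 13563 → P i := stepQ 13562 Q13562 (allL N13562 (tt N9291 F47685) (tt N10736 F47686) (tt N16621 (iv F56031)) (tt N14929 (iv F51594)) (tt N10743 F47687) (tt N10740 F47688) (tt N9288 (iv D23809)))
theorem Q13564 : ∀ i, i < 13564 → P i := stepQ 13563 Q13563 (allL N13563 (tt N10740 F47689) (tt N14970 (iv F51726)) (tt N14969 F51723) (tt N16663 (iv F56198)) (tt N10741 F47690) (tt N9291 (iv D23810)) (tt N13561 F47691))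
theorem Q13565 : ∀ i, i < 13565 → P i := stepQ 13564 Q13564 (allL N13564 (tt N13565 (iv F47697)) (tt N9299 F47692) (tt N9296 (iv D23811)) (tt N10743 F47695) (tt N9319 F47693) (tt N9304 F47694) (tt N9316 (iv F47696)))
theorem Q13566 : ∀ i, i < 13566 → P i := stepQ 13565 Q13565 (allL N13565 (tt N13564 F47697) (tt N10735 F47698) (tt N9316 F47699) (tt N9297 F47700) (tt N9318 F47701) (tt N13572 (iv F47734)) (tt N9296 (iv D23812)))
theorem Q13567 : ∀ i, i < 13567 → P i := stepQ 13566 Q13566 (allL N13566 (tt N10730 F47702) (tt N9301 F47703) (tt N14927 (iv F51587)) (tt N9298 (iv D23813)) (tt N10756 F47704) (tt N10846 F47705) (tt N10728 F47706))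
theorem Q13568 : ∀ i, i < 13568 → P i := stepQ 13567 Q13567 (allL N13567 (tt N12474 F47711) (tt N9300 (iv D23814)) (tt N12459 (iv F47710)) (tt N10768 F47707) (tt N10751 F47708) (tt N14964 (iv F51702)) (tt N9305 F47709))
theorem Q13569 : ∀ i, i < 13569 → P i := stepQ 13568 Q13568 (allL N13568 (tt N9320 F47716) (tt N13581 (iv F47764)) (tt N9340 F47717) (tt N10769 F47718) (tt N9322 F47719) (tt N9300 (iv D23815)) (tt N13555 F47720))
theorem Q13570 : ∀ i, i < 13570 → P i := stepQ 13569 Q13569 (allL N13569 (tt N9306 F47721) (tt N17499 D27819) (tt N9301 (iv D23816)) (tt N17500 D27820) (tt N10757 F47722) (tt N10749 F47723) (tt N12164 F47724))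
theorem Q13571 : ∀ i, i < 13571 → P i := stepQ 13570 Q13570 (allL N13570 (tt N13579 (iv F47756)) (tt N9302 (iv D23817)) (tt N13578 F47755) (tt N10748 F47725) (tt N9304 F47726) (tt N9319 F47727) (tt N13578 F47753))
theorem Q13572 : ∀ i, i < 13572 → P i := stepQ 13571 Q13571 (allL N13571 (tt N13707 (iv F48216)) (tt N9303 (iv D23818)) (tt N12423 F47728) (tt N10775 F47729) (tt N9305 F47730) (tt N9305 F47731) (tt N10751 F47732))
theorem Q13573 : ∀ i, i < 13573 → P i := stepQ 13572 Q13572 (allL N13572 (tt N9304 (iv D23819)) (tt N14954 (iv F51664)) (tt N13577 F47750) (tt N10741 F47733) (tt N13579 (iv F47757)) (tt N13565 F47734) (tt N13577 (iv F47749)))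
theorem Q13574 : ∀ i, i < 13574 → P i := stepQ 13573 Q13573 (allL N13573 (tt N9305 (iv D23820)) (tt N13703 (iv F48199)) (tt N12458 F47735) (tt N10773 F47736) (tt N13707 (iv F48218)) (tt N13707 (iv F48219)) (tt N12474 F47737))
theorem Q13575 : ∀ i, i < 13575 → P i := stepQ 13574 Q13574 (allL N13574 (tt N17500 (iv F58721)) (tt N12745 F47738) (tt N13417 (iv F47740)) (tt N9306 (iv D23821)) (tt N15907 (iv F53936)) (tt N10750 F47739) (tt N17501 D27821))
theorem Q13576 : ∀ i, i < 13576 → P i := stepQ 13575 Q13575 (allL N13575 (tt N12164 F47741) (tt N17502 D27822) (tt N9307 F47742) (tt N17501 (iv F58728)) (tt N10759 F47743) (tt N12162 F47744) (tt N9306 (iv D23822)))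
theorem Q13577 : ∀ i, i < 13577 → P i := stepQ 13576 Q13576 (allL N13576 (tt N14967 (iv F51710)) (tt N9312 (iv D23823)) (tt N14971 (iv F51733)) (tt N13708 (iv F48221)) (tt N13580 (iv F47761)) (tt N13708 (iv F48223)) (tt N14954 (iv F51667)))
theorem Q13578 : ∀ i, i < 13578 → P i := stepQ 13577 Q13577 (allL N13577 (tt N13560 F47748) (tt N9313 (iv D23824)) (tt N13572 (iv F47750)) (tt N9472 F47745) (tt N9314 F47746) (tt N9316 F47747) (tt N13572 F47749))
theorem Q13579 : ∀ i, i < 13579 → P i := stepQ 13578 Q13578 (allL N13578 (tt N9314 (iv D23825)) (tt N13559 F47754) (tt N13570 (iv F47755)) (tt N14963 (iv F51696)) (tt N13560 F47751) (tt N9317 F47752) (tt N13570 (iv F47753)))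
theorem Q13580 : ∀ i, i < 13580 → P i := stepQ 13579 Q13579 (allL N13579 (tt N13570 F47756) (tt N14971 (iv F51732)) (tt N9314 (iv D23826)) (tt N14961 (iv F51689)) (tt N13572 F47757) (tt N9318 F47758) (tt N9314 (iv F47759)))
theorem Q13581 : ∀ i, i < 13581 → P i := stepQ 13580 Q13580 (allL N13580 (tt N10775 F47760) (tt N9315 (iv D23827)) (tt N14954 (iv F51665)) (tt N13707 (iv F48217)) (tt N13576 F47761) (tt N10773 (iv F47762)) (tt N14971 (iv F51736)))
theorem Q13582 : ∀ i, i < 13582 → P i := stepQ 13581 Q13581 (allL N13581 (tt N10843 F47763) (tt N13568 F47764) (tt N13536 (iv F47767)) (tt N9318 (iv D23828)) (tt N13534 F47765) (tt N14961 (iv F51690)) (tt N10841 F47766))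
theorem Q13583 : ∀ i, i < 13583 → P i := stepQ 13582 Q13582 (allL N13582 (tt N9342 F47768) (tt N13526 F47769) (tt N9324 F47770) (tt N10682 F47771) (tt N10658 F47772) (tt N13554 F47773) (tt N9323 (iv D23829)))
theorem Q13584 : ∀ i, i < 13584 → P i := stepQ 13583 Q13583 (allL N13583 (tt N13517 F47774) (tt N17503 D27823) (tt N9326 F47775) (tt N12750 F47776) (tt N14965 (iv F51706)) (tt N12749 F47777) (tt N9325 (iv D23830)))
theorem Q13585 : ∀ i, i < 13585 → P i := stepQ 13584 Q13584 (allL N13584 (tt N14777 (iv F51052)) (tt N15020 (iv F51887)) (tt N9330 F47778) (tt N14776 (iv F51050)) (tt N9329 (iv D23831)) (tt N14775 F51047) (tt N17495 (iv F58704)))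
theorem Q13586 : ∀ i, i < 13586 → P i := stepQ 13585 Q13585 (allL N13585 (tt N10671 F47779) (tt N13547 F47780) (tt N17495 (iv F58701)) (tt N10679 F47781) (tt N9331 F47782) (tt N10669 F47783) (tt N9330 (iv D23832)))
theorem Q13587 : ∀ i, i < 13587 → P i := stepQ 13586 Q13586 (allL N13586 (tt N13546 (iv F47789)) (tt N9331 (iv D23833)) (tt N9347 F47784) (tt N9332 F47785) (tt N13547 F47786) (tt N9347 F47787) (tt N9338 F47788))
theorem Q13588 : ∀ i, i < 13588 → P i := stepQ 13587 Q13587 (allL N13587 (tt N9336 F47792) (tt N10652 F47793) (tt N16598 (iv F55954)) (tt N14977 (iv F51755)) (tt N10661 F47794) (tt N9335 (iv D23834)) (tt N10656 F47795))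
theorem Q13589 : ∀ i, i < 13589 → P i := stepQ 13588 Q13588 (allL N13588 (tt N10656 F47796) (tt N14922 (iv F51565)) (tt N14921 F51563) (tt N16645 (iv F56129)) (tt N10659 F47797) (tt N13557 F47798) (tt N9336 (iv D23835)))
theorem Q13590 : ∀ i, i < 13590 → P i := stepQ 13589 Q13589 (allL N13589 (tt N10645 F47799) (tt N9343 F47800) (tt N14975 (iv F51748)) (tt N9340 (iv D23836)) (tt N10672 F47801) (tt N10643 F47802) (tt N10825 F47803))
theorem Q13591 : ∀ i, i < 13591 → P i := stepQ 13590 Q13590 (allL N13590 (tt N12437 (iv F47808)) (tt N9341 (iv D23837)) (tt N12436 F47804) (tt N10684 F47805) (tt N10657 F47806) (tt N9346 F47807) (tt N14909 (iv F51517)))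
theorem Q13592 : ∀ i, i < 13592 → P i := stepQ 13591 Q13591 (allL N13591 (tt N9348 F47809) (tt N17504 D27824) (tt N9343 (iv D23838)) (tt N17505 D27825) (tt N10673 F47810) (tt N11961 F47811) (tt N10667 F47812))
theorem Q13593 : ∀ i, i < 13593 → P i := stepQ 13592 Q13592 (allL N13592 (tt N13705 (iv F48206)) (tt N9344 (iv D23839)) (tt N12468 F47813) (tt N10691 F47814) (tt N9346 F47815) (tt N10657 F47816) (tt N9346 F47817))
theorem Q13594 : ∀ i, i < 13594 → P i := stepQ 13593 Q13593 (allL N13593 (tt N9346 (iv D23840)) (tt N13701 F48188) (tt N12438 F47818) (tt N10689 F47819) (tt N13705 (iv F48208)) (tt N12437 F47820) (tt N13705 (iv F48209)))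
theorem Q13595 : ∀ i, i < 13595 → P i := stepQ 13594 Q13594 (allL N13594 (tt N9347 (iv D23841)) (tt N14906 (iv F51505)) (tt N13546 F47821) (tt N10659 F47822) (tt N13548 F47823) (tt N13546 F47824) (tt N13550 F47825))
theorem Q13596 : ∀ i, i < 13596 → P i := stepQ 13595 Q13595 (allL N13595 (tt N17505 (iv F58742)) (tt N12736 F47826) (tt N13469 (iv F47828)) (tt N9348 (iv D23842)) (tt N15677 (iv F53344)) (tt N17506 D27826) (tt N10668 F47827))
theorem Q13597 : ∀ i, i < 13597 → P i := stepQ 13596 Q13596 (allL N13596 (tt N11961 F47829) (tt N17507 D27827) (tt N9349 F47830) (tt N17506 (iv F58749)) (tt N10675 F47831) (tt N9348 (iv D23843)) (tt N11959 F47832))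
theorem Q13598 : ∀ i, i < 13598 → P i := stepQ 13597 Q13597 (allL N13597 (tt N9354 (iv D23844)) (tt N11883 (iv F47836)) (tt N17508 D27828) (tt N11884 F47833) (tt N9362 F47834) (tt N17509 D27829) (tt N13597 F47835))
theorem Q13599 : ∀ i, i < 13599 → P i := stepQ 13598 Q13598 (allL N13598 (tt N17508 (iv F58757)) (tt N9382 F47837) (tt N9354 (iv D23845)) (tt N17510 D27830) (tt N9363 F47838) (tt N17511 D27831) (tt N13598 F47839))
theorem Q13600 : ∀ i, i < 13600 → P i := stepQ 13599 Q13599 (allL N13599 (tt N17509 (iv F58761)) (tt N10865 F47840) (tt N17511 (iv F58770)) (tt N12500 F47841) (tt N9364 F47842) (tt N9354 (iv D23846)) (tt N17509 (iv F58764)))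
theorem Q13601 : ∀ i, i < 13601 → P i := stepQ 13600 Q13600 (allL N13600 (tt N9355 (iv D23847)) (tt N12092 F47843) (tt N17512 D27832) (tt N12093 F47844) (tt N9365 F47845) (tt N13600 F47846) (tt N17513 D27833))
theorem Q13602 : ∀ i, i < 13602 → P i := stepQ 13601 Q13601 (allL N13601 (tt N17512 (iv F58772)) (tt N9386 F47847) (tt N9355 (iv D23848)) (tt N17514 D27834) (tt N9366 F47848) (tt N13601 F47849) (tt N17515 D27835))
theorem Q13603 : ∀ i, i < 13603 → P i := stepQ 13602 Q13602 (allL N13602 (tt N17513 (iv F58776)) (tt N10860 F47850) (tt N17515 (iv F58786)) (tt N12502 F47851) (tt N9367 F47852) (tt N17513 (iv F58780)) (tt N9355 (iv D23849)))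
theorem Q13604 : ∀ i, i < 13604 → P i := stepQ 13603 Q13603 (allL N13603 (tt N13604 (iv F47858)) (tt N11840 F47853) (tt N9420 F47854) (tt N9358 F47855) (tt N10538 F47856) (tt N9416 F47857) (tt N9356 (iv D23850)))
theorem Q13605 : ∀ i, i < 13605 → P i := stepQ 13604 Q13604 (allL N13604 (tt N13603 F47858) (tt N12052 F47859) (tt N9419 F47860) (tt N9359 F47861) (tt N10593 F47862) (tt N9357 (iv D23851)) (tt N9415 F47863))
theorem Q13606 : ∀ i, i < 13606 → P i := stepQ 13605 Q13605 (allL N13605 (tt N11887 F47864) (tt N13389 F47865) (tt N9360 (iv D23852)) (tt N13391 (iv F47868)) (tt N11890 F47866) (tt N16460 (iv F55522)) (tt N13605 F47867))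
theorem Q13607 : ∀ i, i < 13607 → P i := stepQ 13606 Q13606 (allL N13606 (tt N12096 F47869) (tt N13442 F47870) (tt N9361 (iv D23853)) (tt N13444 (iv F47873)) (tt N12099 F47871) (tt N13606 F47872) (tt N16311 (iv F55026)))
theorem Q13608 : ∀ i, i < 13608 → P i := stepQ 13607 Q13607 (allL N13607 (tt N9363 F47874) (tt N14172 F49497) (tt N9362 (iv D23854)) (tt N14173 (iv F49499)) (tt N17508 (iv F58758)) (tt N17516 D27836) (tt N13607 F47875))
theorem Q13609 : ∀ i, i < 13609 → P i := stepQ 13608 Q13608 (allL N13608 (tt N9364 F47876) (tt N13612 (iv F47886)) (tt N17516 (iv F58789)) (tt N11888 F47877) (tt N17509 (iv F58763)) (tt N9362 (iv D23855)) (tt N9364 F47878))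
theorem Q13610 : ∀ i, i < 13610 → P i := stepQ 13609 Q13609 (allL N13609 (tt N14173 (iv F49498)) (tt N9443 F47879) (tt N12462 F47881) (tt N9363 (iv D23856)) (tt N16651 (iv F56154)) (tt N17517 D27837) (tt N13609 F47880))
theorem Q13611 : ∀ i, i < 13611 → P i := stepQ 13610 Q13610 (allL N13610 (tt N17516 (iv F58788)) (tt N14840 (iv F51277)) (tt N9364 F47882) (tt N17517 (iv F58793)) (tt N17511 (iv F58771)) (tt N9363 (iv D23857)) (tt N17516 (iv F58790)))
theorem Q13612 : ∀ i, i < 13612 → P i := stepQ 13611 Q13611 (allL N13611 (tt N9366 F47883) (tt N14193 F49575) (tt N9365 (iv D23858)) (tt N14194 (iv F49577)) (tt N17512 (iv F58773)) (tt N13611 F47884) (tt N17518 D27838))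
theorem Q13613 : ∀ i, i < 13613 → P i := stepQ 13612 Q13612 (allL N13612 (tt N9367 F47885) (tt N13608 F47886) (tt N17518 (iv F58795)) (tt N12097 F47887) (tt N17513 (iv F58779)) (tt N9367 F47888) (tt N9365 (iv D23859)))
theorem Q13614 : ∀ i, i < 13614 → P i := stepQ 13613 Q13613 (allL N13613 (tt N14194 (iv F49576)) (tt N9452 F47889) (tt N12496 F47891) (tt N9366 (iv D23860)) (tt N16669 (iv F56223)) (tt N13613 F47890) (tt N17519 D27839))
theorem Q13615 : ∀ i, i < 13615 → P i := stepQ 13614 Q13614 (allL N13614 (tt N17518 (iv F58794)) (tt N14812 (iv F51182)) (tt N9367 F47892) (tt N17519 (iv F58799)) (tt N17515 (iv F58787)) (tt N17518 (iv F58796)) (tt N9366 (iv D23861)))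
theorem Q13616 : ∀ i, i < 13616 → P i := stepQ 13615 Q13615 (allL N13615 (tt N9494 F47893) (tt N9930 F47894) (tt N9368 (iv D23862)) (tt N17520 D27840) (tt N9408 F47895) (tt N9370 F47896) (tt N17399 (iv F58328)))
theorem Q13617 : ∀ i, i < 13617 → P i := stepQ 13616 Q13616 (allL N13616 (tt N9510 F47897) (tt N9932 F47898) (tt N9369 (iv D23863)) (tt N17521 D27841) (tt N9409 F47899) (tt N17417 (iv F58396)) (tt N9372 F47900))
theorem Q13618 : ∀ i, i < 13618 → P i := stepQ 13617 Q13617 (allL N13617 (tt N12971 F47901) (tt N12961 F47902) (tt N17522 D27842) (tt N9370 (iv D23864)) (tt N12957 F47903) (tt N17520 (iv F58803)) (tt N17523 D27843))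
theorem Q13619 : ∀ i, i < 13619 → P i := stepQ 13618 Q13618 (allL N13618 (tt N13290 F47904) (tt N11398 (iv F47907)) (tt N9371 F47905) (tt N17523 (iv F58811)) (tt N9413 F47906) (tt N13722 (iv F48268)) (tt N9370 (iv D23865)))
theorem Q13620 : ∀ i, i < 13620 → P i := stepQ 13619 Q13619 (allL N13619 (tt N13046 F47908) (tt N13037 F47909) (tt N17524 D27844) (tt N9372 (iv D23866)) (tt N13033 F47910) (tt N17525 D27845) (tt N17521 (iv F58807)))
theorem Q13621 : ∀ i, i < 13621 → P i := stepQ 13620 Q13620 (allL N13620 (tt N13350 F47911) (tt N11557 (iv F47914)) (tt N9373 F47912) (tt N17525 (iv F58817)) (tt N9414 F47913) (tt N9372 (iv D23867)) (tt N13747 (iv F48335)))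
theorem Q13622 : ∀ i, i < 13622 → P i := stepQ 13621 Q13621 (allL N13621 (tt N9609 F47915) (tt N9375 (iv D23868)) (tt N15695 (iv F53401)) (tt N9380 F47916) (tt N9842 F47917) (tt N17526 D27846) (tt N9376 F47918))
theorem Q13623 : ∀ i, i < 13623 → P i := stepQ 13622 Q13622 (allL N13622 (tt N9376 (iv D23869)) (tt N13886 (iv F48701)) (tt N17527 D27847) (tt N9381 F47919) (tt N9845 F47920) (tt N13733 F48295) (tt N9609 F47921))
theorem Q13624 : ∀ i, i < 13624 → P i := stepQ 13623 Q13623 (allL N13623 (tt N17527 (iv F58825)) (tt N9941 F47922) (tt N9376 (iv D23870)) (tt N17528 D27848) (tt N10297 F47923) (tt N17529 D27849) (tt N15695 (iv F53403)))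
theorem Q13625 : ∀ i, i < 13625 → P i := stepQ 13624 Q13624 (allL N13624 (tt N13733 (iv F48292)) (tt N13451 F47924) (tt N17529 (iv F58831)) (tt N9383 F47925) (tt N10298 F47926) (tt N9376 (iv D23871)) (tt N13859 (iv F48630)))
theorem Q13626 : ∀ i, i < 13626 → P i := stepQ 13625 Q13625 (allL N13625 (tt N9571 F47927) (tt N9378 (iv D23872)) (tt N15925 (iv F53995)) (tt N9384 F47928) (tt N9789 F47929) (tt N9379 F47930) (tt N17530 D27850))
theorem Q13627 : ∀ i, i < 13627 → P i := stepQ 13626 Q13626 (allL N13626 (tt N9379 (iv D23873)) (tt N13837 (iv F48580)) (tt N17531 D27851) (tt N9385 F47931) (tt N9791 F47932) (tt N9571 F47933) (tt N13758 (iv F48362)))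
theorem Q13628 : ∀ i, i < 13628 → P i := stepQ 13627 Q13627 (allL N13627 (tt N17531 (iv F58838)) (tt N9943 F47934) (tt N9379 (iv D23874)) (tt N17532 D27852) (tt N10299 F47935) (tt N15925 (iv F53997)) (tt N17533 D27853))
theorem Q13629 : ∀ i, i < 13629 → P i := stepQ 13628 Q13628 (allL N13628 (tt N13758 (iv F48359)) (tt N13399 F47936) (tt N17533 (iv F58844)) (tt N9387 F47937) (tt N10300 F47938) (tt N13810 (iv F48509)) (tt N9379 (iv D23875)))
theorem Q13630 : ∀ i, i < 13630 → P i := stepQ 13629 Q13629 (allL N13629 (tt N9380 (iv D23876)) (tt N9546 F47939) (tt N14381 (iv F50033)) (tt N9609 F47940) (tt N9437 F47941) (tt N13637 (iv F47961)) (tt N9381 F47942))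
theorem Q13631 : ∀ i, i < 13631 → P i := stepQ 13630 Q13630 (allL N13630 (tt N14381 F50036) (tt N13630 F47943) (tt N9380 (iv D23877)) (tt N16268 F54867) (tt N9438 F47944) (tt N17534 D27854) (tt N9382 F47945))
theorem Q13632 : ∀ i, i < 13632 → P i := stepQ 13631 Q13631 (allL N13631 (tt N13637 (iv F47959)) (tt N13654 (iv F48011)) (tt N17534 (iv F58846)) (tt N17526 (iv F58822)) (tt N9439 F47946) (tt N9380 (iv D23878)) (tt N13634 (iv F47956)))
theorem Q13633 : ∀ i, i < 13633 → P i := stepQ 13632 Q13632 (allL N13632 (tt N13839 (iv F48586)) (tt N9381 (iv D23879)) (tt N10165 (iv F47949)) (tt N13886 (iv F48702)) (tt N9440 F47947) (tt N9603 (iv F47950)) (tt N10164 F47948))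
theorem Q13634 : ∀ i, i < 13634 → P i := stepQ 13633 Q13633 (allL N13633 (tt N9382 F47951) (tt N14374 F50016) (tt N9381 (iv D23880)) (tt N16652 (iv F56158)) (tt N9441 F47952) (tt N17535 D27855) (tt N14381 (iv F50035)))
theorem Q13635 : ∀ i, i < 13635 → P i := stepQ 13634 Q13634 (allL N13634 (tt N9383 F47953) (tt N9521 F47954) (tt N17535 (iv F58849)) (tt N13733 (iv F48293)) (tt N9442 F47955) (tt N9381 (iv D23881)) (tt N13631 F47956))
theorem Q13636 : ∀ i, i < 13636 → P i := stepQ 13635 Q13635 (allL N13635 (tt N16652 (iv F56156)) (tt N17510 (iv F58766)) (tt N13109 (iv F54857)) (tt N9382 (iv D23882)) (tt N13394 F54856) (tt N17536 D27856) (tt N16268 (iv F54866)))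
theorem Q13637 : ∀ i, i < 13637 → P i := stepQ 13636 Q13636 (allL N13636 (tt N17535 (iv F58848)) (tt N15994 (iv F54143)) (tt N9383 F47957) (tt N17536 (iv F58853)) (tt N9444 F47958) (tt N9382 (iv D23883)) (tt N17537 D27857))
theorem Q13638 : ∀ i, i < 13638 → P i := stepQ 13637 Q13637 (allL N13637 (tt N13631 F47959) (tt N13785 (iv F48450)) (tt N17537 (iv F58857)) (tt N13859 (iv F48628)) (tt N9445 F47960) (tt N13629 F47961) (tt N9383 (iv D23884)))
theorem Q13639 : ∀ i, i < 13639 → P i := stepQ 13638 Q13638 (allL N13638 (tt N9384 (iv D23885)) (tt N9533 F47962) (tt N14326 (iv F49897)) (tt N9571 F47963) (tt N9446 F47964) (tt N9385 F47965) (tt N13646 (iv F47986)))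
theorem Q13640 : ∀ i, i < 13640 → P i := stepQ 13639 Q13639 (allL N13639 (tt N14326 (iv F49900)) (tt N13639 F47966) (tt N9384 (iv D23886)) (tt N16423 F55376) (tt N9447 F47967) (tt N9386 F47968) (tt N17538 D27858))
theorem Q13641 : ∀ i, i < 13641 → P i := stepQ 13640 Q13640 (allL N13640 (tt N13646 (iv F47984)) (tt N13660 (iv F48029)) (tt N17538 (iv F58860)) (tt N17530 (iv F58835)) (tt N9448 F47969) (tt N13643 (iv F47979)) (tt N9384 (iv D23887)))
theorem Q13642 : ∀ i, i < 13642 → P i := stepQ 13641 Q13641 (allL N13641 (tt N13788 (iv F48458)) (tt N9385 (iv D23888)) (tt N10132 (iv F47972)) (tt N13837 (iv F48581)) (tt N9449 F47970) (tt N10131 F47971) (tt N9565 (iv F47973)))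
theorem Q13643 : ∀ i, i < 13643 → P i := stepQ 13642 Q13642 (allL N13642 (tt N9386 F47974) (tt N14319 F49880) (tt N9385 (iv D23889)) (tt N16670 (iv F56227)) (tt N9450 F47975) (tt N14326 (iv F49899)) (tt N17539 D27859))
theorem Q13644 : ∀ i, i < 13644 → P i := stepQ 13643 Q13643 (allL N13643 (tt N9387 F47976) (tt N9505 F47977) (tt N17539 (iv F58863)) (tt N13758 (iv F48360)) (tt N9451 F47978) (tt N13640 F47979) (tt N9385 (iv D23890)))
theorem Q13645 : ∀ i, i < 13645 → P i := stepQ 13644 Q13644 (allL N13644 (tt N16670 (iv F56225)) (tt N17514 (iv F58782)) (tt N13169 (iv F47981)) (tt N9386 (iv D23891)) (tt N13447 F47980) (tt N16423 (iv F55375)) (tt N17540 D27860))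
theorem Q13646 : ∀ i, i < 13646 → P i := stepQ 13645 Q13645 (allL N13645 (tt N17539 (iv F58862)) (tt N15769 (iv F53552)) (tt N9387 F47982) (tt N17540 (iv F58867)) (tt N9453 F47983) (tt N17541 D27861) (tt N9386 (iv D23892)))
theorem Q13647 : ∀ i, i < 13647 → P i := stepQ 13646 Q13646 (allL N13646 (tt N13640 F47984) (tt N13777 (iv F48421)) (tt N17541 (iv F58871)) (tt N13810 (iv F48507)) (tt N9454 F47985) (tt N9387 (iv D23893)) (tt N13638 F47986))
theorem Q13648 : ∀ i, i < 13648 → P i := stepQ 13647 Q13647 (allL N13647 (tt N13651 (iv F48001)) (tt N17542 D27862) (tt N10942 F47987) (tt N9401 F47988) (tt N9477 F47989) (tt N9401 F47990) (tt N9390 (iv D23894)))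
theorem Q13649 : ∀ i, i < 13649 → P i := stepQ 13648 Q13648 (allL N13648 (tt N9406 F47991) (tt N9391 (iv D23895)) (tt N15924 (iv F53992)) (tt N9402 F47992) (tt N9486 F47993) (tt N13739 (iv F48310)) (tt N17542 (iv F58878)))
theorem Q13650 : ∀ i, i < 13650 → P i := stepQ 13649 Q13649 (allL N13649 (tt N13658 (iv F48021)) (tt N17543 D27863) (tt N10954 F47994) (tt N9404 F47995) (tt N9484 F47996) (tt N9395 (iv D23896)) (tt N9404 F47997))
theorem Q13651 : ∀ i, i < 13651 → P i := stepQ 13650 Q13650 (allL N13650 (tt N9402 F47998) (tt N9396 (iv D23897)) (tt N15696 (iv F53405)) (tt N9406 F47999) (tt N9478 F48000) (tt N17543 (iv F58882)) (tt N13764 (iv F48379)))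
theorem Q13652 : ∀ i, i < 13652 → P i := stepQ 13651 Q13651 (allL N13651 (tt N13647 F48001) (tt N12814 F48002) (tt N11568 F48003) (tt N11567 F48004) (tt N9475 F48005) (tt N11567 F48006) (tt N9400 (iv D23898)))
theorem Q13653 : ∀ i, i < 13653 → P i := stepQ 13652 Q13652 (allL N13652 (tt N13764 (iv F48376)) (tt N9401 (iv D23899)) (tt N17544 D27864) (tt N17542 (iv F58875)) (tt N9476 F48007) (tt N13762 (iv F48374)) (tt N9402 F48008))
theorem Q13654 : ∀ i, i < 13654 → P i := stepQ 13653 Q13653 (allL N13653 (tt N15696 F53407) (tt N13653 F48009) (tt N9402 (iv D23900)) (tt N17545 D27865) (tt N9479 F48010) (tt N17546 D27866) (tt N17544 (iv F58885)))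
theorem Q13655 : ∀ i, i < 13655 → P i := stepQ 13654 Q13654 (allL N13654 (tt N17543 (iv F58879)) (tt N13631 F48011) (tt N17546 (iv F58887)) (tt N13739 (iv F48308)) (tt N9480 F48012) (tt N9402 (iv D23901)) (tt N9519 (iv F48013)))
theorem Q13656 : ∀ i, i < 13656 → P i := stepQ 13655 Q13655 (allL N13655 (tt N11509 F48014) (tt N13655 F48015) (tt N9403 (iv D23902)) (tt N17341 (iv F58114)) (tt N9481 F48016) (tt N13885 (iv F48700)) (tt N17547 D27867))
theorem Q13657 : ∀ i, i < 13657 → P i := stepQ 13656 Q13656 (allL N13656 (tt N13745 F48329) (tt N13492 F48017) (tt N17547 (iv F58891)) (tt N13789 (iv F48461)) (tt N9482 F48018) (tt N17548 D27868) (tt N9403 (iv D23903)))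
theorem Q13658 : ∀ i, i < 13658 → P i := stepQ 13657 Q13657 (allL N13657 (tt N13739 (iv F48307)) (tt N9404 (iv D23904)) (tt N17549 D27869) (tt N17543 (iv F58880)) (tt N9483 F48019) (tt N9406 F48020) (tt N13737 F48305))
theorem Q13659 : ∀ i, i < 13659 → P i := stepQ 13658 Q13658 (allL N13658 (tt N13649 F48021) (tt N12810 F48022) (tt N11620 F48023) (tt N11619 F48024) (tt N9485 F48025) (tt N9405 (iv D23905)) (tt N11619 F48026))
theorem Q13660 : ∀ i, i < 13660 → P i := stepQ 13659 Q13659 (allL N13659 (tt N15924 F53994) (tt N13659 F48027) (tt N9406 (iv D23906)) (tt N17550 D27870) (tt N9487 F48028) (tt N17549 (iv F58902)) (tt N17551 D27871))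
theorem Q13661 : ∀ i, i < 13661 → P i := stepQ 13660 Q13660 (allL N13660 (tt N17542 (iv F58874)) (tt N13640 F48029) (tt N17551 (iv F58905)) (tt N13764 (iv F48377)) (tt N9488 F48030) (tt N9503 (iv F48031)) (tt N9406 (iv D23907)))
theorem Q13662 : ∀ i, i < 13662 → P i := stepQ 13661 Q13661 (allL N13661 (tt N11350 F48032) (tt N13661 F48033) (tt N9407 (iv D23908)) (tt N17369 (iv F58206)) (tt N9489 F48034) (tt N17552 D27872) (tt N13836 (iv F48579)))
theorem Q13663 : ∀ i, i < 13663 → P i := stepQ 13662 Q13662 (allL N13662 (tt N13770 F48398) (tt N13522 F48035) (tt N17552 (iv F58909)) (tt N13797 (iv F48482)) (tt N9490 F48036) (tt N9407 (iv D23909)) (tt N17553 D27873))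
theorem Q13664 : ∀ i, i < 13664 → P i := stepQ 13663 Q13663 (allL N13663 (tt N13664 (iv F48042)) (tt N11778 (iv F48041)) (tt N10593 F48037) (tt N11690 F48038) (tt N9419 F48039) (tt N10592 F48040) (tt N9417 (iv D23910)))
theorem Q13665 : ∀ i, i < 13665 → P i := stepQ 13664 Q13664 (allL N13664 (tt N13663 F48042) (tt N11735 (iv F48047)) (tt N10538 F48043) (tt N11689 F48044) (tt N9420 F48045) (tt N9418 (iv D23911)) (tt N10537 F48046))
theorem Q13666 : ∀ i, i < 13666 → P i := stepQ 13665 Q13665 (allL N13665 (tt N15016 (iv F51873)) (tt N9419 (iv D23912)) (tt N12056 F48048) (tt N9423 F48049) (tt N11778 F48050) (tt N13665 F48051) (tt N14999 (iv F51820)))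
theorem Q13667 : ∀ i, i < 13667 → P i := stepQ 13666 Q13666 (allL N13666 (tt N15003 F51832) (tt N9420 (iv D23913)) (tt N11843 F48052) (tt N9424 F48053) (tt N11735 F48054) (tt N15013 (iv F51864)) (tt N13666 F48055))
theorem Q13668 : ∀ i, i < 13668 → P i := stepQ 13667 Q13667 (allL N13667 (tt N14950 (iv F51648)) (tt N9421 (iv D23914)) (tt N17554 D27874) (tt N11692 F48056) (tt N9423 F48057) (tt N13667 F48058) (tt N14997 (iv F51813)))
theorem Q13669 : ∀ i, i < 13669 → P i := stepQ 13668 Q13668 (allL N13668 (tt N14902 F51492) (tt N9422 (iv D23915)) (tt N17555 D27875) (tt N11691 F48059) (tt N9424 F48060) (tt N15011 (iv F51856)) (tt N13668 F48061))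
theorem Q13670 : ∀ i, i < 13670 → P i := stepQ 13669 Q13669 (allL N13669 (tt N15017 (iv F51876)) (tt N9431 F48063) (tt N9423 (iv D23917)) (tt N17556 D27876) (tt N17554 (iv F58922)) (tt N13669 F48064) (tt N15001 (iv F51824)))
theorem Q13671 : ∀ i, i < 13671 → P i := stepQ 13670 Q13670 (allL N13670 (tt N15004 (iv F51833)) (tt N9435 F48066) (tt N9424 (iv D23919)) (tt N17557 D27877) (tt N17555 (iv F58926)) (tt N15014 (iv F51866)) (tt N13670 F48067))
theorem Q13672 : ∀ i, i < 13672 → P i := stepQ 13671 Q13671 (allL N13671 (tt N9756 F48068) (tt N9425 (iv D23920)) (tt N12449 (iv F48073)) (tt N9842 F48069) (tt N9429 F48070) (tt N12445 F48071) (tt N9426 F48072))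
theorem Q13673 : ∀ i, i < 13673 → P i := stepQ 13672 Q13672 (allL N13672 (tt N9426 (iv D23921)) (tt N10683 (iv F48077)) (tt N16654 (iv F56164)) (tt N9845 F48074) (tt N9430 F48075) (tt N13929 (iv F48816)) (tt N9756 F48076))
theorem Q13674 : ∀ i, i < 13674 → P i := stepQ 13673 Q13673 (allL N13673 (tt N16654 (iv F56162)) (tt N17554 (iv F58921)) (tt N9426 (iv D23922)) (tt N16274 (iv F54885)) (tt N9431 F48078) (tt N16273 F54883) (tt N12449 F48079))
theorem Q13675 : ∀ i, i < 13675 → P i := stepQ 13674 Q13674 (allL N13674 (tt N9736 F48080) (tt N9427 (iv D23923)) (tt N12486 (iv F48085)) (tt N9789 F48081) (tt N9433 F48082) (tt N9428 F48083) (tt N12481 F48084))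
theorem Q13676 : ∀ i, i < 13676 → P i := stepQ 13675 Q13675 (allL N13675 (tt N9428 (iv D23924)) (tt N10767 F48086) (tt N16672 (iv F56233)) (tt N9791 F48087) (tt N9434 F48088) (tt N9736 F48089) (tt N13932 (iv F48825)))
theorem Q13677 : ∀ i, i < 13677 → P i := stepQ 13676 Q13676 (allL N13676 (tt N16672 (iv F56231)) (tt N17555 (iv F58925)) (tt N9428 (iv D23925)) (tt N16429 (iv F55395)) (tt N9435 F48090) (tt N12486 F48091) (tt N16428 F55393))
theorem Q13678 : ∀ i, i < 13678 → P i := stepQ 13677 Q13677 (allL N13677 (tt N9429 (iv D23926)) (tt N9723 F48092) (tt N13696 (iv F48165)) (tt N9437 F48093) (tt N9756 F48094) (tt N13685 (iv F48125)) (tt N9430 F48095))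
theorem Q13679 : ∀ i, i < 13679 → P i := stepQ 13678 Q13678 (allL N13678 (tt N13696 (iv F48164)) (tt N15007 (iv F51844)) (tt N9429 (iv D23927)) (tt N13695 (iv F48162)) (tt N12449 F48096) (tt N12420 (iv F48098)) (tt N9431 F48097))
theorem Q13680 : ∀ i, i < 13680 → P i := stepQ 13679 Q13679 (allL N13679 (tt N13685 (iv F48120)) (tt N12418 F48099) (tt N12420 F48100) (tt N9439 F48101) (tt N12445 F48102) (tt N9429 (iv D23928)) (tt N13682 (iv F48113)))
theorem Q13681 : ∀ i, i < 13681 → P i := stepQ 13680 Q13680 (allL N13680 (tt N13501 (iv F48106)) (tt N9430 (iv D23929)) (tt N10652 (iv F48107)) (tt N9440 F48103) (tt N10683 F48104) (tt N9751 (iv F48108)) (tt N10415 F48105))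
theorem Q13682 : ∀ i, i < 13682 → P i := stepQ 13681 Q13681 (allL N13681 (tt N9431 F48109) (tt N16598 (iv F55953)) (tt N9430 (iv D23930)) (tt N13697 (iv F48170)) (tt N16654 (iv F56165)) (tt N14732 F50891) (tt N13696 (iv F48167)))
theorem Q13683 : ∀ i, i < 13683 → P i := stepQ 13682 Q13682 (allL N13682 (tt N9432 F48110) (tt N9666 F48111) (tt N14732 (iv F50886)) (tt N9442 F48112) (tt N13929 (iv F48815)) (tt N9430 (iv D23931)) (tt N13679 F48113))
theorem Q13684 : ∀ i, i < 13684 → P i := stepQ 13683 Q13683 (allL N13683 (tt N13697 (iv F48168)) (tt N17556 (iv F58929)) (tt N9439 F48114) (tt N9431 (iv D23932)) (tt N17534 (iv F58847)) (tt N9438 (iv F48115)) (tt N13695 (iv F48163)))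
theorem Q13685 : ∀ i, i < 13685 → P i := stepQ 13684 Q13684 (allL N13684 (tt N14732 (iv F50890)) (tt N13684 F48116) (tt N9432 F48117) (tt N9438 F48118) (tt N16273 (iv F54881)) (tt N9431 (iv D23933)) (tt N9443 F48119))
theorem Q13686 : ∀ i, i < 13686 → P i := stepQ 13685 Q13685 (allL N13685 (tt N13679 F48120) (tt N12460 F48121) (tt N9443 F48122) (tt N9445 F48123) (tt N12818 F48124) (tt N13677 F48125) (tt N9432 (iv D23934)))
theorem Q13687 : ∀ i, i < 13687 → P i := stepQ 13686 Q13686 (allL N13686 (tt N9433 (iv D23935)) (tt N9715 F48126) (tt N13699 (iv F48177)) (tt N9446 F48127) (tt N9736 F48128) (tt N9434 F48129) (tt N13694 (iv F48159)))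
theorem Q13688 : ∀ i, i < 13688 → P i := stepQ 13687 Q13687 (allL N13687 (tt N13699 (iv F48176)) (tt N15019 (iv F51884)) (tt N9433 (iv D23936)) (tt N13698 (iv F48174)) (tt N12486 F48130) (tt N9435 F48131) (tt N12465 (iv F48132)))
theorem Q13689 : ∀ i, i < 13689 → P i := stepQ 13688 Q13688 (allL N13688 (tt N13694 (iv F48154)) (tt N12434 F48133) (tt N12465 F48134) (tt N9448 F48135) (tt N12481 F48136) (tt N13691 (iv F48147)) (tt N9433 (iv D23937)))
theorem Q13690 : ∀ i, i < 13690 → P i := stepQ 13689 Q13689 (allL N13689 (tt N13525 F48137) (tt N9434 (iv D23938)) (tt N10736 (iv F48141)) (tt N9449 F48138) (tt N10767 F48139) (tt N10381 F48140) (tt N9731 (iv F48142)))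
theorem Q13691 : ∀ i, i < 13691 → P i := stepQ 13690 Q13690 (allL N13690 (tt N9435 F48143) (tt N16621 (iv F56030)) (tt N9434 (iv D23939)) (tt N13700 (iv F48182)) (tt N16672 (iv F56234)) (tt N13699 F48179) (tt N14713 F50828))
theorem Q13692 : ∀ i, i < 13692 → P i := stepQ 13691 Q13691 (allL N13691 (tt N9436 F48144) (tt N9659 F48145) (tt N14713 (iv F50823)) (tt N9451 F48146) (tt N13932 (iv F48823)) (tt N13688 F48147) (tt N9434 (iv D23940)))
theorem Q13693 : ∀ i, i < 13693 → P i := stepQ 13692 Q13692 (allL N13692 (tt N13700 (iv F48180)) (tt N17557 (iv F58933)) (tt N9448 F48148) (tt N9435 (iv D23941)) (tt N17538 (iv F58861)) (tt N13698 (iv F48175)) (tt N9447 (iv F48149)))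
theorem Q13694 : ∀ i, i < 13694 → P i := stepQ 13693 Q13693 (allL N13693 (tt N14713 (iv F50827)) (tt N13693 F48150) (tt N9436 F48151) (tt N9447 F48152) (tt N16428 (iv F55391)) (tt N9452 (iv F48153)) (tt N9435 (iv D23942)))
theorem Q13695 : ∀ i, i < 13695 → P i := stepQ 13694 Q13694 (allL N13694 (tt N13688 F48154) (tt N12494 F48155) (tt N9452 F48156) (tt N9454 F48157) (tt N12820 F48158) (tt N9436 (iv D23943)) (tt N13686 F48159))
theorem Q13696 : ∀ i, i < 13696 → P i := stepQ 13695 Q13695 (allL N13695 (tt N9444 F48160) (tt N17558 D27878) (tt N9442 F48161) (tt N13678 F48162) (tt N17535 (iv F58850)) (tt N9441 (iv D23944)) (tt N13683 F48163))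
theorem Q13697 : ∀ i, i < 13697 → P i := stepQ 13696 Q13696 (allL N13696 (tt N13678 F48164) (tt N16523 (iv F55716)) (tt N13677 F48165) (tt N9444 F48166) (tt N14007 (iv F49023)) (tt N9443 (iv D23945)) (tt N13681 F48167))
theorem Q13698 : ∀ i, i < 13698 → P i := stepQ 13697 Q13697 (allL N13697 (tt N13683 F48168) (tt N14736 (iv F50907)) (tt N9445 F48169) (tt N13681 F48170) (tt N17537 (iv F58858)) (tt N10363 F48171) (tt N9444 (iv D23946)))
theorem Q13699 : ∀ i, i < 13699 → P i := stepQ 13698 Q13698 (allL N13698 (tt N9453 F48172) (tt N17559 D27879) (tt N9451 F48173) (tt N13687 F48174) (tt N17539 (iv F58864)) (tt N13692 F48175) (tt N9450 (iv D23947)))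
theorem Q13700 : ∀ i, i < 13700 → P i := stepQ 13699 Q13699 (allL N13699 (tt N13687 F48176) (tt N16416 (iv F55349)) (tt N13686 F48177) (tt N9453 F48178) (tt N13988 (iv F48981)) (tt N13690 (iv F48179)) (tt N9452 (iv D23948)))
theorem Q13701 : ∀ i, i < 13701 → P i := stepQ 13700 Q13700 (allL N13700 (tt N13692 F48180) (tt N14717 (iv F50842)) (tt N9454 F48181) (tt N13690 F48182) (tt N17541 (iv F58872)) (tt N9453 (iv D23949)) (tt N10326 F48183))
theorem Q13702 : ∀ i, i < 13702 → P i := stepQ 13701 Q13701 (allL N13701 (tt N9458 F48184) (tt N13593 (iv F48188)) (tt N9457 F48185) (tt N13702 (iv F48191)) (tt N9465 F48186) (tt N10816 F48187) (tt N9456 (iv D23950)))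
theorem Q13703 : ∀ i, i < 13703 → P i := stepQ 13702 Q13702 (allL N13702 (tt N10816 F48189) (tt N10689 (iv F48194)) (tt N9459 F48190) (tt N13701 F48191) (tt N9468 F48192) (tt N9458 (iv D23951)) (tt N10815 F48193))
theorem Q13704 : ∀ i, i < 13704 → P i := stepQ 13703 Q13703 (allL N13703 (tt N9463 F48195) (tt N13573 F48199) (tt N9462 F48196) (tt N13704 (iv F48202)) (tt N9470 F48197) (tt N9461 (iv D23952)) (tt N10837 F48198))
theorem Q13705 : ∀ i, i < 13705 → P i := stepQ 13704 Q13704 (allL N13704 (tt N10837 F48200) (tt N10773 (iv F48205)) (tt N9464 F48201) (tt N13703 F48202) (tt N9473 F48203) (tt N10836 F48204) (tt N9463 (iv D23953)))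
theorem Q13706 : ∀ i, i < 13706 → P i := stepQ 13705 Q13705 (allL N13705 (tt N13592 F48206) (tt N9465 (iv D23954)) (tt N16636 (iv F56081)) (tt N13549 F48207) (tt N13593 F48208) (tt N14909 (iv F51516)) (tt N13593 F48209))
theorem Q13707 : ∀ i, i < 13707 → P i := stepQ 13706 Q13706 (allL N13706 (tt N10677 F48215) (tt N9468 (iv D23955)) (tt N10684 F48210) (tt N13545 F48211) (tt N10689 F48212) (tt N10690 F48213) (tt N13545 F48214))
theorem Q13708 : ∀ i, i < 13708 → P i := stepQ 13707 Q13707 (allL N13707 (tt N13571 F48216) (tt N9470 (iv D23956)) (tt N16640 (iv F56102)) (tt N13580 F48217) (tt N13573 F48218) (tt N13573 F48219) (tt N14964 (iv F51703)))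
theorem Q13709 : ∀ i, i < 13709 → P i := stepQ 13708 Q13708 (allL N13708 (tt N10761 (iv F48225)) (tt N9473 (iv D23957)) (tt N10768 F48220) (tt N13576 F48221) (tt N10773 F48222) (tt N13576 F48223) (tt N10774 F48224))
theorem Q13710 : ∀ i, i < 13710 → P i := stepQ 13709 Q13709 (allL N13709 (tt N13966 (iv F48909)) (tt N16288 (iv F54938)) (tt N9476 (iv D23958)) (tt N13716 (iv F48247)) (tt N17544 (iv F58884)) (tt N13944 (iv F48860)) (tt N9479 F48226))
theorem Q13711 : ∀ i, i < 13711 → P i := stepQ 13710 Q13710 (allL N13710 (tt N9488 F48227) (tt N9477 (iv D23959)) (tt N16300 (iv F54984)) (tt N16644 (iv F56124)) (tt N17542 (iv F58876)) (tt N9681 F48228) (tt N9486 F48229))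
theorem Q13712 : ∀ i, i < 13712 → P i := stepQ 13711 Q13711 (allL N13711 (tt N9480 F48230) (tt N9484 F48231) (tt N16358 (iv F55161)) (tt N16639 (iv F56097)) (tt N17543 (iv F58881)) (tt N9478 (iv D23960)) (tt N9703 F48232))
theorem Q13713 : ∀ i, i < 13713 → P i := stepQ 13712 Q13712 (allL N13712 (tt N16358 (iv F55159)) (tt N14129 F49376) (tt N9480 F48233) (tt N13715 (iv F48245)) (tt N17546 (iv F58888)) (tt N9479 (iv D23961)) (tt N9704 (iv F48234)))
theorem Q13714 : ∀ i, i < 13714 → P i := stepQ 13713 Q13713 (allL N13713 (tt N12166 F48235) (tt N12222 (iv F48239)) (tt N9482 F48236) (tt N10698 F48237) (tt N17547 (iv F58893)) (tt N10697 F48238) (tt N9481 (iv D23962)))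
theorem Q13715 : ∀ i, i < 13715 → P i := stepQ 13714 Q13714 (allL N13714 (tt N9877 F48240) (tt N13718 (iv F48255)) (tt N10697 F48241) (tt N13495 F48242) (tt N17548 (iv F58899)) (tt N9482 (iv D23963)) (tt N9875 F48243))
theorem Q13716 : ∀ i, i < 13716 → P i := stepQ 13715 Q13715 (allL N13715 (tt N13945 (iv F48861)) (tt N16442 (iv F55447)) (tt N9483 (iv D23964)) (tt N13712 F48245) (tt N17549 (iv F58901)) (tt N9487 F48244) (tt N13942 (iv F48855)))
theorem Q13717 : ∀ i, i < 13717 → P i := stepQ 13716 Q13716 (allL N13716 (tt N16300 (iv F54983)) (tt N14078 F54942) (tt N9488 F48246) (tt N13709 F48247) (tt N17551 (iv F58906)) (tt N9682 (iv F48248)) (tt N9487 (iv D23965)))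
theorem Q13718 : ∀ i, i < 13718 → P i := stepQ 13717 Q13717 (allL N13717 (tt N11963 F48249) (tt N12281 (iv F48253)) (tt N9490 F48250) (tt N10783 F48251) (tt N17552 (iv F58911)) (tt N9489 (iv D23966)) (tt N10781 F48252))
theorem Q13719 : ∀ i, i < 13719 → P i := stepQ 13718 Q13718 (allL N13718 (tt N9824 F48254) (tt N13714 F48255) (tt N10781 F48256) (tt N13497 F48257) (tt N17553 (iv F58918)) (tt N9822 F48258) (tt N9490 (iv D23967)))
theorem Q13720 : ∀ i, i < 13720 → P i := stepQ 13719 Q13719 (allL N13719 (tt N10978 F48259) (tt N17560 D27880) (tt N9491 (iv D23968)) (tt N13723 (iv F48270)) (tt N15033 (iv F51916)) (tt N9530 F48260) (tt N15150 (iv F52191)))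
theorem Q13721 : ∀ i, i < 13721 → P i := stepQ 13720 Q13720 (allL N13720 (tt N11003 F48261) (tt N17561 D27881) (tt N9492 (iv D23969)) (tt N13748 (iv F48337)) (tt N15045 (iv F51943)) (tt N15183 (iv F52243)) (tt N9543 F48262))
theorem Q13722 : ∀ i, i < 13722 → P i := stepQ 13721 Q13721 (allL N13721 (tt N17520 (iv F58800)) (tt N9495 F48263) (tt N17562 D27882) (tt N9494 (iv D23970)) (tt N12972 F48264) (tt N12971 F48265) (tt N17563 D27883))
theorem Q13723 : ∀ i, i < 13723 → P i := stepQ 13722 Q13722 (allL N13722 (tt N17399 (iv F58325)) (tt N13808 (iv F48503)) (tt N13397 F48266) (tt N17563 (iv F58949)) (tt N9670 F48267) (tt N13618 F48268) (tt N9494 (iv D23971)))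
theorem Q13724 : ∀ i, i < 13724 → P i := stepQ 13723 Q13723 (allL N13723 (tt N9496 F48269) (tt N17564 D27884) (tt N9495 (iv D23972)) (tt N13719 F48270) (tt N17565 D27885) (tt N9559 F48271) (tt N13803 (iv F48494)))
theorem Q13725 : ∀ i, i < 13725 → P i := stepQ 13724 Q13724 (allL N13724 (tt N9497 F48272) (tt N12972 F48273) (tt N17565 (iv F58954)) (tt N9671 F48274) (tt N9495 (iv D23973)) (tt N9560 F48275) (tt N13804 (iv F48498)))
theorem Q13726 : ∀ i, i < 13726 → P i := stepQ 13725 Q13725 (allL N13725 (tt N14653 (iv F50652)) (tt N9496 (iv D23974)) (tt N10028 F48276) (tt N12868 F48277) (tt N17566 D27886) (tt N10028 F48278) (tt N17567 D27887))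
theorem Q13727 : ∀ i, i < 13727 → P i := stepQ 13726 Q13726 (allL N13726 (tt N17565 (iv F58953)) (tt N17566 (iv F58956)) (tt N9497 F48279) (tt N17568 D27888) (tt N9496 (iv D23975)) (tt N9566 F48280) (tt N17569 D27889))
theorem Q13728 : ∀ i, i < 13728 → P i := stepQ 13727 Q13727 (allL N13727 (tt N13803 (iv F48492)) (tt N17570 D27890) (tt N9498 F48281) (tt N15148 (iv F52184)) (tt N17569 (iv F58965)) (tt N13791 (iv F48469)) (tt N9496 (iv D23976)))
theorem Q13729 : ∀ i, i < 13729 → P i := stepQ 13728 Q13728 (allL N13728 (tt N13804 (iv F48495)) (tt N17571 D27891) (tt N17569 (iv F58964)) (tt N9672 F48282) (tt N9498 F48283) (tt N13792 (iv F48473)) (tt N9497 (iv D23977)))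
theorem Q13730 : ∀ i, i < 13730 → P i := stepQ 13729 Q13729 (allL N13729 (tt N17572 D27892) (tt N9498 (iv D23978)) (tt N17573 D27893) (tt N9499 F48284) (tt N17571 (iv F58967)) (tt N17574 D27894) (tt N10033 F48285))
theorem Q13731 : ∀ i, i < 13731 → P i := stepQ 13730 Q13730 (allL N13730 (tt N9499 (iv D23979)) (tt N15738 (iv F53504)) (tt N17575 D27895) (tt N17572 (iv F58969)) (tt N9674 F48286) (tt N14320 (iv F49883)) (tt N10034 F48287))
theorem Q13732 : ∀ i, i < 13732 → P i := stepQ 13731 Q13731 (allL N13731 (tt N17575 (iv F58973)) (tt N9501 F48288) (tt N9499 (iv D23980)) (tt N16662 (iv F56193)) (tt N9675 F48289) (tt N16643 (iv F56119)) (tt N10035 F48290))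
theorem Q13733 : ∀ i, i < 13733 → P i := stepQ 13732 Q13732 (allL N13732 (tt N14320 (iv F49881)) (tt N13796 (iv F48478)) (tt N16643 (iv F56117)) (tt N17574 (iv F58972)) (tt N9676 F48291) (tt N9499 (iv D23981)) (tt N14318 (iv F49875)))
theorem Q13734 : ∀ i, i < 13734 → P i := stepQ 13733 Q13733 (allL N13733 (tt N13624 F48292) (tt N9500 (iv D23982)) (tt N16278 (iv F54899)) (tt N13634 F48293) (tt N9677 F48294) (tt N13622 (iv F48295)) (tt N17526 (iv F58824)))
theorem Q13735 : ∀ i, i < 13735 → P i := stepQ 13734 Q13734 (allL N13734 (tt N9501 F48296) (tt N16281 (iv F54910)) (tt N9500 (iv D23983)) (tt N17576 D27896) (tt N9678 F48297) (tt N13744 (iv F48325)) (tt N9504 F48298))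
theorem Q13736 : ∀ i, i < 13736 → P i := stepQ 13735 Q13735 (allL N13735 (tt N17576 (iv F58978)) (tt N16662 (iv F56192)) (tt N12706 (iv F48301)) (tt N9501 (iv D23984)) (tt N12795 F48299) (tt N17577 D27897) (tt N9506 F48300))
theorem Q13737 : ∀ i, i < 13737 → P i := stepQ 13736 Q13736 (allL N13736 (tt N13744 (iv F48322)) (tt N17578 D27898) (tt N9502 F48302) (tt N17577 (iv F58983)) (tt N9680 F48303) (tt N9501 (iv D23985)) (tt N13742 (iv F48318)))
theorem Q13738 : ∀ i, i < 13738 → P i := stepQ 13737 Q13737 (allL N13737 (tt N9503 (iv D23986)) (tt N13762 (iv F48371)) (tt N17579 D27899) (tt N13762 (iv F48372)) (tt N9681 F48304) (tt N17542 (iv F58877)) (tt N13657 (iv F48305)))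
theorem Q13739 : ∀ i, i < 13739 → P i := stepQ 13738 Q13738 (allL N13738 (tt N17579 (iv F58989)) (tt N17580 D27900) (tt N9503 (iv D23987)) (tt N17581 D27901) (tt N9682 F48306) (tt N17551 F58907) (tt N17582 D27902))
theorem Q13740 : ∀ i, i < 13740 → P i := stepQ 13739 Q13739 (allL N13739 (tt N13657 F48307) (tt N17526 (iv F58821)) (tt N17582 (iv F58995)) (tt N13654 F48308) (tt N9683 F48309) (tt N13648 F48310) (tt N9503 (iv D23988)))
theorem Q13741 : ∀ i, i < 13741 → P i := stepQ 13740 Q13740 (allL N13740 (tt N17583 D27903) (tt N9504 (iv D23989)) (tt N17580 (iv F58992)) (tt N17584 D27904) (tt N9684 F48311) (tt N17585 D27905) (tt N16305 (iv F55003)))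
theorem Q13742 : ∀ i, i < 13742 → P i := stepQ 13741 Q13741 (allL N13741 (tt N9506 F48312) (tt N17584 (iv F59000)) (tt N12648 F48313) (tt N9504 (iv D23990)) (tt N12796 (iv F48314)) (tt N17586 D27906) (tt N17576 (iv F58980)))
theorem Q13743 : ∀ i, i < 13743 → P i := stepQ 13742 Q13742 (allL N13742 (tt N9507 F48315) (tt N17587 D27907) (tt N9505 F48316) (tt N17586 (iv F59006)) (tt N9686 F48317) (tt N9504 (iv D23991)) (tt N13736 F48318))
theorem Q13744 : ∀ i, i < 13744 → P i := stepQ 13743 Q13743 (allL N13743 (tt N17586 (iv F59004)) (tt N15676 (iv F53339)) (tt N12707 F48319) (tt N9507 F48320) (tt N12798 F48321) (tt N9506 (iv D23992)) (tt N17588 D27908))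
theorem Q13745 : ∀ i, i < 13745 → P i := stepQ 13744 Q13744 (allL N13744 (tt N13736 F48322) (tt N17589 D27909) (tt N9508 F48323) (tt N17588 (iv F59012)) (tt N9690 F48324) (tt N13734 F48325) (tt N9507 (iv D23993)))
theorem Q13746 : ∀ i, i < 13746 → P i := stepQ 13745 Q13745 (allL N13745 (tt N13656 (iv F48329)) (tt N9508 (iv D23994)) (tt N15918 (iv F53974)) (tt N9603 F48326) (tt N9691 F48327) (tt N13886 (iv F48704)) (tt N9542 F48328))
theorem Q13747 : ∀ i, i < 13747 → P i := stepQ 13746 Q13746 (allL N13746 (tt N17521 (iv F58804)) (tt N9511 F48330) (tt N17590 D27910) (tt N9510 (iv D23995)) (tt N13048 F48331) (tt N17591 D27911) (tt N13046 F48332))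
theorem Q13748 : ∀ i, i < 13748 → P i := stepQ 13747 Q13747 (allL N13747 (tt N17417 (iv F58393)) (tt N13857 (iv F48624)) (tt N13449 F48333) (tt N17591 (iv F59020)) (tt N9692 F48334) (tt N9510 (iv D23996)) (tt N13620 F48335))
theorem Q13749 : ∀ i, i < 13749 → P i := stepQ 13748 Q13748 (allL N13748 (tt N9512 F48336) (tt N17592 D27912) (tt N9511 (iv D23997)) (tt N13720 F48337) (tt N17593 D27913) (tt N13852 (iv F48615)) (tt N9597 F48338))
theorem Q13750 : ∀ i, i < 13750 → P i := stepQ 13749 Q13749 (allL N13749 (tt N9513 F48339) (tt N13048 F48340) (tt N17593 (iv F59025)) (tt N9693 F48341) (tt N9511 (iv D23998)) (tt N13853 (iv F48619)) (tt N9598 F48342))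
theorem Q13751 : ∀ i, i < 13751 → P i := stepQ 13750 Q13750 (allL N13750 (tt N14684 F50734) (tt N9512 (iv D23999)) (tt N10062 F48343) (tt N12880 F48344) (tt N17594 D27914) (tt N17595 D27915) (tt N10062 F48345))
theorem Q13752 : ∀ i, i < 13752 → P i := stepQ 13751 Q13751 (allL N13751 (tt N17593 (iv F59024)) (tt N17594 (iv F59027)) (tt N9513 F48346) (tt N17596 D27916) (tt N9512 (iv D24000)) (tt N17597 D27917) (tt N9604 F48347))
theorem Q13753 : ∀ i, i < 13753 → P i := stepQ 13752 Q13752 (allL N13752 (tt N13852 (iv F48613)) (tt N17598 D27918) (tt N9514 F48348) (tt N15184 (iv F52246)) (tt N17597 (iv F59036)) (tt N9512 (iv D24001)) (tt N13841 (iv F48595)))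
theorem Q13754 : ∀ i, i < 13754 → P i := stepQ 13753 Q13753 (allL N13753 (tt N13853 (iv F48616)) (tt N17599 D27919) (tt N17597 (iv F59035)) (tt N9694 F48349) (tt N9514 F48350) (tt N9513 (iv D24002)) (tt N13842 (iv F48599)))
theorem Q13755 : ∀ i, i < 13755 → P i := stepQ 13754 Q13754 (allL N13754 (tt N17600 D27920) (tt N9514 (iv D24003)) (tt N17601 D27921) (tt N9515 F48351) (tt N17599 (iv F59038)) (tt N10067 F48352) (tt N17602 D27922))
theorem Q13756 : ∀ i, i < 13756 → P i := stepQ 13755 Q13755 (allL N13755 (tt N9515 (iv D24004)) (tt N15963 (iv F54095)) (tt N17603 D27923) (tt N17600 (iv F59040)) (tt N9696 F48353) (tt N10068 F48354) (tt N14375 (iv F50019)))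
theorem Q13757 : ∀ i, i < 13757 → P i := stepQ 13756 Q13756 (allL N13756 (tt N17603 (iv F59044)) (tt N9517 F48355) (tt N9515 (iv D24005)) (tt N16641 (iv F56108)) (tt N9697 F48356) (tt N10069 F48357) (tt N16638 (iv F56094)))
theorem Q13758 : ∀ i, i < 13758 → P i := stepQ 13757 Q13757 (allL N13757 (tt N14375 (iv F50017)) (tt N13846 (iv F48604)) (tt N16638 (iv F56091)) (tt N17602 (iv F59043)) (tt N9698 F48358) (tt N14373 (iv F50011)) (tt N9515 (iv D24006)))
theorem Q13759 : ∀ i, i < 13759 → P i := stepQ 13758 Q13758 (allL N13758 (tt N13628 F48359) (tt N9516 (iv D24007)) (tt N16433 (iv F55408)) (tt N13643 F48360) (tt N9699 F48361) (tt N17530 (iv F58837)) (tt N13626 F48362))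
theorem Q13760 : ∀ i, i < 13760 → P i := stepQ 13759 Q13759 (allL N13759 (tt N9517 F48363) (tt N16436 (iv F55419)) (tt N9516 (iv D24008)) (tt N17604 D27924) (tt N9700 F48364) (tt N9520 F48365) (tt N13769 (iv F48394)))
theorem Q13761 : ∀ i, i < 13761 → P i := stepQ 13760 Q13760 (allL N13760 (tt N17604 (iv F59049)) (tt N16641 (iv F56107)) (tt N12677 (iv F48368)) (tt N9517 (iv D24009)) (tt N12770 F48366) (tt N9522 F48367) (tt N17605 D27925))
theorem Q13762 : ∀ i, i < 13762 → P i := stepQ 13761 Q13761 (allL N13761 (tt N13769 (iv F48391)) (tt N17606 D27926) (tt N9518 F48369) (tt N17605 (iv F59054)) (tt N9702 F48370) (tt N13767 (iv F48387)) (tt N9517 (iv D24010)))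
theorem Q13763 : ∀ i, i < 13763 → P i := stepQ 13762 Q13762 (allL N13762 (tt N9519 (iv D24011)) (tt N13737 F48371) (tt N17607 D27927) (tt N13737 F48372) (tt N9703 F48373) (tt N13652 F48374) (tt N17543 (iv F58883)))
theorem Q13764 : ∀ i, i < 13764 → P i := stepQ 13763 Q13763 (allL N13763 (tt N17607 (iv F59060)) (tt N17608 D27928) (tt N9519 (iv D24012)) (tt N17609 D27929) (tt N9704 F48375) (tt N17610 D27930) (tt N17546 F58889))
theorem Q13765 : ∀ i, i < 13765 → P i := stepQ 13764 Q13764 (allL N13764 (tt N13652 F48376) (tt N17530 (iv F58834)) (tt N17610 (iv F59066)) (tt N13660 F48377) (tt N9705 F48378) (tt N9519 (iv D24013)) (tt N13650 F48379))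
theorem Q13766 : ∀ i, i < 13766 → P i := stepQ 13765 Q13765 (allL N13765 (tt N17611 D27931) (tt N9520 (iv D24014)) (tt N17608 (iv F59063)) (tt N17612 D27932) (tt N9706 F48380) (tt N16454 (iv F55495)) (tt N17613 D27933))
theorem Q13767 : ∀ i, i < 13767 → P i := stepQ 13766 Q13766 (allL N13766 (tt N9522 F48381) (tt N17612 (iv F59071)) (tt N12657 F48382) (tt N9520 (iv D24015)) (tt N12771 (iv F48383)) (tt N17604 (iv F59052)) (tt N17614 D27934))
theorem Q13768 : ∀ i, i < 13768 → P i := stepQ 13767 Q13767 (allL N13767 (tt N9523 F48384) (tt N17615 D27935) (tt N9521 F48385) (tt N17614 (iv F59077)) (tt N9708 F48386) (tt N13761 F48387) (tt N9520 (iv D24016)))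
theorem Q13769 : ∀ i, i < 13769 → P i := stepQ 13768 Q13768 (allL N13768 (tt N17614 (iv F59075)) (tt N15906 (iv F53931)) (tt N12678 F48388) (tt N9523 F48389) (tt N12773 F48390) (tt N17616 D27936) (tt N9522 (iv D24017)))
theorem Q13770 : ∀ i, i < 13770 → P i := stepQ 13769 Q13769 (allL N13769 (tt N13761 F48391) (tt N17617 D27937) (tt N9524 F48392) (tt N17616 (iv F59083)) (tt N9712 F48393) (tt N9523 (iv D24018)) (tt N13759 F48394))
theorem Q13771 : ∀ i, i < 13771 → P i := stepQ 13770 Q13770 (allL N13770 (tt N13662 (iv F48398)) (tt N9524 (iv D24019)) (tt N15688 (iv F53382)) (tt N9565 F48395) (tt N9713 F48396) (tt N9529 F48397) (tt N13837 (iv F48583)))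
theorem Q13772 : ∀ i, i < 13772 → P i := stepQ 13771 Q13771 (allL N13771 (tt N9590 F48399) (tt N9528 (iv D24020)) (tt N15635 (iv F53243)) (tt N9556 F48400) (tt N9822 F48401) (tt N17553 (iv F58919)) (tt N9529 F48402))
theorem Q13773 : ∀ i, i < 13773 → P i := stepQ 13772 Q13772 (allL N13772 (tt N9981 F48403) (tt N9958 F48404) (tt N9531 F48405) (tt N17618 D27938) (tt N9530 (iv D24021)) (tt N15033 (iv F51917)) (tt N15431 (iv F52753)))
theorem Q13774 : ∀ i, i < 13774 → P i := stepQ 13773 Q13773 (allL N13773 (tt N10979 F48406) (tt N16732 (iv F56427)) (tt N9532 F48407) (tt N13791 (iv F48468)) (tt N15431 (iv F52752)) (tt N15148 (iv F52185)) (tt N9530 (iv D24022)))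
theorem Q13775 : ∀ i, i < 13775 → P i := stepQ 13774 Q13774 (allL N13774 (tt N10090 F48408) (tt N10103 F48409) (tt N17619 D27939) (tt N9534 (iv D24023)) (tt N11116 F48410) (tt N10088 F48411) (tt N9539 F48412))
theorem Q13776 : ∀ i, i < 13776 → P i := stepQ 13775 Q13775 (allL N13775 (tt N14633 (iv F50594)) (tt N14349 (iv F49962)) (tt N9536 (iv D24024)) (tt N17620 D27940) (tt N10532 F48413) (tt N13872 (iv F48659)) (tt N10254 F48414))
theorem Q13777 : ∀ i, i < 13777 → P i := stepQ 13776 Q13776 (allL N13776 (tt N9537 (iv D24025)) (tt N13784 (iv F48443)) (tt N11085 F48415) (tt N9579 F48416) (tt N9856 F48417) (tt N13400 F48418) (tt N9616 (iv F48419)))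
theorem Q13778 : ∀ i, i < 13778 → P i := stepQ 13777 Q13777 (allL N13777 (tt N9616 F48420) (tt N13646 F48421) (tt N11088 F48422) (tt N9582 F48423) (tt N9854 F48424) (tt N9614 F48425) (tt N9537 (iv D24026)))
theorem Q13779 : ∀ i, i < 13779 → P i := stepQ 13778 Q13778 (allL N13778 (tt N11015 F48426) (tt N17621 D27941) (tt N9539 (iv D24027)) (tt N13826 (iv F48546)) (tt N15325 (iv F52569)) (tt N14395 (iv F50076)) (tt N17619 (iv F59094)))
theorem Q13780 : ∀ i, i < 13780 → P i := stepQ 13779 Q13779 (allL N13779 (tt N9628 F48427) (tt N9541 (iv D24028)) (tt N15869 (iv F53832)) (tt N9593 F48428) (tt N9875 F48429) (tt N9542 F48430) (tt N17548 (iv F58900)))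
theorem Q13781 : ∀ i, i < 13781 → P i := stepQ 13780 Q13780 (allL N13780 (tt N9998 F48431) (tt N9964 F48432) (tt N9544 F48433) (tt N17622 D27942) (tt N9543 (iv D24029)) (tt N15322 (iv F52561)) (tt N15045 (iv F51944)))
theorem Q13782 : ∀ i, i < 13782 → P i := stepQ 13781 Q13781 (allL N13781 (tt N11002 F48434) (tt N16728 (iv F56416)) (tt N9545 F48435) (tt N13841 (iv F48594)) (tt N15322 (iv F52560)) (tt N9543 (iv D24030)) (tt N15184 (iv F52247)))
theorem Q13783 : ∀ i, i < 13783 → P i := stepQ 13782 Q13782 (allL N13782 (tt N10109 F48436) (tt N10085 F48437) (tt N17623 D27943) (tt N9547 (iv D24031)) (tt N11106 F48438) (tt N9552 F48439) (tt N10107 F48440))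
theorem Q13784 : ∀ i, i < 13784 → P i := stepQ 13783 Q13783 (allL N13783 (tt N14584 (iv F50494)) (tt N14292 F49819) (tt N9549 (iv D24032)) (tt N17624 D27944) (tt N10487 F48441) (tt N10220 F48442) (tt N13822 (iv F48535)))
theorem Q13785 : ∀ i, i < 13785 → P i := stepQ 13784 Q13784 (allL N13784 (tt N9550 (iv D24033)) (tt N13776 F48443) (tt N11047 F48444) (tt N9617 F48445) (tt N9803 F48446) (tt N9578 F48448) (tt N13452 F48447))
theorem Q13786 : ∀ i, i < 13786 → P i := stepQ 13785 Q13785 (allL N13785 (tt N9578 F48449) (tt N13637 F48450) (tt N11049 F48451) (tt N9619 F48452) (tt N9801 F48453) (tt N9550 (iv D24034)) (tt N9576 F48454))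
theorem Q13787 : ∀ i, i < 13787 → P i := stepQ 13786 Q13786 (allL N13786 (tt N10991 F48455) (tt N17625 D27945) (tt N9552 (iv D24035)) (tt N13875 (iv F48667)) (tt N15430 (iv F52748)) (tt N17623 (iv F59102)) (tt N14417 (iv F50131)))
theorem Q13788 : ∀ i, i < 13788 → P i := stepQ 13787 Q13787 (allL N13787 (tt N17626 D27946) (tt N9554 (iv D24036)) (tt N14452 (iv F50211)) (tt N17188 (iv F57753)) (tt N9770 F48456) (tt N17627 D27947) (tt N13257 F48457))
theorem Q13789 : ∀ i, i < 13789 → P i := stepQ 13788 Q13788 (allL N13788 (tt N13641 F48458) (tt N13839 (iv F48587)) (tt N14453 (iv F50214)) (tt N17553 (iv F58917)) (tt N9771 F48459) (tt N9556 (iv D24037)) (tt N13797 (iv F48484)))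
theorem Q13790 : ∀ i, i < 13790 → P i := stepQ 13789 Q13789 (allL N13789 (tt N9603 F48460) (tt N9557 (iv D24038)) (tt N14489 (iv F50294)) (tt N13656 F48461) (tt N9772 F48462) (tt N13839 (iv F48589)) (tt N9601 F48463))
theorem Q13791 : ∀ i, i < 13791 → P i := stepQ 13790 Q13790 (allL N13790 (tt N9566 F48464) (tt N15088 (iv F52035)) (tt N9560 F48465) (tt N17628 D27948) (tt N9559 (iv D24039)) (tt N17565 (iv F58955)) (tt N17629 D27949))
theorem Q13792 : ∀ i, i < 13792 → P i := stepQ 13791 Q13791 (allL N13791 (tt N9567 F48466) (tt N17630 D27950) (tt N9561 F48467) (tt N13773 F48468) (tt N17629 (iv F59119)) (tt N13727 F48469) (tt N9559 (iv D24040)))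
theorem Q13793 : ∀ i, i < 13793 → P i := stepQ 13792 Q13792 (allL N13792 (tt N9568 F48470) (tt N17066 (iv F57428)) (tt N17629 (iv F59118)) (tt N9774 F48471) (tt N9561 F48472) (tt N13728 F48473) (tt N9560 (iv D24041)))
theorem Q13794 : ∀ i, i < 13794 → P i := stepQ 13793 Q13793 (allL N13793 (tt N17631 D27951) (tt N9561 (iv D24042)) (tt N17632 D27952) (tt N9562 F48474) (tt N17066 (iv F57430)) (tt N17633 D27953) (tt N17058 (iv F57410)))
theorem Q13795 : ∀ i, i < 13795 → P i := stepQ 13794 Q13794 (allL N13794 (tt N9562 (iv D24043)) (tt N15551 F53021) (tt N17634 D27954) (tt N17631 (iv F59122)) (tt N9775 F48475) (tt N17635 D27955) (tt N17404 (iv F58347)))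
theorem Q13796 : ∀ i, i < 13796 → P i := stepQ 13795 Q13795 (allL N13795 (tt N17634 (iv F59125)) (tt N9564 F48476) (tt N9562 (iv D24044)) (tt N17636 D27956) (tt N9776 F48477) (tt N15670 (iv F53315)) (tt N17403 (iv F58343)))
theorem Q13797 : ∀ i, i < 13797 → P i := stepQ 13796 Q13796 (allL N13796 (tt N17635 (iv F59130)) (tt N13732 F48478) (tt N15670 F53316) (tt N17633 (iv F59124)) (tt N9777 F48479) (tt N9562 (iv D24045)) (tt N17637 D27957))
theorem Q13798 : ∀ i, i < 13798 → P i := stepQ 13797 Q13797 (allL N13797 (tt N9565 F48480) (tt N9594 F48481) (tt N14440 (iv F50188)) (tt N13662 F48482) (tt N9778 F48483) (tt N9563 (iv D24046)) (tt N13788 F48484))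
theorem Q13799 : ∀ i, i < 13799 → P i := stepQ 13798 Q13798 (allL N13798 (tt N14439 F50186) (tt N17636 (iv F59135)) (tt N17368 F58201) (tt N9564 (iv D24047)) (tt N17638 D27958) (tt N17639 D27959) (tt N14449 (iv F50208)))
theorem Q13800 : ∀ i, i < 13800 → P i := stepQ 13799 Q13799 (allL N13799 (tt N14440 (iv F50187)) (tt N14663 F50677) (tt N9565 F48485) (tt N17639 (iv F59154)) (tt N9780 F48486) (tt N9564 (iv D24048)) (tt N10132 F48487))
theorem Q13801 : ∀ i, i < 13801 → P i := stepQ 13800 Q13800 (allL N13800 (tt N17628 (iv F59115)) (tt N10136 F48488) (tt N17640 D27960) (tt N9566 (iv D24049)) (tt N14245 (iv F49698)) (tt N17568 (iv F58963)) (tt N17641 D27961))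
theorem Q13802 : ∀ i, i < 13802 → P i := stepQ 13801 Q13801 (allL N13801 (tt N17629 (iv F59117)) (tt N17642 D27962) (tt N9568 F48489) (tt N17641 (iv F59158)) (tt N9567 F48490) (tt N17643 D27963) (tt N9566 (iv D24050)))
theorem Q13803 : ∀ i, i < 13803 → P i := stepQ 13802 Q13802 (allL N13802 (tt N17644 D27964) (tt N9567 (iv D24051)) (tt N16054 (iv F54283)) (tt N15149 (iv F52186)) (tt N17642 (iv F59159)) (tt N17645 D27965) (tt N10138 F48491))
theorem Q13804 : ∀ i, i < 13804 → P i := stepQ 13803 Q13803 (allL N13803 (tt N13727 F48492) (tt N17646 D27966) (tt N9569 F48493) (tt N15150 (iv F52190)) (tt N17643 (iv F59163)) (tt N9567 (iv D24052)) (tt N13723 F48494))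
theorem Q13805 : ∀ i, i < 13805 → P i := stepQ 13804 Q13804 (allL N13804 (tt N13728 F48495) (tt N17647 D27967) (tt N17643 (iv F59162)) (tt N9784 F48496) (tt N9569 F48497) (tt N9568 (iv D24053)) (tt N13724 F48498))
theorem Q13806 : ∀ i, i < 13806 → P i := stepQ 13805 Q13805 (allL N13805 (tt N17648 D27968) (tt N9569 (iv D24054)) (tt N17649 D27969) (tt N9570 F48499) (tt N17647 (iv F59167)) (tt N16059 (iv F54297)) (tt N17650 D27970))
theorem Q13807 : ∀ i, i < 13807 → P i := stepQ 13806 Q13806 (allL N13806 (tt N9570 (iv D24055)) (tt N14052 (iv F49142)) (tt N17651 D27971) (tt N17648 (iv F59168)) (tt N9786 F48500) (tt N16062 (iv F54307)) (tt N17652 D27972))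
theorem Q13808 : ∀ i, i < 13808 → P i := stepQ 13807 Q13807 (allL N13807 (tt N17651 (iv F59171)) (tt N9577 F48501) (tt N9570 (iv D24056)) (tt N17653 D27973) (tt N9787 F48502) (tt N16063 (iv F54310)) (tt N17654 D27974))
theorem Q13809 : ∀ i, i < 13809 → P i := stepQ 13808 Q13808 (allL N13808 (tt N17652 (iv F59174)) (tt N13722 F48503) (tt N17654 (iv F59180)) (tt N17650 (iv F59170)) (tt N9788 F48504) (tt N17655 D27975) (tt N9570 (iv D24057)))
theorem Q13810 : ∀ i, i < 13810 → P i := stepQ 13809 Q13809 (allL N13809 (tt N15925 F53998) (tt N17656 D27976) (tt N9571 (iv D24058)) (tt N17657 D27977) (tt N9790 F48505) (tt N17531 (iv F58840)) (tt N17658 D27978))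
theorem Q13811 : ∀ i, i < 13811 → P i := stepQ 13810 Q13810 (allL N13810 (tt N17530 (iv F58833)) (tt N9582 F48506) (tt N17658 (iv F59193)) (tt N13646 F48507) (tt N9792 F48508) (tt N13628 F48509) (tt N9571 (iv D24059)))
theorem Q13812 : ∀ i, i < 13812 → P i := stepQ 13811 Q13811 (allL N13811 (tt N17659 D27979) (tt N9572 (iv D24060)) (tt N17656 (iv F59186)) (tt N17660 D27980) (tt N9793 F48510) (tt N17661 D27981) (tt N17662 D27982))
theorem Q13813 : ∀ i, i < 13813 → P i := stepQ 13812 Q13812 (allL N13812 (tt N9573 F48511) (tt N17660 (iv F59199)) (tt N17663 D27983) (tt N9572 (iv D24061)) (tt N17664 D27984) (tt N13834 (iv F48575)) (tt N9584 F48512))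
theorem Q13814 : ∀ i, i < 13814 → P i := stepQ 13813 Q13813 (allL N13813 (tt N17663 (iv F59212)) (tt N17665 D27985) (tt N9573 (iv D24062)) (tt N14400 (iv F50088)) (tt N17666 D27986) (tt N14399 F50086) (tt N9586 F48513))
theorem Q13815 : ∀ i, i < 13815 → P i := stepQ 13814 Q13814 (allL N13814 (tt N17664 (iv F59215)) (tt N16021 (iv F54213)) (tt N17666 (iv F59219)) (tt N9796 F48514) (tt N9573 (iv D24063)) (tt N17667 D27987) (tt N9587 F48515))
theorem Q13816 : ∀ i, i < 13816 → P i := stepQ 13815 Q13815 (allL N13815 (tt N13834 (iv F48573)) (tt N17668 D27988) (tt N14399 (iv F50085)) (tt N9574 F48516) (tt N17667 (iv F59222)) (tt N9573 (iv D24064)) (tt N13828 (iv F48561)))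
theorem Q13817 : ∀ i, i < 13817 → P i := stepQ 13816 Q13816 (allL N13816 (tt N12290 (iv F48518)) (tt N9574 (iv D24065)) (tt N15230 (iv F52327)) (tt N17668 (iv F59224)) (tt N9798 F48517) (tt N15599 (iv F53121)) (tt N12285 (iv F48519)))
theorem Q13818 : ∀ i, i < 13818 → P i := stepQ 13817 Q13817 (allL N13817 (tt N9577 F48520) (tt N17669 D27989) (tt N9576 (iv D24066)) (tt N17670 D27990) (tt N9800 F48521) (tt N15242 (iv F52355)) (tt N11049 F48522))
theorem Q13819 : ∀ i, i < 13819 → P i := stepQ 13818 Q13818 (allL N13818 (tt N17670 (iv F59231)) (tt N17653 (iv F59177)) (tt N17671 D27991) (tt N9577 (iv D24067)) (tt N13015 F48523) (tt N15246 F52363) (tt N17672 D27992))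
theorem Q13820 : ∀ i, i < 13820 → P i := stepQ 13819 Q13819 (allL N13819 (tt N11049 F48524) (tt N15295 (iv F52486)) (tt N9578 F48525) (tt N17672 (iv F59238)) (tt N9802 F48526) (tt N11047 (iv F48527)) (tt N9577 (iv D24068)))
theorem Q13821 : ∀ i, i < 13821 → P i := stepQ 13820 Q13820 (allL N13820 (tt N10207 F48528) (tt N9580 (iv D24069)) (tt N9583 F48529) (tt N13128 F48547) (tt N9804 F48530) (tt N17673 D27993) (tt N15546 (iv F53006)))
theorem Q13822 : ∀ i, i < 13822 → P i := stepQ 13821 Q13821 (allL N13821 (tt N10213 F48531) (tt N13128 (iv F48549)) (tt N13142 F48556) (tt N9580 (iv D24070)) (tt N17674 D27994) (tt N17675 D27995) (tt N17676 D27996))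
theorem Q13823 : ∀ i, i < 13823 → P i := stepQ 13822 Q13822 (allL N13822 (tt N10219 F48532) (tt N14503 (iv F50324)) (tt N9581 F48533) (tt N17675 (iv F59252)) (tt N9806 F48534) (tt N9580 (iv D24071)) (tt N13783 F48535))
theorem Q13824 : ∀ i, i < 13824 → P i := stepQ 13823 Q13823 (allL N13823 (tt N10220 F48536) (tt N15534 F52979) (tt N9582 F48537) (tt N17676 (iv F59259)) (tt N9807 F48538) (tt N14584 (iv F50497)) (tt N9580 (iv D24072)))
theorem Q13825 : ∀ i, i < 13825 → P i := stepQ 13824 Q13824 (allL N13824 (tt N17202 (iv F57795)) (tt N11481 (iv F48543)) (tt N17673 (iv F59243)) (tt N17200 (iv F57789)) (tt N9810 F48542) (tt N9583 (iv D24075)) (tt N17677 D27997))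
theorem Q13826 : ∀ i, i < 13826 → P i := stepQ 13825 Q13825 (allL N13825 (tt N17061 (iv F57416)) (tt N17662 (iv F59208)) (tt N15546 F53008) (tt N17060 F57415) (tt N9811 F48544) (tt N17678 D27998) (tt N9583 (iv D24076)))
theorem Q13827 : ∀ i, i < 13827 → P i := stepQ 13826 Q13826 (allL N13826 (tt N9586 F48545) (tt N17199 (iv F57783)) (tt N9584 (iv D24077)) (tt N13778 F48546) (tt N17679 D27999) (tt N17680 D28000) (tt N17663 (iv F59214)))
theorem Q13828 : ∀ i, i < 13828 → P i := stepQ 13827 Q13827 (allL N13827 (tt N9587 F48557) (tt N17193 F57767) (tt N17679 (iv F59271)) (tt N9813 F48558) (tt N9584 (iv D24078)) (tt N17681 D28001) (tt N17664 (iv F59218)))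
theorem Q13829 : ∀ i, i < 13829 → P i := stepQ 13828 Q13828 (allL N13828 (tt N9588 F48559) (tt N17682 D28002) (tt N17680 (iv F59273)) (tt N9585 F48560) (tt N17681 (iv F59278)) (tt N9584 (iv D24079)) (tt N13815 F48561))
theorem Q13830 : ∀ i, i < 13830 → P i := stepQ 13829 Q13829 (allL N13829 (tt N11484 F48566) (tt N9585 (iv D24080)) (tt N11040 F48562) (tt N17682 (iv F59280)) (tt N9815 F48563) (tt N11481 F48564) (tt N11039 F48565))
theorem Q13831 : ∀ i, i < 13831 → P i := stepQ 13830 Q13830 (allL N13830 (tt N17683 D28003) (tt N9586 (iv D24081)) (tt N9634 F48567) (tt N15197 (iv F52270)) (tt N17684 D28004) (tt N17685 D28005) (tt N17686 D28006))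
theorem Q13832 : ∀ i, i < 13832 → P i := stepQ 13831 Q13831 (allL N13831 (tt N17679 (iv F59269)) (tt N17684 (iv F59285)) (tt N9587 F48568) (tt N17687 D28007) (tt N9586 (iv D24082)) (tt N17688 D28008) (tt N17666 (iv F59220)))
theorem Q13833 : ∀ i, i < 13833 → P i := stepQ 13832 Q13832 (allL N13832 (tt N17680 (iv F59272)) (tt N17689 D28009) (tt N9588 F48569) (tt N15198 (iv F52273)) (tt N17688 (iv F59293)) (tt N9586 (iv D24083)) (tt N17690 D28010))
theorem Q13834 : ∀ i, i < 13834 → P i := stepQ 13833 Q13833 (allL N13833 (tt N17681 (iv F59276)) (tt N13833 F48570) (tt N17688 (iv F59292)) (tt N9819 F48571) (tt N9588 F48572) (tt N9587 (iv D24084)) (tt N17691 D28011))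
theorem Q13835 : ∀ i, i < 13835 → P i := stepQ 13834 Q13834 (allL N13834 (tt N13815 F48573) (tt N17692 D28012) (tt N17690 (iv F59296)) (tt N9589 F48574) (tt N17691 (iv F59301)) (tt N13812 F48575) (tt N9588 (iv D24085)))
theorem Q13836 : ∀ i, i < 13836 → P i := stepQ 13835 Q13835 (allL N13835 (tt N17693 D28013) (tt N9589 (iv D24086)) (tt N17694 D28014) (tt N17692 (iv F59303)) (tt N9821 F48576) (tt N17695 D28015) (tt N13835 F48577))
theorem Q13837 : ∀ i, i < 13837 → P i := stepQ 13836 Q13836 (allL N13836 (tt N15635 F53247) (tt N17694 (iv F59308)) (tt N9590 (iv D24087)) (tt N17696 D28016) (tt N9823 F48578) (tt N17697 D28017) (tt N13661 F48579))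
theorem Q13838 : ∀ i, i < 13838 → P i := stepQ 13837 Q13837 (allL N13837 (tt N17553 (iv F58914)) (tt N13626 F48580) (tt N17697 (iv F59319)) (tt N13641 F48581) (tt N9824 F48582) (tt N9590 (iv D24088)) (tt N13770 F48583))
theorem Q13839 : ∀ i, i < 13839 → P i := stepQ 13838 Q13838 (allL N13838 (tt N17698 D28018) (tt N9592 (iv D24089)) (tt N14501 (iv F50317)) (tt N17264 (iv F57929)) (tt N9825 F48584) (tt N13270 F48585) (tt N17699 D28019))
theorem Q13840 : ∀ i, i < 13840 → P i := stepQ 13839 Q13839 (allL N13839 (tt N13632 F48586) (tt N13788 F48587) (tt N14502 (iv F50320)) (tt N17548 (iv F58898)) (tt N9826 F48588) (tt N13789 F48589) (tt N9593 (iv D24090)))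
theorem Q13841 : ∀ i, i < 13841 → P i := stepQ 13840 Q13840 (allL N13840 (tt N9604 F48590) (tt N15098 (iv F52050)) (tt N9598 F48591) (tt N17700 D28020) (tt N9597 (iv D24091)) (tt N17701 D28021) (tt N17593 (iv F59026)))
theorem Q13842 : ∀ i, i < 13842 → P i := stepQ 13841 Q13841 (allL N13841 (tt N9605 F48592) (tt N17702 D28022) (tt N9599 F48593) (tt N13781 F48594) (tt N17701 (iv F59335)) (tt N9597 (iv D24092)) (tt N13752 F48595))
theorem Q13843 : ∀ i, i < 13843 → P i := stepQ 13842 Q13842 (allL N13842 (tt N9606 F48596) (tt N17153 (iv F57661)) (tt N17701 (iv F59334)) (tt N9828 F48597) (tt N9599 F48598) (tt N9598 (iv D24093)) (tt N13753 F48599))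
theorem Q13844 : ∀ i, i < 13844 → P i := stepQ 13843 Q13843 (allL N13843 (tt N17703 D28023) (tt N9599 (iv D24094)) (tt N17704 D28024) (tt N9600 F48600) (tt N17153 (iv F57663)) (tt N17147 (iv F57643)) (tt N17705 D28025))
theorem Q13845 : ∀ i, i < 13845 → P i := stepQ 13844 Q13844 (allL N13844 (tt N9600 (iv D24095)) (tt N15790 F53618) (tt N17706 D28026) (tt N17703 (iv F59338)) (tt N9829 F48601) (tt N17422 (iv F58415)) (tt N17707 D28027))
theorem Q13846 : ∀ i, i < 13846 → P i := stepQ 13845 Q13845 (allL N13845 (tt N17706 (iv F59341)) (tt N9602 F48602) (tt N9600 (iv D24096)) (tt N17708 D28028) (tt N9830 F48603) (tt N17421 (iv F58411)) (tt N15900 (iv F53907)))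
theorem Q13847 : ∀ i, i < 13847 → P i := stepQ 13846 Q13846 (allL N13846 (tt N17707 (iv F59346)) (tt N13757 F48604) (tt N15900 F53908) (tt N17705 (iv F59340)) (tt N9831 F48605) (tt N17709 D28029) (tt N9600 (iv D24097)))
theorem Q13848 : ∀ i, i < 13848 → P i := stepQ 13847 Q13847 (allL N13847 (tt N14488 F50292) (tt N17708 (iv F59351)) (tt N17340 F58109) (tt N9602 (iv D24098)) (tt N17710 D28030) (tt N14498 (iv F50314)) (tt N17711 D28031))
theorem Q13849 : ∀ i, i < 13849 → P i := stepQ 13848 Q13848 (allL N13848 (tt N14489 (iv F50293)) (tt N14690 F50751) (tt N9603 F48606) (tt N17711 (iv F59370)) (tt N9833 F48607) (tt N10165 F48608) (tt N9602 (iv D24099)))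
theorem Q13850 : ∀ i, i < 13850 → P i := stepQ 13849 Q13849 (allL N13849 (tt N17700 (iv F59331)) (tt N10169 F48609) (tt N17712 D28032) (tt N9604 (iv D24100)) (tt N14265 (iv F49750)) (tt N17713 D28033) (tt N17596 (iv F59034)))
theorem Q13851 : ∀ i, i < 13851 → P i := stepQ 13850 Q13850 (allL N13850 (tt N17701 (iv F59333)) (tt N17714 D28034) (tt N9606 F48610) (tt N17713 (iv F59374)) (tt N9605 F48611) (tt N9604 (iv D24101)) (tt N17715 D28035))
theorem Q13852 : ∀ i, i < 13852 → P i := stepQ 13851 Q13851 (allL N13851 (tt N17716 D28036) (tt N9605 (iv D24102)) (tt N16128 (iv F54457)) (tt N15182 (iv F52239)) (tt N17714 (iv F59375)) (tt N10171 F48612) (tt N17717 D28037))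
theorem Q13853 : ∀ i, i < 13853 → P i := stepQ 13852 Q13852 (allL N13852 (tt N13752 F48613) (tt N17718 D28038) (tt N9607 F48614) (tt N15183 (iv F52242)) (tt N17715 (iv F59379)) (tt N13748 F48615) (tt N9605 (iv D24103)))
theorem Q13854 : ∀ i, i < 13854 → P i := stepQ 13853 Q13853 (allL N13853 (tt N13753 F48616) (tt N17719 D28039) (tt N17715 (iv F59378)) (tt N9837 F48617) (tt N9607 F48618) (tt N13749 F48619) (tt N9606 (iv D24104)))
theorem Q13855 : ∀ i, i < 13855 → P i := stepQ 13854 Q13854 (allL N13854 (tt N17649 (iv F61364)) (tt N9607 (iv D24105)) (tt N17648 (iv F61363)) (tt N9608 F48620) (tt N17719 (iv F59383)) (tt N17720 D28042) (tt N16134 (iv F54474)))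
theorem Q13856 : ∀ i, i < 13856 → P i := stepQ 13855 Q13855 (allL N13855 (tt N9608 (iv D24106)) (tt N14106 (iv F49303)) (tt N17721 D28043) (tt N17649 (iv F61366)) (tt N9839 F48621) (tt N17722 D28044) (tt N16136 (iv F54478)))
theorem Q13857 : ∀ i, i < 13857 → P i := stepQ 13856 Q13856 (allL N13856 (tt N17721 (iv F59387)) (tt N9615 F48622) (tt N9608 (iv D24107)) (tt N17723 D28045) (tt N9840 F48623) (tt N17669 (iv F59230)) (tt N16137 (iv F54481)))
theorem Q13858 : ∀ i, i < 13858 → P i := stepQ 13857 Q13857 (allL N13857 (tt N17722 (iv F59390)) (tt N13747 F48624) (tt N17669 (iv F59228)) (tt N17720 (iv F59386)) (tt N9841 F48625) (tt N9608 (iv D24108)) (tt N17724 D28046))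
theorem Q13859 : ∀ i, i < 13859 → P i := stepQ 13858 Q13858 (allL N13858 (tt N15695 F53404) (tt N17725 D28047) (tt N9609 (iv D24109)) (tt N17726 D28048) (tt N9843 F48626) (tt N17727 D28049) (tt N17527 (iv F58828)))
theorem Q13860 : ∀ i, i < 13860 → P i := stepQ 13859 Q13859 (allL N13859 (tt N17526 (iv F58820)) (tt N9619 F48627) (tt N17727 (iv F59406)) (tt N13637 F48628) (tt N9844 F48629) (tt N9609 (iv D24110)) (tt N13624 F48630))
theorem Q13861 : ∀ i, i < 13861 → P i := stepQ 13860 Q13860 (allL N13860 (tt N17728 D28050) (tt N9610 (iv D24111)) (tt N17725 (iv F59399)) (tt N17729 D28051) (tt N9846 F48631) (tt N17730 D28052) (tt N17731 D28053))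
theorem Q13862 : ∀ i, i < 13862 → P i := stepQ 13861 Q13861 (allL N13861 (tt N9611 F48632) (tt N17729 (iv F59412)) (tt N17732 D28054) (tt N9610 (iv D24112)) (tt N17733 D28055) (tt N9622 F48633) (tt N13883 (iv F48696)))
theorem Q13863 : ∀ i, i < 13863 → P i := stepQ 13862 Q13862 (allL N13862 (tt N17732 (iv F59425)) (tt N17734 D28056) (tt N9611 (iv D24113)) (tt N14422 (iv F50142)) (tt N17735 D28057) (tt N9624 F48634) (tt N14421 F50140))
theorem Q13864 : ∀ i, i < 13864 → P i := stepQ 13863 Q13863 (allL N13863 (tt N17733 (iv F59428)) (tt N16096 (iv F54385)) (tt N17735 (iv F59435)) (tt N9849 F48635) (tt N9611 (iv D24114)) (tt N9625 F48636) (tt N17736 D28058))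
theorem Q13865 : ∀ i, i < 13865 → P i := stepQ 13864 Q13864 (allL N13864 (tt N13883 (iv F48694)) (tt N17737 D28059) (tt N14421 (iv F50139)) (tt N9612 F48637) (tt N17736 (iv F59438)) (tt N13877 (iv F48682)) (tt N9611 (iv D24115)))
theorem Q13866 : ∀ i, i < 13866 → P i := stepQ 13865 Q13865 (allL N13865 (tt N12230 (iv F48639)) (tt N9612 (iv D24116)) (tt N15282 (iv F52455)) (tt N17737 (iv F59440)) (tt N9851 F48638) (tt N12226 (iv F48640)) (tt N15837 (iv F53724)))
theorem Q13867 : ∀ i, i < 13867 → P i := stepQ 13866 Q13866 (allL N13866 (tt N9615 F48641) (tt N17654 (iv F59179)) (tt N9614 (iv D24117)) (tt N17738 D28060) (tt N9853 F48642) (tt N11088 F48643) (tt N15295 (iv F52489)))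
theorem Q13868 : ∀ i, i < 13868 → P i := stepQ 13867 Q13867 (allL N13867 (tt N17738 (iv F59444)) (tt N17723 (iv F59393)) (tt N17739 D28061) (tt N9615 (iv D24118)) (tt N13086 F48644) (tt N17740 D28062) (tt N15298 F52495))
theorem Q13869 : ∀ i, i < 13869 → P i := stepQ 13868 Q13868 (allL N13868 (tt N11088 F48645) (tt N15242 F52356) (tt N9616 F48646) (tt N17740 (iv F59451)) (tt N9855 F48647) (tt N9615 (iv D24119)) (tt N11085 F48648))
theorem Q13870 : ∀ i, i < 13870 → P i := stepQ 13869 Q13869 (allL N13869 (tt N10242 F48649) (tt N9618 (iv D24120)) (tt N9621 F48650) (tt N13187 F48668) (tt N9857 F48651) (tt N15785 (iv F53598)) (tt N17741 D28063))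
theorem Q13871 : ∀ i, i < 13871 → P i := stepQ 13870 Q13870 (allL N13870 (tt N10248 F48652) (tt N13187 (iv F48670)) (tt N13201 F48677) (tt N9618 (iv D24121)) (tt N17742 D28064) (tt N17743 D28065) (tt N17744 D28066))
theorem Q13872 : ∀ i, i < 13872 → P i := stepQ 13871 Q13871 (allL N13871 (tt N10254 F48653) (tt N15778 F53587) (tt N9619 F48654) (tt N17743 (iv F59465)) (tt N9859 F48655) (tt N9618 (iv D24122)) (tt N14633 (iv F50597)))
theorem Q13873 : ∀ i, i < 13873 → P i := stepQ 13872 Q13872 (allL N13872 (tt N10255 F48656) (tt N14454 (iv F50218)) (tt N9620 F48657) (tt N17744 (iv F59468)) (tt N9860 F48658) (tt N13775 F48659) (tt N9618 (iv D24123)))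
theorem Q13874 : ∀ i, i < 13874 → P i := stepQ 13873 Q13873 (allL N13873 (tt N17150 (iv F57649)) (tt N17730 (iv F59417)) (tt N15785 F53600) (tt N17149 F57648) (tt N9863 F48663) (tt N9621 (iv D24126)) (tt N17745 D28067))
theorem Q13875 : ∀ i, i < 13875 → P i := stepQ 13874 Q13874 (allL N13874 (tt N17278 (iv F57971)) (tt N11322 (iv F48665)) (tt N17741 (iv F59456)) (tt N17276 (iv F57965)) (tt N9864 F48664) (tt N17746 D28068) (tt N9621 (iv D24127)))
theorem Q13876 : ∀ i, i < 13876 → P i := stepQ 13875 Q13875 (allL N13875 (tt N9624 F48666) (tt N17275 (iv F57959)) (tt N9622 (iv D24128)) (tt N13786 F48667) (tt N17747 D28069) (tt N17732 (iv F59427)) (tt N17748 D28070))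
theorem Q13877 : ∀ i, i < 13877 → P i := stepQ 13876 Q13876 (allL N13876 (tt N9625 F48678) (tt N17269 F57943) (tt N17747 (iv F59481)) (tt N9866 F48679) (tt N9622 (iv D24129)) (tt N17733 (iv F59431)) (tt N17749 D28071))
theorem Q13878 : ∀ i, i < 13878 → P i := stepQ 13877 Q13877 (allL N13877 (tt N9626 F48680) (tt N17750 D28072) (tt N17748 (iv F59483)) (tt N9623 F48681) (tt N17749 (iv F59488)) (tt N13864 F48682) (tt N9622 (iv D24130)))
theorem Q13879 : ∀ i, i < 13879 → P i := stepQ 13878 Q13878 (allL N13878 (tt N11326 (iv F48687)) (tt N9623 (iv D24131)) (tt N11078 F48683) (tt N17750 (iv F59490)) (tt N9868 F48684) (tt N11077 F48685) (tt N11322 F48686))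
theorem Q13880 : ∀ i, i < 13880 → P i := stepQ 13879 Q13879 (allL N13879 (tt N17751 D28073) (tt N9624 (iv D24132)) (tt N9641 F48688) (tt N15163 (iv F52214)) (tt N17752 D28074) (tt N17753 D28075) (tt N17754 D28076))
theorem Q13881 : ∀ i, i < 13881 → P i := stepQ 13880 Q13880 (allL N13880 (tt N17747 (iv F59479)) (tt N17752 (iv F59495)) (tt N9625 F48689) (tt N17755 D28077) (tt N9624 (iv D24133)) (tt N17735 (iv F59436)) (tt N17756 D28078))
theorem Q13882 : ∀ i, i < 13882 → P i := stepQ 13881 Q13881 (allL N13881 (tt N17748 (iv F59482)) (tt N17757 D28079) (tt N9626 F48690) (tt N15164 (iv F52217)) (tt N17756 (iv F59503)) (tt N17758 D28080) (tt N9624 (iv D24134)))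
theorem Q13883 : ∀ i, i < 13883 → P i := stepQ 13882 Q13882 (allL N13882 (tt N17749 (iv F59486)) (tt N13882 F48691) (tt N17756 (iv F59502)) (tt N9872 F48692) (tt N9626 F48693) (tt N17759 D28081) (tt N9625 (iv D24135)))
theorem Q13884 : ∀ i, i < 13884 → P i := stepQ 13883 Q13883 (allL N13883 (tt N13864 F48694) (tt N17760 D28082) (tt N17758 (iv F59506)) (tt N9627 F48695) (tt N17759 (iv F59511)) (tt N9626 (iv D24136)) (tt N13861 F48696))
theorem Q13885 : ∀ i, i < 13885 → P i := stepQ 13884 Q13884 (allL N13884 (tt N17761 D28083) (tt N9627 (iv D24137)) (tt N17762 D28084) (tt N17760 (iv F59513)) (tt N9874 F48697) (tt N13884 F48698) (tt N17763 D28085))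
theorem Q13886 : ∀ i, i < 13886 → P i := stepQ 13885 Q13885 (allL N13885 (tt N15869 F53836) (tt N17762 (iv F59518)) (tt N9628 (iv D24138)) (tt N17764 D28086) (tt N9876 F48699) (tt N13655 F48700) (tt N17765 D28087))
theorem Q13887 : ∀ i, i < 13887 → P i := stepQ 13886 Q13886 (allL N13886 (tt N17548 (iv F58896)) (tt N13622 F48701) (tt N17765 (iv F59529)) (tt N13632 F48702) (tt N9877 F48703) (tt N13745 F48704) (tt N9628 (iv D24139)))
theorem Q13888 : ∀ i, i < 13888 → P i := stepQ 13887 Q13887 (allL N13887 (tt N16833 (iv F56754)) (tt N9629 (iv D24140)) (tt N16840 (iv F56774)) (tt N16831 (iv F56750)) (tt N9878 F48705) (tt N17766 D28088) (tt N15581 (iv F53092)))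
theorem Q13889 : ∀ i, i < 13889 → P i := stepQ 13888 Q13888 (allL N13888 (tt N9630 F48706) (tt N16831 F56749) (tt N17767 D28089) (tt N9629 (iv D24141)) (tt N17768 D28090) (tt N17769 D28091) (tt N17770 D28092))
theorem Q13890 : ∀ i, i < 13890 → P i := stepQ 13889 Q13889 (allL N13889 (tt N9631 F48707) (tt N17771 D28093) (tt N10238 F48708) (tt N17769 (iv F59542)) (tt N9880 F48709) (tt N9629 (iv D24142)) (tt N13895 (iv F48722)))
theorem Q13891 : ∀ i, i < 13891 → P i := stepQ 13890 Q13890 (allL N13890 (tt N9632 F48710) (tt N15570 (iv F53066)) (tt N10243 F48711) (tt N17770 (iv F59544)) (tt N9881 F48712) (tt N9891 F48713) (tt N9629 (iv D24143)))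
theorem Q13892 : ∀ i, i < 13892 → P i := stepQ 13891 Q13891 (allL N13891 (tt N17767 (iv F59536)) (tt N13918 (iv F48768)) (tt N9630 (iv D24144)) (tt N17772 D28094) (tt N17773 D28095) (tt N17774 D28096) (tt N17775 D28097))
theorem Q13893 : ∀ i, i < 13893 → P i := stepQ 13892 Q13892 (allL N13892 (tt N17768 (iv F59538)) (tt N9633 F48714) (tt N17773 (iv F59553)) (tt N9882 F48715) (tt N9630 (iv D24145)) (tt N13907 F48742) (tt N17776 D28098))
theorem Q13894 : ∀ i, i < 13894 → P i := stepQ 13893 Q13893 (allL N13893 (tt N17769 (iv F59541)) (tt N13893 F48716) (tt N17774 (iv F59554)) (tt N9631 F48717) (tt N13907 (iv F48741)) (tt N9630 (iv D24146)) (tt N13905 F48737))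
theorem Q13895 : ∀ i, i < 13895 → P i := stepQ 13894 Q13894 (allL N13894 (tt N17770 (iv F59543)) (tt N16009 (iv F54190)) (tt N17775 (iv F59555)) (tt N9632 F48718) (tt N17776 (iv F59558)) (tt N17777 D28099) (tt N9630 (iv D24147)))
theorem Q13896 : ∀ i, i < 13896 → P i := stepQ 13895 Q13895 (allL N13895 (tt N9891 F48719) (tt N17778 D28100) (tt N10244 F48720) (tt N17777 (iv F59561)) (tt N9884 F48721) (tt N9632 (iv D24148)) (tt N13889 F48722))
theorem Q13897 : ∀ i, i < 13897 → P i := stepQ 13896 Q13896 (allL N13896 (tt N9634 (iv D24149)) (tt N17209 F58174) (tt N17683 (iv F59284)) (tt N13913 (iv F48751)) (tt N17779 D28101) (tt N17780 D28102) (tt N17781 D28103))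
theorem Q13898 : ∀ i, i < 13898 → P i := stepQ 13897 Q13897 (allL N13897 (tt N17779 (iv F59565)) (tt N9635 F48723) (tt N17684 (iv F59286)) (tt N13155 F48724) (tt N9634 (iv D24150)) (tt N17782 D28104) (tt N17783 D28105))
theorem Q13899 : ∀ i, i < 13899 → P i := stepQ 13898 Q13898 (allL N13898 (tt N17780 (iv F59567)) (tt N13898 F48725) (tt N17685 (iv F59288)) (tt N13914 (iv F48755)) (tt N17782 (iv F59571)) (tt N9634 (iv D24151)) (tt N17784 D28106))
theorem Q13900 : ∀ i, i < 13900 → P i := stepQ 13899 Q13899 (allL N13899 (tt N17781 (iv F59568)) (tt N16027 (iv F54224)) (tt N17686 (iv F59289)) (tt N13915 (iv F48758)) (tt N17783 (iv F59573)) (tt N17785 D28107) (tt N9634 (iv D24152)))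
theorem Q13901 : ∀ i, i < 13901 → P i := stepQ 13900 Q13900 (allL N13900 (tt N16840 (iv F56772)) (tt N9636 (iv D24153)) (tt N16833 F56756) (tt N16838 (iv F56767)) (tt N9889 F48726) (tt N15821 (iv F53696)) (tt N17786 D28108))
theorem Q13902 : ∀ i, i < 13902 → P i := stepQ 13901 Q13901 (allL N13901 (tt N9637 F48727) (tt N16838 F56768) (tt N17787 D28109) (tt N9636 (iv D24154)) (tt N17777 (iv F59562)) (tt N17776 F59559) (tt N17788 D28110))
theorem Q13903 : ∀ i, i < 13903 → P i := stepQ 13902 Q13902 (allL N13902 (tt N9638 F48728) (tt N15809 (iv F53667)) (tt N10208 F48729) (tt N17776 (iv F59557)) (tt N9883 F48730) (tt N9636 (iv D24155)) (tt N9882 F48731))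
theorem Q13904 : ∀ i, i < 13904 → P i := stepQ 13903 Q13903 (allL N13903 (tt N9639 F48732) (tt N17789 D28111) (tt N10204 F48733) (tt N17788 (iv F59583)) (tt N9890 F48734) (tt N13908 (iv F48746)) (tt N9636 (iv D24156)))
theorem Q13905 : ∀ i, i < 13905 → P i := stepQ 13904 Q13904 (allL N13904 (tt N17787 (iv F59580)) (tt N13926 (iv F48799)) (tt N9637 (iv D24157)) (tt N17790 D28112) (tt N17791 D28113) (tt N17792 D28114) (tt N17793 D28115))
theorem Q13906 : ∀ i, i < 13906 → P i := stepQ 13905 Q13905 (allL N13905 (tt N17777 (iv F59560)) (tt N9640 F48735) (tt N17791 (iv F59592)) (tt N9891 F48736) (tt N9637 (iv D24158)) (tt N17770 (iv F59546)) (tt N13893 (iv F48737)))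
theorem Q13907 : ∀ i, i < 13907 → P i := stepQ 13906 Q13906 (allL N13906 (tt N17776 (iv F59556)) (tt N16084 (iv F54362)) (tt N17792 (iv F59594)) (tt N9638 F48738) (tt N17770 (iv F59545)) (tt N9637 (iv D24159)) (tt N17768 F59540))
theorem Q13908 : ∀ i, i < 13908 → P i := stepQ 13907 Q13907 (allL N13907 (tt N17788 (iv F59582)) (tt N13907 F48739) (tt N17793 (iv F59596)) (tt N9639 F48740) (tt N13893 F48741) (tt N13892 (iv F48742)) (tt N9637 (iv D24160)))
theorem Q13909 : ∀ i, i < 13909 → P i := stepQ 13908 Q13908 (allL N13908 (tt N9882 F48743) (tt N17794 D28116) (tt N10209 F48744) (tt N17768 (iv F59539)) (tt N9879 F48745) (tt N13903 F48746) (tt N9638 (iv D24161)))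
theorem Q13910 : ∀ i, i < 13910 → P i := stepQ 13909 Q13909 (allL N13909 (tt N9641 (iv D24162)) (tt N17285 F58274) (tt N17751 (iv F59494)) (tt N13922 (iv F48782)) (tt N17795 D28117) (tt N17796 D28118) (tt N17797 D28119))
theorem Q13911 : ∀ i, i < 13911 → P i := stepQ 13910 Q13910 (allL N13910 (tt N17795 (iv F59600)) (tt N9642 F48747) (tt N17752 (iv F59496)) (tt N13214 F48748) (tt N9641 (iv D24163)) (tt N17798 D28120) (tt N17799 D28121))
theorem Q13912 : ∀ i, i < 13912 → P i := stepQ 13911 Q13911 (allL N13911 (tt N17796 (iv F59602)) (tt N16102 (iv F54400)) (tt N17753 (iv F59498)) (tt N13923 (iv F48785)) (tt N17798 (iv F59605)) (tt N9641 (iv D24164)) (tt N17800 D28122))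
theorem Q13913 : ∀ i, i < 13913 → P i := stepQ 13912 Q13912 (allL N13912 (tt N17797 (iv F59603)) (tt N13912 F48749) (tt N17754 (iv F59499)) (tt N13924 (iv F48789)) (tt N17799 (iv F59608)) (tt N17801 D28123) (tt N9641 (iv D24165)))
theorem Q13914 : ∀ i, i < 13914 → P i := stepQ 13913 Q13913 (allL N13913 (tt N9643 (iv D24166)) (tt N17802 D28124) (tt N11675 F48750) (tt N13896 F48751) (tt N13228 F48752) (tt N17803 D28125) (tt N17804 D28126))
theorem Q13915 : ∀ i, i < 13915 → P i := stepQ 13914 Q13914 (allL N13914 (tt N17803 (iv F59616)) (tt N13914 F48753) (tt N11677 F48754) (tt N13898 F48755) (tt N13229 F48756) (tt N9643 (iv D24167)) (tt N17805 D28127))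
theorem Q13916 : ∀ i, i < 13916 → P i := stepQ 13915 Q13915 (allL N13915 (tt N17804 (iv F59620)) (tt N16156 (iv F54526)) (tt N11678 F48757) (tt N13899 F48758) (tt N13230 F48759) (tt N17806 D28128) (tt N9643 (iv D24168)))
theorem Q13917 : ∀ i, i < 13917 → P i := stepQ 13916 Q13916 (allL N13916 (tt N9645 F48761) (tt N15257 (iv F58173)) (tt N17807 D28129) (tt N9644 (iv D24170)) (tt N17808 D28130) (tt N17809 D28131) (tt N13928 (iv F61383)))
theorem Q13918 : ∀ i, i < 13918 → P i := stepQ 13917 Q13917 (allL N13917 (tt N9646 F48762) (tt N17810 D28133) (tt N13917 F48763) (tt N17809 (iv F59641)) (tt N13232 F48764) (tt N9644 (iv D24171)) (tt N9650 (iv F61381)))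
theorem Q13919 : ∀ i, i < 13919 → P i := stepQ 13918 Q13918 (allL N13918 (tt N17807 (iv F59633)) (tt N13891 F48768) (tt N9645 (iv D24173)) (tt N17811 D28135) (tt N17812 D28136) (tt N17813 D28137) (tt N17814 D28138))
theorem Q13920 : ∀ i, i < 13920 → P i := stepQ 13919 Q13919 (allL N13919 (tt N17808 (iv F59636)) (tt N9648 F48769) (tt N17812 (iv F59649)) (tt N13234 F48770) (tt N9645 (iv D24174)) (tt N17815 D28139) (tt N17816 D28140))
theorem Q13921 : ∀ i, i < 13921 → P i := stepQ 13920 Q13920 (allL N13920 (tt N17809 (iv F59640)) (tt N13920 F48771) (tt N17813 (iv F59650)) (tt N9646 F48772) (tt N17815 (iv F59654)) (tt N9645 (iv D24175)) (tt N9651 (iv F61388)))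
theorem Q13922 : ∀ i, i < 13922 → P i := stepQ 13921 Q13921 (allL N13921 (tt N13928 (iv F61382)) (tt N16164 (iv F54538)) (tt N17814 (iv F59651)) (tt N9647 F48773) (tt N17816 (iv F59656)) (tt N13925 (iv F61389)) (tt N9645 (iv D24176)))
theorem Q13923 : ∀ i, i < 13923 → P i := stepQ 13922 Q13922 (allL N13922 (tt N9649 (iv D24179)) (tt N17817 D28145) (tt N11668 F48781) (tt N13909 F48782) (tt N13248 F48783) (tt N17818 D28146) (tt N17819 D28147))
theorem Q13924 : ∀ i, i < 13924 → P i := stepQ 13923 Q13923 (allL N13923 (tt N17818 (iv F59669)) (tt N16170 (iv F54553)) (tt N11670 F48784) (tt N13911 F48785) (tt N13249 F48786) (tt N9649 (iv D24180)) (tt N17820 D28148))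
theorem Q13925 : ∀ i, i < 13925 → P i := stepQ 13924 Q13924 (allL N13924 (tt N17819 (iv F59673)) (tt N13924 F48787) (tt N11671 F48788) (tt N13912 F48789) (tt N13250 F48790) (tt N17821 D28149) (tt N9649 (iv D24181)))
theorem Q13926 : ∀ i, i < 13926 → P i := stepQ 13925 Q13925 (allL N13925 (tt N9651 F48792) (tt N15310 (iv F58273)) (tt N17822 D28150) (tt N9650 (iv D24183)) (tt N17823 D28151) (tt N13921 F61389) (tt N17809 F61390))
theorem Q13927 : ∀ i, i < 13927 → P i := stepQ 13926 Q13926 (allL N13926 (tt N17822 (iv F59686)) (tt N13904 F48799) (tt N9651 (iv D24186)) (tt N17824 D28156) (tt N17825 D28157) (tt N17826 D28158) (tt N17813 (iv F61386)))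
theorem Q13928 : ∀ i, i < 13928 → P i := stepQ 13927 Q13927 (allL N13927 (tt N17823 (iv F59689)) (tt N9653 F48800) (tt N17825 (iv F59702)) (tt N13253 F48801) (tt N9651 (iv D24187)) (tt N17827 D28160) (tt N17815 (iv F61387)))
theorem Q13929 : ∀ i, i < 13929 → P i := stepQ 13928 Q13928 (allL N13928 (tt N13921 F61382) (tt N16178 (iv F54565)) (tt N17826 (iv F59703)) (tt N9652 F48802) (tt N17827 (iv F59706)) (tt N9651 (iv D24188)) (tt N13916 F61383))
theorem Q13930 : ∀ i, i < 13930 → P i := stepQ 13929 Q13929 (allL N13929 (tt N13521 F48812) (tt N9656 (iv D24192)) (tt N12450 F48813) (tt N9677 F48814) (tt N13682 F48815) (tt N13672 F48816) (tt N12445 F48817))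
theorem Q13931 : ∀ i, i < 13931 → P i := stepQ 13930 Q13930 (allL N13930 (tt N13953 (iv F48873)) (tt N17828 D28166) (tt N9660 (iv D24193)) (tt N13949 (iv F48867)) (tt N17616 (iv F59084)) (tt N12773 F48818) (tt N16856 (iv F56829)))
theorem Q13932 : ∀ i, i < 13932 → P i := stepQ 13931 Q13931 (allL N13931 (tt N16610 (iv F56001)) (tt N13934 (iv F48827)) (tt N17616 (iv F59082)) (tt N13934 (iv F48828)) (tt N9660 (iv D24194)) (tt N12678 F48819) (tt N16777 (iv F56595)))
theorem Q13933 : ∀ i, i < 13933 → P i := stepQ 13932 Q13932 (allL N13932 (tt N13491 F48820) (tt N9663 (iv D24195)) (tt N12485 F48821) (tt N9699 F48822) (tt N13691 F48823) (tt N12481 F48824) (tt N13675 F48825))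
theorem Q13934 : ∀ i, i < 13934 → P i := stepQ 13933 Q13933 (allL N13933 (tt N13974 (iv F48927)) (tt N17829 D28167) (tt N9667 (iv D24196)) (tt N13970 (iv F48915)) (tt N17588 (iv F59013)) (tt N16865 (iv F56863)) (tt N12798 F48826))
theorem Q13935 : ∀ i, i < 13935 → P i := stepQ 13934 Q13934 (allL N13934 (tt N16629 (iv F56060)) (tt N13931 F48827) (tt N17588 (iv F59011)) (tt N13931 F48828) (tt N9667 (iv D24197)) (tt N16772 (iv F56571)) (tt N12707 F48829))
theorem Q13936 : ∀ i, i < 13936 → P i := stepQ 13935 Q13935 (allL N13935 (tt N16818 F56708) (tt N9672 (iv D24198)) (tt N16677 (iv F56254)) (tt N17571 (iv F58966)) (tt N9673 F48830) (tt N17830 D28168) (tt N10315 F48831))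
theorem Q13937 : ∀ i, i < 13937 → P i := stepQ 13936 Q13936 (allL N13936 (tt N12478 F48832) (tt N13326 F48833) (tt N12477 F48834) (tt N9676 F48835) (tt N17830 (iv F59728)) (tt N9673 (iv D24199)) (tt N12487 F48836))
theorem Q13938 : ∀ i, i < 13938 → P i := stepQ 13937 Q13937 (allL N13937 (tt N9675 F48837) (tt N14148 F49424) (tt N9674 (iv D24200)) (tt N12467 F48838) (tt N17575 (iv F58975)) (tt N14711 (iv F50820)) (tt N10318 F48839))
theorem Q13939 : ∀ i, i < 13939 → P i := stepQ 13938 Q13938 (allL N13938 (tt N9844 F48840) (tt N9683 F48841) (tt N16266 (iv F54860)) (tt N12445 F48842) (tt N17526 (iv F58823)) (tt N9842 F48843) (tt N9677 (iv D24201)))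
theorem Q13940 : ∀ i, i < 13940 → P i := stepQ 13939 Q13939 (allL N13939 (tt N9679 F48844) (tt N13981 F48956) (tt N14020 (iv F49044)) (tt N9678 (iv D24202)) (tt N14001 (iv F49003)) (tt N13957 (iv F48886)) (tt N9685 F48845))
theorem Q13941 : ∀ i, i < 13941 → P i := stepQ 13940 Q13940 (allL N13940 (tt N13957 (iv F48884)) (tt N12752 F48846) (tt N9710 F48847) (tt N9680 F48848) (tt N9709 F48849) (tt N9679 (iv D24203)) (tt N13951 (iv F48872)))
theorem Q13942 : ∀ i, i < 13942 → P i := stepQ 13941 Q13941 (allL N13941 (tt N11914 (iv F48853)) (tt N9680 (iv D24204)) (tt N11913 F48850) (tt N12752 F48851) (tt N17578 (iv F58986)) (tt N11952 F48852) (tt N16354 (iv F55152)))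
theorem Q13943 : ∀ i, i < 13943 → P i := stepQ 13942 Q13942 (allL N13942 (tt N9682 F48854) (tt N16284 F54919) (tt N9681 (iv D24205)) (tt N9704 F48856) (tt N17579 (iv F58990)) (tt N16300 (iv F54986)) (tt N13715 F48855))
theorem Q13944 : ∀ i, i < 13944 → P i := stepQ 13943 Q13943 (allL N13943 (tt N16438 (iv F55427)) (tt N9682 (iv D24206)) (tt N9684 F48857) (tt N16439 (iv F55432)) (tt N17580 (iv F58993)) (tt N17831 D28169) (tt N16301 (iv F54991)))
theorem Q13945 : ∀ i, i < 13945 → P i := stepQ 13944 Q13944 (allL N13944 (tt N9704 F48858) (tt N16439 (iv F55430)) (tt N9703 F48859) (tt N9682 (iv D24207)) (tt N17607 (iv F59061)) (tt N13709 F48860) (tt N16358 (iv F55163)))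
theorem Q13946 : ∀ i, i < 13946 → P i := stepQ 13945 Q13945 (allL N13945 (tt N13715 F48861) (tt N12168 F48864) (tt N9683 F48862) (tt N16358 (iv F55162)) (tt N17582 (iv F58996)) (tt N12169 (iv F48863)) (tt N9682 (iv D24208)))
theorem Q13947 : ∀ i, i < 13947 → P i := stepQ 13946 Q13946 (allL N13946 (tt N9684 (iv D24209)) (tt N17832 D28170) (tt N16438 F55429) (tt N14183 (iv F49535)) (tt N17583 (iv F58999)) (tt N14182 F49539) (tt N16304 (iv F55001)))
theorem Q13948 : ∀ i, i < 13948 → P i := stepQ 13947 Q13947 (allL N13947 (tt N14183 F49534) (tt N9685 F48865) (tt N14163 (iv F49464)) (tt N9684 (iv D24210)) (tt N17833 D28171) (tt N14180 (iv F49536)) (tt N14160 F49461))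
theorem Q13949 : ∀ i, i < 13949 → P i := stepQ 13948 Q13948 (allL N13948 (tt N14182 (iv F49538)) (tt N17834 D28172) (tt N17831 (iv F59731)) (tt N14180 F49537) (tt N17585 (iv F59003)) (tt N9684 (iv D24211)) (tt N17835 D28173))
theorem Q13950 : ∀ i, i < 13950 → P i := stepQ 13949 Q13949 (allL N13949 (tt N9687 F48866) (tt N14017 (iv F49048)) (tt N9685 (iv D24212)) (tt N13930 F48867) (tt N13977 (iv F48943)) (tt N13976 F48939) (tt N14020 F49047))
theorem Q13951 : ∀ i, i < 13951 → P i := stepQ 13950 Q13950 (allL N13950 (tt N9688 F48868) (tt N17833 (iv F59737)) (tt N13977 (iv F48941)) (tt N12796 F48869) (tt N9685 (iv D24213)) (tt N13975 F48933) (tt N14001 F49005))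
theorem Q13952 : ∀ i, i < 13952 → P i := stepQ 13951 Q13951 (allL N13951 (tt N9689 F48870) (tt N14962 (iv F51692)) (tt N13976 (iv F48936)) (tt N9686 F48871) (tt N13975 (iv F48932)) (tt N9685 (iv D24214)) (tt N13940 F48872))
theorem Q13953 : ∀ i, i < 13953 → P i := stepQ 13952 Q13952 (allL N13952 (tt N17836 D28174) (tt N9686 (iv D24215)) (tt N17559 (iv F58939)) (tt N14962 F51693) (tt N17587 (iv F59009)) (tt N17834 (iv F59744)) (tt N17837 D28175))
theorem Q13954 : ∀ i, i < 13954 → P i := stepQ 13953 Q13953 (allL N13953 (tt N13930 F48873) (tt N14871 (iv F51383)) (tt N12364 F48874) (tt N9687 (iv D24216)) (tt N17605 (iv F59055)) (tt N16858 (iv F56833)) (tt N12770 F48875))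
theorem Q13955 : ∀ i, i < 13955 → P i := stepQ 13954 Q13954 (allL N13954 (tt N13977 (iv F48940)) (tt N12756 F48876) (tt N9688 F48877) (tt N9702 (iv F48879)) (tt N9687 (iv D24217)) (tt N13972 (iv F48926)) (tt N9701 F48878))
theorem Q13956 : ∀ i, i < 13956 → P i := stepQ 13955 Q13955 (allL N13955 (tt N13976 (iv F48934)) (tt N16646 (iv F56133)) (tt N9689 F48880) (tt N16858 (iv F56832)) (tt N13972 (iv F48925)) (tt N9687 (iv D24218)) (tt N13971 F48921))
theorem Q13957 : ∀ i, i < 13957 → P i := stepQ 13956 Q13956 (allL N13956 (tt N13975 (iv F48930)) (tt N10667 F48881) (tt N13972 (iv F48923)) (tt N12798 F48882) (tt N9689 F48883) (tt N9688 (iv D24219)) (tt N13970 F48916))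
theorem Q13958 : ∀ i, i < 13958 → P i := stepQ 13957 Q13957 (allL N13957 (tt N13940 F48884) (tt N17838 D28176) (tt N13971 (iv F48919)) (tt N9690 F48885) (tt N13970 (iv F48917)) (tt N13939 F48886) (tt N9689 (iv D24220)))
theorem Q13959 : ∀ i, i < 13959 → P i := stepQ 13958 Q13958 (allL N13958 (tt N17839 D28177) (tt N9690 (iv D24221)) (tt N16496 (iv F55629)) (tt N17838 (iv F59757)) (tt N17589 (iv F59015)) (tt N14714 (iv F50830)) (tt N11964 F48887))
theorem Q13960 : ∀ i, i < 13960 → P i := stepQ 13959 Q13959 (allL N13959 (tt N16792 (iv F56632)) (tt N9694 (iv D24222)) (tt N16659 (iv F56185)) (tt N17599 (iv F59037)) (tt N9695 F48888) (tt N10352 F48889) (tt N17840 D28178))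
theorem Q13961 : ∀ i, i < 13961 → P i := stepQ 13960 Q13960 (allL N13960 (tt N12442 F48890) (tt N13380 F48891) (tt N12441 F48892) (tt N9698 F48893) (tt N17840 (iv F59769)) (tt N12451 F48894) (tt N9695 (iv D24223)))
theorem Q13962 : ∀ i, i < 13962 → P i := stepQ 13961 Q13961 (allL N13961 (tt N9697 F48895) (tt N14140 F49399) (tt N9696 (iv D24224)) (tt N12422 F48896) (tt N17603 (iv F59046)) (tt N10355 F48897) (tt N14730 (iv F50883)))
theorem Q13963 : ∀ i, i < 13963 → P i := stepQ 13962 Q13962 (allL N13962 (tt N9792 F48898) (tt N9705 F48899) (tt N16359 (iv F55166)) (tt N12481 F48900) (tt N17530 (iv F58836)) (tt N9699 (iv D24225)) (tt N9789 F48901))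
theorem Q13964 : ∀ i, i < 13964 → P i := stepQ 13963 Q13963 (allL N13963 (tt N9701 F48902) (tt N13985 F48971) (tt N14001 (iv F49002)) (tt N9700 (iv D24226)) (tt N14020 (iv F49045)) (tt N9707 F48903) (tt N13977 (iv F48944)))
theorem Q13965 : ∀ i, i < 13965 → P i := stepQ 13964 Q13964 (allL N13964 (tt N12120 F48907) (tt N9702 (iv D24227)) (tt N12119 F48904) (tt N12756 F48905) (tt N17606 (iv F59057)) (tt N16494 (iv F55624)) (tt N12155 F48906))
theorem Q13966 : ∀ i, i < 13966 → P i := stepQ 13965 Q13965 (allL N13965 (tt N16283 F54921) (tt N9704 (iv D24228)) (tt N9706 F48908) (tt N16284 (iv F54920)) (tt N17608 (iv F59064)) (tt N16299 (iv F54980)) (tt N17841 D28179))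
theorem Q13967 : ∀ i, i < 13967 → P i := stepQ 13966 Q13966 (allL N13966 (tt N13709 F48909) (tt N11965 (iv F48912)) (tt N9705 F48910) (tt N16300 (iv F54985)) (tt N17610 (iv F59067)) (tt N9704 (iv D24229)) (tt N11967 F48911))
theorem Q13968 : ∀ i, i < 13968 → P i := stepQ 13967 Q13967 (allL N13967 (tt N9706 (iv D24230)) (tt N17842 D28180) (tt N16283 (iv F54922)) (tt N14163 F49528) (tt N17611 (iv F59070)) (tt N16453 (iv F55493)) (tt N14161 (iv F49529)))
theorem Q13969 : ∀ i, i < 13969 → P i := stepQ 13968 Q13968 (allL N13968 (tt N14163 (iv F49527)) (tt N9707 F48913) (tt N14183 (iv F49533)) (tt N9706 (iv D24231)) (tt N17843 D28181) (tt N14181 F49524) (tt N14159 F49526))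
theorem Q13970 : ∀ i, i < 13970 → P i := stepQ 13969 Q13969 (allL N13969 (tt N14161 F49530) (tt N17844 D28182) (tt N17841 (iv F59772)) (tt N14159 (iv F49531)) (tt N17613 (iv F59074)) (tt N17845 D28183) (tt N9706 (iv D24232)))
theorem Q13971 : ∀ i, i < 13971 → P i := stepQ 13970 Q13970 (allL N13970 (tt N9709 F48914) (tt N13997 (iv F49006)) (tt N9707 (iv D24233)) (tt N13933 F48915) (tt N13957 F48917) (tt N14001 F49004) (tt N13956 (iv F48916)))
theorem Q13972 : ∀ i, i < 13972 → P i := stepQ 13971 Q13971 (allL N13971 (tt N9710 F48918) (tt N17843 (iv F59778)) (tt N13957 F48919) (tt N12771 F48920) (tt N9707 (iv D24234)) (tt N14020 F49046) (tt N13955 (iv F48921)))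
theorem Q13973 : ∀ i, i < 13973 → P i := stepQ 13972 Q13972 (allL N13972 (tt N9711 F48922) (tt N14915 (iv F51537)) (tt N13956 F48923) (tt N9708 F48924) (tt N13955 F48925) (tt N13954 F48926) (tt N9707 (iv D24235)))
theorem Q13974 : ∀ i, i < 13974 → P i := stepQ 13973 Q13973 (allL N13973 (tt N17846 D28184) (tt N9708 (iv D24236)) (tt N17558 (iv F58936)) (tt N14915 F51538) (tt N17615 (iv F59080)) (tt N17847 D28185) (tt N17844 (iv F59785)))
theorem Q13975 : ∀ i, i < 13975 → P i := stepQ 13974 Q13974 (allL N13974 (tt N13933 F48927) (tt N14900 (iv F51483)) (tt N12405 F48928) (tt N9709 (iv D24237)) (tt N17577 (iv F58984)) (tt N12795 F48929) (tt N16867 (iv F56868)))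
theorem Q13976 : ∀ i, i < 13976 → P i := stepQ 13975 Q13975 (allL N13975 (tt N13956 F48930) (tt N16664 (iv F56202)) (tt N9711 F48931) (tt N16867 (iv F56867)) (tt N13951 F48932) (tt N13950 (iv F48933)) (tt N9709 (iv D24238)))
theorem Q13977 : ∀ i, i < 13977 → P i := stepQ 13976 Q13976 (allL N13976 (tt N13955 F48934) (tt N10749 F48935) (tt N13951 F48936) (tt N12773 F48937) (tt N9711 F48938) (tt N13949 (iv F48939)) (tt N9710 (iv D24239)))
theorem Q13978 : ∀ i, i < 13978 → P i := stepQ 13977 Q13977 (allL N13977 (tt N13954 F48940) (tt N17848 D28186) (tt N13950 F48941) (tt N9712 F48942) (tt N13949 F48943) (tt N9711 (iv D24240)) (tt N13963 F48944))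
theorem Q13979 : ∀ i, i < 13979 → P i := stepQ 13978 Q13978 (allL N13978 (tt N17849 D28187) (tt N9712 (iv D24241)) (tt N16356 (iv F55157)) (tt N17848 (iv F59799)) (tt N17617 (iv F59086)) (tt N12167 F48945) (tt N14733 (iv F50895)))
theorem Q13980 : ∀ i, i < 13980 → P i := stepQ 13979 Q13979 (allL N13979 (tt N9716 F48946) (tt N16419 (iv F55360)) (tt N9715 (iv D24242)) (tt N14715 (iv F50833)) (tt N9737 F48947) (tt N10383 F48948) (tt N9719 F48949))
theorem Q13981 : ∀ i, i < 13981 → P i := stepQ 13980 Q13980 (allL N13980 (tt N17850 D28188) (tt N9719 (iv D24243)) (tt N16679 (iv F56258)) (tt N14714 (iv F50829)) (tt N9743 F48950) (tt N17838 (iv F59759)) (tt N17851 D28189))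
theorem Q13982 : ∀ i, i < 13982 → P i := stepQ 13981 Q13981 (allL N13981 (tt N9721 F48951) (tt N13939 (iv F48956)) (tt N9720 F48952) (tt N11834 F48953) (tt N9745 F48954) (tt N9719 (iv D24244)) (tt N11878 F48955))
theorem Q13983 : ∀ i, i < 13983 → P i := stepQ 13982 Q13982 (allL N13982 (tt N12378 F48957) (tt N9721 (iv D24245)) (tt N13561 F48958) (tt N14716 (iv F50838)) (tt N9749 F48959) (tt N12377 F48960) (tt N14969 (iv F51722)))
theorem Q13984 : ∀ i, i < 13984 → P i := stepQ 13983 Q13983 (allL N13983 (tt N9724 F48961) (tt N16526 (iv F55727)) (tt N9723 (iv D24246)) (tt N14734 (iv F50898)) (tt N9757 F48962) (tt N9727 F48963) (tt N10417 F48964))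
theorem Q13985 : ∀ i, i < 13985 → P i := stepQ 13984 Q13984 (allL N13984 (tt N17852 D28190) (tt N9727 (iv D24247)) (tt N16661 (iv F56189)) (tt N14733 (iv F50894)) (tt N9763 F48965) (tt N17853 D28191) (tt N17848 (iv F59802)))
theorem Q13986 : ∀ i, i < 13986 → P i := stepQ 13985 Q13985 (allL N13985 (tt N9729 F48966) (tt N13963 (iv F48971)) (tt N9728 F48967) (tt N12048 F48968) (tt N9765 F48969) (tt N12087 F48970) (tt N9727 (iv D24248)))
theorem Q13987 : ∀ i, i < 13987 → P i := stepQ 13986 Q13986 (allL N13986 (tt N12333 F48972) (tt N9729 (iv D24249)) (tt N13557 F48973) (tt N14735 (iv F50903)) (tt N9769 F48974) (tt N14921 (iv F51560)) (tt N12331 F48975))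
theorem Q13988 : ∀ i, i < 13988 → P i := stepQ 13987 Q13987 (allL N13987 (tt N12328 F48976) (tt N9732 (iv D24250)) (tt N14993 (iv F51800)) (tt N12325 F48977) (tt N9733 F48978) (tt N14992 F51798) (tt N12323 F48979))
theorem Q13989 : ∀ i, i < 13989 → P i := stepQ 13988 Q13988 (allL N13988 (tt N12486 F48980) (tt N14959 F51683) (tt N9736 (iv D24251)) (tt N17391 (iv F58297)) (tt N13699 F48981) (tt N16672 (iv F56235)) (tt N12483 F48982))
theorem Q13990 : ∀ i, i < 13990 → P i := stepQ 13989 Q13989 (allL N13989 (tt N14957 (iv F51674)) (tt N9737 (iv D24252)) (tt N14959 (iv F51680)) (tt N13261 (iv F48984)) (tt N16419 (iv F55363)) (tt N10744 F48983) (tt N17497 (iv F58714)))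
theorem Q13991 : ∀ i, i < 13991 → P i := stepQ 13990 Q13990 (allL N13990 (tt N9738 F48985) (tt N13261 F48986) (tt N14051 (iv F49139)) (tt N9737 (iv D24253)) (tt N17854 D28192) (tt N10770 F48987) (tt N9744 F48988))
theorem Q13992 : ∀ i, i < 13992 → P i := stepQ 13991 Q13991 (allL N13991 (tt N17854 (iv F59819)) (tt N16829 (iv F56741)) (tt N16828 F56739) (tt N14331 (iv F49910)) (tt N9738 (iv D24254)) (tt N16307 (iv F55010)) (tt N9747 F48989))
theorem Q13993 : ∀ i, i < 13993 → P i := stepQ 13992 Q13992 (allL N13992 (tt N10788 F48990) (tt N9739 (iv D24255)) (tt N13508 F48991) (tt N17434 (iv F58468)) (tt N14160 (iv F49459)) (tt N14996 (iv F51809)) (tt N17833 (iv F59741)))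
theorem Q13994 : ∀ i, i < 13994 → P i := stepQ 13993 Q13993 (allL N13993 (tt N17838 (iv F59756)) (tt N9742 (iv D24256)) (tt N9743 F48992) (tt N17839 (iv F59763)) (tt N16679 (iv F56259)) (tt N17850 (iv F59811)) (tt N17855 D28193))
theorem Q13995 : ∀ i, i < 13995 → P i := stepQ 13994 Q13994 (allL N13994 (tt N9927 F48993) (tt N17839 (iv F59762)) (tt N14810 (iv F51173)) (tt N9742 (iv D24257)) (tt N17856 D28194) (tt N9923 F48994) (tt N14193 (iv F49574)))
theorem Q13996 : ∀ i, i < 13996 → P i := stepQ 13995 Q13995 (allL N13995 (tt N9743 (iv D24258)) (tt N14981 (iv F56261)) (tt N17838 F59761) (tt N17857 D28195) (tt N17850 (iv F59810)) (tt N16679 F56260) (tt N14985 (iv F56262)))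
theorem Q13997 : ∀ i, i < 13997 → P i := stepQ 13996 Q13996 (allL N13996 (tt N17857 (iv F59830)) (tt N9744 F48995) (tt N17858 D28196) (tt N9743 (iv D24259)) (tt N17859 D28197) (tt N17829 (iv F59724)) (tt N17860 D28198))
theorem Q13998 : ∀ i, i < 13998 → P i := stepQ 13997 Q13997 (allL N13997 (tt N16679 (iv F56257)) (tt N13970 F49006) (tt N17850 (iv F59808)) (tt N17829 (iv F59723)) (tt N17838 (iv F59758)) (tt N9743 (iv D24260)) (tt N17504 (iv F58741)))
theorem Q13999 : ∀ i, i < 13999 → P i := stepQ 13998 Q13998 (allL N13998 (tt N14985 F56263) (tt N17497 (iv F58712)) (tt N17855 (iv F59824)) (tt N17860 (iv F59838)) (tt N17851 (iv F59812)) (tt N17861 D28199) (tt N9743 (iv D24261)))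
theorem Q14000 : ∀ i, i < 14000 → P i := stepQ 13999 Q13999 (allL N13999 (tt N9747 F48996) (tt N17859 (iv F59836)) (tt N14075 (iv F49208)) (tt N14329 (iv F49905)) (tt N9744 (iv D24262)) (tt N17862 D28200) (tt N17854 (iv F59822)))
theorem Q14001 : ∀ i, i < 14001 → P i := stepQ 14000 Q14000 (allL N14000 (tt N9748 F48997) (tt N16865 (iv F56861)) (tt N10446 F48998) (tt N9745 F48999) (tt N17862 (iv F59847)) (tt N9744 (iv D24263)) (tt N13396 F49000))
theorem Q14002 : ∀ i, i < 14002 → P i := stepQ 14001 Q14001 (allL N14001 (tt N12471 F49001) (tt N9745 (iv D24264)) (tt N13963 F49002) (tt N16865 (iv F56862)) (tt N13939 F49003) (tt N13970 (iv F49004)) (tt N13950 (iv F49005)))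
theorem Q14003 : ∀ i, i < 14003 → P i := stepQ 14002 Q14002 (allL N14002 (tt N14075 (iv F49207)) (tt N16369 F55202) (tt N9747 F49007) (tt N17863 D28201) (tt N9746 (iv D24265)) (tt N17864 D28202) (tt N16828 (iv F56738)))
theorem Q14004 : ∀ i, i < 14004 → P i := stepQ 14003 Q14003 (allL N14003 (tt N10446 F49008) (tt N13260 F49009) (tt N9748 F49010) (tt N10448 F49011) (tt N17864 (iv F59853)) (tt N9746 (iv D24266)) (tt N13308 F49012))
theorem Q14005 : ∀ i, i < 14005 → P i := stepQ 14004 Q14004 (allL N14004 (tt N17862 (iv F59844)) (tt N17865 D28203) (tt N17864 (iv F59852)) (tt N14330 (iv F49907)) (tt N9748 F49013) (tt N9747 (iv D24267)) (tt N14972 (iv F51738)))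
theorem Q14006 : ∀ i, i < 14006 → P i := stepQ 14005 Q14005 (allL N14005 (tt N13531 F49017) (tt N9748 (iv D24268)) (tt N14958 (iv F51678)) (tt N9749 F49014) (tt N17865 (iv F59856)) (tt N13527 F49015) (tt N13269 F49016))
theorem Q14007 : ∀ i, i < 14007 → P i := stepQ 14006 Q14006 (allL N14006 (tt N12268 F49018) (tt N9752 (iv D24269)) (tt N14945 (iv F51633)) (tt N12265 F49019) (tt N9753 F49020) (tt N12264 F49021) (tt N14944 F51632))
theorem Q14008 : ∀ i, i < 14008 → P i := stepQ 14007 Q14007 (allL N14007 (tt N12449 F49022) (tt N14912 F51527) (tt N9756 (iv D24270)) (tt N17395 (iv F58311)) (tt N13696 F49023) (tt N12447 F49024) (tt N16654 (iv F56166)))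
theorem Q14009 : ∀ i, i < 14009 → P i := stepQ 14008 Q14008 (allL N14008 (tt N14910 (iv F51518)) (tt N9757 (iv D24271)) (tt N14912 (iv F51524)) (tt N13274 (iv F49026)) (tt N16526 (iv F55730)) (tt N17488 (iv F58679)) (tt N10662 F49025))
theorem Q14010 : ∀ i, i < 14010 → P i := stepQ 14009 Q14009 (allL N14009 (tt N9758 F49027) (tt N13274 F49028) (tt N14105 (iv F49300)) (tt N9757 (iv D24272)) (tt N17866 D28204) (tt N9764 F49029) (tt N10686 F49030))
theorem Q14011 : ∀ i, i < 14011 → P i := stepQ 14010 Q14010 (allL N14010 (tt N17866 (iv F59859)) (tt N16803 (iv F56666)) (tt N16802 F56664) (tt N14385 (iv F50044)) (tt N9758 (iv D24273)) (tt N9767 F49031) (tt N16456 (iv F55502)))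
theorem Q14012 : ∀ i, i < 14012 → P i := stepQ 14011 Q14011 (allL N14011 (tt N10706 F49032) (tt N9759 (iv D24274)) (tt N13532 F49033) (tt N17457 (iv F58556)) (tt N14181 (iv F49522)) (tt N17843 (iv F59781)) (tt N14948 (iv F51642)))
theorem Q14013 : ∀ i, i < 14013 → P i := stepQ 14012 Q14012 (allL N14012 (tt N17848 (iv F59797)) (tt N9762 (iv D24275)) (tt N9763 F49034) (tt N17849 (iv F59804)) (tt N16661 (iv F56190)) (tt N17867 D28205) (tt N17852 (iv F59817)))
theorem Q14014 : ∀ i, i < 14014 → P i := stepQ 14013 Q14013 (allL N14013 (tt N9911 F49035) (tt N17849 (iv F59803)) (tt N14792 (iv F51111)) (tt N9762 (iv D24276)) (tt N17868 D28206) (tt N14172 (iv F49496)) (tt N9906 F49036))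
theorem Q14015 : ∀ i, i < 14015 → P i := stepQ 14014 Q14014 (allL N14014 (tt N9763 (iv D24277)) (tt N14932 (iv F51611)) (tt N17848 (iv F59798)) (tt N17869 D28207) (tt N17852 (iv F59816)) (tt N14936 F51610) (tt N16661 (iv F56191)))
theorem Q14016 : ∀ i, i < 14016 → P i := stepQ 14015 Q14015 (allL N14015 (tt N17869 (iv F59870)) (tt N9764 F49037) (tt N17870 D28208) (tt N9763 (iv D24278)) (tt N17871 D28209) (tt N17872 D28210) (tt N17828 (iv F59720)))
theorem Q14017 : ∀ i, i < 14017 → P i := stepQ 14016 Q14016 (allL N14016 (tt N14936 (iv F51609)) (tt N17488 (iv F58677)) (tt N17867 (iv F59864)) (tt N17872 (iv F59878)) (tt N17853 (iv F59818)) (tt N9763 (iv D24279)) (tt N17873 D28211))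
theorem Q14018 : ∀ i, i < 14018 → P i := stepQ 14017 Q14017 (allL N14017 (tt N16661 (iv F56188)) (tt N13949 F49048) (tt N17852 (iv F59814)) (tt N17828 (iv F59719)) (tt N17848 (iv F59800)) (tt N17499 (iv F58719)) (tt N9763 (iv D24280)))
theorem Q14019 : ∀ i, i < 14019 → P i := stepQ 14018 Q14018 (allL N14018 (tt N9767 F49038) (tt N17871 (iv F59876)) (tt N14126 (iv F49369)) (tt N14384 (iv F50041)) (tt N9764 (iv D24281)) (tt N17866 (iv F59861)) (tt N17874 D28212))
theorem Q14020 : ∀ i, i < 14020 → P i := stepQ 14019 Q14019 (allL N14019 (tt N9768 F49039) (tt N16856 (iv F56826)) (tt N10496 F49040) (tt N9765 F49041) (tt N17874 (iv F59887)) (tt N13445 F49042) (tt N9764 (iv D24282)))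
theorem Q14021 : ∀ i, i < 14021 → P i := stepQ 14020 Q14020 (allL N14020 (tt N12426 F49043) (tt N9765 (iv D24283)) (tt N13939 F49044) (tt N16856 (iv F56827)) (tt N13963 F49045) (tt N13971 (iv F49046)) (tt N13949 (iv F49047)))
theorem Q14022 : ∀ i, i < 14022 → P i := stepQ 14021 Q14021 (allL N14021 (tt N14126 (iv F49368)) (tt N16504 F55655) (tt N9767 F49049) (tt N17875 D28213) (tt N9766 (iv D24284)) (tt N16802 (iv F56662)) (tt N17876 D28214))
theorem Q14023 : ∀ i, i < 14023 → P i := stepQ 14022 Q14022 (allL N14022 (tt N10496 F49050) (tt N13273 F49051) (tt N9768 F49052) (tt N10497 F49053) (tt N17876 (iv F59893)) (tt N13367 F49054) (tt N9766 (iv D24285)))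
theorem Q14024 : ∀ i, i < 14024 → P i := stepQ 14023 Q14023 (allL N14023 (tt N17874 (iv F59884)) (tt N17877 D28215) (tt N17876 (iv F59892)) (tt N14386 (iv F50047)) (tt N9768 F49055) (tt N14924 (iv F51577)) (tt N9767 (iv D24286)))
theorem Q14025 : ∀ i, i < 14025 → P i := stepQ 14024 Q14024 (allL N14024 (tt N13507 (iv F49059)) (tt N9768 (iv D24287)) (tt N14911 (iv F51522)) (tt N9769 F49056) (tt N17877 (iv F59896)) (tt N13282 F49057) (tt N13503 F49058))
theorem Q14026 : ∀ i, i < 14026 → P i := stepQ 14025 Q14025 (allL N14025 (tt N9770 (iv D24288)) (tt N11979 F49060) (tt N14026 (iv F49066)) (tt N12733 F49061) (tt N17626 (iv F59108)) (tt N10379 F49063) (tt N11982 F49062))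
theorem Q14027 : ∀ i, i < 14027 → P i := stepQ 14026 Q14026 (allL N14026 (tt N10379 F49064) (tt N10393 F49065) (tt N14025 F49066) (tt N12735 F49067) (tt N17627 (iv F59114)) (tt N9770 (iv D24289)) (tt N14783 (iv F51079)))
theorem Q14028 : ∀ i, i < 14028 → P i := stepQ 14027 Q14027 (allL N14027 (tt N9781 F49068) (tt N12891 F49069) (tt N17878 D28216) (tt N9773 (iv D24290)) (tt N12823 F49070) (tt N12509 F49071) (tt N16687 (iv F56285)))
theorem Q14029 : ∀ i, i < 14029 → P i := stepQ 14028 Q14028 (allL N14028 (tt N9776 F49072) (tt N10466 F49076) (tt N9775 (iv D24291)) (tt N13296 F49075) (tt N17634 (iv F59127)) (tt N13291 (iv F49074)) (tt N10460 F49073))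
theorem Q14030 : ∀ i, i < 14030 → P i := stepQ 14029 Q14029 (allL N14029 (tt N9777 F49077) (tt N10486 F49078) (tt N13291 F49079) (tt N13321 F49080) (tt N17635 (iv F59133)) (tt N9775 (iv D24292)) (tt N13300 F49081))
theorem Q14031 : ∀ i, i < 14031 → P i := stepQ 14030 Q14030 (allL N14030 (tt N13300 F49082) (tt N10461 (iv F49086)) (tt N13299 F49083) (tt N13319 F49084) (tt N17637 (iv F59145)) (tt N13312 F49085) (tt N9777 (iv D24293)))
theorem Q14032 : ∀ i, i < 14032 → P i := stepQ 14031 Q14031 (allL N14031 (tt N14739 (iv F50913)) (tt N15915 (iv F53964)) (tt N9779 (iv D24294)) (tt N10713 F49087) (tt N15916 (iv F53968)) (tt N10711 (iv F49088)) (tt N14743 (iv F50926)))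
theorem Q14033 : ∀ i, i < 14033 → P i := stepQ 14032 Q14032 (allL N14032 (tt N13220 F49089) (tt N17048 (iv F57384)) (tt N15916 F53970) (tt N17638 (iv F59151)) (tt N9779 (iv D24295)) (tt N17879 D28217) (tt N14740 (iv F50918)))
theorem Q14034 : ∀ i, i < 14034 → P i := stepQ 14033 Q14033 (allL N14033 (tt N13419 F49090) (tt N16324 (iv F55067)) (tt N10711 F49091) (tt N9780 F49092) (tt N17879 (iv F59906)) (tt N9779 (iv D24296)) (tt N10378 F49093))
theorem Q14035 : ∀ i, i < 14035 → P i := stepQ 14034 Q14034 (allL N14034 (tt N17878 (iv F59899)) (tt N14209 (iv F49612)) (tt N9781 (iv D24297)) (tt N17880 D28218) (tt N12824 F49094) (tt N12510 F49095) (tt N17881 D28219))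
theorem Q14036 : ∀ i, i < 14036 → P i := stepQ 14035 Q14035 (allL N14035 (tt N16687 (iv F56282)) (tt N17882 D28220) (tt N17881 (iv F59911)) (tt N9782 F49096) (tt N12825 F49097) (tt N16684 (iv F56278)) (tt N9781 (iv D24298)))
theorem Q14037 : ∀ i, i < 14037 → P i := stepQ 14036 Q14036 (allL N14036 (tt N12913 F49098) (tt N9782 (iv D24299)) (tt N16553 (iv F55808)) (tt N17882 (iv F59914)) (tt N9783 F49099) (tt N13004 F49100) (tt N12507 F49101))
theorem Q14038 : ∀ i, i < 14038 → P i := stepQ 14037 Q14037 (allL N14037 (tt N17047 (iv F57380)) (tt N9784 (iv D24300)) (tt N17045 (iv F57375)) (tt N17647 (iv F59166)) (tt N9785 F49102) (tt N16556 (iv F55818)) (tt N17035 (iv F57358)))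
theorem Q14039 : ∀ i, i < 14039 → P i := stepQ 14038 Q14038 (allL N14038 (tt N9787 F49103) (tt N12229 F49104) (tt N9786 (iv D24301)) (tt N13323 F49105) (tt N17651 (iv F59173)) (tt N16557 (iv F55822)) (tt N17883 D28221))
theorem Q14040 : ∀ i, i < 14040 → P i := stepQ 14039 Q14039 (allL N14039 (tt N9788 F49106) (tt N14074 (iv F49204)) (tt N17883 (iv F59920)) (tt N17400 (iv F58330)) (tt N17652 (iv F59175)) (tt N12263 F49107) (tt N9786 (iv D24302)))
theorem Q14041 : ∀ i, i < 14041 → P i := stepQ 14040 Q14040 (allL N14040 (tt N17883 (iv F59918)) (tt N9853 F49108) (tt N9788 F49109) (tt N13325 F49110) (tt N17654 (iv F59181)) (tt N16262 (iv F54838)) (tt N9787 (iv D24303)))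
theorem Q14042 : ∀ i, i < 14042 → P i := stepQ 14041 Q14041 (allL N14041 (tt N12263 F49111) (tt N12025 F49112) (tt N16262 F54839) (tt N13295 F49113) (tt N17655 (iv F59184)) (tt N9788 (iv D24304)) (tt N12261 F49114))
theorem Q14043 : ∀ i, i < 14043 → P i := stepQ 14042 Q14042 (allL N14042 (tt N14048 (iv F49128)) (tt N9790 (iv D24305)) (tt N9793 F49115) (tt N14115 (iv F49332)) (tt N17656 (iv F59187)) (tt N14114 F49327) (tt N14045 F49129))
theorem Q14044 : ∀ i, i < 14044 → P i := stepQ 14043 Q14043 (allL N14043 (tt N10299 F49116) (tt N17884 D28222) (tt N9791 F49117) (tt N12041 F49118) (tt N17531 (iv F58839)) (tt N9790 (iv D24306)) (tt N12040 (iv F49119)))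
theorem Q14045 : ∀ i, i < 14045 → P i := stepQ 14044 Q14044 (allL N14044 (tt N16359 (iv F55164)) (tt N16265 (iv F54849)) (tt N9792 F49120) (tt N16360 (iv F55172)) (tt N17658 (iv F59194)) (tt N14700 (iv F50784)) (tt N9790 (iv D24307)))
theorem Q14046 : ∀ i, i < 14046 → P i := stepQ 14045 Q14045 (allL N14045 (tt N9793 (iv D24308)) (tt N11826 F49121) (tt N14048 F49127) (tt N14119 (iv F49345)) (tt N17659 (iv F59197)) (tt N14117 (iv F49340)) (tt N14042 (iv F49129)))
theorem Q14047 : ∀ i, i < 14047 → P i := stepQ 14046 Q14046 (allL N14046 (tt N14119 (iv F49344)) (tt N9794 F49122) (tt N14829 (iv F51240)) (tt N9793 (iv D24309)) (tt N17745 (iv F59472)) (tt N14116 (iv F49337)) (tt N9863 F49123))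
theorem Q14048 : ∀ i, i < 14048 → P i := stepQ 14047 Q14047 (allL N14047 (tt N14117 (iv F49338)) (tt N14080 (iv F49215)) (tt N14114 (iv F49329)) (tt N14116 (iv F49336)) (tt N17661 (iv F59205)) (tt N9793 (iv D24310)) (tt N14114 F49328))
theorem Q14049 : ∀ i, i < 14049 → P i := stepQ 14048 Q14048 (allL N14048 (tt N14042 F49128) (tt N9811 F49124) (tt N14045 (iv F49127)) (tt N9863 F49125) (tt N17662 (iv F59210)) (tt N9862 F49126) (tt N9793 (iv D24311)))
theorem Q14050 : ∀ i, i < 14050 → P i := stepQ 14049 Q14049 (allL N14049 (tt N9795 F49130) (tt N11991 (iv F49134)) (tt N9794 (iv D24312)) (tt N12806 F49133) (tt N17885 D28223) (tt N10441 F49131) (tt N9812 F49132))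
theorem Q14051 : ∀ i, i < 14051 → P i := stepQ 14050 Q14050 (allL N14050 (tt N9796 F49135) (tt N17745 (iv F59470)) (tt N17885 (iv F59929)) (tt N17664 (iv F59217)) (tt N9794 (iv D24313)) (tt N14077 (iv F49211)) (tt N9813 F49136))
theorem Q14052 : ∀ i, i < 14052 → P i := stepQ 14051 Q14051 (allL N14051 (tt N12806 F49137) (tt N13304 F49138) (tt N13990 F49139) (tt N9795 (iv D24314)) (tt N17886 D28224) (tt N13308 (iv F49141)) (tt N9817 F49140))
theorem Q14053 : ∀ i, i < 14053 → P i := stepQ 14052 Q14052 (allL N14052 (tt N17885 (iv F59927)) (tt N13806 F49142) (tt N9796 F49143) (tt N17887 D28225) (tt N9795 (iv D24315)) (tt N17888 D28226) (tt N9818 F49144))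
theorem Q14054 : ∀ i, i < 14054 → P i := stepQ 14053 Q14053 (allL N14053 (tt N10441 F49145) (tt N12307 F49146) (tt N9797 F49147) (tt N13308 F49148) (tt N17888 (iv F59942)) (tt N9795 (iv D24316)) (tt N10448 F49149))
theorem Q14055 : ∀ i, i < 14055 → P i := stepQ 14054 Q14054 (allL N14054 (tt N14077 (iv F49209)) (tt N11630 F49151) (tt N17888 (iv F59941)) (tt N17667 (iv F59221)) (tt N9797 F49150) (tt N9796 (iv D24317)) (tt N14070 (iv F49191)))
theorem Q14056 : ∀ i, i < 14056 → P i := stepQ 14055 Q14055 (allL N14055 (tt N17889 D28227) (tt N9800 (iv D24318)) (tt N9841 F49152) (tt N13337 F49153) (tt N17669 (iv F59229)) (tt N9840 F49154) (tt N16233 (iv F54742)))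
theorem Q14057 : ∀ i, i < 14057 → P i := stepQ 14056 Q14056 (allL N14056 (tt N10464 F49155) (tt N9805 F49156) (tt N12812 (iv F49157)) (tt N9804 (iv D24319)) (tt N17890 D28228) (tt N14794 (iv F51118)) (tt N16270 (iv F54871)))
theorem Q14058 : ∀ i, i < 14058 → P i := stepQ 14057 Q14057 (allL N14057 (tt N10465 F49158) (tt N10294 F49159) (tt N9810 F49160) (tt N14794 (iv F51117)) (tt N17673 (iv F59245)) (tt N9804 (iv D24320)) (tt N14797 (iv F51130)))
theorem Q14059 : ∀ i, i < 14059 → P i := stepQ 14058 Q14058 (allL N14058 (tt N10478 F49161) (tt N17890 (iv F59950)) (tt N16813 F56693) (tt N17674 (iv F59249)) (tt N9805 (iv D24321)) (tt N17217 (iv F57831)) (tt N17891 D28229))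
theorem Q14060 : ∀ i, i < 14060 → P i := stepQ 14059 Q14059 (allL N14059 (tt N10483 F49162) (tt N13393 (iv F49165)) (tt N16655 (iv F56168)) (tt N9807 F49163) (tt N17891 (iv F59954)) (tt N13411 F49164) (tt N9805 (iv D24322)))
theorem Q14061 : ∀ i, i < 14061 → P i := stepQ 14060 Q14060 (allL N14060 (tt N9878 F49166) (tt N9808 (iv D24323)) (tt N9889 F49167) (tt N17892 D28230) (tt N16833 F56757) (tt N16450 (iv F55482)) (tt N16279 (iv F54903)))
theorem Q14062 : ∀ i, i < 14062 → P i := stepQ 14061 Q14061 (allL N14061 (tt N9809 F49168) (tt N17892 (iv F59958)) (tt N14102 (iv F49288)) (tt N9808 (iv D24324)) (tt N17194 (iv F57770)) (tt N14102 (iv F49290)) (tt N14098 F49276))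
theorem Q14063 : ∀ i, i < 14063 → P i := stepQ 14062 Q14062 (allL N14062 (tt N9810 F49169) (tt N16443 (iv F55452)) (tt N10465 F49170) (tt N14102 (iv F49289)) (tt N17202 (iv F57798)) (tt N9808 (iv D24325)) (tt N14068 (iv F49185)))
theorem Q14064 : ∀ i, i < 14064 → P i := stepQ 14063 Q14063 (allL N14063 (tt N9811 F49171) (tt N12174 (iv F49173)) (tt N10466 F49172) (tt N14098 (iv F49274)) (tt N17061 F57419) (tt N14067 (iv F49181)) (tt N9808 (iv D24326)))
theorem Q14065 : ∀ i, i < 14065 → P i := stepQ 14064 Q14064 (allL N14064 (tt N14102 (iv F49287)) (tt N11971 F49174) (tt N9809 (iv D24327)) (tt N9810 F49175) (tt N17893 D28231) (tt N9809 (iv F49176)) (tt N14101 F49286))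
theorem Q14066 : ∀ i, i < 14066 → P i := stepQ 14065 Q14065 (allL N14065 (tt N17194 (iv F57769)) (tt N9813 F49177) (tt N17893 (iv F59963)) (tt N17193 F57768) (tt N9809 (iv D24328)) (tt N17893 (iv F59965)) (tt N17730 F59420))
theorem Q14067 : ∀ i, i < 14067 → P i := stepQ 14066 Q14066 (allL N14066 (tt N14098 F49275) (tt N9863 F49178) (tt N14101 (iv F49283)) (tt N9811 F49179) (tt N17730 (iv F59419)) (tt N9846 F49180) (tt N9809 (iv D24329)))
theorem Q14068 : ∀ i, i < 14068 → P i := stepQ 14067 Q14067 (allL N14067 (tt N14068 (iv F49182)) (tt N14700 (iv F50781)) (tt N14797 (iv F51128)) (tt N14101 (iv F49284)) (tt N17677 (iv F59262)) (tt N14063 F49181) (tt N9810 (iv D24330)))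
theorem Q14069 : ∀ i, i < 14069 → P i := stepQ 14068 Q14068 (allL N14068 (tt N14067 F49182) (tt N9847 F49183) (tt N14796 (iv F51124)) (tt N9846 F49184) (tt N17678 (iv F59267)) (tt N9811 (iv D24331)) (tt N14062 F49185))
theorem Q14070 : ∀ i, i < 14070 → P i := stepQ 14069 Q14069 (allL N14069 (tt N9818 F49186) (tt N11375 F49187) (tt N9813 F49188) (tt N17894 D28232) (tt N9812 (iv D24332)) (tt N14548 (iv F50432)) (tt N17885 (iv F59931)))
theorem Q14071 : ∀ i, i < 14071 → P i := stepQ 14070 Q14070 (allL N14070 (tt N9819 F49189) (tt N15698 (iv F53413)) (tt N14548 (iv F50430)) (tt N17681 (iv F59277)) (tt N9814 F49190) (tt N9813 (iv D24333)) (tt N14054 F49191))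
theorem Q14072 : ∀ i, i < 14072 → P i := stepQ 14071 Q14071 (allL N14071 (tt N9816 (iv D24334)) (tt N10400 F49192) (tt N9885 F49193) (tt N13417 (iv F49195)) (tt N17895 D28233) (tt N10459 F49194) (tt N12221 (iv F49196)))
theorem Q14073 : ∀ i, i < 14073 → P i := stepQ 14072 Q14072 (allL N14072 (tt N13417 F49197) (tt N9817 F49198) (tt N17500 (iv F58722)) (tt N9816 (iv D24335)) (tt N17896 D28234) (tt N10455 F49199) (tt N17442 (iv F58503)))
theorem Q14074 : ∀ i, i < 14074 → P i := stepQ 14073 Q14073 (allL N14073 (tt N17895 (iv F59970)) (tt N9818 F49200) (tt N9886 F49201) (tt N17897 D28235) (tt N9816 (iv D24336)) (tt N10203 F49202) (tt N17898 D28236))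
theorem Q14075 : ∀ i, i < 14075 → P i := stepQ 14074 Q14074 (allL N14074 (tt N12221 F49203) (tt N14039 F49204) (tt N9888 F49205) (tt N17442 (iv F58501)) (tt N17898 (iv F59985)) (tt N12219 F49206) (tt N9816 (iv D24337)))
theorem Q14076 : ∀ i, i < 14076 → P i := stepQ 14075 Q14075 (allL N14075 (tt N14002 F49207) (tt N17896 (iv F59976)) (tt N13999 F49208) (tt N17899 D28237) (tt N9817 (iv D24338)) (tt N14782 F51074) (tt N17886 (iv F59936)))
theorem Q14077 : ∀ i, i < 14077 → P i := stepQ 14076 Q14076 (allL N14076 (tt N17894 (iv F59967)) (tt N17897 (iv F59980)) (tt N17900 D28238) (tt N9818 (iv D24339)) (tt N17899 (iv F59988)) (tt N14546 F50426) (tt N17887 (iv F59938)))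
theorem Q14078 : ∀ i, i < 14078 → P i := stepQ 14077 Q14077 (allL N14077 (tt N14054 F49209) (tt N15562 (iv F53044)) (tt N14538 F50409) (tt N17691 (iv F59300)) (tt N9820 F49210) (tt N14050 F49211) (tt N9819 (iv D24340)))
theorem Q14079 : ∀ i, i < 14079 → P i := stepQ 14078 Q14078 (allL N14078 (tt N9821 (iv D24341)) (tt N13716 (iv F54942)) (tt N17557 (iv F58934)) (tt N16288 (iv F54941)) (tt N17693 (iv F59305)) (tt N16298 (iv F54977)) (tt N14078 F49212))
theorem Q14080 : ∀ i, i < 14080 → P i := stepQ 14079 Q14079 (allL N14079 (tt N17557 (iv F58932)) (tt N9823 F49213) (tt N9821 (iv D24342)) (tt N15004 (iv F51837)) (tt N17694 (iv F59309)) (tt N17901 D28239) (tt N14079 F49214))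
theorem Q14081 : ∀ i, i < 14081 → P i := stepQ 14080 Q14080 (allL N14080 (tt N16298 (iv F54976)) (tt N14047 F49215) (tt N17901 (iv F59990)) (tt N16289 (iv F54946)) (tt N17695 (iv F59312)) (tt N9821 (iv D24343)) (tt N16298 (iv F54978)))
theorem Q14082 : ∀ i, i < 14082 → P i := stepQ 14081 Q14081 (allL N14081 (tt N10781 F49216) (tt N16304 (iv F54999)) (tt N9824 F49217) (tt N10780 F49218) (tt N17697 (iv F59321)) (tt N9823 (iv D24344)) (tt N11963 F49219))
theorem Q14083 : ∀ i, i < 14083 → P i := stepQ 14082 Q14082 (allL N14082 (tt N9825 (iv D24345)) (tt N12177 F49220) (tt N14083 (iv F49226)) (tt N12742 F49221) (tt N17698 (iv F59324)) (tt N12180 F49222) (tt N10413 (iv F49223)))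
theorem Q14084 : ∀ i, i < 14084 → P i := stepQ 14083 Q14083 (allL N14083 (tt N10413 F49224) (tt N10427 F49225) (tt N14082 F49226) (tt N12744 F49227) (tt N17699 (iv F59330)) (tt N14817 (iv F51199)) (tt N9825 (iv D24346)))
theorem Q14085 : ∀ i, i < 14085 → P i := stepQ 14084 Q14084 (allL N14084 (tt N9834 F49228) (tt N12906 F49229) (tt N17902 D28240) (tt N9827 (iv D24347)) (tt N12827 F49230) (tt N16693 (iv F56301)) (tt N12512 F49231))
theorem Q14086 : ∀ i, i < 14086 → P i := stepQ 14085 Q14085 (allL N14085 (tt N9830 F49232) (tt N10515 F49235) (tt N9829 (iv D24348)) (tt N13355 F49234) (tt N17706 (iv F59343)) (tt N10509 F49233) (tt N13351 F49236))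
theorem Q14087 : ∀ i, i < 14087 → P i := stepQ 14086 Q14086 (allL N14086 (tt N9831 F49237) (tt N10533 F49238) (tt N13351 F49239) (tt N13376 F49240) (tt N17707 (iv F59349)) (tt N13360 F49241) (tt N9829 (iv D24349)))
theorem Q14088 : ∀ i, i < 14088 → P i := stepQ 14087 Q14087 (allL N14087 (tt N13360 F49242) (tt N10510 (iv F49246)) (tt N13359 F49243) (tt N13374 F49244) (tt N17709 (iv F59361)) (tt N9831 (iv D24350)) (tt N13371 F49245))
theorem Q14089 : ∀ i, i < 14089 → P i := stepQ 14088 Q14088 (allL N14088 (tt N14760 (iv F50990)) (tt N15685 (iv F53372)) (tt N9832 (iv D24351)) (tt N10794 F49247) (tt N15686 (iv F53376)) (tt N14764 (iv F51003)) (tt N10793 (iv F49248)))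
theorem Q14090 : ∀ i, i < 14090 → P i := stepQ 14089 Q14089 (allL N14089 (tt N13240 F49249) (tt N17138 (iv F57622)) (tt N15686 F53378) (tt N17710 (iv F59367)) (tt N9832 (iv D24352)) (tt N14761 (iv F50995)) (tt N17903 D28241))
theorem Q14091 : ∀ i, i < 14091 → P i := stepQ 14090 Q14090 (allL N14090 (tt N13471 F49250) (tt N16468 (iv F55547)) (tt N10793 F49251) (tt N9833 F49252) (tt N17903 (iv F59998)) (tt N10412 F49253) (tt N9832 (iv D24353)))
theorem Q14092 : ∀ i, i < 14092 → P i := stepQ 14091 Q14091 (allL N14091 (tt N17902 (iv F59991)) (tt N14211 (iv F49618)) (tt N9834 (iv D24354)) (tt N17904 D28242) (tt N12828 F49254) (tt N17905 D28243) (tt N12513 F49255))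
theorem Q14093 : ∀ i, i < 14093 → P i := stepQ 14092 Q14092 (allL N14092 (tt N16693 (iv F56298)) (tt N17906 D28244) (tt N17905 (iv F60003)) (tt N9835 F49256) (tt N12829 F49257) (tt N9834 (iv D24355)) (tt N16690 (iv F56294)))
theorem Q14094 : ∀ i, i < 14094 → P i := stepQ 14093 Q14093 (allL N14093 (tt N12898 F49258) (tt N9835 (iv D24356)) (tt N16588 (iv F55916)) (tt N17906 (iv F60006)) (tt N9836 F49259) (tt N12508 F49260) (tt N13077 F49261))
theorem Q14095 : ∀ i, i < 14095 → P i := stepQ 14094 Q14094 (allL N14094 (tt N17137 (iv F57618)) (tt N9837 (iv D24357)) (tt N17135 (iv F57613)) (tt N17719 (iv F59382)) (tt N9838 F49262) (tt N17129 (iv F57603)) (tt N16590 (iv F55923)))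
theorem Q14096 : ∀ i, i < 14096 → P i := stepQ 14095 Q14095 (allL N14095 (tt N9840 F49263) (tt N12288 (iv F49265)) (tt N9839 (iv D24359)) (tt N13378 F49264) (tt N17721 (iv F59389)) (tt N17889 (iv F59947)) (tt N16592 (iv F55932)))
theorem Q14097 : ∀ i, i < 14097 → P i := stepQ 14096 Q14096 (allL N14096 (tt N9841 F49267) (tt N14125 (iv F49365)) (tt N17889 (iv F59945)) (tt N17418 (iv F58398)) (tt N17722 (iv F59391)) (tt N9839 (iv D24360)) (tt N12320 F49268))
theorem Q14098 : ∀ i, i < 14098 → P i := stepQ 14097 Q14097 (allL N14097 (tt N12320 F49269) (tt N12208 F49270) (tt N16233 F54743) (tt N13354 F49271) (tt N17724 (iv F59397)) (tt N12318 F49272) (tt N9841 (iv D24361)))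
theorem Q14099 : ∀ i, i < 14099 → P i := stepQ 14098 Q14098 (allL N14098 (tt N14066 (iv F49275)) (tt N9843 (iv D24362)) (tt N9846 F49273) (tt N14063 F49274) (tt N17725 (iv F59400)) (tt N14101 (iv F49285)) (tt N14061 (iv F49276)))
theorem Q14100 : ∀ i, i < 14100 → P i := stepQ 14099 Q14099 (allL N14099 (tt N16266 (iv F54858)) (tt N16360 (iv F55170)) (tt N9844 F49277) (tt N16265 F54852) (tt N17727 (iv F59407)) (tt N9843 (iv D24363)) (tt N14699 (iv F50779)))
theorem Q14101 : ∀ i, i < 14101 → P i := stepQ 14100 Q14100 (allL N14100 (tt N10297 F49278) (tt N17907 D28245) (tt N9845 F49279) (tt N11829 F49280) (tt N17527 (iv F58826)) (tt N11828 (iv F49281)) (tt N9843 (iv D24364)))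
theorem Q14102 : ∀ i, i < 14102 → P i := stepQ 14101 Q14101 (allL N14101 (tt N9846 (iv D24365)) (tt N12038 F49282) (tt N14066 F49283) (tt N14067 F49284) (tt N17728 (iv F59410)) (tt N14098 F49285) (tt N14064 (iv F49286)))
theorem Q14103 : ∀ i, i < 14103 → P i := stepQ 14102 Q14102 (allL N14102 (tt N14064 F49287) (tt N14131 (iv F49377)) (tt N14061 F49288) (tt N14062 F49289) (tt N17731 (iv F59423)) (tt N14061 F49290) (tt N9846 (iv D24366)))
theorem Q14104 : ∀ i, i < 14104 → P i := stepQ 14103 Q14103 (allL N14103 (tt N9848 F49291) (tt N12187 F49295) (tt N9847 (iv D24367)) (tt N12781 F49294) (tt N17908 D28246) (tt N9865 F49292) (tt N10491 F49293))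
theorem Q14105 : ∀ i, i < 14105 → P i := stepQ 14104 Q14104 (allL N14104 (tt N9849 F49296) (tt N17678 (iv F59265)) (tt N17908 (iv F60017)) (tt N17733 (iv F59430)) (tt N9847 (iv D24368)) (tt N9866 F49297) (tt N14128 (iv F49372)))
theorem Q14106 : ∀ i, i < 14106 → P i := stepQ 14105 Q14105 (allL N14105 (tt N12781 F49298) (tt N13364 F49299) (tt N14009 F49300) (tt N9848 (iv D24369)) (tt N17909 D28247) (tt N9870 F49301) (tt N13367 (iv F49302)))
theorem Q14107 : ∀ i, i < 14107 → P i := stepQ 14106 Q14106 (allL N14106 (tt N17908 (iv F60015)) (tt N13855 F49303) (tt N9849 F49304) (tt N17910 D28248) (tt N9848 (iv D24370)) (tt N9871 F49305) (tt N17911 D28249))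
theorem Q14108 : ∀ i, i < 14108 → P i := stepQ 14107 Q14107 (allL N14107 (tt N10491 F49306) (tt N12248 F49307) (tt N9850 F49308) (tt N13367 F49309) (tt N17911 (iv F60030)) (tt N10497 F49310) (tt N9848 (iv D24371)))
theorem Q14109 : ∀ i, i < 14109 → P i := stepQ 14108 Q14108 (allL N14108 (tt N14128 (iv F49370)) (tt N11577 (iv F49312)) (tt N17911 (iv F60029)) (tt N17736 (iv F59437)) (tt N9850 F49311) (tt N14121 (iv F49352)) (tt N9849 (iv D24372)))
theorem Q14110 : ∀ i, i < 14110 → P i := stepQ 14109 Q14109 (allL N14109 (tt N10514 F49313) (tt N9858 F49314) (tt N12816 (iv F49315)) (tt N9857 (iv D24373)) (tt N17912 D28250) (tt N16425 (iv F55380)) (tt N14826 (iv F51229)))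
theorem Q14111 : ∀ i, i < 14111 → P i := stepQ 14110 Q14110 (allL N14110 (tt N10516 F49316) (tt N10296 F49317) (tt N9864 F49318) (tt N14826 (iv F51228)) (tt N17741 (iv F59458)) (tt N14828 (iv F51238)) (tt N9857 (iv D24374)))
theorem Q14112 : ∀ i, i < 14112 → P i := stepQ 14111 Q14111 (allL N14111 (tt N10528 F49319) (tt N17912 (iv F60033)) (tt N16787 F56618) (tt N17742 (iv F59462)) (tt N9858 (iv D24375)) (tt N17913 D28251) (tt N17293 (iv F58007)))
theorem Q14113 : ∀ i, i < 14113 → P i := stepQ 14112 Q14112 (allL N14112 (tt N10531 F49320) (tt N13446 (iv F49323)) (tt N16673 (iv F56237)) (tt N9859 F49321) (tt N17913 (iv F60037)) (tt N9858 (iv D24376)) (tt N13463 F49322))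
theorem Q14114 : ∀ i, i < 14114 → P i := stepQ 14113 Q14113 (allL N14113 (tt N9889 F49324) (tt N9861 (iv D24377)) (tt N9878 F49325) (tt N17914 D28252) (tt N16840 F56775) (tt N16434 (iv F55411)) (tt N16297 (iv F54975)))
theorem Q14115 : ∀ i, i < 14115 → P i := stepQ 14114 Q14114 (allL N14114 (tt N9862 F49326) (tt N17914 (iv F60041)) (tt N14047 F49329) (tt N9861 (iv D24378)) (tt N17270 (iv F57946)) (tt N14042 (iv F49327)) (tt N14047 (iv F49328)))
theorem Q14116 : ∀ i, i < 14116 → P i := stepQ 14115 Q14115 (allL N14115 (tt N9863 F49330) (tt N11974 (iv F49333)) (tt N10515 F49331) (tt N14042 F49332) (tt N17150 F57652) (tt N9861 (iv D24379)) (tt N14119 (iv F49346)))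
theorem Q14117 : ∀ i, i < 14117 → P i := stepQ 14116 Q14116 (allL N14116 (tt N9864 F49334) (tt N16289 (iv F54944)) (tt N10516 F49335) (tt N14047 F49336) (tt N17278 (iv F57974)) (tt N14046 F49337) (tt N9861 (iv D24380)))
theorem Q14118 : ∀ i, i < 14118 → P i := stepQ 14117 Q14117 (allL N14117 (tt N14047 F49338) (tt N11925 F49339) (tt N9862 (iv D24381)) (tt N9864 F49341) (tt N17915 D28253) (tt N14045 F49340) (tt N9862 (iv F49342)))
theorem Q14119 : ∀ i, i < 14119 → P i := stepQ 14118 Q14118 (allL N14118 (tt N17270 (iv F57945)) (tt N9866 F49343) (tt N17915 (iv F60047)) (tt N17269 F57944) (tt N9862 (iv D24382)) (tt N17662 (iv F59211)) (tt N17915 (iv F60050)))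
theorem Q14120 : ∀ i, i < 14120 → P i := stepQ 14119 Q14119 (allL N14119 (tt N14046 F49344) (tt N14699 (iv F50776)) (tt N14828 (iv F51236)) (tt N14045 F49345) (tt N17746 (iv F59477)) (tt N9864 (iv D24383)) (tt N14115 F49346))
theorem Q14121 : ∀ i, i < 14121 → P i := stepQ 14120 Q14120 (allL N14120 (tt N9871 F49347) (tt N11535 F49348) (tt N9866 F49349) (tt N17916 D28254) (tt N9865 (iv D24384)) (tt N17908 (iv F60018)) (tt N14598 (iv F50533)))
theorem Q14122 : ∀ i, i < 14122 → P i := stepQ 14121 Q14121 (allL N14121 (tt N9872 F49350) (tt N15927 (iv F54005)) (tt N14598 (iv F50531)) (tt N17749 (iv F59487)) (tt N9867 F49351) (tt N14108 F49352) (tt N9866 (iv D24385)))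
theorem Q14123 : ∀ i, i < 14123 → P i := stepQ 14122 Q14122 (allL N14122 (tt N9869 (iv D24386)) (tt N10434 F49353) (tt N9892 F49354) (tt N13469 (iv F49357)) (tt N17917 D28255) (tt N12280 F49356) (tt N10512 F49355))
theorem Q14124 : ∀ i, i < 14124 → P i := stepQ 14123 Q14123 (allL N14123 (tt N13469 F49358) (tt N9870 F49359) (tt N17505 (iv F58743)) (tt N9869 (iv D24387)) (tt N17918 D28256) (tt N17467 (iv F58599)) (tt N10508 F49360))
theorem Q14125 : ∀ i, i < 14125 → P i := stepQ 14124 Q14124 (allL N14124 (tt N17917 (iv F60054)) (tt N9871 F49361) (tt N9893 F49362) (tt N17919 D28257) (tt N9869 (iv D24388)) (tt N17920 D28258) (tt N10241 F49363))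
theorem Q14126 : ∀ i, i < 14126 → P i := stepQ 14125 Q14125 (allL N14125 (tt N12280 F49364) (tt N14096 F49365) (tt N9894 F49366) (tt N17467 (iv F58597)) (tt N17920 (iv F60069)) (tt N9869 (iv D24389)) (tt N12278 F49367))
theorem Q14127 : ∀ i, i < 14127 → P i := stepQ 14126 Q14126 (allL N14126 (tt N14021 F49368) (tt N17918 (iv F60060)) (tt N14018 F49369) (tt N17921 D28259) (tt N9870 (iv D24390)) (tt N17909 (iv F60023)) (tt N14816 F51195))
theorem Q14128 : ∀ i, i < 14128 → P i := stepQ 14127 Q14127 (allL N14127 (tt N17916 (iv F60051)) (tt N17919 (iv F60064)) (tt N17922 D28260) (tt N9871 (iv D24391)) (tt N17921 (iv F60072)) (tt N17910 (iv F60026)) (tt N14597 F50530))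
theorem Q14129 : ∀ i, i < 14129 → P i := stepQ 14128 Q14128 (allL N14128 (tt N14108 F49370) (tt N15802 (iv F53648)) (tt N14589 F50513) (tt N17759 (iv F59510)) (tt N9873 F49371) (tt N9872 (iv D24392)) (tt N14104 F49372))
theorem Q14130 : ∀ i, i < 14130 → P i := stepQ 14129 Q14129 (allL N14129 (tt N9874 (iv D24393)) (tt N13712 (iv F49376)) (tt N17556 (iv F58930)) (tt N16442 (iv F55450)) (tt N17761 (iv F59515)) (tt N14129 F49373) (tt N16451 (iv F55486)))
theorem Q14131 : ∀ i, i < 14131 → P i := stepQ 14130 Q14130 (allL N14130 (tt N17556 (iv F58928)) (tt N9876 F49374) (tt N9874 (iv D24394)) (tt N15017 (iv F51880)) (tt N17762 (iv F59519)) (tt N14130 F49375) (tt N17923 D28261))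
theorem Q14132 : ∀ i, i < 14132 → P i := stepQ 14131 Q14131 (allL N14131 (tt N16451 (iv F55484)) (tt N14102 F49377) (tt N17923 (iv F60074)) (tt N16443 (iv F55454)) (tt N17763 (iv F59522)) (tt N16451 (iv F55485)) (tt N9874 (iv D24395)))
theorem Q14133 : ∀ i, i < 14133 → P i := stepQ 14132 Q14132 (allL N14132 (tt N10697 F49378) (tt N16453 (iv F55491)) (tt N9877 F49379) (tt N10696 F49380) (tt N17765 (iv F59531)) (tt N12166 F49381) (tt N9876 (iv D24396)))
theorem Q14134 : ∀ i, i < 14134 → P i := stepQ 14133 Q14133 (allL N14133 (tt N17892 (iv F59957)) (tt N9879 F49382) (tt N16455 (iv F55497)) (tt N9878 (iv D24397)) (tt N17794 (iv F59599)) (tt N17924 D28262) (tt N16299 (iv F54981)))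
theorem Q14135 : ∀ i, i < 14135 → P i := stepQ 14134 Q14134 (allL N14134 (tt N16450 (iv F55480)) (tt N12131 F49383) (tt N16434 (iv F55410)) (tt N17924 (iv F60078)) (tt N17766 (iv F59533)) (tt N9878 (iv D24398)) (tt N11837 (iv F49384)))
theorem Q14136 : ∀ i, i < 14136 → P i := stepQ 14135 Q14135 (allL N14135 (tt N12133 F49387) (tt N9880 (iv D24399)) (tt N12138 F49385) (tt N14145 (iv F49414)) (tt N17771 (iv F59548)) (tt N12131 F49386) (tt N16326 (iv F55076)))
theorem Q14137 : ∀ i, i < 14137 → P i := stepQ 14136 Q14136 (allL N14136 (tt N17914 (iv F60040)) (tt N9884 (iv D24400)) (tt N16306 (iv F55005)) (tt N9889 F49388) (tt N17778 (iv F59564)) (tt N16301 (iv F54990)) (tt N17925 D28263))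
theorem Q14138 : ∀ i, i < 14138 → P i := stepQ 14137 Q14137 (allL N14137 (tt N17844 (iv F59783)) (tt N9885 (iv D24401)) (tt N17926 D28264) (tt N13512 F49389) (tt N17927 D28265) (tt N17926 F60089) (tt N17846 (iv F59792)))
theorem Q14139 : ∀ i, i < 14139 → P i := stepQ 14138 Q14138 (allL N14138 (tt N9886 F49390) (tt N17927 (iv F60090)) (tt N17895 (iv F59972)) (tt N13514 F49391) (tt N9885 (iv D24402)) (tt N17928 D28266) (tt N16719 (iv F56387)))
theorem Q14140 : ∀ i, i < 14140 → P i := stepQ 14139 Q14139 (allL N14139 (tt N9887 F49392) (tt N14753 F50964) (tt N10459 F49393) (tt N13515 F49394) (tt N17928 (iv F60095)) (tt N9885 (iv D24403)) (tt N14143 (iv F49410)))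
theorem Q14141 : ∀ i, i < 14141 → P i := stepQ 14140 Q14140 (allL N14140 (tt N9888 F49395) (tt N13961 (iv F49399)) (tt N12221 F49396) (tt N13516 F49397) (tt N16719 (iv F56386)) (tt N12220 F49398) (tt N9885 (iv D24404)))
theorem Q14142 : ∀ i, i < 14142 → P i := stepQ 14141 Q14141 (allL N14141 (tt N17928 (iv F60092)) (tt N14141 F49400) (tt N10203 F49401) (tt N12532 F49402) (tt N9887 F49403) (tt N9886 (iv D24405)) (tt N12537 (iv F49404)))
theorem Q14143 : ∀ i, i < 14143 → P i := stepQ 14142 Q14142 (allL N14142 (tt N16719 (iv F56383)) (tt N16535 (iv F55754)) (tt N17898 (iv F59984)) (tt N13518 F49405) (tt N9888 F49406) (tt N16718 (iv F56381)) (tt N9886 (iv D24406)))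
theorem Q14144 : ∀ i, i < 14144 → P i := stepQ 14143 Q14143 (allL N14143 (tt N12220 F49407) (tt N14842 (iv F51281)) (tt N12219 F49408) (tt N13519 F49409) (tt N16718 (iv F56380)) (tt N9888 (iv D24407)) (tt N14139 F49410))
theorem Q14145 : ∀ i, i < 14145 → P i := stepQ 14144 Q14144 (allL N14144 (tt N16297 (iv F54973)) (tt N11926 (iv F49412)) (tt N16279 (iv F54901)) (tt N17925 (iv F60083)) (tt N17786 (iv F59577)) (tt N12051 F49411) (tt N9889 (iv D24408)))
theorem Q14146 : ∀ i, i < 14146 → P i := stepQ 14145 Q14145 (allL N14145 (tt N11929 (iv F49416)) (tt N9890 (iv D24409)) (tt N11933 F49413) (tt N14135 F49414) (tt N17789 (iv F59587)) (tt N16328 (iv F55085)) (tt N11926 F49415))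
theorem Q14147 : ∀ i, i < 14147 → P i := stepQ 14146 Q14146 (allL N14146 (tt N17834 (iv F59742)) (tt N9892 (iv D24410)) (tt N17929 D28267) (tt N13536 F49417) (tt N17930 D28268) (tt N17836 (iv F59751)) (tt N17929 F60101))
theorem Q14148 : ∀ i, i < 14148 → P i := stepQ 14147 Q14147 (allL N14147 (tt N9893 F49418) (tt N17930 (iv F60102)) (tt N17917 (iv F60056)) (tt N13538 F49419) (tt N9892 (iv D24411)) (tt N16725 F56410) (tt N17931 D28269))
theorem Q14149 : ∀ i, i < 14149 → P i := stepQ 14148 Q14148 (allL N14148 (tt N9894 F49420) (tt N13937 (iv F49424)) (tt N12280 F49421) (tt N13539 F49422) (tt N16725 (iv F56409)) (tt N9892 (iv D24412)) (tt N12279 F49423))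
theorem Q14150 : ∀ i, i < 14150 → P i := stepQ 14149 Q14149 (allL N14149 (tt N9895 F49425) (tt N14774 (iv F51041)) (tt N10512 F49426) (tt N13540 F49427) (tt N17931 (iv F60107)) (tt N14152 (iv F49438)) (tt N9892 (iv D24413)))
theorem Q14151 : ∀ i, i < 14151 → P i := stepQ 14150 Q14150 (allL N14150 (tt N16725 (iv F56406)) (tt N16569 (iv F55858)) (tt N17920 (iv F60068)) (tt N13542 F49428) (tt N9894 F49429) (tt N9893 (iv D24414)) (tt N16724 (iv F56404)))
theorem Q14152 : ∀ i, i < 14152 → P i := stepQ 14151 Q14151 (allL N14151 (tt N17931 (iv F60104)) (tt N14151 F49430) (tt N10241 F49431) (tt N12541 F49432) (tt N9895 F49433) (tt N12546 (iv F49434)) (tt N9893 (iv D24415)))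
theorem Q14153 : ∀ i, i < 14153 → P i := stepQ 14152 Q14152 (allL N14152 (tt N12279 F49435) (tt N14814 (iv F51186)) (tt N12278 F49436) (tt N13543 F49437) (tt N16724 (iv F56403)) (tt N14149 F49438) (tt N9894 (iv D24416)))
theorem Q14154 : ∀ i, i < 14154 → P i := stepQ 14153 Q14153 (allL N14153 (tt N9900 F49439) (tt N12854 F49440) (tt N9897 F49441) (tt N16892 (iv F56949)) (tt N9896 (iv D24417)) (tt N10303 F49442) (tt N16779 (iv F56601)))
theorem Q14155 : ∀ i, i < 14155 → P i := stepQ 14154 Q14154 (allL N14154 (tt N9903 F49443) (tt N14818 (iv F51206)) (tt N16779 (iv F56599)) (tt N12857 F49444) (tt N9898 F49445) (tt N14158 (iv F49457)) (tt N9897 (iv D24418)))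
theorem Q14156 : ∀ i, i < 14156 → P i := stepQ 14155 Q14155 (allL N14155 (tt N16892 (iv F56948)) (tt N12216 F49446) (tt N16889 (iv F56941)) (tt N9900 (iv D24419)) (tt N14643 (iv F50628)) (tt N12662 F49447) (tt N17932 D28270))
theorem Q14157 : ∀ i, i < 14157 → P i := stepQ 14156 Q14156 (allL N14156 (tt N16779 (iv F56598)) (tt N17933 D28271) (tt N9903 F49448) (tt N17932 (iv F60109)) (tt N9901 F49449) (tt N14703 (iv F50794)) (tt N9900 (iv D24420)))
theorem Q14158 : ∀ i, i < 14158 → P i := stepQ 14157 Q14157 (allL N14157 (tt N16353 (iv F55144)) (tt N9901 (iv D24421)) (tt N11943 F49450) (tt N11915 F49451) (tt N17933 (iv F60111)) (tt N16352 (iv F55143)) (tt N11911 F49452))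
theorem Q14159 : ∀ i, i < 14159 → P i := stepQ 14158 Q14158 (allL N14158 (tt N12595 F49453) (tt N14877 (iv F51405)) (tt N12663 F49454) (tt N12831 F49455) (tt N9904 F49456) (tt N14154 F49457) (tt N9902 (iv D24422)))
theorem Q14160 : ∀ i, i < 14160 → P i := stepQ 14159 Q14159 (allL N14159 (tt N9905 (iv D24423)) (tt N15010 (iv F51853)) (tt N14974 F51746) (tt N13969 F49531) (tt N14978 (iv F51762)) (tt N17934 D28272) (tt N13968 (iv F49526)))
theorem Q14161 : ∀ i, i < 14161 → P i := stepQ 14160 Q14160 (allL N14160 (tt N14974 (iv F51743)) (tt N11878 F49458) (tt N9905 (iv D24424)) (tt N11877 (iv F49460)) (tt N13992 F49459) (tt N14184 (iv F49542)) (tt N13947 (iv F49461)))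
theorem Q14162 : ∀ i, i < 14162 → P i := stepQ 14161 Q14161 (allL N14161 (tt N13969 (iv F49530)) (tt N9906 F49462) (tt N17924 (iv F60077)) (tt N9905 (iv D24425)) (tt N17935 D28273) (tt N16455 (iv F55499)) (tt N13967 F49529))
theorem Q14163 : ∀ i, i < 14163 → P i := stepQ 14162 Q14162 (allL N14162 (tt N17934 (iv F60113)) (tt N12346 F49463) (tt N14184 (iv F49541)) (tt N16455 (iv F55498)) (tt N14948 (iv F51640)) (tt N9905 (iv D24426)) (tt N14181 F49525))
theorem Q14164 : ∀ i, i < 14164 → P i := stepQ 14163 Q14163 (allL N14163 (tt N13968 F49527) (tt N17852 (iv F59813)) (tt N13947 F49464) (tt N13967 (iv F49528)) (tt N14932 (iv F51602)) (tt N14926 F51584) (tt N9905 (iv D24427)))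
theorem Q14165 : ∀ i, i < 14165 → P i := stepQ 14164 Q14164 (allL N14164 (tt N9908 F49465) (tt N11938 F49468) (tt N9906 (iv D24428)) (tt N13462 F49466) (tt N17936 D28274) (tt N10461 (iv F49467)) (tt N14792 (iv F51113)))
theorem Q14166 : ∀ i, i < 14166 → P i := stepQ 14165 Q14165 (allL N14165 (tt N9909 F49469) (tt N17935 (iv F60118)) (tt N17936 (iv F60123)) (tt N13436 F49470) (tt N9906 (iv D24429)) (tt N17937 D28275) (tt N17868 (iv F59869)))
theorem Q14167 : ∀ i, i < 14167 → P i := stepQ 14166 Q14166 (allL N14166 (tt N9910 F49471) (tt N12344 (iv F49475)) (tt N10461 F49472) (tt N9907 F49473) (tt N17937 (iv F60128)) (tt N9906 (iv D24430)) (tt N12347 F49474))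
theorem Q14168 : ∀ i, i < 14168 → P i := stepQ 14167 Q14167 (allL N14167 (tt N13462 F49476) (tt N10457 F49477) (tt N13461 F49478) (tt N9908 (iv D24431)) (tt N17938 D28276) (tt N10458 F49479) (tt N12765 (iv F49480)))
theorem Q14169 : ∀ i, i < 14169 → P i := stepQ 14168 Q14168 (allL N14168 (tt N17936 (iv F60121)) (tt N10205 F49481) (tt N9909 F49482) (tt N16075 (iv F54337)) (tt N9908 (iv D24432)) (tt N10206 F49483) (tt N17939 D28277))
theorem Q14170 : ∀ i, i < 14170 → P i := stepQ 14169 Q14169 (allL N14169 (tt N14792 (iv F51109)) (tt N12764 F49484) (tt N9911 F49485) (tt N12765 F49486) (tt N17939 (iv F60138)) (tt N14710 (iv F50815)) (tt N9908 (iv D24433)))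
theorem Q14171 : ∀ i, i < 14171 → P i := stepQ 14170 Q14170 (allL N14170 (tt N17937 (iv F60125)) (tt N14170 F49487) (tt N10206 F49488) (tt N12559 F49489) (tt N9910 F49490) (tt N9909 (iv D24434)) (tt N17940 D28278))
theorem Q14172 : ∀ i, i < 14172 → P i := stepQ 14171 Q14171 (allL N14171 (tt N17868 (iv F59867)) (tt N15864 F53818) (tt N17939 (iv F60137)) (tt N13438 F49491) (tt N9911 F49492) (tt N14989 (iv F51785)) (tt N9909 (iv D24435)))
theorem Q14173 : ∀ i, i < 14173 → P i := stepQ 14172 Q14172 (allL N14172 (tt N12347 F49493) (tt N13607 (iv F49497)) (tt N10462 F49494) (tt N9912 F49495) (tt N17940 (iv F60142)) (tt N14013 F49496) (tt N9910 (iv D24436)))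
theorem Q14174 : ∀ i, i < 14174 → P i := stepQ 14173 Q14173 (allL N14173 (tt N13609 F49498) (tt N9912 (iv D24437)) (tt N16651 (iv F56153)) (tt N13607 F49499) (tt N12462 F49500) (tt N17941 D28279) (tt N14173 F49501))
theorem Q14175 : ∀ i, i < 14175 → P i := stepQ 14174 Q14174 (allL N14174 (tt N9917 F49502) (tt N12860 F49503) (tt N9914 F49504) (tt N16903 (iv F56984)) (tt N9913 (iv D24438)) (tt N16805 (iv F56676)) (tt N10340 F49505))
theorem Q14176 : ∀ i, i < 14176 → P i := stepQ 14175 Q14175 (allL N14175 (tt N9919 F49506) (tt N14784 F51085) (tt N16805 (iv F56674)) (tt N12863 F49507) (tt N9915 F49508) (tt N9914 (iv D24439)) (tt N14179 (iv F49520)))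
theorem Q14177 : ∀ i, i < 14177 → P i := stepQ 14176 Q14176 (allL N14176 (tt N16903 (iv F56983)) (tt N12275 F49509) (tt N16900 (iv F56976)) (tt N9917 (iv D24440)) (tt N14673 (iv F50706)) (tt N17942 D28280) (tt N12691 F49510))
theorem Q14178 : ∀ i, i < 14178 → P i := stepQ 14177 Q14177 (allL N14177 (tt N16805 (iv F56673)) (tt N17943 D28281) (tt N9919 F49511) (tt N17942 (iv F60150)) (tt N9918 F49512) (tt N9917 (iv D24441)) (tt N14722 (iv F50857)))
theorem Q14179 : ∀ i, i < 14179 → P i := stepQ 14178 Q14178 (allL N14178 (tt N16493 (iv F55616)) (tt N9918 (iv D24442)) (tt N12146 F49513) (tt N12121 F49514) (tt N17943 (iv F60152)) (tt N12117 F49515) (tt N16492 (iv F55615)))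
theorem Q14180 : ∀ i, i < 14180 → P i := stepQ 14179 Q14179 (allL N14179 (tt N12597 F49516) (tt N14843 (iv F51284)) (tt N12692 F49517) (tt N12836 F49518) (tt N9921 F49519) (tt N9920 (iv D24443)) (tt N14175 F49520))
theorem Q14181 : ∀ i, i < 14181 → P i := stepQ 14180 Q14180 (allL N14180 (tt N9922 (iv D24444)) (tt N15022 F51894) (tt N14926 (iv F51585)) (tt N13948 (iv F49537)) (tt N14930 (iv F51600)) (tt N13947 F49536) (tt N17944 D28282))
theorem Q14182 : ∀ i, i < 14182 → P i := stepQ 14181 Q14181 (allL N14181 (tt N14926 (iv F51582)) (tt N12087 F49521) (tt N9922 (iv D24445)) (tt N12086 (iv F49523)) (tt N14011 F49522) (tt N13968 (iv F49524)) (tt N14162 (iv F49525)))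
theorem Q14183 : ∀ i, i < 14183 → P i := stepQ 14182 Q14182 (allL N14182 (tt N13948 F49538) (tt N9923 F49532) (tt N17925 (iv F60082)) (tt N9922 (iv D24446)) (tt N17945 D28283) (tt N13946 (iv F49539)) (tt N16306 (iv F55007)))
theorem Q14184 : ∀ i, i < 14184 → P i := stepQ 14183 Q14183 (allL N14183 (tt N13947 (iv F49534)) (tt N17850 (iv F59807)) (tt N13968 F49533) (tt N13946 F49535) (tt N14981 (iv F51767)) (tt N9922 (iv D24447)) (tt N14974 (iv F51745)))
theorem Q14185 : ∀ i, i < 14185 → P i := stepQ 14184 Q14184 (allL N14184 (tt N17944 (iv F60154)) (tt N12391 F49540) (tt N14162 F49541) (tt N16306 (iv F55006)) (tt N14996 (iv F51808)) (tt N14160 F49542) (tt N9922 (iv D24448)))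
theorem Q14186 : ∀ i, i < 14186 → P i := stepQ 14185 Q14185 (allL N14185 (tt N9925 F49543) (tt N12143 F49545) (tt N9923 (iv D24449)) (tt N13410 F49544) (tt N17946 D28284) (tt N14810 (iv F51174)) (tt N10510 (iv F49546)))
theorem Q14187 : ∀ i, i < 14187 → P i := stepQ 14186 Q14186 (allL N14186 (tt N9926 F49547) (tt N17945 (iv F60160)) (tt N17946 (iv F60165)) (tt N13488 F49548) (tt N9923 (iv D24450)) (tt N17856 (iv F59829)) (tt N17947 D28285))
theorem Q14188 : ∀ i, i < 14188 → P i := stepQ 14187 Q14187 (allL N14187 (tt N9928 F49549) (tt N12390 (iv F49553)) (tt N10510 F49550) (tt N9924 F49551) (tt N17947 (iv F60170)) (tt N12393 F49552) (tt N9923 (iv D24451)))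
theorem Q14189 : ∀ i, i < 14189 → P i := stepQ 14188 Q14188 (allL N14188 (tt N13410 F49554) (tt N10506 F49555) (tt N13409 F49556) (tt N9925 (iv D24452)) (tt N17948 D28286) (tt N12790 (iv F49558)) (tt N10507 F49557))
theorem Q14190 : ∀ i, i < 14190 → P i := stepQ 14189 Q14189 (allL N14189 (tt N17946 (iv F60163)) (tt N10239 F49559) (tt N9926 F49560) (tt N16150 (iv F54513)) (tt N9925 (iv D24453)) (tt N17949 D28287) (tt N10240 F49561))
theorem Q14191 : ∀ i, i < 14191 → P i := stepQ 14190 Q14190 (allL N14190 (tt N14810 (iv F51171)) (tt N12789 F49562) (tt N9927 F49563) (tt N12790 F49564) (tt N17949 (iv F60180)) (tt N9925 (iv D24454)) (tt N14729 (iv F50879)))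
theorem Q14192 : ∀ i, i < 14192 → P i := stepQ 14191 Q14191 (allL N14191 (tt N17856 (iv F59827)) (tt N15630 F53229) (tt N17949 (iv F60179)) (tt N13490 F49565) (tt N9927 F49566) (tt N9926 (iv D24455)) (tt N14941 (iv F51621)))
theorem Q14193 : ∀ i, i < 14193 → P i := stepQ 14192 Q14192 (allL N14192 (tt N17947 (iv F60167)) (tt N14192 F49567) (tt N10240 F49568) (tt N12565 F49569) (tt N9928 F49570) (tt N17950 D28288) (tt N9926 (iv D24456)))
theorem Q14194 : ∀ i, i < 14194 → P i := stepQ 14193 Q14193 (allL N14193 (tt N12393 F49571) (tt N13611 (iv F49575)) (tt N10511 F49572) (tt N9929 F49573) (tt N17950 (iv F60184)) (tt N9928 (iv D24457)) (tt N13994 F49574))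
theorem Q14195 : ∀ i, i < 14195 → P i := stepQ 14194 Q14194 (allL N14194 (tt N13613 F49576) (tt N9929 (iv D24458)) (tt N16669 (iv F56222)) (tt N13611 F49577) (tt N12496 F49578) (tt N14194 F49579) (tt N17951 D28289))
theorem Q14196 : ∀ i, i < 14196 → P i := stepQ 14195 Q14195 (allL N14195 (tt N15531 (iv F52965)) (tt N17520 (iv F58801)) (tt N10848 F49581) (tt N9930 (iv D24459)) (tt N17952 D28290) (tt N10848 F49580) (tt N17953 D28291))
theorem Q14197 : ∀ i, i < 14197 → P i := stepQ 14196 Q14196 (allL N14196 (tt N11441 F49582) (tt N17673 (iv F59242)) (tt N9931 F49583) (tt N17953 (iv F60198)) (tt N10294 F49584) (tt N14503 (iv F50326)) (tt N9930 (iv D24460)))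
theorem Q14198 : ∀ i, i < 14198 → P i := stepQ 14197 Q14197 (allL N14197 (tt N15775 (iv F53572)) (tt N17521 (iv F58805)) (tt N10851 F49586) (tt N9932 (iv D24461)) (tt N17954 D28292) (tt N17955 D28293) (tt N10851 F49585))
theorem Q14199 : ∀ i, i < 14199 → P i := stepQ 14198 Q14198 (allL N14198 (tt N11281 F49587) (tt N17741 (iv F59455)) (tt N9933 F49588) (tt N17955 (iv F60206)) (tt N10296 F49589) (tt N9932 (iv D24462)) (tt N14454 (iv F50221)))
theorem Q14200 : ∀ i, i < 14200 → P i := stepQ 14199 Q14199 (allL N14199 (tt N14234 (iv F49668)) (tt N16685 (iv F56279)) (tt N9960 F49591) (tt N9934 (iv D24463)) (tt N17956 D28294) (tt N9960 F49590) (tt N17957 D28295))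
theorem Q14201 : ∀ i, i < 14201 → P i := stepQ 14200 Q14200 (allL N14200 (tt N14226 (iv F49652)) (tt N17958 D28296) (tt N9935 F49592) (tt N17957 (iv F60212)) (tt N10870 F49593) (tt N14222 (iv F49648)) (tt N9934 (iv D24464)))
theorem Q14202 : ∀ i, i < 14202 → P i := stepQ 14201 Q14201 (allL N14201 (tt N11011 F49594) (tt N9935 (iv D24465)) (tt N17959 D28297) (tt N9940 F49595) (tt N10871 F49596) (tt N11137 F49597) (tt N9936 F49598))
theorem Q14203 : ∀ i, i < 14203 → P i := stepQ 14202 Q14202 (allL N14202 (tt N15366 (iv F52652)) (tt N12529 F49599) (tt N9936 (iv D24466)) (tt N17960 D28298) (tt N10873 F49600) (tt N15363 (iv F52650)) (tt N17959 (iv F60217)))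
theorem Q14204 : ∀ i, i < 14204 → P i := stepQ 14203 Q14203 (allL N14203 (tt N14236 (iv F49671)) (tt N16691 (iv F56295)) (tt N9966 F49602) (tt N9937 (iv D24467)) (tt N17961 D28299) (tt N17962 D28300) (tt N9966 F49601))
theorem Q14205 : ∀ i, i < 14205 → P i := stepQ 14204 Q14204 (allL N14204 (tt N14232 (iv F49664)) (tt N17963 D28301) (tt N9938 F49603) (tt N17962 (iv F60223)) (tt N10878 F49604) (tt N9937 (iv D24468)) (tt N14228 (iv F49660)))
theorem Q14206 : ∀ i, i < 14206 → P i := stepQ 14205 Q14205 (allL N14205 (tt N10987 F49605) (tt N9938 (iv D24469)) (tt N17964 D28302) (tt N9942 F49606) (tt N10879 F49607) (tt N9939 F49608) (tt N11205 F49609))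
theorem Q14207 : ∀ i, i < 14207 → P i := stepQ 14206 Q14206 (allL N14206 (tt N15471 (iv F52839)) (tt N12525 F49610) (tt N9939 (iv D24470)) (tt N17965 D28303) (tt N10881 F49611) (tt N17964 (iv F60227)) (tt N15467 (iv F52834)))
theorem Q14208 : ∀ i, i < 14208 → P i := stepQ 14207 Q14207 (allL N14207 (tt N15645 (iv F53272)) (tt N17528 (iv F58829)) (tt N17259 (iv F57914)) (tt N9941 (iv D24471)) (tt N15930 (iv F54021)) (tt N15638 (iv F53260)) (tt N15928 F54013))
theorem Q14209 : ∀ i, i < 14209 → P i := stepQ 14208 Q14208 (allL N14208 (tt N15880 (iv F53865)) (tt N17532 (iv F58842)) (tt N17334 (iv F58090)) (tt N9943 (iv D24472)) (tt N15700 (iv F53423)) (tt N15699 F53420) (tt N15872 (iv F53849)))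
theorem Q14210 : ∀ i, i < 14210 → P i := stepQ 14209 Q14209 (allL N14209 (tt N14237 (iv F49674)) (tt N14034 F49612) (tt N9947 (iv D24473)) (tt N17966 D28304) (tt N10904 F49613) (tt N9952 F49614) (tt N14239 (iv F49684)))
theorem Q14211 : ∀ i, i < 14211 → P i := stepQ 14210 Q14210 (allL N14210 (tt N17967 D28305) (tt N9948 (iv D24474)) (tt N17968 D28306) (tt N14210 F49615) (tt N10905 F49616) (tt N14210 F49617) (tt N14238 (iv F49681)))
theorem Q14212 : ∀ i, i < 14212 → P i := stepQ 14211 Q14211 (allL N14211 (tt N14241 (iv F49686)) (tt N14091 F49618) (tt N9949 (iv D24475)) (tt N17969 D28307) (tt N10906 F49619) (tt N14243 (iv F49696)) (tt N9955 F49620))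
theorem Q14213 : ∀ i, i < 14213 → P i := stepQ 14212 Q14212 (allL N14212 (tt N17970 D28308) (tt N9950 (iv D24476)) (tt N17971 D28309) (tt N14212 F49621) (tt N10907 F49622) (tt N14242 (iv F49693)) (tt N14212 F49623))
theorem Q14214 : ∀ i, i < 14214 → P i := stepQ 14213 Q14213 (allL N14213 (tt N9952 F49624) (tt N14403 (iv F50097)) (tt N9951 (iv D24477)) (tt N17972 D28310) (tt N10914 F49625) (tt N14237 (iv F49677)) (tt N17973 D28311))
theorem Q14215 : ∀ i, i < 14215 → P i := stepQ 14214 Q14214 (allL N14214 (tt N9953 F49626) (tt N17970 (iv F60242)) (tt N17973 (iv F60252)) (tt N14214 F49627) (tt N10915 F49628) (tt N9975 F49629) (tt N9951 (iv D24478)))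
theorem Q14216 : ∀ i, i < 14216 → P i := stepQ 14215 Q14215 (allL N14215 (tt N17972 (iv F60248)) (tt N9960 F49630) (tt N17974 D28312) (tt N9952 (iv D24479)) (tt N17975 D28313) (tt N17966 (iv F60232)) (tt N17976 D28314))
theorem Q14217 : ∀ i, i < 14217 → P i := stepQ 14216 Q14216 (allL N14216 (tt N17973 (iv F60251)) (tt N17977 D28315) (tt N9953 F49631) (tt N17976 (iv F60257)) (tt N10917 F49632) (tt N9976 (iv F49633)) (tt N9952 (iv D24480)))
theorem Q14218 : ∀ i, i < 14218 → P i := stepQ 14217 Q14217 (allL N14217 (tt N9955 F49634) (tt N14426 (iv F50152)) (tt N9954 (iv D24481)) (tt N17978 D28316) (tt N10918 F49635) (tt N17979 D28317) (tt N14241 (iv F49690)))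
theorem Q14219 : ∀ i, i < 14219 → P i := stepQ 14218 Q14218 (allL N14218 (tt N9956 F49636) (tt N17967 F60236) (tt N17979 (iv F60266)) (tt N14218 F49637) (tt N10919 F49638) (tt N9954 (iv D24482)) (tt N9979 F49639))
theorem Q14220 : ∀ i, i < 14220 → P i := stepQ 14219 Q14219 (allL N14219 (tt N17978 (iv F60262)) (tt N9966 F49640) (tt N17980 D28318) (tt N9955 (iv D24483)) (tt N17981 D28319) (tt N17982 D28320) (tt N17969 (iv F60241)))
theorem Q14221 : ∀ i, i < 14221 → P i := stepQ 14220 Q14220 (allL N14220 (tt N17979 (iv F60265)) (tt N17983 D28321) (tt N9956 F49641) (tt N17982 (iv F60271)) (tt N10921 F49642) (tt N9955 (iv D24484)) (tt N9980 (iv F49643)))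
theorem Q14222 : ∀ i, i < 14222 → P i := stepQ 14221 Q14221 (allL N14221 (tt N9960 F49644) (tt N17618 (iv F59089)) (tt N14234 (iv F49669)) (tt N9958 (iv D24485)) (tt N17984 D28322) (tt N14234 (iv F49670)) (tt N17985 D28323))
theorem Q14223 : ∀ i, i < 14223 → P i := stepQ 14222 Q14222 (allL N14222 (tt N9961 F49645) (tt N17003 (iv F57254)) (tt N9959 F49646) (tt N17985 (iv F60281)) (tt N10925 F49647) (tt N14200 F49648) (tt N9958 (iv D24486)))
theorem Q14224 : ∀ i, i < 14224 → P i := stepQ 14223 Q14223 (allL N14223 (tt N17984 (iv F60277)) (tt N17975 (iv F60255)) (tt N17956 (iv F60208)) (tt N10928 F49649) (tt N9960 (iv D24487)) (tt N17956 (iv F60210)) (tt N17986 D28324))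
theorem Q14225 : ∀ i, i < 14225 → P i := stepQ 14224 Q14224 (allL N14224 (tt N17985 (iv F60280)) (tt N17987 D28325) (tt N17957 (iv F60211)) (tt N9961 F49650) (tt N17986 (iv F60284)) (tt N17988 D28326) (tt N9960 (iv D24488)))
theorem Q14226 : ∀ i, i < 14226 → P i := stepQ 14225 Q14225 (allL N14225 (tt N17989 D28327) (tt N9961 (iv D24489)) (tt N14283 (iv F49796)) (tt N17987 (iv F60285)) (tt N10930 F49651) (tt N17990 D28328) (tt N17977 (iv F60261)))
theorem Q14227 : ∀ i, i < 14227 → P i := stepQ 14226 Q14226 (allL N14226 (tt N14200 F49652) (tt N17991 D28329) (tt N9962 F49653) (tt N17988 (iv F60288)) (tt N10931 F49654) (tt N9961 (iv D24490)) (tt N9970 F49655))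
theorem Q14228 : ∀ i, i < 14228 → P i := stepQ 14227 Q14227 (allL N14227 (tt N9966 F49656) (tt N17622 (iv F59098)) (tt N14236 (iv F49672)) (tt N9964 (iv D24491)) (tt N17992 D28330) (tt N17993 D28331) (tt N14236 (iv F49673)))
theorem Q14229 : ∀ i, i < 14229 → P i := stepQ 14228 Q14228 (allL N14228 (tt N9967 F49657) (tt N16978 (iv F57180)) (tt N9965 F49658) (tt N17993 (iv F60307)) (tt N10935 F49659) (tt N9964 (iv D24492)) (tt N14204 F49660))
theorem Q14230 : ∀ i, i < 14230 → P i := stepQ 14229 Q14229 (allL N14229 (tt N17992 (iv F60303)) (tt N17981 (iv F60269)) (tt N17961 (iv F60219)) (tt N10938 F49661) (tt N9966 (iv D24493)) (tt N17994 D28332) (tt N17961 (iv F60221)))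
theorem Q14231 : ∀ i, i < 14231 → P i := stepQ 14230 Q14230 (allL N14230 (tt N17993 (iv F60306)) (tt N17995 D28333) (tt N17962 (iv F60222)) (tt N9967 F49662) (tt N17994 (iv F60310)) (tt N9966 (iv D24494)) (tt N17996 D28334))
theorem Q14232 : ∀ i, i < 14232 → P i := stepQ 14231 Q14231 (allL N14231 (tt N17997 D28335) (tt N9967 (iv D24495)) (tt N14263 (iv F49744)) (tt N17995 (iv F60311)) (tt N10940 F49663) (tt N17983 (iv F60275)) (tt N17998 D28336))
theorem Q14233 : ∀ i, i < 14233 → P i := stepQ 14232 Q14232 (allL N14232 (tt N14204 F49664) (tt N17999 D28337) (tt N9968 F49665) (tt N17996 (iv F60314)) (tt N10941 F49666) (tt N9972 F49667) (tt N9967 (iv D24496)))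
theorem Q14234 : ∀ i, i < 14234 → P i := stepQ 14233 Q14233 (allL N14233 (tt N15034 (iv F56274)) (tt N9970 (iv D24497)) (tt N17560 (iv F58942)) (tt N18000 D28338) (tt N15034 (iv F51918)) (tt N18001 D28339) (tt N18002 D28340))
theorem Q14235 : ∀ i, i < 14235 → P i := stepQ 14234 Q14234 (allL N14234 (tt N14199 F49668) (tt N18000 (iv F60320)) (tt N14221 F49669) (tt N9970 (iv D24498)) (tt N18003 D28341) (tt N14221 F49670) (tt N17988 (iv F60289)))
theorem Q14236 : ∀ i, i < 14236 → P i := stepQ 14235 Q14235 (allL N14235 (tt N15046 F56973) (tt N9972 (iv D24499)) (tt N17561 (iv F58944)) (tt N18004 D28342) (tt N15046 (iv F51945)) (tt N18005 D28343) (tt N18006 D28344))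
theorem Q14237 : ∀ i, i < 14237 → P i := stepQ 14236 Q14236 (allL N14236 (tt N14203 F49671) (tt N18004 (iv F60329)) (tt N14227 F49672) (tt N9972 (iv D24500)) (tt N18007 D28345) (tt N17996 (iv F60315)) (tt N14227 F49673))
theorem Q14238 : ∀ i, i < 14238 → P i := stepQ 14237 Q14237 (allL N14237 (tt N14209 F49674) (tt N9986 F49675) (tt N9974 (iv D24501)) (tt N14302 (iv F49843)) (tt N10969 F49676) (tt N14213 F49677) (tt N9976 F49678))
theorem Q14239 : ∀ i, i < 14239 → P i := stepQ 14238 Q14238 (allL N14238 (tt N18008 D28346) (tt N9975 (iv D24502)) (tt N18009 D28347) (tt N14238 F49679) (tt N10970 F49680) (tt N18008 (iv F60341)) (tt N14210 F49681))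
theorem Q14240 : ∀ i, i < 14240 → P i := stepQ 14239 Q14239 (allL N14239 (tt N9976 F49682) (tt N18010 D28348) (tt N9975 (iv D24503)) (tt N18011 D28349) (tt N10971 F49683) (tt N17973 (iv F60254)) (tt N14209 F49684))
theorem Q14241 : ∀ i, i < 14241 → P i := stepQ 14240 Q14240 (allL N14240 (tt N18011 (iv F60345)) (tt N9995 F49685) (tt N18012 D28350) (tt N9976 (iv D24504)) (tt N18013 D28351) (tt N17976 (iv F60258)) (tt N14302 (iv F49844)))
theorem Q14242 : ∀ i, i < 14242 → P i := stepQ 14241 Q14241 (allL N14241 (tt N14211 F49686) (tt N10003 F49687) (tt N9978 (iv D24505)) (tt N14357 (iv F49980)) (tt N10974 F49688) (tt N9980 F49689) (tt N14217 F49690))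
theorem Q14243 : ∀ i, i < 14243 → P i := stepQ 14242 Q14242 (allL N14242 (tt N18014 D28352) (tt N9979 (iv D24506)) (tt N18015 D28353) (tt N14242 F49691) (tt N10975 F49692) (tt N14212 F49693) (tt N18014 (iv F60353)))
theorem Q14244 : ∀ i, i < 14244 → P i := stepQ 14243 Q14243 (allL N14243 (tt N9980 F49694) (tt N18016 D28354) (tt N9979 (iv D24507)) (tt N18017 D28355) (tt N10976 F49695) (tt N14211 F49696) (tt N17979 (iv F60268)))
theorem Q14245 : ∀ i, i < 14245 → P i := stepQ 14244 Q14244 (allL N14244 (tt N18017 (iv F60357)) (tt N10012 F49697) (tt N18018 D28356) (tt N9980 (iv D24508)) (tt N18019 D28357) (tt N14357 (iv F49981)) (tt N17982 (iv F60272)))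
theorem Q14246 : ∀ i, i < 14246 → P i := stepQ 14245 Q14245 (allL N14245 (tt N17618 (iv F59088)) (tt N14455 (iv F50223)) (tt N18020 D28358) (tt N9981 (iv D24509)) (tt N13800 F49698) (tt N18021 D28359) (tt N18022 D28360))
theorem Q14247 : ∀ i, i < 14247 → P i := stepQ 14246 Q14246 (allL N14246 (tt N15033 (iv F51915)) (tt N15603 (iv F53136)) (tt N9982 F49699) (tt N18021 (iv F60363)) (tt N10978 F49700) (tt N9981 (iv D24510)) (tt N18023 D28361))
theorem Q14248 : ∀ i, i < 14248 → P i := stepQ 14247 Q14247 (allL N14247 (tt N15431 (iv F52750)) (tt N18024 D28362) (tt N9983 F49701) (tt N18022 (iv F60365)) (tt N10979 F49702) (tt N18025 D28363) (tt N9981 (iv D24511)))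
theorem Q14249 : ∀ i, i < 14249 → P i := stepQ 14248 Q14248 (allL N14248 (tt N14249 (iv F49707)) (tt N11005 F49703) (tt N18023 (iv F60367)) (tt N10020 F49704) (tt N10980 F49705) (tt N11176 F49706) (tt N9982 (iv D24512)))
theorem Q14250 : ∀ i, i < 14250 → P i := stepQ 14249 Q14249 (allL N14249 (tt N14248 F49707) (tt N11170 F49711) (tt N18025 (iv F60372)) (tt N10021 F49708) (tt N10981 F49709) (tt N9983 (iv D24513)) (tt N10867 F49710))
theorem Q14251 : ∀ i, i < 14251 → P i := stepQ 14250 Q14250 (allL N14250 (tt N11107 F49712) (tt N10969 F49713) (tt N9987 F49714) (tt N12960 (iv F49717)) (tt N9986 (iv D24514)) (tt N10092 F49715) (tt N10985 (iv F49716)))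
theorem Q14252 : ∀ i, i < 14252 → P i := stepQ 14251 Q14251 (allL N14251 (tt N14308 (iv F49854)) (tt N9990 F49718) (tt N9988 F49719) (tt N10139 F49720) (tt N10985 F49721) (tt N10135 F49722) (tt N9986 (iv D24515)))
theorem Q14253 : ∀ i, i < 14253 → P i := stepQ 14252 Q14252 (allL N14252 (tt N10879 F49723) (tt N9989 (iv D24516)) (tt N18026 D28364) (tt N10037 F49724) (tt N10987 F49725) (tt N10880 F49726) (tt N15056 (iv F51968)))
theorem Q14254 : ∀ i, i < 14254 → P i := stepQ 14253 Q14253 (allL N14253 (tt N9990 F49727) (tt N18027 D28365) (tt N9989 (iv D24517)) (tt N18028 D28366) (tt N10988 F49728) (tt N14264 (iv F49749)) (tt N9993 F49729))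
theorem Q14255 : ∀ i, i < 14255 → P i := stepQ 14254 Q14254 (allL N14254 (tt N18028 (iv F60379)) (tt N10139 F49730) (tt N18029 D28367) (tt N9990 (iv D24518)) (tt N18030 D28368) (tt N18031 D28369) (tt N9995 F49731))
theorem Q14256 : ∀ i, i < 14256 → P i := stepQ 14255 Q14255 (allL N14255 (tt N14264 (iv F49746)) (tt N18032 D28370) (tt N9991 F49732) (tt N18031 (iv F60387)) (tt N10990 F49733) (tt N9990 (iv D24519)) (tt N14259 (iv F49741)))
theorem Q14257 : ∀ i, i < 14257 → P i := stepQ 14256 Q14256 (allL N14256 (tt N15430 (iv F52746)) (tt N18033 D28371) (tt N9992 (iv D24520)) (tt N18034 D28372) (tt N10991 F49734) (tt N11187 F49735) (tt N15428 (iv F52744)))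
theorem Q14258 : ∀ i, i < 14258 → P i := stepQ 14257 Q14257 (allL N14257 (tt N18035 D28373) (tt N9993 (iv D24521)) (tt N18033 (iv F60391)) (tt N18036 D28374) (tt N10993 F49736) (tt N18037 D28375) (tt N18038 D28376))
theorem Q14259 : ∀ i, i < 14259 → P i := stepQ 14258 Q14258 (allL N14258 (tt N9995 F49737) (tt N18036 (iv F60401)) (tt N14335 (iv F49926)) (tt N9993 (iv D24522)) (tt N18039 D28377) (tt N18040 D28378) (tt N18028 (iv F60380)))
theorem Q14260 : ∀ i, i < 14260 → P i := stepQ 14259 Q14259 (allL N14259 (tt N9996 F49738) (tt N18041 D28379) (tt N9994 F49739) (tt N18040 (iv F60412)) (tt N10995 F49740) (tt N9993 (iv D24523)) (tt N14255 F49741))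
theorem Q14261 : ∀ i, i < 14261 → P i := stepQ 14260 Q14260 (allL N14260 (tt N14335 (iv F49924)) (tt N15740 (iv F53508)) (tt N9995 (iv D24524)) (tt N14332 (iv F49915)) (tt N15737 (iv F53501)) (tt N18042 D28380) (tt N18029 (iv F60382)))
theorem Q14262 : ∀ i, i < 14262 → P i := stepQ 14261 Q14261 (allL N14261 (tt N18039 (iv F60408)) (tt N18013 (iv F60347)) (tt N15737 (iv F53502)) (tt N10997 F49742) (tt N9995 (iv D24525)) (tt N18043 D28381) (tt N18030 (iv F60385)))
theorem Q14263 : ∀ i, i < 14263 → P i := stepQ 14262 Q14262 (allL N14262 (tt N18040 (iv F60411)) (tt N18044 D28382) (tt N18042 (iv F60416)) (tt N9996 F49743) (tt N18043 (iv F60418)) (tt N9995 (iv D24526)) (tt N18045 D28383))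
theorem Q14264 : ∀ i, i < 14264 → P i := stepQ 14263 Q14263 (allL N14263 (tt N18046 D28384) (tt N9996 (iv D24527)) (tt N14231 F49744) (tt N18044 (iv F60419)) (tt N10999 F49745) (tt N17977 (iv F60260)) (tt N18047 D28385))
theorem Q14265 : ∀ i, i < 14265 → P i := stepQ 14264 Q14264 (allL N14264 (tt N14255 F49746) (tt N18048 D28386) (tt N9997 F49747) (tt N18045 (iv F60421)) (tt N11000 F49748) (tt N14253 F49749) (tt N9996 (iv D24528)))
theorem Q14266 : ∀ i, i < 14266 → P i := stepQ 14265 Q14265 (allL N14265 (tt N17622 (iv F59097)) (tt N14504 (iv F50329)) (tt N18049 D28387) (tt N9998 (iv D24529)) (tt N13849 F49750) (tt N18050 D28388) (tt N18051 D28389))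
theorem Q14267 : ∀ i, i < 14267 → P i := stepQ 14266 Q14266 (allL N14266 (tt N15322 (iv F52558)) (tt N18052 D28390) (tt N9999 F49751) (tt N18050 (iv F60441)) (tt N11002 F49752) (tt N9998 (iv D24530)) (tt N18053 D28391))
theorem Q14268 : ∀ i, i < 14268 → P i := stepQ 14267 Q14267 (allL N14267 (tt N15045 (iv F51942)) (tt N15842 (iv F53743)) (tt N10000 F49753) (tt N18051 (iv F60444)) (tt N11003 F49754) (tt N18054 D28392) (tt N9998 (iv D24531)))
theorem Q14269 : ∀ i, i < 14269 → P i := stepQ 14268 Q14268 (allL N14268 (tt N14269 (iv F49759)) (tt N11239 (iv F49758)) (tt N18053 (iv F60447)) (tt N10054 F49755) (tt N11004 F49756) (tt N10875 F49757) (tt N9999 (iv D24532)))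
theorem Q14270 : ∀ i, i < 14270 → P i := stepQ 14269 Q14269 (allL N14269 (tt N14268 F49759) (tt N10980 F49760) (tt N18054 (iv F60451)) (tt N10055 F49761) (tt N11005 F49762) (tt N10000 (iv D24533)) (tt N11102 F49763))
theorem Q14271 : ∀ i, i < 14271 → P i := stepQ 14270 Q14270 (allL N14270 (tt N11177 F49764) (tt N10974 F49765) (tt N10004 F49766) (tt N13036 (iv F49769)) (tt N10003 (iv D24534)) (tt N11009 (iv F49768)) (tt N10111 F49767))
theorem Q14272 : ∀ i, i < 14272 → P i := stepQ 14271 Q14271 (allL N14271 (tt N14363 (iv F49990)) (tt N10007 F49770) (tt N10005 F49771) (tt N10172 F49772) (tt N11009 F49773) (tt N10003 (iv D24535)) (tt N10168 F49774))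
theorem Q14273 : ∀ i, i < 14273 → P i := stepQ 14272 Q14272 (allL N14272 (tt N10871 F49775) (tt N10006 (iv D24536)) (tt N18055 D28393) (tt N10071 F49776) (tt N11011 F49777) (tt N15044 (iv F51941)) (tt N10872 F49778))
theorem Q14274 : ∀ i, i < 14274 → P i := stepQ 14273 Q14273 (allL N14273 (tt N10007 F49779) (tt N18056 D28394) (tt N10006 (iv D24537)) (tt N18057 D28395) (tt N11012 F49780) (tt N10010 F49781) (tt N14284 (iv F49801)))
theorem Q14275 : ∀ i, i < 14275 → P i := stepQ 14274 Q14274 (allL N14274 (tt N18057 (iv F60458)) (tt N10172 F49782) (tt N18058 D28396) (tt N10007 (iv D24538)) (tt N18059 D28397) (tt N10012 F49783) (tt N18060 D28398))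
theorem Q14276 : ∀ i, i < 14276 → P i := stepQ 14275 Q14275 (allL N14275 (tt N14284 (iv F49798)) (tt N18061 D28399) (tt N10008 F49784) (tt N18060 (iv F60466)) (tt N11014 F49785) (tt N14279 (iv F49793)) (tt N10007 (iv D24539)))
theorem Q14277 : ∀ i, i < 14277 → P i := stepQ 14276 Q14276 (allL N14276 (tt N15325 (iv F52567)) (tt N18062 D28400) (tt N10009 (iv D24540)) (tt N18063 D28401) (tt N11015 F49786) (tt N15323 (iv F52564)) (tt N11118 F49787))
theorem Q14278 : ∀ i, i < 14278 → P i := stepQ 14277 Q14277 (allL N14277 (tt N18064 D28402) (tt N10010 (iv D24541)) (tt N18062 (iv F60470)) (tt N18065 D28403) (tt N11017 F49788) (tt N18066 D28404) (tt N18067 D28405))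
theorem Q14279 : ∀ i, i < 14279 → P i := stepQ 14278 Q14278 (allL N14278 (tt N10012 F49789) (tt N18065 (iv F60480)) (tt N14390 (iv F50062)) (tt N10010 (iv D24542)) (tt N18068 D28406) (tt N18057 (iv F60459)) (tt N18069 D28407))
theorem Q14280 : ∀ i, i < 14280 → P i := stepQ 14279 Q14279 (allL N14279 (tt N10013 F49790) (tt N18070 D28408) (tt N10011 F49791) (tt N18069 (iv F60491)) (tt N11019 F49792) (tt N14275 F49793) (tt N10010 (iv D24543)))
theorem Q14281 : ∀ i, i < 14281 → P i := stepQ 14280 Q14280 (allL N14280 (tt N14390 (iv F50060)) (tt N15965 (iv F54099)) (tt N10012 (iv D24544)) (tt N14387 (iv F50051)) (tt N15962 (iv F54092)) (tt N18058 (iv F60461)) (tt N18071 D28409))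
theorem Q14282 : ∀ i, i < 14282 → P i := stepQ 14281 Q14281 (allL N14281 (tt N18068 (iv F60487)) (tt N18019 (iv F60359)) (tt N15962 (iv F54093)) (tt N11021 F49794) (tt N10012 (iv D24545)) (tt N18059 (iv F60464)) (tt N18072 D28410))
theorem Q14283 : ∀ i, i < 14283 → P i := stepQ 14282 Q14282 (allL N14282 (tt N18069 (iv F60490)) (tt N18073 D28411) (tt N18071 (iv F60495)) (tt N10013 F49795) (tt N18072 (iv F60497)) (tt N18074 D28412) (tt N10012 (iv D24546)))
theorem Q14284 : ∀ i, i < 14284 → P i := stepQ 14283 Q14283 (allL N14283 (tt N18075 D28413) (tt N10013 (iv D24547)) (tt N14225 F49796) (tt N18073 (iv F60498)) (tt N11023 F49797) (tt N18076 D28414) (tt N17983 (iv F60276)))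
theorem Q14285 : ∀ i, i < 14285 → P i := stepQ 14284 Q14284 (allL N14284 (tt N14275 F49798) (tt N18077 D28415) (tt N10014 F49799) (tt N18074 (iv F60500)) (tt N11024 F49800) (tt N10013 (iv D24548)) (tt N14273 F49801))
theorem Q14286 : ∀ i, i < 14286 → P i := stepQ 14285 Q14285 (allL N14285 (tt N10017 F49802) (tt N12664 F49803) (tt N18078 D28416) (tt N10015 (iv D24549)) (tt N12662 F49804) (tt N14643 (iv F50629)) (tt N15800 (iv F53643)))
theorem Q14287 : ∀ i, i < 14287 → P i := stepQ 14286 Q14286 (allL N14286 (tt N14299 (iv F49834)) (tt N10017 F49805) (tt N10928 (iv F49807)) (tt N10016 (iv D24550)) (tt N10927 F49806) (tt N14295 (iv F49827)) (tt N18079 D28417))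
theorem Q14288 : ∀ i, i < 14288 → P i := stepQ 14287 Q14287 (allL N14287 (tt N14301 (iv F49839)) (tt N18080 D28418) (tt N10025 F49808) (tt N18079 (iv F60515)) (tt N10302 F49809) (tt N10025 F49810) (tt N10016 (iv D24551)))
theorem Q14289 : ∀ i, i < 14289 → P i := stepQ 14288 Q14288 (allL N14288 (tt N18078 (iv F60510)) (tt N18081 D28419) (tt N10017 (iv D24552)) (tt N18082 D28420) (tt N16873 F56896) (tt N16893 (iv F56954)) (tt N18083 D28421))
theorem Q14290 : ∀ i, i < 14290 → P i := stepQ 14289 Q14289 (allL N14289 (tt N12662 F49811) (tt N10927 F49812) (tt N16873 (iv F56894)) (tt N10303 F49813) (tt N10017 (iv D24553)) (tt N16892 (iv F56950)) (tt N18084 D28422))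
theorem Q14291 : ∀ i, i < 14291 → P i := stepQ 14290 Q14290 (allL N14290 (tt N14643 F50630) (tt N15023 (iv F51896)) (tt N16893 (iv F56953)) (tt N10018 F49814) (tt N16892 F56951) (tt N10017 (iv D24554)) (tt N18085 D28423))
theorem Q14292 : ∀ i, i < 14292 → P i := stepQ 14291 Q14291 (allL N14291 (tt N15800 (iv F53642)) (tt N18086 D28424) (tt N18083 (iv F60528)) (tt N10019 F49815) (tt N18084 (iv F60531)) (tt N18087 D28425) (tt N10017 (iv D24555)))
theorem Q14293 : ∀ i, i < 14293 → P i := stepQ 14292 Q14292 (allL N14292 (tt N14294 (iv F49822)) (tt N13783 (iv F49819)) (tt N10020 F49816) (tt N18085 (iv F60533)) (tt N10305 F49817) (tt N11419 F49818) (tt N10018 (iv D24556)))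
theorem Q14294 : ∀ i, i < 14294 → P i := stepQ 14293 Q14293 (allL N14293 (tt N11604 (iv F49821)) (tt N10019 (iv D24557)) (tt N14487 (iv F50286)) (tt N18086 (iv F60536)) (tt N10306 F49820) (tt N16601 (iv F55972)) (tt N18080 (iv F60521)))
theorem Q14295 : ∀ i, i < 14295 → P i := stepQ 14294 Q14294 (allL N14294 (tt N14292 F49822) (tt N14665 (iv F50681)) (tt N10021 F49823) (tt N18087 (iv F60539)) (tt N10307 F49824) (tt N10019 (iv D24558)) (tt N10263 F49825))
theorem Q14296 : ∀ i, i < 14296 → P i := stepQ 14295 Q14295 (allL N14295 (tt N10023 F49826) (tt N15531 (iv F52966)) (tt N15037 (iv F51928)) (tt N10022 (iv D24559)) (tt N15036 F51926) (tt N14286 F49827) (tt N18088 D28426))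
theorem Q14297 : ∀ i, i < 14297 → P i := stepQ 14296 Q14296 (allL N14296 (tt N10025 F49828) (tt N11376 F49829) (tt N14301 (iv F49840)) (tt N18088 (iv F60544)) (tt N10309 F49830) (tt N14301 (iv F49842)) (tt N10022 (iv D24560)))
theorem Q14298 : ∀ i, i < 14298 → P i := stepQ 14297 Q14297 (allL N14297 (tt N15037 (iv F51927)) (tt N18089 D28427) (tt N10023 (iv D24561)) (tt N18003 (iv F60327)) (tt N15035 F51922) (tt N15088 (iv F52037)) (tt N18090 D28428))
theorem Q14299 : ∀ i, i < 14299 → P i := stepQ 14298 Q14298 (allL N14298 (tt N15036 (iv F51923)) (tt N10027 F49831) (tt N15035 (iv F51921)) (tt N10311 F49832) (tt N10023 (iv D24562)) (tt N10947 (iv F49833)) (tt N18091 D28429))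
theorem Q14300 : ∀ i, i < 14300 → P i := stepQ 14299 Q14299 (allL N14299 (tt N14286 F49834) (tt N10122 F49835) (tt N15088 (iv F52036)) (tt N10024 F49836) (tt N10947 F49837) (tt N10023 (iv D24563)) (tt N18092 D28430))
theorem Q14301 : ∀ i, i < 14301 → P i := stepQ 14300 Q14300 (allL N14300 (tt N18088 (iv F60542)) (tt N14475 (iv F50254)) (tt N18090 (iv F60547)) (tt N10025 F49838) (tt N18091 (iv F60552)) (tt N18079 (iv F60517)) (tt N10023 (iv D24564)))
theorem Q14302 : ∀ i, i < 14302 → P i := stepQ 14301 Q14301 (allL N14301 (tt N14287 F49839) (tt N15553 (iv F53024)) (tt N14296 F49840) (tt N18092 (iv F60555)) (tt N10313 F49841) (tt N14296 F49842) (tt N10024 (iv D24565)))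
theorem Q14303 : ∀ i, i < 14303 → P i := stepQ 14302 Q14302 (allL N14302 (tt N17966 (iv F60230)) (tt N10026 (iv D24566)) (tt N18089 (iv F60545)) (tt N14237 F49843) (tt N18093 D28431) (tt N17972 (iv F60250)) (tt N14240 F49844))
theorem Q14304 : ∀ i, i < 14304 → P i := stepQ 14303 Q14303 (allL N14303 (tt N10030 F49845) (tt N18093 (iv F60558)) (tt N10027 F49846) (tt N17021 (iv F57318)) (tt N10026 (iv D24567)) (tt N10126 F49847) (tt N14461 (iv F50237)))
theorem Q14305 : ∀ i, i < 14305 → P i := stepQ 14304 Q14304 (allL N14304 (tt N10028 (iv D24568)) (tt N10197 (iv F49848)) (tt N14653 (iv F50650)) (tt N14647 (iv F50640)) (tt N14650 (iv F50645)) (tt N14653 (iv F50651)) (tt N18094 D28432))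
theorem Q14306 : ∀ i, i < 14306 → P i := stepQ 14305 Q14305 (allL N14305 (tt N14647 (iv F50637)) (tt N10029 F49849) (tt N11293 F49851) (tt N10028 (iv D24569)) (tt N11292 (iv F49852)) (tt N12868 F49850) (tt N18095 D28433))
theorem Q14307 : ∀ i, i < 14307 → P i := stepQ 14306 Q14306 (allL N14306 (tt N14650 (iv F50643)) (tt N10030 F49853) (tt N17566 (iv F58957)) (tt N14639 (iv F50619)) (tt N10028 (iv D24570)) (tt N17566 (iv F58959)) (tt N18096 D28434))
theorem Q14308 : ∀ i, i < 14308 → P i := stepQ 14307 Q14307 (allL N14307 (tt N18094 (iv F60560)) (tt N18097 D28435) (tt N17567 (iv F58960)) (tt N18095 (iv F60563)) (tt N18096 (iv F60566)) (tt N18098 D28436) (tt N10028 (iv D24571)))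
theorem Q14309 : ∀ i, i < 14309 → P i := stepQ 14308 Q14308 (allL N14308 (tt N14251 F49854) (tt N18099 D28437) (tt N10096 F49855) (tt N10031 F49856) (tt N15153 (iv F52197)) (tt N10093 F49857) (tt N10029 (iv D24572)))
theorem Q14310 : ∀ i, i < 14310 → P i := stepQ 14309 Q14309 (allL N14309 (tt N17021 (iv F57316)) (tt N14639 (iv F50617)) (tt N17016 (iv F57299)) (tt N10030 (iv D24573)) (tt N14638 F50614) (tt N10136 F49858) (tt N18100 D28438))
theorem Q14311 : ∀ i, i < 14311 → P i := stepQ 14310 Q14310 (allL N14310 (tt N14461 (iv F50234)) (tt N18101 D28439) (tt N10032 F49859) (tt N18100 (iv F60574)) (tt N10031 F49860) (tt N14446 (iv F50203)) (tt N10030 (iv D24574)))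
theorem Q14312 : ∀ i, i < 14312 → P i := stepQ 14311 Q14311 (allL N14311 (tt N18102 D28440) (tt N10031 (iv D24575)) (tt N18103 D28441) (tt N18099 (iv F60572)) (tt N18101 (iv F60575)) (tt N18104 D28442) (tt N18097 (iv F60567)))
theorem Q14313 : ∀ i, i < 14313 → P i := stepQ 14312 Q14312 (allL N14312 (tt N18105 D28443) (tt N10032 (iv D24576)) (tt N18106 D28444) (tt N10315 F49861) (tt N10033 F49862) (tt N16675 (iv F56245)) (tt N17571 (iv F58968)))
theorem Q14314 : ∀ i, i < 14314 → P i := stepQ 14313 Q14313 (allL N14313 (tt N10033 (iv D24577)) (tt N18107 D28445) (tt N18108 D28446) (tt N10034 F49863) (tt N18105 (iv F60578)) (tt N18109 D28447) (tt N17572 (iv F58970)))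
theorem Q14315 : ∀ i, i < 14315 → P i := stepQ 14314 Q14314 (allL N14314 (tt N18108 (iv F60585)) (tt N18103 (iv F60576)) (tt N10033 (iv D24578)) (tt N18106 (iv F60581)) (tt N18106 (iv F60580)) (tt N18110 D28448) (tt N17573 (iv F58971)))
theorem Q14316 : ∀ i, i < 14316 → P i := stepQ 14315 Q14315 (allL N14315 (tt N18109 (iv F60586)) (tt N14451 (iv F50209)) (tt N18110 (iv F60589)) (tt N10036 F49864) (tt N16675 (iv F56244)) (tt N10033 (iv D24579)) (tt N18111 D28449))
theorem Q14317 : ∀ i, i < 14317 → P i := stepQ 14316 Q14316 (allL N14316 (tt N15811 (iv F53672)) (tt N10034 (iv D24580)) (tt N11473 (iv F49866)) (tt N18107 (iv F60582)) (tt N10317 F49865) (tt N16854 (iv F56819)) (tt N11471 (iv F49867)))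
theorem Q14318 : ∀ i, i < 14318 → P i := stepQ 14317 Q14317 (allL N14317 (tt N10035 F49868) (tt N16081 F54358) (tt N10034 (iv D24581)) (tt N12490 (iv F49870)) (tt N10318 F49869) (tt N12466 (iv F49871)) (tt N17575 (iv F58976)))
theorem Q14319 : ∀ i, i < 14319 → P i := stepQ 14318 Q14318 (allL N14318 (tt N10036 F49872) (tt N18112 D28450) (tt N12466 F49873) (tt N18109 (iv F60587)) (tt N10319 F49874) (tt N10034 (iv D24582)) (tt N13732 F49875))
theorem Q14320 : ∀ i, i < 14320 → P i := stepQ 14319 Q14319 (allL N14319 (tt N12466 F49876) (tt N13642 (iv F49880)) (tt N10036 F49877) (tt N12488 F49878) (tt N10320 F49879) (tt N10035 (iv D24583)) (tt N18113 D28451))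
theorem Q14321 : ∀ i, i < 14321 → P i := stepQ 14320 Q14320 (allL N14320 (tt N13732 F49881) (tt N15675 (iv F53337)) (tt N18113 (iv F60599)) (tt N18111 (iv F60591)) (tt N10321 F49882) (tt N13730 F49883) (tt N10036 (iv D24584)))
theorem Q14322 : ∀ i, i < 14322 → P i := stepQ 14321 Q14321 (allL N14321 (tt N10892 F49884) (tt N16140 (iv F54488)) (tt N10037 (iv D24585)) (tt N18114 D28452) (tt N10322 F49885) (tt N10893 F49886) (tt N11646 F49887))
theorem Q14323 : ∀ i, i < 14323 → P i := stepQ 14322 Q14322 (allL N14322 (tt N12389 (iv F49889)) (tt N10038 (iv D24586)) (tt N16140 (iv F54489)) (tt N14991 (iv F51791)) (tt N10323 F49888) (tt N18115 D28453) (tt N16139 F54487))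
theorem Q14324 : ∀ i, i < 14324 → P i := stepQ 14323 Q14323 (allL N14323 (tt N10039 F49890) (tt N14991 F51793) (tt N18116 D28454) (tt N10038 (iv D24587)) (tt N12757 F49891) (tt N14338 (iv F49936)) (tt N10043 F49892))
theorem Q14325 : ∀ i, i < 14325 → P i := stepQ 14324 Q14324 (allL N14324 (tt N18116 (iv F60611)) (tt N12702 (iv F49895)) (tt N10039 (iv D24588)) (tt N18117 D28455) (tt N12791 F49893) (tt N18118 D28456) (tt N10045 F49894))
theorem Q14326 : ∀ i, i < 14326 → P i := stepQ 14325 Q14325 (allL N14325 (tt N14338 (iv F49934)) (tt N18119 D28457) (tt N18118 (iv F60620)) (tt N10040 F49896) (tt N16626 (iv F56054)) (tt N10039 (iv D24589)) (tt N14333 (iv F49920)))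
theorem Q14327 : ∀ i, i < 14327 → P i := stepQ 14326 Q14326 (allL N14326 (tt N13639 F49900) (tt N10040 (iv D24590)) (tt N13638 F49897) (tt N18119 (iv F60622)) (tt N10326 F49898) (tt N13642 F49899) (tt N17541 (iv F58873)))
theorem Q14328 : ∀ i, i < 14328 → P i := stepQ 14327 Q14327 (allL N14327 (tt N16282 (iv F54914)) (tt N10041 (iv D24591)) (tt N10042 F49901) (tt N18120 D28458) (tt N10327 F49902) (tt N16280 (iv F54907)) (tt N11880 F49903))
theorem Q14329 : ∀ i, i < 14329 → P i := stepQ 14328 Q14328 (allL N14328 (tt N15798 (iv F53637)) (tt N18120 (iv F60627)) (tt N18121 D28459) (tt N10041 (iv D24592)) (tt N18122 D28460) (tt N11446 F49904) (tt N15795 (iv F53633)))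
theorem Q14330 : ∀ i, i < 14330 → P i := stepQ 14329 Q14329 (allL N14329 (tt N10042 (iv D24593)) (tt N18123 D28461) (tt N16282 (iv F54915)) (tt N13999 F49905) (tt N10329 F49906) (tt N16281 (iv F54912)) (tt N18124 D28462))
theorem Q14331 : ∀ i, i < 14331 → P i := stepQ 14330 Q14330 (allL N14330 (tt N16281 (iv F54909)) (tt N18125 D28463) (tt N16280 (iv F54906)) (tt N14004 F49907) (tt N10330 F49908) (tt N10042 (iv D24594)) (tt N15774 F53571))
theorem Q14332 : ∀ i, i < 14332 → P i := stepQ 14331 Q14331 (allL N14331 (tt N18124 (iv F60637)) (tt N16139 (iv F54485)) (tt N11880 F49909) (tt N13991 F49910) (tt N10331 F49911) (tt N11879 (iv F49912)) (tt N10042 (iv D24595)))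
theorem Q14333 : ∀ i, i < 14333 → P i := stepQ 14332 Q14332 (allL N14332 (tt N10045 F49913) (tt N12000 (iv F49916)) (tt N10043 (iv D24596)) (tt N14260 F49915) (tt N11998 F49914) (tt N18126 D28464) (tt N18116 (iv F60614)))
theorem Q14334 : ∀ i, i < 14334 → P i := stepQ 14333 Q14333 (allL N14333 (tt N10047 F49917) (tt N17490 (iv F58685)) (tt N18126 (iv F60650)) (tt N10044 F49918) (tt N12755 F49919) (tt N10043 (iv D24597)) (tt N14325 F49920))
theorem Q14335 : ∀ i, i < 14335 → P i := stepQ 14334 Q14334 (allL N14334 (tt N12291 F49921) (tt N10044 (iv D24598)) (tt N11092 F49922) (tt N17490 (iv F58686)) (tt N10333 F49923) (tt N18125 (iv F60647)) (tt N18127 D28465))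
theorem Q14336 : ∀ i, i < 14336 → P i := stepQ 14335 Q14335 (allL N14335 (tt N14260 F49924) (tt N12700 F49925) (tt N14258 F49926) (tt N10045 (iv D24599)) (tt N16868 (iv F56872)) (tt N18128 D28466) (tt N18117 (iv F60619)))
theorem Q14337 : ∀ i, i < 14337 → P i := stepQ 14336 Q14336 (allL N14336 (tt N18126 (iv F60649)) (tt N12116 F49927) (tt N10047 F49928) (tt N18128 (iv F60661)) (tt N12114 F49929) (tt N10045 (iv D24600)) (tt N18129 D28467))
theorem Q14338 : ∀ i, i < 14338 → P i := stepQ 14337 Q14337 (allL N14337 (tt N12755 F49930) (tt N15680 (iv F53358)) (tt N12114 F49931) (tt N10335 F49932) (tt N10047 F49933) (tt N10046 (iv D24601)) (tt N16850 (iv F56803)))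
theorem Q14339 : ∀ i, i < 14339 → P i := stepQ 14338 Q14338 (allL N14338 (tt N14325 F49934) (tt N18130 D28468) (tt N18129 (iv F60664)) (tt N10048 F49935) (tt N16850 (iv F56802)) (tt N14323 F49936) (tt N10047 (iv D24602)))
theorem Q14340 : ∀ i, i < 14340 → P i := stepQ 14339 Q14339 (allL N14339 (tt N14339 F49937) (tt N10048 (iv D24603)) (tt N15682 (iv F53366)) (tt N18130 (iv F60668)) (tt N10337 F49938) (tt N18131 D28469) (tt N15682 (iv F53368)))
theorem Q14341 : ∀ i, i < 14341 → P i := stepQ 14340 Q14340 (allL N14340 (tt N10051 F49939) (tt N12693 F49940) (tt N18132 D28470) (tt N10049 (iv D24604)) (tt N12691 F49941) (tt N15554 (iv F53028)) (tt N14673 (iv F50707)))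
theorem Q14342 : ∀ i, i < 14342 → P i := stepQ 14341 Q14341 (allL N14341 (tt N14355 (iv F49972)) (tt N10051 F49942) (tt N10938 (iv F49944)) (tt N10050 (iv D24605)) (tt N10937 F49943) (tt N18133 D28471) (tt N14350 (iv F49964)))
theorem Q14343 : ∀ i, i < 14343 → P i := stepQ 14342 Q14342 (allL N14342 (tt N14356 (iv F49976)) (tt N18134 D28472) (tt N10058 F49945) (tt N18133 (iv F60677)) (tt N10339 F49946) (tt N10050 (iv D24606)) (tt N10058 F49947))
theorem Q14344 : ∀ i, i < 14344 → P i := stepQ 14343 Q14343 (allL N14343 (tt N18132 (iv F60672)) (tt N18135 D28473) (tt N10051 (iv D24607)) (tt N18136 D28474) (tt N16880 F56916) (tt N18137 D28475) (tt N16904 (iv F56989)))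
theorem Q14345 : ∀ i, i < 14345 → P i := stepQ 14344 Q14344 (allL N14344 (tt N12691 F49948) (tt N10937 F49949) (tt N16880 (iv F56914)) (tt N10340 F49950) (tt N10051 (iv D24608)) (tt N18138 D28476) (tt N16903 (iv F56985)))
theorem Q14346 : ∀ i, i < 14346 → P i := stepQ 14345 Q14345 (allL N14345 (tt N15554 (iv F53027)) (tt N18139 D28477) (tt N18137 (iv F60690)) (tt N10052 F49951) (tt N18138 (iv F60693)) (tt N10051 (iv D24609)) (tt N18140 D28478))
theorem Q14347 : ∀ i, i < 14347 → P i := stepQ 14346 Q14346 (allL N14346 (tt N14673 F50708) (tt N15027 (iv F51905)) (tt N16904 (iv F56988)) (tt N10053 F49952) (tt N16903 F56986) (tt N18141 D28479) (tt N10051 (iv D24610)))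
theorem Q14348 : ∀ i, i < 14348 → P i := stepQ 14347 Q14347 (allL N14347 (tt N11657 (iv F49954)) (tt N10052 (iv D24611)) (tt N14536 (iv F50398)) (tt N18139 (iv F60695)) (tt N10342 F49953) (tt N18134 (iv F60683)) (tt N16624 (iv F56049)))
theorem Q14349 : ∀ i, i < 14349 → P i := stepQ 14348 Q14348 (allL N14348 (tt N14349 (iv F49958)) (tt N14692 (iv F50755)) (tt N10054 F49955) (tt N18140 (iv F60697)) (tt N10343 F49956) (tt N10282 F49957) (tt N10052 (iv D24612)))
theorem Q14350 : ∀ i, i < 14350 → P i := stepQ 14349 Q14349 (allL N14349 (tt N14348 F49958) (tt N13775 F49962) (tt N10055 F49959) (tt N18141 (iv F60701)) (tt N10344 F49960) (tt N10053 (iv D24613)) (tt N11255 F49961))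
theorem Q14351 : ∀ i, i < 14351 → P i := stepQ 14350 Q14350 (allL N14350 (tt N10057 F49963) (tt N15775 (iv F53573)) (tt N15049 (iv F51955)) (tt N10056 (iv D24614)) (tt N15048 F51953) (tt N18142 D28480) (tt N14341 F49964))
theorem Q14352 : ∀ i, i < 14352 → P i := stepQ 14351 Q14351 (allL N14351 (tt N10058 F49965) (tt N11533 F49966) (tt N14356 (iv F49977)) (tt N18142 (iv F60706)) (tt N10346 F49967) (tt N10056 (iv D24615)) (tt N14356 (iv F49979)))
theorem Q14353 : ∀ i, i < 14353 → P i := stepQ 14352 Q14352 (allL N14352 (tt N15049 (iv F51954)) (tt N18143 D28481) (tt N10057 (iv D24616)) (tt N18007 (iv F60336)) (tt N15047 F51949) (tt N18144 D28482) (tt N15098 (iv F52052)))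
theorem Q14354 : ∀ i, i < 14354 → P i := stepQ 14353 Q14353 (allL N14353 (tt N15048 (iv F51950)) (tt N10061 F49968) (tt N15047 (iv F51948)) (tt N10348 F49969) (tt N10057 (iv D24617)) (tt N18145 D28483) (tt N10959 (iv F49970)))
theorem Q14355 : ∀ i, i < 14355 → P i := stepQ 14354 Q14354 (allL N14354 (tt N18142 (iv F60704)) (tt N14524 (iv F50366)) (tt N18144 (iv F60709)) (tt N10058 F49971) (tt N18145 (iv F60714)) (tt N10057 (iv D24618)) (tt N18133 (iv F60679)))
theorem Q14356 : ∀ i, i < 14356 → P i := stepQ 14355 Q14355 (allL N14355 (tt N14341 F49972) (tt N10156 F49973) (tt N15098 (iv F52051)) (tt N10059 F49974) (tt N10959 F49975) (tt N18146 D28484) (tt N10057 (iv D24619)))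
theorem Q14357 : ∀ i, i < 14357 → P i := stepQ 14356 Q14356 (allL N14356 (tt N14342 F49976) (tt N15791 (iv F53619)) (tt N14351 F49977) (tt N18146 (iv F60717)) (tt N10350 F49978) (tt N10059 (iv D24620)) (tt N14351 F49979))
theorem Q14358 : ∀ i, i < 14358 → P i := stepQ 14357 Q14357 (allL N14357 (tt N17969 (iv F60239)) (tt N10060 (iv D24621)) (tt N18143 (iv F60707)) (tt N14241 F49980) (tt N18147 D28485) (tt N14244 F49981) (tt N17978 (iv F60264)))
theorem Q14359 : ∀ i, i < 14359 → P i := stepQ 14358 Q14358 (allL N14358 (tt N10064 F49982) (tt N18147 (iv F60720)) (tt N10061 F49983) (tt N17112 (iv F57561)) (tt N10060 (iv D24622)) (tt N14510 (iv F50343)) (tt N10159 F49984))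
theorem Q14360 : ∀ i, i < 14360 → P i := stepQ 14359 Q14359 (allL N14359 (tt N10062 (iv D24623)) (tt N10233 F50718) (tt N14684 (iv F50732)) (tt N14676 (iv F50717)) (tt N14679 (iv F50723)) (tt N18148 D28486) (tt N14684 (iv F50733)))
theorem Q14361 : ∀ i, i < 14361 → P i := stepQ 14360 Q14360 (allL N14360 (tt N14676 (iv F50714)) (tt N10063 F49985) (tt N11452 F49987) (tt N10062 (iv D24624)) (tt N11451 (iv F49988)) (tt N18149 D28487) (tt N12880 F49986))
theorem Q14362 : ∀ i, i < 14362 → P i := stepQ 14361 Q14361 (allL N14361 (tt N14679 (iv F50721)) (tt N10064 F49989) (tt N17594 (iv F59028)) (tt N14668 (iv F50696)) (tt N10062 (iv D24625)) (tt N18150 D28488) (tt N17594 (iv F59030)))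
theorem Q14363 : ∀ i, i < 14363 → P i := stepQ 14362 Q14362 (allL N14362 (tt N18148 (iv F60722)) (tt N18151 D28489) (tt N17595 (iv F59031)) (tt N18149 (iv F60725)) (tt N18150 (iv F60728)) (tt N10062 (iv D24626)) (tt N18152 D28490))
theorem Q14364 : ∀ i, i < 14364 → P i := stepQ 14363 Q14363 (allL N14363 (tt N14271 F49990) (tt N18153 D28491) (tt N10115 F49991) (tt N10065 F49992) (tt N15187 (iv F52253)) (tt N10063 (iv D24627)) (tt N10112 F49993))
theorem Q14365 : ∀ i, i < 14365 → P i := stepQ 14364 Q14364 (allL N14364 (tt N17112 (iv F57559)) (tt N14668 (iv F50694)) (tt N17107 (iv F57542)) (tt N10064 (iv D24628)) (tt N14667 F50691) (tt N18154 D28492) (tt N10169 F49994))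
theorem Q14366 : ∀ i, i < 14366 → P i := stepQ 14365 Q14365 (allL N14365 (tt N14510 (iv F50340)) (tt N18155 D28493) (tt N10066 F49995) (tt N18154 (iv F60736)) (tt N10065 F49996) (tt N10064 (iv D24629)) (tt N14495 (iv F50309)))
theorem Q14367 : ∀ i, i < 14367 → P i := stepQ 14366 Q14366 (allL N14366 (tt N18156 D28494) (tt N10065 (iv D24630)) (tt N18157 D28495) (tt N18153 (iv F60734)) (tt N18155 (iv F60737)) (tt N18151 (iv F60729)) (tt N18158 D28496))
theorem Q14368 : ∀ i, i < 14368 → P i := stepQ 14367 Q14367 (allL N14367 (tt N18159 D28497) (tt N10066 (iv D24631)) (tt N18160 D28498) (tt N10352 F49997) (tt N10067 F49998) (tt N17599 (iv F59039)) (tt N16657 (iv F56176)))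
theorem Q14369 : ∀ i, i < 14369 → P i := stepQ 14368 Q14368 (allL N14368 (tt N10067 (iv D24632)) (tt N18161 D28499) (tt N18162 D28500) (tt N10068 F49999) (tt N18159 (iv F60741)) (tt N17600 (iv F59041)) (tt N18163 D28501))
theorem Q14370 : ∀ i, i < 14370 → P i := stepQ 14369 Q14369 (allL N14369 (tt N18162 (iv F60747)) (tt N18157 (iv F60738)) (tt N10067 (iv D24633)) (tt N18160 (iv F60743)) (tt N18160 (iv F60742)) (tt N17601 (iv F59042)) (tt N18164 D28502))
theorem Q14371 : ∀ i, i < 14371 → P i := stepQ 14370 Q14370 (allL N14370 (tt N18163 (iv F60748)) (tt N14500 (iv F50315)) (tt N18164 (iv F60751)) (tt N10070 F50000) (tt N16657 (iv F56175)) (tt N18165 D28503) (tt N10067 (iv D24634)))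
theorem Q14372 : ∀ i, i < 14372 → P i := stepQ 14371 Q14371 (allL N14371 (tt N15568 (iv F53058)) (tt N10068 (iv D24635)) (tt N11313 (iv F50002)) (tt N18161 (iv F60744)) (tt N10354 F50001) (tt N11312 (iv F50003)) (tt N16863 (iv F56855)))
theorem Q14373 : ∀ i, i < 14373 → P i := stepQ 14372 Q14372 (allL N14372 (tt N10069 F50004) (tt N16005 F54182) (tt N10068 (iv D24636)) (tt N12454 (iv F50006)) (tt N10355 F50005) (tt N17603 (iv F59047)) (tt N12421 (iv F50007)))
theorem Q14374 : ∀ i, i < 14374 → P i := stepQ 14373 Q14373 (allL N14373 (tt N10070 F50008) (tt N18166 D28504) (tt N12421 F50009) (tt N18163 (iv F60749)) (tt N10356 F50010) (tt N13757 F50011) (tt N10068 (iv D24637)))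
theorem Q14375 : ∀ i, i < 14375 → P i := stepQ 14374 Q14374 (allL N14374 (tt N12421 F50012) (tt N13633 (iv F50016)) (tt N10070 F50013) (tt N12452 F50014) (tt N10357 F50015) (tt N18167 D28505) (tt N10069 (iv D24638)))
theorem Q14376 : ∀ i, i < 14376 → P i := stepQ 14375 Q14375 (allL N14375 (tt N13757 F50017) (tt N15905 F53929) (tt N18167 (iv F60761)) (tt N18165 (iv F60753)) (tt N10358 F50018) (tt N10070 (iv D24639)) (tt N13755 F50019))
theorem Q14377 : ∀ i, i < 14377 → P i := stepQ 14376 Q14376 (allL N14376 (tt N10885 F50020) (tt N16061 (iv F54302)) (tt N10071 (iv D24640)) (tt N18168 D28506) (tt N10359 F50021) (tt N11595 F50022) (tt N10886 F50023))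
theorem Q14378 : ∀ i, i < 14378 → P i := stepQ 14377 Q14377 (allL N14377 (tt N12343 (iv F50025)) (tt N10072 (iv D24641)) (tt N16061 (iv F54303)) (tt N14943 (iv F51626)) (tt N10360 F50024) (tt N16060 F54301) (tt N18169 D28507))
theorem Q14379 : ∀ i, i < 14379 → P i := stepQ 14378 Q14378 (allL N14378 (tt N10073 F50026) (tt N14943 F51628) (tt N18170 D28508) (tt N10072 (iv D24642)) (tt N12753 F50027) (tt N10077 F50028) (tt N14393 (iv F50072)))
theorem Q14380 : ∀ i, i < 14380 → P i := stepQ 14379 Q14379 (allL N14379 (tt N18170 (iv F60773)) (tt N12673 (iv F50031)) (tt N10073 (iv D24643)) (tt N18171 D28509) (tt N12766 F50029) (tt N10079 F50030) (tt N18172 D28510))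
theorem Q14381 : ∀ i, i < 14381 → P i := stepQ 14380 Q14380 (allL N14380 (tt N14393 (iv F50070)) (tt N18173 D28511) (tt N18172 (iv F60782)) (tt N10074 F50032) (tt N16603 (iv F55977)) (tt N14388 (iv F50056)) (tt N10073 (iv D24644)))
theorem Q14382 : ∀ i, i < 14382 → P i := stepQ 14381 Q14381 (allL N14381 (tt N13630 (iv F50036)) (tt N10074 (iv D24645)) (tt N13629 F50033) (tt N18173 (iv F60784)) (tt N10363 F50034) (tt N17537 (iv F58859)) (tt N13633 F50035))
theorem Q14383 : ∀ i, i < 14383 → P i := stepQ 14382 Q14382 (allL N14382 (tt N16437 (iv F55423)) (tt N10075 (iv D24646)) (tt N10076 F50037) (tt N18122 (iv F60632)) (tt N10328 F50038) (tt N12089 F50039) (tt N16435 (iv F55417)))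
theorem Q14384 : ∀ i, i < 14384 → P i := stepQ 14383 Q14383 (allL N14383 (tt N15558 (iv F53035)) (tt N18122 (iv F60631)) (tt N18174 D28512) (tt N10075 (iv D24647)) (tt N18120 (iv F60628)) (tt N15555 (iv F53030)) (tt N11287 F50040))
theorem Q14385 : ∀ i, i < 14385 → P i := stepQ 14384 Q14384 (allL N14384 (tt N10076 (iv D24648)) (tt N18175 D28513) (tt N16437 (iv F55424)) (tt N14018 F50041) (tt N10364 F50042) (tt N18176 D28514) (tt N16436 (iv F55422)))
theorem Q14386 : ∀ i, i < 14386 → P i := stepQ 14385 Q14385 (allL N14385 (tt N18176 (iv F60793)) (tt N16060 (iv F54299)) (tt N12089 F50043) (tt N14010 F50044) (tt N10365 F50045) (tt N10076 (iv D24649)) (tt N12088 (iv F50046)))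
theorem Q14387 : ∀ i, i < 14387 → P i := stepQ 14386 Q14386 (allL N14386 (tt N16436 (iv F55418)) (tt N18177 D28515) (tt N16435 (iv F55415)) (tt N14023 F50047) (tt N10366 F50048) (tt N15999 F54162) (tt N10076 (iv D24650)))
theorem Q14388 : ∀ i, i < 14388 → P i := stepQ 14387 Q14387 (allL N14387 (tt N10079 F50049) (tt N12190 (iv F50052)) (tt N10077 (iv D24651)) (tt N14280 F50051) (tt N12188 F50050) (tt N18170 (iv F60776)) (tt N18178 D28516))
theorem Q14389 : ∀ i, i < 14389 → P i := stepQ 14388 Q14388 (allL N14388 (tt N10081 F50053) (tt N17481 (iv F58650)) (tt N18178 (iv F60806)) (tt N10078 F50054) (tt N12751 F50055) (tt N14380 F50056) (tt N10077 (iv D24652)))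
theorem Q14390 : ∀ i, i < 14390 → P i := stepQ 14389 Q14389 (allL N14389 (tt N12232 F50057) (tt N10078 (iv D24653)) (tt N11054 F50058) (tt N17481 (iv F58651)) (tt N10368 F50059) (tt N18179 D28517) (tt N18177 (iv F60804)))
theorem Q14391 : ∀ i, i < 14391 → P i := stepQ 14390 Q14390 (allL N14390 (tt N14280 F50060) (tt N12671 F50061) (tt N14278 F50062) (tt N10079 (iv D24654)) (tt N16859 (iv F56837)) (tt N18171 (iv F60781)) (tt N18180 D28518))
theorem Q14392 : ∀ i, i < 14392 → P i := stepQ 14391 Q14391 (allL N14391 (tt N18178 (iv F60805)) (tt N11910 F50063) (tt N10081 F50064) (tt N18180 (iv F60817)) (tt N11908 F50065) (tt N18181 D28519) (tt N10079 (iv D24655)))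
theorem Q14393 : ∀ i, i < 14393 → P i := stepQ 14392 Q14392 (allL N14392 (tt N12751 F50066) (tt N15910 (iv F53950)) (tt N11908 F50067) (tt N10370 F50068) (tt N10081 F50069) (tt N16848 (iv F56794)) (tt N10080 (iv D24656)))
theorem Q14394 : ∀ i, i < 14394 → P i := stepQ 14393 Q14393 (allL N14393 (tt N14380 F50070) (tt N18182 D28520) (tt N18181 (iv F60820)) (tt N10082 F50071) (tt N16848 (iv F56793)) (tt N10081 (iv D24657)) (tt N14378 F50072))
theorem Q14395 : ∀ i, i < 14395 → P i := stepQ 14394 Q14394 (allL N14394 (tt N14394 F50073) (tt N10082 (iv D24658)) (tt N15912 (iv F53958)) (tt N18182 (iv F60824)) (tt N10372 F50074) (tt N15912 (iv F53960)) (tt N18183 D28521))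
theorem Q14396 : ∀ i, i < 14396 → P i := stepQ 14395 Q14395 (allL N14395 (tt N15198 (iv F52271)) (tt N16726 (iv F56411)) (tt N10084 (iv D24659)) (tt N17680 (iv F59274)) (tt N11104 F50075) (tt N13778 F50076) (tt N10089 F50077))
theorem Q14397 : ∀ i, i < 14397 → P i := stepQ 14396 Q14396 (allL N14396 (tt N10087 (iv D24660)) (tt N11111 F50078) (tt N18184 D28522) (tt N15360 (iv F52639)) (tt N11111 F50079) (tt N15360 (iv F52641)) (tt N11130 F50080))
theorem Q14398 : ∀ i, i < 14398 → P i := stepQ 14397 Q14397 (allL N14397 (tt N18184 (iv F60828)) (tt N10089 F50081) (tt N10087 (iv D24661)) (tt N18185 D28523) (tt N11112 F50082) (tt N15362 (iv F52646)) (tt N15353 (iv F52628)))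
theorem Q14399 : ∀ i, i < 14399 → P i := stepQ 14398 Q14398 (allL N14398 (tt N10089 F50083) (tt N15363 (iv F52648)) (tt N10088 (iv D24662)) (tt N17690 (iv F59297)) (tt N11115 F50084) (tt N17619 (iv F59093)) (tt N15198 (iv F52274)))
theorem Q14400 : ∀ i, i < 14400 → P i := stepQ 14399 Q14399 (allL N14399 (tt N17690 (iv F59295)) (tt N18185 (iv F60831)) (tt N13815 F50085) (tt N10089 (iv D24663)) (tt N18186 D28524) (tt N13813 (iv F50086)) (tt N17680 (iv F59275)))
theorem Q14401 : ∀ i, i < 14401 → P i := stepQ 14400 Q14400 (allL N14400 (tt N17619 (iv F59090)) (tt N18187 D28525) (tt N10090 F50087) (tt N13813 F50088) (tt N11118 F50089) (tt N10089 (iv D24664)) (tt N11015 F50090))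
theorem Q14402 : ∀ i, i < 14402 → P i := stepQ 14401 Q14401 (allL N14401 (tt N10091 (iv D24665)) (tt N10914 F50091) (tt N14401 F50092) (tt N14441 (iv F50191)) (tt N14403 (iv F50099)) (tt N14402 F50095) (tt N18188 D28526))
theorem Q14403 : ∀ i, i < 14403 → P i := stepQ 14402 Q14402 (allL N14402 (tt N14403 (iv F50096)) (tt N10092 F50093) (tt N14402 F50094) (tt N18189 D28527) (tt N10091 (iv D24666)) (tt N14401 (iv F50095)) (tt N18190 D28528))
theorem Q14404 : ∀ i, i < 14404 → P i := stepQ 14403 Q14403 (allL N14403 (tt N14402 F50096) (tt N14213 F50097) (tt N14403 F50098) (tt N14443 (iv F50195)) (tt N14401 F50099) (tt N10091 (iv D24667)) (tt N18191 D28529))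
theorem Q14405 : ∀ i, i < 14405 → P i := stepQ 14404 Q14404 (allL N14404 (tt N18188 (iv F60838)) (tt N18192 D28530) (tt N14404 F50100) (tt N14444 (iv F50197)) (tt N18190 (iv F60845)) (tt N18190 (iv F60846)) (tt N10091 (iv D24668)))
theorem Q14406 : ∀ i, i < 14406 → P i := stepQ 14405 Q14405 (allL N14405 (tt N14455 (iv F50222)) (tt N18189 (iv F60841)) (tt N12962 F50102) (tt N10092 (iv D24669)) (tt N14445 (iv F50199)) (tt N12960 F50101) (tt N18193 D28531))
theorem Q14407 : ∀ i, i < 14407 → P i := stepQ 14406 Q14406 (allL N14406 (tt N14456 (iv F50225)) (tt N18194 D28532) (tt N10094 F50103) (tt N18193 (iv F60853)) (tt N10093 F50104) (tt N15153 (iv F52198)) (tt N10092 (iv D24670)))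
theorem Q14408 : ∀ i, i < 14408 → P i := stepQ 14407 Q14407 (allL N14407 (tt N18195 D28533) (tt N10093 (iv D24671)) (tt N18196 D28534) (tt N14447 (iv F50204)) (tt N18194 (iv F60854)) (tt N18197 D28535) (tt N18192 (iv F60851)))
theorem Q14409 : ∀ i, i < 14409 → P i := stepQ 14408 Q14408 (allL N14408 (tt N11124 (iv F50108)) (tt N10094 (iv D24672)) (tt N18198 D28536) (tt N11124 F50105) (tt N10095 F50106) (tt N18199 D28537) (tt N14408 F50107))
theorem Q14410 : ∀ i, i < 14410 → P i := stepQ 14409 Q14409 (allL N14409 (tt N11125 F50109) (tt N18196 (iv F60855)) (tt N10095 (iv D24673)) (tt N18200 D28538) (tt N18198 (iv F60857)) (tt N18201 D28539) (tt N14409 F50110))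
theorem Q14411 : ∀ i, i < 14411 → P i := stepQ 14410 Q14410 (allL N14410 (tt N11126 F50111) (tt N18202 D28540) (tt N18201 (iv F60866)) (tt N10097 F50112) (tt N18199 (iv F60861)) (tt N10095 (iv D24674)) (tt N11126 F50113))
theorem Q14412 : ∀ i, i < 14412 → P i := stepQ 14411 Q14411 (allL N14411 (tt N18203 D28541) (tt N10096 (iv D24675)) (tt N18204 D28542) (tt N10098 F50114) (tt N15152 (iv F52194)) (tt N18202 (iv F60870)) (tt N15327 (iv F52576)))
theorem Q14413 : ∀ i, i < 14413 → P i := stepQ 14412 Q14412 (allL N14412 (tt N11109 F50115) (tt N10097 (iv D24676)) (tt N18205 D28543) (tt N18202 (iv F60869)) (tt N11130 F50116) (tt N10098 F50117) (tt N11111 F50118))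
theorem Q14414 : ∀ i, i < 14414 → P i := stepQ 14413 Q14413 (allL N14413 (tt N10098 (iv D24677)) (tt N15350 (iv F52623)) (tt N18206 D28544) (tt N18203 (iv F60873)) (tt N11131 F50119) (tt N11109 F50120) (tt N15332 (iv F52581)))
theorem Q14415 : ∀ i, i < 14415 → P i := stepQ 14414 Q14414 (allL N14414 (tt N18206 (iv F60880)) (tt N10100 F50121) (tt N10098 (iv D24678)) (tt N16931 (iv F57054)) (tt N11132 F50122) (tt N18205 (iv F60878)) (tt N15334 F52584))
theorem Q14416 : ∀ i, i < 14416 → P i := stepQ 14415 Q14415 (allL N14415 (tt N15181 (iv F52236)) (tt N18207 D28545) (tt N10101 F50123) (tt N16932 (iv F57057)) (tt N11150 F50124) (tt N18208 D28546) (tt N10100 (iv D24679)))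
theorem Q14417 : ∀ i, i < 14417 → P i := stepQ 14416 Q14416 (allL N14416 (tt N11241 F50125) (tt N14438 (iv F50180)) (tt N18208 (iv F60886)) (tt N10153 F50126) (tt N11151 F50127) (tt N10101 (iv D24680)) (tt N11239 F50128))
theorem Q14418 : ∀ i, i < 14418 → P i := stepQ 14417 Q14417 (allL N14417 (tt N15164 (iv F52215)) (tt N16730 (iv F56422)) (tt N10102 (iv D24681)) (tt N17748 (iv F59484)) (tt N11174 F50129) (tt N10108 F50130) (tt N13786 F50131))
theorem Q14419 : ∀ i, i < 14419 → P i := stepQ 14418 Q14418 (allL N14418 (tt N10106 (iv D24682)) (tt N11181 F50132) (tt N18209 D28547) (tt N15464 (iv F52823)) (tt N11181 F50133) (tt N11199 F50134) (tt N15464 (iv F52825)))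
theorem Q14420 : ∀ i, i < 14420 → P i := stepQ 14419 Q14419 (allL N14419 (tt N18209 (iv F60890)) (tt N10108 F50135) (tt N10106 (iv D24683)) (tt N18210 D28548) (tt N11182 F50136) (tt N15457 (iv F52806)) (tt N15466 (iv F52830)))
theorem Q14421 : ∀ i, i < 14421 → P i := stepQ 14420 Q14420 (allL N14420 (tt N10108 F50137) (tt N15467 (iv F52832)) (tt N10107 (iv D24684)) (tt N17758 (iv F59507)) (tt N11185 F50138) (tt N15164 F52218) (tt N17623 (iv F59103)))
theorem Q14422 : ∀ i, i < 14422 → P i := stepQ 14421 Q14421 (allL N14421 (tt N17758 (iv F59505)) (tt N18210 (iv F60893)) (tt N13864 F50139) (tt N10108 (iv D24685)) (tt N18211 D28549) (tt N17748 (iv F59485)) (tt N13862 (iv F50140)))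
theorem Q14423 : ∀ i, i < 14423 → P i := stepQ 14422 Q14422 (allL N14422 (tt N17623 (iv F59099)) (tt N18212 D28550) (tt N10109 F50141) (tt N13862 F50142) (tt N11187 F50143) (tt N10991 (iv F50144)) (tt N10108 (iv D24686)))
theorem Q14424 : ∀ i, i < 14424 → P i := stepQ 14423 Q14423 (allL N14423 (tt N10110 (iv D24687)) (tt N10918 F50145) (tt N14423 F50146) (tt N14490 (iv F50297)) (tt N14426 (iv F50154)) (tt N18213 D28551) (tt N14424 F50149))
theorem Q14425 : ∀ i, i < 14425 → P i := stepQ 14424 Q14424 (allL N14424 (tt N14426 (iv F50151)) (tt N10111 F50147) (tt N14424 F50148) (tt N18214 D28552) (tt N10110 (iv D24688)) (tt N18215 D28553) (tt N14423 (iv F50149)))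
theorem Q14426 : ∀ i, i < 14426 → P i := stepQ 14425 Q14425 (allL N14425 (tt N18213 (iv F60900)) (tt N18216 D28554) (tt N14425 F50150) (tt N14492 (iv F50301)) (tt N18215 (iv F60907)) (tt N10110 (iv D24689)) (tt N18215 (iv F60908)))
theorem Q14427 : ∀ i, i < 14427 → P i := stepQ 14426 Q14426 (allL N14426 (tt N14424 F50151) (tt N14217 F50152) (tt N14426 F50153) (tt N14493 (iv F50303)) (tt N14423 F50154) (tt N18217 D28555) (tt N10110 (iv D24690)))
theorem Q14428 : ∀ i, i < 14428 → P i := stepQ 14427 Q14427 (allL N14427 (tt N14504 (iv F50328)) (tt N18214 (iv F60903)) (tt N13039 F50156) (tt N10111 (iv D24691)) (tt N14494 (iv F50305)) (tt N18218 D28556) (tt N13036 F50155))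
theorem Q14429 : ∀ i, i < 14429 → P i := stepQ 14428 Q14428 (allL N14428 (tt N14505 (iv F50331)) (tt N18219 D28557) (tt N10113 F50157) (tt N18218 (iv F60915)) (tt N10112 F50158) (tt N10111 (iv D24692)) (tt N15187 (iv F52255)))
theorem Q14430 : ∀ i, i < 14430 → P i := stepQ 14429 Q14429 (allL N14429 (tt N18220 D28558) (tt N10112 (iv D24693)) (tt N18221 D28559) (tt N14496 (iv F50310)) (tt N18219 (iv F60916)) (tt N18216 (iv F60909)) (tt N18222 D28560))
theorem Q14431 : ∀ i, i < 14431 → P i := stepQ 14430 Q14430 (allL N14430 (tt N11193 (iv F50162)) (tt N10113 (iv D24694)) (tt N18223 D28561) (tt N11193 F50159) (tt N10114 F50160) (tt N14430 F50161) (tt N18224 D28562))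
theorem Q14432 : ∀ i, i < 14432 → P i := stepQ 14431 Q14431 (allL N14431 (tt N11194 F50163) (tt N18221 (iv F60917)) (tt N10114 (iv D24695)) (tt N18225 D28563) (tt N18223 (iv F60919)) (tt N14431 F50164) (tt N18226 D28564))
theorem Q14433 : ∀ i, i < 14433 → P i := stepQ 14432 Q14432 (allL N14432 (tt N11195 F50165) (tt N18227 D28565) (tt N18226 (iv F60928)) (tt N10116 F50166) (tt N18224 (iv F60923)) (tt N11195 F50167) (tt N10114 (iv D24696)))
theorem Q14434 : ∀ i, i < 14434 → P i := stepQ 14433 Q14433 (allL N14433 (tt N18228 D28566) (tt N10115 (iv D24697)) (tt N18229 D28567) (tt N10117 F50168) (tt N15186 (iv F52250)) (tt N15433 (iv F52757)) (tt N18227 (iv F60933)))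
theorem Q14435 : ∀ i, i < 14435 → P i := stepQ 14434 Q14434 (allL N14434 (tt N11178 F50169) (tt N10116 (iv D24698)) (tt N18230 D28568) (tt N18227 (iv F60931)) (tt N11199 F50170) (tt N11181 F50171) (tt N10117 F50172))
theorem Q14436 : ∀ i, i < 14436 → P i := stepQ 14435 Q14435 (allL N14435 (tt N10117 (iv D24699)) (tt N15454 (iv F52801)) (tt N18231 D28569) (tt N18228 (iv F60935)) (tt N11200 F50173) (tt N15437 (iv F52762)) (tt N11178 F50174))
theorem Q14437 : ∀ i, i < 14437 → P i := stepQ 14436 Q14436 (allL N14436 (tt N18231 (iv F60942)) (tt N10119 F50175) (tt N10117 (iv D24700)) (tt N16919 (iv F57024)) (tt N11201 F50176) (tt N15439 F52765) (tt N18230 (iv F60941)))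
theorem Q14438 : ∀ i, i < 14438 → P i := stepQ 14437 Q14437 (allL N14437 (tt N15215 (iv F52292)) (tt N18232 D28570) (tt N10120 F50177) (tt N16920 (iv F57027)) (tt N11219 F50178) (tt N10119 (iv D24701)) (tt N18233 D28571))
theorem Q14439 : ∀ i, i < 14439 → P i := stepQ 14438 Q14438 (allL N14438 (tt N11172 F50179) (tt N14416 F50180) (tt N18233 (iv F60948)) (tt N10186 F50181) (tt N11220 F50182) (tt N11170 F50183) (tt N10120 (iv D24702)))
theorem Q14440 : ∀ i, i < 14440 → P i := stepQ 14439 Q14439 (allL N14439 (tt N13798 (iv F50186)) (tt N10123 (iv D24703)) (tt N17710 (iv F59366)) (tt N10124 F50184) (tt N17340 (iv F58107)) (tt N18234 D28572) (tt N10129 F50185))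
theorem Q14441 : ∀ i, i < 14441 → P i := stepQ 14440 Q14440 (allL N14440 (tt N13799 F50187) (tt N15545 (iv F53003)) (tt N13797 F50188) (tt N18234 (iv F60953)) (tt N10374 F50189) (tt N10124 (iv D24704)) (tt N14453 (iv F50216)))
theorem Q14442 : ∀ i, i < 14442 → P i := stepQ 14441 Q14441 (allL N14441 (tt N10125 (iv D24705)) (tt N15078 (iv F52012)) (tt N12957 F50190) (tt N14401 F50191) (tt N17522 (iv F58809)) (tt N18189 (iv F60842)) (tt N18235 D28573))
theorem Q14443 : ∀ i, i < 14443 → P i := stepQ 14442 Q14442 (allL N14442 (tt N17522 (iv F58808)) (tt N10126 F50192) (tt N12971 F50193) (tt N18236 D28574) (tt N10125 (iv D24706)) (tt N17562 (iv F58947)) (tt N18237 D28575))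
theorem Q14444 : ∀ i, i < 14444 → P i := stepQ 14443 Q14443 (allL N14443 (tt N18189 (iv F60840)) (tt N17972 (iv F60249)) (tt N12972 F50194) (tt N14403 F50195) (tt N17562 (iv F58946)) (tt N10125 (iv D24707)) (tt N18238 D28576))
theorem Q14445 : ∀ i, i < 14445 → P i := stepQ 14444 Q14444 (allL N14444 (tt N18235 (iv F60954)) (tt N18239 D28577) (tt N12973 F50196) (tt N14404 F50197) (tt N18237 (iv F60963)) (tt N18240 D28578) (tt N10125 (iv D24708)))
theorem Q14446 : ∀ i, i < 14446 → P i := stepQ 14445 Q14445 (allL N14445 (tt N10136 F50198) (tt N18236 (iv F60958)) (tt N14746 (iv F50939)) (tt N10126 (iv D24709)) (tt N14405 F50199) (tt N17021 (iv F57319)) (tt N18241 D28579))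
theorem Q14447 : ∀ i, i < 14447 → P i := stepQ 14446 Q14446 (allL N14446 (tt N10137 F50200) (tt N18242 D28580) (tt N10128 F50201) (tt N18241 (iv F60974)) (tt N10127 F50202) (tt N14310 F50203) (tt N10126 (iv D24710)))
theorem Q14448 : ∀ i, i < 14448 → P i := stepQ 14447 Q14447 (allL N14447 (tt N18243 D28581) (tt N10127 (iv D24711)) (tt N18244 D28582) (tt N14407 F50204) (tt N18242 (iv F60977)) (tt N18245 D28583) (tt N18239 (iv F60968)))
theorem Q14449 : ∀ i, i < 14449 → P i := stepQ 14448 Q14448 (allL N14448 (tt N18246 D28584) (tt N10128 (iv D24712)) (tt N17711 (iv F59369)) (tt N10375 F50205) (tt N10129 F50206) (tt N18247 D28585) (tt N17340 (iv F58108)))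
theorem Q14450 : ∀ i, i < 14450 → P i := stepQ 14449 Q14449 (allL N14449 (tt N10129 (iv D24713)) (tt N18248 D28586) (tt N18249 D28587) (tt N10130 F50207) (tt N18246 (iv F60983)) (tt N18250 D28588) (tt N13798 F50208))
theorem Q14451 : ∀ i, i < 14451 → P i := stepQ 14450 Q14450 (allL N14450 (tt N18249 (iv F60991)) (tt N18244 (iv F60979)) (tt N10129 (iv D24714)) (tt N17903 (iv F59997)) (tt N17711 (iv F59371)) (tt N18251 D28589) (tt N17710 F59368))
theorem Q14452 : ∀ i, i < 14452 → P i := stepQ 14451 Q14451 (allL N14451 (tt N18250 (iv F60995)) (tt N14315 F50209) (tt N18251 (iv F60998)) (tt N10132 F50210) (tt N18247 (iv F60988)) (tt N10129 (iv D24715)) (tt N17639 (iv F59156)))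
theorem Q14453 : ∀ i, i < 14453 → P i := stepQ 14452 Q14452 (allL N14452 (tt N17627 (iv F59111)) (tt N10130 (iv D24716)) (tt N13787 F50211) (tt N18248 (iv F60990)) (tt N10379 F50212) (tt N17626 (iv F59110)) (tt N17390 (iv F58294)))
theorem Q14454 : ∀ i, i < 14454 → P i := stepQ 14453 Q14453 (allL N14453 (tt N10132 F50213) (tt N16033 (iv F54237)) (tt N13788 F50214) (tt N18250 (iv F60996)) (tt N10380 F50215) (tt N10130 (iv D24717)) (tt N14440 F50216))
theorem Q14455 : ∀ i, i < 14455 → P i := stepQ 14454 Q14454 (allL N14454 (tt N10852 F50217) (tt N13872 F50218) (tt N10133 (iv D24718)) (tt N18252 D28590) (tt N10382 F50219) (tt N10850 F50220) (tt N14198 F50221))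
theorem Q14456 : ∀ i, i < 14456 → P i := stepQ 14455 Q14455 (allL N14455 (tt N14405 F50222) (tt N14245 F50223) (tt N17017 (iv F57305)) (tt N10134 (iv D24719)) (tt N10136 F50224) (tt N14638 F50615) (tt N18253 D28591))
theorem Q14457 : ∀ i, i < 14457 → P i := stepQ 14456 Q14456 (allL N14456 (tt N14406 F50225) (tt N18254 D28592) (tt N10986 F50226) (tt N18253 (iv F61010)) (tt N10135 F50227) (tt N10985 F50228) (tt N10134 (iv D24720)))
theorem Q14458 : ∀ i, i < 14458 → P i := stepQ 14457 Q14457 (allL N14457 (tt N18255 D28593) (tt N10135 (iv D24721)) (tt N18256 D28594) (tt N10138 F50229) (tt N18254 (iv F61013)) (tt N18032 (iv F60390)) (tt N15149 (iv F52187)))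
theorem Q14459 : ∀ i, i < 14459 → P i := stepQ 14458 Q14458 (allL N14458 (tt N14746 (iv F50937)) (tt N10191 (iv F50231)) (tt N10136 (iv D24722)) (tt N10193 F50230) (tt N17017 (iv F57307)) (tt N17016 F57301) (tt N18257 D28595))
theorem Q14460 : ∀ i, i < 14460 → P i := stepQ 14459 Q14459 (allL N14459 (tt N18241 (iv F60973)) (tt N18258 D28596) (tt N18257 (iv F61020)) (tt N10137 F50232) (tt N18253 (iv F61011)) (tt N18259 D28597) (tt N10136 (iv D24723)))
theorem Q14461 : ∀ i, i < 14461 → P i := stepQ 14460 Q14460 (allL N14460 (tt N18260 D28598) (tt N10137 (iv D24724)) (tt N18261 D28599) (tt N18258 (iv F61024)) (tt N10138 F50233) (tt N18262 D28600) (tt N17642 (iv F59160)))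
theorem Q14462 : ∀ i, i < 14462 → P i := stepQ 14461 Q14461 (allL N14461 (tt N14310 F50234) (tt N18030 (iv F60383)) (tt N10141 F50235) (tt N18259 (iv F61027)) (tt N10139 F50236) (tt N10137 (iv D24725)) (tt N14303 F50237))
theorem Q14463 : ∀ i, i < 14463 → P i := stepQ 14462 Q14462 (allL N14462 (tt N10138 (iv D24726)) (tt N18263 D28601) (tt N18264 D28602) (tt N18255 (iv F61016)) (tt N18260 (iv F61031)) (tt N18265 D28603) (tt N17644 (iv F59165)))
theorem Q14464 : ∀ i, i < 14464 → P i := stepQ 14463 Q14463 (allL N14463 (tt N18264 (iv F61035)) (tt N10143 F50238) (tt N10138 (iv D24727)) (tt N18266 D28604) (tt N18261 (iv F61033)) (tt N18267 D28605) (tt N16054 (iv F54284)))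
theorem Q14465 : ∀ i, i < 14465 → P i := stepQ 14464 Q14464 (allL N14464 (tt N18265 (iv F61036)) (tt N18031 (iv F60386)) (tt N18267 (iv F61039)) (tt N18032 (iv F60388)) (tt N18262 (iv F61034)) (tt N10138 (iv D24728)) (tt N18268 D28606))
theorem Q14466 : ∀ i, i < 14466 → P i := stepQ 14465 Q14465 (allL N14465 (tt N10140 (iv D24729)) (tt N18269 D28607) (tt N18270 D28608) (tt N10388 F50239) (tt N10142 F50240) (tt N14571 (iv F50475)) (tt N10210 F50241))
theorem Q14467 : ∀ i, i < 14467 → P i := stepQ 14466 Q14466 (allL N14466 (tt N18270 (iv F61055)) (tt N18261 (iv F61032)) (tt N10140 (iv D24730)) (tt N18271 D28609) (tt N10143 F50242) (tt N14839 (iv F51275)) (tt N10211 F50243))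
theorem Q14468 : ∀ i, i < 14468 → P i := stepQ 14467 Q14467 (allL N14467 (tt N14523 (iv F50364)) (tt N10141 (iv D24731)) (tt N14522 (iv F50363)) (tt N10389 F50244) (tt N10145 F50245) (tt N14835 (iv F51266)) (tt N18272 D28610))
theorem Q14469 : ∀ i, i < 14469 → P i := stepQ 14468 Q14468 (allL N14468 (tt N18273 D28611) (tt N10142 (iv D24732)) (tt N18274 D28612) (tt N10146 F50246) (tt N18269 (iv F61053)) (tt N18275 D28613) (tt N17463 (iv F58579)))
theorem Q14470 : ∀ i, i < 14470 → P i := stepQ 14469 Q14469 (allL N14469 (tt N10143 F50247) (tt N18276 D28614) (tt N10142 (iv D24733)) (tt N18277 D28615) (tt N18270 (iv F61056)) (tt N14582 (iv F50491)) (tt N10214 F50248))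
theorem Q14471 : ∀ i, i < 14471 → P i := stepQ 14470 Q14470 (allL N14470 (tt N18277 (iv F61066)) (tt N18266 (iv F61038)) (tt N18278 D28616) (tt N10143 (iv D24734)) (tt N18279 D28617) (tt N18280 D28618) (tt N10216 F50249))
theorem Q14472 : ∀ i, i < 14472 → P i := stepQ 14471 Q14471 (allL N14471 (tt N14582 (iv F50489)) (tt N18281 D28619) (tt N10144 F50250) (tt N18280 (iv F61074)) (tt N14839 (iv F51274)) (tt N10143 (iv D24735)) (tt N14577 (iv F50484)))
theorem Q14473 : ∀ i, i < 14473 → P i := stepQ 14472 Q14472 (allL N14472 (tt N18282 D28620) (tt N10144 (iv D24736)) (tt N18283 D28621) (tt N10147 F50251) (tt N14835 (iv F51265)) (tt N10145 F50252) (tt N18284 D28622))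
theorem Q14474 : ∀ i, i < 14474 → P i := stepQ 14473 Q14473 (allL N14473 (tt N10145 (iv D24737)) (tt N18285 D28623) (tt N14516 F50352) (tt N10148 F50253) (tt N14523 (iv F50365)) (tt N18282 (iv F61078)) (tt N18286 D28624))
theorem Q14475 : ∀ i, i < 14475 → P i := stepQ 14474 Q14474 (allL N14474 (tt N14516 (iv F50353)) (tt N18029 (iv F60381)) (tt N10145 (iv D24738)) (tt N14770 (iv F51027)) (tt N14522 (iv F50362)) (tt N18283 (iv F61080)) (tt N18287 D28625))
theorem Q14476 : ∀ i, i < 14476 → P i := stepQ 14475 Q14475 (allL N14475 (tt N18286 (iv F61091)) (tt N14300 F50254) (tt N18287 (iv F61096)) (tt N10150 F50255) (tt N18272 (iv F61061)) (tt N18288 D28626) (tt N10145 (iv D24739)))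
theorem Q14477 : ∀ i, i < 14477 → P i := stepQ 14476 Q14476 (allL N14476 (tt N10146 (iv D24740)) (tt N17627 (iv F59112)) (tt N16109 F54416) (tt N18273 (iv F61062)) (tt N10393 F50256) (tt N16852 F56812) (tt N16120 (iv F54446)))
theorem Q14478 : ∀ i, i < 14478 → P i := stepQ 14477 Q14477 (allL N14477 (tt N16852 (iv F56811)) (tt N14587 (iv F50504)) (tt N17462 (iv F58575)) (tt N18275 (iv F61063)) (tt N10394 F50257) (tt N10146 (iv D24741)) (tt N13307 (iv F50258)))
theorem Q14479 : ∀ i, i < 14479 → P i := stepQ 14478 Q14478 (allL N14478 (tt N10147 (iv D24742)) (tt N10886 (iv F50261)) (tt N15908 (iv F53937)) (tt N18282 (iv F61077)) (tt N10395 F50259) (tt N10148 F50260) (tt N14485 (iv F50281)))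
theorem Q14480 : ∀ i, i < 14480 → P i := stepQ 14479 Q14479 (allL N14479 (tt N15908 (iv F53940)) (tt N14635 (iv F50601)) (tt N10147 (iv D24743)) (tt N12637 (iv F50264)) (tt N10396 F50262) (tt N10149 F50263) (tt N18289 D28627))
theorem Q14481 : ∀ i, i < 14481 → P i := stepQ 14480 Q14480 (allL N14480 (tt N14485 (iv F50279)) (tt N13309 F50265) (tt N18289 (iv F61101)) (tt N18284 (iv F61085)) (tt N10397 F50266) (tt N14483 (iv F50275)) (tt N10147 (iv D24744)))
theorem Q14482 : ∀ i, i < 14482 → P i := stepQ 14481 Q14481 (allL N14481 (tt N16860 (iv F56839)) (tt N10148 (iv D24745)) (tt N11542 (iv F50269)) (tt N18285 (iv F61088)) (tt N10398 F50267) (tt N11541 F50268) (tt N14646 (iv F50636)))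
theorem Q14483 : ∀ i, i < 14483 → P i := stepQ 14482 Q14482 (allL N14482 (tt N10149 F50270) (tt N15904 F53925) (tt N10148 (iv D24746)) (tt N12639 (iv F50272)) (tt N10399 F50271) (tt N15908 (iv F53939)) (tt N18290 D28628))
theorem Q14484 : ∀ i, i < 14484 → P i := stepQ 14483 Q14483 (allL N14483 (tt N10150 F50273) (tt N17895 (iv F59971)) (tt N18290 (iv F61106)) (tt N18286 (iv F61093)) (tt N10400 F50274) (tt N14480 F50275) (tt N10148 (iv D24747)))
theorem Q14485 : ∀ i, i < 14485 → P i := stepQ 14484 Q14484 (allL N14484 (tt N18290 (iv F61105)) (tt N16560 (iv F55829)) (tt N10150 F50276) (tt N12641 F50277) (tt N10402 F50278) (tt N18291 D28629) (tt N10149 (iv D24748)))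
theorem Q14486 : ∀ i, i < 14486 → P i := stepQ 14485 Q14485 (allL N14485 (tt N14480 F50279) (tt N18292 D28630) (tt N18291 (iv F61111)) (tt N18288 (iv F61099)) (tt N10403 F50280) (tt N10150 (iv D24749)) (tt N14478 F50281))
theorem Q14487 : ∀ i, i < 14487 → P i := stepQ 14486 Q14486 (allL N14486 (tt N15870 (iv F53838)) (tt N10151 (iv D24750)) (tt N10965 F50282) (tt N12917 F50283) (tt N10404 F50284) (tt N11475 (iv F50285)) (tt N15866 (iv F53825)))
theorem Q14488 : ∀ i, i < 14488 → P i := stepQ 14487 Q14487 (allL N14487 (tt N16060 (iv F54298)) (tt N10152 (iv D24751)) (tt N14293 F50286) (tt N12919 F50287) (tt N10406 F50288) (tt N12343 F50289) (tt N16560 (iv F55831)))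
theorem Q14489 : ∀ i, i < 14489 → P i := stepQ 14488 Q14488 (allL N14488 (tt N13847 (iv F50292)) (tt N10155 (iv D24752)) (tt N17638 (iv F59150)) (tt N10157 F50290) (tt N17368 (iv F58199)) (tt N10162 F50291) (tt N18293 D28631))
theorem Q14490 : ∀ i, i < 14490 → P i := stepQ 14489 Q14489 (allL N14489 (tt N13848 F50293) (tt N15794 (iv F53629)) (tt N13789 F50294) (tt N18293 (iv F61121)) (tt N10408 F50295) (tt N14502 (iv F50322)) (tt N10157 (iv D24753)))
theorem Q14491 : ∀ i, i < 14491 → P i := stepQ 14490 Q14490 (allL N14490 (tt N10158 (iv D24754)) (tt N15083 (iv F52023)) (tt N13033 F50296) (tt N14423 F50297) (tt N17524 (iv F58815)) (tt N18294 D28632) (tt N18214 (iv F60904)))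
theorem Q14492 : ∀ i, i < 14492 → P i := stepQ 14491 Q14491 (allL N14491 (tt N17524 (iv F58814)) (tt N10159 F50298) (tt N13046 F50299) (tt N18295 D28633) (tt N10158 (iv D24755)) (tt N18296 D28634) (tt N17590 (iv F59018)))
theorem Q14493 : ∀ i, i < 14493 → P i := stepQ 14492 Q14492 (allL N14492 (tt N18294 (iv F61123)) (tt N18297 D28635) (tt N13047 F50300) (tt N14425 F50301) (tt N18296 (iv F61132)) (tt N10158 (iv D24756)) (tt N18298 D28636))
theorem Q14494 : ∀ i, i < 14494 → P i := stepQ 14493 Q14493 (allL N14493 (tt N18214 (iv F60902)) (tt N17978 (iv F60263)) (tt N13048 F50302) (tt N14426 F50303) (tt N17590 (iv F59017)) (tt N18299 D28637) (tt N10158 (iv D24757)))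
theorem Q14495 : ∀ i, i < 14495 → P i := stepQ 14494 Q14494 (allL N14494 (tt N10169 F50304) (tt N18295 (iv F61127)) (tt N14767 (iv F51016)) (tt N10159 (iv D24758)) (tt N14427 F50305) (tt N18300 D28638) (tt N17112 (iv F57562)))
theorem Q14496 : ∀ i, i < 14496 → P i := stepQ 14495 Q14495 (allL N14495 (tt N10170 F50306) (tt N18301 D28639) (tt N10161 F50307) (tt N18300 (iv F61143)) (tt N10160 F50308) (tt N10159 (iv D24759)) (tt N14365 F50309))
theorem Q14497 : ∀ i, i < 14497 → P i := stepQ 14496 Q14496 (allL N14496 (tt N18302 D28640) (tt N10160 (iv D24760)) (tt N18303 D28641) (tt N14429 F50310) (tt N18301 (iv F61146)) (tt N18297 (iv F61134)) (tt N18304 D28642))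
theorem Q14498 : ∀ i, i < 14498 → P i := stepQ 14497 Q14497 (allL N14497 (tt N18305 D28643) (tt N10161 (iv D24761)) (tt N17639 (iv F59153)) (tt N10409 F50311) (tt N10162 F50312) (tt N17368 (iv F58200)) (tt N18251 (iv F61001)))
theorem Q14499 : ∀ i, i < 14499 → P i := stepQ 14498 Q14498 (allL N14498 (tt N10162 (iv D24762)) (tt N18306 D28644) (tt N18307 D28645) (tt N10163 F50313) (tt N18305 (iv F61153)) (tt N13847 F50314) (tt N18308 D28646))
theorem Q14500 : ∀ i, i < 14500 → P i := stepQ 14499 Q14499 (allL N14499 (tt N18307 (iv F61156)) (tt N18303 (iv F61148)) (tt N10162 (iv D24763)) (tt N17879 (iv F59905)) (tt N17639 (iv F59155)) (tt N17638 F59152) (tt N18247 (iv F60989)))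
theorem Q14501 : ∀ i, i < 14501 → P i := stepQ 14500 Q14500 (allL N14500 (tt N18308 (iv F61161)) (tt N14370 F50315) (tt N18247 (iv F60986)) (tt N10165 F50316) (tt N18251 (iv F61000)) (tt N17711 (iv F59372)) (tt N10162 (iv D24764)))
theorem Q14502 : ∀ i, i < 14502 → P i := stepQ 14501 Q14501 (allL N14501 (tt N17699 (iv F59327)) (tt N10163 (iv D24765)) (tt N13838 F50317) (tt N18306 (iv F61155)) (tt N10413 F50318) (tt N17394 (iv F58308)) (tt N17698 F59326))
theorem Q14503 : ∀ i, i < 14503 → P i := stepQ 14502 Q14502 (allL N14502 (tt N10165 F50319) (tt N16110 (iv F54418)) (tt N13839 F50320) (tt N18308 (iv F61162)) (tt N10414 F50321) (tt N14489 F50322) (tt N10163 (iv D24766)))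
theorem Q14504 : ∀ i, i < 14504 → P i := stepQ 14503 Q14503 (allL N14503 (tt N10849 F50323) (tt N13822 F50324) (tt N10166 (iv D24767)) (tt N18309 D28647) (tt N10416 F50325) (tt N14196 F50326) (tt N10847 F50327))
theorem Q14505 : ∀ i, i < 14505 → P i := stepQ 14504 Q14504 (allL N14504 (tt N14427 F50328) (tt N14265 F50329) (tt N17109 (iv F57552)) (tt N10167 (iv D24768)) (tt N10169 F50330) (tt N18310 D28648) (tt N14667 F50692))
theorem Q14506 : ∀ i, i < 14506 → P i := stepQ 14505 Q14505 (allL N14505 (tt N14428 F50331) (tt N18311 D28649) (tt N11010 F50332) (tt N18310 (iv F61171)) (tt N10168 F50333) (tt N10167 (iv D24769)) (tt N11009 F50334))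
theorem Q14507 : ∀ i, i < 14507 → P i := stepQ 14506 Q14506 (allL N14506 (tt N18312 D28650) (tt N10168 (iv D24770)) (tt N18313 D28651) (tt N10171 F50335) (tt N18311 (iv F61174)) (tt N15182 (iv F52240)) (tt N18061 (iv F60469)))
theorem Q14508 : ∀ i, i < 14508 → P i := stepQ 14507 Q14507 (allL N14507 (tt N14767 (iv F51014)) (tt N10227 (iv F50337)) (tt N10169 (iv D24771)) (tt N10229 F50336) (tt N17109 (iv F57554)) (tt N18314 D28652) (tt N17107 F57545))
theorem Q14509 : ∀ i, i < 14509 → P i := stepQ 14508 Q14508 (allL N14508 (tt N18300 (iv F61142)) (tt N18315 D28653) (tt N18314 (iv F61181)) (tt N10170 F50338) (tt N18310 (iv F61172)) (tt N10169 (iv D24772)) (tt N18316 D28654))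
theorem Q14510 : ∀ i, i < 14510 → P i := stepQ 14509 Q14509 (allL N14509 (tt N18317 D28655) (tt N10170 (iv D24773)) (tt N18318 D28656) (tt N18315 (iv F61185)) (tt N10171 F50339) (tt N17714 (iv F59376)) (tt N18319 D28657))
theorem Q14511 : ∀ i, i < 14511 → P i := stepQ 14510 Q14510 (allL N14510 (tt N14365 F50340) (tt N18059 (iv F60462)) (tt N10174 F50341) (tt N18316 (iv F61188)) (tt N10172 F50342) (tt N14358 F50343) (tt N10170 (iv D24774)))
theorem Q14512 : ∀ i, i < 14512 → P i := stepQ 14511 Q14511 (allL N14511 (tt N10171 (iv D24775)) (tt N18320 D28658) (tt N18321 D28659) (tt N18312 (iv F61177)) (tt N18317 (iv F61192)) (tt N17716 (iv F59381)) (tt N18322 D28660))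
theorem Q14513 : ∀ i, i < 14513 → P i := stepQ 14512 Q14512 (allL N14512 (tt N18321 (iv F61198)) (tt N10176 F50344) (tt N10171 (iv D24776)) (tt N18323 D28661) (tt N18318 (iv F61194)) (tt N16128 (iv F54458)) (tt N18324 D28662))
theorem Q14514 : ∀ i, i < 14514 → P i := stepQ 14513 Q14513 (allL N14513 (tt N18322 (iv F61201)) (tt N18060 (iv F60465)) (tt N18324 (iv F61204)) (tt N18061 (iv F60467)) (tt N18319 (iv F61195)) (tt N18325 D28663) (tt N10171 (iv D24777)))
theorem Q14515 : ∀ i, i < 14515 → P i := stepQ 14514 Q14514 (allL N14514 (tt N10173 (iv D24778)) (tt N18326 D28664) (tt N18327 D28665) (tt N10422 F50345) (tt N10175 F50346) (tt N10245 F50347) (tt N14622 (iv F50579)))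
theorem Q14516 : ∀ i, i < 14516 → P i := stepQ 14515 Q14515 (allL N14515 (tt N18327 (iv F61213)) (tt N18318 (iv F61193)) (tt N10173 (iv D24779)) (tt N18328 D28666) (tt N10176 F50348) (tt N10246 F50349) (tt N14808 (iv F51167)))
theorem Q14517 : ∀ i, i < 14517 → P i := stepQ 14516 Q14516 (allL N14516 (tt N14474 F50353) (tt N10174 (iv D24780)) (tt N14473 (iv F50352)) (tt N10423 F50350) (tt N10178 F50351) (tt N18329 D28667) (tt N14803 (iv F51155)))
theorem Q14518 : ∀ i, i < 14518 → P i := stepQ 14517 Q14517 (allL N14517 (tt N18330 D28668) (tt N10175 (iv D24781)) (tt N18331 D28669) (tt N10179 F50354) (tt N18326 (iv F61211)) (tt N17438 (iv F58483)) (tt N18332 D28670))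
theorem Q14519 : ∀ i, i < 14519 → P i := stepQ 14518 Q14518 (allL N14518 (tt N10176 F50355) (tt N18333 D28671) (tt N10175 (iv D24782)) (tt N18334 D28672) (tt N18327 (iv F61214)) (tt N10249 F50356) (tt N14631 (iv F50591)))
theorem Q14520 : ∀ i, i < 14520 → P i := stepQ 14519 Q14519 (allL N14519 (tt N18334 (iv F61226)) (tt N18323 (iv F61203)) (tt N18335 D28673) (tt N10176 (iv D24783)) (tt N18336 D28674) (tt N10251 F50357) (tt N18337 D28675))
theorem Q14521 : ∀ i, i < 14521 → P i := stepQ 14520 Q14520 (allL N14520 (tt N14631 (iv F50589)) (tt N18338 D28676) (tt N10177 F50358) (tt N18337 (iv F61236)) (tt N14808 (iv F51166)) (tt N14627 (iv F50586)) (tt N10176 (iv D24784)))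
theorem Q14522 : ∀ i, i < 14522 → P i := stepQ 14521 Q14521 (allL N14521 (tt N18339 D28677) (tt N10177 (iv D24785)) (tt N18340 D28678) (tt N10180 F50359) (tt N14803 (iv F51154)) (tt N18341 D28679) (tt N10178 F50360))
theorem Q14523 : ∀ i, i < 14523 → P i := stepQ 14522 Q14522 (allL N14522 (tt N10178 (iv D24786)) (tt N18342 D28680) (tt N14467 F50363) (tt N10181 F50361) (tt N14474 F50362) (tt N18343 D28681) (tt N18339 (iv F61258)))
theorem Q14524 : ∀ i, i < 14524 → P i := stepQ 14523 Q14523 (allL N14523 (tt N14467 F50364) (tt N18058 (iv F60460)) (tt N10178 (iv D24787)) (tt N14749 (iv F50950)) (tt N14473 F50365) (tt N18344 D28682) (tt N18340 (iv F61264)))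
theorem Q14525 : ∀ i, i < 14525 → P i := stepQ 14524 Q14524 (allL N14524 (tt N18343 (iv F61274)) (tt N14354 F50366) (tt N18344 (iv F61280)) (tt N10183 F50367) (tt N18329 (iv F61221)) (tt N10178 (iv D24788)) (tt N18345 D28683))
theorem Q14526 : ∀ i, i < 14526 → P i := stepQ 14525 Q14525 (allL N14525 (tt N10179 (iv D24789)) (tt N17699 (iv F59328)) (tt N16032 F54236) (tt N18330 (iv F61222)) (tt N10427 F50368) (tt N16044 (iv F54267)) (tt N16861 F56847))
theorem Q14527 : ∀ i, i < 14527 → P i := stepQ 14526 Q14526 (allL N14526 (tt N16861 F56846) (tt N14636 (iv F50604)) (tt N17437 (iv F58479)) (tt N18332 (iv F61223)) (tt N10428 F50369) (tt N13366 (iv F50370)) (tt N10179 (iv D24790)))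
theorem Q14528 : ∀ i, i < 14528 → P i := stepQ 14527 Q14527 (allL N14527 (tt N10180 (iv D24791)) (tt N10893 (iv F50373)) (tt N15678 (iv F53345)) (tt N18339 (iv F61256)) (tt N10429 F50371) (tt N14534 (iv F50393)) (tt N10181 F50372))
theorem Q14529 : ∀ i, i < 14529 → P i := stepQ 14528 Q14528 (allL N14528 (tt N15678 F53348) (tt N14586 (iv F50501)) (tt N10180 (iv D24792)) (tt N12626 (iv F50376)) (tt N10430 F50374) (tt N18346 D28684) (tt N10182 F50375))
theorem Q14530 : ∀ i, i < 14530 → P i := stepQ 14529 Q14529 (allL N14529 (tt N14534 (iv F50391)) (tt N13368 F50377) (tt N18346 (iv F61286)) (tt N18341 (iv F61268)) (tt N10431 F50378) (tt N10180 (iv D24793)) (tt N14532 (iv F50387)))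
theorem Q14531 : ∀ i, i < 14531 → P i := stepQ 14530 Q14530 (allL N14530 (tt N16869 (iv F56874)) (tt N10181 (iv D24794)) (tt N11383 (iv F50381)) (tt N18342 (iv F61271)) (tt N10432 F50379) (tt N14675 (iv F50713)) (tt N11382 F50380))
theorem Q14532 : ∀ i, i < 14532 → P i := stepQ 14531 Q14531 (allL N14531 (tt N10182 F50382) (tt N15674 F53333) (tt N10181 (iv D24795)) (tt N12628 F50384) (tt N10433 F50383) (tt N18347 D28685) (tt N15678 (iv F53347)))
theorem Q14533 : ∀ i, i < 14533 → P i := stepQ 14532 Q14532 (allL N14532 (tt N10183 F50385) (tt N17917 (iv F60055)) (tt N18347 (iv F61291)) (tt N18343 (iv F61276)) (tt N10434 F50386) (tt N10181 (iv D24796)) (tt N14529 F50387))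
theorem Q14534 : ∀ i, i < 14534 → P i := stepQ 14533 Q14533 (allL N14533 (tt N18347 (iv F61290)) (tt N16595 (iv F55939)) (tt N10183 F50388) (tt N12630 F50389) (tt N10436 F50390) (tt N10182 (iv D24797)) (tt N18348 D28686))
theorem Q14535 : ∀ i, i < 14535 → P i := stepQ 14534 Q14534 (allL N14534 (tt N14529 F50391) (tt N18349 D28687) (tt N18348 (iv F61296)) (tt N18345 (iv F61284)) (tt N10437 F50392) (tt N14527 F50393) (tt N10183 (iv D24798)))
theorem Q14536 : ∀ i, i < 14536 → P i := stepQ 14535 Q14535 (allL N14535 (tt N15636 (iv F53249)) (tt N10184 (iv D24799)) (tt N10953 F50394) (tt N12902 F50395) (tt N10438 F50396) (tt N15632 (iv F53236)) (tt N11316 (iv F50397)))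
theorem Q14537 : ∀ i, i < 14537 → P i := stepQ 14536 Q14536 (allL N14536 (tt N16139 (iv F54484)) (tt N10185 (iv D24800)) (tt N14347 F50398) (tt N12904 F50399) (tt N10440 F50400) (tt N16595 (iv F55941)) (tt N12389 F50401))
theorem Q14538 : ∀ i, i < 14538 → P i := stepQ 14537 Q14537 (allL N14537 (tt N11243 F50402) (tt N18350 D28688) (tt N12665 F50403) (tt N10188 F50404) (tt N13108 F50405) (tt N13106 F50406) (tt N10187 (iv D24801)))
theorem Q14539 : ∀ i, i < 14539 → P i := stepQ 14538 Q14538 (allL N14538 (tt N17888 (iv F59939)) (tt N10188 (iv D24802)) (tt N14077 (iv F50409)) (tt N18350 (iv F61304)) (tt N10441 F50407) (tt N17885 (iv F59930)) (tt N10194 F50408))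
theorem Q14540 : ∀ i, i < 14540 → P i := stepQ 14539 Q14539 (allL N14539 (tt N16873 (iv F56892)) (tt N10189 (iv D24803)) (tt N12662 F50410) (tt N16872 (iv F56891)) (tt N18078 (iv F60512)) (tt N16889 (iv F56940)) (tt N18351 D28689))
theorem Q14541 : ∀ i, i < 14541 → P i := stepQ 14540 Q14540 (allL N14540 (tt N10195 F50411) (tt N16872 (iv F56889)) (tt N10195 F50412) (tt N10189 (iv D24804)) (tt N18352 D28690) (tt N18352 F61313) (tt N18353 D28691))
theorem Q14542 : ∀ i, i < 14542 → P i := stepQ 14541 Q14541 (allL N14541 (tt N10196 F50413) (tt N18078 (iv F60511)) (tt N10190 F50414) (tt N18354 D28692) (tt N10189 (iv D24805)) (tt N18354 F61322) (tt N18355 D28693))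
theorem Q14543 : ∀ i, i < 14543 → P i := stepQ 14542 Q14542 (allL N14542 (tt N10197 F50415) (tt N17640 (iv F59157)) (tt N10191 F50416) (tt N18352 F61314) (tt N18354 (iv F61321)) (tt N10189 (iv D24806)) (tt N14555 (iv F50446)))
theorem Q14544 : ∀ i, i < 14544 → P i := stepQ 14543 Q14543 (allL N14543 (tt N10198 F50417) (tt N18356 D28694) (tt N10192 F50418) (tt N18353 (iv F61317)) (tt N18355 (iv F61325)) (tt N14553 (iv F50443)) (tt N10189 (iv D24807)))
theorem Q14545 : ∀ i, i < 14545 → P i := stepQ 14544 Q14544 (allL N14544 (tt N10199 F50419) (tt N17017 (iv F57304)) (tt N18354 (iv F61320)) (tt N10444 F50420) (tt N10191 F50421) (tt N10190 (iv D24808)) (tt N14557 (iv F50453)))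
theorem Q14546 : ∀ i, i < 14546 → P i := stepQ 14545 Q14545 (allL N14545 (tt N10200 F50422) (tt N18357 D28695) (tt N18355 (iv F61324)) (tt N10445 F50423) (tt N10192 F50424) (tt N14556 (iv F50449)) (tt N10190 (iv D24809)))
theorem Q14547 : ∀ i, i < 14547 → P i := stepQ 14546 Q14546 (allL N14546 (tt N18358 D28696) (tt N10192 (iv D24810)) (tt N18359 D28697) (tt N10194 F50425) (tt N18357 (iv F61327)) (tt N14076 (iv F50426)) (tt N18350 (iv F61306)))
theorem Q14548 : ∀ i, i < 14548 → P i := stepQ 14547 Q14547 (allL N14547 (tt N14747 (iv F50942)) (tt N14563 (iv F50460)) (tt N11883 F50427) (tt N18257 (iv F61021)) (tt N10447 F50428) (tt N13284 F50429) (tt N10193 (iv D24811)))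
theorem Q14549 : ∀ i, i < 14549 → P i := stepQ 14548 Q14548 (allL N14548 (tt N10194 (iv D24812)) (tt N18360 D28698) (tt N14070 F50430) (tt N18358 (iv F61330)) (tt N10448 F50431) (tt N14069 F50432) (tt N17888 (iv F59943)))
theorem Q14550 : ∀ i, i < 14550 → P i := stepQ 14549 Q14549 (allL N14549 (tt N18352 (iv F61310)) (tt N14647 (iv F50638)) (tt N18352 (iv F61312)) (tt N10197 F50438) (tt N10195 (iv D24813)) (tt N10195 F50439) (tt N18361 D28699))
theorem Q14551 : ∀ i, i < 14551 → P i := stepQ 14550 Q14550 (allL N14550 (tt N18353 (iv F61315)) (tt N18362 D28700) (tt N18353 (iv F61316)) (tt N10198 F50434) (tt N18361 (iv F61339)) (tt N18363 D28701) (tt N10195 (iv D24815)))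
theorem Q14552 : ∀ i, i < 14552 → P i := stepQ 14551 Q14551 (allL N14551 (tt N18354 (iv F61318)) (tt N14650 (iv F50644)) (tt N10199 F50435) (tt N10196 (iv D24816)) (tt N10197 (iv F50436)) (tt N10196 (iv F50437)) (tt N18364 D28702))
theorem Q14553 : ∀ i, i < 14553 → P i := stepQ 14552 Q14552 (allL N14552 (tt N18355 (iv F61323)) (tt N18365 D28703) (tt N10200 F50440) (tt N18364 (iv F61348)) (tt N10198 F50441) (tt N18366 D28704) (tt N10196 (iv D24817)))
theorem Q14554 : ∀ i, i < 14554 → P i := stepQ 14553 Q14553 (allL N14553 (tt N14555 (iv F50444)) (tt N18367 D28705) (tt N10201 F50442) (tt N18361 (iv F61338)) (tt N18364 (iv F61349)) (tt N14543 F50443) (tt N10197 (iv D24818)))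
theorem Q14555 : ∀ i, i < 14555 → P i := stepQ 14554 Q14554 (allL N14554 (tt N18368 D28706) (tt N10198 (iv D24819)) (tt N15661 (iv F53303)) (tt N18362 (iv F61341)) (tt N18365 (iv F61351)) (tt N18369 D28707) (tt N14655 (iv F50656)))
theorem Q14556 : ∀ i, i < 14556 → P i := stepQ 14555 Q14555 (allL N14555 (tt N14553 F50444) (tt N18370 D28708) (tt N10202 F50445) (tt N18363 (iv F61344)) (tt N18366 (iv F61355)) (tt N10198 (iv D24820)) (tt N14542 F50446))
theorem Q14557 : ∀ i, i < 14557 → P i := stepQ 14556 Q14556 (allL N14556 (tt N14557 (iv F50450)) (tt N18371 D28709) (tt N18364 (iv F61347)) (tt N10452 F50447) (tt N10201 F50448) (tt N14545 F50449) (tt N10199 (iv D24821)))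
theorem Q14558 : ∀ i, i < 14558 → P i := stepQ 14557 Q14557 (allL N14557 (tt N14556 F50450) (tt N18372 D28710) (tt N18366 (iv F61353)) (tt N10454 F50451) (tt N10202 F50452) (tt N10200 (iv D24822)) (tt N14544 F50453))
theorem Q14559 : ∀ i, i < 14559 → P i := stepQ 14558 Q14558 (allL N14558 (tt N18373 D28711) (tt N10201 (iv D24823)) (tt N18374 D28712) (tt N10203 F50454) (tt N18371 (iv F61358)) (tt N17897 (iv F59981)) (tt N14659 (iv F50668)))
theorem Q14560 : ∀ i, i < 14560 → P i := stepQ 14559 Q14559 (allL N14559 (tt N18375 D28713) (tt N10202 (iv D24824)) (tt N18376 D28714) (tt N10206 F50455) (tt N18372 (iv F61431)) (tt N16075 (iv F54338)) (tt N18377 D28715))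
theorem Q14561 : ∀ i, i < 14561 → P i := stepQ 14560 Q14560 (allL N14560 (tt N10203 (iv D24825)) (tt N13403 (iv F50457)) (tt N17928 (iv F60093)) (tt N18373 (iv F61432)) (tt N10459 F50456) (tt N17895 (iv F59973)) (tt N14661 (iv F50672)))
theorem Q14562 : ∀ i, i < 14562 → P i := stepQ 14561 Q14561 (allL N14561 (tt N17403 (iv F58339)) (tt N10204 (iv D24826)) (tt N17404 (iv F58345)) (tt N16071 (iv F54327)) (tt N10460 F50458) (tt N17401 (iv F58335)) (tt N17634 (iv F59128)))
theorem Q14563 : ∀ i, i < 14563 → P i := stepQ 14562 Q14562 (allL N14562 (tt N10206 (iv D24827)) (tt N17637 F59147) (tt N17937 (iv F60126)) (tt N18375 (iv F61437)) (tt N10461 F50459) (tt N17936 (iv F60124)) (tt N18112 (iv F60597)))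
theorem Q14564 : ∀ i, i < 14564 → P i := stepQ 14563 Q14563 (allL N14563 (tt N18112 (iv F60593)) (tt N14547 F50460) (tt N17940 (iv F60140)) (tt N18377 (iv F61442)) (tt N10462 F50461) (tt N18378 D28716) (tt N10206 (iv D24828)))
theorem Q14565 : ∀ i, i < 14565 → P i := stepQ 14564 Q14564 (allL N14564 (tt N17673 (iv F59241)) (tt N15861 F53808) (tt N17202 (iv F57796)) (tt N16066 (iv F54315)) (tt N10465 F50462) (tt N10207 (iv D24829)) (tt N18379 D28717))
theorem Q14566 : ∀ i, i < 14566 → P i := stepQ 14565 Q14565 (allL N14565 (tt N15546 F53007) (tt N17634 (iv F59126)) (tt N17061 F57418) (tt N16067 (iv F54316)) (tt N10466 F50463) (tt N18380 D28718) (tt N10207 (iv D24830)))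
theorem Q14567 : ∀ i, i < 14567 → P i := stepQ 14566 Q14566 (allL N14566 (tt N18080 (iv F60518)) (tt N10209 (iv D24831)) (tt N18381 D28719) (tt N16074 (iv F54335)) (tt N10467 F50464) (tt N18382 D28720) (tt N11604 F50465))
theorem Q14568 : ∀ i, i < 14568 → P i := stepQ 14567 Q14567 (allL N14567 (tt N17674 (iv F59246)) (tt N10210 (iv D24832)) (tt N18383 D28721) (tt N10478 F50466) (tt N10213 F50467) (tt N17201 (iv F57794)) (tt N18384 D28722))
theorem Q14569 : ∀ i, i < 14569 → P i := stepQ 14568 Q14568 (allL N14568 (tt N10211 F50468) (tt N18385 D28723) (tt N10210 (iv D24833)) (tt N18386 D28724) (tt N10214 F50469) (tt N17199 (iv F57785)) (tt N18270 (iv F61057)))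
theorem Q14570 : ∀ i, i < 14570 → P i := stepQ 14569 Q14569 (allL N14569 (tt N18386 (iv F61471)) (tt N16049 (iv F54274)) (tt N18387 D28725) (tt N10211 (iv D24834)) (tt N18388 D28726) (tt N18389 D28727) (tt N18271 (iv F61058)))
theorem Q14571 : ∀ i, i < 14571 → P i := stepQ 14570 Q14570 (allL N14570 (tt N17199 (iv F57782)) (tt N18390 D28728) (tt N10212 F50470) (tt N18389 (iv F61475)) (tt N10217 F50471) (tt N10211 (iv D24835)) (tt N18391 D28729))
theorem Q14572 : ∀ i, i < 14572 → P i := stepQ 14571 Q14571 (allL N14571 (tt N10529 F50472) (tt N18392 D28730) (tt N18391 (iv F61479)) (tt N10481 F50473) (tt N10218 F50474) (tt N14465 F50475) (tt N10212 (iv D24836)))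
theorem Q14573 : ∀ i, i < 14573 → P i := stepQ 14572 Q14572 (allL N14572 (tt N13142 F50476) (tt N18393 D28731) (tt N10213 (iv D24837)) (tt N15296 (iv F52491)) (tt N18383 (iv F61467)) (tt N18394 D28732) (tt N18395 D28733))
theorem Q14574 : ∀ i, i < 14574 → P i := stepQ 14573 Q14573 (allL N14573 (tt N17675 (iv F59250)) (tt N13401 F50477) (tt N18394 (iv F61488)) (tt N10219 F50478) (tt N17201 (iv F57793)) (tt N10213 (iv D24838)) (tt N18396 D28734))
theorem Q14575 : ∀ i, i < 14575 → P i := stepQ 14574 Q14574 (allL N14574 (tt N17676 (iv F59257)) (tt N17463 (iv F58578)) (tt N18395 (iv F61490)) (tt N10220 F50479) (tt N18384 (iv F61469)) (tt N17624 (iv F59104)) (tt N10213 (iv D24839)))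
theorem Q14576 : ∀ i, i < 14576 → P i := stepQ 14575 Q14575 (allL N14575 (tt N18397 D28735) (tt N10214 (iv D24840)) (tt N18393 (iv F61486)) (tt N18398 D28736) (tt N18385 (iv F61470)) (tt N18399 D28737) (tt N18400 D28738))
theorem Q14577 : ∀ i, i < 14577 → P i := stepQ 14576 Q14576 (allL N14576 (tt N10216 F50480) (tt N18398 (iv F61494)) (tt N10251 F50481) (tt N10214 (iv D24841)) (tt N18401 D28739) (tt N18335 (iv F61231)) (tt N18277 (iv F61067)))
theorem Q14578 : ∀ i, i < 14578 → P i := stepQ 14577 Q14577 (allL N14577 (tt N10217 F50482) (tt N17679 (iv F59270)) (tt N10215 F50483) (tt N18335 (iv F61230)) (tt N17199 (iv F57784)) (tt N10214 (iv D24842)) (tt N14471 F50484))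
theorem Q14579 : ∀ i, i < 14579 → P i := stepQ 14578 Q14578 (allL N14578 (tt N10251 F50485) (tt N18402 D28740) (tt N10216 (iv D24843)) (tt N10249 F50486) (tt N18403 D28741) (tt N18334 (iv F61227)) (tt N18278 (iv F61071)))
theorem Q14580 : ∀ i, i < 14580 → P i := stepQ 14579 Q14579 (allL N14579 (tt N18401 (iv F61495)) (tt N16046 (iv F54271)) (tt N18403 (iv F61499)) (tt N18388 (iv F61473)) (tt N10216 (iv D24844)) (tt N18404 D28742) (tt N18279 (iv F61072)))
theorem Q14581 : ∀ i, i < 14581 → P i := stepQ 14580 Q14580 (allL N14580 (tt N18335 (iv F61229)) (tt N15456 (iv F63083)) (tt N18334 (iv F61228)) (tt N10217 F50487) (tt N18404 (iv F61500)) (tt N10216 (iv D24845)) (tt N18405 D28744))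
theorem Q14582 : ∀ i, i < 14582 → P i := stepQ 14581 Q14581 (allL N14581 (tt N16052 F59255) (tt N10217 (iv D24846)) (tt N11394 F50488) (tt N15456 (iv F63084)) (tt N18390 (iv F61477)) (tt N16052 (iv F54280)) (tt N15455 (iv F63089)))
theorem Q14583 : ∀ i, i < 14583 → P i := stepQ 14582 Q14582 (allL N14582 (tt N14471 F50489) (tt N18406 D28746) (tt N10218 F50490) (tt N18405 (iv F61503)) (tt N18391 (iv F61480)) (tt N14469 F50491) (tt N10217 (iv D24847)))
theorem Q14584 : ∀ i, i < 14584 → P i := stepQ 14583 Q14583 (allL N14583 (tt N18407 D28747) (tt N10218 (iv D24848)) (tt N18408 D28748) (tt N10221 F50492) (tt N18392 (iv F61483)) (tt N18409 D28749) (tt N11397 F50493))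
theorem Q14585 : ∀ i, i < 14585 → P i := stepQ 14584 Q14584 (allL N14584 (tt N13783 F50494) (tt N17635 (iv F59131)) (tt N13398 F50495) (tt N18396 (iv F61492)) (tt N10486 F50496) (tt N13823 F50497) (tt N10219 (iv D24849)))
theorem Q14586 : ∀ i, i < 14586 → P i := stepQ 14585 Q14585 (allL N14585 (tt N10221 (iv D24850)) (tt N13284 F50498) (tt N18410 D28750) (tt N18407 (iv F61508)) (tt N10488 F50499) (tt N15772 (iv F53561)) (tt N11398 F50500))
theorem Q14587 : ∀ i, i < 14587 → P i := stepQ 14586 Q14586 (allL N14586 (tt N18410 (iv F61514)) (tt N14528 F50501) (tt N10221 (iv D24851)) (tt N16754 F56499) (tt N10489 F50502) (tt N18411 D28751) (tt N11399 F50503))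
theorem Q14588 : ∀ i, i < 14588 → P i := stepQ 14587 Q14587 (allL N14587 (tt N15772 (iv F53559)) (tt N14477 F50504) (tt N18411 (iv F61519)) (tt N18409 (iv F61513)) (tt N10490 F50505) (tt N10221 (iv D24852)) (tt N15770 (iv F53556)))
theorem Q14589 : ∀ i, i < 14589 → P i := stepQ 14588 Q14588 (allL N14588 (tt N11404 F50506) (tt N18412 D28752) (tt N12694 F50507) (tt N10223 F50508) (tt N13166 F50509) (tt N10222 (iv D24853)) (tt N13165 F50510))
theorem Q14590 : ∀ i, i < 14590 → P i := stepQ 14589 Q14589 (allL N14589 (tt N17911 (iv F60027)) (tt N10223 (iv D24854)) (tt N14128 (iv F50513)) (tt N18412 (iv F61522)) (tt N10491 F50511) (tt N10228 F50512) (tt N17908 (iv F60019)))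
theorem Q14591 : ∀ i, i < 14591 → P i := stepQ 14590 Q14590 (allL N14590 (tt N16880 (iv F56912)) (tt N10224 (iv D24855)) (tt N12691 F50514) (tt N16879 (iv F56911)) (tt N18132 (iv F60674)) (tt N18413 D28753) (tt N16900 (iv F56975)))
theorem Q14592 : ∀ i, i < 14592 → P i := stepQ 14591 Q14591 (allL N14591 (tt N10230 F50515) (tt N16879 (iv F56909)) (tt N10230 F50516) (tt N10224 (iv D24856)) (tt N18414 D28754) (tt N18415 D28755) (tt N18414 F61531))
theorem Q14593 : ∀ i, i < 14593 → P i := stepQ 14592 Q14592 (allL N14592 (tt N10231 F50517) (tt N18132 (iv F60673)) (tt N10225 F50518) (tt N18416 D28756) (tt N10224 (iv D24857)) (tt N18417 D28757) (tt N18416 F61540))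
theorem Q14594 : ∀ i, i < 14594 → P i := stepQ 14593 Q14593 (allL N14593 (tt N10232 F50519) (tt N18418 D28758) (tt N10226 F50520) (tt N18415 (iv F61535)) (tt N18417 (iv F61543)) (tt N10224 (iv D24858)) (tt N14606 (iv F50550)))
theorem Q14595 : ∀ i, i < 14595 → P i := stepQ 14594 Q14594 (allL N14594 (tt N10233 F50521) (tt N17712 (iv F59373)) (tt N10227 F50522) (tt N18414 F61532) (tt N18416 (iv F61539)) (tt N14605 (iv F50547)) (tt N10224 (iv D24859)))
theorem Q14596 : ∀ i, i < 14596 → P i := stepQ 14595 Q14595 (allL N14595 (tt N10234 F50523) (tt N18419 D28759) (tt N18417 (iv F61542)) (tt N10494 F50524) (tt N10226 F50525) (tt N10225 (iv D24860)) (tt N14608 (iv F50557)))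
theorem Q14597 : ∀ i, i < 14597 → P i := stepQ 14596 Q14596 (allL N14596 (tt N10235 F50526) (tt N17109 (iv F57551)) (tt N18416 (iv F61538)) (tt N10495 F50527) (tt N10227 F50528) (tt N14607 (iv F50553)) (tt N10225 (iv D24861)))
theorem Q14598 : ∀ i, i < 14598 → P i := stepQ 14597 Q14597 (allL N14597 (tt N18420 D28760) (tt N10226 (iv D24862)) (tt N18421 D28761) (tt N10228 F50529) (tt N18419 (iv F61545)) (tt N18412 (iv F61524)) (tt N14127 (iv F50530)))
theorem Q14599 : ∀ i, i < 14599 → P i := stepQ 14598 Q14598 (allL N14598 (tt N10228 (iv D24863)) (tt N18422 D28762) (tt N14121 F50531) (tt N18420 (iv F61548)) (tt N10497 F50532) (tt N17911 (iv F60031)) (tt N14120 F50533))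
theorem Q14600 : ∀ i, i < 14600 → P i := stepQ 14599 Q14599 (allL N14599 (tt N14768 (iv F51019)) (tt N14613 (iv F50562)) (tt N12092 F50534) (tt N18314 (iv F61182)) (tt N10498 F50535) (tt N10229 (iv D24864)) (tt N13345 F50536))
theorem Q14601 : ∀ i, i < 14601 → P i := stepQ 14600 Q14600 (allL N14600 (tt N18414 (iv F61528)) (tt N14676 (iv F50715)) (tt N18414 (iv F61530)) (tt N10233 F50542) (tt N10230 (iv D24865)) (tt N18423 D28763) (tt N10230 F50543))
theorem Q14602 : ∀ i, i < 14602 → P i := stepQ 14601 Q14601 (allL N14601 (tt N18415 (iv F61533)) (tt N18424 D28764) (tt N18415 (iv F61534)) (tt N10232 F50537) (tt N18423 (iv F61557)) (tt N10230 (iv D24866)) (tt N18425 D28765))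
theorem Q14603 : ∀ i, i < 14603 → P i := stepQ 14602 Q14602 (allL N14602 (tt N18416 (iv F61536)) (tt N14679 (iv F50722)) (tt N10235 F50539) (tt N10231 (iv D24868)) (tt N10233 (iv F50540)) (tt N18426 D28766) (tt N10231 (iv F50541)))
theorem Q14604 : ∀ i, i < 14604 → P i := stepQ 14603 Q14603 (allL N14603 (tt N18417 (iv F61541)) (tt N18427 D28767) (tt N10234 F50544) (tt N18426 (iv F61566)) (tt N10232 F50545) (tt N10231 (iv D24869)) (tt N18428 D28768))
theorem Q14605 : ∀ i, i < 14605 → P i := stepQ 14604 Q14604 (allL N14604 (tt N18429 D28769) (tt N10232 (iv D24870)) (tt N15890 (iv F53895)) (tt N18424 (iv F61559)) (tt N18427 (iv F61569)) (tt N14682 (iv F50729)) (tt N18430 D28770))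
theorem Q14606 : ∀ i, i < 14606 → P i := stepQ 14605 Q14605 (allL N14605 (tt N14606 (iv F50548)) (tt N18431 D28771) (tt N10236 F50546) (tt N18425 (iv F61562)) (tt N18428 (iv F61573)) (tt N14594 F50547) (tt N10232 (iv D24871)))
theorem Q14607 : ∀ i, i < 14607 → P i := stepQ 14606 Q14606 (allL N14606 (tt N14605 F50548) (tt N18432 D28772) (tt N10237 F50549) (tt N18423 (iv F61556)) (tt N18426 (iv F61567)) (tt N10233 (iv D24873)) (tt N14593 F50550))
theorem Q14608 : ∀ i, i < 14608 → P i := stepQ 14607 Q14607 (allL N14607 (tt N14608 (iv F50554)) (tt N18433 D28773) (tt N18428 (iv F61571)) (tt N10503 F50551) (tt N10236 F50552) (tt N14596 F50553) (tt N10234 (iv D24874)))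
theorem Q14609 : ∀ i, i < 14609 → P i := stepQ 14608 Q14608 (allL N14608 (tt N14607 F50554) (tt N18434 D28774) (tt N18426 (iv F61565)) (tt N10504 F50555) (tt N10237 F50556) (tt N10235 (iv D24875)) (tt N14595 F50557))
theorem Q14610 : ∀ i, i < 14610 → P i := stepQ 14609 Q14609 (allL N14609 (tt N18435 D28775) (tt N10236 (iv D24876)) (tt N18436 D28776) (tt N10240 F50558) (tt N18433 (iv F61576)) (tt N18437 D28777) (tt N16150 (iv F54514)))
theorem Q14611 : ∀ i, i < 14611 → P i := stepQ 14610 Q14610 (allL N14610 (tt N18438 D28778) (tt N10237 (iv D24877)) (tt N18439 D28779) (tt N10241 F50559) (tt N18434 (iv F61578)) (tt N14689 (iv F50748)) (tt N17919 (iv F60065)))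
theorem Q14612 : ∀ i, i < 14612 → P i := stepQ 14611 Q14611 (allL N14611 (tt N17421 (iv F58407)) (tt N10238 (iv D24878)) (tt N17422 (iv F58413)) (tt N16146 (iv F54502)) (tt N10509 F50560) (tt N17706 (iv F59344)) (tt N17419 F58403))
theorem Q14613 : ∀ i, i < 14613 → P i := stepQ 14612 Q14612 (allL N14612 (tt N10240 (iv D24879)) (tt N17709 F59363) (tt N17947 (iv F60168)) (tt N18435 (iv F61582)) (tt N10510 F50561) (tt N18166 (iv F60758)) (tt N17946 (iv F60166)))
theorem Q14614 : ∀ i, i < 14614 → P i := stepQ 14613 Q14613 (allL N14613 (tt N18166 (iv F60755)) (tt N14599 F50562) (tt N17950 (iv F60182)) (tt N18437 (iv F61587)) (tt N10511 F50563) (tt N10240 (iv D24880)) (tt N18440 D28780))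
theorem Q14615 : ∀ i, i < 14615 → P i := stepQ 14614 Q14614 (allL N14614 (tt N10241 (iv D24881)) (tt N13455 (iv F50565)) (tt N17931 (iv F60105)) (tt N18438 (iv F61588)) (tt N10512 F50564) (tt N14693 (iv F50758)) (tt N17917 (iv F60058)))
theorem Q14616 : ∀ i, i < 14616 → P i := stepQ 14615 Q14615 (allL N14615 (tt N15785 F53599) (tt N17706 (iv F59342)) (tt N17150 F57651) (tt N16142 (iv F54493)) (tt N10515 F50566) (tt N10242 (iv D24882)) (tt N18441 D28781))
theorem Q14617 : ∀ i, i < 14617 → P i := stepQ 14616 Q14616 (allL N14616 (tt N17741 (iv F59454)) (tt N15627 F53219) (tt N17278 (iv F57972)) (tt N16143 (iv F54494)) (tt N10516 F50567) (tt N18442 D28782) (tt N10242 (iv D24883)))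
theorem Q14618 : ∀ i, i < 14618 → P i := stepQ 14617 Q14617 (allL N14617 (tt N18134 (iv F60680)) (tt N10244 (iv D24884)) (tt N18443 D28783) (tt N16151 (iv F54515)) (tt N10517 F50568) (tt N11657 F50569) (tt N18444 D28784))
theorem Q14619 : ∀ i, i < 14619 → P i := stepQ 14618 Q14618 (allL N14618 (tt N17742 (iv F59459)) (tt N10245 (iv D24885)) (tt N18445 D28785) (tt N10528 F50570) (tt N10248 F50571) (tt N18446 D28786) (tt N17277 (iv F57970)))
theorem Q14620 : ∀ i, i < 14620 → P i := stepQ 14619 Q14619 (allL N14619 (tt N10246 F50572) (tt N18447 D28787) (tt N10245 (iv D24886)) (tt N18448 D28788) (tt N10249 F50573) (tt N18327 (iv F61215)) (tt N17275 (iv F57962)))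
theorem Q14621 : ∀ i, i < 14621 → P i := stepQ 14620 Q14620 (allL N14620 (tt N18448 (iv F61621)) (tt N16125 (iv F54452)) (tt N18449 D28789) (tt N10246 (iv D24887)) (tt N18450 D28790) (tt N18328 (iv F61216)) (tt N18451 D28791))
theorem Q14622 : ∀ i, i < 14622 → P i := stepQ 14621 Q14621 (allL N14621 (tt N17275 (iv F57958)) (tt N18452 D28792) (tt N10247 F50574) (tt N18451 (iv F61628)) (tt N10252 F50575) (tt N18453 D28793) (tt N10246 (iv D24888)))
theorem Q14623 : ∀ i, i < 14623 → P i := stepQ 14622 Q14622 (allL N14622 (tt N10480 F50576) (tt N18454 D28794) (tt N18453 (iv F61633)) (tt N10479 F50577) (tt N10253 F50578) (tt N10247 (iv D24889)) (tt N14514 F50579))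
theorem Q14624 : ∀ i, i < 14624 → P i := stepQ 14623 Q14623 (allL N14623 (tt N13201 F50580) (tt N18455 D28795) (tt N10248 (iv D24890)) (tt N15243 (iv F52358)) (tt N18445 (iv F61617)) (tt N18456 D28796) (tt N18457 D28797))
theorem Q14625 : ∀ i, i < 14625 → P i := stepQ 14624 Q14624 (allL N14624 (tt N17743 (iv F59463)) (tt N17438 (iv F58482)) (tt N18456 (iv F61643)) (tt N10254 F50581) (tt N18446 (iv F61619)) (tt N10248 (iv D24891)) (tt N17620 (iv F59095)))
theorem Q14626 : ∀ i, i < 14626 → P i := stepQ 14625 Q14625 (allL N14625 (tt N17744 (iv F59466)) (tt N13453 F50582) (tt N18457 (iv F61645)) (tt N10255 F50583) (tt N17277 (iv F57969)) (tt N18458 D28798) (tt N10248 (iv D24892)))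
theorem Q14627 : ∀ i, i < 14627 → P i := stepQ 14626 Q14626 (allL N14626 (tt N18459 D28799) (tt N10249 (iv D24893)) (tt N18455 (iv F61641)) (tt N18402 (iv F61497)) (tt N18447 (iv F61620)) (tt N18460 D28800) (tt N18461 D28801))
theorem Q14628 : ∀ i, i < 14628 → P i := stepQ 14627 Q14627 (allL N14627 (tt N10252 F50584) (tt N17747 (iv F59480)) (tt N10250 F50585) (tt N18278 (iv F61070)) (tt N17275 (iv F57960)) (tt N14520 F50586) (tt N10249 (iv D24894)))
theorem Q14629 : ∀ i, i < 14629 → P i := stepQ 14628 Q14628 (allL N14628 (tt N18403 (iv F61498)) (tt N16122 (iv F54449)) (tt N18401 (iv F61496)) (tt N18450 (iv F61625)) (tt N10251 (iv D24895)) (tt N18336 (iv F61233)) (tt N18462 D28802))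
theorem Q14630 : ∀ i, i < 14630 → P i := stepQ 14629 Q14629 (allL N14629 (tt N18278 (iv F61069)) (tt N15352 (iv F61238)) (tt N18277 (iv F61068)) (tt N10252 F50587) (tt N18462 (iv F61649)) (tt N18463 D28803) (tt N10251 (iv D24896)))
theorem Q14631 : ∀ i, i < 14631 → P i := stepQ 14630 Q14630 (allL N14630 (tt N16130 (iv F61243)) (tt N10252 (iv D24897)) (tt N11553 F50588) (tt N15352 F61240) (tt N18452 (iv F61631)) (tt N15351 F61251) (tt N16130 (iv F54462)))
theorem Q14632 : ∀ i, i < 14632 → P i := stepQ 14631 Q14631 (allL N14631 (tt N14520 F50589) (tt N18464 D28804) (tt N10253 F50590) (tt N18463 (iv F61652)) (tt N18453 (iv F61635)) (tt N10252 (iv D24898)) (tt N14518 F50591))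
theorem Q14633 : ∀ i, i < 14633 → P i := stepQ 14632 Q14632 (allL N14632 (tt N18465 D28805) (tt N10253 (iv D24899)) (tt N18466 D28806) (tt N10256 F50592) (tt N18454 (iv F61638)) (tt N11556 F50593) (tt N18467 D28807))
theorem Q14634 : ∀ i, i < 14634 → P i := stepQ 14633 Q14633 (allL N14633 (tt N13775 F50594) (tt N17707 (iv F59347)) (tt N13450 F50595) (tt N18458 (iv F61647)) (tt N10533 F50596) (tt N10255 (iv D24900)) (tt N13871 F50597))
theorem Q14635 : ∀ i, i < 14635 → P i := stepQ 14634 Q14634 (allL N14634 (tt N10256 (iv D24901)) (tt N13345 F50598) (tt N18468 D28808) (tt N18465 (iv F61655)) (tt N10534 F50599) (tt N11557 F50600) (tt N15997 (iv F54152)))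
theorem Q14636 : ∀ i, i < 14636 → P i := stepQ 14635 Q14635 (allL N14635 (tt N18468 (iv F61661)) (tt N14479 F50601) (tt N10256 (iv D24902)) (tt N16762 F56527) (tt N10535 F50602) (tt N11558 F50603) (tt N18469 D28809))
theorem Q14637 : ∀ i, i < 14637 → P i := stepQ 14636 Q14636 (allL N14636 (tt N15997 (iv F54150)) (tt N14526 F50604) (tt N18469 (iv F61666)) (tt N18467 (iv F61660)) (tt N10536 F50605) (tt N15995 (iv F54147)) (tt N10256 (iv D24903)))
theorem Q14638 : ∀ i, i < 14638 → P i := stepQ 14637 Q14637 (allL N14637 (tt N13105 F50606) (tt N16859 (iv F56836)) (tt N13103 F50607) (tt N10258 F50608) (tt N12671 F50609) (tt N12669 F50610) (tt N10257 (iv D24904)))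
theorem Q14639 : ∀ i, i < 14639 → P i := stepQ 14638 Q14638 (allL N14638 (tt N12960 (iv F50613)) (tt N10259 (iv D24905)) (tt N12953 F50611) (tt N11107 F50612) (tt N14309 (iv F50614)) (tt N14455 (iv F50615)) (tt N18470 D28810))
theorem Q14640 : ∀ i, i < 14640 → P i := stepQ 14639 Q14639 (allL N14639 (tt N10266 F50616) (tt N14309 F50617) (tt N10260 F50618) (tt N14306 F50619) (tt N10259 (iv D24906)) (tt N16528 (iv F55736)) (tt N18471 D28811))
theorem Q14641 : ∀ i, i < 14641 → P i := stepQ 14640 Q14640 (allL N14640 (tt N10267 F50620) (tt N18021 (iv F60362)) (tt N10261 F50621) (tt N15603 (iv F53138)) (tt N16528 (iv F55735)) (tt N10259 (iv D24907)) (tt N14656 (iv F50659)))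
theorem Q14642 : ∀ i, i < 14642 → P i := stepQ 14641 Q14641 (allL N14641 (tt N10268 F50622) (tt N18472 D28812) (tt N10262 F50623) (tt N15604 (iv F53142)) (tt N18471 (iv F61677)) (tt N14654 (iv F50654)) (tt N10259 (iv D24908)))
theorem Q14643 : ∀ i, i < 14643 → P i := stepQ 14642 Q14642 (allL N14642 (tt N10270 F50624) (tt N18180 (iv F60815)) (tt N18471 (iv F61675)) (tt N11910 F50625) (tt N10262 F50626) (tt N14657 (iv F50662)) (tt N10260 (iv D24909)))
theorem Q14644 : ∀ i, i < 14644 → P i := stepQ 14643 Q14643 (allL N14643 (tt N14290 (iv F50630)) (tt N10261 (iv D24910)) (tt N18473 D28813) (tt N10263 F50627) (tt N14155 F50628) (tt N14285 F50629) (tt N18087 (iv F60541)))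
theorem Q14645 : ∀ i, i < 14645 → P i := stepQ 14644 Q14644 (allL N14644 (tt N18474 D28814) (tt N10262 (iv D24911)) (tt N18475 D28815) (tt N10264 F50631) (tt N18180 (iv F60818)) (tt N18476 D28816) (tt N16859 (iv F56838)))
theorem Q14646 : ∀ i, i < 14646 → P i := stepQ 14645 Q14645 (allL N14645 (tt N10264 (iv D24912)) (tt N15548 (iv F53014)) (tt N11534 F50632) (tt N18474 (iv F61681)) (tt N11907 F50633) (tt N18477 D28817) (tt N11541 F50634))
theorem Q14647 : ∀ i, i < 14647 → P i := stepQ 14646 Q14646 (allL N14646 (tt N18477 (iv F61690)) (tt N14662 (iv F50673)) (tt N15963 (iv F54096)) (tt N18476 (iv F61688)) (tt N11909 F50635) (tt N10264 (iv D24913)) (tt N14481 F50636))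
theorem Q14648 : ∀ i, i < 14648 → P i := stepQ 14647 Q14647 (allL N14647 (tt N14305 F50637) (tt N14549 F50638) (tt N12891 F50639) (tt N14304 F50640) (tt N10265 (iv D24914)) (tt N16912 (iv F57011)) (tt N18478 D28818))
theorem Q14649 : ∀ i, i < 14649 → P i := stepQ 14648 Q14648 (allL N14648 (tt N15603 (iv F53135)) (tt N16912 (iv F57008)) (tt N15601 (iv F53129)) (tt N10267 F50641) (tt N16912 (iv F57010)) (tt N10265 (iv D24915)) (tt N18479 D28819))
theorem Q14650 : ∀ i, i < 14650 → P i := stepQ 14649 Q14649 (allL N14649 (tt N15604 (iv F53140)) (tt N18480 D28820) (tt N15602 (iv F53133)) (tt N10268 F50642) (tt N18478 (iv F61698)) (tt N18481 D28821) (tt N10265 (iv D24916)))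
theorem Q14651 : ∀ i, i < 14651 → P i := stepQ 14650 Q14650 (allL N14650 (tt N14306 F50643) (tt N14551 F50644) (tt N18482 D28822) (tt N10266 (iv D24917)) (tt N14304 F50645) (tt N18482 (iv F61715)) (tt N18483 D28823))
theorem Q14652 : ∀ i, i < 14652 → P i := stepQ 14651 Q14651 (allL N14651 (tt N16528 (iv F55734)) (tt N18482 (iv F61712)) (tt N10269 F50646) (tt N18482 (iv F61713)) (tt N10267 F50647) (tt N10266 (iv D24918)) (tt N18484 D28824))
theorem Q14653 : ∀ i, i < 14653 → P i := stepQ 14652 Q14652 (allL N14652 (tt N18471 (iv F61674)) (tt N18485 D28825) (tt N10270 F50648) (tt N18483 (iv F61717)) (tt N10268 F50649) (tt N18486 D28826) (tt N10266 (iv D24919)))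
theorem Q14654 : ∀ i, i < 14654 → P i := stepQ 14653 Q14653 (allL N14653 (tt N13725 F50652) (tt N10267 (iv D24920)) (tt N14304 F50650) (tt N16912 (iv F57009)) (tt N18482 (iv F61714)) (tt N14304 F50651) (tt N18098 (iv F60571)))
theorem Q14655 : ∀ i, i < 14655 → P i := stepQ 14654 Q14654 (allL N14654 (tt N14656 (iv F50657)) (tt N18487 D28827) (tt N10271 F50653) (tt N18479 (iv F61701)) (tt N18484 (iv F61720)) (tt N14641 F50654) (tt N10267 (iv D24921)))
theorem Q14656 : ∀ i, i < 14656 → P i := stepQ 14655 Q14655 (allL N14655 (tt N18488 D28828) (tt N10268 (iv D24922)) (tt N11333 F50655) (tt N18480 (iv F61704)) (tt N18485 (iv F61723)) (tt N18489 D28829) (tt N14554 F50656))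
theorem Q14657 : ∀ i, i < 14657 → P i := stepQ 14656 Q14656 (allL N14656 (tt N14654 F50657) (tt N18490 D28830) (tt N10272 F50658) (tt N18481 (iv F61708)) (tt N18486 (iv F61727)) (tt N10268 (iv D24923)) (tt N14640 F50659))
theorem Q14658 : ∀ i, i < 14658 → P i := stepQ 14657 Q14657 (allL N14657 (tt N14658 (iv F50663)) (tt N15490 (iv F53945)) (tt N18484 (iv F61719)) (tt N12217 F50660) (tt N10271 F50661) (tt N14642 F50662) (tt N10269 (iv D24924)))
theorem Q14659 : ∀ i, i < 14659 → P i := stepQ 14658 Q14658 (allL N14658 (tt N14657 F50663) (tt N18491 D28831) (tt N18486 (iv F61726)) (tt N11912 F50664) (tt N10272 F50665) (tt N10270 (iv D24925)) (tt N12216 F50666))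
theorem Q14660 : ∀ i, i < 14660 → P i := stepQ 14659 Q14659 (allL N14659 (tt N18492 D28832) (tt N10271 (iv D24926)) (tt N15491 (iv F53947)) (tt N10273 F50667) (tt N15490 F53946) (tt N18493 D28833) (tt N14558 F50668))
theorem Q14661 : ∀ i, i < 14661 → P i := stepQ 14660 Q14660 (allL N14660 (tt N18494 D28834) (tt N10272 (iv D24927)) (tt N18495 D28835) (tt N10274 F50669) (tt N18491 (iv F61734)) (tt N11338 F50670) (tt N18496 D28836))
theorem Q14662 : ∀ i, i < 14662 → P i := stepQ 14661 Q14661 (allL N14661 (tt N10273 (iv D24928)) (tt N17437 (iv F58478)) (tt N16718 F56382) (tt N18492 (iv F61738)) (tt N12219 F50671) (tt N17898 (iv F59986)) (tt N14560 F50672))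
theorem Q14663 : ∀ i, i < 14663 → P i := stepQ 14662 Q14662 (allL N14662 (tt N17898 (iv F59982)) (tt N14646 F50673) (tt N16719 (iv F56384)) (tt N18493 (iv F61742)) (tt N12221 F50674) (tt N10273 (iv D24929)) (tt N17895 (iv F59974)))
theorem Q14664 : ∀ i, i < 14664 → P i := stepQ 14663 Q14663 (allL N14663 (tt N10274 (iv D24930)) (tt N13799 (iv F50677)) (tt N17578 (iv F58985)) (tt N18494 (iv F61743)) (tt N11913 F50675) (tt N11339 F50676) (tt N15675 (iv F53336)))
theorem Q14665 : ∀ i, i < 14665 → P i := stepQ 14664 Q14664 (allL N14664 (tt N17578 (iv F58988)) (tt N11316 F50678) (tt N10274 (iv D24931)) (tt N18497 D28837) (tt N11914 F50679) (tt N11340 F50680) (tt N15773 (iv F53566)))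
theorem Q14666 : ∀ i, i < 14666 → P i := stepQ 14665 Q14665 (allL N14665 (tt N15675 (iv F53334)) (tt N14294 F50681) (tt N15773 (iv F53562)) (tt N18496 (iv F61773)) (tt N11915 F50682) (tt N15672 (iv F53324)) (tt N10274 (iv D24932)))
theorem Q14667 : ∀ i, i < 14667 → P i := stepQ 14666 Q14666 (allL N14666 (tt N13164 F50683) (tt N16868 (iv F56871)) (tt N13161 F50684) (tt N10276 F50685) (tt N12700 F50686) (tt N10275 (iv D24933)) (tt N12698 F50687))
theorem Q14668 : ∀ i, i < 14668 → P i := stepQ 14667 Q14667 (allL N14667 (tt N13036 (iv F50690)) (tt N10277 (iv D24934)) (tt N13029 F50688) (tt N11177 F50689) (tt N14364 (iv F50691)) (tt N18498 D28838) (tt N14504 (iv F50692)))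
theorem Q14669 : ∀ i, i < 14669 → P i := stepQ 14668 Q14668 (allL N14668 (tt N10284 F50693) (tt N14364 F50694) (tt N10278 F50695) (tt N14361 F50696) (tt N10277 (iv D24935)) (tt N18499 D28839) (tt N16563 (iv F55844)))
theorem Q14670 : ∀ i, i < 14670 → P i := stepQ 14669 Q14669 (allL N14669 (tt N10285 F50697) (tt N18500 D28840) (tt N10279 F50698) (tt N15841 (iv F53741)) (tt N18499 (iv F61786)) (tt N10277 (iv D24936)) (tt N14685 (iv F50737)))
theorem Q14671 : ∀ i, i < 14671 → P i := stepQ 14670 Q14670 (allL N14670 (tt N10286 F50699) (tt N18051 (iv F60443)) (tt N10280 F50700) (tt N15842 (iv F53745)) (tt N16563 (iv F55843)) (tt N14683 (iv F50731)) (tt N10277 (iv D24937)))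
theorem Q14672 : ∀ i, i < 14672 → P i := stepQ 14671 Q14671 (allL N14671 (tt N10287 F50701) (tt N18128 (iv F60659)) (tt N18499 (iv F61784)) (tt N12116 F50702) (tt N10279 F50703) (tt N10278 (iv D24938)) (tt N14687 (iv F50744)))
theorem Q14673 : ∀ i, i < 14673 → P i := stepQ 14672 Q14672 (allL N14672 (tt N18501 D28841) (tt N10279 (iv D24939)) (tt N18502 D28842) (tt N10281 F50704) (tt N18128 (iv F60662)) (tt N16868 (iv F56873)) (tt N18503 D28843))
theorem Q14674 : ∀ i, i < 14674 → P i := stepQ 14673 Q14673 (allL N14673 (tt N14346 (iv F50708)) (tt N10280 (iv D24940)) (tt N18504 D28844) (tt N10282 F50705) (tt N14176 F50706) (tt N18140 (iv F60699)) (tt N14340 F50707))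
theorem Q14675 : ∀ i, i < 14675 → P i := stepQ 14674 Q14674 (allL N14674 (tt N10281 (iv D24941)) (tt N15787 F53608) (tt N11374 F50709) (tt N18501 (iv F61787)) (tt N11990 F50710) (tt N11382 F50711) (tt N18505 D28845))
theorem Q14676 : ∀ i, i < 14676 → P i := stepQ 14675 Q14675 (allL N14675 (tt N18505 (iv F61799)) (tt N14694 (iv F50759)) (tt N15738 (iv F53505)) (tt N18503 (iv F61794)) (tt N12115 F50712) (tt N14530 F50713) (tt N10281 (iv D24942)))
theorem Q14677 : ∀ i, i < 14677 → P i := stepQ 14676 Q14676 (allL N14676 (tt N14360 F50714) (tt N14600 F50715) (tt N12906 F50716) (tt N14359 F50717) (tt N10283 (iv D24943)) (tt N18506 D28846) (tt N16924 (iv F57042)))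
theorem Q14678 : ∀ i, i < 14678 → P i := stepQ 14677 Q14677 (allL N14677 (tt N15841 (iv F53739)) (tt N18507 D28847) (tt N15839 (iv F53732)) (tt N10285 F50719) (tt N18506 (iv F61807)) (tt N10283 (iv D24944)) (tt N18508 D28848))
theorem Q14679 : ∀ i, i < 14679 → P i := stepQ 14678 Q14678 (allL N14678 (tt N15842 (iv F53742)) (tt N16924 (iv F57038)) (tt N15840 (iv F53735)) (tt N10286 F50720) (tt N16924 (iv F57040)) (tt N18509 D28849) (tt N10283 (iv D24945)))
theorem Q14680 : ∀ i, i < 14680 → P i := stepQ 14679 Q14679 (allL N14679 (tt N14361 F50721) (tt N14602 F50722) (tt N18510 D28850) (tt N10284 (iv D24946)) (tt N14359 F50723) (tt N18511 D28851) (tt N18510 F61824))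
theorem Q14681 : ∀ i, i < 14681 → P i := stepQ 14680 Q14680 (allL N14680 (tt N18499 (iv F61783)) (tt N18512 D28852) (tt N10287 F50724) (tt N18511 (iv F61826)) (tt N10285 F50725) (tt N10284 (iv D24947)) (tt N18513 D28853))
theorem Q14682 : ∀ i, i < 14682 → P i := stepQ 14681 Q14681 (allL N14681 (tt N16563 (iv F55842)) (tt N18510 (iv F61821)) (tt N10288 F50726) (tt N18510 (iv F61822)) (tt N10286 F50727) (tt N18514 D28854) (tt N10284 (iv D24948)))
theorem Q14683 : ∀ i, i < 14683 → P i := stepQ 14682 Q14682 (allL N14682 (tt N18515 D28855) (tt N10285 (iv D24949)) (tt N11492 F50728) (tt N18507 (iv F61809)) (tt N18512 (iv F61829)) (tt N14604 F50729) (tt N18516 D28856))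
theorem Q14684 : ∀ i, i < 14684 → P i := stepQ 14683 Q14683 (allL N14683 (tt N14685 (iv F50735)) (tt N18517 D28857) (tt N10289 F50730) (tt N18508 (iv F61812)) (tt N18513 (iv F61832)) (tt N14670 F50731) (tt N10285 (iv D24950)))
theorem Q14685 : ∀ i, i < 14685 → P i := stepQ 14684 Q14684 (allL N14684 (tt N13750 (iv F50734)) (tt N10286 (iv D24951)) (tt N14359 F50732) (tt N16924 (iv F57039)) (tt N18510 (iv F61823)) (tt N18152 (iv F60733)) (tt N14359 F50733))
theorem Q14686 : ∀ i, i < 14686 → P i := stepQ 14685 Q14685 (allL N14685 (tt N14683 F50735) (tt N18518 D28858) (tt N10290 F50736) (tt N18509 (iv F61817)) (tt N18514 (iv F61836)) (tt N10286 (iv D24952)) (tt N14669 F50737))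
theorem Q14687 : ∀ i, i < 14687 → P i := stepQ 14686 Q14686 (allL N14686 (tt N14687 (iv F50741)) (tt N18519 D28859) (tt N18513 (iv F61831)) (tt N12118 F50738) (tt N10289 F50739) (tt N12275 F50740) (tt N10287 (iv D24953)))
theorem Q14688 : ∀ i, i < 14688 → P i := stepQ 14687 Q14687 (allL N14687 (tt N14686 F50741) (tt N15386 (iv F53353)) (tt N18514 (iv F61835)) (tt N12276 F50742) (tt N10290 F50743) (tt N10288 (iv D24954)) (tt N14671 F50744))
theorem Q14689 : ∀ i, i < 14689 → P i := stepQ 14688 Q14688 (allL N14688 (tt N18520 D28860) (tt N10289 (iv D24955)) (tt N18521 D28861) (tt N10291 F50745) (tt N18519 (iv F61843)) (tt N18522 D28862) (tt N11497 F50746))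
theorem Q14690 : ∀ i, i < 14690 → P i := stepQ 14689 Q14689 (allL N14689 (tt N18523 D28863) (tt N10290 (iv D24956)) (tt N15387 (iv F53355)) (tt N10292 F50747) (tt N15386 F53354) (tt N14610 F50748) (tt N18524 D28864))
theorem Q14691 : ∀ i, i < 14691 → P i := stepQ 14690 Q14690 (allL N14690 (tt N10291 (iv D24957)) (tt N13848 (iv F50751)) (tt N17606 (iv F59056)) (tt N18520 (iv F61846)) (tt N12119 F50749) (tt N15905 (iv F53928)) (tt N11498 F50750))
theorem Q14692 : ∀ i, i < 14692 → P i := stepQ 14691 Q14691 (allL N14691 (tt N17606 (iv F59059)) (tt N11475 F50752) (tt N10291 (iv D24958)) (tt N18525 D28865) (tt N12120 F50753) (tt N15998 (iv F54156)) (tt N11499 F50754))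
theorem Q14693 : ∀ i, i < 14693 → P i := stepQ 14692 Q14692 (allL N14692 (tt N15905 (iv F53926)) (tt N14348 F50755) (tt N15998 (iv F54153)) (tt N18522 (iv F61855)) (tt N12121 F50756) (tt N10291 (iv D24959)) (tt N15902 (iv F53916)))
theorem Q14694 : ∀ i, i < 14694 → P i := stepQ 14693 Q14693 (allL N14693 (tt N10292 (iv D24960)) (tt N17462 (iv F58574)) (tt N16724 F56405) (tt N18523 (iv F61857)) (tt N12278 F50757) (tt N14614 F50758) (tt N17920 (iv F60070)))
theorem Q14695 : ∀ i, i < 14695 → P i := stepQ 14694 Q14694 (allL N14694 (tt N17920 (iv F60066)) (tt N14675 F50759) (tt N16725 (iv F56407)) (tt N18524 (iv F61861)) (tt N12280 F50760) (tt N17917 (iv F60057)) (tt N10292 (iv D24961)))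
theorem Q14696 : ∀ i, i < 14696 → P i := stepQ 14695 Q14695 (allL N14695 (tt N16264 (iv F54844)) (tt N12958 F50761) (tt N12515 F50762) (tt N17952 (iv F60194)) (tt N10293 (iv D24962)) (tt N11682 F50763) (tt N18526 D28866))
theorem Q14697 : ∀ i, i < 14697 → P i := stepQ 14696 Q14696 (allL N14696 (tt N12083 F50764) (tt N14794 (iv F51116)) (tt N12567 F50765) (tt N10294 F50766) (tt N18526 (iv F61868)) (tt N13255 F50767) (tt N10293 (iv D24963)))
theorem Q14698 : ∀ i, i < 14698 → P i := stepQ 14697 Q14697 (allL N14697 (tt N16421 (iv F55367)) (tt N13035 F50768) (tt N12518 F50769) (tt N17954 (iv F60202)) (tt N10295 (iv D24964)) (tt N18527 D28867) (tt N11685 F50770))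
theorem Q14699 : ∀ i, i < 14699 → P i := stepQ 14698 Q14698 (allL N14698 (tt N11872 F50771) (tt N14826 (iv F51227)) (tt N12568 F50772) (tt N10296 F50773) (tt N18527 (iv F61872)) (tt N10295 (iv D24965)) (tt N13256 F50774))
theorem Q14700 : ∀ i, i < 14700 → P i := stepQ 14699 Q14699 (allL N14699 (tt N11828 F50775) (tt N14119 F50776) (tt N10298 F50777) (tt N11826 F50778) (tt N17529 (iv F58832)) (tt N10297 (iv D24966)) (tt N14099 F50779))
theorem Q14701 : ∀ i, i < 14701 → P i := stepQ 14700 Q14700 (allL N14700 (tt N12040 F50780) (tt N14067 F50781) (tt N10300 F50782) (tt N12038 F50783) (tt N17533 (iv F58845)) (tt N14044 F50784) (tt N10299 (iv D24967)))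
theorem Q14702 : ∀ i, i < 14702 → P i := stepQ 14701 Q14701 (allL N14701 (tt N12809 F50785) (tt N17414 (iv F58381)) (tt N12606 F50786) (tt N10302 F50787) (tt N15108 (iv F52067)) (tt N10312 F50788) (tt N10301 (iv D24968)))
theorem Q14703 : ∀ i, i < 14703 → P i := stepQ 14702 Q14702 (allL N14702 (tt N10467 F50789) (tt N10302 (iv D24969)) (tt N14757 (iv F50980)) (tt N17414 (iv F58383)) (tt N18080 (iv F60520)) (tt N14759 (iv F50987)) (tt N10306 F50790))
theorem Q14704 : ∀ i, i < 14704 → P i := stepQ 14703 Q14703 (allL N14703 (tt N12663 F50791) (tt N18528 D28868) (tt N12595 F50792) (tt N18084 (iv F60530)) (tt N10304 F50793) (tt N14156 F50794) (tt N10303 (iv D24970)))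
theorem Q14705 : ∀ i, i < 14705 → P i := stepQ 14704 Q14704 (allL N14704 (tt N12257 F50795) (tt N10304 (iv D24971)) (tt N16391 (iv F55274)) (tt N10306 F50796) (tt N18528 (iv F61875)) (tt N16389 F55270) (tt N17414 (iv F58385)))
theorem Q14706 : ∀ i, i < 14706 → P i := stepQ 14705 Q14705 (allL N14705 (tt N10311 F50797) (tt N16264 (iv F54845)) (tt N10883 F50798) (tt N15036 (iv F51924)) (tt N10308 (iv D24972)) (tt N10943 F50799) (tt N15114 (iv F52086)))
theorem Q14707 : ∀ i, i < 14707 → P i := stepQ 14706 Q14706 (allL N14706 (tt N10312 F50800) (tt N11989 F50801) (tt N15116 (iv F52092)) (tt N10309 F50802) (tt N15114 (iv F52085)) (tt N12809 F50803) (tt N10308 (iv D24973)))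
theorem Q14708 : ∀ i, i < 14708 → P i := stepQ 14707 Q14707 (allL N14707 (tt N15116 (iv F52091)) (tt N14800 (iv F51140)) (tt N10312 F50804) (tt N11698 F50805) (tt N10884 F50806) (tt N12606 F50807) (tt N10310 (iv D24974)))
theorem Q14709 : ∀ i, i < 14709 → P i := stepQ 14708 Q14708 (allL N14708 (tt N15114 (iv F52083)) (tt N14750 (iv F50952)) (tt N10884 F50808) (tt N18091 (iv F60551)) (tt N10312 F50809) (tt N15108 (iv F52068)) (tt N10311 (iv D24975)))
theorem Q14710 : ∀ i, i < 14710 → P i := stepQ 14709 Q14709 (allL N14709 (tt N10315 (iv D24976)) (tt N12725 (iv F50812)) (tt N12469 F50810) (tt N18105 (iv F60577)) (tt N10316 F50811) (tt N16674 (iv F56243)) (tt N16818 (iv F56706)))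
theorem Q14711 : ∀ i, i < 14711 → P i := stepQ 14710 Q14710 (allL N14710 (tt N10462 F50813) (tt N10319 (iv D24977)) (tt N12347 F50814) (tt N16673 (iv F56238)) (tt N18112 (iv F60595)) (tt N14169 F50815) (tt N10461 F50816))
theorem Q14712 : ∀ i, i < 14712 → P i := stepQ 14711 Q14711 (allL N14711 (tt N12430 F50817) (tt N17836 (iv F59749)) (tt N10321 F50818) (tt N12429 F50819) (tt N18113 (iv F60601)) (tt N13937 F50820) (tt N10320 (iv D24978)))
theorem Q14713 : ∀ i, i < 14713 → P i := stepQ 14712 Q14712 (allL N14712 (tt N12390 F50821) (tt N14719 (iv F50847)) (tt N14780 F51066) (tt N12386 F50822) (tt N18115 (iv F60609)) (tt N10323 (iv D24979)) (tt N14778 F51060))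
theorem Q14714 : ∀ i, i < 14714 → P i := stepQ 14713 Q14713 (allL N14713 (tt N13693 F50827) (tt N10325 (iv D24980)) (tt N13691 F50823) (tt N10326 F50824) (tt N12485 F50825) (tt N12465 F50826) (tt N13690 (iv F50828)))
theorem Q14715 : ∀ i, i < 14715 → P i := stepQ 14714 Q14714 (allL N14714 (tt N17832 (iv F59733)) (tt N10329 (iv D24981)) (tt N17842 (iv F59775)) (tt N13980 F50829) (tt N18123 (iv F60635)) (tt N13958 F50830) (tt N18529 D28869))
theorem Q14716 : ∀ i, i < 14716 → P i := stepQ 14715 Q14715 (allL N14715 (tt N10331 F50831) (tt N12027 (iv F50835)) (tt N11875 F50832) (tt N13979 F50833) (tt N18124 (iv F60640)) (tt N11873 F50834) (tt N10329 (iv D24982)))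
theorem Q14717 : ∀ i, i < 14717 → P i := stepQ 14716 Q14716 (allL N14716 (tt N12292 F50836) (tt N10330 (iv D24983)) (tt N11803 F50837) (tt N13982 F50838) (tt N18125 (iv F60646)) (tt N10333 F50839) (tt N11812 F50840))
theorem Q14718 : ∀ i, i < 14718 → P i := stepQ 14717 Q14717 (allL N14717 (tt N12293 F50841) (tt N13700 F50842) (tt N11798 F50843) (tt N16621 (iv F56032)) (tt N18127 (iv F60657)) (tt N16263 (iv F54841)) (tt N10333 (iv D24984)))
theorem Q14719 : ∀ i, i < 14719 → P i := stepQ 14718 Q14718 (allL N14718 (tt N14718 F50844) (tt N10336 (iv D24985)) (tt N16623 (iv F56042)) (tt N10337 F50845) (tt N16851 (iv F56806)) (tt N16623 (iv F56045)) (tt N14920 (iv F51557)))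
theorem Q14720 : ∀ i, i < 14720 → P i := stepQ 14719 Q14719 (allL N14719 (tt N14719 F50846) (tt N14712 F50847) (tt N16355 (iv F55155)) (tt N16623 (iv F56043)) (tt N18131 (iv F60671)) (tt N10337 (iv D24986)) (tt N16355 (iv F55156)))
theorem Q14721 : ∀ i, i < 14721 → P i := stepQ 14720 Q14720 (allL N14720 (tt N12813 F50848) (tt N17428 (iv F58441)) (tt N12611 F50849) (tt N10339 F50850) (tt N15120 (iv F52106)) (tt N10338 (iv D24987)) (tt N10349 F50851))
theorem Q14722 : ∀ i, i < 14722 → P i := stepQ 14721 Q14721 (allL N14721 (tt N10517 F50852) (tt N10339 (iv D24988)) (tt N14778 (iv F51057)) (tt N17428 (iv F58443)) (tt N18134 (iv F60682)) (tt N10342 F50853) (tt N14780 (iv F51065)))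
theorem Q14723 : ∀ i, i < 14723 → P i := stepQ 14722 Q14722 (allL N14722 (tt N12692 F50854) (tt N18530 D28870) (tt N12597 F50855) (tt N18138 (iv F60692)) (tt N10341 F50856) (tt N10340 (iv D24989)) (tt N14177 F50857))
theorem Q14724 : ∀ i, i < 14724 → P i := stepQ 14723 Q14723 (allL N14723 (tt N12317 F50858) (tt N10341 (iv D24990)) (tt N16376 (iv F55225)) (tt N10342 F50859) (tt N18530 (iv F61882)) (tt N17428 (iv F58444)) (tt N16364 (iv F55186)))
theorem Q14725 : ∀ i, i < 14725 → P i := stepQ 14724 Q14724 (allL N14724 (tt N10348 F50860) (tt N16421 (iv F55368)) (tt N10890 F50861) (tt N15048 (iv F51951)) (tt N10345 (iv D24991)) (tt N15126 (iv F52125)) (tt N10955 F50862))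
theorem Q14726 : ∀ i, i < 14726 → P i := stepQ 14725 Q14725 (allL N14725 (tt N10349 F50863) (tt N12185 F50864) (tt N15128 (iv F52131)) (tt N10346 F50865) (tt N15126 (iv F52124)) (tt N10345 (iv D24992)) (tt N12813 F50866))
theorem Q14727 : ∀ i, i < 14727 → P i := stepQ 14726 Q14726 (allL N14726 (tt N15128 (iv F52130)) (tt N14832 (iv F51251)) (tt N10349 F50867) (tt N11704 F50868) (tt N10891 F50869) (tt N10347 (iv D24993)) (tt N12611 F50870))
theorem Q14728 : ∀ i, i < 14728 → P i := stepQ 14727 Q14727 (allL N14727 (tt N15126 (iv F52122)) (tt N14771 (iv F51029)) (tt N10891 F50871) (tt N18145 (iv F60713)) (tt N10349 F50872) (tt N10348 (iv D24994)) (tt N15120 (iv F52107)))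
theorem Q14729 : ∀ i, i < 14729 → P i := stepQ 14728 Q14728 (allL N14728 (tt N10352 (iv D24995)) (tt N12732 (iv F50875)) (tt N12424 F50873) (tt N18159 (iv F60740)) (tt N10353 F50874) (tt N16792 (iv F56631)) (tt N16656 (iv F56174)))
theorem Q14730 : ∀ i, i < 14730 → P i := stepQ 14729 Q14729 (allL N14729 (tt N10511 F50876) (tt N10356 (iv D24996)) (tt N12393 F50877) (tt N16655 (iv F56169)) (tt N18166 (iv F60757)) (tt N10510 F50878) (tt N14190 F50879))
theorem Q14731 : ∀ i, i < 14731 → P i := stepQ 14730 Q14730 (allL N14730 (tt N12416 F50880) (tt N17846 (iv F59790)) (tt N10358 F50881) (tt N12415 F50882) (tt N18167 (iv F60763)) (tt N10357 (iv D24997)) (tt N13961 F50883))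
theorem Q14732 : ∀ i, i < 14732 → P i := stepQ 14731 Q14731 (allL N14731 (tt N12344 F50884) (tt N14738 (iv F50912)) (tt N14759 F50989) (tt N12341 F50885) (tt N18169 (iv F60771)) (tt N14757 F50983) (tt N10360 (iv D24998)))
theorem Q14733 : ∀ i, i < 14733 → P i := stepQ 14732 Q14732 (allL N14732 (tt N13684 F50890) (tt N10362 (iv D24999)) (tt N13682 F50886) (tt N10363 F50887) (tt N12450 F50888) (tt N13681 (iv F50891)) (tt N12420 F50889))
theorem Q14734 : ∀ i, i < 14734 → P i := stepQ 14733 Q14733 (allL N14733 (tt N17842 (iv F59774)) (tt N10364 (iv D25000)) (tt N17832 (iv F59734)) (tt N13984 F50894) (tt N18175 (iv F60791)) (tt N18531 D28871) (tt N13978 F50895))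
theorem Q14735 : ∀ i, i < 14735 → P i := stepQ 14734 Q14734 (allL N14734 (tt N10365 F50896) (tt N12210 (iv F50900)) (tt N11838 F50897) (tt N13983 F50898) (tt N18176 (iv F60796)) (tt N10364 (iv D25001)) (tt N12084 F50899))
theorem Q14736 : ∀ i, i < 14736 → P i := stepQ 14735 Q14735 (allL N14735 (tt N12234 F50901) (tt N10366 (iv D25002)) (tt N11760 F50902) (tt N13986 F50903) (tt N18177 (iv F60802)) (tt N11769 F50904) (tt N10368 F50905))
theorem Q14737 : ∀ i, i < 14737 → P i := stepQ 14736 Q14736 (allL N14736 (tt N12233 F50906) (tt N13697 F50907) (tt N11755 F50908) (tt N16598 (iv F55955)) (tt N18179 (iv F60813)) (tt N10368 (iv D25003)) (tt N16234 (iv F54746)))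
theorem Q14738 : ∀ i, i < 14738 → P i := stepQ 14737 Q14737 (allL N14737 (tt N14737 F50909) (tt N10371 (iv D25004)) (tt N16600 (iv F55965)) (tt N10372 F50910) (tt N16849 (iv F56797)) (tt N14968 (iv F51718)) (tt N16600 (iv F55968)))
theorem Q14739 : ∀ i, i < 14739 → P i := stepQ 14738 Q14738 (allL N14738 (tt N14738 F50911) (tt N14731 F50912) (tt N16495 (iv F55627)) (tt N16600 (iv F55966)) (tt N18183 (iv F60827)) (tt N16495 (iv F55628)) (tt N10372 (iv D25005)))
theorem Q14740 : ∀ i, i < 14740 → P i := stepQ 14739 Q14739 (allL N14739 (tt N14031 F50913) (tt N14739 F50914) (tt N10373 (iv D25006)) (tt N10712 F50915) (tt N17341 (iv F58112)) (tt N14935 (iv F51608)) (tt N10377 F50916))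
theorem Q14741 : ∀ i, i < 14741 → P i := stepQ 14740 Q14740 (allL N14740 (tt N10375 (iv D25007)) (tt N16943 F57083) (tt N18532 D28872) (tt N18246 (iv F60982)) (tt N10376 F50917) (tt N18533 D28873) (tt N14032 F50918))
theorem Q14742 : ∀ i, i < 14742 → P i := stepQ 14741 Q14741 (allL N14741 (tt N18532 (iv F61888)) (tt N16308 (iv F55013)) (tt N10375 (iv D25008)) (tt N17547 (iv F58892)) (tt N10377 F50919) (tt N10710 (iv F50920)) (tt N17341 (iv F58113)))
theorem Q14743 : ∀ i, i < 14743 → P i := stepQ 14742 Q14742 (allL N14742 (tt N18533 (iv F61893)) (tt N12489 F50921) (tt N10710 F50922) (tt N18247 (iv F60987)) (tt N10378 F50923) (tt N10375 (iv D25009)) (tt N17879 (iv F59907)))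
theorem Q14744 : ∀ i, i < 14744 → P i := stepQ 14743 Q14743 (allL N14743 (tt N10377 F50924) (tt N18534 D28874) (tt N10376 (iv D25010)) (tt N10708 F50925) (tt N18532 (iv F61890)) (tt N10707 (iv F50927)) (tt N14031 F50926))
theorem Q14745 : ∀ i, i < 14745 → P i := stepQ 14744 Q14744 (allL N14744 (tt N10378 F50928) (tt N16539 (iv F55773)) (tt N10707 F50929) (tt N10380 F50930) (tt N18533 (iv F61895)) (tt N10376 (iv D25011)) (tt N13419 F50931))
theorem Q14746 : ∀ i, i < 14746 → P i := stepQ 14745 Q14745 (allL N14745 (tt N14745 F50932) (tt N10468 F50933) (tt N10384 (iv D25012)) (tt N16186 (iv F54593)) (tt N10853 F50934) (tt N14745 F50935) (tt N11733 F50936))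
theorem Q14747 : ∀ i, i < 14747 → P i := stepQ 14746 Q14746 (allL N14746 (tt N14458 F50937) (tt N10848 F50938) (tt N14445 F50939) (tt N10385 (iv D25013)) (tt N12962 F50940) (tt N12961 F50941) (tt N18535 D28875))
theorem Q14748 : ∀ i, i < 14748 → P i := stepQ 14747 Q14747 (allL N14747 (tt N14547 F50942) (tt N16034 (iv F54241)) (tt N10386 F50943) (tt N18535 (iv F61904)) (tt N11680 F50944) (tt N10861 F50945) (tt N10385 (iv D25014)))
theorem Q14749 : ∀ i, i < 14749 → P i := stepQ 14748 Q14748 (allL N14748 (tt N16722 (iv F56397)) (tt N10388 (iv D25015)) (tt N12969 (iv F50947)) (tt N18269 (iv F61052)) (tt N10390 F50946) (tt N12968 F50948) (tt N17050 (iv F57393)))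
theorem Q14750 : ∀ i, i < 14750 → P i := stepQ 14749 Q14749 (allL N14749 (tt N10389 (iv D25016)) (tt N18170 (iv F60774)) (tt N12618 F50949) (tt N14523 F50950) (tt N10391 F50951) (tt N14833 (iv F51258)) (tt N17068 (iv F57438)))
theorem Q14751 : ∀ i, i < 14751 → P i := stepQ 14750 Q14750 (allL N14750 (tt N17068 (iv F57435)) (tt N14708 F50952) (tt N12617 F50953) (tt N18272 (iv F61060)) (tt N10392 F50954) (tt N17067 (iv F57434)) (tt N10389 (iv D25017)))
theorem Q14752 : ∀ i, i < 14752 → P i := stepQ 14751 Q14751 (allL N14751 (tt N12766 F50955) (tt N10391 (iv D25018)) (tt N12753 F50956) (tt N10398 F50957) (tt N18170 (iv F60775)) (tt N12188 F50958) (tt N16323 (iv F55066)))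
theorem Q14753 : ∀ i, i < 14753 → P i := stepQ 14752 Q14752 (allL N14752 (tt N10754 F50959) (tt N14841 (iv F51279)) (tt N10753 F50960) (tt N10396 (iv D25019)) (tt N12746 F50961) (tt N10401 F50962) (tt N17486 (iv F58671)))
theorem Q14754 : ∀ i, i < 14754 → P i := stepQ 14753 Q14753 (allL N14753 (tt N14758 (iv F50984)) (tt N14139 (iv F50964)) (tt N10397 F50963) (tt N17486 (iv F58667)) (tt N18289 (iv F61103)) (tt N14755 (iv F50974)) (tt N10396 (iv D25020)))
theorem Q14755 : ∀ i, i < 14755 → P i := stepQ 14754 Q14754 (allL N14754 (tt N10401 F50965) (tt N10573 F50966) (tt N10737 F50967) (tt N10399 (iv D25021)) (tt N10577 F50968) (tt N10754 F50969) (tt N13558 (iv F50970)))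
theorem Q14756 : ∀ i, i < 14756 → P i := stepQ 14755 Q14755 (allL N14755 (tt N10402 F50971) (tt N17926 (iv F60086)) (tt N10400 F50972) (tt N13558 F50973) (tt N18290 (iv F61108)) (tt N14753 F50974) (tt N10399 (iv D25022)))
theorem Q14757 : ∀ i, i < 14757 → P i := stepQ 14756 Q14756 (allL N14756 (tt N13558 F50975) (tt N12345 F50976) (tt N10779 F50977) (tt N10402 F50978) (tt N12749 F50979) (tt N14965 (iv F51707)) (tt N10401 (iv D25023)))
theorem Q14758 : ∀ i, i < 14758 → P i := stepQ 14757 Q14757 (allL N14757 (tt N14798 (iv F51131)) (tt N10402 (iv D25024)) (tt N14702 F50980) (tt N12345 F50981) (tt N16560 (iv F55830)) (tt N14731 (iv F50983)) (tt N10406 F50982))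
theorem Q14759 : ∀ i, i < 14759 → P i := stepQ 14758 Q14758 (allL N14758 (tt N14753 F50984) (tt N16495 (iv F55626)) (tt N10403 F50985) (tt N14965 (iv F51705)) (tt N18291 (iv F61113)) (tt N10402 (iv D25025)) (tt N12161 F50986))
theorem Q14760 : ∀ i, i < 14760 → P i := stepQ 14759 Q14759 (allL N14759 (tt N14799 (iv F51135)) (tt N10403 (iv D25026)) (tt N14731 (iv F50989)) (tt N16397 (iv F55293)) (tt N18292 (iv F61115)) (tt N14702 F50987) (tt N12260 F50988))
theorem Q14761 : ∀ i, i < 14761 → P i := stepQ 14760 Q14760 (allL N14760 (tt N14088 F50990) (tt N14760 F50991) (tt N10407 (iv D25027)) (tt N10641 F50992) (tt N17369 (iv F58204)) (tt N10411 F50993) (tt N14983 (iv F51773)))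
theorem Q14762 : ∀ i, i < 14762 → P i := stepQ 14761 Q14761 (allL N14761 (tt N10409 (iv D25028)) (tt N16958 F57122) (tt N18536 D28876) (tt N18305 (iv F61152)) (tt N10410 F50994) (tt N14089 F50995) (tt N18537 D28877))
theorem Q14763 : ∀ i, i < 14763 → P i := stepQ 14762 Q14762 (allL N14762 (tt N18536 (iv F61907)) (tt N16457 (iv F55505)) (tt N10409 (iv D25029)) (tt N17552 (iv F58910)) (tt N10411 F50996) (tt N17369 (iv F58205)) (tt N10792 (iv F50997)))
theorem Q14764 : ∀ i, i < 14764 → P i := stepQ 14763 Q14763 (allL N14763 (tt N18537 (iv F61912)) (tt N12453 F50998) (tt N10792 F50999) (tt N18251 (iv F60999)) (tt N10412 F51000) (tt N17903 (iv F59999)) (tt N10409 (iv D25030)))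
theorem Q14765 : ∀ i, i < 14765 → P i := stepQ 14764 Q14764 (allL N14764 (tt N10411 F51001) (tt N18538 D28878) (tt N10410 (iv D25031)) (tt N10791 F51002) (tt N18536 (iv F61909)) (tt N14088 F51003) (tt N10789 F51004))
theorem Q14766 : ∀ i, i < 14766 → P i := stepQ 14765 Q14765 (allL N14765 (tt N10412 F51005) (tt N16574 (iv F55881)) (tt N10789 F51006) (tt N10414 F51007) (tt N18537 (iv F61914)) (tt N13471 F51008) (tt N10410 (iv D25032)))
theorem Q14767 : ∀ i, i < 14767 → P i := stepQ 14766 Q14766 (allL N14766 (tt N14766 F51009) (tt N10518 F51010) (tt N10418 (iv D25033)) (tt N16187 (iv F54599)) (tt N10855 F51011) (tt N11776 F51012) (tt N14766 F51013))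
theorem Q14768 : ∀ i, i < 14768 → P i := stepQ 14767 Q14767 (allL N14767 (tt N14507 F51014) (tt N10851 F51015) (tt N14494 F51016) (tt N10419 (iv D25034)) (tt N13039 F51017) (tt N18539 D28879) (tt N13037 F51018))
theorem Q14769 : ∀ i, i < 14769 → P i := stepQ 14768 Q14768 (allL N14768 (tt N14599 F51019) (tt N16108 (iv F54408)) (tt N10420 F51020) (tt N18539 (iv F61923)) (tt N11681 F51021) (tt N10419 (iv D25035)) (tt N10866 F51022))
theorem Q14770 : ∀ i, i < 14770 → P i := stepQ 14769 Q14769 (allL N14769 (tt N16716 (iv F56374)) (tt N10422 (iv D25036)) (tt N13045 F51023) (tt N18326 (iv F61210)) (tt N10424 F51024) (tt N17030 (iv F57346)) (tt N13044 (iv F51025)))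
theorem Q14771 : ∀ i, i < 14771 → P i := stepQ 14770 Q14770 (allL N14770 (tt N10423 (iv D25037)) (tt N18116 (iv F60612)) (tt N12620 F51026) (tt N14474 F51027) (tt N10425 F51028) (tt N17155 (iv F57671)) (tt N14801 (iv F51147)))
theorem Q14772 : ∀ i, i < 14772 → P i := stepQ 14771 Q14771 (allL N14771 (tt N17155 (iv F57668)) (tt N14727 F51029) (tt N12619 F51030) (tt N18329 (iv F61220)) (tt N10426 F51031) (tt N10423 (iv D25038)) (tt N17154 F57667))
theorem Q14773 : ∀ i, i < 14773 → P i := stepQ 14772 Q14772 (allL N14772 (tt N12791 F51032) (tt N10425 (iv D25039)) (tt N12757 F51033) (tt N10432 F51034) (tt N18116 (iv F60613)) (tt N16467 (iv F55546)) (tt N11998 F51035))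
theorem Q14774 : ∀ i, i < 14774 → P i := stepQ 14773 Q14773 (allL N14773 (tt N10670 F51036) (tt N14813 (iv F51184)) (tt N10669 F51037) (tt N10430 (iv D25040)) (tt N12737 F51038) (tt N17495 F58706) (tt N10435 F51039))
theorem Q14775 : ∀ i, i < 14775 → P i := stepQ 14774 Q14774 (allL N14774 (tt N14779 (iv F51061)) (tt N14149 F51041) (tt N10431 F51040) (tt N17495 (iv F58702)) (tt N18346 (iv F61288)) (tt N10430 (iv D25041)) (tt N14776 (iv F51051)))
theorem Q14776 : ∀ i, i < 14776 → P i := stepQ 14775 Q14775 (allL N14775 (tt N10435 F51042) (tt N10624 F51043) (tt N10650 F51044) (tt N10433 (iv D25042)) (tt N10627 F51045) (tt N13584 (iv F51047)) (tt N10670 F51046))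
theorem Q14777 : ∀ i, i < 14777 → P i := stepQ 14776 Q14776 (allL N14776 (tt N10436 F51048) (tt N17929 (iv F60098)) (tt N10434 F51049) (tt N13584 F51050) (tt N18347 (iv F61293)) (tt N10433 (iv D25043)) (tt N14774 F51051))
theorem Q14778 : ∀ i, i < 14778 → P i := stepQ 14777 Q14777 (allL N14777 (tt N13584 F51052) (tt N12392 F51053) (tt N10695 F51054) (tt N10436 F51055) (tt N12740 F51056) (tt N10435 (iv D25044)) (tt N14917 (iv F51547)))
theorem Q14779 : ∀ i, i < 14779 → P i := stepQ 14778 Q14778 (allL N14778 (tt N14830 (iv F51242)) (tt N10436 (iv D25045)) (tt N14721 F51057) (tt N12392 F51058) (tt N16595 (iv F55940)) (tt N10440 F51059) (tt N14712 (iv F51060)))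
theorem Q14780 : ∀ i, i < 14780 → P i := stepQ 14779 Q14779 (allL N14779 (tt N14774 F51061) (tt N16355 (iv F55154)) (tt N10437 F51062) (tt N14917 (iv F51545)) (tt N18348 (iv F61298)) (tt N11958 F51063) (tt N10436 (iv D25046)))
theorem Q14781 : ∀ i, i < 14781 → P i := stepQ 14780 Q14780 (allL N14780 (tt N14831 (iv F51246)) (tt N10437 (iv D25047)) (tt N14712 (iv F51066)) (tt N16366 (iv F55193)) (tt N18349 (iv F61300)) (tt N12322 F51064) (tt N14721 F51065))
theorem Q14782 : ∀ i, i < 14782 → P i := stepQ 14781 Q14781 (allL N14781 (tt N10450 F51067) (tt N16772 (iv F56568)) (tt N10445 F51068) (tt N12621 F51069) (tt N10443 F51070) (tt N12621 F51071) (tt N10442 (iv D25048)))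
theorem Q14783 : ∀ i, i < 14783 → P i := stepQ 14782 Q14782 (allL N14782 (tt N17864 (iv F59850)) (tt N10445 (iv D25049)) (tt N17862 (iv F59845)) (tt N18357 (iv F61326)) (tt N10446 F51072) (tt N14075 (iv F51074)) (tt N13110 F51073))
theorem Q14784 : ∀ i, i < 14784 → P i := stepQ 14783 Q14783 (allL N14783 (tt N13258 F51075) (tt N10448 (iv D25050)) (tt N11982 F51076) (tt N13260 F51077) (tt N18360 (iv F61335)) (tt N11982 F51078) (tt N14026 F51079))
theorem Q14785 : ∀ i, i < 14785 → P i := stepQ 14784 Q14784 (allL N14784 (tt N12621 F51080) (tt N14175 (iv F51085)) (tt N10454 F51081) (tt N10450 F51082) (tt N10451 F51083) (tt N10450 F51084) (tt N10449 (iv D25051)))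
theorem Q14786 : ∀ i, i < 14786 → P i := stepQ 14785 Q14785 (allL N14785 (tt N13135 (iv F51087)) (tt N10452 (iv D25052)) (tt N15906 F53934) (tt N18371 (iv F61357)) (tt N10455 F51086) (tt N17896 (iv F59978)) (tt N15909 (iv F53943)))
theorem Q14787 : ∀ i, i < 14787 → P i := stepQ 14786 Q14786 (allL N14786 (tt N10453 (iv D25053)) (tt N17045 F57378) (tt N13021 F51088) (tt N16069 (iv F54322)) (tt N10456 F51089) (tt N13020 F51091) (tt N10463 F51090))
theorem Q14788 : ∀ i, i < 14788 → P i := stepQ 14787 Q14787 (allL N14787 (tt N13020 F51092) (tt N17938 (iv F60132)) (tt N13019 F51093) (tt N16073 (iv F54332)) (tt N10457 F51094) (tt N10453 (iv D25054)) (tt N12723 F51095))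
theorem Q14789 : ∀ i, i < 14789 → P i := stepQ 14788 Q14788 (allL N14788 (tt N18540 D28880) (tt N10454 (iv D25055)) (tt N18541 D28881) (tt N18372 (iv F61430)) (tt N10458 F51096) (tt N17938 (iv F60134)) (tt N17028 (iv F57339)))
theorem Q14790 : ∀ i, i < 14790 → P i := stepQ 14789 Q14789 (allL N14789 (tt N10750 F51097) (tt N12773 F51098) (tt N10455 (iv D25056)) (tt N10749 F51099) (tt N15906 (iv F53932)) (tt N17500 (iv F58724)) (tt N15910 (iv F53953)))
theorem Q14791 : ∀ i, i < 14791 → P i := stepQ 14790 Q14790 (allL N14790 (tt N10458 (iv D25057)) (tt N13319 F51100) (tt N13463 F51103) (tt N10461 F51101) (tt N18540 (iv F61927)) (tt N13462 F51102) (tt N16673 (iv F56240)))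
theorem Q14792 : ∀ i, i < 14792 → P i := stepQ 14791 Q14791 (allL N14791 (tt N13463 F51104) (tt N12784 F51105) (tt N10458 (iv D25058)) (tt N10532 F51106) (tt N18541 (iv F61932)) (tt N13461 F51107) (tt N10531 F51108))
theorem Q14793 : ∀ i, i < 14793 → P i := stepQ 14792 Q14792 (allL N14792 (tt N14169 F51109) (tt N12028 F51110) (tt N14013 F51111) (tt N10530 F51112) (tt N18378 (iv F61446)) (tt N10462 (iv D25059)) (tt N14164 F51113))
theorem Q14794 : ∀ i, i < 14794 → P i := stepQ 14793 Q14793 (allL N14793 (tt N17890 (iv F59949)) (tt N10463 (iv D25060)) (tt N18542 D28882) (tt N16065 (iv F54314)) (tt N10464 F51114) (tt N16836 (iv F56763)) (tt N18543 D28883))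
theorem Q14795 : ∀ i, i < 14795 → P i := stepQ 14794 Q14794 (allL N14794 (tt N12812 F51115) (tt N14696 F51116) (tt N10464 (iv D25061)) (tt N14057 F51117) (tt N18542 (iv F61937)) (tt N14056 F51118) (tt N13297 (iv F51119)))
theorem Q14796 : ∀ i, i < 14796 → P i := stepQ 14795 Q14795 (allL N14795 (tt N16270 (iv F54869)) (tt N13296 F51120) (tt N13297 F51121) (tt N10466 F51122) (tt N18543 (iv F61942)) (tt N13297 F51123) (tt N10464 (iv D25062)))
theorem Q14797 : ∀ i, i < 14797 → P i := stepQ 14796 Q14796 (allL N14796 (tt N14797 (iv F51126)) (tt N16322 (iv F55062)) (tt N14068 F51124) (tt N16870 (iv F56881)) (tt N18379 (iv F61449)) (tt N11825 F51125) (tt N10465 (iv D25063)))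
theorem Q14798 : ∀ i, i < 14798 → P i := stepQ 14797 Q14797 (allL N14797 (tt N14796 F51126) (tt N13292 F51127) (tt N14067 F51128) (tt N13297 F51129) (tt N18380 (iv F61454)) (tt N10466 (iv D25064)) (tt N14057 F51130))
theorem Q14799 : ∀ i, i < 14799 → P i := stepQ 14798 Q14798 (allL N14798 (tt N14757 F51131) (tt N16455 (iv F55496)) (tt N10467 (iv D25065)) (tt N12346 (iv F51133)) (tt N18381 (iv F61457)) (tt N12344 (iv F51134)) (tt N12259 F51132))
theorem Q14800 : ∀ i, i < 14800 → P i := stepQ 14799 Q14799 (allL N14799 (tt N14759 F51135) (tt N13299 F51136) (tt N12344 F51137) (tt N13302 F51138) (tt N18382 (iv F61464)) (tt N10467 (iv D25066)) (tt N12342 F51139))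
theorem Q14801 : ∀ i, i < 14801 → P i := stepQ 14800 Q14800 (allL N14800 (tt N14905 (iv F51499)) (tt N14707 F51140) (tt N10469 F51141) (tt N11854 F51142) (tt N11264 F51143) (tt N11261 F51144) (tt N10468 (iv D25067)))
theorem Q14802 : ∀ i, i < 14802 → P i := stepQ 14801 Q14801 (allL N14801 (tt N10473 F51145) (tt N16191 (iv F54613)) (tt N10472 (iv D25068)) (tt N18287 (iv F61097)) (tt N10475 F51146) (tt N17154 (iv F57666)) (tt N14770 F51147))
theorem Q14803 : ∀ i, i < 14803 → P i := stepQ 14802 Q14802 (allL N14802 (tt N10474 F51148) (tt N12710 F51149) (tt N17154 (iv F57664)) (tt N12638 F51150) (tt N10476 F51151) (tt N10472 (iv D25069)) (tt N12619 F51152))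
theorem Q14804 : ∀ i, i < 14804 → P i := stepQ 14803 Q14803 (allL N14803 (tt N18287 (iv F61095)) (tt N10480 F51153) (tt N18286 (iv F61092)) (tt N10473 (iv D25070)) (tt N14521 F51154) (tt N17148 (iv F57645)) (tt N14516 F51155))
theorem Q14805 : ∀ i, i < 14805 → P i := stepQ 14804 Q14804 (allL N14804 (tt N12619 F51156) (tt N12625 F51157) (tt N17155 (iv F57669)) (tt N12636 F51158) (tt N10477 F51159) (tt N12620 F51160) (tt N10474 (iv D25071)))
theorem Q14806 : ∀ i, i < 14806 → P i := stepQ 14805 Q14805 (allL N14805 (tt N16813 F56692) (tt N17118 F57579) (tt N10478 (iv D25072)) (tt N18544 D28884) (tt N10482 F51161) (tt N17218 (iv F57833)) (tt N17119 (iv F57583)))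
theorem Q14807 : ∀ i, i < 14807 → P i := stepQ 14806 Q14806 (allL N14806 (tt N17891 (iv F59953)) (tt N17050 (iv F57394)) (tt N17119 (iv F57580)) (tt N18384 (iv F61468)) (tt N10483 F51162) (tt N18545 D28885) (tt N10478 (iv D25073)))
theorem Q14808 : ∀ i, i < 14808 → P i := stepQ 14807 Q14807 (allL N14807 (tt N13040 (iv F51165)) (tt N10479 (iv D25074)) (tt N17118 (iv F57576)) (tt N18454 (iv F61637)) (tt N10484 F51163) (tt N12204 F51164) (tt N17117 F57574))
theorem Q14809 : ∀ i, i < 14809 → P i := stepQ 14808 Q14808 (allL N14808 (tt N18453 (iv F61632)) (tt N18546 D28886) (tt N10480 (iv D25075)) (tt N18547 D28887) (tt N14520 F51166) (tt N17275 (iv F57961)) (tt N14515 F51167))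
theorem Q14810 : ∀ i, i < 14810 → P i := stepQ 14809 Q14809 (allL N14809 (tt N12965 (iv F51170)) (tt N10481 (iv D25076)) (tt N17027 (iv F57333)) (tt N18392 (iv F61482)) (tt N10485 F51168) (tt N17026 F57331) (tt N12021 F51169))
theorem Q14811 : ∀ i, i < 14811 → P i := stepQ 14810 Q14810 (allL N14810 (tt N14190 F51171) (tt N12211 F51172) (tt N13994 F51173) (tt N10482 (iv D25077)) (tt N18440 (iv F61596)) (tt N14185 F51174) (tt N10511 F51175))
theorem Q14812 : ∀ i, i < 14812 → P i := stepQ 14811 Q14811 (allL N14811 (tt N13411 F51176) (tt N12759 F51177) (tt N10507 F51178) (tt N10487 F51179) (tt N18545 (iv F61947)) (tt N10483 (iv D25078)) (tt N13409 F51180))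
theorem Q14813 : ∀ i, i < 14813 → P i := stepQ 14812 Q14812 (allL N14812 (tt N10489 F51181) (tt N13614 F51182) (tt N10488 (iv D25079)) (tt N18548 D28888) (tt N18410 (iv F61516)) (tt N16420 (iv F55366)) (tt N12024 F51183))
theorem Q14814 : ∀ i, i < 14814 → P i := stepQ 14813 Q14813 (allL N14813 (tt N18548 (iv F61954)) (tt N14773 F51184) (tt N17496 (iv F58707)) (tt N10489 (iv D25080)) (tt N14960 (iv F51687)) (tt N17496 (iv F58710)) (tt N12026 F51185))
theorem Q14815 : ∀ i, i < 14815 → P i := stepQ 14814 Q14814 (allL N14814 (tt N16420 (iv F55364)) (tt N14152 F51186) (tt N10490 F51187) (tt N17496 (iv F58708)) (tt N18411 (iv F61521)) (tt N10489 (iv D25081)) (tt N16417 (iv F55354)))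
theorem Q14816 : ∀ i, i < 14816 → P i := stepQ 14815 Q14815 (allL N14815 (tt N10500 F51188) (tt N16777 (iv F56592)) (tt N10494 F51189) (tt N12632 F51190) (tt N10493 F51191) (tt N10492 (iv D25082)) (tt N12632 F51192))
theorem Q14817 : ∀ i, i < 14817 → P i := stepQ 14816 Q14816 (allL N14816 (tt N17876 (iv F59890)) (tt N10494 (iv D25083)) (tt N17874 (iv F59885)) (tt N18419 (iv F61544)) (tt N10496 F51193) (tt N13168 F51194) (tt N14126 (iv F51195)))
theorem Q14818 : ∀ i, i < 14818 → P i := stepQ 14817 Q14817 (allL N14817 (tt N13271 F51196) (tt N10497 (iv D25084)) (tt N12180 F51197) (tt N13273 F51198) (tt N18422 (iv F61553)) (tt N14083 F51199) (tt N12180 F51200))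
theorem Q14819 : ∀ i, i < 14819 → P i := stepQ 14818 Q14818 (allL N14818 (tt N12632 F51201) (tt N14154 F51206) (tt N10503 F51202) (tt N10500 F51203) (tt N10501 F51204) (tt N10499 (iv D25085)) (tt N10500 F51205))
theorem Q14820 : ∀ i, i < 14820 → P i := stepQ 14819 Q14819 (allL N14819 (tt N10502 (iv D25086)) (tt N17135 (iv F57616)) (tt N13092 F51207) (tt N16144 (iv F54496)) (tt N10505 F51208) (tt N10513 F51209) (tt N13091 (iv F51210)))
theorem Q14821 : ∀ i, i < 14821 → P i := stepQ 14820 Q14820 (allL N14820 (tt N13091 F51211) (tt N17948 (iv F60174)) (tt N13089 F51212) (tt N16148 (iv F54506)) (tt N10506 F51213) (tt N12730 F51214) (tt N10502 (iv D25087)))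
theorem Q14822 : ∀ i, i < 14822 → P i := stepQ 14821 Q14821 (allL N14821 (tt N18549 D28889) (tt N10503 (iv D25088)) (tt N18545 (iv F61946)) (tt N18433 (iv F61575)) (tt N10507 F51215) (tt N17119 (iv F57582)) (tt N17948 (iv F60177)))
theorem Q14823 : ∀ i, i < 14823 → P i := stepQ 14822 Q14822 (allL N14822 (tt N13194 (iv F51217)) (tt N10504 (iv D25089)) (tt N15676 F53342) (tt N18434 (iv F61577)) (tt N10508 F51216) (tt N15679 (iv F53351)) (tt N17918 (iv F60063)))
theorem Q14824 : ∀ i, i < 14824 → P i := stepQ 14823 Q14823 (allL N14823 (tt N10507 (iv D25090)) (tt N13374 F51218) (tt N13411 F51219) (tt N10510 F51220) (tt N18549 (iv F61959)) (tt N16655 (iv F56170)) (tt N13410 F51221))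
theorem Q14825 : ∀ i, i < 14825 → P i := stepQ 14824 Q14824 (allL N14824 (tt N10668 F51222) (tt N12798 F51223) (tt N10508 (iv D25091)) (tt N10667 F51224) (tt N15676 (iv F53340)) (tt N15680 (iv F53361)) (tt N17505 (iv F58746)))
theorem Q14826 : ∀ i, i < 14826 → P i := stepQ 14825 Q14825 (allL N14825 (tt N17912 (iv F60032)) (tt N10513 (iv D25092)) (tt N18550 D28890) (tt N16141 (iv F54492)) (tt N10514 F51225) (tt N18551 D28891) (tt N16843 (iv F56781)))
theorem Q14827 : ∀ i, i < 14827 → P i := stepQ 14826 Q14826 (allL N14826 (tt N12816 F51226) (tt N14698 F51227) (tt N10514 (iv D25093)) (tt N14110 F51228) (tt N18550 (iv F61963)) (tt N13356 F51230) (tt N14109 F51229))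
theorem Q14828 : ∀ i, i < 14828 → P i := stepQ 14827 Q14827 (allL N14827 (tt N16425 (iv F55378)) (tt N13355 F51231) (tt N13356 F51232) (tt N10515 F51233) (tt N18551 (iv F61968)) (tt N10514 (iv D25094)) (tt N13356 F51234))
theorem Q14829 : ∀ i, i < 14829 → P i := stepQ 14828 Q14828 (allL N14828 (tt N14829 (iv F51239)) (tt N13352 F51235) (tt N14119 F51236) (tt N13356 F51237) (tt N18441 (iv F61600)) (tt N14110 F51238) (tt N10515 (iv D25095)))
theorem Q14830 : ∀ i, i < 14830 → P i := stepQ 14829 Q14829 (allL N14829 (tt N14828 F51239) (tt N16372 (iv F55212)) (tt N14046 F51240) (tt N16871 (iv F56886)) (tt N18442 (iv F61604)) (tt N10516 (iv D25096)) (tt N12037 F51241))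
theorem Q14831 : ∀ i, i < 14831 → P i := stepQ 14830 Q14830 (allL N14830 (tt N14778 F51242) (tt N16306 (iv F55004)) (tt N10517 (iv D25097)) (tt N12391 (iv F51244)) (tt N18443 (iv F61607)) (tt N12321 F51243) (tt N12390 (iv F51245)))
theorem Q14832 : ∀ i, i < 14832 → P i := stepQ 14831 Q14831 (allL N14831 (tt N14780 F51246) (tt N13359 F51247) (tt N12390 F51248) (tt N13362 F51249) (tt N18444 (iv F61614)) (tt N12388 F51250) (tt N10517 (iv D25098)))
theorem Q14833 : ∀ i, i < 14833 → P i := stepQ 14832 Q14832 (allL N14832 (tt N14953 (iv F51658)) (tt N14726 F51251) (tt N10519 F51252) (tt N12066 F51253) (tt N11423 F51254) (tt N10518 (iv D25099)) (tt N11421 F51255))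
theorem Q14834 : ∀ i, i < 14834 → P i := stepQ 14833 Q14833 (allL N14833 (tt N10523 F51256) (tt N16188 (iv F54603)) (tt N10522 (iv D25100)) (tt N18344 (iv F61281)) (tt N10525 F51257) (tt N14749 F51258) (tt N17067 (iv F57433)))
theorem Q14835 : ∀ i, i < 14835 → P i := stepQ 14834 Q14834 (allL N14834 (tt N10524 F51259) (tt N12682 F51260) (tt N17067 (iv F57431)) (tt N12627 F51261) (tt N10526 F51262) (tt N12617 F51263) (tt N10522 (iv D25101)))
theorem Q14836 : ∀ i, i < 14836 → P i := stepQ 14835 Q14835 (allL N14835 (tt N18344 (iv F61279)) (tt N10529 F51264) (tt N18343 (iv F61275)) (tt N10523 (iv D25102)) (tt N14472 F51265) (tt N14467 F51266) (tt N17059 (iv F57412)))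
theorem Q14837 : ∀ i, i < 14837 → P i := stepQ 14836 Q14836 (allL N14836 (tt N12617 F51267) (tt N12636 F51268) (tt N17068 (iv F57436)) (tt N12625 F51269) (tt N10527 F51270) (tt N10524 (iv D25103)) (tt N12618 F51271))
theorem Q14838 : ∀ i, i < 14838 → P i := stepQ 14837 Q14837 (allL N14837 (tt N16787 F56617) (tt N17027 F57336) (tt N10528 (iv D25104)) (tt N18552 D28892) (tt N10530 F51272) (tt N17028 (iv F57338)) (tt N17294 (iv F58009)))
theorem Q14839 : ∀ i, i < 14839 → P i := stepQ 14838 Q14838 (allL N14838 (tt N17913 (iv F60036)) (tt N17030 (iv F57344)) (tt N17028 F57340) (tt N18446 (iv F61618)) (tt N10531 F51273) (tt N10528 (iv D25105)) (tt N18541 (iv F61934)))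
theorem Q14840 : ∀ i, i < 14840 → P i := stepQ 14839 Q14839 (allL N14839 (tt N18391 (iv F61478)) (tt N18553 D28893) (tt N10529 (iv D25106)) (tt N18554 D28894) (tt N14471 F51274) (tt N14466 F51275) (tt N17199 (iv F57786)))
theorem Q14841 : ∀ i, i < 14841 → P i := stepQ 14840 Q14840 (allL N14840 (tt N10535 F51276) (tt N13610 F51277) (tt N10534 (iv D25107)) (tt N18555 D28895) (tt N18468 (iv F61663)) (tt N12207 F51278) (tt N16527 (iv F55733)))
theorem Q14842 : ∀ i, i < 14842 → P i := stepQ 14841 Q14841 (allL N14841 (tt N18555 (iv F61975)) (tt N14752 F51279) (tt N17487 (iv F58672)) (tt N10535 (iv D25108)) (tt N14913 (iv F51531)) (tt N12209 F51280) (tt N17487 (iv F58676)))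
theorem Q14843 : ∀ i, i < 14843 → P i := stepQ 14842 Q14842 (allL N14842 (tt N16527 (iv F55731)) (tt N14143 F51281) (tt N10536 F51282) (tt N17487 (iv F58673)) (tt N18469 (iv F61668)) (tt N16524 (iv F55721)) (tt N10535 (iv D25109)))
theorem Q14844 : ∀ i, i < 14844 → P i := stepQ 14843 Q14843 (allL N14843 (tt N10550 F51283) (tt N14179 F51284) (tt N13057 F51285) (tt N10546 F51286) (tt N10547 F51287) (tt N14846 (iv F51303)) (tt N10545 (iv D25110)))
theorem Q14845 : ∀ i, i < 14845 → P i := stepQ 14844 Q14844 (allL N14844 (tt N11120 F51288) (tt N12503 F51289) (tt N14844 F51290) (tt N10548 (iv D25111)) (tt N11119 F51291) (tt N11119 F51292) (tt N15344 (iv F52608)))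
theorem Q14846 : ∀ i, i < 14846 → P i := stepQ 14845 Q14845 (allL N14845 (tt N13057 F51293) (tt N13075 F51294) (tt N10550 F51295) (tt N15344 (iv F52606)) (tt N10554 F51296) (tt N11269 F51297) (tt N10548 (iv D25112)))
theorem Q14847 : ∀ i, i < 14847 → P i := stepQ 14846 Q14846 (allL N14846 (tt N12643 F51298) (tt N10607 F51299) (tt N12821 F51300) (tt N10551 F51301) (tt N10555 F51302) (tt N14843 F51303) (tt N10549 (iv D25113)))
theorem Q14848 : ∀ i, i < 14848 → P i := stepQ 14847 Q14847 (allL N14847 (tt N12710 F51304) (tt N10550 (iv D25114)) (tt N18556 D28896) (tt N10552 F51305) (tt N10556 F51306) (tt N12708 (iv F51308)) (tt N10567 F51307))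
theorem Q14849 : ∀ i, i < 14849 → P i := stepQ 14848 Q14848 (allL N14848 (tt N12652 F51313) (tt N10551 (iv D25115)) (tt N12822 F51309) (tt N10607 F51310) (tt N10553 F51311) (tt N10605 F51312) (tt N14877 (iv F51409)))
theorem Q14850 : ∀ i, i < 14850 → P i := stepQ 14849 Q14849 (allL N14849 (tt N12801 F51314) (tt N13381 F51315) (tt N10556 (iv D25116)) (tt N16480 (iv F55584)) (tt N18556 (iv F61980)) (tt N12799 F51316) (tt N10572 F51317))
theorem Q14851 : ∀ i, i < 14851 → P i := stepQ 14850 Q14850 (allL N14850 (tt N10559 F51318) (tt N18557 D28897) (tt N10558 (iv D25117)) (tt N16494 (iv F55623)) (tt N10563 F51319) (tt N12756 F51320) (tt N10573 F51321))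
theorem Q14852 : ∀ i, i < 14852 → P i := stepQ 14851 Q14851 (allL N14851 (tt N12756 F51322) (tt N12123 F51323) (tt N10560 F51324) (tt N12120 F51325) (tt N10565 F51326) (tt N10559 (iv D25118)) (tt N12157 F51327))
theorem Q14853 : ∀ i, i < 14853 → P i := stepQ 14852 Q14852 (allL N14852 (tt N16648 (iv F56143)) (tt N10563 (iv D25119)) (tt N10693 F51328) (tt N18558 D28898) (tt N18557 (iv F61986)) (tt N16646 (iv F56137)) (tt N13513 F51329))
theorem Q14854 : ∀ i, i < 14854 → P i := stepQ 14853 Q14853 (allL N14853 (tt N10564 F51330) (tt N18558 (iv F61989)) (tt N16585 F55914) (tt N10563 (iv D25120)) (tt N18559 D28899) (tt N14871 (iv F51385)) (tt N10578 F51331))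
theorem Q14855 : ∀ i, i < 14855 → P i := stepQ 14854 Q14854 (allL N14854 (tt N16585 F55913) (tt N13276 F51332) (tt N10564 (iv D25121)) (tt N13263 F51334) (tt N18560 D28900) (tt N17426 (iv F58435)) (tt N10580 F51333))
theorem Q14856 : ∀ i, i < 14856 → P i := stepQ 14855 Q14855 (allL N14855 (tt N18559 (iv F61993)) (tt N10663 F51335) (tt N18560 (iv F61996)) (tt N15998 (iv F54154)) (tt N10564 (iv D25122)) (tt N18525 (iv F61864)) (tt N10581 F51336))
theorem Q14857 : ∀ i, i < 14857 → P i := stepQ 14856 Q14856 (allL N14856 (tt N14871 (iv F51382)) (tt N13280 F51337) (tt N17426 (iv F58433)) (tt N10565 F51338) (tt N18525 (iv F61863)) (tt N10564 (iv D25123)) (tt N14865 (iv F51366)))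
theorem Q14858 : ∀ i, i < 14858 → P i := stepQ 14857 Q14857 (allL N14857 (tt N10587 F51343) (tt N10565 (iv D25124)) (tt N14889 (iv F51451)) (tt N13280 F51339) (tt N12123 F51340) (tt N10585 F51341) (tt N12126 F51342))
theorem Q14859 : ∀ i, i < 14859 → P i := stepQ 14858 Q14858 (allL N14858 (tt N10631 F51344) (tt N10668 F51345) (tt N13329 F51347) (tt N10566 (iv D25125)) (tt N15673 (iv F53327)) (tt N14888 (iv F51450)) (tt N10628 F51346))
theorem Q14860 : ∀ i, i < 14860 → P i := stepQ 14859 Q14859 (allL N14859 (tt N16774 (iv F56577)) (tt N12372 F51348) (tt N10567 (iv D25126)) (tt N18561 D28901) (tt N10572 F51349) (tt N16822 F56720) (tt N18556 (iv F61982)))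
theorem Q14861 : ∀ i, i < 14861 → P i := stepQ 14860 Q14860 (allL N14860 (tt N16808 (iv F56683)) (tt N12933 F51350) (tt N18562 D28902) (tt N10568 (iv D25127)) (tt N17000 (iv F57245)) (tt N12935 F51351) (tt N16882 (iv F56920)))
theorem Q14862 : ∀ i, i < 14862 → P i := stepQ 14861 Q14861 (allL N14861 (tt N10572 F51352) (tt N17445 (iv F58513)) (tt N10571 (iv D25128)) (tt N16484 (iv F55592)) (tt N16774 (iv F56579)) (tt N16744 F56470) (tt N12801 F51353))
theorem Q14863 : ∀ i, i < 14863 → P i := stepQ 14862 Q14862 (allL N14862 (tt N15904 (iv F53921)) (tt N10584 F51354) (tt N15902 (iv F53914)) (tt N10581 F51355) (tt N10575 (iv D25129)) (tt N15901 F53912) (tt N15998 (iv F54157)))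
theorem Q14864 : ∀ i, i < 14864 → P i := stepQ 14863 Q14863 (allL N14863 (tt N10580 F51356) (tt N12199 F51357) (tt N10578 (iv D25130)) (tt N13383 F51358) (tt N18563 D28903) (tt N13382 (iv F51359)) (tt N16585 (iv F55912)))
theorem Q14865 : ∀ i, i < 14865 → P i := stepQ 14864 Q14864 (allL N14864 (tt N10581 F51360) (tt N12639 F51361) (tt N18563 (iv F62002)) (tt N15904 (iv F53923)) (tt N10578 (iv D25131)) (tt N15903 F53920) (tt N18559 (iv F61994)))
theorem Q14866 : ∀ i, i < 14866 → P i := stepQ 14865 Q14865 (allL N14865 (tt N10582 F51362) (tt N10750 F51363) (tt N13382 F51364) (tt N10579 F51365) (tt N15903 (iv F53919)) (tt N10578 (iv D25132)) (tt N14856 F51366))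
theorem Q14867 : ∀ i, i < 14867 → P i := stepQ 14866 Q14866 (allL N14866 (tt N13265 (iv F51369)) (tt N10580 (iv D25133)) (tt N10590 F51367) (tt N13473 F51368) (tt N18564 D28904) (tt N13472 (iv F51370)) (tt N17411 (iv F58374)))
theorem Q14868 : ∀ i, i < 14868 → P i := stepQ 14867 Q14867 (allL N14867 (tt N13383 F51371) (tt N13473 F51372) (tt N12787 F51373) (tt N10580 (iv D25134)) (tt N18565 D28905) (tt N13381 (iv F51375)) (tt N13263 F51374))
theorem Q14869 : ∀ i, i < 14869 → P i := stepQ 14868 Q14868 (allL N14868 (tt N18563 (iv F62000)) (tt N18564 (iv F62005)) (tt N10581 F51376) (tt N18566 D28906) (tt N10580 (iv D25135)) (tt N18567 D28907) (tt N18560 (iv F61997)))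
theorem Q14870 : ∀ i, i < 14870 → P i := stepQ 14869 Q14869 (allL N14869 (tt N13382 F51377) (tt N16480 (iv F55583)) (tt N10582 F51378) (tt N13381 F51379) (tt N18567 (iv F62015)) (tt N10580 (iv D25136)) (tt N16609 (iv F55998)))
theorem Q14871 : ∀ i, i < 14871 → P i := stepQ 14870 Q14870 (allL N14870 (tt N15903 (iv F53917)) (tt N12443 F51380) (tt N18567 (iv F62014)) (tt N15901 F53911) (tt N10582 F51381) (tt N10581 (iv D25137)) (tt N18568 D28908))
theorem Q14872 : ∀ i, i < 14872 → P i := stepQ 14871 Q14871 (allL N14871 (tt N14856 F51382) (tt N13953 F51383) (tt N16609 (iv F55995)) (tt N10583 F51384) (tt N18568 (iv F62019)) (tt N14853 F51385) (tt N10582 (iv D25138)))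
theorem Q14873 : ∀ i, i < 14873 → P i := stepQ 14872 Q14872 (allL N14872 (tt N13278 F51386) (tt N10629 F51387) (tt N10586 (iv D25139)) (tt N13421 F51388) (tt N18569 D28909) (tt N17427 (iv F58439)) (tt N13420 (iv F51389)))
theorem Q14874 : ∀ i, i < 14874 → P i := stepQ 14873 Q14873 (allL N14873 (tt N12917 F51390) (tt N10589 F51391) (tt N18569 (iv F62023)) (tt N15870 (iv F53841)) (tt N10586 (iv D25140)) (tt N17444 (iv F58512)) (tt N15868 (iv F53830)))
theorem Q14875 : ∀ i, i < 14875 → P i := stepQ 14874 Q14874 (allL N14874 (tt N13281 F51392) (tt N10711 F51393) (tt N13420 F51394) (tt N10588 F51395) (tt N15868 (iv F53829)) (tt N13424 F51396) (tt N10586 (iv D25141)))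
theorem Q14876 : ∀ i, i < 14876 → P i := stepQ 14875 Q14875 (allL N14875 (tt N12902 F51397) (tt N10591 F51398) (tt N18564 (iv F62006)) (tt N15636 (iv F53252)) (tt N10590 (iv D25142)) (tt N15634 F53241) (tt N17469 (iv F58608)))
theorem Q14877 : ∀ i, i < 14877 → P i := stepQ 14876 Q14876 (allL N14876 (tt N13267 F51399) (tt N10793 F51400) (tt N13472 F51401) (tt N10635 F51402) (tt N15634 (iv F53240)) (tt N10590 (iv D25143)) (tt N13476 F51403))
theorem Q14878 : ∀ i, i < 14878 → P i := stepQ 14877 Q14877 (allL N14877 (tt N10604 F51404) (tt N14158 F51405) (tt N12982 F51406) (tt N10601 F51407) (tt N10602 F51408) (tt N10600 (iv D25144)) (tt N14848 F51409))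
theorem Q14879 : ∀ i, i < 14879 → P i := stepQ 14878 Q14878 (allL N14878 (tt N11189 F51410) (tt N12504 F51411) (tt N14878 F51412) (tt N10603 (iv D25145)) (tt N11188 F51413) (tt N15448 (iv F52785)) (tt N11188 F51414))
theorem Q14880 : ∀ i, i < 14880 → P i := stepQ 14879 Q14879 (allL N14879 (tt N12982 F51415) (tt N13001 F51416) (tt N10604 F51417) (tt N15448 (iv F52783)) (tt N10608 F51418) (tt N10603 (iv D25146)) (tt N11428 F51419))
theorem Q14881 : ∀ i, i < 14881 → P i := stepQ 14880 Q14880 (allL N14880 (tt N12682 F51420) (tt N10604 (iv D25147)) (tt N18570 D28910) (tt N10606 F51421) (tt N10609 F51422) (tt N10618 F51423) (tt N12679 (iv F51424)))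
theorem Q14882 : ∀ i, i < 14882 → P i := stepQ 14881 Q14881 (allL N14881 (tt N12777 F51425) (tt N13327 F51426) (tt N10609 (iv D25148)) (tt N16339 (iv F55114)) (tt N18570 (iv F62027)) (tt N10623 F51427) (tt N12774 F51428))
theorem Q14883 : ∀ i, i < 14883 → P i := stepQ 14882 Q14882 (allL N14882 (tt N10612 F51429) (tt N18571 D28911) (tt N10611 (iv D25149)) (tt N16354 (iv F55151)) (tt N10615 F51430) (tt N10624 F51431) (tt N12752 F51432))
theorem Q14884 : ∀ i, i < 14884 → P i := stepQ 14883 Q14883 (allL N14883 (tt N12752 F51433) (tt N11917 F51434) (tt N10613 F51435) (tt N11914 F51436) (tt N10617 F51437) (tt N11954 F51438) (tt N10612 (iv D25150)))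
theorem Q14885 : ∀ i, i < 14885 → P i := stepQ 14884 Q14884 (allL N14884 (tt N16666 (iv F56212)) (tt N10615 (iv D25151)) (tt N10777 F51439) (tt N18572 D28912) (tt N18571 (iv F62033)) (tt N13537 F51440) (tt N16664 F56207))
theorem Q14886 : ∀ i, i < 14886 → P i := stepQ 14885 Q14885 (allL N14885 (tt N10616 F51441) (tt N18572 (iv F62036)) (tt N16550 F55806) (tt N10615 (iv D25152)) (tt N18573 D28913) (tt N10628 F51442) (tt N14900 (iv F51485)))
theorem Q14887 : ∀ i, i < 14887 → P i := stepQ 14886 Q14886 (allL N14886 (tt N16550 (iv F55805)) (tt N13263 F51443) (tt N10616 (iv D25153)) (tt N13276 F51445) (tt N18574 D28914) (tt N10629 F51444) (tt N17410 (iv F58370)))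
theorem Q14888 : ∀ i, i < 14888 → P i := stepQ 14887 Q14887 (allL N14887 (tt N18573 (iv F62040)) (tt N10745 F51446) (tt N18574 (iv F62043)) (tt N15773 (iv F53563)) (tt N10616 (iv D25154)) (tt N10630 F51447) (tt N18497 (iv F61777)))
theorem Q14889 : ∀ i, i < 14889 → P i := stepQ 14888 Q14888 (allL N14888 (tt N14900 (iv F51482)) (tt N13268 F51448) (tt N17410 (iv F58368)) (tt N10617 F51449) (tt N18497 (iv F61775)) (tt N14858 F51450) (tt N10616 (iv D25155)))
theorem Q14890 : ∀ i, i < 14890 → P i := stepQ 14889 Q14889 (allL N14889 (tt N10636 F51456) (tt N10617 (iv D25156)) (tt N14857 F51451) (tt N13268 F51452) (tt N11917 F51453) (tt N11920 F51454) (tt N10634 F51455))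
theorem Q14891 : ∀ i, i < 14891 → P i := stepQ 14890 Q14890 (allL N14890 (tt N16769 (iv F56553)) (tt N12412 F51457) (tt N10618 (iv D25157)) (tt N18575 D28915) (tt N10623 F51458) (tt N18570 (iv F62028)) (tt N16795 F56641))
theorem Q14892 : ∀ i, i < 14892 → P i := stepQ 14891 Q14891 (allL N14891 (tt N16782 (iv F56608)) (tt N12950 F51459) (tt N18576 D28916) (tt N10619 (iv D25158)) (tt N16976 (iv F57176)) (tt N16875 F56900) (tt N12951 F51460))
theorem Q14893 : ∀ i, i < 14893 → P i := stepQ 14892 Q14892 (allL N14892 (tt N10623 F51461) (tt N17470 (iv F58610)) (tt N10622 (iv D25159)) (tt N16344 (iv F55125)) (tt N16769 (iv F56555)) (tt N12777 F51462) (tt N16745 (iv F56475)))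
theorem Q14894 : ∀ i, i < 14894 → P i := stepQ 14893 Q14893 (allL N14893 (tt N15674 (iv F53329)) (tt N10633 F51463) (tt N15672 (iv F53322)) (tt N10630 F51464) (tt N10625 (iv D25160)) (tt N15773 (iv F53565)) (tt N15671 F53320))
theorem Q14895 : ∀ i, i < 14895 → P i := stepQ 14894 Q14894 (allL N14894 (tt N10629 F51465) (tt N12013 F51466) (tt N10628 (iv D25161)) (tt N13331 F51468) (tt N18577 D28917) (tt N16550 (iv F55804)) (tt N13329 F51467))
theorem Q14896 : ∀ i, i < 14896 → P i := stepQ 14895 Q14895 (allL N14895 (tt N10630 F51469) (tt N12628 F51470) (tt N18577 (iv F62049)) (tt N15674 (iv F53331)) (tt N10628 (iv D25162)) (tt N18573 (iv F62041)) (tt N15673 F53328))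
theorem Q14897 : ∀ i, i < 14897 → P i := stepQ 14896 Q14896 (allL N14896 (tt N13331 F51471) (tt N13421 F51472) (tt N12762 F51473) (tt N10629 (iv D25163)) (tt N18578 D28918) (tt N13276 F51474) (tt N13327 (iv F51475)))
theorem Q14898 : ∀ i, i < 14898 → P i := stepQ 14897 Q14897 (allL N14897 (tt N18577 (iv F62047)) (tt N18569 (iv F62022)) (tt N10630 F51476) (tt N18579 D28919) (tt N10629 (iv D25164)) (tt N18574 (iv F62044)) (tt N18580 D28920))
theorem Q14899 : ∀ i, i < 14899 → P i := stepQ 14898 Q14898 (allL N14898 (tt N13329 F51477) (tt N16339 (iv F55113)) (tt N10631 F51478) (tt N13327 F51479) (tt N18580 (iv F62058)) (tt N16613 (iv F56010)) (tt N10629 (iv D25165)))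
theorem Q14900 : ∀ i, i < 14900 → P i := stepQ 14899 Q14899 (allL N14899 (tt N15673 (iv F53325)) (tt N12479 F51480) (tt N18580 (iv F62057)) (tt N15671 F53319) (tt N10631 F51481) (tt N18581 D28921) (tt N10630 (iv D25166)))
theorem Q14901 : ∀ i, i < 14901 → P i := stepQ 14900 Q14900 (allL N14900 (tt N14888 F51482) (tt N13974 F51483) (tt N16613 (iv F56008)) (tt N10632 F51484) (tt N18581 (iv F62062)) (tt N10631 (iv D25167)) (tt N14885 F51485))
theorem Q14902 : ∀ i, i < 14902 → P i := stepQ 14901 Q14901 (allL N14901 (tt N14998 (iv F51814)) (tt N16182 F54576) (tt N11854 F51486) (tt N10638 F51487) (tt N11851 F51488) (tt N11849 F51489) (tt N10637 (iv D25168)))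
theorem Q14903 : ∀ i, i < 14903 → P i := stepQ 14902 Q14902 (allL N14902 (tt N13668 (iv F51492)) (tt N10638 (iv D25169)) (tt N14984 (iv F51774)) (tt N16182 (iv F54573)) (tt N10814 F51490) (tt N18582 D28922) (tt N14902 F51491))
theorem Q14904 : ∀ i, i < 14904 → P i := stepQ 14903 Q14903 (allL N14903 (tt N14906 (iv F51504)) (tt N10640 (iv D25170)) (tt N10691 F51493) (tt N10653 F51494) (tt N14904 (iv F51497)) (tt N14919 (iv F51553)) (tt N10690 F51495))
theorem Q14905 : ∀ i, i < 14905 → P i := stepQ 14904 Q14904 (allL N14904 (tt N14923 (iv F51570)) (tt N10643 (iv D25171)) (tt N14919 (iv F51550)) (tt N10657 F51496) (tt N14903 F51497) (tt N10691 F51498) (tt N14922 (iv F51568)))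
theorem Q14906 : ∀ i, i < 14906 → P i := stepQ 14905 Q14905 (allL N14905 (tt N14800 F51499) (tt N17435 (iv F58470)) (tt N10647 F51500) (tt N11852 F51501) (tt N11262 F51502) (tt N12600 F51503) (tt N10646 (iv D25172)))
theorem Q14907 : ∀ i, i < 14907 → P i := stepQ 14906 Q14906 (allL N14906 (tt N14903 F51504) (tt N13594 F51505) (tt N13549 F51506) (tt N10690 F51507) (tt N14923 (iv F51574)) (tt N13545 F51508) (tt N10653 (iv D25173)))
theorem Q14908 : ∀ i, i < 14908 → P i := stepQ 14907 Q14907 (allL N14907 (tt N16645 (iv F56127)) (tt N10655 (iv D25174)) (tt N16646 (iv F56134)) (tt N10656 F51509) (tt N10666 F51510) (tt N10693 F51511) (tt N14977 (iv F51758)))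
theorem Q14909 : ∀ i, i < 14909 → P i := stepQ 14908 Q14908 (allL N14908 (tt N14921 (iv F51562)) (tt N16525 (iv F55722)) (tt N10656 (iv D25175)) (tt N16234 F54747) (tt N10660 F51512) (tt N12333 F51513) (tt N16598 (iv F55957)))
theorem Q14910 : ∀ i, i < 14910 → P i := stepQ 14909 Q14909 (allL N14909 (tt N10657 (iv D25176)) (tt N14914 (iv F51533)) (tt N12414 F51514) (tt N14923 (iv F51573)) (tt N12437 F51515) (tt N13705 F51516) (tt N13590 F51517))
theorem Q14911 : ∀ i, i < 14911 → P i := stepQ 14910 Q14910 (allL N14910 (tt N14008 F51518) (tt N10660 (iv D25177)) (tt N10662 F51519) (tt N16741 (iv F56457)) (tt N16525 (iv F55723)) (tt N13520 F51520) (tt N14912 (iv F51526)))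
theorem Q14912 : ∀ i, i < 14912 → P i := stepQ 14911 Q14911 (allL N14911 (tt N13282 F51521) (tt N16741 (iv F56455)) (tt N14024 F51522) (tt N10660 (iv D25178)) (tt N18583 D28923) (tt N13507 F51523) (tt N17480 (iv F58647)))
theorem Q14913 : ∀ i, i < 14913 → P i := stepQ 14912 Q14912 (allL N14912 (tt N10662 (iv D25179)) (tt N14007 (iv F51527)) (tt N14008 F51524) (tt N13272 F51525) (tt N16523 F55717) (tt N18584 D28924) (tt N14910 F51526))
theorem Q14914 : ∀ i, i < 14914 → P i := stepQ 14913 Q14913 (allL N14913 (tt N18584 (iv F62070)) (tt N12746 F51528) (tt N13520 F51529) (tt N12743 F51530) (tt N14841 F51531) (tt N10662 (iv D25180)) (tt N13520 F51532))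
theorem Q14915 : ∀ i, i < 14915 → P i := stepQ 14914 Q14914 (allL N14914 (tt N10666 (iv D25181)) (tt N14909 F51533) (tt N16637 (iv F56086)) (tt N13548 F51534) (tt N16645 (iv F56130)) (tt N10819 F51536) (tt N13552 F51535))
theorem Q14916 : ∀ i, i < 14916 → P i := stepQ 14915 Q14915 (allL N14915 (tt N16637 (iv F56085)) (tt N13972 F51537) (tt N10666 (iv D25182)) (tt N13973 (iv F51538)) (tt N16646 (iv F56135)) (tt N18557 (iv F61987)) (tt N15010 F51854))
theorem Q14917 : ∀ i, i < 14917 → P i := stepQ 14916 Q14916 (allL N14916 (tt N10819 F51539) (tt N10679 F51540) (tt N18557 (iv F61984)) (tt N13547 F51541) (tt N10693 F51542) (tt N10666 (iv D25183)) (tt N10820 F51543))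
theorem Q14918 : ∀ i, i < 14918 → P i := stepQ 14917 Q14917 (allL N14917 (tt N17495 (iv F58705)) (tt N18585 D28925) (tt N10671 F51544) (tt N14779 F51545) (tt N13556 F51546) (tt N10670 (iv D25184)) (tt N14777 F51547))
theorem Q14919 : ∀ i, i < 14919 → P i := stepQ 14918 Q14918 (allL N14918 (tt N17855 (iv F59823)) (tt N10673 (iv D25185)) (tt N14985 (iv F51776)) (tt N11964 F51548) (tt N17504 (iv F58739)) (tt N18586 D28926) (tt N17838 (iv F59760)))
theorem Q14920 : ∀ i, i < 14920 → P i := stepQ 14919 Q14919 (allL N14919 (tt N13545 F51549) (tt N10674 (iv D25186)) (tt N14904 F51550) (tt N10677 F51551) (tt N10691 F51552) (tt N14903 F51553) (tt N10677 F51554))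
theorem Q14921 : ∀ i, i < 14921 → P i := stepQ 14920 Q14920 (allL N14920 (tt N14920 F51555) (tt N10675 (iv D25187)) (tt N18585 (iv F62076)) (tt N11960 F51556) (tt N17507 (iv F58754)) (tt N18585 (iv F62079)) (tt N14718 F51557))
theorem Q14922 : ∀ i, i < 14922 → P i := stepQ 14921 Q14921 (allL N14921 (tt N14908 F51562) (tt N10676 (iv D25188)) (tt N13588 (iv F51563)) (tt N11769 F51558) (tt N10688 F51559) (tt N13986 F51560) (tt N12332 F51561))
theorem Q14923 : ∀ i, i < 14923 → P i := stepQ 14922 Q14922 (allL N14922 (tt N10684 F51564) (tt N13588 F51565) (tt N10677 (iv D25189)) (tt N12437 F51569) (tt N10690 F51566) (tt N10689 F51567) (tt N14904 F51568))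
theorem Q14924 : ∀ i, i < 14924 → P i := stepQ 14923 Q14923 (allL N14923 (tt N14904 F51570) (tt N13548 F51571) (tt N13545 F51572) (tt N14909 F51573) (tt N14906 F51574) (tt N13549 F51575) (tt N10684 (iv D25190)))
theorem Q14925 : ∀ i, i < 14925 → P i := stepQ 14924 Q14924 (allL N14924 (tt N16456 (iv F55500)) (tt N10687 F51576) (tt N17143 (iv F57630)) (tt N15999 (iv F54159)) (tt N10686 (iv D25191)) (tt N14023 F51577) (tt N17866 (iv F59862)))
theorem Q14926 : ∀ i, i < 14926 → P i := stepQ 14925 Q14925 (allL N14925 (tt N10693 (iv D25192)) (tt N10816 F51578) (tt N16648 (iv F56145)) (tt N13557 F51579) (tt N10819 F51580) (tt N16645 (iv F56131)) (tt N10817 F51581))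
theorem Q14927 : ∀ i, i < 14927 → P i := stepQ 14926 Q14926 (allL N14926 (tt N14181 F51582) (tt N10696 (iv D25193)) (tt N14180 F51585) (tt N16453 (iv F55492)) (tt N10706 F51583) (tt N14163 (iv F51584)) (tt N17934 (iv F60116)))
theorem Q14928 : ∀ i, i < 14928 → P i := stepQ 14927 Q14927 (allL N14927 (tt N10698 F51586) (tt N18587 D28927) (tt N13566 F51587) (tt N12166 F51588) (tt N10708 F51589) (tt N10696 (iv D25194)) (tt N12165 F51590))
theorem Q14929 : ∀ i, i < 14929 → P i := stepQ 14928 Q14928 (allL N14928 (tt N17765 (iv F59528)) (tt N10700 F51591) (tt N17548 (iv F58897)) (tt N10710 F51592) (tt N10697 (iv D25195)) (tt N17547 (iv F58894)) (tt N15869 F53837))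
theorem Q14930 : ∀ i, i < 14930 → P i := stepQ 14929 Q14929 (allL N14929 (tt N13534 F51593) (tt N10701 (iv D25196)) (tt N13533 (iv F51597)) (tt N13562 F51594) (tt N10843 F51595) (tt N14955 (iv F51670)) (tt N10838 F51596))
theorem Q14931 : ∀ i, i < 14931 → P i := stepQ 14930 Q14930 (allL N14930 (tt N13532 F51598) (tt N13533 F51599) (tt N10706 (iv D25197)) (tt N17476 (iv F58634)) (tt N14180 F51600) (tt N17833 (iv F59740)) (tt N14980 F51766))
theorem Q14932 : ∀ i, i < 14932 → P i := stepQ 14931 Q14931 (allL N14931 (tt N17457 (iv F58553)) (tt N10707 F51601) (tt N17456 F58552) (tt N10706 (iv D25198)) (tt N18588 D28928) (tt N17452 (iv F58538)) (tt N18589 D28929))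
theorem Q14933 : ∀ i, i < 14933 → P i := stepQ 14932 Q14932 (allL N14932 (tt N17843 (iv F59777)) (tt N14014 F51611) (tt N17833 (iv F59738)) (tt N17452 (iv F58537)) (tt N14163 F51602) (tt N10706 (iv D25199)) (tt N13508 (iv F51603)))
theorem Q14934 : ∀ i, i < 14934 → P i := stepQ 14933 Q14933 (allL N14933 (tt N14948 F51643) (tt N18590 D28930) (tt N14980 (iv F51765)) (tt N18589 (iv F62096)) (tt N17934 (iv F60115)) (tt N14978 F51763) (tt N10706 (iv D25200)))
theorem Q14935 : ∀ i, i < 14935 → P i := stepQ 14934 Q14934 (allL N14934 (tt N10710 F51604) (tt N18588 (iv F62093)) (tt N18533 (iv F61894)) (tt N17765 (iv F59530)) (tt N10707 (iv D25201)) (tt N18532 F61892) (tt N17764 (iv F59527)))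
theorem Q14936 : ∀ i, i < 14936 → P i := stepQ 14935 Q14935 (allL N14935 (tt N10711 F51605) (tt N17474 (iv F58627)) (tt N13419 F51606) (tt N10709 F51607) (tt N17764 (iv F59524)) (tt N14739 F51608) (tt N10707 (iv D25202)))
theorem Q14937 : ∀ i, i < 14937 → P i := stepQ 14936 Q14936 (allL N14936 (tt N14016 F51609) (tt N10708 (iv D25203)) (tt N14966 (iv F51708)) (tt N18534 (iv F61899)) (tt N18587 (iv F62089)) (tt N14014 (iv F51610)) (tt N17499 (iv F58720)))
theorem Q14938 : ∀ i, i < 14938 → P i := stepQ 14937 Q14937 (allL N14937 (tt N17554 (iv F58920)) (tt N10709 (iv D25204)) (tt N14950 (iv F51649)) (tt N17474 (iv F58629)) (tt N15017 (iv F51878)) (tt N14937 F51612) (tt N18590 (iv F62098)))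
theorem Q14939 : ∀ i, i < 14939 → P i := stepQ 14938 Q14938 (allL N14938 (tt N17764 (iv F59523)) (tt N15868 F53831) (tt N17879 (iv F59904)) (tt N15869 (iv F53833)) (tt N10711 F51613) (tt N15916 (iv F53969)) (tt N10710 (iv D25205)))
theorem Q14940 : ∀ i, i < 14940 → P i := stepQ 14939 Q14939 (allL N14939 (tt N17459 (iv F58564)) (tt N10714 (iv D25206)) (tt N16076 (iv F54339)) (tt N12496 F51614) (tt N16078 (iv F54349)) (tt N14939 F51615) (tt N18591 D28931))
theorem Q14941 : ∀ i, i < 14941 → P i := stepQ 14940 Q14940 (allL N14940 (tt N10715 F51616) (tt N16078 (iv F54348)) (tt N12566 F51617) (tt N17950 (iv F60183)) (tt N10714 (iv D25207)) (tt N12565 F51618) (tt N17478 (iv F58642)))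
theorem Q14942 : ∀ i, i < 14942 → P i := stepQ 14941 Q14941 (allL N14941 (tt N17950 (iv F60181)) (tt N10717 F51619) (tt N18166 (iv F60756)) (tt N10715 (iv D25208)) (tt N12393 F51620) (tt N17947 (iv F60171)) (tt N14191 F51621))
theorem Q14943 : ∀ i, i < 14943 → P i := stepQ 14942 Q14942 (allL N14942 (tt N12565 F51622) (tt N14993 (iv F51799)) (tt N12564 F51623) (tt N17947 (iv F60169)) (tt N10716 F51624) (tt N10715 (iv D25209)) (tt N13488 F51625))
theorem Q14944 : ∀ i, i < 14944 → P i := stepQ 14943 Q14943 (allL N14943 (tt N10718 (iv D25210)) (tt N14378 (iv F51628)) (tt N16562 (iv F55838)) (tt N14377 F51626) (tt N10719 F51627) (tt N16803 (iv F56668)) (tt N16561 (iv F55835)))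
theorem Q14945 : ∀ i, i < 14945 → P i := stepQ 14944 Q14944 (allL N14944 (tt N16562 (iv F55836)) (tt N14992 (iv F51794)) (tt N10718 (iv D25211)) (tt N12271 (iv F51631)) (tt N10720 F51629) (tt N12269 F51630) (tt N14006 (iv F51632)))
theorem Q14946 : ∀ i, i < 14946 → P i := stepQ 14945 Q14945 (allL N14945 (tt N16561 (iv F55832)) (tt N14990 (iv F51787)) (tt N14006 F51633) (tt N16602 (iv F55973)) (tt N10721 F51634) (tt N16559 (iv F55828)) (tt N10718 (iv D25212)))
theorem Q14947 : ∀ i, i < 14947 → P i := stepQ 14946 Q14946 (allL N14946 (tt N10721 F51635) (tt N18592 D28932) (tt N12351 F51636) (tt N10722 F51637) (tt N16561 (iv F55834)) (tt N12350 F51638) (tt N10719 (iv D25213)))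
theorem Q14948 : ∀ i, i < 14948 → P i := stepQ 14947 Q14947 (allL N14947 (tt N14947 F51639) (tt N10722 (iv D25214)) (tt N16849 (iv F56796)) (tt N18592 (iv F62102)) (tt N16600 (iv F55967)) (tt N17503 (iv F58737)) (tt N16849 (iv F56798)))
theorem Q14949 : ∀ i, i < 14949 → P i := stepQ 14948 Q14948 (allL N14948 (tt N14933 (iv F51643)) (tt N10723 (iv D25215)) (tt N14996 (iv F51807)) (tt N16751 (iv F56491)) (tt N14162 F51640) (tt N13508 F51641) (tt N14011 F51642))
theorem Q14950 : ∀ i, i < 14950 → P i := stepQ 14949 Q14949 (allL N14949 (tt N15012 (iv F51857)) (tt N16184 (iv F54581)) (tt N12066 F51644) (tt N10725 F51645) (tt N12063 F51646) (tt N10724 (iv D25216)) (tt N12061 F51647))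
theorem Q14951 : ∀ i, i < 14951 → P i := stepQ 14950 Q14950 (allL N14950 (tt N13667 F51648) (tt N10725 (iv D25217)) (tt N14937 F51649) (tt N16184 (iv F54583)) (tt N10835 F51650) (tt N14950 F51651) (tt N18593 D28933))
theorem Q14952 : ∀ i, i < 14952 → P i := stepQ 14951 Q14951 (allL N14951 (tt N14954 (iv F51663)) (tt N10727 (iv D25218)) (tt N10775 F51652) (tt N10738 F51653) (tt N14952 (iv F51656)) (tt N10774 F51654) (tt N14967 (iv F51715)))
theorem Q14953 : ∀ i, i < 14953 → P i := stepQ 14952 Q14952 (allL N14952 (tt N14971 (iv F51731)) (tt N10728 (iv D25219)) (tt N14967 (iv F51711)) (tt N10751 F51655) (tt N14951 F51656) (tt N14970 (iv F51728)) (tt N10775 F51657))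
theorem Q14954 : ∀ i, i < 14954 → P i := stepQ 14953 Q14953 (allL N14953 (tt N14832 F51658) (tt N17458 (iv F58560)) (tt N10732 F51659) (tt N12067 F51660) (tt N11424 F51661) (tt N10731 (iv D25220)) (tt N12602 F51662))
theorem Q14955 : ∀ i, i < 14955 → P i := stepQ 14954 Q14954 (allL N14954 (tt N14951 F51663) (tt N13572 F51664) (tt N13580 F51665) (tt N10774 F51666) (tt N14971 (iv F51735)) (tt N10738 (iv D25221)) (tt N13576 F51667))
theorem Q14956 : ∀ i, i < 14956 → P i := stepQ 14955 Q14955 (allL N14955 (tt N16663 (iv F56196)) (tt N10739 (iv D25222)) (tt N16664 (iv F56203)) (tt N10740 F51668) (tt N10748 F51669) (tt N14929 F51670) (tt N10777 F51671))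
theorem Q14957 : ∀ i, i < 14957 → P i := stepQ 14956 Q14956 (allL N14956 (tt N14969 (iv F51724)) (tt N16418 (iv F55355)) (tt N10740 (iv D25223)) (tt N16263 F54843) (tt N10742 F51672) (tt N16621 (iv F56034)) (tt N12378 F51673))
theorem Q14958 : ∀ i, i < 14958 → P i := stepQ 14957 Q14957 (allL N14957 (tt N13989 F51674) (tt N10742 (iv D25224)) (tt N10744 F51675) (tt N16743 (iv F56464)) (tt N16418 (iv F55356)) (tt N14959 (iv F51682)) (tt N13544 F51676))
theorem Q14959 : ∀ i, i < 14959 → P i := stepQ 14958 Q14958 (allL N14958 (tt N13269 F51677) (tt N16743 (iv F56462)) (tt N14005 F51678) (tt N10742 (iv D25225)) (tt N18594 D28934) (tt N17489 (iv F58682)) (tt N13531 F51679))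
theorem Q14960 : ∀ i, i < 14960 → P i := stepQ 14959 Q14959 (allL N14959 (tt N10744 (iv D25226)) (tt N13988 (iv F51683)) (tt N13989 F51680) (tt N13259 F51681) (tt N16416 F55350) (tt N14957 F51682) (tt N18595 D28935))
theorem Q14961 : ∀ i, i < 14961 → P i := stepQ 14960 Q14960 (allL N14960 (tt N18595 (iv F62112)) (tt N12737 F51684) (tt N13544 F51685) (tt N12734 F51686) (tt N14813 F51687) (tt N13544 F51688) (tt N10744 (iv D25227)))
theorem Q14962 : ∀ i, i < 14962 → P i := stepQ 14961 Q14961 (allL N14961 (tt N10748 (iv D25228)) (tt N14964 (iv F51699)) (tt N16642 (iv F56112)) (tt N13579 F51689) (tt N16663 (iv F56199)) (tt N13581 F51690) (tt N10840 (iv F51691)))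
theorem Q14963 : ∀ i, i < 14963 → P i := stepQ 14962 Q14962 (allL N14962 (tt N16642 (iv F56111)) (tt N13951 F51692) (tt N10748 (iv D25229)) (tt N13952 (iv F51693)) (tt N16664 (iv F56204)) (tt N15022 (iv F51893)) (tt N18571 (iv F62035)))
theorem Q14964 : ∀ i, i < 14964 → P i := stepQ 14963 Q14963 (allL N14963 (tt N10840 F51694) (tt N10763 F51695) (tt N18571 (iv F62031)) (tt N13578 F51696) (tt N10777 F51697) (tt N10841 F51698) (tt N10748 (iv D25230)))
theorem Q14965 : ∀ i, i < 14965 → P i := stepQ 14964 Q14964 (allL N14964 (tt N10751 (iv D25231)) (tt N14961 F51699) (tt N12428 F51700) (tt N14971 (iv F51734)) (tt N12474 F51701) (tt N13567 F51702) (tt N13707 F51703))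
theorem Q14966 : ∀ i, i < 14966 → P i := stepQ 14965 Q14965 (allL N14965 (tt N17486 (iv F58670)) (tt N18596 D28936) (tt N10755 F51704) (tt N14758 F51705) (tt N13583 F51706) (tt N14756 F51707) (tt N10754 (iv D25232)))
theorem Q14967 : ∀ i, i < 14967 → P i := stepQ 14966 Q14966 (allL N14966 (tt N17867 (iv F59863)) (tt N10757 (iv D25233)) (tt N14936 F51708) (tt N12167 F51709) (tt N17499 (iv F58718)) (tt N17848 (iv F59801)) (tt N18587 (iv F62091)))
theorem Q14968 : ∀ i, i < 14968 → P i := stepQ 14967 Q14967 (allL N14967 (tt N13576 F51710) (tt N10758 (iv D25234)) (tt N14952 F51711) (tt N10761 F51712) (tt N10775 F51713) (tt N10761 F51714) (tt N14951 F51715))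
theorem Q14969 : ∀ i, i < 14969 → P i := stepQ 14968 Q14968 (allL N14968 (tt N14968 F51716) (tt N10759 (iv D25235)) (tt N18596 (iv F62118)) (tt N12163 F51717) (tt N17502 (iv F58732)) (tt N14737 F51718) (tt N18596 (iv F62122)))
theorem Q14970 : ∀ i, i < 14970 → P i := stepQ 14969 Q14969 (allL N14969 (tt N14956 F51724) (tt N10760 (iv D25236)) (tt N13563 (iv F51723)) (tt N11812 F51719) (tt N10772 F51720) (tt N12379 F51721) (tt N13982 F51722))
theorem Q14971 : ∀ i, i < 14971 → P i := stepQ 14970 Q14970 (allL N14970 (tt N10768 F51725) (tt N13563 F51726) (tt N10761 (iv D25237)) (tt N12474 F51730) (tt N10774 F51727) (tt N14952 F51728) (tt N10773 F51729))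
theorem Q14972 : ∀ i, i < 14972 → P i := stepQ 14971 Q14971 (allL N14971 (tt N14952 F51731) (tt N13579 F51732) (tt N13576 F51733) (tt N14964 F51734) (tt N14954 F51735) (tt N10768 (iv D25238)) (tt N13580 F51736))
theorem Q14973 : ∀ i, i < 14973 → P i := stepQ 14972 Q14972 (allL N14972 (tt N16307 (iv F55008)) (tt N10771 F51737) (tt N17054 (iv F57397)) (tt N15774 (iv F53568)) (tt N10770 (iv D25239)) (tt N17854 (iv F59821)) (tt N14004 F51738))
theorem Q14974 : ∀ i, i < 14974 → P i := stepQ 14973 Q14973 (allL N14973 (tt N10777 (iv D25240)) (tt N10837 F51739) (tt N16666 (iv F56214)) (tt N13561 F51740) (tt N10840 F51741) (tt N10838 F51742) (tt N16663 (iv F56201)))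
theorem Q14975 : ∀ i, i < 14975 → P i := stepQ 14974 Q14974 (allL N14974 (tt N14160 F51743) (tt N10780 (iv D25241)) (tt N14159 (iv F51746)) (tt N16304 (iv F55000)) (tt N10788 F51744) (tt N17944 (iv F60158)) (tt N14183 F51745))
theorem Q14976 : ∀ i, i < 14976 → P i := stepQ 14975 Q14975 (allL N14975 (tt N10783 F51747) (tt N18586 (iv F62082)) (tt N13589 F51748) (tt N11963 F51749) (tt N10791 F51750) (tt N11962 F51751) (tt N10780 (iv D25242)))
theorem Q14977 : ∀ i, i < 14977 → P i := stepQ 14976 Q14976 (allL N14976 (tt N17697 (iv F59318)) (tt N10784 F51752) (tt N17553 (iv F58916)) (tt N10792 F51753) (tt N10781 (iv D25243)) (tt N15635 F53248) (tt N17552 (iv F58912)))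
theorem Q14978 : ∀ i, i < 14978 → P i := stepQ 14977 Q14977 (allL N14977 (tt N13510 F51754) (tt N10785 (iv D25244)) (tt N13509 (iv F51759)) (tt N13587 F51755) (tt N10822 F51756) (tt N10817 F51757) (tt N14907 F51758))
theorem Q14979 : ∀ i, i < 14979 → P i := stepQ 14978 Q14978 (allL N14978 (tt N13508 F51760) (tt N13509 F51761) (tt N10788 (iv D25245)) (tt N17451 (iv F58536)) (tt N14159 F51762) (tt N14933 (iv F51763)) (tt N17843 (iv F59782)))
theorem Q14980 : ∀ i, i < 14980 → P i := stepQ 14979 Q14979 (allL N14979 (tt N17434 (iv F58465)) (tt N10789 F51764) (tt N17433 (iv F58464)) (tt N10788 (iv D25246)) (tt N18597 D28937) (tt N18598 D28938) (tt N17477 (iv F58638)))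
theorem Q14981 : ∀ i, i < 14981 → P i := stepQ 14980 Q14980 (allL N14980 (tt N14996 (iv F51811)) (tt N18599 D28939) (tt N14933 F51765) (tt N18598 (iv F62126)) (tt N17944 (iv F60157)) (tt N10788 (iv D25247)) (tt N14930 (iv F51766)))
theorem Q14982 : ∀ i, i < 14982 → P i := stepQ 14981 Q14981 (allL N14981 (tt N17833 (iv F59736)) (tt N13995 F56261) (tt N17843 (iv F59779)) (tt N17477 (iv F58637)) (tt N14183 F51767) (tt N13532 F51768) (tt N10788 (iv D25248)))
theorem Q14983 : ∀ i, i < 14983 → P i := stepQ 14982 Q14982 (allL N14982 (tt N10792 F51769) (tt N18597 (iv F62123)) (tt N18537 (iv F61913)) (tt N17697 (iv F59320)) (tt N10789 (iv D25249)) (tt N17696 F59317) (tt N18536 F61911))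
theorem Q14984 : ∀ i, i < 14984 → P i := stepQ 14983 Q14983 (allL N14983 (tt N10793 F51770) (tt N17449 (iv F58529)) (tt N13471 F51771) (tt N10790 F51772) (tt N17696 (iv F59314)) (tt N10789 (iv D25250)) (tt N14760 F51773))
theorem Q14985 : ∀ i, i < 14985 → P i := stepQ 14984 Q14984 (allL N14984 (tt N17555 (iv F58924)) (tt N10790 (iv D25251)) (tt N14902 F51774) (tt N17449 (iv F58531)) (tt N15004 (iv F51835)) (tt N18599 (iv F62129)) (tt N14984 F51775))
theorem Q14986 : ∀ i, i < 14986 → P i := stepQ 14985 Q14985 (allL N14985 (tt N13998 (iv F56263)) (tt N10791 (iv D25252)) (tt N14918 F51776) (tt N18538 (iv F61918)) (tt N18586 (iv F62085)) (tt N17504 (iv F58740)) (tt N13995 F56262))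
theorem Q14987 : ∀ i, i < 14987 → P i := stepQ 14986 Q14986 (allL N14986 (tt N17696 (iv F59313)) (tt N15634 (iv F53242)) (tt N17903 (iv F59996)) (tt N15635 (iv F53244)) (tt N10793 F51777) (tt N10792 (iv D25253)) (tt N15686 (iv F53377)))
theorem Q14988 : ∀ i, i < 14988 → P i := stepQ 14987 Q14987 (allL N14987 (tt N17431 (iv F58456)) (tt N10795 (iv D25254)) (tt N16000 (iv F54163)) (tt N12462 F51778) (tt N16002 (iv F54173)) (tt N18600 D28940) (tt N14987 F51779))
theorem Q14989 : ∀ i, i < 14989 → P i := stepQ 14988 Q14988 (allL N14988 (tt N10796 F51780) (tt N16002 (iv F54172)) (tt N12560 F51781) (tt N17940 (iv F60141)) (tt N10795 (iv D25255)) (tt N17453 (iv F58542)) (tt N12559 F51782))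
theorem Q14990 : ∀ i, i < 14990 → P i := stepQ 14989 Q14989 (allL N14989 (tt N17940 (iv F60139)) (tt N10798 F51783) (tt N18112 (iv F60594)) (tt N10796 (iv D25256)) (tt N12347 F51784) (tt N14171 F51785) (tt N17937 (iv F60129)))
theorem Q14991 : ∀ i, i < 14991 → P i := stepQ 14990 Q14990 (allL N14990 (tt N12559 F51786) (tt N14945 F51787) (tt N12558 F51788) (tt N17937 (iv F60127)) (tt N10797 F51789) (tt N13436 (iv F51790)) (tt N10796 (iv D25257)))
theorem Q14992 : ∀ i, i < 14992 → P i := stepQ 14991 Q14991 (allL N14991 (tt N10799 (iv D25258)) (tt N14323 (iv F51793)) (tt N16597 (iv F55948)) (tt N14322 F51791) (tt N10800 F51792) (tt N16596 F55945) (tt N16829 (iv F56744)))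
theorem Q14993 : ∀ i, i < 14993 → P i := stepQ 14992 Q14992 (allL N14992 (tt N16597 (iv F55946)) (tt N14944 F51794) (tt N10799 (iv D25259)) (tt N12329 (iv F51797)) (tt N10801 F51795) (tt N13987 (iv F51798)) (tt N12327 F51796))
theorem Q14994 : ∀ i, i < 14994 → P i := stepQ 14993 Q14993 (allL N14993 (tt N16596 (iv F55942)) (tt N14942 F51799) (tt N13987 F51800) (tt N16625 (iv F56050)) (tt N10802 F51801) (tt N10799 (iv D25260)) (tt N16594 (iv F55938)))
theorem Q14995 : ∀ i, i < 14995 → P i := stepQ 14994 Q14994 (allL N14994 (tt N10802 F51802) (tt N18601 D28941) (tt N12397 F51803) (tt N10803 F51804) (tt N16596 (iv F55944)) (tt N10800 (iv D25261)) (tt N12396 F51805))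
theorem Q14996 : ∀ i, i < 14996 → P i := stepQ 14995 Q14995 (allL N14995 (tt N14995 F51806) (tt N10803 (iv D25262)) (tt N16851 (iv F56805)) (tt N18601 (iv F62133)) (tt N16623 (iv F56044)) (tt N16851 (iv F56807)) (tt N17498 (iv F58717)))
theorem Q14997 : ∀ i, i < 14997 → P i := stepQ 14996 Q14996 (allL N14996 (tt N14980 F51811) (tt N10804 (iv D25263)) (tt N14948 F51807) (tt N16748 (iv F56483)) (tt N14184 F51808) (tt N13992 F51809) (tt N13532 F51810))
theorem Q14998 : ∀ i, i < 14998 → P i := stepQ 14997 Q14997 (allL N14997 (tt N18593 (iv F62104)) (tt N10805 (iv D25264)) (tt N18602 D28942) (tt N16185 (iv F54588)) (tt N10809 F51812) (tt N18593 (iv F62108)) (tt N13667 F51813))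
theorem Q14999 : ∀ i, i < 14999 → P i := stepQ 14998 Q14998 (allL N14998 (tt N14901 F51814) (tt N15012 (iv F51858)) (tt N11852 F51815) (tt N10807 F51816) (tt N11850 F51817) (tt N10806 (iv D25265)) (tt N11848 F51818))
theorem Q15000 : ∀ i, i < 15000 → P i := stepQ 14999 Q14999 (allL N14999 (tt N16449 (iv F55475)) (tt N10808 (iv D25266)) (tt N16441 (iv F55443)) (tt N10809 F51819) (tt N16236 (iv F54755)) (tt N16449 (iv F55477)) (tt N13665 F51820))
theorem Q15001 : ∀ i, i < 15001 → P i := stepQ 15000 Q15000 (allL N15000 (tt N10809 (iv D25267)) (tt N15005 (iv F51839)) (tt N18603 D28943) (tt N16449 F55479) (tt N18593 (iv F62107)) (tt N10809 F51822) (tt N10835 F51821))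
theorem Q15002 : ∀ i, i < 15002 → P i := stepQ 15001 Q15001 (allL N15001 (tt N18603 (iv F62140)) (tt N10821 F51823) (tt N10809 (iv D25268)) (tt N18604 D28944) (tt N18602 (iv F62137)) (tt N18603 (iv F62142)) (tt N13669 F51824))
theorem Q15003 : ∀ i, i < 15003 → P i := stepQ 15002 Q15002 (allL N15002 (tt N13388 F51825) (tt N15015 (iv F51868)) (tt N11730 F51826) (tt N11850 F51827) (tt N10813 F51828) (tt N10811 (iv D25269)) (tt N11728 F51829))
theorem Q15004 : ∀ i, i < 15004 → P i := stepQ 15003 Q15003 (allL N15003 (tt N13666 (iv F51832)) (tt N10812 (iv D25270)) (tt N16286 (iv F54926)) (tt N10814 F51830) (tt N16197 (iv F54633)) (tt N16296 (iv F54970)) (tt N15003 F51831))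
theorem Q15005 : ∀ i, i < 15005 → P i := stepQ 15004 Q15004 (allL N15004 (tt N13670 F51833) (tt N10824 F51834) (tt N10814 (iv D25271)) (tt N14079 F51837) (tt N14984 F51835) (tt N18605 D28945) (tt N15004 F51836))
theorem Q15006 : ∀ i, i < 15006 → P i := stepQ 15005 Q15005 (allL N15005 (tt N10830 F51838) (tt N15000 F51839) (tt N18605 (iv F62153)) (tt N16296 F54972) (tt N18582 (iv F62065)) (tt N10814 (iv D25272)) (tt N10830 F51840))
theorem Q15007 : ∀ i, i < 15007 → P i := stepQ 15006 Q15006 (allL N15006 (tt N13513 F51841) (tt N18602 (iv F62136)) (tt N10817 (iv D25273)) (tt N18606 D28946) (tt N10821 F51842) (tt N13509 F51843) (tt N16648 (iv F56147)))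
theorem Q15008 : ∀ i, i < 15008 → P i := stepQ 15007 Q15007 (allL N15007 (tt N18557 (iv F61983)) (tt N13678 F51844) (tt N10819 (iv D25274)) (tt N17558 (iv F58937)) (tt N16648 (iv F56146)) (tt N16637 (iv F56088)) (tt N10821 F51845))
theorem Q15009 : ∀ i, i < 15009 → P i := stepQ 15008 Q15008 (allL N15008 (tt N10821 F51846) (tt N13558 F51847) (tt N10820 (iv D25275)) (tt N17926 (iv F60087)) (tt N13513 F51848) (tt N13512 F51849) (tt N18557 (iv F61988)))
theorem Q15010 : ∀ i, i < 15010 → P i := stepQ 15009 Q15009 (allL N15009 (tt N17926 (iv F60085)) (tt N18604 (iv F62147)) (tt N17844 F59787) (tt N10821 (iv D25276)) (tt N18607 D28947) (tt N17844 F59786) (tt N17558 F58938))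
theorem Q15011 : ∀ i, i < 15011 → P i := stepQ 15010 Q15010 (allL N15010 (tt N13512 F51850) (tt N14159 F51853) (tt N10822 F51851) (tt N17844 (iv F59784)) (tt N13509 F51852) (tt N10821 (iv D25277)) (tt N14915 (iv F51854)))
theorem Q15012 : ∀ i, i < 15012 → P i := stepQ 15011 Q15011 (allL N15011 (tt N18582 (iv F62064)) (tt N10826 (iv D25278)) (tt N18608 D28948) (tt N16183 (iv F54579)) (tt N10830 F51855) (tt N13668 F51856) (tt N18582 (iv F62066)))
theorem Q15013 : ∀ i, i < 15013 → P i := stepQ 15012 Q15012 (allL N15012 (tt N14949 F51857) (tt N14998 F51858) (tt N12067 F51859) (tt N10828 F51860) (tt N12064 F51861) (tt N12062 F51862) (tt N10827 (iv D25279)))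
theorem Q15014 : ∀ i, i < 15014 → P i := stepQ 15013 Q15013 (allL N15013 (tt N16296 (iv F54969)) (tt N10829 (iv D25280)) (tt N16287 (iv F54934)) (tt N10830 F51863) (tt N16206 (iv F54666)) (tt N13666 F51864) (tt N16296 (iv F54971)))
theorem Q15015 : ∀ i, i < 15015 → P i := stepQ 15014 Q15014 (allL N15014 (tt N18605 (iv F62151)) (tt N10842 F51865) (tt N10830 (iv D25281)) (tt N18609 D28949) (tt N18608 (iv F62162)) (tt N13670 F51866) (tt N18605 (iv F62156)))
theorem Q15016 : ∀ i, i < 15016 → P i := stepQ 15015 Q15015 (allL N15015 (tt N13440 F51867) (tt N15002 F51868) (tt N11772 F51869) (tt N12064 F51870) (tt N10833 F51871) (tt N11771 F51872) (tt N10832 (iv D25282)))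
theorem Q15017 : ∀ i, i < 15017 → P i := stepQ 15016 Q15016 (allL N15016 (tt N13665 F51873) (tt N10834 (iv D25283)) (tt N16440 (iv F55436)) (tt N10835 F51874) (tt N16202 (iv F54649)) (tt N15016 F51875) (tt N16449 (iv F55478)))
theorem Q15018 : ∀ i, i < 15018 → P i := stepQ 15017 Q15017 (allL N15017 (tt N13669 F51876) (tt N10845 F51877) (tt N10835 (iv D25284)) (tt N14130 F51880) (tt N14937 F51878) (tt N15017 F51879) (tt N18603 (iv F62143)))
theorem Q15019 : ∀ i, i < 15019 → P i := stepQ 15018 Q15018 (allL N15018 (tt N13537 F51881) (tt N18608 (iv F62161)) (tt N10838 (iv D25285)) (tt N18610 D28950) (tt N10842 F51882) (tt N16666 (iv F56216)) (tt N13533 F51883))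
theorem Q15020 : ∀ i, i < 15020 → P i := stepQ 15019 Q15019 (allL N15019 (tt N18571 (iv F62030)) (tt N13687 F51884) (tt N10840 (iv D25286)) (tt N17559 (iv F58940)) (tt N16666 (iv F56215)) (tt N10842 F51885) (tt N16642 (iv F56115)))
theorem Q15021 : ∀ i, i < 15021 → P i := stepQ 15020 Q15020 (allL N15020 (tt N10842 F51886) (tt N13584 F51887) (tt N10841 (iv D25287)) (tt N17929 (iv F60099)) (tt N13537 F51888) (tt N18571 (iv F62034)) (tt N13536 F51889))
theorem Q15022 : ∀ i, i < 15022 → P i := stepQ 15021 Q15021 (allL N15021 (tt N17929 (iv F60097)) (tt N18609 (iv F62166)) (tt N17834 F59746) (tt N10842 (iv D25288)) (tt N18611 D28951) (tt N17559 F58941) (tt N17834 (iv F59745)))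
theorem Q15023 : ∀ i, i < 15023 → P i := stepQ 15022 Q15022 (allL N15022 (tt N13536 F51890) (tt N14180 (iv F51894)) (tt N10843 F51891) (tt N17834 (iv F59743)) (tt N13533 F51892) (tt N14962 F51893) (tt N10842 (iv D25289)))
theorem Q15024 : ∀ i, i < 15024 → P i := stepQ 15023 Q15023 (allL N15023 (tt N10848 F51895) (tt N14290 F51896) (tt N15531 (iv F52967)) (tt N10847 (iv D25290)) (tt N16908 (iv F56997)) (tt N15531 (iv F52968)) (tt N18309 (iv F61168)))
theorem Q15025 : ∀ i, i < 15025 → P i := stepQ 15024 Q15024 (allL N15024 (tt N16908 (iv F56995)) (tt N12962 F51897) (tt N17952 (iv F60193)) (tt N11682 F51898) (tt N10848 (iv D25291)) (tt N17952 (iv F60195)) (tt N18612 D28952))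
theorem Q15026 : ∀ i, i < 15026 → P i := stepQ 15025 Q15025 (allL N15025 (tt N18309 (iv F61164)) (tt N18613 D28953) (tt N17953 (iv F60197)) (tt N10849 F51899) (tt N18612 (iv F62174)) (tt N15827 (iv F53706)) (tt N10848 (iv D25292)))
theorem Q15027 : ∀ i, i < 15027 → P i := stepQ 15026 Q15026 (allL N15026 (tt N11588 (iv F51903)) (tt N10849 (iv D25293)) (tt N11640 F51900) (tt N18613 (iv F62177)) (tt N11684 F51901) (tt N11366 F51902) (tt N16034 (iv F54243)))
theorem Q15028 : ∀ i, i < 15028 → P i := stepQ 15027 Q15027 (allL N15027 (tt N10851 F51904) (tt N14346 F51905) (tt N15775 (iv F53574)) (tt N10850 (iv D25294)) (tt N16910 (iv F57003)) (tt N18252 (iv F61006)) (tt N15775 (iv F53576)))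
theorem Q15029 : ∀ i, i < 15029 → P i := stepQ 15028 Q15028 (allL N15028 (tt N16910 (iv F57001)) (tt N13039 F51906) (tt N17954 (iv F60201)) (tt N11685 F51907) (tt N10851 (iv D25295)) (tt N18614 D28954) (tt N17954 (iv F60203)))
theorem Q15030 : ∀ i, i < 15030 → P i := stepQ 15029 Q15029 (allL N15029 (tt N18252 (iv F61003)) (tt N18615 D28955) (tt N17955 (iv F60205)) (tt N10852 F51908) (tt N18614 (iv F62182)) (tt N10851 (iv D25296)) (tt N15587 (iv F53101)))
theorem Q15031 : ∀ i, i < 15031 → P i := stepQ 15030 Q15030 (allL N15030 (tt N11641 (iv F51912)) (tt N10852 (iv D25297)) (tt N11589 F51909) (tt N18615 (iv F62185)) (tt N11687 F51910) (tt N16108 (iv F54411)) (tt N11525 F51911))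
theorem Q15032 : ∀ i, i < 15032 → P i := stepQ 15031 Q15031 (allL N15031 (tt N17022 (iv F57320)) (tt N10887 F51913) (tt N18100 (iv F60573)) (tt N10861 (iv D25298)) (tt N17018 (iv F57310)) (tt N18535 (iv F61906)) (tt N17016 F57302))
theorem Q15033 : ∀ i, i < 15033 → P i := stepQ 15032 Q15032 (allL N15032 (tt N17113 (iv F57563)) (tt N10894 F51914) (tt N18154 (iv F60735)) (tt N10866 (iv D25299)) (tt N17108 (iv F57548)) (tt N17107 F57544) (tt N18539 (iv F61925)))
theorem Q15034 : ∀ i, i < 15034 → P i := stepQ 15033 Q15033 (allL N15033 (tt N14246 F51915) (tt N18001 (iv F60322)) (tt N10867 (iv D25300)) (tt N18616 D28956) (tt N13719 F51916) (tt N13772 F51917) (tt N18025 (iv F60374)))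
theorem Q15035 : ∀ i, i < 15035 → P i := stepQ 15034 Q15034 (allL N15034 (tt N14233 F56274) (tt N10868 (iv D25301)) (tt N18001 (iv F60323)) (tt N18617 D28957) (tt N14233 F51918) (tt N17560 (iv F58943)) (tt N18618 D28958))
theorem Q15036 : ∀ i, i < 15036 → P i := stepQ 15035 Q15035 (allL N15035 (tt N10869 F51919) (tt N18617 (iv F62192)) (tt N14298 F51921) (tt N10868 (iv D25302)) (tt N14297 (iv F51922)) (tt N10924 F51920) (tt N15094 (iv F52047)))
theorem Q15037 : ∀ i, i < 15037 → P i := stepQ 15036 Q15036 (allL N15036 (tt N14298 F51923) (tt N18619 D28959) (tt N10869 (iv D25303)) (tt N14705 F51924) (tt N14295 (iv F51926)) (tt N10927 F51925) (tt N18620 D28960))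
theorem Q15038 : ∀ i, i < 15038 → P i := stepQ 15037 Q15037 (allL N15037 (tt N14297 F51927) (tt N16893 (iv F56952)) (tt N14295 F51928) (tt N17956 (iv F60209)) (tt N10869 (iv D25304)) (tt N10928 F51929) (tt N18621 D28961))
theorem Q15039 : ∀ i, i < 15039 → P i := stepQ 15038 Q15038 (allL N15038 (tt N15094 (iv F52045)) (tt N18622 D28962) (tt N18620 (iv F62204)) (tt N10870 F51930) (tt N18621 (iv F62210)) (tt N15089 (iv F52040)) (tt N10869 (iv D25305)))
theorem Q15040 : ∀ i, i < 15040 → P i := stepQ 15039 Q15039 (allL N15039 (tt N18623 D28963) (tt N10870 (iv D25306)) (tt N18624 D28964) (tt N18622 (iv F62211)) (tt N17958 (iv F60213)) (tt N18625 D28965) (tt N16895 (iv F56956)))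
theorem Q15041 : ∀ i, i < 15041 → P i := stepQ 15040 Q15040 (allL N15040 (tt N18055 (iv F60454)) (tt N18624 (iv F62212)) (tt N10871 (iv D25307)) (tt N18626 D28966) (tt N17959 (iv F60215)) (tt N15495 (iv F52885)) (tt N10873 F51931))
theorem Q15042 : ∀ i, i < 15042 → P i := stepQ 15041 Q15041 (allL N15041 (tt N10873 F51932) (tt N18627 D28967) (tt N10872 (iv D25308)) (tt N18628 D28968) (tt N15366 (iv F52654)) (tt N11230 F51933) (tt N18055 (iv F60456)))
theorem Q15043 : ∀ i, i < 15043 → P i := stepQ 15042 Q15042 (allL N15042 (tt N18628 (iv F62218)) (tt N12888 F51934) (tt N15107 (iv F52063)) (tt N10873 (iv D25309)) (tt N15383 (iv F52673)) (tt N18629 D28969) (tt N18626 (iv F62216)))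
theorem Q15044 : ∀ i, i < 15044 → P i := stepQ 15043 Q15043 (allL N15043 (tt N11230 F51935) (tt N11115 (iv F51937)) (tt N10874 F51936) (tt N18629 (iv F62223)) (tt N15363 (iv F52649)) (tt N10873 (iv D25310)) (tt N18630 D28970))
theorem Q15045 : ∀ i, i < 15045 → P i := stepQ 15044 Q15044 (allL N15044 (tt N11222 F51938) (tt N11103 F51939) (tt N18630 (iv F62226)) (tt N10889 F51940) (tt N15190 (iv F52262)) (tt N14272 F51941) (tt N10874 (iv D25311)))
theorem Q15046 : ∀ i, i < 15046 → P i := stepQ 15045 Q15045 (allL N15045 (tt N14267 F51942) (tt N18006 (iv F60331)) (tt N10875 (iv D25312)) (tt N18631 D28971) (tt N13720 F51943) (tt N18053 (iv F60449)) (tt N13780 F51944))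
theorem Q15047 : ∀ i, i < 15047 → P i := stepQ 15046 Q15046 (allL N15046 (tt N14235 (iv F56973)) (tt N10876 (iv D25313)) (tt N18006 (iv F60332)) (tt N18632 D28972) (tt N14235 F51945) (tt N18633 D28973) (tt N17561 (iv F58945)))
theorem Q15048 : ∀ i, i < 15048 → P i := stepQ 15047 Q15047 (allL N15047 (tt N10877 F51946) (tt N18632 (iv F62231)) (tt N14353 F51948) (tt N10876 (iv D25314)) (tt N14352 (iv F51949)) (tt N15104 (iv F52062)) (tt N10934 F51947))
theorem Q15049 : ∀ i, i < 15049 → P i := stepQ 15048 Q15048 (allL N15048 (tt N14353 F51950) (tt N18634 D28974) (tt N10877 (iv D25315)) (tt N14724 F51951) (tt N14350 (iv F51953)) (tt N18635 D28975) (tt N10937 F51952))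
theorem Q15050 : ∀ i, i < 15050 → P i := stepQ 15049 Q15049 (allL N15049 (tt N14352 F51954) (tt N16904 (iv F56987)) (tt N14350 F51955) (tt N17961 (iv F60220)) (tt N10877 (iv D25316)) (tt N18636 D28976) (tt N10938 F51956))
theorem Q15051 : ∀ i, i < 15051 → P i := stepQ 15050 Q15050 (allL N15050 (tt N15104 (iv F52060)) (tt N18637 D28977) (tt N18635 (iv F62243)) (tt N10878 F51957) (tt N18636 (iv F62249)) (tt N10877 (iv D25317)) (tt N15099 (iv F52055)))
theorem Q15052 : ∀ i, i < 15052 → P i := stepQ 15051 Q15051 (allL N15051 (tt N18638 D28978) (tt N10878 (iv D25318)) (tt N18639 D28979) (tt N18637 (iv F62250)) (tt N17963 (iv F60224)) (tt N16906 (iv F56991)) (tt N18640 D28980))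
theorem Q15053 : ∀ i, i < 15053 → P i := stepQ 15052 Q15052 (allL N15052 (tt N18026 (iv F60375)) (tt N18639 (iv F62251)) (tt N10879 (iv D25319)) (tt N18641 D28981) (tt N17964 (iv F60226)) (tt N10881 F51958) (tt N15391 (iv F52685)))
theorem Q15054 : ∀ i, i < 15054 → P i := stepQ 15053 Q15053 (allL N15053 (tt N10881 F51959) (tt N18642 D28982) (tt N10880 (iv D25320)) (tt N18643 D28983) (tt N15471 (iv F52841)) (tt N18026 (iv F60377)) (tt N11161 F51960))
theorem Q15055 : ∀ i, i < 15055 → P i := stepQ 15054 Q15054 (allL N15054 (tt N18643 (iv F62257)) (tt N12876 F51961) (tt N15097 (iv F52048)) (tt N10881 (iv D25321)) (tt N15487 (iv F52873)) (tt N18641 (iv F62255)) (tt N18644 D28984))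
theorem Q15056 : ∀ i, i < 15056 → P i := stepQ 15055 Q15055 (allL N15055 (tt N11161 F51962) (tt N11185 (iv F51964)) (tt N10882 F51963) (tt N18644 (iv F62262)) (tt N15467 (iv F52833)) (tt N18645 D28985) (tt N10881 (iv D25322)))
theorem Q15057 : ∀ i, i < 15057 → P i := stepQ 15056 Q15056 (allL N15056 (tt N11152 F51965) (tt N11173 F51966) (tt N18645 (iv F62265)) (tt N10896 F51967) (tt N15156 (iv F52206)) (tt N10882 (iv D25323)) (tt N14252 F51968))
theorem Q15058 : ∀ i, i < 15058 → P i := stepQ 15057 Q15057 (allL N15057 (tt N18168 (iv F60765)) (tt N15533 F52976) (tt N18065 (iv F60481)) (tt N10885 (iv D25324)) (tt N17187 (iv F57750)) (tt N15937 (iv F54042)) (tt N10887 F51969))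
theorem Q15059 : ∀ i, i < 15059 → P i := stepQ 15058 Q15058 (allL N15058 (tt N10887 F51970) (tt N18282 F61079) (tt N18646 D28986) (tt N10886 (iv D25325)) (tt N18647 D28987) (tt N11543 F51971) (tt N18168 (iv F60768)))
theorem Q15060 : ∀ i, i < 15060 → P i := stepQ 15059 Q15059 (allL N15059 (tt N18646 (iv F62267)) (tt N18648 D28988) (tt N10887 (iv D25326)) (tt N18067 (iv F60485)) (tt N18649 D28989) (tt N18650 D28990) (tt N18065 F60482))
theorem Q15061 : ∀ i, i < 15061 → P i := stepQ 15060 Q15060 (allL N15060 (tt N18647 (iv F62271)) (tt N17018 F57311) (tt N18649 (iv F62276)) (tt N11701 F51972) (tt N10887 (iv D25327)) (tt N18651 D28991) (tt N17187 (iv F57751)))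
theorem Q15062 : ∀ i, i < 15062 → P i := stepQ 15061 Q15061 (allL N15061 (tt N11543 F51973) (tt N16031 F54231) (tt N18650 (iv F62278)) (tt N10888 F51974) (tt N18651 (iv F62281)) (tt N10887 (iv D25328)) (tt N16043 (iv F54263)))
theorem Q15063 : ∀ i, i < 15063 → P i := stepQ 15062 Q15062 (allL N15062 (tt N18114 (iv F60603)) (tt N15777 F53584) (tt N18036 (iv F60402)) (tt N10892 (iv D25329)) (tt N17263 (iv F57926)) (tt N10894 F51975) (tt N15711 (iv F53453)))
theorem Q15064 : ∀ i, i < 15064 → P i := stepQ 15063 Q15063 (allL N15063 (tt N10894 F51976) (tt N18339 F61260) (tt N18652 D28992) (tt N10893 (iv D25330)) (tt N18653 D28993) (tt N18114 (iv F60605)) (tt N11384 F51977))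
theorem Q15065 : ∀ i, i < 15065 → P i := stepQ 15064 Q15064 (allL N15064 (tt N18652 (iv F62282)) (tt N18654 D28994) (tt N10894 (iv D25331)) (tt N18037 (iv F60405)) (tt N18655 D28995) (tt N18036 F60403) (tt N18656 D28996))
theorem Q15066 : ∀ i, i < 15066 → P i := stepQ 15065 Q15065 (allL N15065 (tt N18653 (iv F62286)) (tt N17108 F57549) (tt N18655 (iv F62291)) (tt N11707 F51978) (tt N10894 (iv D25332)) (tt N17263 (iv F57927)) (tt N18657 D28997))
theorem Q15067 : ∀ i, i < 15067 → P i := stepQ 15066 Q15066 (allL N15066 (tt N11384 F51979) (tt N16106 F54406) (tt N18656 (iv F62293)) (tt N10895 F51980) (tt N18657 (iv F62296)) (tt N16118 (iv F54438)) (tt N10894 (iv D25333)))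
theorem Q15068 : ∀ i, i < 15068 → P i := stepQ 15067 Q15067 (allL N15067 (tt N15067 F51981) (tt N15067 F51982) (tt N10897 (iv D25334)) (tt N15067 F51986) (tt N15067 F51983) (tt N15067 F51984) (tt N15067 F51985))
theorem Q15069 : ∀ i, i < 15069 → P i := stepQ 15068 Q15068 (allL N15068 (tt N18658 D28998) (tt N10901 (iv D25335)) (tt N18659 D28999) (tt N10905 F51987) (tt N15068 F51988) (tt N15068 F51989) (tt N15132 (iv F52144)))
theorem Q15070 : ∀ i, i < 15070 → P i := stepQ 15069 Q15069 (allL N15069 (tt N18660 D29000) (tt N10903 (iv D25336)) (tt N18661 D29001) (tt N10907 F51990) (tt N15069 F51991) (tt N15133 (iv F52147)) (tt N15069 F51992))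
theorem Q15071 : ∀ i, i < 15071 → P i := stepQ 15070 Q15070 (allL N15070 (tt N15134 (iv F52148)) (tt N16873 (iv F56893)) (tt N10916 F51994) (tt N10904 (iv D25337)) (tt N18081 (iv F60523)) (tt N10916 F51993) (tt N15138 (iv F52159)))
theorem Q15072 : ∀ i, i < 15072 → P i := stepQ 15071 Q15071 (allL N15071 (tt N10905 (iv D25338)) (tt N10919 F52155) (tt N18662 D29002) (tt N18658 (iv F62297)) (tt N17967 (iv F60234)) (tt N15071 F51995) (tt N15135 (iv F52153)))
theorem Q15073 : ∀ i, i < 15073 → P i := stepQ 15072 Q15072 (allL N15072 (tt N18662 (iv F62311)) (tt N16877 (iv F56903)) (tt N10905 (iv D25339)) (tt N18663 D29003) (tt N17968 (iv F60237)) (tt N15072 F51996) (tt N15136 (iv F52157)))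
theorem Q15074 : ∀ i, i < 15074 → P i := stepQ 15073 Q15073 (allL N15073 (tt N15141 (iv F52166)) (tt N16880 (iv F56913)) (tt N10920 F51998) (tt N10906 (iv D25340)) (tt N18135 (iv F60685)) (tt N15145 (iv F52176)) (tt N10920 F51997))
theorem Q15075 : ∀ i, i < 15075 → P i := stepQ 15074 Q15074 (allL N15074 (tt N10907 (iv D25341)) (tt N10915 F52156) (tt N18664 D29004) (tt N18660 (iv F62305)) (tt N17970 (iv F60244)) (tt N15142 (iv F52172)) (tt N15074 F51999))
theorem Q15076 : ∀ i, i < 15076 → P i := stepQ 15075 Q15075 (allL N15075 (tt N18664 (iv F62314)) (tt N16884 (iv F56923)) (tt N10907 (iv D25342)) (tt N18665 D29005) (tt N17971 (iv F60246)) (tt N15143 (iv F52174)) (tt N15075 F52000))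
theorem Q15077 : ∀ i, i < 15077 → P i := stepQ 15076 Q15076 (allL N15076 (tt N10910 F52001) (tt N18660 (iv F62304)) (tt N10966 F52002) (tt N10915 F52003) (tt N15076 F52004) (tt N10966 F52005) (tt N10908 (iv D25343)))
theorem Q15078 : ∀ i, i < 15078 → P i := stepQ 15077 Q15077 (allL N15077 (tt N10913 F52006) (tt N18658 F62300) (tt N10967 F52007) (tt N10919 F52008) (tt N15077 F52009) (tt N10911 (iv D25344)) (tt N10967 F52010))
theorem Q15079 : ∀ i, i < 15079 → P i := stepQ 15078 Q15078 (allL N15078 (tt N10916 F52011) (tt N14441 F52012) (tt N15134 (iv F52150)) (tt N10914 (iv D25345)) (tt N18666 D29006) (tt N15134 (iv F52151)) (tt N15139 (iv F52164)))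
theorem Q15080 : ∀ i, i < 15080 → P i := stepQ 15079 Q15079 (allL N15079 (tt N10917 F52013) (tt N18667 D29007) (tt N10915 F52014) (tt N15139 (iv F52162)) (tt N17973 (iv F60253)) (tt N10971 F52015) (tt N10914 (iv D25346)))
theorem Q15081 : ∀ i, i < 15081 → P i := stepQ 15080 Q15080 (allL N15080 (tt N18666 (iv F62317)) (tt N10928 F52017) (tt N18081 (iv F60522)) (tt N17975 (iv F60256)) (tt N10916 (iv D25348)) (tt N18081 (iv F60524)) (tt N18668 D29008))
theorem Q15082 : ∀ i, i < 15082 → P i := stepQ 15081 Q15081 (allL N15081 (tt N15139 (iv F52161)) (tt N18669 D29009) (tt N15138 (iv F52160)) (tt N10917 F52018) (tt N18668 (iv F62319)) (tt N10972 (iv F52019)) (tt N10916 (iv D25349)))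
theorem Q15083 : ∀ i, i < 15083 → P i := stepQ 15082 Q15082 (allL N15082 (tt N18670 D29010) (tt N10917 (iv D25350)) (tt N15087 (iv F52031)) (tt N18669 (iv F62321)) (tt N17977 (iv F60259)) (tt N10999 F52020) (tt N10930 F52021))
theorem Q15084 : ∀ i, i < 15084 → P i := stepQ 15083 Q15083 (allL N15083 (tt N10920 F52022) (tt N14490 F52023) (tt N15141 (iv F52168)) (tt N10918 (iv D25351)) (tt N18671 D29011) (tt N15146 (iv F52180)) (tt N15141 (iv F52170)))
theorem Q15085 : ∀ i, i < 15085 → P i := stepQ 15084 Q15084 (allL N15084 (tt N10921 F52024) (tt N18672 D29012) (tt N10919 F52025) (tt N15146 (iv F52179)) (tt N17979 (iv F60267)) (tt N10918 (iv D25352)) (tt N10976 F52026))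
theorem Q15086 : ∀ i, i < 15086 → P i := stepQ 15085 Q15085 (allL N15085 (tt N18671 (iv F62326)) (tt N10938 F52028) (tt N18135 (iv F60684)) (tt N17981 (iv F60270)) (tt N10920 (iv D25354)) (tt N18673 D29013) (tt N18135 (iv F60686)))
theorem Q15087 : ∀ i, i < 15087 → P i := stepQ 15086 Q15086 (allL N15086 (tt N15146 (iv F52178)) (tt N18674 D29014) (tt N15145 (iv F52177)) (tt N10921 F52029) (tt N18673 (iv F62328)) (tt N10920 (iv D25355)) (tt N10977 (iv F52030)))
theorem Q15088 : ∀ i, i < 15088 → P i := stepQ 15087 Q15087 (allL N15087 (tt N18675 D29015) (tt N10921 (iv D25356)) (tt N15082 F52031) (tt N18674 (iv F62330)) (tt N17983 (iv F60274)) (tt N10940 F52032) (tt N11023 F52033))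
theorem Q15089 : ∀ i, i < 15089 → P i := stepQ 15088 Q15088 (allL N15088 (tt N10928 F52034) (tt N13790 F52035) (tt N14299 F52036) (tt N17984 (iv F60279)) (tt N10924 (iv D25357)) (tt N14297 F52037) (tt N18676 D29016))
theorem Q15090 : ∀ i, i < 15090 → P i := stepQ 15089 Q15089 (allL N15089 (tt N10929 F52038) (tt N18677 D29017) (tt N15112 (iv F52080)) (tt N10925 F52039) (tt N18676 (iv F62338)) (tt N15038 F52040) (tt N10924 (iv D25358)))
theorem Q15091 : ∀ i, i < 15091 → P i := stepQ 15090 Q15090 (allL N15090 (tt N18678 D29018) (tt N10925 (iv D25359)) (tt N12936 F52041) (tt N18677 (iv F62340)) (tt N17003 (iv F57255)) (tt N18679 D29019) (tt N16732 (iv F56429)))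
theorem Q15092 : ∀ i, i < 15092 → P i := stepQ 15091 Q15091 (allL N15091 (tt N15112 (iv F52079)) (tt N18680 D29020) (tt N10929 F52042) (tt N15108 (iv F52066)) (tt N18079 (iv F60516)) (tt N18091 (iv F60553)) (tt N10927 (iv D25360)))
theorem Q15093 : ∀ i, i < 15093 → P i := stepQ 15092 Q15092 (allL N15092 (tt N18676 (iv F62336)) (tt N18681 D29021) (tt N18079 (iv F60514)) (tt N17986 (iv F60283)) (tt N10929 F52043) (tt N18090 (iv F60549)) (tt N10928 (iv D25361)))
theorem Q15094 : ∀ i, i < 15094 → P i := stepQ 15093 Q15093 (allL N15093 (tt N18682 D29022) (tt N10929 (iv D25362)) (tt N18683 D29023) (tt N10930 F52044) (tt N18681 (iv F62345)) (tt N18684 D29024) (tt N18669 (iv F62323)))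
theorem Q15095 : ∀ i, i < 15095 → P i := stepQ 15094 Q15094 (allL N15094 (tt N15038 F52045) (tt N18652 (iv F62283)) (tt N18091 (iv F60550)) (tt N10931 F52046) (tt N18090 (iv F60548)) (tt N10929 (iv D25363)) (tt N15035 F52047))
theorem Q15096 : ∀ i, i < 15096 → P i := stepQ 15095 Q15095 (allL N15095 (tt N10930 (iv D25364)) (tt N18685 D29025) (tt N15212 (iv F52287)) (tt N18682 (iv F62346)) (tt N17989 (iv F60290)) (tt N15179 F52235) (tt N18670 (iv F62325)))
theorem Q15097 : ∀ i, i < 15097 → P i := stepQ 15096 Q15096 (allL N15096 (tt N15179 (iv F52233)) (tt N18035 F60400) (tt N15213 (iv F52290)) (tt N18684 (iv F62347)) (tt N17990 (iv F60291)) (tt N10930 (iv D25365)) (tt N15178 F52232))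
theorem Q15098 : ∀ i, i < 15098 → P i := stepQ 15097 Q15097 (allL N15097 (tt N18037 (iv F60404)) (tt N10931 (iv D25366)) (tt N15054 F52048) (tt N18652 (iv F62284)) (tt N17991 (iv F60293)) (tt N18035 (iv F60399)) (tt N18686 D29026))
theorem Q15099 : ∀ i, i < 15099 → P i := stepQ 15098 Q15098 (allL N15098 (tt N10938 F52049) (tt N13840 F52050) (tt N14355 F52051) (tt N17992 (iv F60305)) (tt N10934 (iv D25367)) (tt N18687 D29027) (tt N14352 F52052))
theorem Q15100 : ∀ i, i < 15100 → P i := stepQ 15099 Q15099 (allL N15099 (tt N10939 F52053) (tt N18688 D29028) (tt N15124 (iv F52119)) (tt N10935 F52054) (tt N18687 (iv F62354)) (tt N10934 (iv D25368)) (tt N15050 F52055))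
theorem Q15101 : ∀ i, i < 15101 → P i := stepQ 15100 Q15100 (allL N15100 (tt N18689 D29029) (tt N10935 (iv D25369)) (tt N12952 F52056) (tt N18688 (iv F62356)) (tt N16978 (iv F57181)) (tt N16728 (iv F56418)) (tt N18690 D29030))
theorem Q15102 : ∀ i, i < 15102 → P i := stepQ 15101 Q15101 (allL N15101 (tt N15124 (iv F52118)) (tt N18691 D29031) (tt N10939 F52057) (tt N15120 (iv F52105)) (tt N18133 (iv F60678)) (tt N10937 (iv D25370)) (tt N18145 (iv F60715)))
theorem Q15103 : ∀ i, i < 15103 → P i := stepQ 15102 Q15102 (allL N15102 (tt N18687 (iv F62352)) (tt N18692 D29032) (tt N18133 (iv F60676)) (tt N17994 (iv F60309)) (tt N10939 F52058) (tt N10938 (iv D25371)) (tt N18144 (iv F60711)))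
theorem Q15104 : ∀ i, i < 15104 → P i := stepQ 15103 Q15103 (allL N15103 (tt N18693 D29033) (tt N10939 (iv D25372)) (tt N18694 D29034) (tt N10940 F52059) (tt N18692 (iv F62361)) (tt N18674 (iv F62331)) (tt N18695 D29035))
theorem Q15105 : ∀ i, i < 15105 → P i := stepQ 15104 Q15104 (allL N15104 (tt N15050 F52060) (tt N18646 (iv F62268)) (tt N18145 (iv F60712)) (tt N10941 F52061) (tt N18144 (iv F60710)) (tt N15047 F52062) (tt N10939 (iv D25373)))
theorem Q15106 : ∀ i, i < 15106 → P i := stepQ 15105 Q15105 (allL N15105 (tt N10940 (iv D25374)) (tt N18696 D29036) (tt N15178 (iv F52231)) (tt N18693 (iv F62362)) (tt N17997 (iv F60316)) (tt N18675 (iv F62334)) (tt N15213 (iv F52291)))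
theorem Q15107 : ∀ i, i < 15107 → P i := stepQ 15106 Q15106 (allL N15106 (tt N15213 (iv F52289)) (tt N18064 F60478) (tt N15179 (iv F52234)) (tt N18695 (iv F62363)) (tt N17998 (iv F60317)) (tt N15212 (iv F52288)) (tt N10940 (iv D25375)))
theorem Q15108 : ∀ i, i < 15108 → P i := stepQ 15107 Q15107 (allL N15107 (tt N18067 (iv F60484)) (tt N10941 (iv D25376)) (tt N15042 F52063) (tt N18646 (iv F62269)) (tt N17999 (iv F60319)) (tt N18697 D29037) (tt N18064 F60479))
theorem Q15109 : ∀ i, i < 15109 → P i := stepQ 15108 Q15108 (allL N15108 (tt N10948 F52064) (tt N18698 D29038) (tt N10944 F52065) (tt N15091 F52066) (tt N14701 F52067) (tt N14708 F52068) (tt N10943 (iv D25377)))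
theorem Q15110 : ∀ i, i < 15110 → P i := stepQ 15109 Q15109 (allL N15109 (tt N15579 (iv F53086)) (tt N10944 (iv D25378)) (tt N18699 D29039) (tt N10945 F52069) (tt N16746 (iv F56477)) (tt N11263 F52070) (tt N15576 (iv F53083)))
theorem Q15111 : ∀ i, i < 15111 → P i := stepQ 15110 Q15110 (allL N15110 (tt N12284 F52071) (tt N10946 F52072) (tt N10945 (iv D25379)) (tt N18700 D29040) (tt N11712 F52073) (tt N11267 F52074) (tt N15583 (iv F53097)))
theorem Q15112 : ∀ i, i < 15112 → P i := stepQ 15111 Q15111 (allL N15111 (tt N11360 F52075) (tt N18700 (iv F62377)) (tt N13008 F52076) (tt N10946 (iv D25380)) (tt N11353 F52077) (tt N11521 F52078) (tt N15923 (iv F53991)))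
theorem Q15113 : ∀ i, i < 15113 → P i := stepQ 15112 Q15112 (allL N15112 (tt N15091 F52079) (tt N18701 D29041) (tt N15089 F52080) (tt N10948 F52081) (tt N18092 (iv F60556)) (tt N18620 (iv F62207)) (tt N10947 (iv D25381)))
theorem Q15114 : ∀ i, i < 15114 → P i := stepQ 15113 Q15113 (allL N15113 (tt N18702 D29042) (tt N10948 (iv D25382)) (tt N18703 D29043) (tt N18701 (iv F62380)) (tt N16277 (iv F54896)) (tt N16335 (iv F55102)) (tt N13218 F52082))
theorem Q15115 : ∀ i, i < 15115 → P i := stepQ 15114 Q15114 (allL N15114 (tt N14708 F52083) (tt N16370 (iv F55204)) (tt N10951 F52084) (tt N18620 (iv F62205)) (tt N14706 F52085) (tt N10948 (iv D25383)) (tt N14705 F52086))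
theorem Q15116 : ∀ i, i < 15116 → P i := stepQ 15115 Q15115 (allL N15115 (tt N11034 (iv F52090)) (tt N10949 (iv D25384)) (tt N16578 (iv F55895)) (tt N11713 F52087) (tt N10950 F52088) (tt N16571 F55868) (tt N15115 F52089))
theorem Q15117 : ∀ i, i < 15117 → P i := stepQ 15116 Q15116 (allL N15116 (tt N14707 F52091) (tt N16572 (iv F55871)) (tt N14706 F52092) (tt N11714 F52093) (tt N10951 F52094) (tt N10949 (iv D25385)) (tt N12605 F52095))
theorem Q15118 : ∀ i, i < 15118 → P i := stepQ 15117 Q15117 (allL N15117 (tt N11035 F52096) (tt N18703 (iv F62388)) (tt N10950 (iv D25386)) (tt N18704 D29044) (tt N16578 (iv F55896)) (tt N16577 F55893) (tt N15117 F52097))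
theorem Q15119 : ∀ i, i < 15119 → P i := stepQ 15118 Q15118 (allL N15118 (tt N11036 F52098) (tt N15623 (iv F53203)) (tt N16577 (iv F55891)) (tt N10952 F52099) (tt N16571 (iv F55867)) (tt N10950 (iv D25387)) (tt N11036 F52100))
theorem Q15120 : ∀ i, i < 15120 → P i := stepQ 15119 Q15119 (allL N15119 (tt N15626 (iv F53212)) (tt N10951 (iv D25388)) (tt N16573 (iv F55877)) (tt N10953 F52101) (tt N16572 (iv F55874)) (tt N15623 (iv F53207)) (tt N11307 F52102))
theorem Q15121 : ∀ i, i < 15121 → P i := stepQ 15120 Q15120 (allL N15120 (tt N10960 F52103) (tt N18705 D29045) (tt N10956 F52104) (tt N15101 F52105) (tt N14720 F52106) (tt N10955 (iv D25389)) (tt N14727 F52107))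
theorem Q15122 : ∀ i, i < 15122 → P i := stepQ 15121 Q15121 (allL N15121 (tt N15819 (iv F53690)) (tt N10956 (iv D25390)) (tt N18706 D29046) (tt N10957 F52108) (tt N16749 (iv F56485)) (tt N15816 (iv F53684)) (tt N11422 F52109))
theorem Q15123 : ∀ i, i < 15123 → P i := stepQ 15122 Q15122 (allL N15122 (tt N12225 F52110) (tt N10958 F52111) (tt N10957 (iv D25391)) (tt N18707 D29047) (tt N11721 F52112) (tt N15823 (iv F53701)) (tt N11426 F52113))
theorem Q15124 : ∀ i, i < 15124 → P i := stepQ 15123 Q15123 (allL N15123 (tt N11519 F52114) (tt N18707 (iv F62402)) (tt N13025 F52115) (tt N10958 (iv D25392)) (tt N11512 F52116) (tt N15694 (iv F53400)) (tt N11361 F52117))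
theorem Q15125 : ∀ i, i < 15125 → P i := stepQ 15124 Q15124 (allL N15124 (tt N15101 F52118) (tt N18708 D29048) (tt N15099 F52119) (tt N10960 F52120) (tt N18146 (iv F60718)) (tt N10959 (iv D25393)) (tt N18635 (iv F62246)))
theorem Q15126 : ∀ i, i < 15126 → P i := stepQ 15125 Q15125 (allL N15125 (tt N18709 D29049) (tt N10960 (iv D25394)) (tt N18710 D29050) (tt N18708 (iv F62405)) (tt N16432 (iv F55405)) (tt N13238 F52121) (tt N16476 (iv F55573)))
theorem Q15127 : ∀ i, i < 15127 → P i := stepQ 15126 Q15126 (allL N15126 (tt N14727 F52122) (tt N16503 (iv F55647)) (tt N10963 F52123) (tt N18635 (iv F62244)) (tt N14725 F52124) (tt N14724 F52125) (tt N10960 (iv D25395)))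
theorem Q15128 : ∀ i, i < 15128 → P i := stepQ 15127 Q15127 (allL N15127 (tt N11072 (iv F52129)) (tt N10961 (iv D25396)) (tt N16543 (iv F55787)) (tt N11722 F52126) (tt N10962 F52127) (tt N15127 F52128) (tt N16536 (iv F55761)))
theorem Q15129 : ∀ i, i < 15129 → P i := stepQ 15128 Q15128 (allL N15128 (tt N14726 F52130) (tt N16537 (iv F55763)) (tt N14725 F52131) (tt N11723 F52132) (tt N10963 F52133) (tt N12612 F52134) (tt N10961 (iv D25397)))
theorem Q15130 : ∀ i, i < 15130 → P i := stepQ 15129 Q15129 (allL N15129 (tt N11073 F52135) (tt N18710 (iv F62413)) (tt N10962 (iv D25398)) (tt N18711 D29051) (tt N16543 (iv F55788)) (tt N15129 F52136) (tt N16542 F55785))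
theorem Q15131 : ∀ i, i < 15131 → P i := stepQ 15130 Q15130 (allL N15130 (tt N11074 F52137) (tt N15857 (iv F53792)) (tt N16542 (iv F55783)) (tt N10964 F52138) (tt N16536 (iv F55759)) (tt N11074 F52139) (tt N10962 (iv D25399)))
theorem Q15132 : ∀ i, i < 15132 → P i := stepQ 15131 Q15131 (allL N15131 (tt N15860 (iv F53801)) (tt N10963 (iv D25400)) (tt N16538 (iv F55769)) (tt N10965 F52140) (tt N16537 (iv F55766)) (tt N11466 F52141) (tt N15857 (iv F53796)))
theorem Q15133 : ∀ i, i < 15133 → P i := stepQ 15132 Q15132 (allL N15132 (tt N18712 D29052) (tt N10966 (iv D25401)) (tt N18713 D29053) (tt N10970 F52142) (tt N15132 F52143) (tt N18712 (iv F62421)) (tt N15068 F52144))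
theorem Q15134 : ∀ i, i < 15134 → P i := stepQ 15133 Q15133 (allL N15133 (tt N18714 D29054) (tt N10967 (iv D25402)) (tt N18715 D29055) (tt N10975 F52145) (tt N15133 F52146) (tt N15069 F52147) (tt N18714 (iv F62428)))
theorem Q15135 : ∀ i, i < 15135 → P i := stepQ 15134 Q15134 (allL N15134 (tt N15070 F52148) (tt N12960 F52149) (tt N15078 F52150) (tt N10969 (iv D25403)) (tt N18716 D29056) (tt N15078 F52151) (tt N10972 F52152))
theorem Q15136 : ∀ i, i < 15136 → P i := stepQ 15135 Q15135 (allL N15135 (tt N10970 (iv D25404)) (tt N15142 (iv F52171)) (tt N18717 D29057) (tt N18712 (iv F62418)) (tt N18008 (iv F60339)) (tt N10970 F52154) (tt N15071 F52153))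
theorem Q15137 : ∀ i, i < 15137 → P i := stepQ 15136 Q15136 (allL N15136 (tt N18717 (iv F62437)) (tt N18718 D29058) (tt N10970 (iv D25405)) (tt N18719 D29059) (tt N18009 (iv F60342)) (tt N18717 (iv F62438)) (tt N15072 F52157))
theorem Q15138 : ∀ i, i < 15138 → P i := stepQ 15137 Q15137 (allL N15137 (tt N18720 D29060) (tt N10971 (iv D25406)) (tt N18718 (iv F62440)) (tt N18721 D29061) (tt N18010 (iv F60344)) (tt N18722 D29062) (tt N18723 D29063))
theorem Q15139 : ∀ i, i < 15139 → P i := stepQ 15138 Q15138 (allL N15138 (tt N10972 F52158) (tt N18721 (iv F62444)) (tt N15081 F52160) (tt N10971 (iv D25407)) (tt N18724 D29064) (tt N15139 (iv F52163)) (tt N15070 F52159))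
theorem Q15140 : ∀ i, i < 15140 → P i := stepQ 15139 Q15139 (allL N15139 (tt N15081 F52161) (tt N18725 D29065) (tt N10972 (iv D25408)) (tt N15079 F52162) (tt N18726 D29066) (tt N15138 F52163) (tt N15078 F52164))
theorem Q15141 : ∀ i, i < 15141 → P i := stepQ 15140 Q15140 (allL N15140 (tt N18724 (iv F62459)) (tt N10997 F52165) (tt N18726 (iv F62465)) (tt N18013 (iv F60348)) (tt N10972 (iv D25409)) (tt N18668 F62320) (tt N18716 (iv F62436)))
theorem Q15142 : ∀ i, i < 15142 → P i := stepQ 15141 Q15141 (allL N15141 (tt N15073 F52166) (tt N13036 F52167) (tt N15083 F52168) (tt N10974 (iv D25410)) (tt N18727 D29067) (tt N10977 F52169) (tt N15083 F52170))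
theorem Q15143 : ∀ i, i < 15143 → P i := stepQ 15142 Q15142 (allL N15142 (tt N10975 (iv D25411)) (tt N15135 F52171) (tt N18728 D29068) (tt N18714 (iv F62425)) (tt N18014 (iv F60351)) (tt N15074 F52172) (tt N10975 F52173))
theorem Q15144 : ∀ i, i < 15144 → P i := stepQ 15143 Q15143 (allL N15143 (tt N18728 (iv F62474)) (tt N18729 D29069) (tt N10975 (iv D25412)) (tt N18730 D29070) (tt N18015 (iv F60354)) (tt N15075 F52174) (tt N18728 (iv F62477)))
theorem Q15145 : ∀ i, i < 15145 → P i := stepQ 15144 Q15144 (allL N15144 (tt N18731 D29071) (tt N10976 (iv D25413)) (tt N18729 (iv F62479)) (tt N18732 D29072) (tt N18016 (iv F60356)) (tt N18733 D29073) (tt N18734 D29074))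
theorem Q15146 : ∀ i, i < 15146 → P i := stepQ 15145 Q15145 (allL N15145 (tt N10977 F52175) (tt N18732 (iv F62493)) (tt N15086 F52177) (tt N10976 (iv D25414)) (tt N18735 D29075) (tt N15073 F52176) (tt N15146 (iv F52181)))
theorem Q15147 : ∀ i, i < 15147 → P i := stepQ 15146 Q15146 (allL N15146 (tt N15086 F52178) (tt N18736 D29076) (tt N10977 (iv D25415)) (tt N15084 F52179) (tt N18737 D29077) (tt N15083 F52180) (tt N15145 F52181))
theorem Q15148 : ∀ i, i < 15148 → P i := stepQ 15147 Q15147 (allL N15147 (tt N18735 (iv F62498)) (tt N11021 F52182) (tt N18737 (iv F62504)) (tt N18019 (iv F60360)) (tt N10977 (iv D25416)) (tt N18727 (iv F62472)) (tt N18673 F62329))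
theorem Q15149 : ∀ i, i < 15149 → P i := stepQ 15148 Q15148 (allL N15148 (tt N15150 (iv F52188)) (tt N18738 D29078) (tt N10980 F52183) (tt N13727 F52184) (tt N18023 (iv F60368)) (tt N13773 F52185) (tt N10978 (iv D25417)))
theorem Q15150 : ∀ i, i < 15150 → P i := stepQ 15149 Q15149 (allL N15149 (tt N18739 D29079) (tt N10979 (iv D25418)) (tt N15389 (iv F52680)) (tt N13802 F52186) (tt N18024 (iv F60370)) (tt N18740 D29080) (tt N14457 F52187))
theorem Q15151 : ∀ i, i < 15151 → P i := stepQ 15150 Q15150 (allL N15150 (tt N15148 F52188) (tt N18741 D29081) (tt N10981 F52189) (tt N13803 F52190) (tt N18025 (iv F60373)) (tt N10979 (iv D25419)) (tt N13719 F52191))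
theorem Q15152 : ∀ i, i < 15152 → P i := stepQ 15151 Q15151 (allL N15151 (tt N16898 (iv F56964)) (tt N10982 (iv D25420)) (tt N16966 (iv F57145)) (tt N11302 F52192) (tt N16966 (iv F57147)) (tt N16897 F56962) (tt N16966 (iv F57149)))
theorem Q15153 : ∀ i, i < 15153 → P i := stepQ 15152 Q15152 (allL N15152 (tt N18202 (iv F60868)) (tt N10984 (iv D25421)) (tt N18742 D29082) (tt N11109 F52193) (tt N14411 F52194) (tt N18203 (iv F60875)) (tt N11110 F52195))
theorem Q15154 : ∀ i, i < 15154 → P i := stepQ 15153 Q15153 (allL N15153 (tt N10985 F52196) (tt N18743 D29083) (tt N10984 (iv D25422)) (tt N18470 (iv F61671)) (tt N14308 F52197) (tt N14406 F52198) (tt N11107 F52199))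
theorem Q15155 : ∀ i, i < 15155 → P i := stepQ 15154 Q15154 (allL N15154 (tt N18470 (iv F61669)) (tt N10989 F52200) (tt N12963 F52202) (tt N10985 (iv D25423)) (tt N18259 (iv F61028)) (tt N18253 (iv F61012)) (tt N12960 F52201))
theorem Q15156 : ∀ i, i < 15156 → P i := stepQ 15155 Q15155 (allL N15155 (tt N17964 (iv F60225)) (tt N17755 (iv F59500)) (tt N10987 (iv D25424)) (tt N17752 F59497) (tt N18026 (iv F60376)) (tt N15471 F52842) (tt N18744 D29084))
theorem Q15157 : ∀ i, i < 15157 → P i := stepQ 15156 Q15156 (allL N15156 (tt N11205 F52203) (tt N10992 F52204) (tt N18744 (iv F62517)) (tt N11040 F52205) (tt N15056 F52206) (tt N11203 F52207) (tt N10987 (iv D25425)))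
theorem Q15158 : ∀ i, i < 15158 → P i := stepQ 15157 Q15157 (allL N15157 (tt N18745 D29085) (tt N10988 (iv D25426)) (tt N17755 F59501) (tt N18746 D29086) (tt N18027 (iv F60378)) (tt N18747 D29087) (tt N18748 D29088))
theorem Q15159 : ∀ i, i < 15159 → P i := stepQ 15158 Q15158 (allL N15158 (tt N10989 F52208) (tt N18746 (iv F62524)) (tt N15234 (iv F52336)) (tt N10988 (iv D25427)) (tt N18749 D29089) (tt N15177 (iv F52230)) (tt N10994 F52209))
theorem Q15160 : ∀ i, i < 15160 → P i := stepQ 15159 Q15159 (allL N15159 (tt N15234 (iv F52335)) (tt N18750 D29090) (tt N10989 (iv D25428)) (tt N15231 (iv F52331)) (tt N18751 D29091) (tt N18752 D29092) (tt N10996 F52210))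
theorem Q15161 : ∀ i, i < 15161 → P i := stepQ 15160 Q15160 (allL N15160 (tt N18749 (iv F62528)) (tt N18259 F61030) (tt N18751 (iv F62531)) (tt N18030 (iv F60384)) (tt N10989 (iv D25429)) (tt N18753 D29093) (tt N10997 F52211))
theorem Q15162 : ∀ i, i < 15162 → P i := stepQ 15161 Q15161 (allL N15161 (tt N15177 (iv F52228)) (tt N18754 D29094) (tt N18752 (iv F62533)) (tt N10990 F52212) (tt N18753 (iv F62536)) (tt N10989 (iv D25430)) (tt N15170 (iv F52223)))
theorem Q15163 : ∀ i, i < 15163 → P i := stepQ 15162 Q15162 (allL N15162 (tt N18755 D29095) (tt N10990 (iv D25431)) (tt N15340 (iv F52591)) (tt N18754 (iv F62537)) (tt N18032 (iv F60389)) (tt N18254 (iv F61014)) (tt N18756 D29096))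
theorem Q15164 : ∀ i, i < 15164 → P i := stepQ 15163 Q15163 (allL N15163 (tt N18757 D29097) (tt N10991 (iv D25432)) (tt N10993 F52213) (tt N13879 F52214) (tt N18033 (iv F60392)) (tt N18758 D29098) (tt N18759 D29099))
theorem Q15165 : ∀ i, i < 15165 → P i := stepQ 15164 Q15164 (allL N15164 (tt N14417 F52215) (tt N18760 D29100) (tt N10992 F52216) (tt N13881 F52217) (tt N15428 (iv F52742)) (tt N14420 (iv F52218)) (tt N10991 (iv D25433)))
theorem Q15166 : ∀ i, i < 15166 → P i := stepQ 15165 Q15165 (allL N15165 (tt N10993 (iv D25434)) (tt N17990 (iv F60296)) (tt N18757 (iv F62538)) (tt N16161 (iv F54534)) (tt N18035 (iv F60398)) (tt N17991 F60295) (tt N18761 D29101))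
theorem Q15167 : ∀ i, i < 15167 → P i := stepQ 15166 Q15166 (allL N15166 (tt N16161 (iv F54532)) (tt N10994 F52219) (tt N16158 (iv F54529)) (tt N10993 (iv D25435)) (tt N18762 D29102) (tt N18763 D29103) (tt N18764 D29104))
theorem Q15168 : ∀ i, i < 15168 → P i := stepQ 15167 Q15167 (allL N15167 (tt N17991 (iv F60294)) (tt N18765 D29105) (tt N18758 (iv F62543)) (tt N18763 (iv F62551)) (tt N18037 (iv F60406)) (tt N10993 (iv D25436)) (tt N18766 D29106))
theorem Q15169 : ∀ i, i < 15169 → P i := stepQ 15168 Q15168 (allL N15168 (tt N18761 (iv F62549)) (tt N18748 (iv F62527)) (tt N18759 (iv F62546)) (tt N18764 (iv F62552)) (tt N18038 (iv F60407)) (tt N18767 D29107) (tt N10993 (iv D25437)))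
theorem Q15170 : ∀ i, i < 15170 → P i := stepQ 15169 Q15169 (allL N15169 (tt N10997 F52220) (tt N18762 (iv F62550)) (tt N15255 (iv F52392)) (tt N18039 (iv F60410)) (tt N10994 (iv D25438)) (tt N18768 D29108) (tt N18749 (iv F62529)))
theorem Q15171 : ∀ i, i < 15171 → P i := stepQ 15170 Q15170 (allL N15170 (tt N10998 F52221) (tt N18769 D29109) (tt N15256 (iv F52394)) (tt N10995 F52222) (tt N18768 (iv F62561)) (tt N10994 (iv D25439)) (tt N15161 F52223))
theorem Q15172 : ∀ i, i < 15172 → P i := stepQ 15171 Q15171 (allL N15171 (tt N18770 D29110) (tt N10995 (iv D25440)) (tt N18070 (iv F60493)) (tt N18769 (iv F62563)) (tt N18041 (iv F60415)) (tt N18765 (iv F62553)) (tt N18771 D29111))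
theorem Q15173 : ∀ i, i < 15173 → P i := stepQ 15172 Q15172 (allL N15172 (tt N17254 (iv F58178)) (tt N10996 (iv D25441)) (tt N18725 (iv F62462)) (tt N15248 (iv F52366)) (tt N18772 D29112) (tt N18773 D29113) (tt N18774 D29114))
theorem Q15174 : ∀ i, i < 15174 → P i := stepQ 15173 Q15173 (allL N15173 (tt N15255 (iv F52391)) (tt N18772 (iv F62565)) (tt N10997 F52224) (tt N16824 (iv F56727)) (tt N10996 (iv D25442)) (tt N18775 D29115) (tt N18751 (iv F62532)))
theorem Q15175 : ∀ i, i < 15175 → P i := stepQ 15174 Q15174 (allL N15174 (tt N15256 (iv F52393)) (tt N18776 D29116) (tt N10998 F52225) (tt N15250 (iv F52372)) (tt N18775 (iv F62568)) (tt N10996 (iv D25443)) (tt N18777 D29117))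
theorem Q15176 : ∀ i, i < 15176 → P i := stepQ 15175 Q15175 (allL N15175 (tt N18768 (iv F62559)) (tt N18778 D29118) (tt N18775 (iv F62567)) (tt N18043 (iv F60417)) (tt N10998 F52226) (tt N10997 (iv D25444)) (tt N18779 D29119))
theorem Q15177 : ∀ i, i < 15177 → P i := stepQ 15176 Q15176 (allL N15176 (tt N18780 D29120) (tt N10998 (iv D25445)) (tt N18781 D29121) (tt N10999 F52227) (tt N18778 (iv F62573)) (tt N18669 (iv F62322)) (tt N18782 D29122))
theorem Q15178 : ∀ i, i < 15178 → P i := stepQ 15177 Q15177 (allL N15177 (tt N15161 F52228) (tt N18783 D29123) (tt N18777 (iv F62570)) (tt N11000 F52229) (tt N18779 (iv F62575)) (tt N15158 F52230) (tt N10998 (iv D25446)))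
theorem Q15179 : ∀ i, i < 15179 → P i := stepQ 15178 Q15178 (allL N15178 (tt N10999 (iv D25447)) (tt N18784 D29124) (tt N15105 F52231) (tt N18780 (iv F62577)) (tt N18046 (iv F60424)) (tt N18670 (iv F62324)) (tt N15096 (iv F52232)))
theorem Q15180 : ∀ i, i < 15180 → P i := stepQ 15179 Q15179 (allL N15179 (tt N15096 F52233) (tt N18785 D29125) (tt N15106 F52234) (tt N18782 (iv F62580)) (tt N18047 (iv F60428)) (tt N15095 (iv F52235)) (tt N10999 (iv D25448)))
theorem Q15181 : ∀ i, i < 15181 → P i := stepQ 15180 Q15180 (allL N15180 (tt N18786 D29126) (tt N11000 (iv D25449)) (tt N18787 D29127) (tt N18783 (iv F62582)) (tt N18048 (iv F60439)) (tt N18788 D29128) (tt N18785 (iv F62585)))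
theorem Q15182 : ∀ i, i < 15182 → P i := stepQ 15181 Q15181 (allL N15181 (tt N14415 F52236) (tt N18787 (iv F62589)) (tt N11001 (iv D25450)) (tt N12889 F52238) (tt N15385 (iv F52677)) (tt N15530 (iv F52964)) (tt N12888 F52237))
theorem Q15183 : ∀ i, i < 15183 → P i := stepQ 15182 Q15182 (allL N15182 (tt N18789 D29129) (tt N11002 (iv D25451)) (tt N15493 (iv F52880)) (tt N13851 F52239) (tt N18052 (iv F60446)) (tt N14506 F52240) (tt N18790 D29130))
theorem Q15184 : ∀ i, i < 15184 → P i := stepQ 15183 Q15183 (allL N15183 (tt N15184 (iv F52244)) (tt N18791 D29131) (tt N11004 F52241) (tt N13852 F52242) (tt N18053 (iv F60448)) (tt N13720 F52243) (tt N11002 (iv D25452)))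
theorem Q15185 : ∀ i, i < 15185 → P i := stepQ 15184 Q15184 (allL N15184 (tt N15183 F52244) (tt N18792 D29132) (tt N11005 F52245) (tt N13752 F52246) (tt N18054 (iv F60452)) (tt N11003 (iv D25453)) (tt N13781 F52247))
theorem Q15186 : ∀ i, i < 15186 → P i := stepQ 15185 Q15185 (allL N15185 (tt N16888 (iv F56937)) (tt N11006 (iv D25454)) (tt N16991 (iv F57216)) (tt N11461 F52248) (tt N16991 (iv F57218)) (tt N16991 (iv F57219)) (tt N16886 F56931))
theorem Q15187 : ∀ i, i < 15187 → P i := stepQ 15186 Q15186 (allL N15186 (tt N18227 (iv F60930)) (tt N11008 (iv D25455)) (tt N18793 D29133) (tt N11178 F52249) (tt N14433 F52250) (tt N11180 F52251) (tt N18228 (iv F60937)))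
theorem Q15188 : ∀ i, i < 15188 → P i := stepQ 15187 Q15187 (allL N15187 (tt N11009 F52252) (tt N18794 D29134) (tt N11008 (iv D25456)) (tt N18498 (iv F61780)) (tt N14363 F52253) (tt N11177 F52254) (tt N14428 F52255))
theorem Q15189 : ∀ i, i < 15189 → P i := stepQ 15188 Q15188 (allL N15188 (tt N18498 (iv F61778)) (tt N11013 F52256) (tt N13038 F52258) (tt N11009 (iv D25457)) (tt N18316 (iv F61189)) (tt N13036 F52257) (tt N18310 (iv F61173)))
theorem Q15190 : ∀ i, i < 15190 → P i := stepQ 15189 Q15189 (allL N15189 (tt N17959 (iv F60214)) (tt N17687 (iv F59290)) (tt N11011 (iv D25458)) (tt N17684 F59287) (tt N18055 (iv F60455)) (tt N18795 D29135) (tt N15366 F52655))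
theorem Q15191 : ∀ i, i < 15191 → P i := stepQ 15190 Q15190 (allL N15190 (tt N11137 F52259) (tt N11016 F52260) (tt N18795 (iv F62602)) (tt N11078 F52261) (tt N15044 F52262) (tt N11011 (iv D25459)) (tt N11134 F52263))
theorem Q15192 : ∀ i, i < 15192 → P i := stepQ 15191 Q15191 (allL N15191 (tt N18796 D29136) (tt N11012 (iv D25460)) (tt N17687 F59291) (tt N18797 D29137) (tt N18056 (iv F60457)) (tt N18798 D29138) (tt N18799 D29139))
theorem Q15193 : ∀ i, i < 15193 → P i := stepQ 15192 Q15192 (allL N15192 (tt N11013 F52264) (tt N18797 (iv F62609)) (tt N15287 (iv F52466)) (tt N11012 (iv D25461)) (tt N18800 D29140) (tt N11018 F52265) (tt N15211 (iv F52286)))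
theorem Q15194 : ∀ i, i < 15194 → P i := stepQ 15193 Q15193 (allL N15193 (tt N15287 (iv F52465)) (tt N18801 D29141) (tt N11013 (iv D25462)) (tt N15284 (iv F52461)) (tt N18802 D29142) (tt N11020 F52266) (tt N18803 D29143))
theorem Q15195 : ∀ i, i < 15195 → P i := stepQ 15194 Q15194 (allL N15194 (tt N18800 (iv F62613)) (tt N18316 F61191) (tt N18802 (iv F62616)) (tt N18059 (iv F60463)) (tt N11013 (iv D25463)) (tt N11021 F52267) (tt N18804 D29144))
theorem Q15196 : ∀ i, i < 15196 → P i := stepQ 15195 Q15195 (allL N15195 (tt N15211 (iv F52284)) (tt N18805 D29145) (tt N18803 (iv F62618)) (tt N11014 F52268) (tt N18804 (iv F62621)) (tt N15204 (iv F52279)) (tt N11013 (iv D25464)))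
theorem Q15197 : ∀ i, i < 15197 → P i := stepQ 15196 Q15196 (allL N15196 (tt N18806 D29146) (tt N11014 (iv D25465)) (tt N15444 (iv F52768)) (tt N18805 (iv F62622)) (tt N18061 (iv F60468)) (tt N18807 D29147) (tt N18311 (iv F61176)))
theorem Q15198 : ∀ i, i < 15198 → P i := stepQ 15197 Q15197 (allL N15197 (tt N18808 D29148) (tt N11015 (iv D25466)) (tt N11017 F52269) (tt N13830 F52270) (tt N18062 (iv F60471)) (tt N18809 D29149) (tt N18810 D29150))
theorem Q15199 : ∀ i, i < 15199 → P i := stepQ 15198 Q15198 (allL N15198 (tt N14395 F52271) (tt N18811 D29151) (tt N11016 F52272) (tt N13832 F52273) (tt N15323 (iv F52563)) (tt N11015 (iv D25467)) (tt N14398 F52274))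
theorem Q15200 : ∀ i, i < 15200 → P i := stepQ 15199 Q15199 (allL N15199 (tt N11017 (iv D25468)) (tt N17998 F60431) (tt N18808 (iv F62623)) (tt N16176 (iv F54563)) (tt N18064 (iv F60477)) (tt N18812 D29152) (tt N17999 (iv F60437)))
theorem Q15201 : ∀ i, i < 15201 → P i := stepQ 15200 Q15200 (allL N15200 (tt N16176 (iv F54561)) (tt N11018 F52275) (tt N16173 (iv F54558)) (tt N11017 (iv D25469)) (tt N18813 D29153) (tt N18814 D29154) (tt N18815 D29155))
theorem Q15202 : ∀ i, i < 15202 → P i := stepQ 15201 Q15201 (allL N15201 (tt N18812 (iv F62634)) (tt N18798 (iv F62611)) (tt N18809 (iv F62627)) (tt N18814 (iv F62636)) (tt N18066 (iv F60483)) (tt N11017 (iv D25470)) (tt N18816 D29156))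
theorem Q15203 : ∀ i, i < 15203 → P i := stepQ 15202 Q15202 (allL N15202 (tt N17999 F60438) (tt N18817 D29157) (tt N18810 (iv F62630)) (tt N18815 (iv F62637)) (tt N18067 (iv F60486)) (tt N18818 D29158) (tt N11017 (iv D25471)))
theorem Q15204 : ∀ i, i < 15204 → P i := stepQ 15203 Q15203 (allL N15203 (tt N11021 F52276) (tt N18813 (iv F62635)) (tt N15308 (iv F52525)) (tt N18068 (iv F60489)) (tt N11018 (iv D25472)) (tt N18800 (iv F62614)) (tt N18819 D29159))
theorem Q15205 : ∀ i, i < 15205 → P i := stepQ 15204 Q15204 (allL N15204 (tt N11022 F52277) (tt N18820 D29160) (tt N15309 (iv F52527)) (tt N11019 F52278) (tt N18819 (iv F62646)) (tt N15195 F52279) (tt N11018 (iv D25473)))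
theorem Q15206 : ∀ i, i < 15206 → P i := stepQ 15205 Q15205 (allL N15205 (tt N18821 D29161) (tt N11019 (iv D25474)) (tt N18041 (iv F60414)) (tt N18820 (iv F62648)) (tt N18070 (iv F60494)) (tt N18822 D29162) (tt N18817 (iv F62641)))
theorem Q15207 : ∀ i, i < 15207 → P i := stepQ 15206 Q15206 (allL N15206 (tt N17330 (iv F58278)) (tt N11020 (iv D25475)) (tt N18736 (iv F62501)) (tt N15301 (iv F52499)) (tt N18823 D29163) (tt N18824 D29164) (tt N18825 D29165))
theorem Q15208 : ∀ i, i < 15208 → P i := stepQ 15207 Q15207 (allL N15207 (tt N15308 (iv F52524)) (tt N18823 (iv F62657)) (tt N11021 F52280) (tt N16798 (iv F56652)) (tt N11020 (iv D25476)) (tt N18802 (iv F62617)) (tt N18826 D29166))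
theorem Q15209 : ∀ i, i < 15209 → P i := stepQ 15208 Q15208 (allL N15208 (tt N15309 (iv F52526)) (tt N18827 D29167) (tt N11022 F52281) (tt N15303 (iv F52505)) (tt N18826 (iv F62660)) (tt N18828 D29168) (tt N11020 (iv D25477)))
theorem Q15210 : ∀ i, i < 15210 → P i := stepQ 15209 Q15209 (allL N15209 (tt N18819 (iv F62644)) (tt N18829 D29169) (tt N18826 (iv F62659)) (tt N18072 (iv F60496)) (tt N11022 F52282) (tt N18830 D29170) (tt N11021 (iv D25478)))
theorem Q15211 : ∀ i, i < 15211 → P i := stepQ 15210 Q15210 (allL N15210 (tt N18831 D29171) (tt N11022 (iv D25479)) (tt N18832 D29172) (tt N11023 F52283) (tt N18829 (iv F62665)) (tt N18833 D29173) (tt N18674 (iv F62332)))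
theorem Q15212 : ∀ i, i < 15212 → P i := stepQ 15211 Q15211 (allL N15211 (tt N15195 F52284) (tt N18834 D29174) (tt N18828 (iv F62662)) (tt N11024 F52285) (tt N18830 (iv F62667)) (tt N11022 (iv D25480)) (tt N15192 F52286))
theorem Q15213 : ∀ i, i < 15213 → P i := stepQ 15212 Q15212 (allL N15212 (tt N11023 (iv D25481)) (tt N18835 D29175) (tt N15095 F52287) (tt N18831 (iv F62669)) (tt N18075 (iv F60503)) (tt N15106 F52288) (tt N18675 (iv F62335)))
theorem Q15214 : ∀ i, i < 15214 → P i := stepQ 15213 Q15213 (allL N15213 (tt N15106 F52289) (tt N18836 D29176) (tt N15096 F52290) (tt N18833 (iv F62672)) (tt N18076 (iv F60507)) (tt N11023 (iv D25482)) (tt N15105 F52291))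
theorem Q15215 : ∀ i, i < 15215 → P i := stepQ 15214 Q15214 (allL N15214 (tt N18837 D29177) (tt N11024 (iv D25483)) (tt N18838 D29178) (tt N18834 (iv F62674)) (tt N18077 (iv F60509)) (tt N18836 (iv F62677)) (tt N18839 D29179))
theorem Q15216 : ∀ i, i < 15216 → P i := stepQ 15215 Q15215 (allL N15215 (tt N14437 F52292) (tt N18838 (iv F62681)) (tt N11025 (iv D25484)) (tt N12877 F52294) (tt N15489 (iv F52877)) (tt N12876 F52293) (tt N15427 (iv F52740)))
theorem Q15217 : ∀ i, i < 15217 → P i := stepQ 15216 Q15216 (allL N15216 (tt N15629 (iv F53222)) (tt N11030 (iv D25485)) (tt N12788 F52295) (tt N17186 (iv F57745)) (tt N11732 F52296) (tt N11314 F52297) (tt N11265 F52298))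
theorem Q15218 : ∀ i, i < 15218 → P i := stepQ 15217 Q15217 (allL N15217 (tt N16930 (iv F57051)) (tt N11032 (iv D25486)) (tt N18840 D29180) (tt N11033 F52299) (tt N12922 F52300) (tt N15452 (iv F52798)) (tt N12549 F52301))
theorem Q15219 : ∀ i, i < 15219 → P i := stepQ 15218 Q15218 (allL N15218 (tt N16963 (iv F57134)) (tt N11035 F52302) (tt N11033 (iv D25487)) (tt N18841 D29181) (tt N12582 F52303) (tt N16960 (iv F57127)) (tt N12556 F52304))
theorem Q15220 : ∀ i, i < 15220 → P i := stepQ 15219 Q15219 (allL N15219 (tt N16578 (iv F55894)) (tt N12582 F52305) (tt N11034 (iv D25488)) (tt N13433 (iv F52308)) (tt N11035 F52306) (tt N16575 (iv F55885)) (tt N15219 F52307))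
theorem Q15221 : ∀ i, i < 15221 → P i := stepQ 15220 Q15220 (allL N15220 (tt N16571 (iv F55864)) (tt N15573 (iv F53075)) (tt N16575 (iv F55884)) (tt N11734 F52309) (tt N11036 F52310) (tt N11034 (iv D25489)) (tt N16571 F55869))
theorem Q15222 : ∀ i, i < 15222 → P i := stepQ 15221 Q15221 (allL N15221 (tt N18704 (iv F62391)) (tt N18841 (iv F62687)) (tt N18842 D29182) (tt N11035 (iv D25490)) (tt N18843 D29183) (tt N18844 D29184) (tt N15221 F52311))
theorem Q15223 : ∀ i, i < 15223 → P i := stepQ 15222 Q15222 (allL N15222 (tt N16577 (iv F55889)) (tt N18845 D29185) (tt N11036 F52312) (tt N18844 (iv F62695)) (tt N16575 F55886) (tt N11035 (iv D25491)) (tt N16577 (iv F55892)))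
theorem Q15224 : ∀ i, i < 15224 → P i := stepQ 15223 Q15223 (allL N15223 (tt N15316 (iv F52544)) (tt N17354 (iv F61413)) (tt N11037 (iv D25492)) (tt N18846 D29186) (tt N18847 D29187) (tt N18848 D29188) (tt N15223 F52313))
theorem Q15225 : ∀ i, i < 15225 → P i := stepQ 15224 Q15224 (allL N15224 (tt N15314 F52539) (tt N11044 F52314) (tt N18847 (iv F62705)) (tt N11738 F52315) (tt N11037 (iv D25493)) (tt N18849 D29189) (tt N15224 F52316))
theorem Q15226 : ∀ i, i < 15226 → P i := stepQ 15225 Q15225 (allL N15225 (tt N15317 (iv F52546)) (tt N18850 D29190) (tt N18848 (iv F62707)) (tt N11038 F52317) (tt N18849 (iv F62709)) (tt N11037 (iv D25494)) (tt N15317 (iv F52548)))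
theorem Q15227 : ∀ i, i < 15227 → P i := stepQ 15226 Q15226 (allL N15226 (tt N15230 (iv F52325)) (tt N11038 (iv D25495)) (tt N12290 F52318) (tt N18850 (iv F62710)) (tt N11740 F52319) (tt N11046 F52320) (tt N12287 (iv F52321)))
theorem Q15228 : ∀ i, i < 15228 → P i := stepQ 15227 Q15227 (allL N15227 (tt N15699 (iv F53416)) (tt N16088 (iv F54374)) (tt N17331 (iv F58086)) (tt N11039 (iv D25496)) (tt N15697 (iv F53411)) (tt N15880 F53868) (tt N17682 (iv F59282)))
theorem Q15229 : ∀ i, i < 15229 → P i := stepQ 15228 Q15228 (allL N15228 (tt N16567 (iv F55853)) (tt N11042 F52322) (tt N18851 D29191) (tt N11041 (iv D25497)) (tt N18852 D29192) (tt N18853 D29193) (tt N18854 D29194))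
theorem Q15230 : ∀ i, i < 15230 → P i := stepQ 15229 Q15229 (allL N15229 (tt N16568 (iv F55854)) (tt N15254 (iv F52382)) (tt N15600 (iv F53125)) (tt N18853 (iv F62715)) (tt N11742 F52323) (tt N11041 (iv D25498)) (tt N11046 F52324))
theorem Q15231 : ∀ i, i < 15231 → P i := stepQ 15230 Q15230 (allL N15230 (tt N15226 F52325) (tt N11050 F52326) (tt N13816 F52327) (tt N18854 (iv F62719)) (tt N11743 F52328) (tt N15239 (iv F52345)) (tt N11041 (iv D25499)))
theorem Q15232 : ∀ i, i < 15232 → P i := stepQ 15231 Q15231 (allL N15231 (tt N11043 F52329) (tt N18855 D29195) (tt N11042 (iv D25500)) (tt N15159 F52331) (tt N18856 D29196) (tt N15260 (iv F52402)) (tt N11051 F52330))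
theorem Q15233 : ∀ i, i < 15233 → P i := stepQ 15232 Q15232 (allL N15232 (tt N11044 F52332) (tt N18852 (iv F62713)) (tt N18856 (iv F62722)) (tt N11745 F52333) (tt N11042 (iv D25501)) (tt N15262 (iv F52409)) (tt N11052 F52334))
theorem Q15234 : ∀ i, i < 15234 → P i := stepQ 15233 Q15233 (allL N15233 (tt N17378 F61407) (tt N11043 (iv D25502)) (tt N17354 F61408) (tt N18857 D29197) (tt N16180 F61409) (tt N17374 F61410) (tt N13245 F61411))
theorem Q15235 : ∀ i, i < 15235 → P i := stepQ 15234 Q15234 (allL N15234 (tt N15159 F52335) (tt N18857 (iv F62725)) (tt N15158 F52336) (tt N11043 (iv D25503)) (tt N18858 D29198) (tt N18777 (iv F62572)) (tt N11055 F52337))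
theorem Q15236 : ∀ i, i < 15236 → P i := stepQ 15235 Q15235 (allL N15235 (tt N18856 (iv F62721)) (tt N16180 (iv F61412)) (tt N11044 F52338) (tt N18859 D29199) (tt N11043 (iv D25504)) (tt N18860 D29200) (tt N11056 F52339))
theorem Q15237 : ∀ i, i < 15237 → P i := stepQ 15236 Q15236 (allL N15236 (tt N15260 (iv F52400)) (tt N18861 D29201) (tt N11045 F52340) (tt N18777 (iv F62571)) (tt N18860 (iv F62736)) (tt N11043 (iv D25505)) (tt N15250 (iv F52373)))
theorem Q15238 : ∀ i, i < 15238 → P i := stepQ 15237 Q15237 (allL N15237 (tt N15262 (iv F52406)) (tt N18862 D29202) (tt N18860 (iv F62735)) (tt N11747 F52341) (tt N11045 F52342) (tt N11044 (iv D25506)) (tt N15251 (iv F52377)))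
theorem Q15239 : ∀ i, i < 15239 → P i := stepQ 15238 Q15238 (allL N15238 (tt N18863 D29203) (tt N11045 (iv D25507)) (tt N18864 D29204) (tt N11046 F52343) (tt N18862 (iv F62738)) (tt N18850 (iv F62711)) (tt N18853 (iv F62716)))
theorem Q15240 : ∀ i, i < 15240 → P i := stepQ 15239 Q15239 (allL N15239 (tt N11046 (iv D25508)) (tt N16063 (iv F54308)) (tt N15599 (iv F53119)) (tt N18863 (iv F62739)) (tt N11749 F52344) (tt N15230 F52345) (tt N16568 (iv F55857)))
theorem Q15241 : ∀ i, i < 15241 → P i := stepQ 15240 Q15240 (allL N15240 (tt N15240 F52346) (tt N11047 (iv D25509)) (tt N15293 (iv F52477)) (tt N13241 F52348) (tt N11750 F52347) (tt N15293 (iv F52480)) (tt N15293 (iv F52479)))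
theorem Q15242 : ∀ i, i < 15242 → P i := stepQ 15241 Q15241 (allL N15241 (tt N11048 F52349) (tt N13241 F52350) (tt N13242 F52351) (tt N11047 (iv D25510)) (tt N16167 (iv F54544)) (tt N17672 F59240) (tt N18865 D29205))
theorem Q15243 : ∀ i, i < 15243 → P i := stepQ 15242 Q15242 (allL N15242 (tt N11050 F52352) (tt N13868 (iv F52356)) (tt N13452 F52353) (tt N18865 (iv F62744)) (tt N11752 F52354) (tt N13817 F52355) (tt N11047 (iv D25511)))
theorem Q15244 : ∀ i, i < 15244 → P i := stepQ 15243 Q15243 (allL N15243 (tt N13242 F52357) (tt N18866 D29206) (tt N11048 (iv D25512)) (tt N14623 F52358) (tt N16169 (iv F54552)) (tt N18867 D29207) (tt N18868 D29208))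
theorem Q15245 : ∀ i, i < 15245 → P i := stepQ 15244 Q15244 (allL N15244 (tt N16167 F54545) (tt N11052 F52359) (tt N16169 (iv F54550)) (tt N11753 F52360) (tt N11048 (iv D25513)) (tt N18869 D29209) (tt N17095 (iv F57513)))
theorem Q15246 : ∀ i, i < 15246 → P i := stepQ 15245 Q15245 (allL N15245 (tt N17672 (iv F59236)) (tt N18870 D29210) (tt N18867 (iv F62749)) (tt N11049 F52361) (tt N18869 (iv F62759)) (tt N11048 (iv D25514)) (tt N17670 (iv F59233)))
theorem Q15247 : ∀ i, i < 15247 → P i := stepQ 15246 Q15246 (allL N15246 (tt N18865 (iv F62741)) (tt N18854 (iv F62718)) (tt N18868 (iv F62752)) (tt N11050 F52362) (tt N17095 (iv F57511)) (tt N13818 (iv F52363)) (tt N11048 (iv D25515)))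
theorem Q15248 : ∀ i, i < 15248 → P i := stepQ 15247 Q15247 (allL N15247 (tt N15266 (iv F52416)) (tt N11049 (iv D25516)) (tt N18179 (iv F60812)) (tt N18870 (iv F62761)) (tt N11755 F52364) (tt N11054 F52365) (tt N15267 (iv F52418)))
theorem Q15249 : ∀ i, i < 15249 → P i := stepQ 15248 Q15248 (allL N15248 (tt N17351 F58175) (tt N11051 (iv D25517)) (tt N18866 (iv F62746)) (tt N15172 F52366) (tt N17211 F57814) (tt N18871 D29211) (tt N18872 D29212))
theorem Q15250 : ∀ i, i < 15250 → P i := stepQ 15249 Q15249 (allL N15249 (tt N11056 F52367) (tt N17211 (iv F57813)) (tt N11052 F52368) (tt N12714 (iv F52369)) (tt N11051 (iv D25518)) (tt N18873 D29213) (tt N18856 (iv F62723)))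
theorem Q15251 : ∀ i, i < 15251 → P i := stepQ 15250 Q15250 (allL N15250 (tt N11057 F52370) (tt N18874 D29214) (tt N11053 F52371) (tt N15174 F52372) (tt N18873 (iv F62768)) (tt N11051 (iv D25519)) (tt N15236 F52373))
theorem Q15252 : ∀ i, i < 15252 → P i := stepQ 15251 Q15251 (allL N15251 (tt N11058 F52374) (tt N18875 D29215) (tt N18873 (iv F62766)) (tt N11757 F52375) (tt N11053 F52376) (tt N11052 (iv D25520)) (tt N15237 F52377))
theorem Q15253 : ∀ i, i < 15253 → P i := stepQ 15252 Q15252 (allL N15252 (tt N18876 D29216) (tt N11053 (iv D25521)) (tt N18877 D29217) (tt N11054 F52378) (tt N18875 (iv F62772)) (tt N18870 (iv F62762)) (tt N18878 D29218))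
theorem Q15254 : ∀ i, i < 15254 → P i := stepQ 15253 Q15253 (allL N15253 (tt N11054 (iv D25522)) (tt N12228 F52379) (tt N12232 F52380) (tt N18876 (iv F62774)) (tt N11759 F52381) (tt N15266 F52415) (tt N18879 D29219))
theorem Q15255 : ∀ i, i < 15255 → P i := stepQ 15254 Q15254 (allL N15254 (tt N18879 (iv F62787)) (tt N15229 F52382) (tt N18177 (iv F60800)) (tt N18878 (iv F62785)) (tt N11760 F52383) (tt N11062 F52384) (tt N11054 (iv D25523)))
theorem Q15256 : ∀ i, i < 15256 → P i := stepQ 15255 Q15255 (allL N15255 (tt N15173 F52391) (tt N17357 F58179) (tt N15169 F52392) (tt N15735 F53497) (tt N11055 (iv D25529)) (tt N18880 D29220) (tt N18858 (iv F62731)))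
theorem Q15257 : ∀ i, i < 15257 → P i := stepQ 15256 Q15256 (allL N15256 (tt N15174 F52393) (tt N18881 D29221) (tt N15170 F52394) (tt N11057 F52395) (tt N18880 (iv F62793)) (tt N11055 (iv D25530)) (tt N18752 (iv F62535)))
theorem Q15258 : ∀ i, i < 15258 → P i := stepQ 15257 Q15257 (allL N15257 (tt N12714 F52396) (tt N13916 F58173) (tt N12712 F52397) (tt N11056 (iv D25531)) (tt N15735 (iv F53496)) (tt N18882 D29222) (tt N18859 (iv F62734)))
theorem Q15259 : ∀ i, i < 15259 → P i := stepQ 15258 Q15258 (allL N15258 (tt N18873 (iv F62765)) (tt N18883 D29223) (tt N11058 F52398) (tt N18882 (iv F62797)) (tt N11057 F52399) (tt N11056 (iv D25532)) (tt N18884 D29224))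
theorem Q15260 : ∀ i, i < 15260 → P i := stepQ 15259 Q15259 (allL N15259 (tt N18885 D29225) (tt N11057 (iv D25533)) (tt N18886 D29226) (tt N18881 (iv F62794)) (tt N18883 (iv F62798)) (tt N17359 F58176) (tt N18887 D29227))
theorem Q15261 : ∀ i, i < 15261 → P i := stepQ 15260 Q15260 (allL N15260 (tt N15236 F52400) (tt N18888 D29228) (tt N11060 F52401) (tt N18752 (iv F62534)) (tt N18884 (iv F62802)) (tt N15231 F52402) (tt N11057 (iv D25534)))
theorem Q15262 : ∀ i, i < 15262 → P i := stepQ 15261 Q15261 (allL N15261 (tt N15277 (iv F52441)) (tt N11058 (iv D25535)) (tt N18889 D29229) (tt N11762 F52403) (tt N11059 F52404) (tt N15261 F52405) (tt N18890 D29230))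
theorem Q15263 : ∀ i, i < 15263 → P i := stepQ 15262 Q15262 (allL N15262 (tt N15237 F52406) (tt N18891 D29231) (tt N18884 (iv F62801)) (tt N11763 F52407) (tt N11060 F52408) (tt N15232 F52409) (tt N11058 (iv D25536)))
theorem Q15264 : ∀ i, i < 15264 → P i := stepQ 15263 Q15263 (allL N15263 (tt N15276 (iv F52439)) (tt N18886 (iv F62804)) (tt N11059 (iv D25537)) (tt N18892 D29232) (tt N18889 (iv F62811)) (tt N15263 F52410) (tt N18874 F62782))
theorem Q15265 : ∀ i, i < 15265 → P i := stepQ 15264 Q15264 (allL N15264 (tt N15278 (iv F52445)) (tt N18877 F62779) (tt N18874 (iv F62781)) (tt N11061 F52411) (tt N18890 (iv F62814)) (tt N15278 (iv F52447)) (tt N11059 (iv D25538)))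
theorem Q15266 : ∀ i, i < 15266 → P i := stepQ 15265 Q15265 (allL N15265 (tt N18893 D29233) (tt N11060 (iv D25539)) (tt N18878 (iv F62784)) (tt N11062 F52412) (tt N18891 (iv F62816)) (tt N18878 (iv F62786)) (tt N18877 F62780))
theorem Q15267 : ∀ i, i < 15267 → P i := stepQ 15266 Q15266 (allL N15266 (tt N15247 F52416) (tt N11061 (iv D25540)) (tt N16534 (iv F55751)) (tt N18877 (iv F62778)) (tt N11767 F52413) (tt N15253 (iv F52415)) (tt N11062 F52414))
theorem Q15268 : ∀ i, i < 15268 → P i := stepQ 15267 Q15267 (allL N15267 (tt N11062 (iv D25541)) (tt N18894 D29234) (tt N18895 D29235) (tt N18893 (iv F62820)) (tt N11768 F52417) (tt N18879 (iv F62790)) (tt N15247 F52418))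
theorem Q15269 : ∀ i, i < 15269 → P i := stepQ 15268 Q15268 (allL N15268 (tt N18895 (iv F62825)) (tt N11063 F52419) (tt N11062 (iv D25542)) (tt N16965 (iv F57143)) (tt N11769 F52420) (tt N18177 (iv F60803)) (tt N16534 F55753))
theorem Q15270 : ∀ i, i < 15270 → P i := stepQ 15269 Q15269 (allL N15269 (tt N15863 (iv F53811)) (tt N11069 (iv D25543)) (tt N12763 F52421) (tt N17262 (iv F57921)) (tt N11775 F52422) (tt N11427 F52423) (tt N11472 F52424))
theorem Q15271 : ∀ i, i < 15271 → P i := stepQ 15270 Q15270 (allL N15270 (tt N16918 (iv F57021)) (tt N11070 (iv D25544)) (tt N18896 D29236) (tt N11071 F52425) (tt N12938 F52426) (tt N12552 F52427) (tt N15348 (iv F52620)))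
theorem Q15272 : ∀ i, i < 15272 → P i := stepQ 15271 Q15271 (allL N15271 (tt N16948 (iv F57095)) (tt N11073 F52428) (tt N11071 (iv D25545)) (tt N18897 D29237) (tt N12589 F52429) (tt N12562 F52430) (tt N16945 (iv F57089)))
theorem Q15273 : ∀ i, i < 15273 → P i := stepQ 15272 Q15272 (allL N15272 (tt N16543 (iv F55786)) (tt N12589 F52431) (tt N11072 (iv D25546)) (tt N13486 (iv F52434)) (tt N11073 F52432) (tt N15272 F52433) (tt N16540 F55778))
theorem Q15274 : ∀ i, i < 15274 → P i := stepQ 15273 Q15273 (allL N15273 (tt N16536 (iv F55756)) (tt N15813 (iv F53677)) (tt N16540 (iv F55776)) (tt N11777 F52435) (tt N11074 F52436) (tt N16536 F55760) (tt N11072 (iv D25547)))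
theorem Q15275 : ∀ i, i < 15275 → P i := stepQ 15274 Q15274 (allL N15274 (tt N18711 (iv F62416)) (tt N18897 (iv F62833)) (tt N18892 (iv F62819)) (tt N11073 (iv D25548)) (tt N18898 D29238) (tt N15274 F52437) (tt N18899 D29239))
theorem Q15276 : ∀ i, i < 15276 → P i := stepQ 15275 Q15275 (allL N15275 (tt N16542 (iv F55781)) (tt N18900 D29240) (tt N11074 F52438) (tt N18899 (iv F62840)) (tt N16540 (iv F55779)) (tt N16542 (iv F55784)) (tt N11073 (iv D25549)))
theorem Q15277 : ∀ i, i < 15277 → P i := stepQ 15276 Q15276 (allL N15276 (tt N15263 F52439) (tt N17383 (iv F61415)) (tt N11075 (iv D25550)) (tt N18901 D29241) (tt N18902 D29242) (tt N15276 F52440) (tt N18903 D29243))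
theorem Q15278 : ∀ i, i < 15278 → P i := stepQ 15277 Q15277 (allL N15277 (tt N15261 F52441) (tt N11082 F52442) (tt N18902 (iv F62853)) (tt N11781 F52443) (tt N11075 (iv D25551)) (tt N15277 F52444) (tt N18904 D29244))
theorem Q15279 : ∀ i, i < 15279 → P i := stepQ 15278 Q15278 (allL N15278 (tt N15264 F52445) (tt N18905 D29245) (tt N18903 (iv F62856)) (tt N11076 F52446) (tt N18904 (iv F62861)) (tt N15264 F52447) (tt N11075 (iv D25552)))
theorem Q15280 : ∀ i, i < 15280 → P i := stepQ 15279 Q15279 (allL N15279 (tt N15282 (iv F52453)) (tt N11076 (iv D25553)) (tt N12230 F52448) (tt N18905 (iv F62863)) (tt N11783 F52449) (tt N12228 F52450) (tt N11084 F52451))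
theorem Q15281 : ∀ i, i < 15281 → P i := stepQ 15280 Q15280 (allL N15280 (tt N15928 (iv F54008)) (tt N16012 (iv F54198)) (tt N17255 (iv F57906)) (tt N11077 (iv D25554)) (tt N15926 (iv F54002)) (tt N17750 (iv F59491)) (tt N15645 F53276))
theorem Q15282 : ∀ i, i < 15282 → P i := stepQ 15281 Q15281 (allL N15281 (tt N16532 (iv F55745)) (tt N11080 F52452) (tt N18906 D29246) (tt N11079 (iv D25555)) (tt N18907 D29247) (tt N18908 D29248) (tt N18909 D29249))
theorem Q15283 : ∀ i, i < 15283 → P i := stepQ 15282 Q15282 (allL N15282 (tt N15279 F52453) (tt N11087 F52454) (tt N13865 F52455) (tt N18908 (iv F62870)) (tt N11785 F52456) (tt N11079 (iv D25556)) (tt N15292 (iv F52475)))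
theorem Q15284 : ∀ i, i < 15284 → P i := stepQ 15283 Q15283 (allL N15283 (tt N16533 (iv F55746)) (tt N15307 (iv F52515)) (tt N15838 (iv F53728)) (tt N18909 (iv F62871)) (tt N11786 F52457) (tt N11084 F52458) (tt N11079 (iv D25557)))
theorem Q15285 : ∀ i, i < 15285 → P i := stepQ 15284 Q15284 (allL N15284 (tt N11081 F52459) (tt N18910 D29250) (tt N11080 (iv D25558)) (tt N15193 F52461) (tt N18911 D29251) (tt N11089 F52460) (tt N15313 (iv F52535)))
theorem Q15286 : ∀ i, i < 15286 → P i := stepQ 15285 Q15285 (allL N15285 (tt N11082 F52462) (tt N18907 (iv F62866)) (tt N18911 (iv F62875)) (tt N11788 F52463) (tt N11080 (iv D25559)) (tt N11090 F52464) (tt N15315 (iv F52543)))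
theorem Q15287 : ∀ i, i < 15287 → P i := stepQ 15286 Q15286 (allL N15286 (tt N17350 F61402) (tt N11081 (iv D25560)) (tt N17383 F61403) (tt N18912 D29252) (tt N16166 F61404) (tt N13226 F61405) (tt N17345 F61406))
theorem Q15288 : ∀ i, i < 15288 → P i := stepQ 15287 Q15287 (allL N15287 (tt N15193 F52465) (tt N18912 (iv F62878)) (tt N15192 F52466) (tt N11081 (iv D25561)) (tt N18913 D29253) (tt N11093 F52467) (tt N18828 (iv F62664)))
theorem Q15289 : ∀ i, i < 15289 → P i := stepQ 15288 Q15288 (allL N15288 (tt N18911 (iv F62874)) (tt N16166 (iv F61414)) (tt N11082 F52468) (tt N18914 D29254) (tt N11081 (iv D25562)) (tt N11094 F52469) (tt N18915 D29255))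
theorem Q15290 : ∀ i, i < 15290 → P i := stepQ 15289 Q15289 (allL N15289 (tt N15313 (iv F52533)) (tt N18916 D29256) (tt N11083 F52470) (tt N18828 (iv F62663)) (tt N18915 (iv F62889)) (tt N15303 (iv F52506)) (tt N11081 (iv D25563)))
theorem Q15291 : ∀ i, i < 15291 → P i := stepQ 15290 Q15290 (allL N15290 (tt N15315 (iv F52540)) (tt N18917 D29257) (tt N18915 (iv F62888)) (tt N11790 F52471) (tt N11083 F52472) (tt N15304 (iv F52510)) (tt N11082 (iv D25564)))
theorem Q15292 : ∀ i, i < 15292 → P i := stepQ 15291 Q15291 (allL N15291 (tt N18918 D29258) (tt N11083 (iv D25565)) (tt N18919 D29259) (tt N11084 F52473) (tt N18917 (iv F62891)) (tt N18909 (iv F62872)) (tt N18905 (iv F62865)))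
theorem Q15293 : ∀ i, i < 15293 → P i := stepQ 15292 Q15292 (allL N15292 (tt N11084 (iv D25566)) (tt N16137 (iv F54479)) (tt N15837 (iv F53722)) (tt N18918 (iv F62892)) (tt N11792 F52474) (tt N16533 (iv F55749)) (tt N15282 F52475))
theorem Q15294 : ∀ i, i < 15294 → P i := stepQ 15293 Q15293 (allL N15293 (tt N15293 F52476) (tt N11085 (iv D25567)) (tt N15240 F52477) (tt N13221 F52481) (tt N11793 F52478) (tt N15240 F52480) (tt N15240 F52479))
theorem Q15295 : ∀ i, i < 15295 → P i := stepQ 15294 Q15294 (allL N15294 (tt N11086 F52482) (tt N13221 F52483) (tt N13222 F52484) (tt N11085 (iv D25568)) (tt N16152 (iv F54518)) (tt N18920 D29260) (tt N17740 (iv F59453)))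
theorem Q15296 : ∀ i, i < 15296 → P i := stepQ 15295 Q15295 (allL N15295 (tt N11087 F52485) (tt N13819 F52486) (tt N13400 F52487) (tt N18920 (iv F62897)) (tt N11795 F52488) (tt N11085 (iv D25569)) (tt N13866 F52489))
theorem Q15297 : ∀ i, i < 15297 → P i := stepQ 15296 Q15296 (allL N15296 (tt N13222 F52490) (tt N18921 D29261) (tt N11086 (iv D25570)) (tt N14572 F52491) (tt N16154 (iv F54523)) (tt N18922 D29262) (tt N18923 D29263))
theorem Q15298 : ∀ i, i < 15298 → P i := stepQ 15297 Q15297 (allL N15297 (tt N16152 F54519) (tt N11090 F52492) (tt N16154 (iv F54521)) (tt N11796 F52493) (tt N11086 (iv D25571)) (tt N17177 (iv F57728)) (tt N18924 D29264))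
theorem Q15299 : ∀ i, i < 15299 → P i := stepQ 15298 Q15298 (allL N15298 (tt N18920 (iv F62894)) (tt N18908 (iv F62869)) (tt N18922 (iv F62902)) (tt N11087 F52494) (tt N17177 (iv F57727)) (tt N11086 (iv D25572)) (tt N13867 (iv F52495)))
theorem Q15300 : ∀ i, i < 15300 → P i := stepQ 15299 Q15299 (allL N15299 (tt N17740 (iv F59449)) (tt N18925 D29265) (tt N18923 (iv F62908)) (tt N11088 F52496) (tt N18924 (iv F62912)) (tt N17738 (iv F59446)) (tt N11086 (iv D25573)))
theorem Q15301 : ∀ i, i < 15301 → P i := stepQ 15300 Q15300 (allL N15300 (tt N15319 (iv F52550)) (tt N11088 (iv D25574)) (tt N18127 (iv F60656)) (tt N18925 (iv F62914)) (tt N11798 F52497) (tt N15320 (iv F52555)) (tt N11092 F52498))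
theorem Q15302 : ∀ i, i < 15302 → P i := stepQ 15301 Q15301 (allL N15301 (tt N17379 F58275) (tt N11089 (iv D25575)) (tt N18921 (iv F62899)) (tt N15206 F52499) (tt N17287 F57990) (tt N18926 D29266) (tt N18927 D29267))
theorem Q15303 : ∀ i, i < 15303 → P i := stepQ 15302 Q15302 (allL N15302 (tt N11094 F52500) (tt N17287 (iv F57989)) (tt N11090 F52501) (tt N12685 (iv F52502)) (tt N11089 (iv D25576)) (tt N18911 (iv F62876)) (tt N18928 D29268))
theorem Q15304 : ∀ i, i < 15304 → P i := stepQ 15303 Q15303 (allL N15303 (tt N11095 F52503) (tt N18929 D29269) (tt N11091 F52504) (tt N15208 F52505) (tt N18928 (iv F62921)) (tt N15289 F52506) (tt N11089 (iv D25577)))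
theorem Q15305 : ∀ i, i < 15305 → P i := stepQ 15304 Q15304 (allL N15304 (tt N11096 F52507) (tt N18930 D29270) (tt N18928 (iv F62919)) (tt N11800 F52508) (tt N11091 F52509) (tt N15290 F52510) (tt N11090 (iv D25578)))
theorem Q15306 : ∀ i, i < 15306 → P i := stepQ 15305 Q15305 (allL N15305 (tt N18931 D29271) (tt N11091 (iv D25579)) (tt N18932 D29272) (tt N11092 F52511) (tt N18930 (iv F62934)) (tt N18933 D29273) (tt N18925 (iv F62915)))
theorem Q15307 : ∀ i, i < 15307 → P i := stepQ 15306 Q15306 (allL N15306 (tt N11092 (iv D25580)) (tt N12287 F52512) (tt N12291 F52513) (tt N18931 (iv F62936)) (tt N11802 F52514) (tt N18934 D29274) (tt N15319 (iv F52553)))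
theorem Q15308 : ∀ i, i < 15308 → P i := stepQ 15307 Q15307 (allL N15307 (tt N18934 (iv F62947)) (tt N15283 F52515) (tt N18125 (iv F60644)) (tt N18933 (iv F62945)) (tt N11803 F52516) (tt N11092 (iv D25581)) (tt N11100 (iv F52517)))
theorem Q15309 : ∀ i, i < 15309 → P i := stepQ 15308 Q15308 (allL N15308 (tt N15207 F52524) (tt N17385 F58279) (tt N15203 F52525) (tt N15960 F54088) (tt N11093 (iv D25587)) (tt N18913 (iv F62884)) (tt N18935 D29275))
theorem Q15310 : ∀ i, i < 15310 → P i := stepQ 15309 Q15309 (allL N15309 (tt N15208 F52526) (tt N18936 D29276) (tt N15204 F52527) (tt N11095 F52528) (tt N18935 (iv F62953)) (tt N18803 (iv F62620)) (tt N11093 (iv D25588)))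
theorem Q15311 : ∀ i, i < 15311 → P i := stepQ 15310 Q15310 (allL N15310 (tt N12685 F52529) (tt N13925 F58273) (tt N12683 F52530) (tt N11094 (iv D25589)) (tt N15960 (iv F54087)) (tt N18914 (iv F62887)) (tt N18937 D29277))
theorem Q15312 : ∀ i, i < 15312 → P i := stepQ 15311 Q15311 (allL N15311 (tt N18928 (iv F62918)) (tt N18938 D29278) (tt N11096 F52531) (tt N18937 (iv F62957)) (tt N11095 F52532) (tt N18939 D29279) (tt N11094 (iv D25590)))
theorem Q15313 : ∀ i, i < 15313 → P i := stepQ 15312 Q15312 (allL N15312 (tt N18940 D29280) (tt N11095 (iv D25591)) (tt N18941 D29281) (tt N18936 (iv F62954)) (tt N18938 (iv F62958)) (tt N18942 D29282) (tt N17359 (iv F61396)))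
theorem Q15314 : ∀ i, i < 15314 → P i := stepQ 15313 Q15313 (allL N15313 (tt N15289 F52533) (tt N18943 D29283) (tt N11098 F52534) (tt N18803 (iv F62619)) (tt N18939 (iv F62962)) (tt N11095 (iv D25592)) (tt N15284 F52535))
theorem Q15315 : ∀ i, i < 15315 → P i := stepQ 15314 Q15314 (allL N15314 (tt N15224 (iv F52539)) (tt N11096 (iv D25593)) (tt N18944 D29284) (tt N11805 F52536) (tt N11097 F52537) (tt N18945 D29285) (tt N15314 F52538))
theorem Q15316 : ∀ i, i < 15316 → P i := stepQ 15315 Q15315 (allL N15315 (tt N15290 F52540) (tt N18946 D29286) (tt N18939 (iv F62961)) (tt N11806 F52541) (tt N11098 F52542) (tt N11096 (iv D25594)) (tt N15285 F52543))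
theorem Q15317 : ∀ i, i < 15317 → P i := stepQ 15316 Q15316 (allL N15316 (tt N15223 F52544) (tt N18941 (iv F62965)) (tt N11097 (iv D25595)) (tt N18842 (iv F62691)) (tt N18944 (iv F62976)) (tt N18929 F62927) (tt N15316 F52545))
theorem Q15318 : ∀ i, i < 15318 → P i := stepQ 15317 Q15317 (allL N15317 (tt N15225 F52546) (tt N18932 (iv F62939)) (tt N18929 F62926) (tt N11099 F52547) (tt N18945 (iv F62980)) (tt N11097 (iv D25596)) (tt N15225 F52548))
theorem Q15319 : ∀ i, i < 15319 → P i := stepQ 15318 Q15318 (allL N15318 (tt N18947 D29287) (tt N11098 (iv D25597)) (tt N18933 (iv F62944)) (tt N11100 F52549) (tt N18946 (iv F62983)) (tt N18932 F62942) (tt N18933 (iv F62946)))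
theorem Q15320 : ∀ i, i < 15320 → P i := stepQ 15319 Q15319 (allL N15319 (tt N15300 F52550) (tt N11099 (iv D25598)) (tt N16570 (iv F55861)) (tt N18932 (iv F62941)) (tt N11810 F52551) (tt N11100 F52552) (tt N15306 F52553))
theorem Q15321 : ∀ i, i < 15321 → P i := stepQ 15320 Q15320 (allL N15320 (tt N11100 (iv D25599)) (tt N18948 D29288) (tt N18949 D29289) (tt N18947 (iv F62984)) (tt N11811 F52554) (tt N15300 F52555) (tt N18934 (iv F62950)))
theorem Q15322 : ∀ i, i < 15322 → P i := stepQ 15321 Q15321 (allL N15321 (tt N18949 (iv F62989)) (tt N11101 F52556) (tt N11100 (iv D25600)) (tt N16950 (iv F57104)) (tt N11812 F52557) (tt N16570 F55863) (tt N18125 (iv F60648)))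
theorem Q15323 : ∀ i, i < 15323 → P i := stepQ 15322 Q15322 (allL N15322 (tt N14266 F52558) (tt N12930 F52559) (tt N11102 (iv D25601)) (tt N18950 D29290) (tt N13781 F52560) (tt N13780 F52561) (tt N18054 (iv F60453)))
theorem Q15324 : ∀ i, i < 15324 → P i := stepQ 15323 Q15323 (allL N15323 (tt N11104 F52562) (tt N18951 D29291) (tt N11103 (iv D25602)) (tt N18952 D29292) (tt N15198 F52563) (tt N14276 F52564) (tt N11115 F52565))
theorem Q15325 : ∀ i, i < 15325 → P i := stepQ 15324 Q15324 (allL N15324 (tt N18952 (iv F63001)) (tt N16971 (iv F57163)) (tt N18953 D29293) (tt N11104 (iv D25603)) (tt N18954 D29294) (tt N18955 D29295) (tt N11117 F52566))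
theorem Q15326 : ∀ i, i < 15326 → P i := stepQ 15325 Q15325 (allL N15325 (tt N14276 F52567) (tt N18956 D29296) (tt N11105 F52568) (tt N18955 (iv F63007)) (tt N13778 F52569) (tt N11104 (iv D25604)) (tt N15336 (iv F52589)))
theorem Q15327 : ∀ i, i < 15327 → P i := stepQ 15326 Q15326 (allL N15326 (tt N11187 F52570) (tt N12871 F52571) (tt N11106 (iv D25605)) (tt N18957 D29297) (tt N17623 (iv F59101)) (tt N15430 (iv F52749)) (tt N11185 F52572))
theorem Q15328 : ∀ i, i < 15328 → P i := stepQ 15327 Q15327 (allL N15327 (tt N18958 D29298) (tt N11108 (iv D25606)) (tt N18959 D29299) (tt N11113 F52573) (tt N11110 F52574) (tt N11110 F52575) (tt N14411 F52576))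
theorem Q15329 : ∀ i, i < 15329 → P i := stepQ 15328 Q15328 (allL N15328 (tt N18205 (iv F60876)) (tt N16968 (iv F57155)) (tt N11109 (iv D25607)) (tt N18960 D29300) (tt N15353 (iv F52627)) (tt N18206 (iv F60882)) (tt N11112 F52577))
theorem Q15330 : ∀ i, i < 15330 → P i := stepQ 15329 Q15329 (allL N15329 (tt N11110 (iv D25608)) (tt N15360 F52642) (tt N18961 D29301) (tt N11111 F52578) (tt N18958 (iv F63014)) (tt N18958 (iv F63015)) (tt N18202 (iv F60871)))
theorem Q15331 : ∀ i, i < 15331 → P i := stepQ 15330 Q15330 (allL N15330 (tt N18961 (iv F63023)) (tt N15610 (iv F53162)) (tt N11110 (iv D25609)) (tt N18962 D29302) (tt N18959 (iv F63018)) (tt N18959 (iv F63019)) (tt N18742 (iv F62514)))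
theorem Q15332 : ∀ i, i < 15332 → P i := stepQ 15331 Q15331 (allL N15331 (tt N11112 F52579) (tt N18963 D29303) (tt N11111 (iv D25610)) (tt N18964 D29304) (tt N18184 (iv F60829)) (tt N18965 D29305) (tt N18205 (iv F60879)))
theorem Q15333 : ∀ i, i < 15333 → P i := stepQ 15332 Q15332 (allL N15332 (tt N11113 F52580) (tt N18958 (iv F63012)) (tt N18965 (iv F63028)) (tt N18958 (iv F63013)) (tt N15360 (iv F52640)) (tt N11111 (iv D25611)) (tt N14413 F52581))
theorem Q15334 : ∀ i, i < 15334 → P i := stepQ 15333 Q15333 (allL N15333 (tt N18964 (iv F63026)) (tt N11117 F52582) (tt N18966 D29306) (tt N11112 (iv D25612)) (tt N18967 D29307) (tt N18968 D29308) (tt N18960 (iv F63022)))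
theorem Q15335 : ∀ i, i < 15335 → P i := stepQ 15334 Q15334 (allL N15334 (tt N18965 (iv F63027)) (tt N18969 D29309) (tt N11113 F52583) (tt N18968 (iv F63031)) (tt N15362 (iv F52645)) (tt N11112 (iv D25613)) (tt N14414 (iv F52584)))
theorem Q15336 : ∀ i, i < 15336 → P i := stepQ 15335 Q15335 (allL N15335 (tt N11117 F52585) (tt N18629 F62224) (tt N15594 (iv F53113)) (tt N11115 (iv D25614)) (tt N18970 D29310) (tt N18971 D29311) (tt N18952 (iv F63003)))
theorem Q15337 : ∀ i, i < 15337 → P i := stepQ 15336 Q15336 (allL N15336 (tt N11118 F52586) (tt N12883 F52587) (tt N11116 F52588) (tt N18971 (iv F63040)) (tt N17619 (iv F59092)) (tt N11115 (iv D25615)) (tt N15325 F52589))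
theorem Q15338 : ∀ i, i < 15338 → P i := stepQ 15337 Q15337 (allL N15337 (tt N15594 (iv F53112)) (tt N18972 D29312) (tt N11117 (iv D25616)) (tt N15589 (iv F53104)) (tt N18973 D29313) (tt N18974 D29314) (tt N18953 (iv F63004)))
theorem Q15339 : ∀ i, i < 15339 → P i := stepQ 15338 Q15338 (allL N15338 (tt N18970 (iv F63037)) (tt N18967 (iv F63030)) (tt N18973 (iv F63042)) (tt N18186 (iv F60833)) (tt N11117 (iv D25617)) (tt N18975 D29315) (tt N18954 (iv F63005)))
theorem Q15340 : ∀ i, i < 15340 → P i := stepQ 15339 Q15339 (allL N15339 (tt N18971 (iv F63038)) (tt N18976 D29316) (tt N18974 (iv F63043)) (tt N11118 F52590) (tt N18975 (iv F63049)) (tt N11117 (iv D25618)) (tt N18063 (iv F60475)))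
theorem Q15341 : ∀ i, i < 15341 → P i := stepQ 15340 Q15340 (allL N15340 (tt N18977 D29317) (tt N11118 (iv D25619)) (tt N15162 F52591) (tt N18976 (iv F63051)) (tt N18187 (iv F60837)) (tt N18969 (iv F63035)) (tt N18978 D29318))
theorem Q15342 : ∀ i, i < 15342 → P i := stepQ 15341 Q15341 (allL N15341 (tt N11121 F52592) (tt N16885 (iv F56925)) (tt N15341 F52593) (tt N12821 F52594) (tt N15344 (iv F52607)) (tt N15342 (iv F52598)) (tt N11119 (iv D25620)))
theorem Q15343 : ∀ i, i < 15343 → P i := stepQ 15342 Q15342 (allL N15342 (tt N15344 (iv F52604)) (tt N12939 (iv F52599)) (tt N15342 F52595) (tt N13057 F52596) (tt N11121 F52597) (tt N15341 F52598) (tt N11120 (iv D25621)))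
theorem Q15344 : ∀ i, i < 15344 → P i := stepQ 15343 Q15343 (allL N15343 (tt N12552 (iv F52603)) (tt N11121 (iv D25622)) (tt N18979 D29319) (tt N12561 F52600) (tt N12939 F52601) (tt N16918 (iv F57023)) (tt N11123 F52602))
theorem Q15345 : ∀ i, i < 15345 → P i := stepQ 15344 Q15344 (allL N15344 (tt N15342 F52604) (tt N16998 (iv F57237)) (tt N15344 F52605) (tt N14845 F52606) (tt N15341 F52607) (tt N11121 (iv D25623)) (tt N14844 F52608))
theorem Q15346 : ∀ i, i < 15346 → P i := stepQ 15345 Q15345 (allL N15345 (tt N12941 (iv F52612)) (tt N11122 (iv D25624)) (tt N18980 D29320) (tt N12970 F52609) (tt N11123 F52610) (tt N16994 (iv F57232)) (tt N12939 F52611))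
theorem Q15347 : ∀ i, i < 15347 → P i := stepQ 15346 Q15346 (allL N15346 (tt N11123 (iv D25625)) (tt N16707 (iv F56343)) (tt N18981 D29321) (tt N12563 F52613) (tt N12941 F52614) (tt N12873 (iv F52616)) (tt N12552 F52615))
theorem Q15348 : ∀ i, i < 15348 → P i := stepQ 15347 Q15347 (allL N15347 (tt N18981 (iv F63067)) (tt N11125 F52617) (tt N11123 (iv D25626)) (tt N18982 D29322) (tt N18980 (iv F63065)) (tt N18983 D29323) (tt N18979 (iv F63060)))
theorem Q15349 : ∀ i, i < 15349 → P i := stepQ 15348 Q15348 (allL N15348 (tt N12873 F52618) (tt N15452 (iv F52796)) (tt N18983 (iv F63079)) (tt N12899 F52619) (tt N16994 (iv F57231)) (tt N11123 (iv D25627)) (tt N15270 F52620))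
theorem Q15350 : ∀ i, i < 15350 → P i := stepQ 15349 Q15349 (allL N15349 (tt N18198 (iv F60856)) (tt N18980 (iv F63064)) (tt N11124 (iv D25628)) (tt N18984 D29324) (tt N11125 F52621) (tt N18985 D29325) (tt N15349 F52622))
theorem Q15351 : ∀ i, i < 15351 → P i := stepQ 15350 Q15350 (allL N15350 (tt N18199 (iv F60859)) (tt N14413 F52623) (tt N18985 (iv F63101)) (tt N18199 (iv F60860)) (tt N11126 F52624) (tt N11124 (iv D25629)) (tt N18199 (iv F60862)))
theorem Q15352 : ∀ i, i < 15352 → P i := stepQ 15351 Q15351 (allL N15351 (tt N18200 (iv F60863)) (tt N18982 (iv F63074)) (tt N15988 F61250) (tt N11125 (iv D25630)) (tt N18986 D29326) (tt N14630 (iv F61251)) (tt N15351 F52625))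
theorem Q15353 : ∀ i, i < 15353 → P i := stepQ 15352 Q15352 (allL N15352 (tt N18201 (iv F60865)) (tt N14629 F61238) (tt N11126 F52626) (tt N14630 (iv F61240)) (tt N18985 (iv F63102)) (tt N11125 (iv D25631)) (tt N18201 (iv F60867)))
theorem Q15354 : ∀ i, i < 15354 → P i := stepQ 15353 Q15353 (allL N15353 (tt N15358 (iv F52634)) (tt N18840 (iv F62684)) (tt N11127 (iv D25632)) (tt N18987 D29327) (tt N15328 F52627) (tt N15359 (iv F52637)) (tt N14397 F52628))
theorem Q15355 : ∀ i, i < 15355 → P i := stepQ 15354 Q15354 (allL N15354 (tt N15522 (iv F52941)) (tt N18988 D29328) (tt N11128 (iv D25633)) (tt N18989 D29329) (tt N18990 D29330) (tt N18991 D29331) (tt N15354 F52629))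
theorem Q15356 : ∀ i, i < 15356 → P i := stepQ 15355 Q15355 (allL N15355 (tt N15520 F52936) (tt N11141 F52630) (tt N18990 (iv F63119)) (tt N15520 (iv F52933)) (tt N11128 (iv D25634)) (tt N18992 D29332) (tt N15355 F52631))
theorem Q15357 : ∀ i, i < 15357 → P i := stepQ 15356 Q15356 (allL N15356 (tt N15523 (iv F52943)) (tt N18993 D29333) (tt N18991 (iv F63122)) (tt N11129 F52632) (tt N18992 (iv F63126)) (tt N11128 (iv D25635)) (tt N15523 (iv F52945)))
theorem Q15358 : ∀ i, i < 15358 → P i := stepQ 15357 Q15357 (allL N15357 (tt N15371 (iv F52730)) (tt N11129 (iv D25636)) (tt N18994 D29334) (tt N18993 (iv F63127)) (tt N15525 (iv F52948)) (tt N11143 F52633) (tt N15368 F52728))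
theorem Q15359 : ∀ i, i < 15359 → P i := stepQ 15358 Q15358 (allL N15358 (tt N15353 F52634) (tt N18994 (iv F63129)) (tt N11130 (iv D25637)) (tt N18995 D29335) (tt N18205 (iv F60877)) (tt N11132 F52635) (tt N18184 (iv F60830)))
theorem Q15360 : ∀ i, i < 15360 → P i := stepQ 15359 Q15359 (allL N15359 (tt N11132 F52636) (tt N18277 (iv F61239)) (tt N11131 (iv D25638)) (tt N18276 F61252) (tt N18206 (iv F60881)) (tt N15353 F52637) (tt N18996 D29336))
theorem Q15361 : ∀ i, i < 15361 → P i := stepQ 15360 Q15360 (allL N15360 (tt N11133 F52638) (tt N15329 (iv F52642)) (tt N18996 (iv F63134)) (tt N14396 F52639) (tt N15332 F52640) (tt N14396 F52641) (tt N11131 (iv D25639)))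
theorem Q15362 : ∀ i, i < 15362 → P i := stepQ 15361 Q15361 (allL N15361 (tt N18276 (iv F61253)) (tt N11149 F52643) (tt N18997 D29337) (tt N11132 (iv D25640)) (tt N18998 D29338) (tt N18995 (iv F63132)) (tt N18999 D29339))
theorem Q15363 : ∀ i, i < 15363 → P i := stepQ 15362 Q15362 (allL N15362 (tt N18996 (iv F63133)) (tt N18256 (iv F61017)) (tt N11133 F52644) (tt N18999 (iv F63141)) (tt N15334 F52645) (tt N14397 F52646) (tt N11132 (iv D25641)))
theorem Q15364 : ∀ i, i < 15364 → P i := stepQ 15363 Q15363 (allL N15363 (tt N11135 F52647) (tt N14398 F52648) (tt N11134 (iv D25642)) (tt N19000 D29340) (tt N15043 F52649) (tt N14202 F52650) (tt N18795 (iv F62604)))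
theorem Q15365 : ∀ i, i < 15365 → P i := stepQ 15364 Q15364 (allL N15364 (tt N19001 D29341) (tt N11135 (iv D25643)) (tt N11138 F52651) (tt N19002 D29342) (tt N15510 (iv F52918)) (tt N19003 D29343) (tt N19004 D29344))
theorem Q15366 : ∀ i, i < 15366 → P i := stepQ 15365 Q15365 (allL N15365 (tt N19000 (iv F63143)) (tt N19002 (iv F63148)) (tt N19005 D29345) (tt N11135 (iv D25644)) (tt N19006 D29346) (tt N19007 D29347) (tt N19008 D29348))
theorem Q15367 : ∀ i, i < 15367 → P i := stepQ 15366 Q15366 (allL N15366 (tt N14202 F52652) (tt N19009 D29349) (tt N11136 F52653) (tt N19007 (iv F63155)) (tt N15041 F52654) (tt N11135 (iv D25645)) (tt N15189 (iv F52655)))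
theorem Q15368 : ∀ i, i < 15368 → P i := stepQ 15367 Q15367 (allL N15367 (tt N18795 (iv F62601)) (tt N17013 (iv F57287)) (tt N11137 F52656) (tt N19008 (iv F63163)) (tt N15495 (iv F52884)) (tt N17959 (iv F60216)) (tt N11135 (iv D25646)))
theorem Q15369 : ∀ i, i < 15369 → P i := stepQ 15368 Q15368 (allL N15368 (tt N11138 (iv D25647)) (tt N15509 (iv F52915)) (tt N19001 (iv F63146)) (tt N19010 D29350) (tt N15509 (iv F52916)) (tt N19011 D29351) (tt N15357 (iv F52728)))
theorem Q15370 : ∀ i, i < 15370 → P i := stepQ 15369 Q15369 (allL N15369 (tt N19010 (iv F63165)) (tt N11139 F52657) (tt N19012 D29352) (tt N11138 (iv D25648)) (tt N19013 D29353) (tt N19014 D29354) (tt N19015 D29355))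
theorem Q15371 : ∀ i, i < 15371 → P i := stepQ 15370 Q15370 (allL N15370 (tt N19011 (iv F63167)) (tt N15407 F52724) (tt N19003 (iv F63149)) (tt N19014 (iv F63170)) (tt N15511 (iv F52920)) (tt N11138 (iv D25649)) (tt N11143 F52725))
theorem Q15372 : ∀ i, i < 15372 → P i := stepQ 15371 Q15371 (allL N15371 (tt N15357 F52730) (tt N11157 F52658) (tt N19004 (iv F63153)) (tt N19015 (iv F63174)) (tt N15505 (iv F52905)) (tt N15378 (iv F52729)) (tt N11138 (iv D25650)))
theorem Q15373 : ∀ i, i < 15373 → P i := stepQ 15372 Q15372 (allL N15372 (tt N11141 F52659) (tt N19013 (iv F63169)) (tt N15662 (iv F53305)) (tt N15507 (iv F52911)) (tt N11139 (iv D25651)) (tt N15418 (iv F52718)) (tt N11158 F52660))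
theorem Q15374 : ∀ i, i < 15374 → P i := stepQ 15373 Q15373 (allL N15373 (tt N15893 F61768) (tt N11140 (iv D25652)) (tt N18988 (iv F63111)) (tt N15655 (iv F53296)) (tt N19016 D29356) (tt N15957 (iv F61767)) (tt N19017 D29357))
theorem Q15375 : ∀ i, i < 15375 → P i := stepQ 15374 Q15374 (allL N15374 (tt N15662 (iv F53304)) (tt N19016 (iv F63175)) (tt N11141 F52661) (tt N19018 D29358) (tt N11140 (iv D25653)) (tt N19019 D29359) (tt N11163 F52662))
theorem Q15376 : ∀ i, i < 15376 → P i := stepQ 15375 Q15375 (allL N15375 (tt N15416 (iv F52710)) (tt N19020 D29360) (tt N11142 F52663) (tt N11395 F52664) (tt N19019 (iv F63185)) (tt N11140 (iv D25654)) (tt N11391 F52665))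
theorem Q15377 : ∀ i, i < 15377 → P i := stepQ 15376 Q15376 (allL N15376 (tt N15418 (iv F52716)) (tt N19021 D29361) (tt N19019 (iv F63184)) (tt N15521 (iv F52938)) (tt N11142 F52666) (tt N11141 (iv D25655)) (tt N15403 (iv F52699)))
theorem Q15378 : ∀ i, i < 15378 → P i := stepQ 15377 Q15377 (allL N15377 (tt N19022 D29362) (tt N11142 (iv D25656)) (tt N19023 D29363) (tt N11143 F52667) (tt N19021 (iv F63188)) (tt N18993 (iv F63128)) (tt N19014 (iv F63171)))
theorem Q15379 : ∀ i, i < 15379 → P i := stepQ 15378 Q15378 (allL N15378 (tt N11143 (iv D25657)) (tt N19024 D29364) (tt N19025 D29365) (tt N19022 (iv F63189)) (tt N15526 (iv F52951)) (tt N15371 F52729) (tt N19011 (iv F63168)))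
theorem Q15380 : ∀ i, i < 15380 → P i := stepQ 15379 Q15379 (allL N15379 (tt N19025 (iv F63191)) (tt N11145 F52668) (tt N11143 (iv D25658)) (tt N19026 D29366) (tt N15527 (iv F52954)) (tt N18994 (iv F63130)) (tt N19003 (iv F63150)))
theorem Q15381 : ∀ i, i < 15381 → P i := stepQ 15380 Q15380 (allL N15380 (tt N11145 F52669) (tt N19027 D29367) (tt N11144 (iv D25660)) (tt N19028 D29368) (tt N15528 (iv F52956)) (tt N11147 F52670) (tt N15390 (iv F52683)))
theorem Q15382 : ∀ i, i < 15382 → P i := stepQ 15381 Q15381 (allL N15381 (tt N19028 (iv F63198)) (tt N19026 (iv F63193)) (tt N18434 F61581) (tt N11145 (iv D25661)) (tt N18439 (iv F61591)) (tt N11149 F52671) (tt N19029 D29369))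
theorem Q15383 : ∀ i, i < 15383 → P i := stepQ 15382 Q15382 (allL N15382 (tt N15390 (iv F52681)) (tt N19030 D29370) (tt N11146 F52672) (tt N19029 (iv F63203)) (tt N15530 (iv F52963)) (tt N15385 (iv F52678)) (tt N11145 (iv D25662)))
theorem Q15384 : ∀ i, i < 15384 → P i := stepQ 15383 Q15383 (allL N15383 (tt N18810 (iv F62629)) (tt N11147 (iv D25663)) (tt N17999 (iv F60318)) (tt N19031 D29371) (tt N15042 F52673) (tt N19032 D29372) (tt N18808 F62626))
theorem Q15385 : ∀ i, i < 15385 → P i := stepQ 15384 Q15384 (allL N15384 (tt N11149 F52674) (tt N19031 (iv F63206)) (tt N15683 (iv F53370)) (tt N11147 (iv D25664)) (tt N16711 (iv F56358)) (tt N19028 (iv F63200)) (tt N19033 D29373))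
theorem Q15386 : ∀ i, i < 15386 → P i := stepQ 15385 Q15385 (allL N15385 (tt N11150 F52675) (tt N19034 D29374) (tt N11148 F52676) (tt N19033 (iv F63215)) (tt N15181 F52677) (tt N15382 F52678) (tt N11147 (iv D25665)))
theorem Q15387 : ∀ i, i < 15387 → P i := stepQ 15386 Q15386 (allL N15386 (tt N15683 (iv F53369)) (tt N14687 F53353) (tt N11149 (iv D25666)) (tt N15679 (iv F53352)) (tt N14689 (iv F53354)) (tt N18434 (iv F61579)) (tt N19035 D29375))
theorem Q15388 : ∀ i, i < 15388 → P i := stepQ 15387 Q15387 (allL N15387 (tt N16711 (iv F56357)) (tt N18998 (iv F63139)) (tt N14689 F53355) (tt N16709 (iv F56351)) (tt N11149 (iv D25667)) (tt N18439 (iv F61592)) (tt N19036 D29376))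
theorem Q15389 : ∀ i, i < 15389 → P i := stepQ 15388 Q15388 (allL N15388 (tt N19033 (iv F63214)) (tt N18267 (iv F61048)) (tt N19035 (iv F63219)) (tt N11150 F52679) (tt N19036 (iv F63222)) (tt N18281 (iv F61076)) (tt N11149 (iv D25668)))
theorem Q15390 : ∀ i, i < 15390 → P i := stepQ 15389 Q15389 (allL N15389 (tt N19037 D29377) (tt N11150 (iv D25669)) (tt N15149 F52680) (tt N18267 F61040) (tt N18207 (iv F60884)) (tt N18266 (iv F61049)) (tt N18256 (iv F61019)))
theorem Q15391 : ∀ i, i < 15391 → P i := stepQ 15390 Q15390 (allL N15390 (tt N15382 F52681) (tt N18280 (iv F61073)) (tt N11151 F52682) (tt N18281 (iv F61075)) (tt N18208 (iv F60888)) (tt N11150 (iv D25670)) (tt N15380 F52683))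
theorem Q15392 : ∀ i, i < 15392 → P i := stepQ 15391 Q15391 (allL N15391 (tt N18645 (iv F62264)) (tt N16999 (iv F57241)) (tt N11152 (iv D25671)) (tt N19038 D29378) (tt N15470 (iv F52838)) (tt N11161 F52684) (tt N15052 F52685))
theorem Q15393 : ∀ i, i < 15393 → P i := stepQ 15392 Q15392 (allL N15392 (tt N15392 F52686) (tt N11154 (iv D25672)) (tt N15496 (iv F52888)) (tt N19039 D29379) (tt N15496 (iv F52889)) (tt N15496 (iv F52894)) (tt N15496 (iv F52898)))
theorem Q15394 : ∀ i, i < 15394 → P i := stepQ 15393 Q15393 (allL N15393 (tt N11155 F52687) (tt N19039 (iv F63228)) (tt N19040 D29380) (tt N11154 (iv D25673)) (tt N19041 D29381) (tt N19042 D29382) (tt N19043 D29383))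
theorem Q15395 : ∀ i, i < 15395 → P i := stepQ 15394 Q15394 (allL N15394 (tt N11156 F52688) (tt N15498 F52893) (tt N17010 (iv F57272)) (tt N19042 (iv F63234)) (tt N15498 (iv F52892)) (tt N11154 (iv D25674)) (tt N15402 (iv F52696)))
theorem Q15396 : ∀ i, i < 15396 → P i := stepQ 15395 Q15395 (allL N15395 (tt N11157 F52689) (tt N15499 F52897) (tt N17011 (iv F57278)) (tt N19043 (iv F63237)) (tt N15499 (iv F52896)) (tt N15401 (iv F52694)) (tt N11154 (iv D25675)))
theorem Q15397 : ∀ i, i < 15397 → P i := stepQ 15396 Q15396 (allL N15396 (tt N19040 (iv F63229)) (tt N15746 (iv F53519)) (tt N11155 (iv D25676)) (tt N19044 D29384) (tt N19045 D29385) (tt N19046 D29386) (tt N19047 D29387))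
theorem Q15398 : ∀ i, i < 15398 → P i := stepQ 15397 Q15397 (allL N15397 (tt N19041 (iv F63232)) (tt N11158 F52690) (tt N19045 (iv F63243)) (tt N15501 (iv F52900)) (tt N11155 (iv D25677)) (tt N19048 D29388) (tt N19049 D29389))
theorem Q15399 : ∀ i, i < 15399 → P i := stepQ 15398 Q15398 (allL N15398 (tt N19042 (iv F63233)) (tt N19050 D29390) (tt N19046 (iv F63244)) (tt N11156 F52691) (tt N19048 (iv F63248)) (tt N11155 (iv D25678)) (tt N19051 D29391))
theorem Q15400 : ∀ i, i < 15400 → P i := stepQ 15399 Q15399 (allL N15399 (tt N19043 (iv F63235)) (tt N19015 (iv F63173)) (tt N19047 (iv F63246)) (tt N11157 F52692) (tt N19049 (iv F63249)) (tt N19052 D29392) (tt N11155 (iv D25679)))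
theorem Q15401 : ∀ i, i < 15401 → P i := stepQ 15400 Q15400 (allL N15400 (tt N15422 (iv F52727)) (tt N11156 (iv D25680)) (tt N19053 D29393) (tt N19050 (iv F63250)) (tt N15474 (iv F52849)) (tt N11160 F52693) (tt N15423 (iv F52731)))
theorem Q15402 : ∀ i, i < 15402 → P i := stepQ 15401 Q15401 (allL N15401 (tt N15402 (iv F52695)) (tt N19054 D29394) (tt N17012 (iv F57282)) (tt N19051 (iv F63252)) (tt N15504 (iv F52903)) (tt N15395 F52694) (tt N11156 (iv D25681)))
theorem Q15403 : ∀ i, i < 15403 → P i := stepQ 15402 Q15402 (allL N15402 (tt N15401 F52695) (tt N19055 D29395) (tt N16891 F56947) (tt N19052 (iv F63255)) (tt N15506 (iv F52908)) (tt N11157 (iv D25682)) (tt N15394 F52696))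
theorem Q15404 : ∀ i, i < 15404 → P i := stepQ 15403 Q15403 (allL N15403 (tt N11165 F52697) (tt N19056 D29396) (tt N15757 (iv F53537)) (tt N15476 (iv F52853)) (tt N11159 F52698) (tt N11158 (iv D25683)) (tt N15376 F52699))
theorem Q15405 : ∀ i, i < 15405 → P i := stepQ 15404 Q15404 (allL N15404 (tt N19057 D29397) (tt N11159 (iv D25684)) (tt N19058 D29398) (tt N11160 F52700) (tt N19056 (iv F63259)) (tt N19050 (iv F63251)) (tt N19059 D29399))
theorem Q15406 : ∀ i, i < 15406 → P i := stepQ 15405 Q15405 (allL N15405 (tt N11160 (iv D25685)) (tt N15472 (iv F52843)) (tt N19060 D29400) (tt N19057 (iv F63260)) (tt N15472 (iv F52844)) (tt N15422 F52726) (tt N19061 D29401))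
theorem Q15407 : ∀ i, i < 15407 → P i := stepQ 15406 Q15406 (allL N15406 (tt N19060 (iv F63271)) (tt N11161 F52701) (tt N11160 (iv D25686)) (tt N19062 D29402) (tt N15468 (iv F52836)) (tt N19053 (iv F63257)) (tt N19063 D29403))
theorem Q15408 : ∀ i, i < 15408 → P i := stepQ 15407 Q15407 (allL N15407 (tt N19061 (iv F63272)) (tt N15370 (iv F52724)) (tt N19063 (iv F63275)) (tt N19059 (iv F63269)) (tt N15475 (iv F52850)) (tt N11169 (iv F52723)) (tt N11160 (iv D25687)))
theorem Q15409 : ∀ i, i < 15409 → P i := stepQ 15408 Q15408 (allL N15408 (tt N18644 (iv F62261)) (tt N19062 (iv F63274)) (tt N19064 D29404) (tt N11161 (iv D25688)) (tt N19065 D29405) (tt N19038 (iv F63225)) (tt N18643 (iv F62259)))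
theorem Q15410 : ∀ i, i < 15410 → P i := stepQ 15409 Q15409 (allL N15409 (tt N11162 (iv D25689)) (tt N19066 D29406) (tt N15409 F52703) (tt N15728 (iv F53485)) (tt N19067 D29407) (tt N19068 D29408) (tt N15515 (iv F64366)))
theorem Q15411 : ∀ i, i < 15411 → P i := stepQ 15410 Q15410 (allL N15410 (tt N19067 (iv F63283)) (tt N11163 F52704) (tt N15410 F52705) (tt N19069 D29410) (tt N11162 (iv D25690)) (tt N19070 D29411) (tt N19071 D29412))
theorem Q15412 : ∀ i, i < 15412 → P i := stepQ 15411 Q15411 (allL N15411 (tt N19068 (iv F63285)) (tt N19072 D29413) (tt N15411 F52706) (tt N15730 (iv F53487)) (tt N19070 (iv F63293)) (tt N11162 (iv D25691)) (tt N11231 (iv F64358)))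
theorem Q15413 : ∀ i, i < 15413 → P i := stepQ 15412 Q15412 (allL N15412 (tt N15515 (iv F64365)) (tt N19017 (iv F63178)) (tt N15412 F52707) (tt N15731 (iv F53488)) (tt N19071 (iv F63295)) (tt N15513 F64364) (tt N11162 (iv D25692)))
theorem Q15414 : ∀ i, i < 15414 → P i := stepQ 15413 Q15413 (allL N15413 (tt N15756 (iv F53534)) (tt N19069 (iv F63291)) (tt N19073 D29416) (tt N11163 (iv D25693)) (tt N15732 (iv F53490)) (tt N19074 D29417) (tt N19018 (iv F63183)))
theorem Q15415 : ∀ i, i < 15415 → P i := stepQ 15414 Q15414 (allL N15414 (tt N15757 (iv F53536)) (tt N19075 D29418) (tt N11165 F52708) (tt N19074 (iv F63303)) (tt N11164 F52709) (tt N11163 (iv D25694)) (tt N19076 D29419))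
theorem Q15416 : ∀ i, i < 15416 → P i := stepQ 15415 Q15415 (allL N15415 (tt N19077 D29420) (tt N11164 (iv D25695)) (tt N19078 D29421) (tt N15734 (iv F53495)) (tt N19075 (iv F63304)) (tt N19072 (iv F63296)) (tt N19079 D29422))
theorem Q15417 : ∀ i, i < 15417 → P i := stepQ 15416 Q15416 (allL N15416 (tt N15375 F52710) (tt N19080 D29423) (tt N11167 F52711) (tt N11336 F52712) (tt N19076 (iv F63307)) (tt N11334 F52713) (tt N11164 (iv D25696)))
theorem Q15418 : ∀ i, i < 15418 → P i := stepQ 15417 Q15417 (allL N15417 (tt N15459 (iv F52809)) (tt N11165 (iv D25697)) (tt N19081 D29424) (tt N15459 (iv F52811)) (tt N11166 F52714) (tt N15417 F52715) (tt N19082 D29425))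
theorem Q15419 : ∀ i, i < 15419 → P i := stepQ 15418 Q15418 (allL N15418 (tt N15376 F52716) (tt N19083 D29426) (tt N19076 (iv F63306)) (tt N15480 (iv F52860)) (tt N11167 F52717) (tt N15372 F52718) (tt N11165 (iv D25698)))
theorem Q15420 : ∀ i, i < 15420 → P i := stepQ 15419 Q15419 (allL N15419 (tt N15458 (iv F52807)) (tt N19078 (iv F63310)) (tt N11166 (iv D25699)) (tt N15763 (iv F63092)) (tt N19081 (iv F63318)) (tt N15419 F52719) (tt N15758 F63091))
theorem Q15421 : ∀ i, i < 15421 → P i := stepQ 15420 Q15420 (allL N15420 (tt N15460 (iv F52813)) (tt N19058 (iv F63261)) (tt N15758 (iv F63090)) (tt N11168 F52720) (tt N19082 (iv F63320)) (tt N15460 (iv F52815)) (tt N11166 (iv D25700)))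
theorem Q15422 : ∀ i, i < 15422 → P i := stepQ 15421 Q15421 (allL N15421 (tt N19084 D29427) (tt N11167 (iv D25701)) (tt N19059 (iv F63268)) (tt N11169 F52721) (tt N19083 (iv F63321)) (tt N19059 (iv F63270)) (tt N19058 F63263))
theorem Q15423 : ∀ i, i < 15423 → P i := stepQ 15422 Q15422 (allL N15422 (tt N15400 F52727) (tt N11168 (iv D25702)) (tt N19085 D29428) (tt N19058 F63262) (tt N15461 (iv F52816)) (tt N15405 (iv F52726)) (tt N11169 F52722))
theorem Q15424 : ∀ i, i < 15424 → P i := stepQ 15423 Q15423 (allL N15423 (tt N11169 (iv D25703)) (tt N19086 D29429) (tt N19087 D29430) (tt N19084 (iv F63322)) (tt N15482 (iv F52863)) (tt N19061 (iv F63273)) (tt N15400 F52731))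
theorem Q15425 : ∀ i, i < 15425 → P i := stepQ 15424 Q15424 (allL N15424 (tt N19087 (iv F63329)) (tt N11171 F52732) (tt N11169 (iv D25704)) (tt N19088 D29431) (tt N15483 (iv F52866)) (tt N19063 F63276) (tt N19085 (iv F63327)))
theorem Q15426 : ∀ i, i < 15426 → P i := stepQ 15425 Q15425 (allL N15425 (tt N11171 F52733) (tt N18957 (iv F63010)) (tt N11170 (iv D25705)) (tt N12871 F52735) (tt N15484 (iv F52868)) (tt N18233 (iv F60951)) (tt N12876 F52734))
theorem Q15427 : ∀ i, i < 15427 → P i := stepQ 15426 Q15426 (allL N15426 (tt N12871 F52736) (tt N19088 (iv F63331)) (tt N12870 F52737) (tt N11171 (iv D25706)) (tt N19089 D29432) (tt N16922 (iv F57033)) (tt N12874 F52738))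
theorem Q15428 : ∀ i, i < 15428 → P i := stepQ 15427 Q15427 (allL N15427 (tt N18233 (iv F60947)) (tt N19090 D29433) (tt N11172 F52739) (tt N16922 (iv F57032)) (tt N15486 (iv F52872)) (tt N11171 (iv D25707)) (tt N15215 F52740))
theorem Q15429 : ∀ i, i < 15429 → P i := stepQ 15428 Q15428 (allL N15428 (tt N11174 F52741) (tt N19091 D29434) (tt N11173 (iv D25708)) (tt N19092 D29435) (tt N15164 F52742) (tt N11185 F52743) (tt N14256 F52744))
theorem Q15430 : ∀ i, i < 15430 → P i := stepQ 15429 Q15429 (allL N15429 (tt N19092 (iv F63339)) (tt N16996 (iv F57235)) (tt N19093 D29436) (tt N11174 (iv D25709)) (tt N19094 D29437) (tt N11186 F52745) (tt N19095 D29438))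
theorem Q15431 : ∀ i, i < 15431 → P i := stepQ 15430 Q15430 (allL N15430 (tt N14256 F52746) (tt N19096 D29439) (tt N11175 F52747) (tt N19095 (iv F63345)) (tt N13786 F52748) (tt N15326 F52749) (tt N11174 (iv D25710)))
theorem Q15432 : ∀ i, i < 15432 → P i := stepQ 15431 Q15431 (allL N15431 (tt N14247 F52750) (tt N12946 F52751) (tt N11176 (iv D25711)) (tt N19097 D29440) (tt N13773 F52752) (tt N18023 (iv F60369)) (tt N13772 F52753))
theorem Q15433 : ∀ i, i < 15433 → P i := stepQ 15432 Q15432 (allL N15432 (tt N18230 (iv F60938)) (tt N16993 (iv F57226)) (tt N11178 (iv D25712)) (tt N19098 D29441) (tt N15457 (iv F52805)) (tt N11182 F52754) (tt N18231 (iv F60944)))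
theorem Q15434 : ∀ i, i < 15434 → P i := stepQ 15433 Q15433 (allL N15433 (tt N19099 D29442) (tt N11179 (iv D25713)) (tt N19100 D29443) (tt N11183 F52755) (tt N11180 F52756) (tt N14433 F52757) (tt N11180 F52758))
theorem Q15435 : ∀ i, i < 15435 → P i := stepQ 15434 Q15434 (allL N15434 (tt N11180 (iv D25714)) (tt N15464 F52826) (tt N19101 D29444) (tt N11181 F52759) (tt N19099 (iv F63355)) (tt N18227 (iv F60932)) (tt N19099 (iv F63357)))
theorem Q15436 : ∀ i, i < 15436 → P i := stepQ 15435 Q15435 (allL N15435 (tt N19101 (iv F63363)) (tt N15844 (iv F53751)) (tt N11180 (iv D25715)) (tt N19102 D29445) (tt N19100 (iv F63359)) (tt N18793 (iv F62599)) (tt N19100 (iv F63361)))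
theorem Q15437 : ∀ i, i < 15437 → P i := stepQ 15436 Q15436 (allL N15436 (tt N11182 F52760) (tt N19103 D29446) (tt N11181 (iv D25716)) (tt N19104 D29447) (tt N18209 (iv F60891)) (tt N18230 (iv F60940)) (tt N19105 D29448))
theorem Q15438 : ∀ i, i < 15438 → P i := stepQ 15437 Q15437 (allL N15437 (tt N11183 F52761) (tt N19099 (iv F63353)) (tt N19105 (iv F63368)) (tt N19099 (iv F63354)) (tt N15464 (iv F52824)) (tt N14435 F52762) (tt N11181 (iv D25717)))
theorem Q15439 : ∀ i, i < 15439 → P i := stepQ 15438 Q15438 (allL N15438 (tt N19104 (iv F63366)) (tt N11186 F52763) (tt N19106 D29449) (tt N11182 (iv D25718)) (tt N19107 D29450) (tt N19098 (iv F63352)) (tt N19108 D29451))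
theorem Q15440 : ∀ i, i < 15440 → P i := stepQ 15439 Q15439 (allL N15439 (tt N19105 (iv F63367)) (tt N19109 D29452) (tt N11183 F52764) (tt N19108 (iv F63371)) (tt N15466 (iv F52829)) (tt N14436 (iv F52765)) (tt N11182 (iv D25719)))
theorem Q15441 : ∀ i, i < 15441 → P i := stepQ 15440 Q15440 (allL N15440 (tt N11186 F52766) (tt N18644 F62263) (tt N15832 (iv F53716)) (tt N11185 (iv D25720)) (tt N19110 D29453) (tt N19092 (iv F63340)) (tt N18957 (iv F63011)))
theorem Q15442 : ∀ i, i < 15442 → P i := stepQ 15441 Q15441 (allL N15441 (tt N15832 (iv F53715)) (tt N19111 D29454) (tt N11186 (iv D25721)) (tt N15829 (iv F53712)) (tt N19112 D29455) (tt N19093 (iv F63342)) (tt N19113 D29456))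
theorem Q15443 : ∀ i, i < 15443 → P i := stepQ 15442 Q15442 (allL N15442 (tt N19110 (iv F63377)) (tt N19107 (iv F63370)) (tt N19112 (iv F63378)) (tt N18211 (iv F60895)) (tt N11186 (iv D25722)) (tt N19094 (iv F63343)) (tt N19114 D29457))
theorem Q15444 : ∀ i, i < 15444 → P i := stepQ 15443 Q15443 (allL N15443 (tt N18957 (iv F63009)) (tt N19115 D29458) (tt N19113 (iv F63379)) (tt N11187 F52767) (tt N19114 (iv F63385)) (tt N18034 (iv F60396)) (tt N11186 (iv D25723)))
theorem Q15445 : ∀ i, i < 15445 → P i := stepQ 15444 Q15444 (allL N15444 (tt N19116 D29459) (tt N11187 (iv D25724)) (tt N15196 F52768) (tt N19115 (iv F63387)) (tt N18212 (iv F60899)) (tt N19117 D29460) (tt N19109 (iv F63376)))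
theorem Q15446 : ∀ i, i < 15446 → P i := stepQ 15445 Q15445 (allL N15445 (tt N11190 F52769) (tt N16878 (iv F56905)) (tt N15445 F52770) (tt N12822 F52771) (tt N15448 (iv F52784)) (tt N11188 (iv D25725)) (tt N15446 (iv F52775)))
theorem Q15447 : ∀ i, i < 15447 → P i := stepQ 15446 Q15446 (allL N15446 (tt N15448 (iv F52781)) (tt N12923 (iv F52776)) (tt N15446 F52772) (tt N12982 F52773) (tt N11190 F52774) (tt N11189 (iv D25726)) (tt N15445 F52775))
theorem Q15448 : ∀ i, i < 15448 → P i := stepQ 15447 Q15447 (allL N15447 (tt N12549 (iv F52780)) (tt N11190 (iv D25727)) (tt N19118 D29461) (tt N12555 F52777) (tt N12923 F52778) (tt N11192 F52779) (tt N16930 (iv F57053)))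
theorem Q15449 : ∀ i, i < 15449 → P i := stepQ 15448 Q15448 (allL N15448 (tt N15446 F52781) (tt N16973 (iv F57165)) (tt N15448 F52782) (tt N14879 F52783) (tt N15445 F52784) (tt N14878 F52785) (tt N11190 (iv D25728)))
theorem Q15450 : ∀ i, i < 15450 → P i := stepQ 15449 Q15449 (allL N15449 (tt N12925 F52789) (tt N11191 (iv D25729)) (tt N19119 D29462) (tt N12984 F52786) (tt N11192 F52787) (tt N12923 F52788) (tt N16969 (iv F57160)))
theorem Q15451 : ∀ i, i < 15451 → P i := stepQ 15450 Q15450 (allL N15450 (tt N11192 (iv D25730)) (tt N16698 (iv F56316)) (tt N19120 D29463) (tt N12557 F52790) (tt N12925 F52791) (tt N12549 F52792) (tt N12885 (iv F52793)))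
theorem Q15452 : ∀ i, i < 15452 → P i := stepQ 15451 Q15451 (allL N15451 (tt N19120 (iv F63401)) (tt N11194 F52794) (tt N11192 (iv D25731)) (tt N19121 D29464) (tt N19119 (iv F63399)) (tt N19118 (iv F63396)) (tt N19122 D29465))
theorem Q15453 : ∀ i, i < 15453 → P i := stepQ 15452 Q15452 (allL N15452 (tt N12885 F52795) (tt N15348 F52796) (tt N19122 (iv F63413)) (tt N12914 F52797) (tt N16969 (iv F57159)) (tt N15217 F52798) (tt N11192 (iv D25732)))
theorem Q15454 : ∀ i, i < 15454 → P i := stepQ 15453 Q15453 (allL N15453 (tt N18223 (iv F60918)) (tt N19119 (iv F63398)) (tt N11193 (iv D25733)) (tt N19123 D29466) (tt N11194 F52799) (tt N15453 F52800) (tt N19124 D29467))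
theorem Q15455 : ∀ i, i < 15455 → P i := stepQ 15454 Q15454 (allL N15454 (tt N18224 (iv F60921)) (tt N14435 F52801) (tt N19124 (iv F63420)) (tt N18224 (iv F60922)) (tt N11195 F52802) (tt N18224 (iv F60924)) (tt N11193 (iv D25734)))
theorem Q15456 : ∀ i, i < 15456 → P i := stepQ 15455 Q15455 (allL N15455 (tt N18225 (iv F60925)) (tt N19121 (iv F63408)) (tt N15763 F63088) (tt N11194 (iv D25735)) (tt N19125 D29468) (tt N15455 F52803) (tt N14581 F63089))
theorem Q15457 : ∀ i, i < 15457 → P i := stepQ 15456 Q15456 (allL N15456 (tt N18226 (iv F60927)) (tt N14580 F63083) (tt N11195 F52804) (tt N14581 F63084) (tt N19124 (iv F63421)) (tt N18226 (iv F60929)) (tt N11194 (iv D25736)))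
theorem Q15458 : ∀ i, i < 15458 → P i := stepQ 15457 Q15457 (allL N15457 (tt N15462 (iv F52818)) (tt N18896 (iv F62830)) (tt N11196 (iv D25737)) (tt N19126 D29469) (tt N15432 F52805) (tt N14419 F52806) (tt N15463 (iv F52821)))
theorem Q15459 : ∀ i, i < 15459 → P i := stepQ 15458 Q15458 (allL N15458 (tt N15419 F52807) (tt N19127 D29470) (tt N11197 (iv D25738)) (tt N19128 D29471) (tt N19129 D29472) (tt N15458 F52808) (tt N19130 D29473))
theorem Q15460 : ∀ i, i < 15460 → P i := stepQ 15459 Q15459 (allL N15459 (tt N15417 F52809) (tt N11210 F52810) (tt N19129 (iv F63439)) (tt N15417 F52811) (tt N11197 (iv D25739)) (tt N15459 F52812) (tt N19131 D29474))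
theorem Q15461 : ∀ i, i < 15461 → P i := stepQ 15460 Q15460 (allL N15460 (tt N15420 F52813) (tt N19132 D29475) (tt N19130 (iv F63442)) (tt N11198 F52814) (tt N19131 (iv F63448)) (tt N15420 F52815) (tt N11197 (iv D25740)))
theorem Q15462 : ∀ i, i < 15462 → P i := stepQ 15461 Q15461 (allL N15461 (tt N15474 (iv F52847)) (tt N11198 (iv D25741)) (tt N19133 D29476) (tt N19132 (iv F63450)) (tt N15422 F52816) (tt N15472 F52845) (tt N11212 F52817))
theorem Q15463 : ∀ i, i < 15463 → P i := stepQ 15462 Q15462 (allL N15462 (tt N15457 F52818) (tt N19133 (iv F63452)) (tt N11199 (iv D25742)) (tt N19134 D29477) (tt N18230 (iv F60939)) (tt N18209 (iv F60892)) (tt N11201 F52819))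
theorem Q15464 : ∀ i, i < 15464 → P i := stepQ 15463 Q15463 (allL N15463 (tt N11201 F52820) (tt N18334 F63082) (tt N11200 (iv D25743)) (tt N18333 (iv F63085)) (tt N18231 (iv F60943)) (tt N19135 D29478) (tt N15457 F52821))
theorem Q15465 : ∀ i, i < 15465 → P i := stepQ 15464 Q15464 (allL N15464 (tt N11202 F52822) (tt N15434 (iv F52826)) (tt N19135 (iv F63458)) (tt N14418 F52823) (tt N15437 F52824) (tt N11200 (iv D25744)) (tt N14418 F52825))
theorem Q15466 : ∀ i, i < 15466 → P i := stepQ 15465 Q15465 (allL N15465 (tt N18333 F63086) (tt N11218 F52827) (tt N19136 D29479) (tt N11201 (iv D25745)) (tt N19137 D29480) (tt N19138 D29481) (tt N19134 (iv F63456)))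
theorem Q15467 : ∀ i, i < 15467 → P i := stepQ 15466 Q15466 (allL N15466 (tt N19135 (iv F63457)) (tt N18313 (iv F61178)) (tt N11202 F52828) (tt N19138 (iv F63465)) (tt N15439 F52829) (tt N11201 (iv D25746)) (tt N14419 F52830))
theorem Q15468 : ∀ i, i < 15468 → P i := stepQ 15467 Q15467 (allL N15467 (tt N11204 F52831) (tt N14420 F52832) (tt N11203 (iv D25747)) (tt N19139 D29482) (tt N15055 F52833) (tt N18744 (iv F62519)) (tt N14206 F52834))
theorem Q15469 : ∀ i, i < 15469 → P i := stepQ 15468 Q15468 (allL N15468 (tt N19140 D29483) (tt N11204 (iv D25748)) (tt N11207 F52835) (tt N19141 D29484) (tt N15406 F52836) (tt N19142 D29485) (tt N19143 D29486))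
theorem Q15470 : ∀ i, i < 15470 → P i := stepQ 15469 Q15469 (allL N15469 (tt N19139 (iv F63467)) (tt N19141 (iv F63473)) (tt N19144 D29487) (tt N11204 (iv D25749)) (tt N19145 D29488) (tt N19146 D29489) (tt N19147 D29490))
theorem Q15471 : ∀ i, i < 15471 → P i := stepQ 15470 Q15470 (allL N15470 (tt N18744 (iv F62516)) (tt N16988 (iv F57209)) (tt N11205 F52837) (tt N19146 (iv F63486)) (tt N15391 F52838) (tt N11204 (iv D25750)) (tt N17964 (iv F60228)))
theorem Q15472 : ∀ i, i < 15472 → P i := stepQ 15471 Q15471 (allL N15471 (tt N14206 F52839) (tt N19148 D29491) (tt N11206 F52840) (tt N19147 (iv F63489)) (tt N15053 F52841) (tt N15155 (iv F52842)) (tt N11204 (iv D25751)))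
theorem Q15473 : ∀ i, i < 15473 → P i := stepQ 15472 Q15472 (allL N15472 (tt N11207 (iv D25752)) (tt N15405 F52843) (tt N19140 (iv F63470)) (tt N19149 D29492) (tt N15405 F52844) (tt N15461 (iv F52845)) (tt N19150 D29493))
theorem Q15474 : ∀ i, i < 15474 → P i := stepQ 15473 Q15473 (allL N15473 (tt N19149 (iv F63493)) (tt N11208 F52846) (tt N19151 D29494) (tt N11207 (iv D25753)) (tt N19152 D29495) (tt N19153 D29496) (tt N19154 D29497))
theorem Q15475 : ∀ i, i < 15475 → P i := stepQ 15474 Q15474 (allL N15474 (tt N15461 F52847) (tt N11225 F52848) (tt N19142 (iv F63476)) (tt N19153 (iv F63503)) (tt N15400 F52849) (tt N11207 (iv D25754)) (tt N15482 (iv F52864)))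
theorem Q15476 : ∀ i, i < 15476 → P i := stepQ 15475 Q15475 (allL N15475 (tt N19150 (iv F63496)) (tt N15511 (iv F52919)) (tt N19143 (iv F63478)) (tt N19154 (iv F63504)) (tt N15407 F52850) (tt N11212 F52851) (tt N11207 (iv D25755)))
theorem Q15477 : ∀ i, i < 15477 → P i := stepQ 15476 Q15476 (allL N15476 (tt N11210 F52852) (tt N19152 (iv F63499)) (tt N15892 (iv F53897)) (tt N15403 F52853) (tt N11208 (iv D25756)) (tt N11227 F52854) (tt N15521 (iv F52940)))
theorem Q15478 : ∀ i, i < 15478 → P i := stepQ 15477 Q15477 (allL N15477 (tt N15663 F61758) (tt N11209 (iv D25757)) (tt N19127 (iv F63430)) (tt N15656 (iv F61757)) (tt N19018 (iv F63182)) (tt N19155 D29498) (tt N15732 F61759))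
theorem Q15479 : ∀ i, i < 15479 → P i := stepQ 15478 Q15478 (allL N15478 (tt N15892 (iv F53896)) (tt N19018 (iv F63181)) (tt N11210 F52855) (tt N19016 (iv F63176)) (tt N11209 (iv D25758)) (tt N11232 F52856) (tt N19156 D29499))
theorem Q15480 : ∀ i, i < 15480 → P i := stepQ 15479 Q15479 (allL N15479 (tt N15519 (iv F52929)) (tt N19157 D29500) (tt N11211 F52857) (tt N11554 F52858) (tt N19156 (iv F63510)) (tt N11550 F52859) (tt N11209 (iv D25759)))
theorem Q15481 : ∀ i, i < 15481 → P i := stepQ 15480 Q15480 (allL N15480 (tt N15521 (iv F52937)) (tt N19158 D29501) (tt N19156 (iv F63509)) (tt N15418 F52860) (tt N11211 F52861) (tt N15507 (iv F52913)) (tt N11210 (iv D25760)))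
theorem Q15482 : ∀ i, i < 15482 → P i := stepQ 15481 Q15481 (allL N15481 (tt N19159 D29502) (tt N11211 (iv D25761)) (tt N19160 D29503) (tt N11212 F52862) (tt N19158 (iv F63514)) (tt N19154 (iv F63505)) (tt N19132 (iv F63451)))
theorem Q15483 : ∀ i, i < 15483 → P i := stepQ 15482 Q15482 (allL N15482 (tt N11212 (iv D25762)) (tt N19161 D29504) (tt N19162 D29505) (tt N19159 (iv F63515)) (tt N15423 F52863) (tt N19150 (iv F63498)) (tt N15474 F52864))
theorem Q15484 : ∀ i, i < 15484 → P i := stepQ 15483 Q15483 (allL N15483 (tt N19162 (iv F63518)) (tt N11214 F52865) (tt N11212 (iv D25763)) (tt N19163 D29506) (tt N15424 F52866) (tt N19143 (iv F63480)) (tt N19133 (iv F63454)))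
theorem Q15485 : ∀ i, i < 15485 → P i := stepQ 15484 Q15484 (allL N15484 (tt N11214 F52867) (tt N19164 D29507) (tt N11213 (iv D25764)) (tt N19165 D29508) (tt N15425 F52868) (tt N15494 (iv F52883)) (tt N11216 F52869))
theorem Q15486 : ∀ i, i < 15486 → P i := stepQ 15485 Q15485 (allL N15485 (tt N19165 (iv F63526)) (tt N19163 (iv F63521)) (tt N18371 F61429) (tt N11214 (iv D25765)) (tt N18374 (iv F61435)) (tt N19166 D29509) (tt N11218 F52870))
theorem Q15487 : ∀ i, i < 15487 → P i := stepQ 15486 Q15486 (allL N15486 (tt N15494 (iv F52881)) (tt N19167 D29510) (tt N11215 F52871) (tt N19166 (iv F63531)) (tt N15427 F52872) (tt N11214 (iv D25766)) (tt N15489 (iv F52878)))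
theorem Q15488 : ∀ i, i < 15488 → P i := stepQ 15487 Q15487 (allL N15487 (tt N18758 (iv F62542)) (tt N11216 (iv D25767)) (tt N17991 (iv F60292)) (tt N19168 D29511) (tt N15054 F52873) (tt N18757 (iv F62541)) (tt N19169 D29512))
theorem Q15489 : ∀ i, i < 15489 → P i := stepQ 15488 Q15488 (allL N15488 (tt N11218 F52874) (tt N19168 (iv F63535)) (tt N15913 (iv F53962)) (tt N11216 (iv D25768)) (tt N16702 (iv F56331)) (tt N19170 D29513) (tt N19165 (iv F63529)))
theorem Q15490 : ∀ i, i < 15490 → P i := stepQ 15489 Q15489 (allL N15489 (tt N11219 F52875) (tt N19171 D29514) (tt N11217 F52876) (tt N19170 (iv F63545)) (tt N15215 F52877) (tt N11216 (iv D25769)) (tt N15486 F52878))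
theorem Q15491 : ∀ i, i < 15491 → P i := stepQ 15490 Q15490 (allL N15490 (tt N15913 (iv F53961)) (tt N14657 F53945) (tt N11218 (iv D25770)) (tt N15909 (iv F53944)) (tt N14659 (iv F53946)) (tt N19172 D29515) (tt N18371 (iv F61359)))
theorem Q15492 : ∀ i, i < 15492 → P i := stepQ 15491 Q15491 (allL N15491 (tt N16702 (iv F56330)) (tt N19137 (iv F63463)) (tt N14659 F53947) (tt N16700 (iv F56324)) (tt N11218 (iv D25771)) (tt N19173 D29516) (tt N18374 (iv F61436)))
theorem Q15493 : ∀ i, i < 15493 → P i := stepQ 15492 Q15492 (allL N15492 (tt N19170 (iv F63544)) (tt N18324 (iv F61206)) (tt N19172 (iv F63549)) (tt N11219 F52879) (tt N19173 (iv F63552)) (tt N11218 (iv D25772)) (tt N18338 (iv F61255)))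
theorem Q15494 : ∀ i, i < 15494 → P i := stepQ 15493 Q15493 (allL N15493 (tt N19174 D29517) (tt N11219 (iv D25773)) (tt N15182 F52880) (tt N18324 F61205) (tt N18232 (iv F60946)) (tt N18313 (iv F61179)) (tt N18323 (iv F61207)))
theorem Q15495 : ∀ i, i < 15495 → P i := stepQ 15494 Q15494 (allL N15494 (tt N15486 F52881) (tt N18337 (iv F61234)) (tt N11220 F52882) (tt N18338 (iv F61254)) (tt N18233 (iv F60950)) (tt N15484 F52883) (tt N11219 (iv D25774)))
theorem Q15496 : ∀ i, i < 15496 → P i := stepQ 15495 Q15495 (allL N15495 (tt N18630 (iv F62225)) (tt N16974 (iv F57169)) (tt N11222 (iv D25775)) (tt N19175 D29518) (tt N15367 F52884) (tt N15040 F52885) (tt N11230 F52886))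
theorem Q15497 : ∀ i, i < 15497 → P i := stepQ 15496 Q15496 (allL N15496 (tt N15496 F52887) (tt N11223 (iv D25776)) (tt N15392 F52888) (tt N19176 D29519) (tt N15392 F52889) (tt N15392 F52894) (tt N15392 F52898))
theorem Q15498 : ∀ i, i < 15498 → P i := stepQ 15497 Q15497 (allL N15497 (tt N11224 F52890) (tt N19176 (iv F63558)) (tt N19177 D29520) (tt N11223 (iv D25777)) (tt N19178 D29521) (tt N19179 D29522) (tt N19180 D29523))
theorem Q15499 : ∀ i, i < 15499 → P i := stepQ 15498 Q15498 (allL N15498 (tt N11225 F52891) (tt N15394 (iv F52893)) (tt N16985 (iv F57196)) (tt N19179 (iv F63569)) (tt N15394 F52892) (tt N11223 (iv D25778)) (tt N15506 (iv F52909)))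
theorem Q15500 : ∀ i, i < 15500 → P i := stepQ 15499 Q15499 (allL N15499 (tt N11226 F52895) (tt N15395 (iv F52897)) (tt N16986 (iv F57199)) (tt N19180 (iv F63572)) (tt N15395 F52896) (tt N15504 (iv F52904)) (tt N11223 (iv D25779)))
theorem Q15501 : ∀ i, i < 15501 → P i := stepQ 15500 Q15500 (allL N15500 (tt N19177 (iv F63561)) (tt N15971 (iv F54110)) (tt N11224 (iv D25780)) (tt N19181 D29524) (tt N19182 D29525) (tt N19183 D29526) (tt N19184 D29527))
theorem Q15502 : ∀ i, i < 15502 → P i := stepQ 15501 Q15501 (allL N15501 (tt N19178 (iv F63564)) (tt N11227 F52899) (tt N19182 (iv F63578)) (tt N15397 F52900) (tt N11224 (iv D25781)) (tt N19185 D29528) (tt N19186 D29529))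
theorem Q15503 : ∀ i, i < 15503 → P i := stepQ 15502 Q15502 (allL N15502 (tt N19179 (iv F63566)) (tt N19153 (iv F63502)) (tt N19183 (iv F63580)) (tt N11225 F52901) (tt N19185 (iv F63584)) (tt N11224 (iv D25782)) (tt N19187 D29530))
theorem Q15504 : ∀ i, i < 15504 → P i := stepQ 15503 Q15503 (allL N15503 (tt N19180 (iv F63570)) (tt N19188 D29531) (tt N19184 (iv F63582)) (tt N11226 F52902) (tt N19186 (iv F63586)) (tt N19189 D29532) (tt N11224 (iv D25783)))
theorem Q15505 : ∀ i, i < 15505 → P i := stepQ 15504 Q15504 (allL N15504 (tt N15506 (iv F52907)) (tt N19190 D29533) (tt N16902 F56982) (tt N19187 (iv F63587)) (tt N15401 F52903) (tt N15499 F52904) (tt N11225 (iv D25784)))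
theorem Q15506 : ∀ i, i < 15506 → P i := stepQ 15505 Q15505 (allL N15505 (tt N15525 (iv F52947)) (tt N11226 (iv D25785)) (tt N19191 D29534) (tt N19188 (iv F63589)) (tt N15371 F52905) (tt N15526 (iv F52952)) (tt N11229 F52906))
theorem Q15507 : ∀ i, i < 15507 → P i := stepQ 15506 Q15506 (allL N15506 (tt N15504 F52907) (tt N19192 D29535) (tt N16987 (iv F57204)) (tt N19189 (iv F63592)) (tt N15402 F52908) (tt N11226 (iv D25786)) (tt N15498 F52909))
theorem Q15508 : ∀ i, i < 15508 → P i := stepQ 15507 Q15507 (allL N15507 (tt N11234 F52910) (tt N19193 D29536) (tt N15982 (iv F54128)) (tt N15372 F52911) (tt N11228 F52912) (tt N15480 F52913) (tt N11227 (iv D25787)))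
theorem Q15509 : ∀ i, i < 15509 → P i := stepQ 15508 Q15508 (allL N15508 (tt N19194 D29537) (tt N11228 (iv D25788)) (tt N19195 D29538) (tt N11229 F52914) (tt N19193 (iv F63602)) (tt N19196 D29539) (tt N19188 (iv F63590)))
theorem Q15510 : ∀ i, i < 15510 → P i := stepQ 15509 Q15509 (allL N15509 (tt N11229 (iv D25789)) (tt N15368 F52915) (tt N19197 D29540) (tt N19194 (iv F63604)) (tt N15368 F52916) (tt N19198 D29541) (tt N15525 (iv F52950)))
theorem Q15511 : ∀ i, i < 15511 → P i := stepQ 15510 Q15510 (allL N15510 (tt N19197 (iv F63615)) (tt N11230 F52917) (tt N11229 (iv D25790)) (tt N19199 D29542) (tt N15364 F52918) (tt N19200 D29543) (tt N19191 (iv F63598)))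
theorem Q15512 : ∀ i, i < 15512 → P i := stepQ 15511 Q15511 (allL N15511 (tt N19198 (iv F63617)) (tt N15475 F52919) (tt N19200 (iv F63621)) (tt N19196 (iv F63613)) (tt N15370 F52920) (tt N11229 (iv D25791)) (tt N11238 (iv F52921)))
theorem Q15513 : ∀ i, i < 15513 → P i := stepQ 15512 Q15512 (allL N15512 (tt N18629 (iv F62222)) (tt N19199 (iv F63620)) (tt N19201 D29544) (tt N11230 (iv D25792)) (tt N19202 D29545) (tt N18628 (iv F62219)) (tt N19175 (iv F63556)))
theorem Q15514 : ∀ i, i < 15514 → P i := stepQ 15513 Q15513 (allL N15513 (tt N11231 (iv D25793)) (tt N19203 D29546) (tt N15513 F52922) (tt N15954 (iv F54076)) (tt N19204 D29547) (tt N15412 (iv F64364)) (tt N19068 F64363))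
theorem Q15515 : ∀ i, i < 15515 → P i := stepQ 15514 Q15514 (allL N15514 (tt N19204 (iv F63632)) (tt N11232 F52923) (tt N15514 F52924) (tt N19205 D29550) (tt N11231 (iv D25794)) (tt N19206 D29551) (tt N19070 (iv F64357)))
theorem Q15516 : ∀ i, i < 15516 → P i := stepQ 15515 Q15515 (allL N15515 (tt N15412 F64365) (tt N19155 (iv F63506)) (tt N15515 F52925) (tt N15956 (iv F54078)) (tt N19206 (iv F63640)) (tt N11231 (iv D25795)) (tt N15409 F64366))
theorem Q15517 : ∀ i, i < 15517 → P i := stepQ 15516 Q15516 (allL N15516 (tt N15981 (iv F54125)) (tt N19205 (iv F63638)) (tt N19207 D29556) (tt N11232 (iv D25797)) (tt N15957 (iv F54081)) (tt N19016 (iv F63177)) (tt N19208 D29557))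
theorem Q15518 : ∀ i, i < 15518 → P i := stepQ 15517 Q15517 (allL N15517 (tt N15982 (iv F54127)) (tt N19209 D29558) (tt N11234 F52927) (tt N19208 (iv F63650)) (tt N11233 F52928) (tt N19210 D29559) (tt N11232 (iv D25798)))
theorem Q15519 : ∀ i, i < 15519 → P i := stepQ 15518 Q15518 (allL N15518 (tt N19211 D29560) (tt N11233 (iv D25799)) (tt N19212 D29561) (tt N15959 (iv F54086)) (tt N19209 (iv F63651)) (tt N19213 D29562) (tt N19072 (iv F64356)))
theorem Q15520 : ∀ i, i < 15520 → P i := stepQ 15519 Q15519 (allL N15519 (tt N15479 F52929) (tt N19214 D29563) (tt N11236 F52930) (tt N11495 F52931) (tt N19210 (iv F63654)) (tt N11233 (iv D25800)) (tt N11493 F52932))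
theorem Q15521 : ∀ i, i < 15521 → P i := stepQ 15520 Q15520 (allL N15520 (tt N15355 (iv F52936)) (tt N11234 (iv D25801)) (tt N19215 D29564) (tt N15355 F52933) (tt N11235 F52934) (tt N19216 D29565) (tt N15520 F52935))
theorem Q15522 : ∀ i, i < 15522 → P i := stepQ 15521 Q15521 (allL N15521 (tt N15480 F52937) (tt N19217 D29566) (tt N19210 (iv F63653)) (tt N15376 F52938) (tt N11236 F52939) (tt N11234 (iv D25802)) (tt N15476 F52940))
theorem Q15523 : ∀ i, i < 15523 → P i := stepQ 15522 Q15522 (allL N15522 (tt N15354 F52941) (tt N19212 (iv F63657)) (tt N11235 (iv D25803)) (tt N15988 (iv F61249)) (tt N19215 (iv F63666)) (tt N15983 F61248) (tt N15522 F52942))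
theorem Q15524 : ∀ i, i < 15524 → P i := stepQ 15523 Q15523 (allL N15523 (tt N15356 F52943) (tt N19195 (iv F63605)) (tt N15983 (iv F61245)) (tt N11237 F52944) (tt N19216 (iv F63670)) (tt N11235 (iv D25804)) (tt N15356 F52945))
theorem Q15525 : ∀ i, i < 15525 → P i := stepQ 15524 Q15524 (allL N15524 (tt N19218 D29567) (tt N11236 (iv D25805)) (tt N19196 (iv F63612)) (tt N11238 F52946) (tt N19217 (iv F63673)) (tt N19195 F63608) (tt N19196 (iv F63614)))
theorem Q15526 : ∀ i, i < 15526 → P i := stepQ 15525 Q15525 (allL N15525 (tt N15505 F52947) (tt N11237 (iv D25806)) (tt N19219 D29568) (tt N19195 F63607) (tt N15357 F52948) (tt N11238 F52949) (tt N15509 F52950))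
theorem Q15527 : ∀ i, i < 15527 → P i := stepQ 15526 Q15526 (allL N15526 (tt N11238 (iv D25807)) (tt N19220 D29569) (tt N19221 D29570) (tt N19218 (iv F63674)) (tt N15378 F52951) (tt N15505 F52952) (tt N19198 (iv F63619)))
theorem Q15528 : ∀ i, i < 15528 → P i := stepQ 15527 Q15527 (allL N15527 (tt N19221 (iv F63683)) (tt N11240 F52953) (tt N11238 (iv D25808)) (tt N19222 D29571) (tt N15379 F52954) (tt N19219 (iv F63679)) (tt N19200 F63623))
theorem Q15529 : ∀ i, i < 15529 → P i := stepQ 15528 Q15528 (allL N15528 (tt N11240 F52955) (tt N18971 (iv F63039)) (tt N11239 (iv D25809)) (tt N12883 F52958) (tt N15380 F52956) (tt N12888 F52957) (tt N18208 (iv F60889)))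
theorem Q15530 : ∀ i, i < 15530 → P i := stepQ 15529 Q15529 (allL N15529 (tt N12883 F52959) (tt N19222 (iv F63686)) (tt N12882 F52960) (tt N11240 (iv D25810)) (tt N19223 D29572) (tt N12886 F52961) (tt N16934 (iv F57063)))
theorem Q15531 : ∀ i, i < 15531 → P i := stepQ 15530 Q15530 (allL N15530 (tt N18208 (iv F60885)) (tt N19224 D29573) (tt N11241 F52962) (tt N16934 (iv F57062)) (tt N15382 F52963) (tt N15181 F52964) (tt N11240 (iv D25811)))
theorem Q15532 : ∀ i, i < 15532 → P i := stepQ 15531 Q15531 (allL N15531 (tt N14195 F52965) (tt N14295 F52966) (tt N15023 F52967) (tt N11242 (iv D25812)) (tt N18619 (iv F62201)) (tt N15023 F52968) (tt N15827 (iv F53707)))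
theorem Q15533 : ∀ i, i < 15533 → P i := stepQ 15532 Q15532 (allL N15532 (tt N19225 D29574) (tt N11243 (iv D25813)) (tt N19226 D29575) (tt N11244 F52969) (tt N17189 (iv F57757)) (tt N19227 D29576) (tt N11248 F52970))
theorem Q15534 : ∀ i, i < 15534 → P i := stepQ 15533 Q15533 (allL N15533 (tt N13106 F52971) (tt N15057 (iv F52976)) (tt N12671 F52972) (tt N11245 F52973) (tt N13103 F52974) (tt N11243 (iv D25814)) (tt N13101 F52975))
theorem Q15535 : ∀ i, i < 15535 → P i := stepQ 15534 Q15534 (allL N15534 (tt N11244 (iv D25815)) (tt N13823 (iv F52979)) (tt N19228 D29577) (tt N19225 (iv F63693)) (tt N11814 F52977) (tt N15551 (iv F53020)) (tt N11251 F52978))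
theorem Q15536 : ∀ i, i < 15536 → P i := stepQ 15535 Q15535 (allL N15535 (tt N19228 (iv F63703)) (tt N11267 F52980) (tt N11244 (iv D25816)) (tt N19229 D29578) (tt N11815 F52981) (tt N11523 (iv F52983)) (tt N11252 F52982))
theorem Q15537 : ∀ i, i < 15537 → P i := stepQ 15536 Q15536 (allL N15536 (tt N15551 (iv F53018)) (tt N11524 F52984) (tt N11523 F52985) (tt N19227 (iv F63702)) (tt N11816 F52986) (tt N11244 (iv D25817)) (tt N15548 (iv F53013)))
theorem Q15538 : ∀ i, i < 15538 → P i := stepQ 15537 Q15537 (allL N15537 (tt N19230 D29579) (tt N11246 (iv D25818)) (tt N17726 (iv F59405)) (tt N11817 F52987) (tt N11248 F52988) (tt N19231 D29580) (tt N17189 (iv F57758)))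
theorem Q15539 : ∀ i, i < 15539 → P i := stepQ 15538 Q15538 (allL N15538 (tt N19232 D29581) (tt N11247 (iv D25819)) (tt N19233 D29582) (tt N11250 F52989) (tt N13124 F52990) (tt N19234 D29583) (tt N13114 F52991))
theorem Q15540 : ∀ i, i < 15540 → P i := stepQ 15539 Q15539 (allL N15539 (tt N11248 (iv D25820)) (tt N17070 (iv F57444)) (tt N15935 (iv F57423)) (tt N11251 F52992) (tt N19230 (iv F63712)) (tt N19235 D29584) (tt N19225 (iv F63694)))
theorem Q15541 : ∀ i, i < 15541 → P i := stepQ 15540 Q15540 (allL N15540 (tt N15935 F57422) (tt N12990 F52993) (tt N11248 (iv D25821)) (tt N15936 (iv F57421)) (tt N17726 (iv F59404)) (tt N19236 D29585) (tt N19226 (iv F63697)))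
theorem Q15542 : ∀ i, i < 15542 → P i := stepQ 15541 Q15541 (allL N15541 (tt N19235 (iv F63724)) (tt N15648 (iv F53283)) (tt N19236 (iv F63730)) (tt N11253 F52994) (tt N19231 (iv F63714)) (tt N11248 (iv D25822)) (tt N19237 D29586))
theorem Q15543 : ∀ i, i < 15543 → P i := stepQ 15542 Q15542 (allL N15542 (tt N15652 (iv F53289)) (tt N11249 (iv D25823)) (tt N19238 D29587) (tt N11254 F52995) (tt N17338 (iv F58102)) (tt N15648 (iv F53284)) (tt N19239 D29588))
theorem Q15544 : ∀ i, i < 15544 → P i := stepQ 15543 Q15543 (allL N15543 (tt N11250 (iv D25824)) (tt N16064 (iv F54311)) (tt N13366 (iv F52998)) (tt N19232 (iv F63715)) (tt N11822 F52996) (tt N17437 (iv F58481)) (tt N11594 F52997))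
theorem Q15545 : ∀ i, i < 15545 → P i := stepQ 15544 Q15544 (allL N15544 (tt N13366 F52999) (tt N11255 F53000) (tt N11250 (iv D25825)) (tt N19240 D29589) (tt N11823 F53001) (tt N16861 (iv F56845)) (tt N13404 F53002))
theorem Q15546 : ∀ i, i < 15546 → P i := stepQ 15545 Q15545 (allL N15545 (tt N17437 (iv F58477)) (tt N14440 F53003) (tt N16861 (iv F56843)) (tt N19234 (iv F63722)) (tt N11824 F53004) (tt N11250 (iv D25826)) (tt N16032 (iv F54235)))
theorem Q15547 : ∀ i, i < 15547 → P i := stepQ 15546 Q15546 (allL N15546 (tt N14565 (iv F53007)) (tt N11251 (iv D25827)) (tt N13825 (iv F53008)) (tt N17070 (iv F57445)) (tt N11825 F53005) (tt N18379 (iv F61450)) (tt N13820 F53006))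
theorem Q15548 : ∀ i, i < 15548 → P i := stepQ 15547 Q15547 (allL N15547 (tt N11252 F53009) (tt N17659 (iv F59196)) (tt N11251 (iv D25828)) (tt N19241 D29590) (tt N11826 F53010) (tt N15932 F54029) (tt N19228 (iv F63707)))
theorem Q15549 : ∀ i, i < 15549 → P i := stepQ 15548 Q15548 (allL N15548 (tt N11253 F53011) (tt N14645 F53014) (tt N15932 (iv F54025)) (tt N19235 (iv F63726)) (tt N11827 F53012) (tt N11251 (iv D25829)) (tt N15536 F53013))
theorem Q15550 : ∀ i, i < 15550 → P i := stepQ 15549 Q15549 (allL N15549 (tt N19241 (iv F63746)) (tt N11257 F53015) (tt N19227 (iv F63701)) (tt N11252 (iv D25830)) (tt N19242 D29591) (tt N19226 (iv F63699)) (tt N19229 (iv F63710)))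
theorem Q15551 : ∀ i, i < 15551 → P i := stepQ 15550 Q15550 (allL N15550 (tt N15932 (iv F54028)) (tt N19243 D29592) (tt N11253 F53016) (tt N19226 F63698) (tt N11829 F53017) (tt N11252 (iv D25831)) (tt N15936 (iv F54041)))
theorem Q15552 : ∀ i, i < 15552 → P i := stepQ 15551 Q15551 (allL N15551 (tt N15536 F53018) (tt N13794 (iv F53021)) (tt N15936 (iv F54039)) (tt N19237 (iv F63733)) (tt N11830 F53019) (tt N15534 F53020) (tt N11253 (iv D25832)))
theorem Q15553 : ∀ i, i < 15553 → P i := stepQ 15552 Q15552 (allL N15552 (tt N15641 (iv F53265)) (tt N11259 F53022) (tt N11254 (iv D25833)) (tt N19244 D29593) (tt N11831 F53023) (tt N15639 (iv F53263)) (tt N16470 (iv F55557)))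
theorem Q15554 : ∀ i, i < 15554 → P i := stepQ 15553 Q15553 (allL N15553 (tt N15654 (iv F53293)) (tt N14301 F53024) (tt N16470 (iv F55555)) (tt N19239 (iv F63739)) (tt N11832 F53025) (tt N11330 F53026) (tt N11254 (iv D25834)))
theorem Q15555 : ∀ i, i < 15555 → P i := stepQ 15554 Q15554 (allL N15554 (tt N14345 F53027) (tt N19240 (iv F63743)) (tt N19245 D29594) (tt N11255 (iv D25835)) (tt N16804 (iv F56672)) (tt N14340 F53028) (tt N18141 (iv F60702)))
theorem Q15556 : ∀ i, i < 15556 → P i := stepQ 15555 Q15555 (allL N15555 (tt N11257 F53029) (tt N16014 (iv F54203)) (tt N19246 D29595) (tt N11256 (iv D25836)) (tt N19247 D29596) (tt N14383 F53030) (tt N11283 F53031))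
theorem Q15557 : ∀ i, i < 15557 → P i := stepQ 15556 Q15556 (allL N15556 (tt N19246 (iv F63761)) (tt N19248 D29597) (tt N11257 (iv D25837)) (tt N19249 D29598) (tt N19250 D29599) (tt N19251 D29600) (tt N11285 F53032))
theorem Q15558 : ∀ i, i < 15558 → P i := stepQ 15557 Q15557 (allL N15557 (tt N19247 (iv F63765)) (tt N19242 (iv F63749)) (tt N19250 (iv F63779)) (tt N11835 F53033) (tt N11257 (iv D25838)) (tt N19252 D29601) (tt N11286 F53034))
theorem Q15559 : ∀ i, i < 15559 → P i := stepQ 15558 Q15558 (allL N15558 (tt N14383 F53035) (tt N19253 D29602) (tt N19251 (iv F63783)) (tt N11258 F53036) (tt N19252 (iv F63787)) (tt N11257 (iv D25839)) (tt N15591 (iv F53109)))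
theorem Q15560 : ∀ i, i < 15560 → P i := stepQ 15559 Q15559 (allL N15559 (tt N19254 D29603) (tt N11258 (iv D25840)) (tt N15799 (iv F53640)) (tt N19253 (iv F63789)) (tt N11837 F53037) (tt N19243 (iv F63755)) (tt N17766 F59535))
theorem Q15561 : ∀ i, i < 15561 → P i := stepQ 15560 Q15560 (allL N15560 (tt N11446 F53038) (tt N19244 (iv F63757)) (tt N19255 D29604) (tt N11259 (iv D25841)) (tt N19256 D29605) (tt N15798 (iv F53639)) (tt N11443 F53039))
theorem Q15562 : ∀ i, i < 15562 → P i := stepQ 15561 Q15561 (allL N15561 (tt N11260 (iv D25842)) (tt N11566 (iv F53042)) (tt N19257 D29606) (tt N16208 F54676) (tt N11844 F53040) (tt N11275 (iv F53043)) (tt N15561 F53041))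
theorem Q15563 : ∀ i, i < 15563 → P i := stepQ 15562 Q15562 (allL N15562 (tt N19257 (iv F63800)) (tt N14077 F53044) (tt N11260 (iv D25843)) (tt N19258 D29607) (tt N11845 F53045) (tt N19259 D29608) (tt N15562 F53046))
theorem Q15564 : ∀ i, i < 15564 → P i := stepQ 15563 Q15563 (allL N15563 (tt N11275 F53047) (tt N11311 F53048) (tt N19259 (iv F63811)) (tt N16770 (iv F56559)) (tt N11846 F53049) (tt N11260 (iv D25844)) (tt N11275 F53050))
theorem Q15565 : ∀ i, i < 15565 → P i := stepQ 15564 Q15564 (allL N15564 (tt N19260 D29609) (tt N11261 (iv D25845)) (tt N17470 (iv F58611)) (tt N11853 F53051) (tt N11263 F53052) (tt N16746 (iv F56478)) (tt N11271 F53053))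
theorem Q15566 : ∀ i, i < 15566 → P i := stepQ 15565 Q15565 (allL N15565 (tt N15618 (iv F53188)) (tt N11262 (iv D25846)) (tt N17584 F59001) (tt N11265 F53054) (tt N17435 (iv F58473)) (tt N15616 F53185) (tt N17186 (iv F57748)))
theorem Q15567 : ∀ i, i < 15567 → P i := stepQ 15566 Q15566 (allL N15566 (tt N11263 (iv D25847)) (tt N19261 D29610) (tt N19262 D29611) (tt N11266 F53055) (tt N19260 (iv F63818)) (tt N15579 (iv F53088)) (tt N11272 F53056))
theorem Q15568 : ∀ i, i < 15568 → P i := stepQ 15567 Q15567 (allL N15567 (tt N19262 (iv F63825)) (tt N16769 (iv F56554)) (tt N11263 (iv D25848)) (tt N19263 D29612) (tt N17470 (iv F58613)) (tt N18699 (iv F62374)) (tt N11273 F53057))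
theorem Q15569 : ∀ i, i < 15569 → P i := stepQ 15568 Q15568 (allL N15568 (tt N14371 F53058) (tt N16869 (iv F56875)) (tt N11265 (iv D25849)) (tt N19264 D29613) (tt N11857 F53059) (tt N15627 (iv F53217)) (tt N12788 F53060))
theorem Q15570 : ∀ i, i < 15570 → P i := stepQ 15569 Q15569 (allL N15569 (tt N11314 F53061) (tt N11266 (iv D25850)) (tt N12815 (iv F53064)) (tt N19261 (iv F63822)) (tt N11858 F53062) (tt N15629 (iv F53224)) (tt N11311 F53063))
theorem Q15571 : ∀ i, i < 15571 → P i := stepQ 15570 Q15570 (allL N15570 (tt N11267 F53065) (tt N13890 F53066) (tt N11266 (iv D25851)) (tt N19265 D29614) (tt N11859 F53067) (tt N12284 F53068) (tt N11276 F53069))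
theorem Q15572 : ∀ i, i < 15572 → P i := stepQ 15571 Q15571 (allL N15571 (tt N19265 (iv F63833)) (tt N19229 (iv F63708)) (tt N19266 D29615) (tt N11267 (iv D25852)) (tt N19267 D29616) (tt N18700 (iv F62379)) (tt N11278 F53070))
theorem Q15573 : ∀ i, i < 15573 → P i := stepQ 15572 Q15572 (allL N15572 (tt N11271 (iv D25853)) (tt N16209 (iv F54677)) (tt N16507 (iv F55668)) (tt N11861 F53071) (tt N11272 F53072) (tt N12608 F53073) (tt N19260 (iv F63820)))
theorem Q15574 : ∀ i, i < 15574 → P i := stepQ 15573 Q15573 (allL N15573 (tt N12608 F53074) (tt N15220 F53075) (tt N16505 (iv F55657)) (tt N11862 F53076) (tt N11274 F53077) (tt N11271 (iv D25854)) (tt N17446 (iv F58521)))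
theorem Q15575 : ∀ i, i < 15575 → P i := stepQ 15574 Q15574 (allL N15574 (tt N16770 (iv F56556)) (tt N11272 (iv D25855)) (tt N16210 (iv F54680)) (tt N11275 F53078) (tt N16209 (iv F54679)) (tt N16208 (iv F54675)) (tt N16770 (iv F56561)))
theorem Q15576 : ∀ i, i < 15576 → P i := stepQ 15575 Q15575 (allL N15575 (tt N11273 F53079) (tt N17092 (iv F57500)) (tt N11272 (iv D25856)) (tt N19268 D29617) (tt N16507 (iv F55670)) (tt N16506 F55665) (tt N19262 (iv F63828)))
theorem Q15577 : ∀ i, i < 15577 → P i := stepQ 15576 Q15576 (allL N15576 (tt N11274 F53080) (tt N12596 (iv F53084)) (tt N16506 (iv F55664)) (tt N11277 F53081) (tt N12608 F53082) (tt N11272 (iv D25857)) (tt N15109 F53083))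
theorem Q15578 : ∀ i, i < 15578 → P i := stepQ 15577 Q15577 (allL N15577 (tt N19268 (iv F63847)) (tt N17318 (iv F58062)) (tt N19269 D29618) (tt N11273 (iv D25858)) (tt N17314 (iv F58056)) (tt N19270 D29619) (tt N19263 (iv F63829)))
theorem Q15579 : ∀ i, i < 15579 → P i := stepQ 15578 Q15578 (allL N15578 (tt N16506 (iv F55662)) (tt N17240 F57879) (tt N11274 F53085) (tt N19270 (iv F63848)) (tt N16505 F55660) (tt N11273 (iv D25859)) (tt N17246 (iv F57894)))
theorem Q15580 : ∀ i, i < 15580 → P i := stepQ 15579 Q15579 (allL N15579 (tt N15109 F53086) (tt N11308 (iv F53089)) (tt N17246 (iv F57892)) (tt N11280 F53087) (tt N17446 (iv F58520)) (tt N15566 F53088) (tt N11274 (iv D25860)))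
theorem Q15581 : ∀ i, i < 15581 → P i := stepQ 15580 Q15580 (allL N15580 (tt N19259 (iv F63809)) (tt N19271 D29620) (tt N11275 (iv D25861)) (tt N19272 D29621) (tt N11866 F53090) (tt N19257 (iv F63803)) (tt N19259 (iv F63814)))
theorem Q15582 : ∀ i, i < 15582 → P i := stepQ 15581 Q15581 (allL N15581 (tt N19243 (iv F63751)) (tt N11276 (iv D25862)) (tt N19271 (iv F63850)) (tt N19273 D29622) (tt N11867 F53091) (tt N19254 (iv F63792)) (tt N13887 F53092))
theorem Q15583 : ∀ i, i < 15583 → P i := stepQ 15582 Q15582 (allL N15582 (tt N11278 F53093) (tt N19273 (iv F63858)) (tt N19274 D29623) (tt N11276 (iv D25863)) (tt N19275 D29624) (tt N19276 D29625) (tt N19265 (iv F63837)))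
theorem Q15584 : ∀ i, i < 15584 → P i := stepQ 15583 Q15583 (allL N15583 (tt N11279 F53094) (tt N19277 D29626) (tt N11277 F53095) (tt N19276 (iv F63867)) (tt N11869 F53096) (tt N11276 (iv D25864)) (tt N15110 F53097))
theorem Q15585 : ∀ i, i < 15585 → P i := stepQ 15584 Q15584 (allL N15584 (tt N19274 (iv F63861)) (tt N19278 D29627) (tt N11278 (iv D25865)) (tt N19279 D29628) (tt N19280 D29629) (tt N19281 D29630) (tt N19266 (iv F63839)))
theorem Q15586 : ∀ i, i < 15586 → P i := stepQ 15585 Q15585 (allL N15585 (tt N19275 (iv F63863)) (tt N11286 F53098) (tt N19280 (iv F63886)) (tt N11871 F53099) (tt N11278 (iv D25866)) (tt N16085 F54367) (tt N19267 (iv F63846)))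
theorem Q15587 : ∀ i, i < 15587 → P i := stepQ 15586 Q15586 (allL N15586 (tt N19276 (iv F63866)) (tt N16097 (iv F54388)) (tt N19281 (iv F63891)) (tt N11279 F53100) (tt N16085 (iv F54366)) (tt N11278 (iv D25867)) (tt N16083 F54361))
theorem Q15588 : ∀ i, i < 15588 → P i := stepQ 15587 Q15587 (allL N15587 (tt N17955 (iv F60204)) (tt N15942 F54056) (tt N18252 (iv F61005)) (tt N11281 (iv D25868)) (tt N19282 D29631) (tt N15775 (iv F53575)) (tt N15029 F53101))
theorem Q15589 : ∀ i, i < 15589 → P i := stepQ 15588 Q15588 (allL N15588 (tt N15930 (iv F54018)) (tt N11283 F53102) (tt N17257 (iv F57909)) (tt N11282 (iv D25869)) (tt N15645 (iv F53274)) (tt N15644 F53271) (tt N15926 (iv F54003)))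
theorem Q15590 : ∀ i, i < 15590 → P i := stepQ 15589 Q15589 (allL N15589 (tt N11285 F53103) (tt N19283 D29632) (tt N11283 (iv D25870)) (tt N15337 F53104) (tt N19284 D29633) (tt N19285 D29634) (tt N19246 (iv F63763)))
theorem Q15591 : ∀ i, i < 15591 → P i := stepQ 15590 Q15590 (allL N15590 (tt N11286 F53105) (tt N15645 F53275) (tt N19284 (iv F63899)) (tt N11874 F53106) (tt N11283 (iv D25871)) (tt N19286 D29635) (tt N19247 (iv F63768)))
theorem Q15592 : ∀ i, i < 15592 → P i := stepQ 15591 Q15591 (allL N15591 (tt N11287 F53107) (tt N19287 D29636) (tt N19285 (iv F63901)) (tt N11284 F53108) (tt N19286 (iv F63906)) (tt N11283 (iv D25872)) (tt N15558 F53109))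
theorem Q15593 : ∀ i, i < 15593 → P i := stepQ 15592 Q15592 (allL N15592 (tt N15876 (iv F53856)) (tt N11284 (iv D25873)) (tt N11414 F53110) (tt N19287 (iv F63908)) (tt N11876 F53111) (tt N16327 (iv F55080)) (tt N15873 F53852))
theorem Q15594 : ∀ i, i < 15594 → P i := stepQ 15593 Q15593 (allL N15593 (tt N19288 D29637) (tt N11285 (iv D25874)) (tt N19278 (iv F63874)) (tt N19289 D29638) (tt N19290 D29639) (tt N19291 D29640) (tt N19292 D29641))
theorem Q15595 : ∀ i, i < 15595 → P i := stepQ 15594 Q15594 (allL N15594 (tt N15337 F53112) (tt N19289 (iv F63909)) (tt N15335 F53113) (tt N11285 (iv D25875)) (tt N19293 D29642) (tt N19294 D29643) (tt N19249 (iv F63776)))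
theorem Q15596 : ∀ i, i < 15596 → P i := stepQ 15595 Q15595 (allL N15595 (tt N19284 (iv F63898)) (tt N19290 (iv F63913)) (tt N11286 F53114) (tt N19295 D29644) (tt N11285 (iv D25876)) (tt N19296 D29645) (tt N19250 (iv F63780)))
theorem Q15597 : ∀ i, i < 15597 → P i := stepQ 15596 Q15596 (allL N15596 (tt N19285 (iv F63900)) (tt N19297 D29646) (tt N11287 F53115) (tt N19294 (iv F63936)) (tt N19296 (iv F63939)) (tt N11285 (iv D25877)) (tt N18174 (iv F60789)))
theorem Q15598 : ∀ i, i < 15598 → P i := stepQ 15597 Q15597 (allL N15597 (tt N19286 (iv F63904)) (tt N16099 (iv F54395)) (tt N19296 (iv F63938)) (tt N11880 F53116) (tt N11287 F53117) (tt N11286 (iv D25878)) (tt N18120 (iv F60629)))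
theorem Q15599 : ∀ i, i < 15599 → P i := stepQ 15598 Q15598 (allL N15598 (tt N19298 D29647) (tt N11287 (iv D25879)) (tt N19299 D29648) (tt N11288 F53118) (tt N16099 (iv F54397)) (tt N16097 F54391) (tt N19300 D29649))
theorem Q15600 : ∀ i, i < 15600 → P i := stepQ 15599 Q15599 (allL N15599 (tt N11288 (iv D25880)) (tt N11584 (iv F53123)) (tt N15239 F53119) (tt N19298 (iv F63943)) (tt N11881 F53120) (tt N13816 F53121) (tt N12289 (iv F53122)))
theorem Q15601 : ∀ i, i < 15601 → P i := stepQ 15600 Q15600 (allL N15600 (tt N12289 F53124) (tt N16435 (iv F55414)) (tt N15229 F53125) (tt N19300 (iv F63949)) (tt N11882 F53126) (tt N12285 F53127) (tt N11288 (iv D25881)))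
theorem Q15602 : ∀ i, i < 15602 → P i := stepQ 15601 Q15601 (allL N15601 (tt N11294 F53128) (tt N16887 (iv F56933)) (tt N14648 F53129) (tt N11290 F53130) (tt N12867 F53131) (tt N11289 (iv D25882)) (tt N15608 (iv F53158)))
theorem Q15603 : ∀ i, i < 15603 → P i := stepQ 15602 Q15602 (allL N15602 (tt N11295 F53132) (tt N16989 (iv F57210)) (tt N14649 F53133) (tt N11291 F53134) (tt N16914 (iv F57017)) (tt N15606 (iv F53149)) (tt N11289 (iv D25883)))
theorem Q15604 : ∀ i, i < 15604 → P i := stepQ 15603 Q15603 (allL N15603 (tt N14648 F53135) (tt N14246 F53136) (tt N11294 F53137) (tt N14640 F53138) (tt N12868 F53139) (tt N11292 (iv D25884)) (tt N18481 (iv F61710)))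
theorem Q15605 : ∀ i, i < 15605 → P i := stepQ 15604 Q15604 (allL N15604 (tt N14649 F53140) (tt N19301 D29650) (tt N11295 F53141) (tt N14641 F53142) (tt N18095 (iv F60564)) (tt N18479 (iv F61703)) (tt N11292 (iv D25885)))
theorem Q15606 : ∀ i, i < 15606 → P i := stepQ 15605 Q15605 (allL N15605 (tt N16914 (iv F57015)) (tt N11453 (iv F53146)) (tt N18095 (iv F60562)) (tt N11456 F53143) (tt N11295 F53144) (tt N11460 F53145) (tt N11293 (iv D25886)))
theorem Q15607 : ∀ i, i < 15607 → P i := stepQ 15606 Q15606 (allL N15606 (tt N15608 (iv F53154)) (tt N16729 (iv F56419)) (tt N18481 (iv F61707)) (tt N11297 F53147) (tt N12869 F53148) (tt N15602 F53149) (tt N11294 (iv D25887)))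
theorem Q15608 : ∀ i, i < 15608 → P i := stepQ 15607 Q15607 (allL N15607 (tt N16926 (iv F57045)) (tt N11295 (iv D25888)) (tt N18149 (iv F60724)) (tt N11298 F53150) (tt N11453 F53151) (tt N11452 (iv F53153)) (tt N11301 F53152))
theorem Q15609 : ∀ i, i < 15609 → P i := stepQ 15608 Q15608 (allL N15608 (tt N15606 F53154) (tt N11459 F53155) (tt N18479 (iv F61700)) (tt N11299 F53156) (tt N11460 F53157) (tt N11295 (iv D25889)) (tt N15601 F53158))
theorem Q15610 : ∀ i, i < 15610 → P i := stepQ 15609 Q15609 (allL N15609 (tt N15843 (iv F53747)) (tt N11300 (iv D25890)) (tt N18509 (iv F61816)) (tt N11457 F53159) (tt N11301 F53160) (tt N15840 (iv F53738)) (tt N11453 F53161))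
theorem Q15611 : ∀ i, i < 15611 → P i := stepQ 15610 Q15610 (allL N15610 (tt N16925 (iv F57043)) (tt N15330 F53162) (tt N11301 (iv D25891)) (tt N18152 (iv F60732)) (tt N18509 (iv F61818)) (tt N16924 (iv F57041)) (tt N18149 (iv F60727)))
theorem Q15612 : ∀ i, i < 15612 → P i := stepQ 15611 Q15611 (allL N15611 (tt N16911 (iv F57004)) (tt N11309 F53163) (tt N11302 (iv D25892)) (tt N18614 (iv F62181)) (tt N11686 F53164) (tt N11685 F53165) (tt N16302 (iv F54994)))
theorem Q15613 : ∀ i, i < 15613 → P i := stepQ 15612 Q15612 (allL N15612 (tt N19302 D29651) (tt N11303 (iv D25893)) (tt N13487 F53166) (tt N11893 F53167) (tt N11306 F53168) (tt N19303 D29652) (tt N12609 F53169))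
theorem Q15614 : ∀ i, i < 15614 → P i := stepQ 15613 Q15613 (allL N15613 (tt N19304 D29653) (tt N11304 (iv D25894)) (tt N13349 F53170) (tt N11894 F53171) (tt N11307 F53172) (tt N11305 F53173) (tt N16572 (iv F55875)))
theorem Q15615 : ∀ i, i < 15615 → P i := stepQ 15614 Q15614 (allL N15614 (tt N11305 (iv D25895)) (tt N17446 (iv F58519)) (tt N12297 (iv F53177)) (tt N11895 F53174) (tt N11308 F53175) (tt N19304 (iv F63979)) (tt N12294 F53176))
theorem Q15616 : ∀ i, i < 15616 → P i := stepQ 15615 Q15615 (allL N15615 (tt N12297 F53178) (tt N11686 F53179) (tt N11305 (iv D25896)) (tt N11687 F53183) (tt N11309 F53180) (tt N13349 F53181) (tt N12176 F53182))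
theorem Q15617 : ∀ i, i < 15617 → P i := stepQ 15616 Q15616 (allL N15616 (tt N11306 (iv D25897)) (tt N16770 (iv F56557)) (tt N19305 D29654) (tt N11311 F53184) (tt N19302 (iv F63967)) (tt N15565 (iv F53185)) (tt N19261 (iv F63824)))
theorem Q15618 : ∀ i, i < 15618 → P i := stepQ 15617 Q15617 (allL N15617 (tt N19305 (iv F63981)) (tt N13488 F53186) (tt N11306 (iv D25898)) (tt N17945 (iv F60161)) (tt N13487 F53187) (tt N19306 D29655) (tt N19307 D29656))
theorem Q15619 : ∀ i, i < 15619 → P i := stepQ 15618 Q15618 (allL N15618 (tt N15565 F53188) (tt N16003 (iv F54175)) (tt N19306 (iv F63986)) (tt N11313 F53189) (tt N19303 (iv F63973)) (tt N11306 (iv D25899)) (tt N19308 D29657))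
theorem Q15620 : ∀ i, i < 15620 → P i := stepQ 15619 Q15619 (allL N15619 (tt N19261 (iv F63821)) (tt N11562 F53190) (tt N19307 (iv F63991)) (tt N11314 F53191) (tt N12609 F53192) (tt N17186 (iv F57747)) (tt N11306 (iv D25900)))
theorem Q15621 : ∀ i, i < 15621 → P i := stepQ 15620 Q15620 (allL N15620 (tt N11307 (iv D25901)) (tt N19308 F63998) (tt N19309 D29658) (tt N11315 F53193) (tt N19304 (iv F63978)) (tt N11308 F53194) (tt N15626 (iv F53214)))
theorem Q15622 : ∀ i, i < 15622 → P i := stepQ 15621 Q15621 (allL N15621 (tt N19309 (iv F63999)) (tt N13042 F53195) (tt N11307 (iv D25902)) (tt N19310 D29659) (tt N13349 F53196) (tt N11309 F53197) (tt N16573 (iv F55879)))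
theorem Q15623 : ∀ i, i < 15623 → P i := stepQ 15622 Q15622 (allL N15622 (tt N11309 F53198) (tt N13192 (iv F53200)) (tt N11308 (iv D25903)) (tt N19311 D29660) (tt N12297 F53199) (tt N19309 (iv F64002)) (tt N12295 (iv F53201)))
theorem Q15624 : ∀ i, i < 15624 → P i := stepQ 15623 Q15623 (allL N15623 (tt N11310 F53202) (tt N15118 F53203) (tt N12295 F53204) (tt N11318 F53205) (tt N12294 F53206) (tt N15119 F53207) (tt N11308 (iv D25904)))
theorem Q15625 : ∀ i, i < 15625 → P i := stepQ 15624 Q15624 (allL N15624 (tt N19311 (iv F64005)) (tt N18614 F62183) (tt N19312 D29661) (tt N11309 (iv D25905)) (tt N18615 (iv F62186)) (tt N19310 (iv F64004)) (tt N19313 D29662))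
theorem Q15626 : ∀ i, i < 15626 → P i := stepQ 15625 Q15625 (allL N15625 (tt N12295 F53208) (tt N12178 (iv F53211)) (tt N11310 F53209) (tt N19313 (iv F64015)) (tt N12176 F53210) (tt N19314 D29663) (tt N11309 (iv D25906)))
theorem Q15627 : ∀ i, i < 15627 → P i := stepQ 15626 Q15626 (allL N15626 (tt N15119 F53212) (tt N19315 D29664) (tt N19314 (iv F64020)) (tt N11321 F53213) (tt N16466 (iv F55543)) (tt N11310 (iv D25907)) (tt N15620 F53214))
theorem Q15628 : ∀ i, i < 15628 → P i := stepQ 15627 Q15627 (allL N15627 (tt N11312 F53215) (tt N14616 (iv F53219)) (tt N11311 (iv D25908)) (tt N19316 D29665) (tt N11905 F53216) (tt N15568 F53217) (tt N12815 F53218))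
theorem Q15629 : ∀ i, i < 15629 → P i := stepQ 15628 Q15628 (allL N15628 (tt N19316 (iv F64028)) (tt N16790 (iv F56625)) (tt N19317 D29666) (tt N11312 (iv D25909)) (tt N12729 F53220) (tt N18161 F60746) (tt N12726 F53221))
theorem Q15630 : ∀ i, i < 15630 → P i := stepQ 15629 Q15629 (allL N15629 (tt N15216 F53222) (tt N11315 (iv F53225)) (tt N16863 (iv F56852)) (tt N19308 (iv F63995)) (tt N11906 F53223) (tt N15569 F53224) (tt N11313 (iv D25910)))
theorem Q15631 : ∀ i, i < 15631 → P i := stepQ 15630 Q15630 (allL N15630 (tt N11316 F53226) (tt N14191 (iv F53229)) (tt N11315 (iv D25911)) (tt N17469 (iv F58606)) (tt N11916 F53227) (tt N11317 F53228) (tt N15636 (iv F53254)))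
theorem Q15632 : ∀ i, i < 15632 → P i := stepQ 15631 Q15631 (allL N15631 (tt N17469 (iv F58604)) (tt N18497 (iv F61774)) (tt N19318 D29667) (tt N11316 (iv D25912)) (tt N13268 F53230) (tt N11319 F53231) (tt N12902 F53232))
theorem Q15633 : ∀ i, i < 15633 → P i := stepQ 15632 Q15632 (allL N15632 (tt N11320 F53233) (tt N16570 (iv F55860)) (tt N11318 F53234) (tt N16949 (iv F57101)) (tt N11918 F53235) (tt N14535 F53236) (tt N11317 (iv D25913)))
theorem Q15634 : ∀ i, i < 15634 → P i := stepQ 15633 Q15633 (allL N15633 (tt N17466 (iv F58590)) (tt N13153 F53237) (tt N11319 (iv D25914)) (tt N19319 D29668) (tt N13434 F53238) (tt N19318 (iv F64036)) (tt N17468 (iv F58603)))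
theorem Q15635 : ∀ i, i < 15635 → P i := stepQ 15634 Q15634 (allL N15634 (tt N16949 (iv F57099)) (tt N14986 F53242) (tt N17468 (iv F58602)) (tt N11320 F53239) (tt N14876 F53240) (tt N14875 (iv F53241)) (tt N11319 (iv D25915)))
theorem Q15636 : ∀ i, i < 15636 → P i := stepQ 15635 Q15635 (allL N15635 (tt N13836 (iv F53247)) (tt N11320 (iv D25916)) (tt N13771 F53243) (tt N14986 F53244) (tt N11922 F53245) (tt N14976 (iv F53248)) (tt N11350 F53246))
theorem Q15637 : ∀ i, i < 15637 → P i := stepQ 15636 Q15636 (allL N15636 (tt N14535 F53249) (tt N12334 F53250) (tt N11321 F53251) (tt N14875 F53252) (tt N11923 F53253) (tt N11320 (iv D25917)) (tt N15630 F53254))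
theorem Q15638 : ∀ i, i < 15638 → P i := stepQ 15637 Q15637 (allL N15637 (tt N11571 F53255) (tt N11321 (iv D25918)) (tt N16599 (iv F55960)) (tt N19315 (iv F64024)) (tt N11924 F53256) (tt N11569 F53257) (tt N11571 F53258))
theorem Q15639 : ∀ i, i < 15639 → P i := stepQ 15638 Q15638 (allL N15638 (tt N11324 F53259) (tt N17276 F57967) (tt N19320 D29669) (tt N11322 (iv D25919)) (tt N19321 D29670) (tt N14207 F53260) (tt N17750 (iv F59492)))
theorem Q15640 : ∀ i, i < 15640 → P i := stepQ 15639 Q15639 (allL N15639 (tt N11323 (iv D25920)) (tt N17786 F59579) (tt N11327 F53261) (tt N19322 D29671) (tt N11926 F53262) (tt N15552 F53263) (tt N17789 (iv F59588)))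
theorem Q15641 : ∀ i, i < 15641 → P i := stepQ 15640 Q15640 (allL N15640 (tt N19322 (iv F64051)) (tt N11324 F53264) (tt N19323 D29672) (tt N11323 (iv D25921)) (tt N19324 D29673) (tt N19325 D29674) (tt N19326 D29675))
theorem Q15642 : ∀ i, i < 15642 → P i := stepQ 15641 Q15641 (allL N15641 (tt N15552 F53265) (tt N16303 (iv F54996)) (tt N11329 F53266) (tt N19325 (iv F64058)) (tt N11928 F53267) (tt N11323 (iv D25922)) (tt N19327 D29676))
theorem Q15643 : ∀ i, i < 15643 → P i := stepQ 15642 Q15642 (allL N15642 (tt N17789 F59589) (tt N19328 D29677) (tt N11330 F53268) (tt N19326 (iv F64060)) (tt N11929 F53269) (tt N16470 (iv F55556)) (tt N11323 (iv D25923)))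
theorem Q15644 : ∀ i, i < 15644 → P i := stepQ 15643 Q15643 (allL N15643 (tt N19320 (iv F64042)) (tt N19329 D29678) (tt N11324 (iv D25924)) (tt N19330 D29679) (tt N17260 (iv F57917)) (tt N19331 D29680) (tt N17258 F57913))
theorem Q15645 : ∀ i, i < 15645 → P i := stepQ 15644 Q15644 (allL N15644 (tt N19321 (iv F64046)) (tt N19324 (iv F64053)) (tt N17260 (iv F57916)) (tt N11930 F53270) (tt N11324 (iv D25925)) (tt N15588 (iv F53271)) (tt N15929 (iv F54017)))
theorem Q15646 : ∀ i, i < 15646 → P i := stepQ 15645 Q15645 (allL N15645 (tt N14207 F53272) (tt N15590 (iv F53275)) (tt N19331 (iv F64077)) (tt N11325 F53273) (tt N15588 F53274) (tt N11324 (iv D25926)) (tt N15280 (iv F53276)))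
theorem Q15647 : ∀ i, i < 15647 → P i := stepQ 15646 Q15646 (allL N15646 (tt N17750 F59493) (tt N19332 D29681) (tt N17258 (iv F57911)) (tt N11326 F53277) (tt N15929 (iv F54016)) (tt N15928 F54012) (tt N11324 (iv D25927)))
theorem Q15648 : ∀ i, i < 15648 → P i := stepQ 15647 Q15647 (allL N15647 (tt N15647 F53278) (tt N11326 (iv D25928)) (tt N11364 F53279) (tt N19332 (iv F64082)) (tt N11931 F53280) (tt N11364 F53281) (tt N19328 (iv F64069)))
theorem Q15649 : ∀ i, i < 15649 → P i := stepQ 15648 Q15648 (allL N15648 (tt N11328 F53282) (tt N15541 F53283) (tt N19333 D29682) (tt N11327 (iv D25929)) (tt N19334 D29683) (tt N15542 F53284) (tt N19335 D29684))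
theorem Q15650 : ∀ i, i < 15650 → P i := stepQ 15649 Q15649 (allL N15649 (tt N11330 F53285) (tt N17404 (iv F58344)) (tt N17789 (iv F59586)) (tt N19335 (iv F64096)) (tt N11933 F53286) (tt N15654 (iv F53295)) (tt N11327 (iv D25930)))
theorem Q15651 : ∀ i, i < 15651 → P i := stepQ 15650 Q15650 (allL N15650 (tt N19333 (iv F64084)) (tt N11491 F61764) (tt N11328 (iv D25931)) (tt N12140 F61765) (tt N11487 F61766) (tt N19336 D29685) (tt N19337 D29686))
theorem Q15652 : ∀ i, i < 15652 → P i := stepQ 15651 Q15651 (allL N15651 (tt N19334 (iv F64089)) (tt N11332 F53287) (tt N11487 F61760) (tt N11935 F53288) (tt N11328 (iv D25932)) (tt N19338 D29687) (tt N19339 D29688))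
theorem Q15653 : ∀ i, i < 15653 → P i := stepQ 15652 Q15652 (allL N15652 (tt N15542 F53289) (tt N15768 (iv F53549)) (tt N19336 (iv F64099)) (tt N11329 F53290) (tt N19338 (iv F64110)) (tt N11328 (iv D25933)) (tt N19340 D29689))
theorem Q15654 : ∀ i, i < 15654 → P i := stepQ 15653 Q15653 (allL N15653 (tt N19335 (iv F64094)) (tt N11373 F53291) (tt N19337 (iv F64104)) (tt N11330 F53292) (tt N19339 (iv F64114)) (tt N19239 (iv F63741)) (tt N11328 (iv D25934)))
theorem Q15655 : ∀ i, i < 15655 → P i := stepQ 15654 Q15654 (allL N15654 (tt N15553 F53293) (tt N17936 (iv F60122)) (tt N19327 (iv F64062)) (tt N19340 (iv F64118)) (tt N11938 F53294) (tt N15649 F53295) (tt N11329 (iv D25935)))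
theorem Q15656 : ∀ i, i < 15656 → P i := stepQ 15655 Q15655 (allL N15655 (tt N11494 F61748) (tt N11331 (iv D25936)) (tt N11491 F61749) (tt N15373 F53296) (tt N11490 F61750) (tt N11537 F61751) (tt N15987 F61752))
theorem Q15657 : ∀ i, i < 15657 → P i := stepQ 15656 Q15656 (allL N15656 (tt N11335 F53297) (tt N11490 F61756) (tt N11332 F53298) (tt N15477 F61757) (tt N11331 (iv D25937)) (tt N15762 (iv F53545)) (tt N11378 F53299))
theorem Q15658 : ∀ i, i < 15658 → P i := stepQ 15657 Q15657 (allL N15657 (tt N11333 (iv D25938)) (tt N17775 (iv F64397)) (tt N18488 (iv F61729)) (tt N19341 D29691) (tt N19342 D29692) (tt N19343 D29693) (tt N19344 D29694))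
theorem Q15659 : ∀ i, i < 15659 → P i := stepQ 15658 Q15658 (allL N15658 (tt N19341 (iv F64120)) (tt N11334 F53300) (tt N19345 D29695) (tt N11333 (iv D25939)) (tt N19346 D29696) (tt N19345 F64126) (tt N19347 D29697))
theorem Q15660 : ∀ i, i < 15660 → P i := stepQ 15659 Q15659 (allL N15659 (tt N19342 (iv F64121)) (tt N11335 F53301) (tt N18485 (iv F61722)) (tt N19348 D29698) (tt N11333 (iv D25940)) (tt N19349 D29699) (tt N19350 D29700))
theorem Q15661 : ∀ i, i < 15661 → P i := stepQ 15660 Q15660 (allL N15660 (tt N19343 (iv F64122)) (tt N19351 D29701) (tt N18489 (iv F61731)) (tt N19345 (iv F64127)) (tt N19349 (iv F64132)) (tt N11333 (iv D25941)) (tt N19352 D29702))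
theorem Q15662 : ∀ i, i < 15662 → P i := stepQ 15661 Q15661 (allL N15661 (tt N19344 (iv F64123)) (tt N11389 F53302) (tt N14554 F53303) (tt N19347 (iv F64130)) (tt N19350 (iv F64135)) (tt N19353 D29703) (tt N11333 (iv D25942)))
theorem Q15663 : ∀ i, i < 15663 → P i := stepQ 15662 Q15662 (allL N15662 (tt N15374 F53304) (tt N19346 (iv F64128)) (tt N15372 F53305) (tt N19354 D29704) (tt N11334 (iv D25943)) (tt N19076 (iv F63308)) (tt N11390 F53306))
theorem Q15664 : ∀ i, i < 15664 → P i := stepQ 15663 Q15663 (allL N15663 (tt N15477 (iv F61758)) (tt N19348 (iv F64131)) (tt N19355 D29705) (tt N11335 (iv D25944)) (tt N19354 (iv F64144)) (tt N19356 D29706) (tt N11392 F53307))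
theorem Q15665 : ∀ i, i < 15665 → P i := stepQ 15664 Q15664 (allL N15664 (tt N15762 (iv F53542)) (tt N19357 D29707) (tt N11337 F53308) (tt N19356 (iv F64149)) (tt N11336 F53309) (tt N11335 (iv D25945)) (tt N15733 (iv F53494)))
theorem Q15666 : ∀ i, i < 15666 → P i := stepQ 15665 Q15665 (allL N15665 (tt N19358 D29708) (tt N11336 (iv D25946)) (tt N19359 D29709) (tt N19080 (iv F63315)) (tt N19357 (iv F64150)) (tt N19351 (iv F64137)) (tt N19360 D29710))
theorem Q15667 : ∀ i, i < 15667 → P i := stepQ 15666 Q15666 (allL N15666 (tt N19361 D29711) (tt N11337 (iv D25947)) (tt N19362 D29712) (tt N11948 F53310) (tt N11338 F53311) (tt N18491 (iv F61735)) (tt N19363 D29713))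
theorem Q15668 : ∀ i, i < 15668 → P i := stepQ 15667 Q15667 (allL N15667 (tt N11338 (iv D25948)) (tt N19364 D29714) (tt N19365 D29715) (tt N11339 F53312) (tt N19361 (iv F64154)) (tt N18494 (iv F61745)) (tt N19366 D29716))
theorem Q15669 : ∀ i, i < 15669 → P i := stepQ 15668 Q15668 (allL N15668 (tt N19365 (iv F64165)) (tt N19359 (iv F64151)) (tt N11338 (iv D25949)) (tt N19367 D29717) (tt N19362 (iv F64158)) (tt N18495 (iv F61771)) (tt N19368 D29718))
theorem Q15670 : ∀ i, i < 15670 → P i := stepQ 15669 Q15669 (allL N15669 (tt N19366 (iv F64169)) (tt N15736 (iv F53498)) (tt N19368 (iv F64172)) (tt N11341 F53313) (tt N19363 (iv F64162)) (tt N19369 D29719) (tt N11338 (iv D25950)))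
theorem Q15671 : ∀ i, i < 15671 → P i := stepQ 15670 Q15670 (allL N15670 (tt N17398 (iv F58322)) (tt N11339 (iv D25951)) (tt N13796 (iv F53316)) (tt N19364 (iv F64163)) (tt N11951 F53314) (tt N13795 F53315) (tt N17401 (iv F58334)))
theorem Q15672 : ∀ i, i < 15672 → P i := stepQ 15671 Q15671 (allL N15671 (tt N11340 F53317) (tt N16643 (iv F56116)) (tt N11339 (iv D25952)) (tt N14899 (iv F53319)) (tt N11952 F53318) (tt N17578 (iv F58987)) (tt N14893 (iv F53320)))
theorem Q15673 : ∀ i, i < 15673 → P i := stepQ 15672 Q15672 (allL N15672 (tt N11341 F53321) (tt N16601 (iv F55970)) (tt N14893 F53322) (tt N19366 (iv F64170)) (tt N11953 F53323) (tt N14665 F53324) (tt N11339 (iv D25953)))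
theorem Q15674 : ∀ i, i < 15674 → P i := stepQ 15673 Q15673 (allL N15673 (tt N14899 F53325) (tt N11343 F53326) (tt N17303 (iv F58029)) (tt N11340 (iv D25954)) (tt N14858 F53327) (tt N18497 (iv F61776)) (tt N14895 (iv F53328)))
theorem Q15675 : ∀ i, i < 15675 → P i := stepQ 15674 Q15674 (allL N15674 (tt N14893 F53329) (tt N14531 (iv F53333)) (tt N11341 F53330) (tt N14895 F53331) (tt N11955 F53332) (tt N19370 D29720) (tt N11340 (iv D25955)))
theorem Q15676 : ∀ i, i < 15676 → P i := stepQ 15675 Q15675 (allL N15675 (tt N14665 F53334) (tt N14320 F53337) (tt N19370 (iv F64178)) (tt N19369 (iv F64174)) (tt N11956 F53335) (tt N11341 (iv D25956)) (tt N14663 F53336))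
theorem Q15677 : ∀ i, i < 15677 → P i := stepQ 15676 Q15676 (allL N15676 (tt N11343 F53338) (tt N13743 F53339) (tt N14822 (iv F53342)) (tt N11342 (iv D25957)) (tt N14824 F53340) (tt N11345 F53341) (tt N15687 (iv F53381)))
theorem Q15678 : ∀ i, i < 15678 → P i := stepQ 15677 Q15677 (allL N15677 (tt N15687 (iv F53379)) (tt N16756 F56507) (tt N17304 (iv F58032)) (tt N11344 F53343) (tt N13595 F53344) (tt N15681 (iv F53364)) (tt N11343 (iv D25958)))
theorem Q15679 : ∀ i, i < 15679 → P i := stepQ 15678 Q15678 (allL N15678 (tt N14528 (iv F53348)) (tt N11344 (iv D25959)) (tt N14527 F53345) (tt N16756 F56508) (tt N11958 F53346) (tt N18348 (iv F61299)) (tt N14531 F53347))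
theorem Q15680 : ∀ i, i < 15680 → P i := stepQ 15679 Q15679 (allL N15679 (tt N11347 F53349) (tt N12276 F53350) (tt N11345 (iv D25960)) (tt N15386 F53352) (tt N12277 F53356) (tt N14822 F53351) (tt N19371 D29721))
theorem Q15681 : ∀ i, i < 15681 → P i := stepQ 15680 Q15680 (allL N15680 (tt N11348 F53357) (tt N14337 F53358) (tt N12277 F53359) (tt N11959 F53360) (tt N11345 (iv D25961)) (tt N14824 F53361) (tt N17506 (iv F58751)))
theorem Q15682 : ∀ i, i < 15682 → P i := stepQ 15681 Q15681 (allL N15681 (tt N11349 F53362) (tt N19372 D29722) (tt N19371 (iv F64184)) (tt N11346 F53363) (tt N17506 (iv F58750)) (tt N15677 F53364) (tt N11345 (iv D25962)))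
theorem Q15683 : ∀ i, i < 15683 → P i := stepQ 15682 Q15682 (allL N15682 (tt N15682 F53365) (tt N11346 (iv D25963)) (tt N14339 F53366) (tt N19372 (iv F64190)) (tt N11960 F53367) (tt N19373 D29723) (tt N14339 F53368))
theorem Q15684 : ∀ i, i < 15684 → P i := stepQ 15683 Q15683 (allL N15683 (tt N15386 F53369) (tt N17283 F57982) (tt N15384 F53370) (tt N11347 (iv D25964)) (tt N18523 (iv F61858)) (tt N17284 (iv F57984)) (tt N19374 D29724))
theorem Q15685 : ∀ i, i < 15685 → P i := stepQ 15684 Q15684 (allL N15684 (tt N19371 (iv F64182)) (tt N19375 D29725) (tt N11349 F53371) (tt N19374 (iv F64199)) (tt N17467 (iv F58598)) (tt N17918 (iv F60062)) (tt N11347 (iv D25965)))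
theorem Q15686 : ∀ i, i < 15686 → P i := stepQ 15685 Q15685 (allL N15685 (tt N17506 (iv F58747)) (tt N14088 F53372) (tt N17467 (iv F58596)) (tt N11961 F53373) (tt N11349 F53374) (tt N17505 (iv F58745)) (tt N11348 (iv D25966)))
theorem Q15687 : ∀ i, i < 15687 → P i := stepQ 15686 Q15686 (allL N15686 (tt N17369 (iv F58202)) (tt N11349 (iv D25967)) (tt N14089 (iv F53378)) (tt N11350 F53375) (tt N14088 F53376) (tt N18536 (iv F61910)) (tt N14986 F53377))
theorem Q15688 : ∀ i, i < 15688 → P i := stepQ 15687 Q15687 (allL N15687 (tt N15677 F53379) (tt N19376 D29726) (tt N17918 (iv F60061)) (tt N11351 F53380) (tt N17505 (iv F58744)) (tt N11349 (iv D25968)) (tt N15676 F53381))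
theorem Q15689 : ∀ i, i < 15689 → P i := stepQ 15688 Q15688 (allL N15688 (tt N17552 (iv F58908)) (tt N19377 D29727) (tt N13770 F53382) (tt N18536 (iv F61908)) (tt N11963 F53383) (tt N11350 (iv D25969)) (tt N17697 (iv F59322)))
theorem Q15690 : ∀ i, i < 15690 → P i := stepQ 15689 Q15689 (allL N15689 (tt N19378 D29728) (tt N11351 (iv D25970)) (tt N15919 (iv F53976)) (tt N19376 (iv F64206)) (tt N11964 F53384) (tt N19377 (iv F64210)) (tt N17589 (iv F59016)))
theorem Q15691 : ∀ i, i < 15691 → P i := stepQ 15690 Q15690 (allL N15690 (tt N11624 F53385) (tt N11353 F53386) (tt N19379 D29729) (tt N11352 (iv D25971)) (tt N18700 (iv F62378)) (tt N19267 (iv F63845)) (tt N19380 D29730))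
theorem Q15692 : ∀ i, i < 15692 → P i := stepQ 15691 Q15691 (allL N15691 (tt N11625 F53387) (tt N19381 D29731) (tt N15921 (iv F53981)) (tt N19267 (iv F63844)) (tt N11860 F53388) (tt N11352 (iv D25972)) (tt N11871 F53389))
theorem Q15693 : ∀ i, i < 15693 → P i := stepQ 15692 Q15692 (allL N15692 (tt N11626 F53390) (tt N17610 F59069) (tt N15922 (iv F53984)) (tt N19380 (iv F64217)) (tt N11965 F53391) (tt N16086 (iv F54371)) (tt N11352 (iv D25973)))
theorem Q15694 : ∀ i, i < 15694 → P i := stepQ 15693 Q15693 (allL N15693 (tt N11361 F53392) (tt N19382 D29732) (tt N13007 F53393) (tt N11354 F53394) (tt N11521 F53395) (tt N11353 (iv D25974)) (tt N11519 F53396))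
theorem Q15695 : ∀ i, i < 15695 → P i := stepQ 15694 Q15694 (allL N15694 (tt N11362 F53397) (tt N19383 D29733) (tt N13096 F53398) (tt N11355 F53399) (tt N15923 (iv F53990)) (tt N15123 F53400) (tt N11353 (iv D25975)))
theorem Q15696 : ∀ i, i < 15696 → P i := stepQ 15695 Q15695 (allL N15695 (tt N13858 (iv F53404)) (tt N11354 (iv D25976)) (tt N13621 F53401) (tt N19382 (iv F64225)) (tt N11966 F53402) (tt N19381 (iv F64222)) (tt N13623 F53403))
theorem Q15697 : ∀ i, i < 15697 → P i := stepQ 15696 Q15696 (allL N15696 (tt N13653 (iv F53407)) (tt N11355 (iv D25977)) (tt N13650 F53405) (tt N19383 (iv F64230)) (tt N11967 F53406) (tt N19384 D29734) (tt N17610 (iv F59068)))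
theorem Q15698 : ∀ i, i < 15698 → P i := stepQ 15697 Q15697 (allL N15697 (tt N11357 F53408) (tt N11628 F53409) (tt N13213 F53410) (tt N11356 (iv D25978)) (tt N15227 F53411) (tt N15828 (iv F53710)) (tt N19385 D29735))
theorem Q15699 : ∀ i, i < 15699 → P i := stepQ 15698 Q15698 (allL N15698 (tt N11359 F53412) (tt N14070 F53413) (tt N11369 F53414) (tt N19385 (iv F64240)) (tt N11968 F53415) (tt N15703 (iv F53431)) (tt N11356 (iv D25979)))
theorem Q15700 : ∀ i, i < 15700 → P i := stepQ 15699 Q15699 (allL N15699 (tt N15227 F53416) (tt N11360 F53417) (tt N13214 F53418) (tt N11969 F53419) (tt N11357 (iv D25980)) (tt N14208 (iv F53420)) (tt N15879 (iv F53864)))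
theorem Q15701 : ∀ i, i < 15701 → P i := stepQ 15700 Q15700 (allL N15700 (tt N15828 (iv F53708)) (tt N19386 D29736) (tt N13215 F53421) (tt N11358 F53422) (tt N14208 F53423) (tt N11357 (iv D25981)) (tt N19387 D29737))
theorem Q15702 : ∀ i, i < 15702 → P i := stepQ 15701 Q15701 (allL N15701 (tt N19385 (iv F64237)) (tt N19388 D29738) (tt N13216 F53424) (tt N11359 F53425) (tt N15879 (iv F53863)) (tt N15878 F53860) (tt N11357 (iv D25982)))
theorem Q15703 : ∀ i, i < 15703 → P i := stepQ 15702 Q15702 (allL N15702 (tt N15789 (iv F53610)) (tt N11358 (iv D25983)) (tt N15787 (iv F53605)) (tt N19386 (iv F64242)) (tt N11970 F53426) (tt N11363 F53427) (tt N15786 F53603))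
theorem Q15704 : ∀ i, i < 15704 → P i := stepQ 15703 Q15703 (allL N15703 (tt N12135 F53428) (tt N17893 (iv F59962)) (tt N11375 F53429) (tt N19387 (iv F64247)) (tt N11971 F53430) (tt N15698 F53431) (tt N11358 (iv D25984)))
theorem Q15705 : ∀ i, i < 15705 → P i := stepQ 15704 Q15704 (allL N15704 (tt N15704 F53432) (tt N11359 (iv D25985)) (tt N19328 (iv F64066)) (tt N19388 (iv F64253)) (tt N11972 F53433) (tt N19328 (iv F64068)) (tt N11364 F53434))
theorem Q15706 : ∀ i, i < 15706 → P i := stepQ 15705 Q15705 (allL N15705 (tt N11521 F53435) (tt N19389 D29739) (tt N13006 F53436) (tt N11514 F53437) (tt N11361 F53438) (tt N11360 (iv D25986)) (tt N11512 F53439))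
theorem Q15707 : ∀ i, i < 15707 → P i := stepQ 15706 Q15706 (allL N15706 (tt N15781 (iv F57655)) (tt N11361 (iv D25987)) (tt N15780 F57656) (tt N11363 F53440) (tt N19389 (iv F64256)) (tt N19386 (iv F64244)) (tt N19390 D29740))
theorem Q15708 : ∀ i, i < 15708 → P i := stepQ 15707 Q15707 (allL N15707 (tt N15707 F53443) (tt N11362 (iv D25988)) (tt N15707 F53441) (tt N11364 F53442) (tt N15934 (iv F54036)) (tt N19332 (iv F64083)) (tt N19388 (iv F64254)))
theorem Q15709 : ∀ i, i < 15709 → P i := stepQ 15708 Q15708 (allL N15708 (tt N11363 (iv D25989)) (tt N17150 (iv F57653)) (tt N15790 (iv F53615)) (tt N15781 F57654) (tt N11974 F53444) (tt N15789 F53613) (tt N19391 D29741))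
theorem Q15710 : ∀ i, i < 15710 → P i := stepQ 15709 Q15709 (allL N15709 (tt N15790 (iv F53614)) (tt N11365 F53445) (tt N11363 (iv D25990)) (tt N19392 D29742) (tt N11975 F53446) (tt N15787 (iv F53607)) (tt N11405 (iv F53447)))
theorem Q15711 : ∀ i, i < 15711 → P i := stepQ 15710 Q15710 (allL N15710 (tt N19391 (iv F64262)) (tt N11426 F53448) (tt N11405 F53449) (tt N19390 (iv F64260)) (tt N11976 F53450) (tt N11412 (iv F53451)) (tt N11363 (iv D25991)))
theorem Q15712 : ∀ i, i < 15712 → P i := stepQ 15711 Q15711 (allL N15711 (tt N16118 F54439) (tt N19392 (iv F64267)) (tt N19393 D29743) (tt N11365 (iv D25992)) (tt N19394 D29744) (tt N11384 F53452) (tt N15062 F53453))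
theorem Q15713 : ∀ i, i < 15713 → P i := stepQ 15712 Q15712 (allL N15712 (tt N11587 F53454) (tt N11367 F53455) (tt N13139 (iv F53456)) (tt N11366 (iv D25993)) (tt N19395 D29745) (tt N18613 (iv F62179)) (tt N19396 D29746))
theorem Q15714 : ∀ i, i < 15714 → P i := stepQ 15713 Q15713 (allL N15713 (tt N11589 F53457) (tt N17626 (iv F59107)) (tt N11641 F53458) (tt N19396 (iv F64284)) (tt N11979 F53459) (tt N16033 (iv F54239)) (tt N11366 (iv D25994)))
theorem Q15715 : ∀ i, i < 15715 → P i := stepQ 15714 Q15714 (allL N15714 (tt N11371 F53460) (tt N19395 (iv F64278)) (tt N17347 (iv F58131)) (tt N11980 F53461) (tt N11367 (iv D25995)) (tt N19397 D29747) (tt N19398 D29748))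
theorem Q15716 : ∀ i, i < 15716 → P i := stepQ 15715 Q15715 (allL N15715 (tt N11372 F53462) (tt N15827 (iv F53705)) (tt N17348 (iv F58135)) (tt N11368 F53463) (tt N19397 (iv F64287)) (tt N11367 (iv D25996)) (tt N15726 (iv F53482)))
theorem Q15717 : ∀ i, i < 15717 → P i := stepQ 15716 Q15716 (allL N15716 (tt N11373 F53464) (tt N19399 D29749) (tt N17349 (iv F58139)) (tt N11369 F53465) (tt N19398 (iv F64290)) (tt N15725 (iv F53479)) (tt N11367 (iv D25997)))
theorem Q15718 : ∀ i, i < 15718 → P i := stepQ 15717 Q15717 (allL N15717 (tt N13257 (iv F53467)) (tt N11369 (iv D25998)) (tt N18360 (iv F61334)) (tt N19399 (iv F64292)) (tt N11982 F53466) (tt N18360 (iv F61336)) (tt N17626 (iv F59109)))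
theorem Q15719 : ∀ i, i < 15719 → P i := stepQ 15718 Q15718 (allL N15718 (tt N19400 D29750) (tt N11370 (iv D25999)) (tt N11377 F53468) (tt N17344 (iv F58121)) (tt N19401 D29751) (tt N19402 D29752) (tt N19403 D29753))
theorem Q15720 : ∀ i, i < 15720 → P i := stepQ 15719 Q15719 (allL N15719 (tt N17347 (iv F58129)) (tt N19401 (iv F64296)) (tt N11371 F53469) (tt N19404 D29754) (tt N11370 (iv D26000)) (tt N19405 D29755) (tt N19406 D29756))
theorem Q15721 : ∀ i, i < 15721 → P i := stepQ 15720 Q15720 (allL N15720 (tt N17348 (iv F58133)) (tt N19407 D29757) (tt N11372 F53470) (tt N17345 (iv F58124)) (tt N19405 (iv F64304)) (tt N11370 (iv D26001)) (tt N18912 (iv F62880)))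
theorem Q15722 : ∀ i, i < 15722 → P i := stepQ 15721 Q15721 (allL N15721 (tt N17349 (iv F58137)) (tt N19408 D29758) (tt N11373 F53471) (tt N17346 (iv F58127)) (tt N19406 (iv F64306)) (tt N19409 D29759) (tt N11370 (iv D26002)))
theorem Q15723 : ∀ i, i < 15723 → P i := stepQ 15722 Q15722 (allL N15722 (tt N19397 (iv F64285)) (tt N16814 (iv F56695)) (tt N19405 (iv F64303)) (tt N11986 F53472) (tt N11372 F53473) (tt N11371 (iv D26003)) (tt N19410 D29760))
theorem Q15724 : ∀ i, i < 15724 → P i := stepQ 15723 Q15723 (allL N15723 (tt N19398 (iv F64288)) (tt N19339 (iv F64111)) (tt N19406 (iv F64305)) (tt N11987 F53474) (tt N11373 F53475) (tt N19411 D29761) (tt N11371 (iv D26004)))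
theorem Q15725 : ∀ i, i < 15725 → P i := stepQ 15724 Q15724 (allL N15724 (tt N16816 (iv F56699)) (tt N11372 (iv D26005)) (tt N19412 D29762) (tt N11374 F53476) (tt N16814 (iv F56696)) (tt N11381 F53477) (tt N19413 D29763))
theorem Q15726 : ∀ i, i < 15726 → P i := stepQ 15725 Q15725 (allL N15725 (tt N15726 (iv F53480)) (tt N17894 (iv F59968)) (tt N18912 (iv F62881)) (tt N11375 F53478) (tt N19410 (iv F64312)) (tt N15716 F53479) (tt N11372 (iv D26006)))
theorem Q15727 : ∀ i, i < 15727 → P i := stepQ 15726 Q15726 (allL N15726 (tt N15725 F53480) (tt N18088 (iv F60543)) (tt N19409 (iv F64308)) (tt N11376 F53481) (tt N19411 (iv F64318)) (tt N11373 (iv D26007)) (tt N15715 F53482))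
theorem Q15728 : ∀ i, i < 15728 → P i := stepQ 15727 Q15727 (allL N15727 (tt N15738 (iv F53503)) (tt N17885 (iv F59928)) (tt N18505 (iv F61801)) (tt N19413 (iv F64323)) (tt N11991 F53483) (tt N12805 F53484) (tt N11374 (iv D26008)))
theorem Q15729 : ∀ i, i < 15729 → P i := stepQ 15728 Q15728 (allL N15728 (tt N11377 (iv D26009)) (tt N19414 D29764) (tt N19400 (iv F64295)) (tt N15409 F53485) (tt N19415 D29765) (tt N19416 D29766) (tt N15956 (iv F64362)))
theorem Q15730 : ∀ i, i < 15730 → P i := stepQ 15729 Q15729 (allL N15729 (tt N19415 (iv F64328)) (tt N11378 F53486) (tt N19401 (iv F64297)) (tt N19417 D29768) (tt N11377 (iv D26010)) (tt N19418 D29769) (tt N15989 (iv F61755)))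
theorem Q15731 : ∀ i, i < 15731 → P i := stepQ 15730 Q15730 (allL N15730 (tt N19416 (iv F64329)) (tt N19419 D29770) (tt N19402 (iv F64298)) (tt N15411 F53487) (tt N19418 (iv F64337)) (tt N11377 (iv D26011)) (tt N11536 (iv F64355)))
theorem Q15732 : ∀ i, i < 15732 → P i := stepQ 15731 Q15731 (allL N15731 (tt N15956 (iv F64361)) (tt N15987 (iv F61753)) (tt N19403 (iv F64299)) (tt N15412 F53488) (tt N15989 F61754) (tt N15954 (iv F64359)) (tt N11377 (iv D26012)))
theorem Q15733 : ∀ i, i < 15733 → P i := stepQ 15732 Q15732 (allL N15732 (tt N11392 F53489) (tt N19417 (iv F64334)) (tt N16410 (iv F55330)) (tt N11378 (iv D26013)) (tt N15413 F53490) (tt N19420 D29773) (tt N15477 (iv F61759)))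
theorem Q15734 : ∀ i, i < 15734 → P i := stepQ 15733 Q15733 (allL N15733 (tt N11393 F53491) (tt N17807 (iv F59634)) (tt N11380 F53492) (tt N19420 (iv F64346)) (tt N11379 F53493) (tt N11378 (iv D26014)) (tt N15664 F53494))
theorem Q15735 : ∀ i, i < 15735 → P i := stepQ 15734 Q15734 (allL N15734 (tt N17812 (iv F59647)) (tt N11379 (iv D26015)) (tt N17808 (iv F59638)) (tt N15415 F53495) (tt N17807 F59635) (tt N19419 (iv F64339)) (tt N19421 D29774))
theorem Q15736 : ∀ i, i < 15736 → P i := stepQ 15735 Q15735 (allL N15735 (tt N16824 (iv F56725)) (tt N17808 (iv F59637)) (tt N11381 (iv D26016)) (tt N15255 (iv F53497)) (tt N15257 F53496) (tt N19412 (iv F64321)) (tt N19422 D29775))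
theorem Q15737 : ∀ i, i < 15737 → P i := stepQ 15736 Q15736 (allL N15736 (tt N16826 (iv F56729)) (tt N15669 F53498) (tt N19422 (iv F64399)) (tt N11383 F53499) (tt N16823 (iv F56723)) (tt N19423 D29776) (tt N11381 (iv D26017)))
theorem Q15738 : ∀ i, i < 15738 → P i := stepQ 15737 Q15737 (allL N15737 (tt N16868 (iv F56870)) (tt N11384 F53500) (tt N14261 F53502) (tt N11382 (iv D26018)) (tt N14260 F53501) (tt N18501 (iv F61789)) (tt N18342 (iv F61273)))
theorem Q15739 : ∀ i, i < 15739 → P i := stepQ 15738 Q15738 (allL N15738 (tt N15727 F53503) (tt N13730 F53504) (tt N14675 F53505) (tt N19423 (iv F64404)) (tt N11999 F53506) (tt N11383 (iv D26019)) (tt N12792 F53507))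
theorem Q15740 : ∀ i, i < 15740 → P i := stepQ 15739 Q15739 (allL N15739 (tt N18656 (iv F62292)) (tt N19424 D29777) (tt N11384 (iv D26020)) (tt N18686 (iv F62350)) (tt N19425 D29778) (tt N19393 (iv F64271)) (tt N18652 (iv F62285)))
theorem Q15741 : ∀ i, i < 15741 → P i := stepQ 15740 Q15740 (allL N15740 (tt N18657 (iv F62294)) (tt N14260 F53508) (tt N19425 (iv F64413)) (tt N12000 F53509) (tt N11384 (iv D26021)) (tt N19394 (iv F64275)) (tt N18653 (iv F62290)))
theorem Q15742 : ∀ i, i < 15742 → P i := stepQ 15741 Q15741 (allL N15741 (tt N19426 D29779) (tt N11385 (iv D26022)) (tt N12201 F53510) (tt N19427 D29780) (tt N19428 D29781) (tt N19429 D29782) (tt N12200 (iv F53511)))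
theorem Q15743 : ∀ i, i < 15743 → P i := stepQ 15742 Q15742 (allL N15742 (tt N11386 F53512) (tt N19427 (iv F64417)) (tt N17790 (iv F59591)) (tt N11385 (iv D26023)) (tt N19430 D29783) (tt N19431 D29784) (tt N19432 D29785))
theorem Q15744 : ∀ i, i < 15744 → P i := stepQ 15743 Q15743 (allL N15743 (tt N11387 F53513) (tt N19428 (iv F64420)) (tt N11607 F53514) (tt N19183 (iv F63581)) (tt N11385 (iv D26024)) (tt N19181 F63577) (tt N19433 D29786))
theorem Q15745 : ∀ i, i < 15745 → P i := stepQ 15744 Q15744 (allL N15744 (tt N11388 F53515) (tt N19434 D29787) (tt N11608 F53516) (tt N19431 (iv F64427)) (tt N19181 F63576) (tt N11385 (iv D26025)) (tt N15755 (iv F53533)))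
theorem Q15746 : ∀ i, i < 15746 → P i := stepQ 15745 Q15745 (allL N15745 (tt N11389 F53517) (tt N15969 F55310) (tt N11609 F53518) (tt N19432 (iv F64429)) (tt N19433 (iv F64432)) (tt N15754 (iv F53530)) (tt N11385 (iv D26026)))
theorem Q15747 : ∀ i, i < 15747 → P i := stepQ 15746 Q15746 (allL N15746 (tt N17790 (iv F59590)) (tt N15396 F53519) (tt N11386 (iv D26027)) (tt N17787 (iv F59581)) (tt N19435 D29788) (tt N19436 D29789) (tt N19437 D29790))
theorem Q15748 : ∀ i, i < 15748 → P i := stepQ 15747 Q15747 (allL N15747 (tt N19430 (iv F64425)) (tt N11390 F53520) (tt N19435 (iv F64438)) (tt N19438 D29791) (tt N11386 (iv D26028)) (tt N19439 D29792) (tt N19440 D29793))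
theorem Q15749 : ∀ i, i < 15749 → P i := stepQ 15748 Q15748 (allL N15748 (tt N19431 (iv F64426)) (tt N19130 F63445) (tt N19436 (iv F64439)) (tt N11388 F53521) (tt N19439 (iv F64443)) (tt N11386 (iv D26029)) (tt N19441 D29794))
theorem Q15750 : ∀ i, i < 15750 → P i := stepQ 15749 Q15749 (allL N15749 (tt N19432 (iv F64428)) (tt N19347 (iv F64129)) (tt N19437 (iv F64440)) (tt N11389 F53522) (tt N19440 (iv F64444)) (tt N19442 D29795) (tt N11386 (iv D26030)))
theorem Q15751 : ∀ i, i < 15751 → P i := stepQ 15750 Q15750 (allL N15750 (tt N19183 (iv F63579)) (tt N11392 F53523) (tt N19179 (iv F63568)) (tt N11387 (iv D26031)) (tt N19438 (iv F64442)) (tt N19177 F63563) (tt N19443 D29796))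
theorem Q15752 : ∀ i, i < 15752 → P i := stepQ 15751 Q15751 (allL N15751 (tt N19181 (iv F63573)) (tt N19444 D29797) (tt N11610 F53524) (tt N19177 (iv F63562)) (tt N11388 F53525) (tt N11387 (iv D26032)) (tt N19445 D29798))
theorem Q15753 : ∀ i, i < 15753 → P i := stepQ 15752 Q15752 (allL N15752 (tt N19433 (iv F64430)) (tt N19350 (iv F64133)) (tt N11611 F53526) (tt N19443 (iv F64452)) (tt N11389 F53527) (tt N19446 D29799) (tt N11387 (iv D26033)))
theorem Q15754 : ∀ i, i < 15754 → P i := stepQ 15753 Q15753 (allL N15753 (tt N11394 F59254) (tt N11388 (iv D26034)) (tt N16052 (iv F54279)) (tt N19130 (iv F63443)) (tt N19444 (iv F64456)) (tt N11394 F53528) (tt N19128 (iv F63437)))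
theorem Q15755 : ∀ i, i < 15755 → P i := stepQ 15754 Q15754 (allL N15754 (tt N15755 (iv F53531)) (tt N12017 (iv F55309)) (tt N11612 F53529) (tt N19441 (iv F64446)) (tt N19445 (iv F64459)) (tt N15745 F53530) (tt N11388 (iv D26035)))
theorem Q15756 : ∀ i, i < 15756 → P i := stepQ 15755 Q15755 (allL N15755 (tt N15754 F53531) (tt N19447 D29800) (tt N11613 F53532) (tt N19442 (iv F64449)) (tt N19446 (iv F64465)) (tt N11389 (iv D26036)) (tt N15744 F53533))
theorem Q15757 : ∀ i, i < 15757 → P i := stepQ 15756 Q15756 (allL N15756 (tt N15413 F53534) (tt N19438 (iv F64441)) (tt N19448 D29801) (tt N11390 (iv D26037)) (tt N11392 F53535) (tt N19449 D29802) (tt N19354 (iv F64145)))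
theorem Q15758 : ∀ i, i < 15758 → P i := stepQ 15757 Q15757 (allL N15757 (tt N15414 F53536) (tt N19450 D29803) (tt N15403 F53537) (tt N19449 (iv F64473)) (tt N11391 F53538) (tt N11390 (iv D26038)) (tt N19019 (iv F63186)))
theorem Q15759 : ∀ i, i < 15759 → P i := stepQ 15758 Q15758 (allL N15758 (tt N19130 (iv F63441)) (tt N11391 (iv D26039)) (tt N15420 F63090) (tt N11394 F53539) (tt N19450 (iv F64475)) (tt N19130 (iv F63444)) (tt N15419 (iv F63091)))
theorem Q15760 : ∀ i, i < 15760 → P i := stepQ 15759 Q15759 (allL N15759 (tt N16410 (iv F55329)) (tt N19451 D29804) (tt N11392 (iv D26040)) (tt N16382 (iv F55241)) (tt N19448 (iv F64470)) (tt N19452 D29805) (tt N19355 (iv F64147)))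
theorem Q15761 : ∀ i, i < 15761 → P i := stepQ 15760 Q15760 (allL N15760 (tt N19420 (iv F64345)) (tt N19453 D29806) (tt N19452 (iv F64481)) (tt N11393 F53540) (tt N19449 (iv F64474)) (tt N11392 (iv D26041)) (tt N19155 (iv F63508)))
theorem Q15762 : ∀ i, i < 15762 → P i := stepQ 15761 Q15761 (allL N15761 (tt N19444 (iv F64454)) (tt N11393 (iv D26042)) (tt N18390 (iv F61476)) (tt N19453 (iv F64482)) (tt N11394 F53541) (tt N19444 (iv F64457)) (tt N19414 (iv F64371)))
theorem Q15763 : ∀ i, i < 15763 → P i := stepQ 15762 Q15762 (allL N15762 (tt N15664 F53542) (tt N15956 (iv F61761)) (tt N11396 F53543) (tt N19155 (iv F63507)) (tt N11395 F53544) (tt N15656 F53545) (tt N11393 (iv D26043)))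
theorem Q15764 : ∀ i, i < 15764 → P i := stepQ 15763 Q15763 (allL N15763 (tt N19128 (iv F63433)) (tt N19415 F64381) (tt N15455 (iv F63088)) (tt N15419 F63092) (tt N19414 (iv F64383)) (tt N15763 F59256) (tt N11394 (iv D26045)))
theorem Q15765 : ∀ i, i < 15765 → P i := stepQ 15764 Q15764 (allL N15764 (tt N15989 F64390) (tt N11395 (iv D26046)) (tt N19454 D29807) (tt N19020 (iv F63187)) (tt N15956 F61762) (tt N15955 (iv F61763)) (tt N19415 (iv F64372)))
theorem Q15766 : ∀ i, i < 15766 → P i := stepQ 15765 Q15765 (allL N15765 (tt N19455 D29808) (tt N11396 (iv D26047)) (tt N19456 D29809) (tt N12021 F53546) (tt N11397 F53547) (tt N19457 D29810) (tt N18392 (iv F61484)))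
theorem Q15767 : ∀ i, i < 15767 → P i := stepQ 15766 Q15766 (allL N15766 (tt N11397 (iv D26048)) (tt N17523 F58813) (tt N19458 D29811) (tt N11398 F53548) (tt N19455 (iv F64486)) (tt N19459 D29812) (tt N18407 (iv F61510)))
theorem Q15768 : ∀ i, i < 15768 → P i := stepQ 15767 Q15767 (allL N15767 (tt N19458 (iv F64493)) (tt N19454 (iv F64484)) (tt N11397 (iv D26049)) (tt N19460 D29813) (tt N19456 (iv F64489)) (tt N19461 D29814) (tt N18408 (iv F61511)))
theorem Q15769 : ∀ i, i < 15769 → P i := stepQ 15768 Q15768 (allL N15768 (tt N19459 (iv F64495)) (tt N15652 F53549) (tt N19461 (iv F64500)) (tt N11400 F53550) (tt N19457 (iv F64492)) (tt N11397 (iv D26050)) (tt N19462 D29815))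
theorem Q15770 : ∀ i, i < 15770 → P i := stepQ 15769 Q15769 (allL N15769 (tt N11399 F53551) (tt N13645 F53552) (tt N11398 (iv D26051)) (tt N16940 F57073) (tt N12024 F53553) (tt N19463 D29816) (tt N18410 (iv F61517)))
theorem Q15771 : ∀ i, i < 15771 → P i := stepQ 15770 Q15770 (allL N15770 (tt N11400 F53554) (tt N17655 (iv F59183)) (tt N19463 (iv F64506)) (tt N19459 (iv F64496)) (tt N12025 F53555) (tt N11398 (iv D26052)) (tt N14587 F53556))
theorem Q15772 : ∀ i, i < 15772 → P i := stepQ 15771 Q15771 (allL N15771 (tt N19463 (iv F64504)) (tt N18124 F60642) (tt N11400 F53557) (tt N16942 (iv F57078)) (tt N12027 F53558) (tt N11399 (iv D26053)) (tt N19464 D29817))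
theorem Q15773 : ∀ i, i < 15773 → P i := stepQ 15772 Q15772 (allL N15772 (tt N14587 F53559) (tt N18378 (iv F61444)) (tt N19464 (iv F64510)) (tt N19462 (iv F64502)) (tt N12028 F53560) (tt N14585 F53561) (tt N11400 (iv D26054)))
theorem Q15774 : ∀ i, i < 15774 → P i := stepQ 15773 Q15773 (allL N15773 (tt N19370 (iv F64177)) (tt N11401 (iv D26055)) (tt N14665 F53562) (tt N14887 F53563) (tt N12029 F53564) (tt N14893 F53565) (tt N14664 F53566))
theorem Q15775 : ∀ i, i < 15775 → P i := stepQ 15774 Q15774 (allL N15774 (tt N11879 (iv F53570)) (tt N11402 (iv D26056)) (tt N11874 F53567) (tt N14972 F53568) (tt N11873 F53569) (tt N18124 (iv F60641)) (tt N14330 (iv F53571)))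
theorem Q15776 : ∀ i, i < 15776 → P i := stepQ 15775 Q15775 (allL N15775 (tt N14197 F53572) (tt N14350 F53573) (tt N15027 F53574) (tt N11403 (iv D26057)) (tt N18634 (iv F62240)) (tt N15587 F53575) (tt N15027 F53576))
theorem Q15777 : ∀ i, i < 15777 → P i := stepQ 15776 Q15776 (allL N15776 (tt N19465 D29818) (tt N11404 (iv D26058)) (tt N19466 D29819) (tt N11405 F53577) (tt N17266 (iv F57934)) (tt N11408 F53578) (tt N19392 (iv F64268)))
theorem Q15778 : ∀ i, i < 15778 → P i := stepQ 15777 Q15777 (allL N15777 (tt N13165 F53579) (tt N15062 (iv F53584)) (tt N12700 F53580) (tt N11406 F53581) (tt N13161 F53582) (tt N13160 F53583) (tt N11404 (iv D26059)))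
theorem Q15779 : ∀ i, i < 15779 → P i := stepQ 15778 Q15778 (allL N15778 (tt N11405 (iv D26060)) (tt N13871 (iv F53587)) (tt N19391 (iv F64264)) (tt N19465 (iv F64513)) (tt N12031 F53585) (tt N11411 F53586) (tt N15790 (iv F53617)))
theorem Q15780 : ∀ i, i < 15780 → P i := stepQ 15779 Q15779 (allL N15779 (tt N19467 D29820) (tt N11407 (iv D26061)) (tt N17657 (iv F59192)) (tt N12032 F53588) (tt N11408 F53589) (tt N17266 (iv F57935)) (tt N19468 D29821))
theorem Q15781 : ∀ i, i < 15781 → P i := stepQ 15780 Q15780 (allL N15780 (tt N11408 (iv D26062)) (tt N17157 (iv F57677)) (tt N15706 (iv F57656)) (tt N11411 F53590) (tt N19467 (iv F64524)) (tt N19465 (iv F64514)) (tt N19469 D29822))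
theorem Q15782 : ∀ i, i < 15782 → P i := stepQ 15781 Q15781 (allL N15781 (tt N15706 F57655) (tt N13064 F53591) (tt N11408 (iv D26063)) (tt N15708 (iv F57654)) (tt N17657 (iv F59191)) (tt N19466 (iv F64519)) (tt N19470 D29823))
theorem Q15783 : ∀ i, i < 15783 → P i := stepQ 15782 Q15782 (allL N15782 (tt N19469 (iv F64528)) (tt N15882 (iv F53875)) (tt N19470 (iv F64534)) (tt N11413 F53592) (tt N19468 (iv F64527)) (tt N19471 D29824) (tt N11408 (iv D26064)))
theorem Q15784 : ∀ i, i < 15784 → P i := stepQ 15783 Q15783 (allL N15783 (tt N15885 (iv F53883)) (tt N11409 (iv D26065)) (tt N19472 D29825) (tt N11414 F53593) (tt N17366 (iv F58194)) (tt N19473 D29826) (tt N15882 (iv F53876)))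
theorem Q15785 : ∀ i, i < 15785 → P i := stepQ 15784 Q15784 (allL N15784 (tt N19474 D29827) (tt N11410 (iv D26066)) (tt N19475 D29828) (tt N11415 F53594) (tt N13183 F53595) (tt N13173 F53596) (tt N19476 D29829))
theorem Q15786 : ∀ i, i < 15786 → P i := stepQ 15785 Q15785 (allL N15785 (tt N14615 (iv F53599)) (tt N11411 (iv D26067)) (tt N13873 (iv F53600)) (tt N17157 (iv F57678)) (tt N12037 F53597) (tt N13869 F53598) (tt N18442 (iv F61605)))
theorem Q15787 : ∀ i, i < 15787 → P i := stepQ 15786 Q15786 (allL N15786 (tt N11412 F53601) (tt N17728 (iv F59409)) (tt N11411 (iv D26068)) (tt N19477 D29830) (tt N12038 F53602) (tt N19391 (iv F64266)) (tt N15702 (iv F53603)))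
theorem Q15788 : ∀ i, i < 15788 → P i := stepQ 15787 Q15787 (allL N15787 (tt N11413 F53604) (tt N14674 (iv F53608)) (tt N15702 F53605) (tt N19469 (iv F64530)) (tt N12039 F53606) (tt N15709 F53607) (tt N11411 (iv D26069)))
theorem Q15789 : ∀ i, i < 15789 → P i := stepQ 15788 Q15788 (allL N15788 (tt N19477 (iv F64558)) (tt N11417 F53609) (tt N19392 (iv F64269)) (tt N11412 (iv D26070)) (tt N19478 D29831) (tt N19390 F64261) (tt N19466 (iv F64520)))
theorem Q15790 : ∀ i, i < 15790 → P i := stepQ 15789 Q15789 (allL N15789 (tt N15702 F53610) (tt N19479 D29832) (tt N11413 F53611) (tt N19466 F64521) (tt N12041 F53612) (tt N15708 (iv F53613)) (tt N11412 (iv D26071)))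
theorem Q15791 : ∀ i, i < 15791 → P i := stepQ 15790 Q15790 (allL N15790 (tt N15709 F53614) (tt N13844 (iv F53618)) (tt N15708 F53615) (tt N19471 (iv F64537)) (tt N12042 F53616) (tt N11413 (iv D26072)) (tt N15778 F53617))
theorem Q15792 : ∀ i, i < 15792 → P i := stepQ 15791 Q15791 (allL N15791 (tt N15886 (iv F53885)) (tt N14356 F53619) (tt N16327 (iv F55079)) (tt N19473 (iv F64546)) (tt N12043 F53620) (tt N11414 (iv D26073)) (tt N11488 F53621))
theorem Q15793 : ∀ i, i < 15793 → P i := stepQ 15792 Q15792 (allL N15792 (tt N11415 (iv D26074)) (tt N16138 (iv F54482)) (tt N13307 (iv F53624)) (tt N19474 (iv F64549)) (tt N12044 F53622) (tt N11647 F53623) (tt N17462 (iv F58577)))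
theorem Q15794 : ∀ i, i < 15794 → P i := stepQ 15793 Q15793 (allL N15793 (tt N13307 F53625) (tt N11419 F53626) (tt N11415 (iv D26075)) (tt N19480 D29833) (tt N12045 F53627) (tt N13456 F53628) (tt N16852 (iv F56810)))
theorem Q15795 : ∀ i, i < 15795 → P i := stepQ 15794 Q15794 (allL N15794 (tt N17462 (iv F58573)) (tt N14489 F53629) (tt N16852 (iv F56808)) (tt N19476 (iv F64556)) (tt N12046 F53630) (tt N16109 F54415) (tt N11415 (iv D26076)))
theorem Q15796 : ∀ i, i < 15796 → P i := stepQ 15795 Q15795 (allL N15795 (tt N11417 F53631) (tt N16089 (iv F54377)) (tt N19481 D29834) (tt N11416 (iv D26077)) (tt N19482 D29835) (tt N11443 F53632) (tt N14328 F53633))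
theorem Q15797 : ∀ i, i < 15797 → P i := stepQ 15796 Q15796 (allL N15796 (tt N19481 (iv F64574)) (tt N19393 (iv F64270)) (tt N11417 (iv D26078)) (tt N19483 D29836) (tt N19484 D29837) (tt N11444 F53634) (tt N19485 D29838))
theorem Q15798 : ∀ i, i < 15798 → P i := stepQ 15797 Q15797 (allL N15797 (tt N19482 (iv F64578)) (tt N19478 (iv F64562)) (tt N19484 (iv F64589)) (tt N12049 F53635) (tt N11417 (iv D26079)) (tt N11445 F53636) (tt N19486 D29839))
theorem Q15799 : ∀ i, i < 15799 → P i := stepQ 15798 Q15798 (allL N15798 (tt N14328 F53637) (tt N19487 D29840) (tt N19485 (iv F64593)) (tt N11418 F53638) (tt N19486 (iv F64598)) (tt N15560 F53639) (tt N11417 (iv D26080)))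
theorem Q15800 : ∀ i, i < 15800 → P i := stepQ 15799 Q15799 (allL N15799 (tt N19488 D29841) (tt N11418 (iv D26081)) (tt N15559 F53640) (tt N19487 (iv F64601)) (tt N12051 F53641) (tt N17786 (iv F59578)) (tt N19479 (iv F64569)))
theorem Q15801 : ∀ i, i < 15801 → P i := stepQ 15800 Q15800 (allL N15800 (tt N14291 F53642) (tt N19480 (iv F64571)) (tt N19489 D29842) (tt N11419 (iv D26082)) (tt N16778 (iv F56597)) (tt N18085 (iv F60534)) (tt N14285 F53643))
theorem Q15802 : ∀ i, i < 15802 → P i := stepQ 15801 Q15801 (allL N15801 (tt N11420 (iv D26083)) (tt N11618 (iv F53646)) (tt N19490 D29843) (tt N16238 (iv F54765)) (tt N12057 F53644) (tt N15801 F53645) (tt N11435 (iv F53647)))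
theorem Q15803 : ∀ i, i < 15803 → P i := stepQ 15802 Q15802 (allL N15802 (tt N19490 (iv F64611)) (tt N14128 F53648) (tt N11420 (iv D26084)) (tt N19491 D29844) (tt N12058 F53649) (tt N15802 F53650) (tt N19492 D29845))
theorem Q15804 : ∀ i, i < 15804 → P i := stepQ 15803 Q15803 (allL N15803 (tt N11435 F53651) (tt N11470 F53652) (tt N19492 (iv F64622)) (tt N16775 (iv F56583)) (tt N12059 F53653) (tt N11435 F53654) (tt N11420 (iv D26085)))
theorem Q15805 : ∀ i, i < 15805 → P i := stepQ 15804 Q15804 (allL N15804 (tt N19493 D29846) (tt N11421 (iv D26086)) (tt N17445 (iv F58514)) (tt N12065 F53655) (tt N11422 F53656) (tt N11431 F53657) (tt N16749 (iv F56487)))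
theorem Q15806 : ∀ i, i < 15806 → P i := stepQ 15805 Q15805 (allL N15805 (tt N11422 (iv D26087)) (tt N19494 D29847) (tt N19495 D29848) (tt N11425 F53658) (tt N19493 (iv F64629)) (tt N11432 F53659) (tt N15819 (iv F53692)))
theorem Q15807 : ∀ i, i < 15807 → P i := stepQ 15806 Q15806 (allL N15806 (tt N19495 (iv F64636)) (tt N16774 (iv F56578)) (tt N11422 (iv D26088)) (tt N19496 D29849) (tt N17445 (iv F58516)) (tt N11433 F53660) (tt N18706 (iv F62400)))
theorem Q15808 : ∀ i, i < 15808 → P i := stepQ 15807 Q15807 (allL N15807 (tt N15853 (iv F53780)) (tt N11424 (iv D26089)) (tt N17612 F59072) (tt N11427 F53661) (tt N17458 (iv F58563)) (tt N17262 (iv F57923)) (tt N15850 F53774))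
theorem Q15809 : ∀ i, i < 15809 → P i := stepQ 15808 Q15808 (allL N15808 (tt N11472 F53662) (tt N11425 (iv D26090)) (tt N12811 F53665) (tt N19494 (iv F64633)) (tt N12070 F53663) (tt N11470 F53664) (tt N15863 (iv F53813)))
theorem Q15810 : ∀ i, i < 15810 → P i := stepQ 15809 Q15809 (allL N15809 (tt N11426 F53666) (tt N13902 F53667) (tt N11425 (iv D26091)) (tt N19497 D29850) (tt N12071 F53668) (tt N11436 F53669) (tt N12225 F53670))
theorem Q15811 : ∀ i, i < 15811 → P i := stepQ 15810 Q15810 (allL N15810 (tt N19497 (iv F64641)) (tt N19390 (iv F64259)) (tt N19498 D29851) (tt N11426 (iv D26092)) (tt N19499 D29852) (tt N11438 F53671) (tt N18707 (iv F62404)))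
theorem Q15812 : ∀ i, i < 15812 → P i := stepQ 15811 Q15811 (allL N15811 (tt N14316 F53672) (tt N16860 (iv F56840)) (tt N11427 (iv D26093)) (tt N19500 D29853) (tt N12073 F53673) (tt N12763 F53674) (tt N15861 (iv F53807)))
theorem Q15813 : ∀ i, i < 15813 → P i := stepQ 15812 Q15812 (allL N15812 (tt N11431 (iv D26094)) (tt N16239 (iv F54767)) (tt N16388 (iv F55264)) (tt N12074 F53675) (tt N11432 F53676) (tt N19493 (iv F64630)) (tt N12614 (iv F53688)))
theorem Q15814 : ∀ i, i < 15814 → P i := stepQ 15813 Q15813 (allL N15813 (tt N12614 (iv F53687)) (tt N15273 F53677) (tt N16384 (iv F55247)) (tt N12075 F53678) (tt N11434 F53679) (tt N17471 (iv F58619)) (tt N11431 (iv D26095)))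
theorem Q15815 : ∀ i, i < 15815 → P i := stepQ 15814 Q15814 (allL N15814 (tt N16775 (iv F56580)) (tt N11432 (iv D26096)) (tt N16240 (iv F54772)) (tt N11435 F53680) (tt N16239 (iv F54769)) (tt N16775 (iv F56585)) (tt N16238 F54764))
theorem Q15816 : ∀ i, i < 15816 → P i := stepQ 15815 Q15815 (allL N15815 (tt N11433 F53681) (tt N17175 (iv F57721)) (tt N11432 (iv D26097)) (tt N19501 D29854) (tt N16388 (iv F55266)) (tt N19495 (iv F64638)) (tt N16386 F55259))
theorem Q15817 : ∀ i, i < 15817 → P i := stepQ 15816 Q15816 (allL N15816 (tt N11434 F53682) (tt N12598 (iv F53685)) (tt N16386 (iv F55258)) (tt N11437 F53683) (tt N12614 F53686) (tt N15121 F53684) (tt N11432 (iv D26098)))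
theorem Q15818 : ∀ i, i < 15818 → P i := stepQ 15817 Q15817 (allL N15817 (tt N19501 (iv F64658)) (tt N17242 (iv F57882)) (tt N19502 D29855) (tt N11433 (iv D26099)) (tt N17238 (iv F57876)) (tt N19496 (iv F64640)) (tt N19503 D29856))
theorem Q15819 : ∀ i, i < 15819 → P i := stepQ 15818 Q15818 (allL N15818 (tt N16386 (iv F55256)) (tt N17315 F58058) (tt N11434 F53689) (tt N19503 (iv F64659)) (tt N16384 F55248) (tt N17321 (iv F58070)) (tt N11433 (iv D26100)))
theorem Q15820 : ∀ i, i < 15820 → P i := stepQ 15819 Q15819 (allL N15819 (tt N15121 F53690) (tt N11467 (iv F53693)) (tt N17321 (iv F58068)) (tt N11440 F53691) (tt N17471 (iv F58618)) (tt N11434 (iv D26101)) (tt N15805 F53692))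
theorem Q15821 : ∀ i, i < 15821 → P i := stepQ 15820 Q15820 (allL N15820 (tt N19492 (iv F64620)) (tt N19504 D29857) (tt N11435 (iv D26102)) (tt N19505 D29858) (tt N12079 F53694) (tt N19492 (iv F64625)) (tt N19490 (iv F64615)))
theorem Q15822 : ∀ i, i < 15822 → P i := stepQ 15821 Q15821 (allL N15821 (tt N19479 (iv F64564)) (tt N11436 (iv D26103)) (tt N19504 (iv F64661)) (tt N19506 D29859) (tt N12080 F53695) (tt N13900 F53696) (tt N19488 (iv F64606)))
theorem Q15823 : ∀ i, i < 15823 → P i := stepQ 15822 Q15822 (allL N15822 (tt N11438 F53697) (tt N19506 (iv F64670)) (tt N19507 D29860) (tt N11436 (iv D26104)) (tt N19508 D29861) (tt N19497 (iv F64644)) (tt N19509 D29862))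
theorem Q15824 : ∀ i, i < 15824 → P i := stepQ 15823 Q15823 (allL N15823 (tt N11439 F53698) (tt N19384 (iv F64233)) (tt N11437 F53699) (tt N19509 (iv F64679)) (tt N12081 F53700) (tt N15122 F53701) (tt N11436 (iv D26105)))
theorem Q15825 : ∀ i, i < 15825 → P i := stepQ 15824 Q15824 (allL N15824 (tt N19507 (iv F64673)) (tt N19510 D29863) (tt N11438 (iv D26106)) (tt N19511 D29864) (tt N19512 D29865) (tt N19498 (iv F64647)) (tt N19513 D29866))
theorem Q15826 : ∀ i, i < 15826 → P i := stepQ 15825 Q15825 (allL N15825 (tt N19508 (iv F64675)) (tt N11445 F53702) (tt N19512 (iv F64693)) (tt N12082 F53703) (tt N11438 (iv D26107)) (tt N19499 (iv F64653)) (tt N16008 F54189))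
theorem Q15827 : ∀ i, i < 15827 → P i := stepQ 15826 Q15826 (allL N15826 (tt N19509 (iv F64678)) (tt N16020 (iv F54209)) (tt N19513 (iv F64698)) (tt N11439 F53704) (tt N16008 (iv F54188)) (tt N16007 F54185) (tt N11438 (iv D26108)))
theorem Q15828 : ∀ i, i < 15828 → P i := stepQ 15827 Q15827 (allL N15827 (tt N17953 (iv F60196)) (tt N15715 F53705) (tt N18309 (iv F61166)) (tt N11441 (iv D26109)) (tt N19514 D29867) (tt N15025 F53706) (tt N15531 F53707))
theorem Q15829 : ∀ i, i < 15829 → P i := stepQ 15828 Q15828 (allL N15828 (tt N15700 F53708) (tt N11443 F53709) (tt N17332 (iv F58088)) (tt N11442 (iv D26110)) (tt N15880 (iv F53867)) (tt N15697 F53710) (tt N15878 F53861))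
theorem Q15830 : ∀ i, i < 15830 → P i := stepQ 15829 Q15829 (allL N15829 (tt N11444 F53711) (tt N19515 D29868) (tt N11443 (iv D26111)) (tt N15441 F53712) (tt N19516 D29869) (tt N19481 (iv F64575)) (tt N19255 (iv F63795)))
theorem Q15831 : ∀ i, i < 15831 → P i := stepQ 15830 Q15830 (allL N15830 (tt N11445 F53713) (tt N15880 F53869) (tt N19516 (iv F64707)) (tt N12085 F53714) (tt N11443 (iv D26112)) (tt N19482 (iv F64581)) (tt N19256 (iv F63799)))
theorem Q15832 : ∀ i, i < 15832 → P i := stepQ 15831 Q15831 (allL N15831 (tt N19517 D29870) (tt N11444 (iv D26113)) (tt N19510 (iv F64681)) (tt N19518 D29871) (tt N19519 D29872) (tt N19424 (iv F64409)) (tt N19520 D29873))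
theorem Q15833 : ∀ i, i < 15833 → P i := stepQ 15832 Q15832 (allL N15832 (tt N15441 F53715) (tt N19518 (iv F64709)) (tt N15440 F53716) (tt N11444 (iv D26114)) (tt N19521 D29874) (tt N19483 (iv F64586)) (tt N19522 D29875))
theorem Q15834 : ∀ i, i < 15834 → P i := stepQ 15833 Q15833 (allL N15833 (tt N19516 (iv F64706)) (tt N19519 (iv F64713)) (tt N11445 F53717) (tt N19523 D29876) (tt N11444 (iv D26115)) (tt N19484 (iv F64590)) (tt N19524 D29877))
theorem Q15835 : ∀ i, i < 15835 → P i := stepQ 15834 Q15834 (allL N15834 (tt N19255 (iv F63794)) (tt N19525 D29878) (tt N11446 F53718) (tt N19522 (iv F64730)) (tt N19524 (iv F64733)) (tt N18121 (iv F60630)) (tt N11444 (iv D26116)))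
theorem Q15836 : ∀ i, i < 15836 → P i := stepQ 15835 Q15835 (allL N15835 (tt N19256 (iv F63797)) (tt N16022 (iv F54216)) (tt N19524 (iv F64732)) (tt N12089 F53719) (tt N11446 F53720) (tt N18122 (iv F60633)) (tt N11445 (iv D26117)))
theorem Q15837 : ∀ i, i < 15837 → P i := stepQ 15836 Q15836 (allL N15836 (tt N19526 D29879) (tt N11446 (iv D26118)) (tt N19527 D29880) (tt N11447 F53721) (tt N16022 (iv F54218)) (tt N19528 D29881) (tt N16020 F54212))
theorem Q15838 : ∀ i, i < 15838 → P i := stepQ 15837 Q15837 (allL N15837 (tt N11447 (iv D26119)) (tt N11635 (iv F53726)) (tt N15292 F53722) (tt N19526 (iv F64738)) (tt N12090 F53723) (tt N12231 F53725) (tt N13865 F53724))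
theorem Q15839 : ∀ i, i < 15839 → P i := stepQ 15838 Q15838 (allL N15838 (tt N12231 F53727) (tt N16280 (iv F54905)) (tt N15283 F53728) (tt N19528 (iv F64744)) (tt N12091 F53729) (tt N11447 (iv D26120)) (tt N12226 F53730))
theorem Q15840 : ∀ i, i < 15840 → P i := stepQ 15839 Q15839 (allL N15839 (tt N11453 F53731) (tt N17014 (iv F57289)) (tt N14677 F53732) (tt N11449 F53733) (tt N16926 (iv F57047)) (tt N11448 (iv D26121)) (tt N15843 (iv F53750)))
theorem Q15841 : ∀ i, i < 15841 → P i := stepQ 15840 Q15840 (allL N15840 (tt N11454 F53734) (tt N16899 (iv F56967)) (tt N14678 F53735) (tt N11450 F53736) (tt N12879 F53737) (tt N15609 F53738) (tt N11448 (iv D26122)))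
theorem Q15842 : ∀ i, i < 15842 → P i := stepQ 15841 Q15841 (allL N15841 (tt N14677 F53739) (tt N19529 D29882) (tt N11453 F53740) (tt N14669 F53741) (tt N18149 (iv F60726)) (tt N11451 (iv D26123)) (tt N18509 (iv F61819)))
theorem Q15843 : ∀ i, i < 15843 → P i := stepQ 15842 Q15842 (allL N15842 (tt N14678 F53742) (tt N14267 F53743) (tt N11454 F53744) (tt N14670 F53745) (tt N12880 F53746) (tt N18508 (iv F61814)) (tt N11451 (iv D26124)))
theorem Q15844 : ∀ i, i < 15844 → P i := stepQ 15843 Q15843 (allL N15843 (tt N15609 F53747) (tt N16733 (iv F56430)) (tt N18508 (iv F61811)) (tt N11458 F53748) (tt N12881 F53749) (tt N11454 (iv D26125)) (tt N15839 F53750))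
theorem Q15845 : ∀ i, i < 15845 → P i := stepQ 15844 Q15844 (allL N15844 (tt N16913 (iv F57013)) (tt N15435 F53751) (tt N11460 (iv D26126)) (tt N18098 (iv F60570)) (tt N18479 (iv F61702)) (tt N18095 (iv F60565)) (tt N16912 (iv F57012)))
theorem Q15846 : ∀ i, i < 15846 → P i := stepQ 15845 Q15845 (allL N15845 (tt N16909 (iv F56998)) (tt N11468 F53752) (tt N11461 (iv D26127)) (tt N18612 (iv F62173)) (tt N11683 F53753) (tt N16452 (iv F55489)) (tt N11682 F53754))
theorem Q15847 : ∀ i, i < 15847 → P i := stepQ 15846 Q15846 (allL N15846 (tt N19530 D29883) (tt N11462 (iv D26128)) (tt N13435 F53755) (tt N12102 F53756) (tt N11465 F53757) (tt N12615 F53758) (tt N19531 D29884))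
theorem Q15848 : ∀ i, i < 15848 → P i := stepQ 15847 Q15847 (allL N15847 (tt N19532 D29885) (tt N11463 (iv D26129)) (tt N13285 F53759) (tt N12103 F53760) (tt N11466 F53761) (tt N16537 (iv F55767)) (tt N11464 F53762))
theorem Q15849 : ∀ i, i < 15849 → P i := stepQ 15848 Q15848 (allL N15848 (tt N11464 (iv D26130)) (tt N17471 (iv F58616)) (tt N12237 (iv F53766)) (tt N12104 F53763) (tt N11467 F53764) (tt N12235 F53765) (tt N19532 (iv F64768)))
theorem Q15850 : ∀ i, i < 15850 → P i := stepQ 15849 Q15849 (allL N15849 (tt N12237 F53767) (tt N11683 F53768) (tt N11464 (iv D26131)) (tt N11684 F53772) (tt N11468 F53769) (tt N11978 F53770) (tt N13285 F53771))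
theorem Q15851 : ∀ i, i < 15851 → P i := stepQ 15850 Q15850 (allL N15850 (tt N11465 (iv D26132)) (tt N16775 (iv F56581)) (tt N19533 D29886) (tt N11470 F53773) (tt N19530 (iv F64755)) (tt N19494 (iv F64635)) (tt N15807 (iv F53774)))
theorem Q15852 : ∀ i, i < 15852 → P i := stepQ 15851 Q15851 (allL N15851 (tt N19533 (iv F64769)) (tt N13436 F53775) (tt N11465 (iv D26133)) (tt N17935 (iv F60119)) (tt N13435 F53776) (tt N19534 D29887) (tt N19535 D29888))
theorem Q15853 : ∀ i, i < 15853 → P i := stepQ 15852 Q15852 (allL N15852 (tt N19494 (iv F64632)) (tt N11614 F53777) (tt N19534 (iv F64774)) (tt N11472 F53778) (tt N12615 F53779) (tt N11465 (iv D26134)) (tt N17262 (iv F57924)))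
theorem Q15854 : ∀ i, i < 15854 → P i := stepQ 15853 Q15853 (allL N15853 (tt N15807 F53780) (tt N16079 (iv F54351)) (tt N19535 (iv F64777)) (tt N11473 F53781) (tt N19531 (iv F64761)) (tt N19536 D29889) (tt N11465 (iv D26135)))
theorem Q15855 : ∀ i, i < 15855 → P i := stepQ 15854 Q15854 (allL N15854 (tt N11466 (iv D26136)) (tt N19536 (iv F64786)) (tt N19537 D29890) (tt N11474 F53782) (tt N19532 (iv F64766)) (tt N15860 (iv F53803)) (tt N11467 F53783))
theorem Q15856 : ∀ i, i < 15856 → P i := stepQ 15855 Q15855 (allL N15855 (tt N19537 (iv F64787)) (tt N12964 F53784) (tt N11466 (iv D26137)) (tt N19538 D29891) (tt N13285 F53785) (tt N16538 (iv F55771)) (tt N11468 F53786))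
theorem Q15857 : ∀ i, i < 15857 → P i := stepQ 15856 Q15856 (allL N15856 (tt N11468 F53787) (tt N13133 (iv F53789)) (tt N11467 (iv D26138)) (tt N19539 D29892) (tt N12237 F53788) (tt N12236 (iv F53790)) (tt N19537 (iv F64790)))
theorem Q15858 : ∀ i, i < 15858 → P i := stepQ 15857 Q15857 (allL N15857 (tt N11469 F53791) (tt N15130 F53792) (tt N12236 F53793) (tt N11477 F53794) (tt N12235 F53795) (tt N11467 (iv D26139)) (tt N15131 F53796))
theorem Q15859 : ∀ i, i < 15859 → P i := stepQ 15858 Q15858 (allL N15858 (tt N19539 (iv F64793)) (tt N18612 F62175) (tt N19540 D29893) (tt N11468 (iv D26140)) (tt N18613 (iv F62178)) (tt N19395 (iv F64281)) (tt N19538 (iv F64792)))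
theorem Q15860 : ∀ i, i < 15860 → P i := stepQ 15859 Q15859 (allL N15859 (tt N12236 F53797) (tt N11980 (iv F53800)) (tt N11469 F53798) (tt N19395 (iv F64280)) (tt N11978 F53799) (tt N11468 (iv D26141)) (tt N19541 D29894))
theorem Q15861 : ∀ i, i < 15861 → P i := stepQ 15860 Q15860 (allL N15860 (tt N15131 F53801) (tt N19542 D29895) (tt N19541 (iv F64803)) (tt N11480 F53802) (tt N16319 (iv F55050)) (tt N15854 F53803) (tt N11469 (iv D26142)))
theorem Q15862 : ∀ i, i < 15862 → P i := stepQ 15861 Q15861 (allL N15861 (tt N11471 F53804) (tt N14564 (iv F53808)) (tt N11470 (iv D26143)) (tt N19543 D29896) (tt N12112 F53805) (tt N12811 F53806) (tt N15811 F53807))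
theorem Q15863 : ∀ i, i < 15863 → P i := stepQ 15862 Q15862 (allL N15862 (tt N19543 (iv F64811)) (tt N16816 (iv F56700)) (tt N19544 D29897) (tt N11471 (iv D26144)) (tt N12722 F53809) (tt N12719 F53810) (tt N18107 F60584))
theorem Q15864 : ∀ i, i < 15864 → P i := stepQ 15863 Q15863 (allL N15863 (tt N15269 F53811) (tt N11474 F53814) (tt N16854 (iv F56817)) (tt N19536 (iv F64783)) (tt N12113 F53812) (tt N11473 (iv D26145)) (tt N15808 F53813))
theorem Q15865 : ∀ i, i < 15865 → P i := stepQ 15864 Q15864 (allL N15864 (tt N11475 F53815) (tt N14171 (iv F53818)) (tt N11474 (iv D26146)) (tt N17444 (iv F58510)) (tt N12122 F53816) (tt N15870 (iv F53843)) (tt N11476 F53817))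
theorem Q15866 : ∀ i, i < 15866 → P i := stepQ 15865 Q15865 (allL N15865 (tt N17444 (iv F58508)) (tt N18525 (iv F61862)) (tt N19545 D29898) (tt N11475 (iv D26147)) (tt N13280 F53819) (tt N12917 F53820) (tt N11478 F53821))
theorem Q15867 : ∀ i, i < 15867 → P i := stepQ 15866 Q15866 (allL N15866 (tt N11479 F53822) (tt N16534 (iv F55750)) (tt N11477 F53823) (tt N16964 (iv F57140)) (tt N12124 F53824) (tt N11476 (iv D26148)) (tt N14486 F53825))
theorem Q15868 : ∀ i, i < 15868 → P i := stepQ 15867 Q15867 (allL N15867 (tt N17441 (iv F58494)) (tt N13211 F53826) (tt N11478 (iv D26149)) (tt N19546 D29899) (tt N13485 F53827) (tt N17443 (iv F58507)) (tt N19545 (iv F64820)))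
theorem Q15869 : ∀ i, i < 15869 → P i := stepQ 15868 Q15868 (allL N15868 (tt N16964 (iv F57138)) (tt N14938 (iv F53831)) (tt N17443 (iv F58506)) (tt N11479 F53828) (tt N14874 F53829) (tt N11478 (iv D26150)) (tt N14873 F53830))
theorem Q15870 : ∀ i, i < 15870 → P i := stepQ 15869 Q15869 (allL N15869 (tt N13885 (iv F53836)) (tt N11479 (iv D26151)) (tt N13779 F53832) (tt N14938 F53833) (tt N12128 F53834) (tt N11509 F53835) (tt N14928 (iv F53837)))
theorem Q15871 : ∀ i, i < 15871 → P i := stepQ 15870 Q15870 (allL N15870 (tt N14486 F53838) (tt N12380 F53839) (tt N11480 F53840) (tt N14873 F53841) (tt N12129 F53842) (tt N15864 F53843) (tt N11479 (iv D26152)))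
theorem Q15872 : ∀ i, i < 15872 → P i := stepQ 15871 Q15871 (allL N15871 (tt N11623 F53844) (tt N11480 (iv D26153)) (tt N16622 (iv F56037)) (tt N19542 (iv F64807)) (tt N12130 F53845) (tt N11623 F53846) (tt N11621 F53847))
theorem Q15873 : ∀ i, i < 15873 → P i := stepQ 15872 Q15872 (allL N15872 (tt N11483 F53848) (tt N17200 F57791) (tt N19547 D29900) (tt N11481 (iv D26154)) (tt N19387 (iv F64248)) (tt N17682 (iv F59281)) (tt N14208 F53849))
theorem Q15874 : ∀ i, i < 15874 → P i := stepQ 15873 Q15873 (allL N15873 (tt N11482 (iv D26155)) (tt N17766 (iv F59534)) (tt N11486 F53850) (tt N19548 D29901) (tt N12131 F53851) (tt N17771 (iv F59549)) (tt N15592 (iv F53852)))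
theorem Q15875 : ∀ i, i < 15875 → P i := stepQ 15874 Q15874 (allL N15874 (tt N19548 (iv F64829)) (tt N11483 F53853) (tt N19549 D29902) (tt N11482 (iv D26156)) (tt N19550 D29903) (tt N19551 D29904) (tt N19552 D29905))
theorem Q15876 : ∀ i, i < 15876 → P i := stepQ 15875 Q15875 (allL N15875 (tt N17771 (iv F59550)) (tt N19553 D29906) (tt N11488 F53854) (tt N19551 (iv F64835)) (tt N12133 F53855) (tt N11482 (iv D26157)) (tt N16327 (iv F55081)))
theorem Q15877 : ∀ i, i < 15877 → P i := stepQ 15876 Q15876 (allL N15876 (tt N15592 F53856) (tt N16285 (iv F54924)) (tt N11489 F53857) (tt N19552 (iv F64840)) (tt N12134 F53858) (tt N19554 D29907) (tt N11482 (iv D26158)))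
theorem Q15878 : ∀ i, i < 15878 → P i := stepQ 15877 Q15877 (allL N15877 (tt N19547 (iv F64825)) (tt N19555 D29908) (tt N11483 (iv D26159)) (tt N19556 D29909) (tt N17337 (iv F58099)) (tt N17335 F58095) (tt N19557 D29910))
theorem Q15879 : ∀ i, i < 15879 → P i := stepQ 15878 Q15878 (allL N15878 (tt N19387 (iv F64245)) (tt N19550 (iv F64831)) (tt N17337 (iv F58098)) (tt N12135 F53859) (tt N11483 (iv D26160)) (tt N15701 (iv F53860)) (tt N15828 (iv F53861)))
theorem Q15880 : ∀ i, i < 15880 → P i := stepQ 15879 Q15879 (allL N15879 (tt N17682 F59283) (tt N19558 D29911) (tt N17335 (iv F58093)) (tt N11484 F53862) (tt N15701 F53863) (tt N11483 (iv D26161)) (tt N15699 F53864))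
theorem Q15881 : ∀ i, i < 15881 → P i := stepQ 15880 Q15880 (allL N15880 (tt N14208 F53865) (tt N15830 (iv F53869)) (tt N19557 (iv F64858)) (tt N11485 F53866) (tt N15828 F53867) (tt N15227 (iv F53868)) (tt N11483 (iv D26162)))
theorem Q15882 : ∀ i, i < 15882 → P i := stepQ 15881 Q15881 (allL N15881 (tt N15881 F53870) (tt N11484 (iv D26163)) (tt N11522 F53871) (tt N19558 (iv F64863)) (tt N12136 F53872) (tt N19553 (iv F64845)) (tt N11522 F53873))
theorem Q15883 : ∀ i, i < 15883 → P i := stepQ 15882 Q15882 (allL N15882 (tt N11487 F53874) (tt N15782 F53875) (tt N19334 (iv F64091)) (tt N11486 (iv D26164)) (tt N19333 (iv F64087)) (tt N19559 D29912) (tt N15783 F53876))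
theorem Q15884 : ∀ i, i < 15884 → P i := stepQ 15883 Q15883 (allL N15883 (tt N11488 F53877) (tt N17422 (iv F58412)) (tt N17771 (iv F59547)) (tt N19559 (iv F64868)) (tt N12138 F53878) (tt N11486 (iv D26165)) (tt N15886 (iv F53887)))
theorem Q15885 : ∀ i, i < 15885 → P i := stepQ 15884 Q15884 (allL N15884 (tt N19559 (iv F64866)) (tt N11531 F53881) (tt N19338 (iv F64108)) (tt N11488 F53882) (tt N19336 (iv F64101)) (tt N11487 (iv D26168)) (tt N19473 (iv F64548)))
theorem Q15886 : ∀ i, i < 15886 → P i := stepQ 15885 Q15885 (allL N15885 (tt N15783 F53883) (tt N15993 (iv F54140)) (tt N19339 (iv F64112)) (tt N11489 F53884) (tt N19337 (iv F64106)) (tt N19560 D29913) (tt N11487 (iv D26169)))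
theorem Q15887 : ∀ i, i < 15887 → P i := stepQ 15886 Q15886 (allL N15886 (tt N15791 F53885) (tt N17946 (iv F60164)) (tt N19554 (iv F64848)) (tt N19560 (iv F64872)) (tt N12143 F53886) (tt N11489 (iv D26170)) (tt N15883 F53887))
theorem Q15888 : ∀ i, i < 15888 → P i := stepQ 15887 Q15887 (allL N15887 (tt N11492 (iv D26173)) (tt N17792 (iv F59595)) (tt N18515 (iv F61838)) (tt N19561 D29914) (tt N19562 D29915) (tt N19563 D29916) (tt N19447 (iv F64467)))
theorem Q15889 : ∀ i, i < 15889 → P i := stepQ 15888 Q15888 (allL N15888 (tt N19561 (iv F64874)) (tt N11493 F53892) (tt N19564 D29917) (tt N11492 (iv D26174)) (tt N19565 D29918) (tt N19566 D29919) (tt N19564 F64884))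
theorem Q15890 : ∀ i, i < 15890 → P i := stepQ 15889 Q15889 (allL N15889 (tt N19562 (iv F64875)) (tt N11494 F53893) (tt N18512 (iv F61828)) (tt N19567 D29920) (tt N11492 (iv D26175)) (tt N19568 D29921) (tt N19351 (iv F64380)))
theorem Q15891 : ∀ i, i < 15891 → P i := stepQ 15890 Q15890 (allL N15890 (tt N19563 (iv F64877)) (tt N11547 F53894) (tt N14604 F53895) (tt N19566 (iv F64887)) (tt N19568 (iv F64894)) (tt N11492 (iv D26176)) (tt N19569 D29922))
theorem Q15892 : ∀ i, i < 15892 → P i := stepQ 15891 Q15891 (allL N15891 (tt N19447 F64468) (tt N19349 (iv F64375)) (tt N18516 (iv F61840)) (tt N19564 F64883) (tt N19351 F64395) (tt N19357 (iv F64396)) (tt N11492 (iv D26177)))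
theorem Q15893 : ∀ i, i < 15893 → P i := stepQ 15892 Q15892 (allL N15892 (tt N15478 F53896) (tt N19565 (iv F64885)) (tt N15476 F53897) (tt N19570 D29923) (tt N11493 (iv D26178)) (tt N11549 F53898) (tt N19210 (iv F63655)))
theorem Q15894 : ∀ i, i < 15894 → P i := stepQ 15893 Q15893 (allL N15893 (tt N15373 (iv F61768)) (tt N19567 (iv F64888)) (tt N19571 D29924) (tt N11494 (iv D26179)) (tt N19570 (iv F64902)) (tt N11551 F53899) (tt N19572 D29925))
theorem Q15895 : ∀ i, i < 15895 → P i := stepQ 15894 Q15894 (allL N15894 (tt N15987 (iv F54133)) (tt N19352 F64378) (tt N11496 F53900) (tt N19572 (iv F64908)) (tt N11495 F53901) (tt N15958 (iv F54085)) (tt N11494 (iv D26180)))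
theorem Q15896 : ∀ i, i < 15896 → P i := stepQ 15895 Q15895 (allL N15895 (tt N19573 D29926) (tt N11495 (iv D26181)) (tt N19574 D29927) (tt N19214 (iv F63662)) (tt N19352 (iv F64377)) (tt N19575 D29928) (tt N19349 F64374))
theorem Q15897 : ∀ i, i < 15897 → P i := stepQ 15896 Q15896 (allL N15896 (tt N19576 D29929) (tt N11496 (iv D26182)) (tt N19577 D29930) (tt N12151 F53902) (tt N11497 F53903) (tt N19578 D29931) (tt N18519 (iv F61844)))
theorem Q15898 : ∀ i, i < 15898 → P i := stepQ 15897 Q15897 (allL N15897 (tt N11497 (iv D26183)) (tt N19579 D29932) (tt N19580 D29933) (tt N11498 F53904) (tt N19576 (iv F64918)) (tt N19581 D29934) (tt N18520 (iv F61848)))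
theorem Q15899 : ∀ i, i < 15899 → P i := stepQ 15898 Q15898 (allL N15898 (tt N19580 (iv F64929)) (tt N19574 (iv F64912)) (tt N11497 (iv D26184)) (tt N19582 D29935) (tt N19577 (iv F64922)) (tt N19583 D29936) (tt N18521 (iv F61853)))
theorem Q15900 : ∀ i, i < 15900 → P i := stepQ 15899 Q15899 (allL N15899 (tt N19581 (iv F64933)) (tt N15961 (iv F54089)) (tt N19583 (iv F64936)) (tt N11500 F53905) (tt N19578 (iv F64926)) (tt N11497 (iv D26185)) (tt N19584 D29937))
theorem Q15901 : ∀ i, i < 15901 → P i := stepQ 15900 Q15900 (allL N15900 (tt N17416 (iv F58390)) (tt N11498 (iv D26186)) (tt N13846 (iv F53908)) (tt N19579 (iv F64927)) (tt N12154 F53906) (tt N17419 (iv F58402)) (tt N13845 F53907))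
theorem Q15902 : ∀ i, i < 15902 → P i := stepQ 15901 Q15901 (allL N15901 (tt N11499 F53909) (tt N16638 (iv F56090)) (tt N11498 (iv D26187)) (tt N14870 (iv F53911)) (tt N12155 F53910) (tt N14862 (iv F53912)) (tt N17606 (iv F59058)))
theorem Q15903 : ∀ i, i < 15903 → P i := stepQ 15902 Q15902 (allL N15902 (tt N11500 F53913) (tt N16624 (iv F56047)) (tt N14862 F53914) (tt N19581 (iv F64934)) (tt N12156 F53915) (tt N11498 (iv D26188)) (tt N14692 F53916))
theorem Q15904 : ∀ i, i < 15904 → P i := stepQ 15903 Q15903 (allL N15903 (tt N14870 F53917) (tt N11502 F53918) (tt N17227 (iv F57851)) (tt N11499 (iv D26189)) (tt N14865 F53919) (tt N14864 (iv F53920)) (tt N18525 (iv F61865)))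
theorem Q15905 : ∀ i, i < 15905 → P i := stepQ 15904 Q15904 (allL N15904 (tt N14862 F53921) (tt N14482 (iv F53925)) (tt N11500 F53922) (tt N14864 F53923) (tt N12158 F53924) (tt N11499 (iv D26190)) (tt N19585 D29938))
theorem Q15906 : ∀ i, i < 15906 → P i := stepQ 15905 Q15905 (allL N15905 (tt N14692 F53926) (tt N14375 (iv F53929)) (tt N19585 (iv F64942)) (tt N19584 (iv F64938)) (tt N12159 F53927) (tt N14690 F53928) (tt N11500 (iv D26191)))
theorem Q15907 : ∀ i, i < 15907 → P i := stepQ 15906 Q15906 (allL N15906 (tt N11502 F53930) (tt N13768 F53931) (tt N14785 (iv F53934)) (tt N11501 (iv D26192)) (tt N14789 F53932) (tt N15917 (iv F53973)) (tt N11504 F53933))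
theorem Q15908 : ∀ i, i < 15908 → P i := stepQ 15907 Q15907 (allL N15907 (tt N15917 (iv F53971)) (tt N16764 (iv F56535)) (tt N17228 (iv F57854)) (tt N11503 F53935) (tt N13574 F53936) (tt N11502 (iv D26193)) (tt N15911 (iv F53956)))
theorem Q15909 : ∀ i, i < 15909 → P i := stepQ 15908 Q15908 (allL N15908 (tt N14479 F53940) (tt N11503 (iv D26194)) (tt N14478 F53937) (tt N16764 F56536) (tt N12161 F53938) (tt N14482 F53939) (tt N18291 (iv F61114)))
theorem Q15910 : ∀ i, i < 15910 → P i := stepQ 15909 Q15909 (allL N15909 (tt N11506 F53941) (tt N12217 F53942) (tt N11504 (iv D26195)) (tt N15490 F53944) (tt N12218 F53948) (tt N19586 D29939) (tt N14785 F53943))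
theorem Q15911 : ∀ i, i < 15911 → P i := stepQ 15910 Q15910 (allL N15910 (tt N11507 F53949) (tt N14392 F53950) (tt N12218 F53951) (tt N12162 F53952) (tt N11504 (iv D26196)) (tt N17501 (iv F58730)) (tt N14789 F53953))
theorem Q15912 : ∀ i, i < 15912 → P i := stepQ 15911 Q15911 (allL N15911 (tt N11508 F53954) (tt N19587 D29940) (tt N19586 (iv F64948)) (tt N11505 F53955) (tt N17501 (iv F58729)) (tt N11504 (iv D26197)) (tt N15907 F53956))
theorem Q15913 : ∀ i, i < 15913 → P i := stepQ 15912 Q15912 (allL N15912 (tt N15912 F53957) (tt N11505 (iv D26198)) (tt N14394 F53958) (tt N19587 (iv F64954)) (tt N12163 F53959) (tt N14394 F53960) (tt N19588 D29941))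
theorem Q15914 : ∀ i, i < 15914 → P i := stepQ 15913 Q15913 (allL N15913 (tt N15490 F53961) (tt N17207 F57806) (tt N15488 F53962) (tt N11506 (iv D26199)) (tt N18492 (iv F61739)) (tt N19589 D29942) (tt N17208 (iv F57808)))
theorem Q15915 : ∀ i, i < 15915 → P i := stepQ 15914 Q15914 (allL N15914 (tt N19586 (iv F64946)) (tt N19590 D29943) (tt N11508 F53963) (tt N19589 (iv F64963)) (tt N17442 (iv F58502)) (tt N11506 (iv D26200)) (tt N17896 (iv F59979)))
theorem Q15916 : ∀ i, i < 15916 → P i := stepQ 15915 Q15915 (allL N15915 (tt N17501 (iv F58726)) (tt N14031 F53964) (tt N17442 (iv F58500)) (tt N12164 F53965) (tt N11508 F53966) (tt N11507 (iv D26201)) (tt N17500 (iv F58725)))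
theorem Q15917 : ∀ i, i < 15917 → P i := stepQ 15916 Q15916 (allL N15916 (tt N17341 (iv F58110)) (tt N11508 (iv D26202)) (tt N14032 (iv F53970)) (tt N11509 F53967) (tt N14031 F53968) (tt N14938 F53969) (tt N18532 (iv F61891)))
theorem Q15918 : ∀ i, i < 15918 → P i := stepQ 15917 Q15917 (allL N15917 (tt N15907 F53971) (tt N19591 D29944) (tt N17896 (iv F59977)) (tt N11510 F53972) (tt N17500 (iv F58723)) (tt N15906 F53973) (tt N11508 (iv D26203)))
theorem Q15919 : ∀ i, i < 15919 → P i := stepQ 15918 Q15918 (allL N15918 (tt N17547 (iv F58890)) (tt N19592 D29945) (tt N13745 F53974) (tt N18532 (iv F61889)) (tt N12166 F53975) (tt N17765 (iv F59532)) (tt N11509 (iv D26204)))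
theorem Q15920 : ∀ i, i < 15920 → P i := stepQ 15919 Q15919 (allL N15919 (tt N19593 D29946) (tt N11510 (iv D26205)) (tt N15689 F53976) (tt N19591 (iv F64970)) (tt N12167 F53977) (tt N17617 (iv F59087)) (tt N19592 (iv F64974)))
theorem Q15921 : ∀ i, i < 15921 → P i := stepQ 15920 Q15920 (allL N15920 (tt N11572 F53978) (tt N11512 F53979) (tt N19594 D29947) (tt N11511 (iv D26206)) (tt N18707 (iv F62403)) (tt N19595 D29948) (tt N19499 (iv F64654)))
theorem Q15922 : ∀ i, i < 15922 → P i := stepQ 15921 Q15921 (allL N15921 (tt N11573 F53980) (tt N17582 (iv F58998)) (tt N15691 F53981) (tt N19595 (iv F64982)) (tt N12168 F53982) (tt N11511 (iv D26207)) (tt N16010 (iv F54195)))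
theorem Q15923 : ∀ i, i < 15923 → P i := stepQ 15922 Q15922 (allL N15922 (tt N11574 F53983) (tt N19596 D29949) (tt N15692 F53984) (tt N19499 (iv F64652)) (tt N12072 F53985) (tt N12082 F53986) (tt N11511 (iv D26208)))
theorem Q15924 : ∀ i, i < 15924 → P i := stepQ 15923 Q15923 (allL N15923 (tt N11520 F53987) (tt N19597 D29950) (tt N13026 F53988) (tt N11513 F53989) (tt N15694 F53990) (tt N11512 (iv D26209)) (tt N15111 F53991))
theorem Q15925 : ∀ i, i < 15925 → P i := stepQ 15924 Q15924 (allL N15924 (tt N13659 (iv F53994)) (tt N11513 (iv D26210)) (tt N13648 F53992) (tt N19597 (iv F64990)) (tt N12169 F53993) (tt N17582 F58997) (tt N19277 (iv F63873)))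
theorem Q15926 : ∀ i, i < 15926 → P i := stepQ 15925 Q15925 (allL N15925 (tt N13809 (iv F53998)) (tt N11514 (iv D26211)) (tt N13625 F53995) (tt N19389 (iv F64255)) (tt N11973 F53996) (tt N13627 F53997) (tt N19596 (iv F64989)))
theorem Q15927 : ∀ i, i < 15927 → P i := stepQ 15926 Q15926 (allL N15926 (tt N11516 F53999) (tt N11576 F54000) (tt N13154 F54001) (tt N11515 (iv D26212)) (tt N15280 F54002) (tt N19598 D29951) (tt N15588 F54003))
theorem Q15928 : ∀ i, i < 15928 → P i := stepQ 15927 Q15927 (allL N15927 (tt N11517 F54004) (tt N14121 F54005) (tt N11527 F54006) (tt N19598 (iv F64996)) (tt N12170 F54007) (tt N11515 (iv D26213)) (tt N15933 (iv F54033)))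
theorem Q15929 : ∀ i, i < 15929 → P i := stepQ 15928 Q15928 (allL N15928 (tt N15280 F54008) (tt N11519 F54009) (tt N13155 F54010) (tt N12171 F54011) (tt N11516 (iv D26214)) (tt N15646 (iv F54012)) (tt N14207 (iv F54013)))
theorem Q15930 : ∀ i, i < 15930 → P i := stepQ 15929 Q15929 (allL N15929 (tt N19598 (iv F64993)) (tt N19599 D29952) (tt N13156 F54014) (tt N11517 F54015) (tt N15646 F54016) (tt N11516 (iv D26215)) (tt N15644 F54017))
theorem Q15931 : ∀ i, i < 15931 → P i := stepQ 15930 Q15930 (allL N15930 (tt N15588 F54018) (tt N19600 D29953) (tt N13157 F54019) (tt N11518 F54020) (tt N14207 F54021) (tt N19321 (iv F64050)) (tt N11516 (iv D26216)))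
theorem Q15932 : ∀ i, i < 15932 → P i := stepQ 15931 Q15931 (allL N15931 (tt N15931 F54022) (tt N11517 (iv D26217)) (tt N19553 (iv F64843)) (tt N19599 (iv F65001)) (tt N12172 F54023) (tt N11522 F54024) (tt N19553 (iv F64846)))
theorem Q15933 : ∀ i, i < 15933 → P i := stepQ 15932 Q15932 (allL N15932 (tt N15550 F54028) (tt N11518 (iv D26218)) (tt N15548 F54025) (tt N19600 (iv F65006)) (tt N12173 F54026) (tt N15547 (iv F54029)) (tt N11523 F54027))
theorem Q15934 : ∀ i, i < 15934 → P i := stepQ 15933 Q15933 (allL N15933 (tt N11930 F54030) (tt N17915 (iv F60046)) (tt N11535 F54031) (tt N19321 (iv F64049)) (tt N11925 F54032) (tt N11518 (iv D26219)) (tt N15927 F54033))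
theorem Q15935 : ∀ i, i < 15935 → P i := stepQ 15934 Q15934 (allL N15934 (tt N15934 F54037) (tt N11520 (iv D26220)) (tt N15934 F54034) (tt N11522 F54035) (tt N15707 F54036) (tt N19599 (iv F65003)) (tt N19558 (iv F64865)))
theorem Q15936 : ∀ i, i < 15936 → P i := stepQ 15935 Q15935 (allL N15935 (tt N15540 (iv F57422)) (tt N11521 (iv D26221)) (tt N15539 F57423) (tt N11523 F54038) (tt N19382 (iv F64226)) (tt N19229 (iv F63709)) (tt N19600 (iv F65008)))
theorem Q15937 : ∀ i, i < 15937 → P i := stepQ 15936 Q15936 (allL N15936 (tt N11523 (iv D26222)) (tt N17061 (iv F57420)) (tt N15551 F54039) (tt N15540 F57421) (tt N12174 F54040) (tt N19228 (iv F63706)) (tt N15550 F54041))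
theorem Q15938 : ∀ i, i < 15938 → P i := stepQ 15937 Q15937 (allL N15937 (tt N16043 F54264) (tt N19227 (iv F63700)) (tt N19248 (iv F63769)) (tt N11524 (iv D26223)) (tt N19601 D29954) (tt N15057 F54042) (tt N11543 F54043))
theorem Q15939 : ∀ i, i < 15939 → P i := stepQ 15938 Q15938 (allL N15938 (tt N11639 F54044) (tt N11526 F54045) (tt N13198 F54046) (tt N11525 (iv D26224)) (tt N19313 (iv F64016)) (tt N19602 D29955) (tt N18615 (iv F62187)))
theorem Q15940 : ∀ i, i < 15940 → P i := stepQ 15939 Q15939 (allL N15939 (tt N11640 F54047) (tt N17698 (iv F59323)) (tt N11588 F54048) (tt N19602 (iv F65015)) (tt N12177 F54049) (tt N11525 (iv D26225)) (tt N16110 (iv F54421)))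
theorem Q15941 : ∀ i, i < 15941 → P i := stepQ 15940 Q15940 (allL N15940 (tt N11530 F54050) (tt N19313 F64017) (tt N17375 (iv F58225)) (tt N12178 F54051) (tt N11526 (iv D26226)) (tt N19603 D29956) (tt N19604 D29957))
theorem Q15942 : ∀ i, i < 15942 → P i := stepQ 15941 Q15941 (allL N15941 (tt N11531 F54052) (tt N19605 D29958) (tt N17376 (iv F58229)) (tt N11527 F54053) (tt N19603 (iv F65018)) (tt N11526 (iv D26227)) (tt N15952 (iv F54073)))
theorem Q15943 : ∀ i, i < 15943 → P i := stepQ 15942 Q15942 (allL N15942 (tt N11532 F54054) (tt N15587 (iv F54056)) (tt N17377 (iv F58233)) (tt N11528 F54055) (tt N19604 (iv F65023)) (tt N15950 (iv F54068)) (tt N11526 (iv D26228)))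
theorem Q15944 : ∀ i, i < 15944 → P i := stepQ 15943 Q15943 (allL N15943 (tt N13270 F54058) (tt N11527 (iv D26229)) (tt N18422 (iv F61552)) (tt N19605 (iv F65024)) (tt N12180 F54057) (tt N17698 (iv F59325)) (tt N18422 (iv F61555)))
theorem Q15945 : ∀ i, i < 15945 → P i := stepQ 15944 Q15944 (allL N15944 (tt N19606 D29959) (tt N11529 (iv D26230)) (tt N11536 F54059) (tt N17372 (iv F58213)) (tt N19607 D29960) (tt N19608 D29961) (tt N19402 (iv F64398)))
theorem Q15946 : ∀ i, i < 15946 → P i := stepQ 15945 Q15945 (allL N15945 (tt N17375 (iv F58223)) (tt N19607 (iv F65029)) (tt N11530 F54060) (tt N19609 D29962) (tt N11529 (iv D26231)) (tt N19610 D29963) (tt N19611 D29964))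
theorem Q15947 : ∀ i, i < 15947 → P i := stepQ 15946 Q15946 (allL N15946 (tt N17376 (iv F58227)) (tt N19612 D29965) (tt N11531 F54061) (tt N17373 (iv F58217)) (tt N19610 (iv F65042)) (tt N11529 (iv D26232)) (tt N19613 D29966))
theorem Q15948 : ∀ i, i < 15948 → P i := stepQ 15947 Q15947 (allL N15947 (tt N17377 (iv F58231)) (tt N19614 D29967) (tt N11532 F54062) (tt N17374 (iv F58221)) (tt N19611 (iv F65044)) (tt N18857 (iv F62726)) (tt N11529 (iv D26233)))
theorem Q15949 : ∀ i, i < 15949 → P i := stepQ 15948 Q15948 (allL N15948 (tt N19603 (iv F65016)) (tt N19336 (iv F64098)) (tt N19610 (iv F65041)) (tt N12183 F54063) (tt N11531 F54064) (tt N11530 (iv D26234)) (tt N19615 D29968))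
theorem Q15950 : ∀ i, i < 15950 → P i := stepQ 15949 Q15949 (allL N15949 (tt N19604 (iv F65020)) (tt N16788 (iv F56620)) (tt N19611 (iv F65043)) (tt N12184 F54065) (tt N11532 F54066) (tt N19616 D29969) (tt N11530 (iv D26235)))
theorem Q15951 : ∀ i, i < 15951 → P i := stepQ 15950 Q15950 (allL N15950 (tt N15952 (iv F54071)) (tt N18142 (iv F60705)) (tt N19613 (iv F65049)) (tt N11533 F54067) (tt N19615 (iv F65054)) (tt N15942 F54068) (tt N11531 (iv D26236)))
theorem Q15952 : ∀ i, i < 15952 → P i := stepQ 15951 Q15951 (allL N15951 (tt N16790 (iv F56624)) (tt N11532 (iv D26237)) (tt N19617 D29970) (tt N11534 F54069) (tt N16788 (iv F56621)) (tt N19618 D29971) (tt N11540 F54070))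
theorem Q15953 : ∀ i, i < 15953 → P i := stepQ 15952 Q15952 (allL N15952 (tt N15950 F54071) (tt N17916 (iv F60052)) (tt N18857 (iv F62728)) (tt N11535 F54072) (tt N19616 (iv F65058)) (tt N11532 (iv D26238)) (tt N15941 F54073))
theorem Q15954 : ∀ i, i < 15954 → P i := stepQ 15953 Q15953 (allL N15953 (tt N15963 (iv F54094)) (tt N17908 (iv F60016)) (tt N18477 (iv F61692)) (tt N19618 (iv F65064)) (tt N12187 F54074) (tt N11534 (iv D26239)) (tt N12780 F54075))
theorem Q15955 : ∀ i, i < 15955 → P i := stepQ 15954 Q15954 (allL N15954 (tt N11536 (iv D26240)) (tt N19619 D29972) (tt N19606 (iv F65027)) (tt N15513 F54076) (tt N19620 D29973) (tt N15731 F64359) (tt N19416 F64360))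
theorem Q15956 : ∀ i, i < 15956 → P i := stepQ 15955 Q15955 (allL N15955 (tt N19620 (iv F65072)) (tt N11537 F54077) (tt N19607 (iv F65030)) (tt N19621 D29974) (tt N11536 (iv D26241)) (tt N15764 F61763) (tt N19418 F64373))
theorem Q15957 : ∀ i, i < 15957 → P i := stepQ 15956 Q15956 (allL N15956 (tt N15731 F64361) (tt N15762 F61761) (tt N19608 (iv F65033)) (tt N15515 F54078) (tt N15764 (iv F61762)) (tt N11536 (iv D26242)) (tt N15728 F64362))
theorem Q15958 : ∀ i, i < 15958 → P i := stepQ 15957 Q15957 (allL N15957 (tt N11551 F54080) (tt N19621 (iv F65077)) (tt N16517 (iv F55696)) (tt N11537 (iv D26244)) (tt N15516 F54081) (tt N15373 F61767) (tt N19622 D29975))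
theorem Q15959 : ∀ i, i < 15959 → P i := stepQ 15958 Q15958 (allL N15958 (tt N11552 F54082) (tt N17822 (iv F59687)) (tt N11539 F54083) (tt N19622 (iv F65083)) (tt N11538 F54084) (tt N15894 F54085) (tt N11537 (iv D26245)))
theorem Q15960 : ∀ i, i < 15960 → P i := stepQ 15959 Q15959 (allL N15959 (tt N17825 (iv F59700)) (tt N11538 (iv D26246)) (tt N17823 (iv F59691)) (tt N15518 F54086) (tt N17822 F59688) (tt N19623 D29976) (tt N19419 (iv F64354)))
theorem Q15961 : ∀ i, i < 15961 → P i := stepQ 15960 Q15960 (allL N15960 (tt N16798 (iv F56650)) (tt N17823 (iv F59690)) (tt N11540 (iv D26247)) (tt N15308 (iv F54088)) (tt N15310 F54087) (tt N19624 D29977) (tt N19617 (iv F65062)))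
theorem Q15962 : ∀ i, i < 15962 → P i := stepQ 15961 Q15961 (allL N15961 (tt N16800 (iv F56654)) (tt N15899 F54089) (tt N19624 (iv F65092)) (tt N11542 F54090) (tt N16797 (iv F56648)) (tt N11540 (iv D26248)) (tt N19625 D29978))
theorem Q15963 : ∀ i, i < 15963 → P i := stepQ 15962 Q15962 (allL N15962 (tt N16859 (iv F56835)) (tt N11543 F54091) (tt N14281 F54093) (tt N11541 (iv D26249)) (tt N14280 F54092) (tt N18285 (iv F61090)) (tt N18474 (iv F61683)))
theorem Q15964 : ∀ i, i < 15964 → P i := stepQ 15963 Q15963 (allL N15963 (tt N15953 F54094) (tt N13755 F54095) (tt N14646 F54096) (tt N19625 (iv F65097)) (tt N12189 F54097) (tt N12767 F54098) (tt N11542 (iv D26250)))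
theorem Q15965 : ∀ i, i < 15965 → P i := stepQ 15964 Q15964 (allL N15964 (tt N18650 (iv F62277)) (tt N19292 (iv F63924)) (tt N11543 (iv D26251)) (tt N18697 (iv F62366)) (tt N19626 D29979) (tt N18646 (iv F62270)) (tt N19248 F63771))
theorem Q15966 : ∀ i, i < 15966 → P i := stepQ 15965 Q15965 (allL N15965 (tt N18651 (iv F62279)) (tt N14280 F54099) (tt N19626 (iv F65101)) (tt N12190 F54100) (tt N11543 (iv D26252)) (tt N18647 (iv F62274)) (tt N19601 (iv F65012)))
theorem Q15967 : ∀ i, i < 15967 → P i := stepQ 15966 Q15966 (allL N15966 (tt N19627 D29980) (tt N11544 (iv D26253)) (tt N12018 F54101) (tt N19628 D29981) (tt N19629 D29982) (tt N12017 (iv F54102)) (tt N19630 D29983))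
theorem Q15968 : ∀ i, i < 15968 → P i := stepQ 15967 Q15967 (allL N15967 (tt N11545 F54103) (tt N19628 (iv F65107)) (tt N17772 (iv F59552)) (tt N11544 (iv D26254)) (tt N19631 D29984) (tt N19632 D29985) (tt N19633 D29986))
theorem Q15969 : ∀ i, i < 15969 → P i := stepQ 15968 Q15968 (allL N15968 (tt N11546 F54104) (tt N19629 (iv F65111)) (tt N11659 F54105) (tt N19047 (iv F63247)) (tt N11544 (iv D26255)) (tt N19634 D29987) (tt N19044 F63242))
theorem Q15970 : ∀ i, i < 15970 → P i := stepQ 15969 Q15969 (allL N15969 (tt N11547 F54106) (tt N15745 (iv F55310)) (tt N11660 F54107) (tt N19632 (iv F65122)) (tt N19634 (iv F65128)) (tt N11544 (iv D26256)) (tt N15980 (iv F54124)))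
theorem Q15971 : ∀ i, i < 15971 → P i := stepQ 15970 Q15970 (allL N15970 (tt N11548 F54108) (tt N19635 D29988) (tt N11661 F54109) (tt N19633 (iv F65124)) (tt N19044 F63241) (tt N15978 (iv F54120)) (tt N11544 (iv D26257)))
theorem Q15972 : ∀ i, i < 15972 → P i := stepQ 15971 Q15971 (allL N15971 (tt N17772 (iv F59551)) (tt N15500 F54110) (tt N11545 (iv D26258)) (tt N17767 (iv F59537)) (tt N19636 D29989) (tt N19637 D29990) (tt N19638 D29991))
theorem Q15973 : ∀ i, i < 15973 → P i := stepQ 15972 Q15972 (allL N15972 (tt N19631 (iv F65119)) (tt N11549 F54111) (tt N19636 (iv F65134)) (tt N19639 D29992) (tt N11545 (iv D26259)) (tt N19640 D29993) (tt N19641 D29994))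
theorem Q15974 : ∀ i, i < 15974 → P i := stepQ 15973 Q15973 (allL N15973 (tt N19632 (iv F65120)) (tt N19566 (iv F64886)) (tt N19637 (iv F65135)) (tt N11547 F54112) (tt N19640 (iv F65139)) (tt N11545 (iv D26260)) (tt N19642 D29995))
theorem Q15975 : ∀ i, i < 15975 → P i := stepQ 15974 Q15974 (allL N15974 (tt N19633 (iv F65123)) (tt N18991 F63125) (tt N19638 (iv F65136)) (tt N11548 F54113) (tt N19641 (iv F65140)) (tt N19643 D29996) (tt N11545 (iv D26261)))
theorem Q15976 : ∀ i, i < 15976 → P i := stepQ 15975 Q15975 (allL N15975 (tt N19047 (iv F63245)) (tt N11551 F54114) (tt N19043 (iv F63236)) (tt N11546 (iv D26262)) (tt N19639 (iv F65138)) (tt N19644 D29997) (tt N19040 F63231))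
theorem Q15977 : ∀ i, i < 15977 → P i := stepQ 15976 Q15976 (allL N15976 (tt N19634 (iv F65125)) (tt N19568 (iv F64892)) (tt N11662 F54115) (tt N19644 (iv F65148)) (tt N11547 F54116) (tt N11546 (iv D26263)) (tt N19645 D29998))
theorem Q15978 : ∀ i, i < 15978 → P i := stepQ 15977 Q15977 (allL N15977 (tt N19044 (iv F63238)) (tt N19646 D29999) (tt N11663 F54117) (tt N19040 (iv F63230)) (tt N11548 F54118) (tt N19647 D30000) (tt N11546 (iv D26264)))
theorem Q15979 : ∀ i, i < 15979 → P i := stepQ 15978 Q15978 (allL N15978 (tt N15980 (iv F54122)) (tt N19343 F64142) (tt N11664 F54119) (tt N19642 (iv F65141)) (tt N19645 (iv F65152)) (tt N15970 F54120) (tt N11547 (iv D26265)))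
theorem Q15980 : ∀ i, i < 15980 → P i := stepQ 15979 Q15979 (allL N15979 (tt N11553 F61246) (tt N11548 (iv D26266)) (tt N16130 (iv F54461)) (tt N18991 (iv F63123)) (tt N19646 (iv F65156)) (tt N18989 F63118) (tt N11553 F54121))
theorem Q15981 : ∀ i, i < 15981 → P i := stepQ 15980 Q15980 (allL N15980 (tt N15978 F54122) (tt N12200 F55312) (tt N11665 F54123) (tt N19643 (iv F65145)) (tt N19647 (iv F65161)) (tt N11548 (iv D26267)) (tt N15969 F54124))
theorem Q15982 : ∀ i, i < 15982 → P i := stepQ 15981 Q15981 (allL N15981 (tt N15516 F54125) (tt N19639 (iv F65137)) (tt N19648 D30001) (tt N11549 (iv D26268)) (tt N11551 F54126) (tt N19570 (iv F64903)) (tt N19649 D30002))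
theorem Q15983 : ∀ i, i < 15983 → P i := stepQ 15982 Q15982 (allL N15982 (tt N15517 F54127) (tt N19650 D30003) (tt N15507 F54128) (tt N19649 (iv F65168)) (tt N11550 F54129) (tt N19156 (iv F63511)) (tt N11549 (iv D26269)))
theorem Q15984 : ∀ i, i < 15984 → P i := stepQ 15983 Q15983 (allL N15983 (tt N18991 (iv F63121)) (tt N11550 (iv D26270)) (tt N15523 F61245) (tt N11553 F54130) (tt N19650 (iv F65170)) (tt N15522 (iv F61248)) (tt N18991 (iv F63124)))
theorem Q15985 : ∀ i, i < 15985 → P i := stepQ 15984 Q15984 (allL N15984 (tt N16517 (iv F55695)) (tt N19651 D30004) (tt N11551 (iv D26271)) (tt N16408 (iv F55325)) (tt N19648 (iv F65166)) (tt N19571 (iv F64906)) (tt N19652 D30005))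
theorem Q15986 : ∀ i, i < 15986 → P i := stepQ 15985 Q15985 (allL N15985 (tt N19622 (iv F65081)) (tt N19653 D30006) (tt N19652 (iv F65178)) (tt N11552 F54131) (tt N19649 (iv F65169)) (tt N19017 (iv F63180)) (tt N11551 (iv D26272)))
theorem Q15987 : ∀ i, i < 15987 → P i := stepQ 15986 Q15986 (allL N15986 (tt N19646 (iv F65154)) (tt N11552 (iv D26273)) (tt N18452 (iv F61630)) (tt N19653 (iv F65180)) (tt N11553 F54132) (tt N19619 (iv F65068)) (tt N19646 (iv F65157)))
theorem Q15988 : ∀ i, i < 15988 → P i := stepQ 15987 Q15987 (allL N15987 (tt N15894 F54133) (tt N15731 F61753) (tt N11555 F54134) (tt N19017 (iv F63179)) (tt N11554 F54135) (tt N11552 (iv D26274)) (tt N15655 (iv F61752)))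
theorem Q15989 : ∀ i, i < 15989 → P i := stepQ 15988 Q15988 (allL N15988 (tt N18989 (iv F63114)) (tt N19620 (iv F65073)) (tt N15351 (iv F61250)) (tt N15522 F61249) (tt N19619 F65071) (tt N11553 (iv D26276)) (tt N15988 F61247))
theorem Q15990 : ∀ i, i < 15990 → P i := stepQ 15989 Q15989 (allL N15989 (tt N15764 (iv F64390)) (tt N11554 (iv D26277)) (tt N19654 D30007) (tt N19157 (iv F63512)) (tt N15731 (iv F61754)) (tt N19620 (iv F65074)) (tt N15729 F61755))
theorem Q15991 : ∀ i, i < 15991 → P i := stepQ 15990 Q15990 (allL N15990 (tt N19655 D30008) (tt N11555 (iv D26278)) (tt N19656 D30009) (tt N12204 F54137) (tt N11556 F54138) (tt N18454 (iv F61639)) (tt N19657 D30010))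
theorem Q15992 : ∀ i, i < 15992 → P i := stepQ 15991 Q15991 (allL N15991 (tt N11556 (iv D26279)) (tt N17525 F58819) (tt N19658 D30011) (tt N11557 F54139) (tt N19655 (iv F65187)) (tt N18465 (iv F61657)) (tt N19659 D30012))
theorem Q15993 : ∀ i, i < 15993 → P i := stepQ 15992 Q15992 (allL N15992 (tt N19658 (iv F65197)) (tt N19654 (iv F65183)) (tt N11556 (iv D26280)) (tt N19660 D30013) (tt N19656 (iv F65191)) (tt N18466 (iv F61658)) (tt N19661 D30014))
theorem Q15994 : ∀ i, i < 15994 → P i := stepQ 15993 Q15993 (allL N15993 (tt N19659 (iv F65199)) (tt N15885 F54140) (tt N19661 (iv F65205)) (tt N11559 F54141) (tt N19657 (iv F65196)) (tt N19662 D30015) (tt N11556 (iv D26281)))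
theorem Q15995 : ∀ i, i < 15995 → P i := stepQ 15994 Q15994 (allL N15994 (tt N11558 F54142) (tt N13636 F54143) (tt N11557 (iv D26282)) (tt N16955 F57112) (tt N12207 F54144) (tt N18468 (iv F61664)) (tt N19663 D30016))
theorem Q15996 : ∀ i, i < 15996 → P i := stepQ 15995 Q15995 (allL N15995 (tt N11559 F54145) (tt N17724 (iv F59396)) (tt N19663 (iv F65212)) (tt N19659 (iv F65200)) (tt N12208 F54146) (tt N14636 F54147) (tt N11557 (iv D26283)))
theorem Q15997 : ∀ i, i < 15997 → P i := stepQ 15996 Q15996 (allL N15996 (tt N19663 (iv F65210)) (tt N18176 F60798) (tt N11559 F54148) (tt N16957 (iv F57117)) (tt N12210 F54149) (tt N19664 D30017) (tt N11558 (iv D26284)))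
theorem Q15998 : ∀ i, i < 15998 → P i := stepQ 15997 Q15997 (allL N15997 (tt N14636 F54150) (tt N18440 (iv F61594)) (tt N19664 (iv F65216)) (tt N19662 (iv F65208)) (tt N12211 F54151) (tt N11559 (iv D26285)) (tt N14634 F54152))
theorem Q15999 : ∀ i, i < 15999 → P i := stepQ 15998 Q15998 (allL N15998 (tt N19585 (iv F64941)) (tt N11560 (iv D26286)) (tt N14692 F54153) (tt N14855 F54154) (tt N12212 F54155) (tt N14691 F54156) (tt N14862 F54157))
theorem Q16000 : ∀ i, i < 16000 → P i := stepQ 15999 Q15999 (allL N15999 (tt N12088 (iv F54161)) (tt N11561 (iv D26287)) (tt N12085 F54158) (tt N14924 F54159) (tt N12084 F54160) (tt N14386 (iv F54162)) (tt N18176 (iv F60797)))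
theorem Q16001 : ∀ i, i < 16001 → P i := stepQ 16000 Q16000 (allL N16000 (tt N13391 (iv F54167)) (tt N11564 (iv D26288)) (tt N14987 F54163) (tt N11887 F54164) (tt N11565 F54165) (tt N19665 D30018) (tt N16000 F54166))
theorem Q16002 : ∀ i, i < 16002 → P i := stepQ 16001 Q16001 (allL N16001 (tt N11565 (iv D26289)) (tt N13099 (iv F54171)) (tt N17510 (iv F58767)) (tt N11569 F54168) (tt N13391 F54169) (tt N19315 (iv F64026)) (tt N16001 F54170))
theorem Q16003 : ∀ i, i < 16003 → P i := stepQ 16002 Q16002 (allL N16002 (tt N17510 (iv F58765)) (tt N14988 F54172) (tt N11565 (iv D26290)) (tt N17508 (iv F58760)) (tt N14987 F54173) (tt N19666 D30019) (tt N16002 F54174))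
theorem Q16004 : ∀ i, i < 16004 → P i := stepQ 16003 Q16003 (allL N16003 (tt N19315 (iv F64023)) (tt N15618 F54175) (tt N19666 (iv F65225)) (tt N11571 F54176) (tt N19665 (iv F65223)) (tt N11565 (iv D26291)) (tt N19315 (iv F64027)))
theorem Q16005 : ∀ i, i < 16005 → P i := stepQ 16004 Q16004 (allL N16004 (tt N11570 F54177) (tt N17547 F58895) (tt N11569 (iv D26292)) (tt N16308 F55016) (tt N12222 F54178) (tt N16599 (iv F55962)) (tt N16004 F54179))
theorem Q16006 : ∀ i, i < 16006 → P i := stepQ 16005 Q16005 (allL N16005 (tt N16599 (iv F55958)) (tt N14372 (iv F54182)) (tt N11571 F54180) (tt N16658 (iv F56179)) (tt N12224 F54181) (tt N11570 (iv D26293)) (tt N16599 (iv F55963)))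
theorem Q16007 : ∀ i, i < 16007 → P i := stepQ 16006 Q16006 (allL N16006 (tt N19594 (iv F64977)) (tt N16161 (iv F54533)) (tt N11572 (iv D26294)) (tt N17990 F60297) (tt N19667 D30020) (tt N17987 (iv F60298)) (tt N19668 D30021))
theorem Q16008 : ∀ i, i < 16008 → P i := stepQ 16007 Q16007 (allL N16007 (tt N18707 (iv F62401)) (tt N11575 F54183) (tt N19667 (iv F65227)) (tt N12225 F54184) (tt N11572 (iv D26295)) (tt N15826 (iv F54185)) (tt N19497 (iv F64645)))
theorem Q16009 : ∀ i, i < 16009 → P i := stepQ 16008 Q16008 (allL N16008 (tt N19595 (iv F64981)) (tt N11581 F54186) (tt N17987 F60299) (tt N11573 F54187) (tt N15826 F54188) (tt N11572 (iv D26296)) (tt N15825 (iv F54189)))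
theorem Q16010 : ∀ i, i < 16010 → P i := stepQ 16009 Q16009 (allL N16009 (tt N19499 (iv F64650)) (tt N13894 F54190) (tt N19668 (iv F65230)) (tt N11574 F54191) (tt N19497 (iv F64643)) (tt N19508 (iv F64677)) (tt N11572 (iv D26297)))
theorem Q16011 : ∀ i, i < 16011 → P i := stepQ 16010 Q16010 (allL N16010 (tt N12082 F54192) (tt N19669 D30022) (tt N11871 F54193) (tt N19508 (iv F64676)) (tt N11870 F54194) (tt N11574 (iv D26298)) (tt N15921 F54195))
theorem Q16012 : ∀ i, i < 16012 → P i := stepQ 16011 Q16011 (allL N16011 (tt N11579 F54196) (tt N19670 D30023) (tt N11576 (iv D26299)) (tt N16045 (iv F54270)) (tt N19671 D30024) (tt N19672 D30025) (tt N19673 D30026))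
theorem Q16013 : ∀ i, i < 16013 → P i := stepQ 16012 Q16012 (allL N16012 (tt N11580 F54197) (tt N15280 F54198) (tt N19671 (iv F65240)) (tt N12226 F54199) (tt N11576 (iv D26300)) (tt N17737 F59443) (tt N19528 (iv F64746)))
theorem Q16014 : ∀ i, i < 16014 → P i := stepQ 16013 Q16013 (allL N16013 (tt N11581 F54200) (tt N17736 F59439) (tt N19672 (iv F65242)) (tt N11577 F54201) (tt N17737 (iv F59441)) (tt N11576 (iv D26301)) (tt N16023 (iv F54222)))
theorem Q16015 : ∀ i, i < 16015 → P i := stepQ 16014 Q16014 (allL N16014 (tt N11582 F54202) (tt N15555 F54203) (tt N19673 (iv F65244)) (tt N11578 F54204) (tt N19528 (iv F64745)) (tt N16022 (iv F54219)) (tt N11576 (iv D26302)))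
theorem Q16016 : ∀ i, i < 16016 → P i := stepQ 16015 Q16015 (allL N16015 (tt N19674 D30027) (tt N11579 (iv D26303)) (tt N11585 F54205) (tt N19675 D30028) (tt N19676 D30029) (tt N19677 D30030) (tt N18263 (iv F61047)))
theorem Q16017 : ∀ i, i < 16017 → P i := stepQ 16016 Q16016 (allL N16016 (tt N16045 (iv F54269)) (tt N19675 (iv F65246)) (tt N16036 (iv F54245)) (tt N11579 (iv D26304)) (tt N18625 (iv F62214)) (tt N17958 (iv F60302)) (tt N19678 D30031))
theorem Q16018 : ∀ i, i < 16018 → P i := stepQ 16017 Q16017 (allL N16017 (tt N19671 (iv F65239)) (tt N19676 (iv F65250)) (tt N11580 F54206) (tt N19679 D30032) (tt N11579 (iv D26305)) (tt N19680 D30033) (tt N19681 D30034))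
theorem Q16019 : ∀ i, i < 16019 → P i := stepQ 16018 Q16018 (allL N16018 (tt N19672 (iv F65241)) (tt N17957 (iv F60300)) (tt N11581 F54207) (tt N17958 F60301) (tt N19680 (iv F65259)) (tt N11579 (iv D26306)) (tt N19682 D30035))
theorem Q16020 : ∀ i, i < 16020 → P i := stepQ 16019 Q16019 (allL N16019 (tt N19673 (iv F65243)) (tt N17644 F61043) (tt N11582 F54208) (tt N19678 (iv F65256)) (tt N19681 (iv F65262)) (tt N19683 D30036) (tt N11579 (iv D26307)))
theorem Q16021 : ∀ i, i < 16021 → P i := stepQ 16020 Q16020 (allL N16020 (tt N17737 F59442) (tt N15826 F54209) (tt N19680 (iv F65258)) (tt N12230 F54210) (tt N11581 F54211) (tt N11580 (iv D26308)) (tt N15836 (iv F54212)))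
theorem Q16022 : ∀ i, i < 16022 → P i := stepQ 16021 Q16021 (allL N16021 (tt N19528 (iv F64742)) (tt N13814 F54213) (tt N19681 (iv F65261)) (tt N12231 F54214) (tt N11582 F54215) (tt N19526 (iv F64741)) (tt N11580 (iv D26309)))
theorem Q16023 : ∀ i, i < 16023 → P i := stepQ 16022 Q16022 (allL N16022 (tt N16023 (iv F54220)) (tt N15835 F54216) (tt N19682 (iv F65263)) (tt N11583 F54217) (tt N15836 F54218) (tt N16014 F54219) (tt N11581 (iv D26310)))
theorem Q16024 : ∀ i, i < 16024 → P i := stepQ 16023 Q16023 (allL N16023 (tt N16022 F54220) (tt N19298 (iv F63947)) (tt N19683 (iv F65267)) (tt N11584 F54221) (tt N19526 (iv F64739)) (tt N11582 (iv D26311)) (tt N16013 F54222))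
theorem Q16025 : ∀ i, i < 16025 → P i := stepQ 16024 Q16024 (allL N16024 (tt N11585 (iv D26312)) (tt N17241 (iv F58169)) (tt N19674 (iv F65245)) (tt N16154 (iv F54522)) (tt N19684 D30037) (tt N19685 D30038) (tt N19686 D30039))
theorem Q16026 : ∀ i, i < 16026 → P i := stepQ 16025 Q16025 (allL N16025 (tt N19684 (iv F65269)) (tt N11586 F54223) (tt N19676 (iv F65251)) (tt N17235 (iv F57873)) (tt N11585 (iv D26313)) (tt N19687 D30040) (tt N19688 D30041))
theorem Q16027 : ∀ i, i < 16027 → P i := stepQ 16026 Q16026 (allL N16026 (tt N19685 (iv F65271)) (tt N16163 (iv F54536)) (tt N19677 (iv F65253)) (tt N16155 (iv F54525)) (tt N19687 (iv F65273)) (tt N11585 (iv D26314)) (tt N19689 D30042))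
theorem Q16028 : ∀ i, i < 16028 → P i := stepQ 16027 Q16027 (allL N16027 (tt N19686 (iv F65272)) (tt N13899 F54224) (tt N18263 F61046) (tt N16156 (iv F54527)) (tt N19688 (iv F65275)) (tt N19690 D30043) (tt N11585 (iv D26315)))
theorem Q16029 : ∀ i, i < 16029 → P i := stepQ 16028 Q16028 (allL N16028 (tt N13139 F54225) (tt N19691 D30044) (tt N11587 (iv D26316)) (tt N13138 F54226) (tt N19692 D30045) (tt N19693 D30046) (tt N19694 D30047))
theorem Q16030 : ∀ i, i < 16030 → P i := stepQ 16029 Q16029 (allL N16029 (tt N19395 (iv F64277)) (tt N11591 F54227) (tt N19692 (iv F65285)) (tt N12236 F54228) (tt N11587 (iv D26317)) (tt N19539 (iv F64796)) (tt N19695 D30048))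
theorem Q16031 : ∀ i, i < 16031 → P i := stepQ 16030 Q16030 (allL N16030 (tt N18613 F62180) (tt N19696 D30049) (tt N19693 (iv F65289)) (tt N11588 F54229) (tt N19539 (iv F64795)) (tt N11587 (iv D26318)) (tt N19697 D30050))
theorem Q16032 : ∀ i, i < 16032 → P i := stepQ 16031 Q16031 (allL N16031 (tt N19396 (iv F64282)) (tt N15061 (iv F54231)) (tt N19694 (iv F65293)) (tt N11589 F54230) (tt N19695 (iv F65296)) (tt N19698 D30051) (tt N11587 (iv D26319)))
theorem Q16033 : ∀ i, i < 16033 → P i := stepQ 16032 Q16032 (allL N16032 (tt N13402 F54232) (tt N11588 (iv D26320)) (tt N14525 (iv F54236)) (tt N19696 (iv F65300)) (tt N12239 F54233) (tt N11594 F54234) (tt N15545 F54235))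
theorem Q16034 : ∀ i, i < 16034 → P i := stepQ 16033 Q16033 (allL N16033 (tt N16034 (iv F54240)) (tt N14453 F54237) (tt N16110 (iv F54419)) (tt N19697 (iv F65305)) (tt N12240 F54238) (tt N15713 F54239) (tt N11588 (iv D26321)))
theorem Q16035 : ∀ i, i < 16035 → P i := stepQ 16034 Q16034 (allL N16034 (tt N16033 F54240) (tt N14747 F54241) (tt N16108 (iv F54409)) (tt N19698 (iv F65309)) (tt N12241 F54242) (tt N11589 (iv D26322)) (tt N15026 F54243))
theorem Q16036 : ∀ i, i < 16036 → P i := stepQ 16035 Q16035 (allL N16035 (tt N19699 D30052) (tt N11590 (iv D26323)) (tt N19691 (iv F65282)) (tt N19700 D30053) (tt N19701 D30054) (tt N19702 D30055) (tt N19703 D30056))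
theorem Q16037 : ∀ i, i < 16037 → P i := stepQ 16036 Q16036 (allL N16036 (tt N11596 F54244) (tt N19700 (iv F65316)) (tt N16016 F54245) (tt N11590 (iv D26324)) (tt N19704 D30057) (tt N19705 D30058) (tt N19706 D30059))
theorem Q16038 : ∀ i, i < 16038 → P i := stepQ 16037 Q16037 (allL N16037 (tt N11597 F54246) (tt N19701 (iv F65319)) (tt N11591 F54247) (tt N19707 D30060) (tt N11590 (iv D26325)) (tt N19708 D30061) (tt N19709 D30062))
theorem Q16039 : ∀ i, i < 16039 → P i := stepQ 16038 Q16038 (allL N16038 (tt N11598 F54248) (tt N19710 D30063) (tt N11592 F54249) (tt N19705 (iv F65328)) (tt N19708 (iv F65336)) (tt N11590 (iv D26326)) (tt N16055 (iv F54287)))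
theorem Q16040 : ∀ i, i < 16040 → P i := stepQ 16039 Q16039 (allL N16039 (tt N11599 F54250) (tt N19711 D30064) (tt N11593 F54251) (tt N19706 (iv F65332)) (tt N19709 (iv F65340)) (tt N16053 (iv F54282)) (tt N11590 (iv D26327)))
theorem Q16041 : ∀ i, i < 16041 → P i := stepQ 16040 Q16040 (allL N16040 (tt N11600 F54252) (tt N13122 (iv F54255)) (tt N19708 (iv F65335)) (tt N12246 F54253) (tt N11592 F54254) (tt N11591 (iv D26328)) (tt N16057 (iv F54294)))
theorem Q16042 : ∀ i, i < 16042 → P i := stepQ 16041 Q16041 (allL N16041 (tt N11601 F54256) (tt N19712 D30065) (tt N19709 (iv F65339)) (tt N12247 F54257) (tt N11593 F54258) (tt N16056 (iv F54290)) (tt N11591 (iv D26329)))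
theorem Q16043 : ∀ i, i < 16043 → P i := stepQ 16042 Q16042 (allL N16042 (tt N13114 (iv F54261)) (tt N11592 (iv D26330)) (tt N19713 D30066) (tt N11594 F54259) (tt N13122 F54260) (tt N19696 (iv F65302)) (tt N19232 (iv F63717)))
theorem Q16044 : ∀ i, i < 16044 → P i := stepQ 16043 Q16043 (allL N16043 (tt N15937 (iv F54264)) (tt N11593 (iv D26331)) (tt N19714 D30067) (tt N11595 F54262) (tt N19712 (iv F65348)) (tt N18168 (iv F60767)) (tt N15061 F54263))
theorem Q16045 : ∀ i, i < 16045 → P i := stepQ 16044 Q16044 (allL N16044 (tt N13404 F54265) (tt N17911 (iv F60028)) (tt N11594 (iv D26332)) (tt N19715 D30068) (tt N12248 F54266) (tt N14525 F54267) (tt N13366 F54268))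
theorem Q16046 : ∀ i, i < 16046 → P i := stepQ 16045 Q16045 (allL N16045 (tt N16016 F54269) (tt N19716 D30069) (tt N11596 (iv D26333)) (tt N16011 F54270) (tt N19717 D30070) (tt N19718 D30071) (tt N19719 D30072))
theorem Q16047 : ∀ i, i < 16047 → P i := stepQ 16046 Q16046 (allL N16046 (tt N19704 (iv F65322)) (tt N14579 F54271) (tt N19717 (iv F65365)) (tt N19720 D30073) (tt N11596 (iv D26334)) (tt N19721 D30074) (tt N19722 D30075))
theorem Q16048 : ∀ i, i < 16048 → P i := stepQ 16047 Q16047 (allL N16047 (tt N19705 (iv F65325)) (tt N18226 (iv F63096)) (tt N19718 (iv F65368)) (tt N11598 F54272) (tt N19721 (iv F65378)) (tt N11596 (iv D26335)) (tt N19723 D30076))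
theorem Q16049 : ∀ i, i < 16049 → P i := stepQ 16048 Q16048 (allL N16048 (tt N19706 (iv F65330)) (tt N19724 D30077) (tt N19719 (iv F65372)) (tt N11599 F54273) (tt N19722 (iv F65379)) (tt N19725 D30078) (tt N11596 (iv D26336)))
theorem Q16050 : ∀ i, i < 16050 → P i := stepQ 16049 Q16049 (allL N16049 (tt N19707 (iv F65333)) (tt N14569 F54274) (tt N18722 (iv F62456)) (tt N11597 (iv D26337)) (tt N19720 (iv F65375)) (tt N18718 F62447) (tt N19726 D30079))
theorem Q16051 : ∀ i, i < 16051 → P i := stepQ 16050 Q16050 (allL N16050 (tt N19708 (iv F65334)) (tt N18719 F62446) (tt N11600 F54275) (tt N18718 (iv F62445)) (tt N11598 F54276) (tt N11597 (iv D26338)) (tt N19727 D30080))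
theorem Q16052 : ∀ i, i < 16052 → P i := stepQ 16051 Q16051 (allL N16051 (tt N19709 (iv F65338)) (tt N19728 D30081) (tt N11601 F54277) (tt N19726 (iv F65393)) (tt N11599 F54278) (tt N19729 D30082) (tt N11597 (iv D26339)))
theorem Q16053 : ∀ i, i < 16053 → P i := stepQ 16052 Q16052 (allL N16052 (tt N14581 (iv F59255)) (tt N11598 (iv D26340)) (tt N15753 F54279) (tt N18226 F63087) (tt N18719 F62455) (tt N14581 F54280) (tt N18225 F63093))
theorem Q16054 : ∀ i, i < 16054 → P i := stepQ 16053 Q16053 (allL N16053 (tt N16055 (iv F54285)) (tt N19730 D30083) (tt N11602 F54281) (tt N19723 (iv F65381)) (tt N19727 (iv F65395)) (tt N16039 F54282) (tt N11598 (iv D26341)))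
theorem Q16055 : ∀ i, i < 16055 → P i := stepQ 16054 Q16054 (allL N16054 (tt N17665 (iv F61042)) (tt N11599 (iv D26342)) (tt N13802 F54283) (tt N19724 (iv F65383)) (tt N19728 (iv F65398)) (tt N19731 D30084) (tt N14463 F54284))
theorem Q16056 : ∀ i, i < 16056 → P i := stepQ 16055 Q16055 (allL N16055 (tt N16053 F54285) (tt N19732 D30085) (tt N11603 F54286) (tt N19725 (iv F65389)) (tt N19729 (iv F65402)) (tt N11599 (iv D26343)) (tt N16038 F54287))
theorem Q16057 : ∀ i, i < 16057 → P i := stepQ 16056 Q16056 (allL N16056 (tt N16057 (iv F54291)) (tt N19733 D30086) (tt N19727 (iv F65394)) (tt N12255 F54288) (tt N11602 F54289) (tt N16041 F54290) (tt N11600 (iv D26344)))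
theorem Q16058 : ∀ i, i < 16058 → P i := stepQ 16057 Q16057 (allL N16057 (tt N16056 F54291) (tt N19734 D30087) (tt N19729 (iv F65401)) (tt N12256 F54292) (tt N11603 F54293) (tt N11601 (iv D26345)) (tt N16040 F54294))
theorem Q16059 : ∀ i, i < 16059 → P i := stepQ 16058 Q16058 (allL N16058 (tt N18086 F60537) (tt N11602 (iv D26346)) (tt N16404 F55307) (tt N11604 F54295) (tt N19733 (iv F65413)) (tt N19735 D30088) (tt N16074 (iv F54336)))
theorem Q16060 : ∀ i, i < 16060 → P i := stepQ 16059 Q16059 (allL N16059 (tt N19736 D30089) (tt N11603 (iv D26347)) (tt N19737 D30090) (tt N11605 F54296) (tt N19734 (iv F65415)) (tt N13805 F54297) (tt N19738 D30091))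
theorem Q16061 : ∀ i, i < 16061 → P i := stepQ 16060 Q16060 (allL N16060 (tt N14487 F54298) (tt N14385 F54299) (tt N11604 (iv D26348)) (tt N16803 (iv F56670)) (tt N12259 F54300) (tt N14377 (iv F54301)) (tt N18381 (iv F61458)))
theorem Q16062 : ∀ i, i < 16062 → P i := stepQ 16061 Q16061 (allL N16061 (tt N16601 (iv F55969)) (tt N14376 F54302) (tt N14377 F54303) (tt N19735 (iv F65419)) (tt N12260 F54304) (tt N11604 (iv D26349)) (tt N18292 (iv F61117)))
theorem Q16063 : ∀ i, i < 16063 → P i := stepQ 16062 Q16062 (allL N16062 (tt N11605 (iv D26350)) (tt N13307 F54305) (tt N19739 D30092) (tt N19736 (iv F65421)) (tt N12261 F54306) (tt N13806 F54307) (tt N17655 (iv F59185)))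
theorem Q16064 : ∀ i, i < 16064 → P i := stepQ 16063 Q16063 (allL N16063 (tt N19739 (iv F65430)) (tt N15239 F54308) (tt N11605 (iv D26351)) (tt N19740 D30093) (tt N12262 F54309) (tt N13807 F54310) (tt N19741 D30094))
theorem Q16065 : ∀ i, i < 16065 → P i := stepQ 16064 Q16064 (allL N16064 (tt N17655 (iv F59182)) (tt N15543 F54311) (tt N19741 (iv F65437)) (tt N19738 (iv F65429)) (tt N12263 F54312) (tt N17652 (iv F59176)) (tt N11605 (iv D26352)))
theorem Q16066 : ∀ i, i < 16066 → P i := stepQ 16065 Q16065 (allL N16065 (tt N17220 (iv F57836)) (tt N11607 F54313) (tt N17214 (iv F57821)) (tt N14793 F54314) (tt N11606 (iv D26353)) (tt N19742 D30095) (tt N19743 D30096))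
theorem Q16067 : ∀ i, i < 16067 → P i := stepQ 16066 Q16066 (allL N16066 (tt N17221 (iv F57838)) (tt N19543 (iv F64812)) (tt N17215 (iv F57824)) (tt N14564 F54315) (tt N19742 (iv F65441)) (tt N11606 (iv D26354)) (tt N19744 D30097))
theorem Q16068 : ∀ i, i < 16068 → P i := stepQ 16067 Q16067 (allL N16067 (tt N17070 (iv F57443)) (tt N19745 D30098) (tt N17069 (iv F57442)) (tt N14565 F54316) (tt N19743 (iv F65443)) (tt N19746 D30099) (tt N11606 (iv D26355)))
theorem Q16069 : ∀ i, i < 16069 → P i := stepQ 16068 Q16068 (allL N16068 (tt N11610 F54317) (tt N12720 (iv F54320)) (tt N19181 (iv F63575)) (tt N12723 F54318) (tt N11608 F54319) (tt N11607 (iv D26356)) (tt N16073 (iv F54334)))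
theorem Q16070 : ∀ i, i < 16070 → P i := stepQ 16069 Q16069 (allL N16069 (tt N11611 F54321) (tt N19747 D30100) (tt N19433 (iv F64431)) (tt N14786 F54322) (tt N11609 F54323) (tt N16072 (iv F54330)) (tt N11607 (iv D26357)))
theorem Q16071 : ∀ i, i < 16071 → P i := stepQ 16070 Q16070 (allL N16070 (tt N12719 F54324) (tt N11608 (iv D26358)) (tt N19748 D30101) (tt N12811 F54325) (tt N12720 F54326) (tt N19543 (iv F64814)) (tt N19749 D30102))
theorem Q16072 : ∀ i, i < 16072 → P i := stepQ 16071 Q16071 (allL N16071 (tt N19750 D30103) (tt N11609 (iv D26359)) (tt N16146 (iv F55311)) (tt N14561 F54327) (tt N19747 (iv F65455)) (tt N19751 D30104) (tt N19745 (iv F65449)))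
theorem Q16073 : ∀ i, i < 16073 → P i := stepQ 16072 Q16072 (allL N16072 (tt N16073 (iv F54331)) (tt N19752 D30105) (tt N19445 (iv F64458)) (tt N13020 F54328) (tt N11612 F54329) (tt N16069 F54330) (tt N11610 (iv D26360)))
theorem Q16074 : ∀ i, i < 16074 → P i := stepQ 16073 Q16073 (allL N16073 (tt N16072 F54331) (tt N19753 D30106) (tt N19446 (iv F64463)) (tt N14787 F54332) (tt N11613 F54333) (tt N11611 (iv D26361)) (tt N16068 F54334))
theorem Q16075 : ∀ i, i < 16075 → P i := stepQ 16074 Q16074 (allL N16074 (tt N19754 D30107) (tt N11612 (iv D26362)) (tt N12010 F55308) (tt N14566 F54335) (tt N19752 (iv F65476)) (tt N19755 D30108) (tt N16058 F54336))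
theorem Q16076 : ∀ i, i < 16076 → P i := stepQ 16075 Q16075 (allL N16075 (tt N19756 D30109) (tt N11613 (iv D26363)) (tt N19757 D30110) (tt N14168 F54337) (tt N19753 (iv F65480)) (tt N14559 F54338) (tt N19758 D30111))
theorem Q16077 : ∀ i, i < 16077 → P i := stepQ 16076 Q16076 (allL N16076 (tt N13444 (iv F54343)) (tt N11616 (iv D26364)) (tt N14939 F54339) (tt N12096 F54340) (tt N11617 F54341) (tt N16076 F54342) (tt N19759 D30112))
theorem Q16078 : ∀ i, i < 16078 → P i := stepQ 16077 Q16077 (allL N16077 (tt N11617 (iv D26365)) (tt N13159 (iv F54347)) (tt N17514 (iv F58783)) (tt N11621 F54344) (tt N13444 F54345) (tt N16077 F54346) (tt N19542 (iv F64810)))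
theorem Q16079 : ∀ i, i < 16079 → P i := stepQ 16078 Q16078 (allL N16078 (tt N17514 (iv F58781)) (tt N14940 F54348) (tt N11617 (iv D26366)) (tt N17512 (iv F58775)) (tt N14939 F54349) (tt N16078 F54350) (tt N19760 D30113))
theorem Q16080 : ∀ i, i < 16080 → P i := stepQ 16079 Q16079 (allL N16079 (tt N19542 (iv F64806)) (tt N15853 F54351) (tt N19760 (iv F65505)) (tt N11623 F54352) (tt N19759 (iv F65503)) (tt N19542 (iv F64809)) (tt N11617 (iv D26367)))
theorem Q16081 : ∀ i, i < 16081 → P i := stepQ 16080 Q16080 (allL N16080 (tt N11622 F54353) (tt N17552 F58913) (tt N11621 (iv D26368)) (tt N16457 F55508) (tt N12281 F54354) (tt N16080 F54355) (tt N16622 (iv F56040)))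
theorem Q16082 : ∀ i, i < 16082 → P i := stepQ 16081 Q16081 (allL N16081 (tt N16622 (iv F56035)) (tt N14317 (iv F54358)) (tt N11623 F54356) (tt N16676 (iv F56248)) (tt N12283 F54357) (tt N16622 (iv F56039)) (tt N11622 (iv D26369)))
theorem Q16083 : ∀ i, i < 16083 → P i := stepQ 16082 Q16082 (allL N16082 (tt N19379 (iv F64212)) (tt N16176 (iv F54562)) (tt N11624 (iv D26370)) (tt N17998 (iv F60430)) (tt N19761 D30114) (tt N19762 D30115) (tt N17995 F60432))
theorem Q16084 : ∀ i, i < 16084 → P i := stepQ 16083 Q16083 (allL N16083 (tt N18700 (iv F62376)) (tt N11627 F54359) (tt N19761 (iv F65507)) (tt N12284 F54360) (tt N11624 (iv D26371)) (tt N19265 (iv F63836)) (tt N15586 (iv F54361)))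
theorem Q16085 : ∀ i, i < 16085 → P i := stepQ 16084 Q16084 (allL N16084 (tt N19267 (iv F63842)) (tt N13906 F54362) (tt N19762 (iv F65510)) (tt N11625 F54363) (tt N19265 (iv F63835)) (tt N11624 (iv D26372)) (tt N19275 (iv F63865)))
theorem Q16086 : ∀ i, i < 16086 → P i := stepQ 16085 Q16085 (allL N16085 (tt N19380 (iv F64216)) (tt N11634 F54364) (tt N17995 (iv F60433)) (tt N11626 F54365) (tt N15586 F54366) (tt N15585 (iv F54367)) (tt N11624 (iv D26373)))
theorem Q16087 : ∀ i, i < 16087 → P i := stepQ 16086 Q16086 (allL N16086 (tt N11871 F54368) (tt N19763 D30116) (tt N12082 F54369) (tt N19275 (iv F63864)) (tt N11868 F54370) (tt N15692 F54371) (tt N11625 (iv D26374)))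
theorem Q16088 : ∀ i, i < 16088 → P i := stepQ 16087 Q16087 (allL N16087 (tt N11631 F54372) (tt N19764 D30117) (tt N11628 (iv D26375)) (tt N16121 (iv F54448)) (tt N19765 D30118) (tt N19766 D30119) (tt N19767 D30120))
theorem Q16089 : ∀ i, i < 16089 → P i := stepQ 16088 Q16088 (allL N16088 (tt N11632 F54373) (tt N15227 F54374) (tt N19765 (iv F65520)) (tt N12285 F54375) (tt N11628 (iv D26376)) (tt N19300 (iv F63951)) (tt N17668 F59227))
theorem Q16090 : ∀ i, i < 16090 → P i := stepQ 16089 Q16089 (allL N16089 (tt N11633 F54376) (tt N15795 F54377) (tt N19766 (iv F65522)) (tt N11629 F54378) (tt N19300 (iv F63950)) (tt N11628 (iv D26377)) (tt N16099 (iv F54398)))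
theorem Q16091 : ∀ i, i < 16091 → P i := stepQ 16090 Q16090 (allL N16090 (tt N11634 F54379) (tt N17667 (iv F59223)) (tt N19767 (iv F65524)) (tt N11630 F54380) (tt N17668 (iv F59225)) (tt N16098 (iv F54393)) (tt N11628 (iv D26378)))
theorem Q16092 : ∀ i, i < 16092 → P i := stepQ 16091 Q16091 (allL N16091 (tt N19768 D30121) (tt N11631 (iv D26379)) (tt N11637 F54381) (tt N19769 D30122) (tt N19770 D30123) (tt N18320 (iv F61196)) (tt N19771 D30124))
theorem Q16093 : ∀ i, i < 16093 → P i := stepQ 16092 Q16092 (allL N16092 (tt N16121 (iv F54447)) (tt N19769 (iv F65526)) (tt N16112 (iv F54423)) (tt N11631 (iv D26380)) (tt N18640 (iv F62253)) (tt N19772 D30125) (tt N17963 F60436))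
theorem Q16094 : ∀ i, i < 16094 → P i := stepQ 16093 Q16093 (allL N16093 (tt N19765 (iv F65519)) (tt N19770 (iv F65530)) (tt N11632 F54382) (tt N19773 D30126) (tt N11631 (iv D26381)) (tt N19774 D30127) (tt N19775 D30128))
theorem Q16095 : ∀ i, i < 16095 → P i := stepQ 16094 Q16094 (allL N16094 (tt N19766 (iv F65521)) (tt N17716 F59434) (tt N11633 F54383) (tt N19772 (iv F65536)) (tt N19774 (iv F65539)) (tt N11631 (iv D26382)) (tt N19776 D30129))
theorem Q16096 : ∀ i, i < 16096 → P i := stepQ 16095 Q16095 (allL N16095 (tt N19767 (iv F65523)) (tt N17962 F60434) (tt N11634 F54384) (tt N17963 (iv F60435)) (tt N19775 (iv F65541)) (tt N19777 D30130) (tt N11631 (iv D26383)))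
theorem Q16097 : ∀ i, i < 16097 → P i := stepQ 16096 Q16096 (allL N16096 (tt N19300 (iv F63948)) (tt N13863 F54385) (tt N19774 (iv F65538)) (tt N12289 F54386) (tt N11633 F54387) (tt N11632 (iv D26384)) (tt N19298 F63946))
theorem Q16098 : ∀ i, i < 16098 → P i := stepQ 16097 Q16097 (allL N16097 (tt N17668 F59226) (tt N15586 F54388) (tt N19775 (iv F65540)) (tt N12290 F54389) (tt N11634 F54390) (tt N15598 (iv F54391)) (tt N11632 (iv D26385)))
theorem Q16099 : ∀ i, i < 16099 → P i := stepQ 16098 Q16098 (allL N16098 (tt N16099 (iv F54394)) (tt N19526 (iv F64737)) (tt N19776 (iv F65543)) (tt N11635 F54392) (tt N19298 (iv F63944)) (tt N16090 F54393) (tt N11633 (iv D26386)))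
theorem Q16100 : ∀ i, i < 16100 → P i := stepQ 16099 Q16099 (allL N16099 (tt N16098 F54394) (tt N15597 F54395) (tt N19777 (iv F65546)) (tt N11636 F54396) (tt N15598 F54397) (tt N11634 (iv D26387)) (tt N16089 F54398))
theorem Q16101 : ∀ i, i < 16101 → P i := stepQ 16100 Q16100 (allL N16100 (tt N11637 (iv D26388)) (tt N17317 (iv F58269)) (tt N19768 (iv F65525)) (tt N16169 (iv F54551)) (tt N19778 D30131) (tt N19779 D30132) (tt N19780 D30133))
theorem Q16102 : ∀ i, i < 16102 → P i := stepQ 16101 Q16101 (allL N16101 (tt N19778 (iv F65549)) (tt N11638 F54399) (tt N19770 (iv F65531)) (tt N17311 (iv F58053)) (tt N11637 (iv D26389)) (tt N19781 D30134) (tt N19782 D30135))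
theorem Q16103 : ∀ i, i < 16103 → P i := stepQ 16102 Q16102 (allL N16102 (tt N19779 (iv F65551)) (tt N13911 F54400) (tt N18320 F61197) (tt N16170 (iv F54554)) (tt N19781 (iv F65554)) (tt N11637 (iv D26390)) (tt N19783 D30136))
theorem Q16104 : ∀ i, i < 16104 → P i := stepQ 16103 Q16103 (allL N16103 (tt N19780 (iv F65552)) (tt N16179 (iv F54567)) (tt N19771 (iv F65533)) (tt N16171 (iv F54556)) (tt N19782 (iv F65555)) (tt N19784 D30137) (tt N11637 (iv D26391)))
theorem Q16105 : ∀ i, i < 16105 → P i := stepQ 16104 Q16104 (allL N16104 (tt N13198 F54401) (tt N19785 D30138) (tt N11639 (iv D26392)) (tt N13197 F54402) (tt N19786 D30139) (tt N19787 D30140) (tt N19788 D30141))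
theorem Q16106 : ∀ i, i < 16106 → P i := stepQ 16105 Q16105 (allL N16105 (tt N19313 (iv F64013)) (tt N11643 F54403) (tt N19786 (iv F65568)) (tt N12295 F54404) (tt N11639 (iv D26393)) (tt N19789 D30142) (tt N19311 (iv F64008)))
theorem Q16107 : ∀ i, i < 16107 → P i := stepQ 16106 Q16106 (allL N16106 (tt N19602 (iv F65013)) (tt N15066 (iv F54406)) (tt N19787 (iv F65572)) (tt N11640 F54405) (tt N19789 (iv F65579)) (tt N11639 (iv D26394)) (tt N19790 D30143))
theorem Q16108 : ∀ i, i < 16108 → P i := stepQ 16107 Q16107 (allL N16107 (tt N18615 F62188) (tt N19791 D30144) (tt N19788 (iv F65575)) (tt N11641 F54407) (tt N19311 (iv F64007)) (tt N19792 D30145) (tt N11639 (iv D26395)))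
theorem Q16109 : ∀ i, i < 16109 → P i := stepQ 16108 Q16108 (allL N16108 (tt N16110 (iv F54417)) (tt N14768 F54408) (tt N16034 F54409) (tt N19790 (iv F65583)) (tt N12298 F54410) (tt N15030 F54411) (tt N11640 (iv D26396)))
theorem Q16110 : ∀ i, i < 16110 → P i := stepQ 16109 Q16109 (allL N16109 (tt N13454 F54412) (tt N11641 (iv D26397)) (tt N14476 (iv F54416)) (tt N19791 (iv F65587)) (tt N12299 F54413) (tt N15794 (iv F54415)) (tt N11647 F54414))
theorem Q16111 : ∀ i, i < 16111 → P i := stepQ 16110 Q16110 (allL N16110 (tt N16108 F54417) (tt N14502 F54418) (tt N16033 F54419) (tt N19792 (iv F65593)) (tt N12300 F54420) (tt N11641 (iv D26398)) (tt N15939 F54421))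
theorem Q16112 : ∀ i, i < 16112 → P i := stepQ 16111 Q16111 (allL N16111 (tt N19793 D30146) (tt N11642 (iv D26399)) (tt N19785 (iv F65565)) (tt N19794 D30147) (tt N19795 D30148) (tt N19796 D30149) (tt N19797 D30150))
theorem Q16113 : ∀ i, i < 16113 → P i := stepQ 16112 Q16112 (allL N16112 (tt N11648 F54422) (tt N19794 (iv F65599)) (tt N16092 F54423) (tt N11642 (iv D26400)) (tt N19798 D30151) (tt N19799 D30152) (tt N19800 D30153))
theorem Q16114 : ∀ i, i < 16114 → P i := stepQ 16113 Q16113 (allL N16113 (tt N11649 F54424) (tt N19795 (iv F65602)) (tt N11643 F54425) (tt N19801 D30154) (tt N11642 (iv D26401)) (tt N19802 D30155) (tt N19803 D30156))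
theorem Q16115 : ∀ i, i < 16115 → P i := stepQ 16114 Q16114 (allL N16114 (tt N11650 F54426) (tt N19804 D30157) (tt N11644 F54427) (tt N19799 (iv F65610)) (tt N19802 (iv F65619)) (tt N11642 (iv D26402)) (tt N16131 (iv F54465)))
theorem Q16116 : ∀ i, i < 16116 → P i := stepQ 16115 Q16115 (allL N16115 (tt N11651 F54428) (tt N19805 D30158) (tt N11645 F54429) (tt N19800 (iv F65614)) (tt N19803 (iv F65622)) (tt N16129 (iv F54460)) (tt N11642 (iv D26403)))
theorem Q16117 : ∀ i, i < 16117 → P i := stepQ 16116 Q16116 (allL N16116 (tt N11652 F54430) (tt N19806 D30159) (tt N19802 (iv F65618)) (tt N12305 F54431) (tt N11644 F54432) (tt N11643 (iv D26404)) (tt N16133 (iv F54472)))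
theorem Q16118 : ∀ i, i < 16118 → P i := stepQ 16117 Q16117 (allL N16117 (tt N11653 F54433) (tt N13181 (iv F54436)) (tt N19803 (iv F65621)) (tt N12306 F54434) (tt N11645 F54435) (tt N16132 (iv F54468)) (tt N11643 (iv D26405)))
theorem Q16119 : ∀ i, i < 16119 → P i := stepQ 16118 Q16118 (allL N16118 (tt N15711 (iv F54439)) (tt N11644 (iv D26406)) (tt N19807 D30160) (tt N11646 F54437) (tt N19806 (iv F65631)) (tt N15066 F54438) (tt N18114 (iv F60606)))
theorem Q16120 : ∀ i, i < 16120 → P i := stepQ 16119 Q16119 (allL N16119 (tt N13173 (iv F54442)) (tt N11645 (iv D26407)) (tt N19808 D30161) (tt N11647 F54440) (tt N13181 F54441) (tt N19474 (iv F64551)) (tt N19791 (iv F65589)))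
theorem Q16121 : ∀ i, i < 16121 → P i := stepQ 16120 Q16120 (allL N16120 (tt N13456 F54443) (tt N17888 (iv F59940)) (tt N11647 (iv D26408)) (tt N19809 D30162) (tt N12307 F54444) (tt N13307 F54445) (tt N14476 F54446))
theorem Q16122 : ∀ i, i < 16122 → P i := stepQ 16121 Q16121 (allL N16121 (tt N16092 F54447) (tt N19810 D30163) (tt N11648 (iv D26409)) (tt N16087 F54448) (tt N19811 D30164) (tt N19812 D30165) (tt N19813 D30166))
theorem Q16123 : ∀ i, i < 16123 → P i := stepQ 16122 Q16122 (allL N16122 (tt N19798 (iv F65605)) (tt N14628 F54449) (tt N19811 (iv F65648)) (tt N19814 D30167) (tt N11648 (iv D26410)) (tt N19815 D30168) (tt N19816 D30169))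
theorem Q16124 : ∀ i, i < 16124 → P i := stepQ 16123 Q16123 (allL N16123 (tt N19799 (iv F65608)) (tt N19817 D30170) (tt N19812 (iv F65651)) (tt N11650 F54450) (tt N19815 (iv F65659)) (tt N11648 (iv D26411)) (tt N19818 D30171))
theorem Q16125 : ∀ i, i < 16125 → P i := stepQ 16124 Q16124 (allL N16124 (tt N19800 (iv F65611)) (tt N18201 F61241) (tt N19813 (iv F65654)) (tt N11651 F54451) (tt N19816 (iv F65663)) (tt N19819 D30172) (tt N11648 (iv D26412)))
theorem Q16126 : ∀ i, i < 16126 → P i := stepQ 16125 Q16125 (allL N16125 (tt N19801 (iv F65616)) (tt N14620 F54452) (tt N18734 (iv F62497)) (tt N11649 (iv D26413)) (tt N19814 (iv F65658)) (tt N19820 D30173) (tt N18729 (iv F62480)))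
theorem Q16127 : ∀ i, i < 16127 → P i := stepQ 16126 Q16126 (allL N16126 (tt N19802 (iv F65617)) (tt N19821 D30174) (tt N11652 F54453) (tt N19820 (iv F65676)) (tt N11650 F54454) (tt N11649 (iv D26414)) (tt N19822 D30175))
theorem Q16128 : ∀ i, i < 16128 → P i := stepQ 16127 Q16127 (allL N16127 (tt N19803 (iv F65620)) (tt N18730 (iv F62483)) (tt N11653 F54455) (tt N18729 F62481) (tt N11651 F54456) (tt N19823 D30176) (tt N11649 (iv D26415)))
theorem Q16129 : ∀ i, i < 16129 → P i := stepQ 16128 Q16128 (allL N16128 (tt N17734 (iv F59432)) (tt N11650 (iv D26416)) (tt N13851 F54457) (tt N19817 (iv F65664)) (tt N19821 (iv F65678)) (tt N14512 F54458) (tt N19824 D30177))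
theorem Q16130 : ∀ i, i < 16130 → P i := stepQ 16129 Q16129 (allL N16129 (tt N16131 (iv F54463)) (tt N19825 D30178) (tt N11654 F54459) (tt N19818 (iv F65669)) (tt N19822 (iv F65681)) (tt N16115 F54460) (tt N11650 (iv D26417)))
theorem Q16131 : ∀ i, i < 16131 → P i := stepQ 16130 Q16130 (allL N16130 (tt N14630 F61243) (tt N11651 (iv D26418)) (tt N15979 F54461) (tt N18201 (iv F61242)) (tt N18730 F62486) (tt N18200 F61244) (tt N14630 F54462))
theorem Q16132 : ∀ i, i < 16132 → P i := stepQ 16131 Q16131 (allL N16131 (tt N16129 F54463) (tt N19826 D30179) (tt N11655 F54464) (tt N19819 (iv F65674)) (tt N19823 (iv F65688)) (tt N11651 (iv D26419)) (tt N16114 F54465))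
theorem Q16133 : ∀ i, i < 16133 → P i := stepQ 16132 Q16132 (allL N16132 (tt N16133 (iv F54469)) (tt N19827 D30180) (tt N19822 (iv F65680)) (tt N12314 F54466) (tt N11654 F54467) (tt N16117 F54468) (tt N11652 (iv D26420)))
theorem Q16134 : ∀ i, i < 16134 → P i := stepQ 16133 Q16133 (allL N16133 (tt N16132 F54469) (tt N19828 D30181) (tt N19823 (iv F65687)) (tt N12315 F54470) (tt N11655 F54471) (tt N11653 (iv D26421)) (tt N16116 F54472))
theorem Q16135 : ∀ i, i < 16135 → P i := stepQ 16134 Q16134 (allL N16134 (tt N19829 D30182) (tt N11654 (iv D26422)) (tt N19830 D30183) (tt N11656 F54473) (tt N19827 (iv F65696)) (tt N19831 D30184) (tt N13854 F54474))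
theorem Q16136 : ∀ i, i < 16136 → P i := stepQ 16135 Q16135 (allL N16135 (tt N18139 F60696) (tt N11655 (iv D26423)) (tt N16512 (iv F55681)) (tt N11657 F54475) (tt N19828 (iv F65700)) (tt N16151 (iv F54516)) (tt N19832 D30185))
theorem Q16137 : ∀ i, i < 16137 → P i := stepQ 16136 Q16136 (allL N16136 (tt N11656 (iv D26424)) (tt N13366 F54476) (tt N19833 D30186) (tt N19829 (iv F65702)) (tt N12318 F54477) (tt N17724 (iv F59398)) (tt N13855 F54478))
theorem Q16138 : ∀ i, i < 16138 → P i := stepQ 16137 Q16137 (allL N16137 (tt N19833 (iv F65716)) (tt N15292 F54479) (tt N11656 (iv D26425)) (tt N19834 D30187) (tt N12319 F54480) (tt N19835 D30188) (tt N13856 F54481))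
theorem Q16139 : ∀ i, i < 16139 → P i := stepQ 16138 Q16138 (allL N16138 (tt N17724 (iv F59395)) (tt N15792 F54482) (tt N19835 (iv F65725)) (tt N19831 (iv F65712)) (tt N12320 F54483) (tt N11656 (iv D26426)) (tt N17722 (iv F59392)))
theorem Q16140 : ∀ i, i < 16140 → P i := stepQ 16139 Q16139 (allL N16139 (tt N14536 F54484) (tt N14331 F54485) (tt N11657 (iv D26427)) (tt N16829 (iv F56745)) (tt N12321 F54486) (tt N18443 (iv F61608)) (tt N14322 (iv F54487)))
theorem Q16141 : ∀ i, i < 16141 → P i := stepQ 16140 Q16140 (allL N16140 (tt N16624 (iv F56046)) (tt N14321 F54488) (tt N14322 F54489) (tt N19832 (iv F65715)) (tt N12322 F54490) (tt N18349 (iv F61301)) (tt N11657 (iv D26428)))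
theorem Q16142 : ∀ i, i < 16142 → P i := stepQ 16141 Q16141 (allL N16141 (tt N17296 (iv F58012)) (tt N11659 F54491) (tt N17290 (iv F57997)) (tt N14825 F54492) (tt N11658 (iv D26429)) (tt N19836 D30189) (tt N19837 D30190))
theorem Q16143 : ∀ i, i < 16143 → P i := stepQ 16142 Q16142 (allL N16142 (tt N17157 (iv F57676)) (tt N19838 D30191) (tt N17156 (iv F57675)) (tt N14615 F54493) (tt N19836 (iv F65728)) (tt N11658 (iv D26430)) (tt N19839 D30192))
theorem Q16144 : ∀ i, i < 16144 → P i := stepQ 16143 Q16143 (allL N16143 (tt N17297 (iv F58014)) (tt N19316 (iv F64029)) (tt N17291 (iv F58000)) (tt N14616 F54494) (tt N19837 (iv F65731)) (tt N19840 D30193) (tt N11658 (iv D26431)))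
theorem Q16145 : ∀ i, i < 16145 → P i := stepQ 16144 Q16144 (allL N16144 (tt N11662 F54495) (tt N19841 D30194) (tt N19634 (iv F65127)) (tt N14819 F54496) (tt N11660 F54497) (tt N11659 (iv D26432)) (tt N16149 (iv F54512)))
theorem Q16146 : ∀ i, i < 16146 → P i := stepQ 16145 Q16145 (allL N16145 (tt N11663 F54498) (tt N12727 (iv F54501)) (tt N19044 (iv F63240)) (tt N12730 F54499) (tt N11661 F54500) (tt N16148 (iv F54508)) (tt N11659 (iv D26433)))
theorem Q16147 : ∀ i, i < 16147 → P i := stepQ 16146 Q16146 (allL N16146 (tt N19842 D30195) (tt N11660 (iv D26434)) (tt N16071 F55311) (tt N14611 F54502) (tt N19841 (iv F65745)) (tt N19838 (iv F65735)) (tt N19843 D30196))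
theorem Q16148 : ∀ i, i < 16148 → P i := stepQ 16147 Q16147 (allL N16147 (tt N12726 F54503) (tt N11661 (iv D26435)) (tt N19844 D30197) (tt N12815 F54504) (tt N12727 F54505) (tt N19845 D30198) (tt N19316 (iv F64032)))
theorem Q16149 : ∀ i, i < 16149 → P i := stepQ 16148 Q16148 (allL N16148 (tt N16149 (iv F54509)) (tt N19846 D30199) (tt N19645 (iv F65150)) (tt N14820 F54506) (tt N11664 F54507) (tt N16145 F54508) (tt N11662 (iv D26436)))
theorem Q16150 : ∀ i, i < 16150 → P i := stepQ 16149 Q16149 (allL N16149 (tt N16148 F54509) (tt N19847 D30200) (tt N19647 (iv F65159)) (tt N13091 F54510) (tt N11665 F54511) (tt N11663 (iv D26437)) (tt N16144 F54512))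
theorem Q16151 : ∀ i, i < 16151 → P i := stepQ 16150 Q16150 (allL N16150 (tt N19848 D30201) (tt N11664 (iv D26438)) (tt N19849 D30202) (tt N14189 F54513) (tt N19846 (iv F65767)) (tt N19850 D30203) (tt N14609 F54514))
theorem Q16152 : ∀ i, i < 16152 → P i := stepQ 16151 Q16151 (allL N16151 (tt N19851 D30204) (tt N11665 (iv D26439)) (tt N12195 (iv F55313)) (tt N14617 F54515) (tt N19847 (iv F65771)) (tt N16135 F54516) (tt N19852 D30205))
theorem Q16153 : ∀ i, i < 16153 → P i := stepQ 16152 Q16152 (allL N16152 (tt N15297 (iv F54519)) (tt N11666 (iv D26440)) (tt N11667 F54517) (tt N16248 (iv F54804)) (tt N15294 F54518) (tt N19853 D30206) (tt N17180 (iv F57732)))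
theorem Q16154 : ∀ i, i < 16154 → P i := stepQ 16153 Q16153 (allL N16153 (tt N16153 F54520) (tt N16248 (iv F54802)) (tt N16168 (iv F54549)) (tt N11666 (iv D26441)) (tt N16247 (iv F54797)) (tt N16168 (iv F54547)) (tt N16168 (iv F54548)))
theorem Q16155 : ∀ i, i < 16155 → P i := stepQ 16154 Q16154 (allL N16154 (tt N11667 (iv D26442)) (tt N19854 D30207) (tt N15297 F54521) (tt N16024 F54522) (tt N15296 F54523) (tt N19855 D30208) (tt N19856 D30209))
theorem Q16156 : ∀ i, i < 16156 → P i := stepQ 16155 Q16155 (allL N16155 (tt N19855 (iv F65801)) (tt N11670 F54524) (tt N19853 (iv F65793)) (tt N16026 F54525) (tt N17342 (iv F58117)) (tt N11667 (iv D26443)) (tt N19857 D30210))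
theorem Q16157 : ∀ i, i < 16157 → P i := stepQ 16156 Q16156 (allL N16156 (tt N19856 (iv F65807)) (tt N13915 F54526) (tt N17180 F57733) (tt N16027 F54527) (tt N17343 (iv F58120)) (tt N17179 (iv F57734)) (tt N11667 (iv D26444)))
theorem Q16158 : ∀ i, i < 16158 → P i := stepQ 16157 Q16157 (allL N16157 (tt N17360 (iv F58166)) (tt N11668 (iv D26445)) (tt N17360 (iv F58165)) (tt N17356 (iv F58167)) (tt N17344 (iv F58122)) (tt N19858 D30211) (tt N19859 D30212))
theorem Q16159 : ∀ i, i < 16159 → P i := stepQ 16158 Q16158 (allL N16158 (tt N11669 F54528) (tt N17356 F58168) (tt N15166 F54529) (tt N11668 (iv D26446)) (tt N19404 (iv F64301)) (tt N19860 D30213) (tt N19861 D30214))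
theorem Q16160 : ∀ i, i < 16160 → P i := stepQ 16159 Q16159 (allL N16159 (tt N11670 F54530) (tt N19862 D30215) (tt N17818 (iv F59670)) (tt N19860 (iv F65820)) (tt N17345 (iv F58125)) (tt N11668 (iv D26447)) (tt N16166 (iv F54542)))
theorem Q16161 : ∀ i, i < 16161 → P i := stepQ 16160 Q16160 (allL N16160 (tt N11671 F54531) (tt N19863 D30216) (tt N17819 (iv F59674)) (tt N19861 (iv F65823)) (tt N17346 (iv F58128)) (tt N16165 (iv F54540)) (tt N11668 (iv D26448)))
theorem Q16162 : ∀ i, i < 16162 → P i := stepQ 16161 Q16161 (allL N16161 (tt N15166 F54532) (tt N16006 F54533) (tt N11669 (iv D26449)) (tt N15165 F54534) (tt N19864 D30217) (tt N19865 D30218) (tt N19866 D30219))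
theorem Q16163 : ∀ i, i < 16163 → P i := stepQ 16162 Q16162 (allL N16162 (tt N19404 (iv F64300)) (tt N11672 F54535) (tt N19864 (iv F65826)) (tt N17347 (iv F58132)) (tt N11669 (iv D26450)) (tt N19867 D30220) (tt N19868 D30221))
theorem Q16164 : ∀ i, i < 16164 → P i := stepQ 16163 Q16163 (allL N16163 (tt N19860 (iv F65818)) (tt N16026 F54536) (tt N19865 (iv F65829)) (tt N11670 F54537) (tt N19867 (iv F65836)) (tt N11669 (iv D26451)) (tt N19869 D30222))
theorem Q16165 : ∀ i, i < 16165 → P i := stepQ 16164 Q16164 (allL N16164 (tt N19861 (iv F65821)) (tt N13921 F54538) (tt N19866 (iv F65833)) (tt N11671 F54539) (tt N19868 (iv F65838)) (tt N19870 D30223) (tt N11669 (iv D26452)))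
theorem Q16166 : ∀ i, i < 16166 → P i := stepQ 16165 Q16165 (allL N16165 (tt N16166 (iv F54541)) (tt N19871 D30224) (tt N17820 (iv F59677)) (tt N19869 (iv F65839)) (tt N17350 (iv F58141)) (tt N16160 F54540) (tt N11670 (iv D26453)))
theorem Q16167 : ∀ i, i < 16167 → P i := stepQ 16166 Q16166 (allL N16166 (tt N16165 F54541) (tt N15288 F61414) (tt N17821 (iv F59682)) (tt N19870 (iv F65843)) (tt N15286 (iv F61404)) (tt N11671 (iv D26454)) (tt N16159 F54542))
theorem Q16168 : ∀ i, i < 16168 → P i := stepQ 16167 Q16167 (allL N16167 (tt N15244 (iv F54545)) (tt N11673 (iv D26455)) (tt N11674 F54543) (tt N16218 (iv F54708)) (tt N15241 F54544) (tt N17099 F57519) (tt N19872 D30225))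
theorem Q16169 : ∀ i, i < 16169 → P i := stepQ 16168 Q16168 (allL N16168 (tt N16168 F54546) (tt N16218 (iv F54706)) (tt N16153 F54549) (tt N11673 (iv D26456)) (tt N16217 (iv F54704)) (tt N16153 F54547) (tt N16153 F54548))
theorem Q16170 : ∀ i, i < 16170 → P i := stepQ 16169 Q16169 (allL N16169 (tt N11674 (iv D26457)) (tt N19873 D30226) (tt N15244 F54550) (tt N16100 F54551) (tt N15243 F54552) (tt N19874 D30227) (tt N19875 D30228))
theorem Q16171 : ∀ i, i < 16171 → P i := stepQ 16170 Q16170 (allL N16170 (tt N19874 (iv F65855)) (tt N13923 F54553) (tt N17099 (iv F57520)) (tt N16102 F54554) (tt N17370 (iv F58209)) (tt N11674 (iv D26458)) (tt N17098 F57521))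
theorem Q16172 : ∀ i, i < 16172 → P i := stepQ 16171 Q16171 (allL N16171 (tt N19875 (iv F65859)) (tt N11678 F54555) (tt N19872 (iv F65847)) (tt N16103 F54556) (tt N17371 (iv F58212)) (tt N19876 D30229) (tt N11674 (iv D26459)))
theorem Q16173 : ∀ i, i < 16173 → P i := stepQ 16172 Q16172 (allL N16172 (tt N17386 (iv F58266)) (tt N11675 (iv D26460)) (tt N17386 (iv F58265)) (tt N17384 (iv F58267)) (tt N17372 (iv F58214)) (tt N19877 D30230) (tt N19858 (iv F65817)))
theorem Q16174 : ∀ i, i < 16174 → P i := stepQ 16173 Q16173 (allL N16173 (tt N11676 F54557) (tt N17384 F58268) (tt N15200 F54558) (tt N11675 (iv D26461)) (tt N19609 (iv F65038)) (tt N19878 D30231) (tt N19879 D30232))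
theorem Q16175 : ∀ i, i < 16175 → P i := stepQ 16174 Q16174 (allL N16174 (tt N11677 F54559) (tt N19880 D30233) (tt N17803 (iv F59617)) (tt N19878 (iv F65875)) (tt N17373 (iv F58218)) (tt N11675 (iv D26462)) (tt N16181 (iv F54571)))
theorem Q16176 : ∀ i, i < 16176 → P i := stepQ 16175 Q16175 (allL N16175 (tt N11678 F54560) (tt N19881 D30234) (tt N17804 (iv F59621)) (tt N19879 (iv F65878)) (tt N17374 (iv F58222)) (tt N16180 (iv F54569)) (tt N11675 (iv D26463)))
theorem Q16177 : ∀ i, i < 16177 → P i := stepQ 16176 Q16176 (allL N16176 (tt N15200 F54561) (tt N16082 F54562) (tt N11676 (iv D26464)) (tt N15199 F54563) (tt N19882 D30235) (tt N19883 D30236) (tt N19884 D30237))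
theorem Q16178 : ∀ i, i < 16178 → P i := stepQ 16177 Q16177 (allL N16177 (tt N19609 (iv F65037)) (tt N11679 F54564) (tt N19882 (iv F65881)) (tt N17375 (iv F58226)) (tt N11676 (iv D26465)) (tt N19885 D30238) (tt N19886 D30239))
theorem Q16179 : ∀ i, i < 16179 → P i := stepQ 16178 Q16178 (allL N16178 (tt N19878 (iv F65873)) (tt N13928 F54565) (tt N19883 (iv F65884)) (tt N11677 F54566) (tt N19885 (iv F65891)) (tt N11676 (iv D26466)) (tt N19887 D30240))
theorem Q16180 : ∀ i, i < 16180 → P i := stepQ 16179 Q16179 (allL N16179 (tt N19879 (iv F65876)) (tt N16103 F54567) (tt N19884 (iv F65888)) (tt N11678 F54568) (tt N19886 (iv F65893)) (tt N19888 D30241) (tt N11676 (iv D26467)))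
theorem Q16181 : ∀ i, i < 16181 → P i := stepQ 16180 Q16180 (allL N16180 (tt N16181 (iv F54570)) (tt N15235 F61412) (tt N17805 (iv F59624)) (tt N19887 (iv F65895)) (tt N15233 (iv F61409)) (tt N16175 F54569) (tt N11677 (iv D26468)))
theorem Q16182 : ∀ i, i < 16182 → P i := stepQ 16181 Q16181 (allL N16181 (tt N16180 F54570) (tt N19889 D30242) (tt N17806 (iv F59629)) (tt N19888 (iv F65898)) (tt N17378 (iv F58240)) (tt N11678 (iv D26469)) (tt N16174 F54571))
theorem Q16183 : ∀ i, i < 16183 → P i := stepQ 16182 Q16182 (allL N16182 (tt N11691 (iv D26470)) (tt N14901 (iv F54576)) (tt N11713 F54572) (tt N14902 F54573) (tt N11715 F54574) (tt N19890 D30243) (tt N16182 F54575))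
theorem Q16184 : ∀ i, i < 16184 → P i := stepQ 16183 Q16183 (allL N16183 (tt N19890 (iv F65900)) (tt N12061 F54577) (tt N11734 F54578) (tt N15011 F54579) (tt N11736 F54580) (tt N11691 (iv D26471)) (tt N19890 (iv F65904)))
theorem Q16185 : ∀ i, i < 16185 → P i := stepQ 16184 Q16184 (allL N16184 (tt N11692 (iv D26472)) (tt N14949 F54581) (tt N11722 F54582) (tt N14950 F54583) (tt N11724 F54584) (tt N16184 F54585) (tt N19891 D30244))
theorem Q16186 : ∀ i, i < 16186 → P i := stepQ 16185 Q16185 (allL N16185 (tt N19891 (iv F65905)) (tt N11849 F54586) (tt N11777 F54587) (tt N14997 F54588) (tt N11779 F54589) (tt N19891 (iv F65910)) (tt N11692 (iv D26473)))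
theorem Q16187 : ∀ i, i < 16187 → P i := stepQ 16186 Q16186 (allL N16186 (tt N16186 F54590) (tt N11841 F54591) (tt N16186 F54592) (tt N14745 F54593) (tt N11694 F54594) (tt N16186 F54595) (tt N11693 (iv D26474)))
theorem Q16188 : ∀ i, i < 16188 → P i := stepQ 16187 Q16187 (allL N16187 (tt N16187 F54596) (tt N12055 F54597) (tt N16187 F54598) (tt N14766 F54599) (tt N11696 F54600) (tt N11695 (iv D26475)) (tt N16187 F54601))
theorem Q16189 : ∀ i, i < 16189 → P i := stepQ 16188 Q16188 (allL N16188 (tt N11701 F54602) (tt N14833 F54603) (tt N12184 F54604) (tt N18647 (iv F62273)) (tt N11699 (iv D26476)) (tt N12190 F54605) (tt N12181 F54606))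
theorem Q16190 : ∀ i, i < 16190 → P i := stepQ 16189 Q16189 (allL N16189 (tt N12184 F54607) (tt N16302 (iv F54992)) (tt N11701 F54608) (tt N19604 (iv F65022)) (tt N11700 (iv D26477)) (tt N16503 (iv F55650)) (tt N12178 F54609))
theorem Q16191 : ∀ i, i < 16191 → P i := stepQ 16190 Q16190 (allL N16190 (tt N12190 F54610) (tt N16538 (iv F55768)) (tt N16503 (iv F55648)) (tt N18651 (iv F62280)) (tt N11702 F54611) (tt N11701 (iv D26478)) (tt N16502 (iv F55645)))
theorem Q16192 : ∀ i, i < 16192 → P i := stepQ 16191 Q16191 (allL N16191 (tt N11707 F54612) (tt N14801 F54613) (tt N11986 F54614) (tt N18653 (iv F62288)) (tt N11705 (iv D26479)) (tt N11984 F54615) (tt N12000 F54616))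
theorem Q16193 : ∀ i, i < 16193 → P i := stepQ 16192 Q16192 (allL N16192 (tt N11986 F54617) (tt N16452 (iv F55487)) (tt N11707 F54618) (tt N19397 (iv F64286)) (tt N11706 (iv D26480)) (tt N11980 F54619) (tt N16370 (iv F55207)))
theorem Q16194 : ∀ i, i < 16194 → P i := stepQ 16193 Q16193 (allL N16193 (tt N12000 F54620) (tt N16573 (iv F55876)) (tt N16370 (iv F55205)) (tt N18657 (iv F62295)) (tt N11708 F54621) (tt N16368 (iv F55197)) (tt N11707 (iv D26481)))
theorem Q16195 : ∀ i, i < 16195 → P i := stepQ 16194 Q16194 (allL N16194 (tt N16295 (iv F54964)) (tt N11710 (iv D26482)) (tt N16448 (iv F55471)) (tt N16746 (iv F56476)) (tt N11711 F54622) (tt N11853 F54623) (tt N16294 (iv F54963)))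
theorem Q16196 : ∀ i, i < 16196 → P i := stepQ 16195 Q16195 (allL N16195 (tt N11734 F54624) (tt N16318 (iv F55046)) (tt N19890 (iv F65901)) (tt N16571 (iv F55866)) (tt N11716 F54625) (tt N11713 (iv D26483)) (tt N11734 F54626))
theorem Q16197 : ∀ i, i < 16197 → P i := stepQ 16196 Q16196 (allL N16196 (tt N12105 F54629) (tt N11714 (iv D26484)) (tt N12104 (iv F54630)) (tt N16572 (iv F55873)) (tt N11717 F54627) (tt N16318 (iv F55049)) (tt N11894 F54628))
theorem Q16198 : ∀ i, i < 16198 → P i := stepQ 16197 Q16197 (allL N16197 (tt N11735 F54631) (tt N13388 F54632) (tt N16207 (iv F54669)) (tt N11715 (iv D26485)) (tt N15003 F54633) (tt N19892 D30245) (tt N16197 F54634))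
theorem Q16199 : ∀ i, i < 16199 → P i := stepQ 16198 Q16198 (allL N16198 (tt N11736 F54635) (tt N16203 (iv F54652)) (tt N11716 F54636) (tt N19892 (iv F65913)) (tt N19890 (iv F65903)) (tt N11715 (iv D26486)) (tt N11736 F54637))
theorem Q16200 : ∀ i, i < 16200 → P i := stepQ 16199 Q16199 (allL N16199 (tt N16448 (iv F55470)) (tt N11719 (iv D26487)) (tt N16295 (iv F54965)) (tt N16749 (iv F56484)) (tt N11720 F54638) (tt N16447 (iv F55469)) (tt N12065 F54639))
theorem Q16201 : ∀ i, i < 16201 → P i := stepQ 16200 Q16200 (allL N16200 (tt N11777 F54640) (tt N16465 (iv F55538)) (tt N19891 (iv F65907)) (tt N16536 (iv F55758)) (tt N11725 F54641) (tt N11777 F54642) (tt N11722 (iv D26488)))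
theorem Q16202 : ∀ i, i < 16202 → P i := stepQ 16201 Q16201 (allL N16201 (tt N11896 (iv F54645)) (tt N11723 (iv D26489)) (tt N11895 F54646) (tt N16537 (iv F55765)) (tt N11726 F54643) (tt N12103 F54644) (tt N16465 (iv F55542)))
theorem Q16203 : ∀ i, i < 16203 → P i := stepQ 16202 Q16202 (allL N16202 (tt N11778 F54647) (tt N13440 F54648) (tt N16237 (iv F54758)) (tt N11724 (iv D26490)) (tt N15016 F54649) (tt N16202 F54650) (tt N19893 D30246))
theorem Q16204 : ∀ i, i < 16204 → P i := stepQ 16203 Q16203 (allL N16203 (tt N11779 F54651) (tt N16198 F54652) (tt N11725 F54653) (tt N19893 (iv F65919)) (tt N19891 (iv F65909)) (tt N11779 F54654) (tt N11724 (iv D26491)))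
theorem Q16205 : ∀ i, i < 16205 → P i := stepQ 16204 Q16204 (allL N16204 (tt N12108 F54655) (tt N11731 (iv D26492)) (tt N12107 (iv F54659)) (tt N11732 F54656) (tt N17430 (iv F58452)) (tt N11901 F54657) (tt N11855 F54658))
theorem Q16206 : ∀ i, i < 16206 → P i := stepQ 16205 Q16205 (allL N16205 (tt N16207 (iv F54667)) (tt N11842 F54660) (tt N11735 (iv D26493)) (tt N11807 F54663) (tt N11843 F54661) (tt N19894 D30247) (tt N16205 F54662))
theorem Q16207 : ∀ i, i < 16207 → P i := stepQ 16206 Q16206 (allL N16206 (tt N19892 (iv F65911)) (tt N12060 F54664) (tt N19894 (iv F65924)) (tt N11736 F54665) (tt N15013 F54666) (tt N11735 (iv D26494)) (tt N19892 (iv F65915)))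
theorem Q16208 : ∀ i, i < 16208 → P i := stepQ 16207 Q16207 (allL N16207 (tt N16205 F54667) (tt N12603 F54668) (tt N16197 F54669) (tt N11737 (iv D26495)) (tt N16286 (iv F54928)) (tt N16293 F54958) (tt N16207 F54670))
theorem Q16209 : ∀ i, i < 16209 → P i := stepQ 16208 Q16208 (allL N16208 (tt N12645 F54671) (tt N12593 F54672) (tt N11738 F54673) (tt N15561 (iv F54676)) (tt N11737 (iv D26496)) (tt N15574 F54675) (tt N16208 F54674))
theorem Q16210 : ∀ i, i < 16210 → P i := stepQ 16209 Q16209 (allL N16209 (tt N16258 (iv F54829)) (tt N15572 F54677) (tt N11739 F54678) (tt N16293 (iv F54956)) (tt N15574 F54679) (tt N11737 (iv D26497)) (tt N16258 (iv F54831)))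
theorem Q16211 : ∀ i, i < 16211 → P i := stepQ 16210 Q16210 (allL N16210 (tt N16256 (iv F54825)) (tt N19895 D30248) (tt N15574 F54680) (tt N18849 (iv F62708)) (tt N11739 F54681) (tt N11738 (iv D26498)) (tt N16256 (iv F54827)))
theorem Q16212 : ∀ i, i < 16212 → P i := stepQ 16211 Q16211 (allL N16211 (tt N13335 F54685) (tt N11739 (iv D26499)) (tt N13334 (iv F54684)) (tt N11740 F54682) (tt N19895 (iv F65929)) (tt N11748 F54683) (tt N12286 F54686))
theorem Q16213 : ∀ i, i < 16213 → P i := stepQ 16212 Q16212 (allL N16212 (tt N16565 (iv F55848)) (tt N11745 F54687) (tt N12308 F54688) (tt N18852 (iv F62714)) (tt N11741 (iv D26500)) (tt N19896 D30249) (tt N17093 (iv F57505)))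
theorem Q16214 : ∀ i, i < 16214 → P i := stepQ 16213 Q16213 (allL N16213 (tt N16566 (iv F55849)) (tt N16224 (iv F54723)) (tt N12309 F54689) (tt N11742 F54690) (tt N19896 (iv F65934)) (tt N11741 (iv D26501)) (tt N11748 F54691))
theorem Q16215 : ∀ i, i < 16215 → P i := stepQ 16214 Q16214 (allL N16214 (tt N19897 D30250) (tt N11747 (iv D26502)) (tt N19898 D30251) (tt N18862 (iv F62737)) (tt N11748 F54692) (tt N19895 (iv F65930)) (tt N19896 (iv F65935)))
theorem Q16216 : ∀ i, i < 16216 → P i := stepQ 16215 Q16215 (allL N16215 (tt N11748 (iv D26503)) (tt N13320 (iv F54696)) (tt N13318 F54695) (tt N11749 F54693) (tt N19897 (iv F65936)) (tt N13335 F54694) (tt N16566 (iv F55851)))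
theorem Q16217 : ∀ i, i < 16217 → P i := stepQ 16216 Q16216 (allL N16216 (tt N13318 F54697) (tt N12193 F54698) (tt N11748 (iv D26504)) (tt N12313 F54699) (tt N19898 (iv F65942)) (tt N13334 F54700) (tt N12309 F54701))
theorem Q16218 : ∀ i, i < 16218 → P i := stepQ 16217 Q16217 (allL N16217 (tt N16217 F54702) (tt N11751 F54703) (tt N16247 F54800) (tt N11750 (iv D26505)) (tt N16168 F54704) (tt N16247 (iv F54798)) (tt N16247 (iv F54799)))
theorem Q16219 : ∀ i, i < 16219 → P i := stepQ 16218 Q16218 (allL N16218 (tt N11753 F54705) (tt N16168 F54706) (tt N13017 F54707) (tt N16167 F54708) (tt N11751 (iv D26506)) (tt N13016 F54709) (tt N17094 (iv F57510)))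
theorem Q16220 : ∀ i, i < 16220 → P i := stepQ 16219 Q16219 (allL N16219 (tt N13016 F54710) (tt N19899 D30252) (tt N13014 F54711) (tt N18869 (iv F62758)) (tt N11754 F54712) (tt N11753 (iv D26507)) (tt N13013 F54713))
theorem Q16221 : ∀ i, i < 16221 → P i := stepQ 16220 Q16220 (allL N16220 (tt N16230 (iv F54739)) (tt N11754 (iv D26508)) (tt N13511 F54714) (tt N11755 F54715) (tt N19899 (iv F65946)) (tt N11758 F54716) (tt N16231 (iv F54741)))
theorem Q16222 : ∀ i, i < 16222 → P i := stepQ 16221 Q16221 (allL N16221 (tt N19900 D30253) (tt N11757 (iv D26509)) (tt N19901 D30254) (tt N18875 (iv F62771)) (tt N11758 F54717) (tt N19899 (iv F65947)) (tt N19902 D30255))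
theorem Q16223 : ∀ i, i < 16223 → P i := stepQ 16222 Q16222 (allL N16222 (tt N11758 (iv D26510)) (tt N12227 F54718) (tt N18606 (iv F62158)) (tt N11759 F54719) (tt N19900 (iv F65949)) (tt N16230 F54738) (tt N19903 D30256))
theorem Q16224 : ∀ i, i < 16224 → P i := stepQ 16223 Q16223 (allL N16223 (tt N18606 (iv F62157)) (tt N12748 F54720) (tt N11758 (iv D26511)) (tt N13513 F54722) (tt N19901 (iv F65951)) (tt N13511 F54721) (tt N18558 (iv F61991)))
theorem Q16225 : ∀ i, i < 16225 → P i := stepQ 16224 Q16224 (allL N16224 (tt N19903 (iv F65956)) (tt N16213 F54723) (tt N18558 (iv F61992)) (tt N11760 F54724) (tt N19902 (iv F65954)) (tt N11766 F54725) (tt N11758 (iv D26512)))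
theorem Q16226 : ∀ i, i < 16226 → P i := stepQ 16225 Q16225 (allL N16225 (tt N11760 F54726) (tt N17883 (iv F59919)) (tt N12234 F54727) (tt N19903 (iv F65958)) (tt N18879 (iv F62789)) (tt N11768 F54728) (tt N11759 (iv D26513)))
theorem Q16227 : ∀ i, i < 16227 → P i := stepQ 16226 Q16226 (allL N16226 (tt N16240 (iv F54771)) (tt N19904 D30257) (tt N16775 (iv F56582)) (tt N18890 (iv F62813)) (tt N11765 F54729) (tt N16240 (iv F54774)) (tt N11762 (iv D26514)))
theorem Q16228 : ∀ i, i < 16228 → P i := stepQ 16227 Q16227 (allL N16227 (tt N19905 D30258) (tt N11763 (iv D26515)) (tt N19906 D30259) (tt N18891 (iv F62815)) (tt N11766 F54730) (tt N19902 (iv F65955)) (tt N19904 (iv F65961)))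
theorem Q16229 : ∀ i, i < 16229 → P i := stepQ 16228 Q16228 (allL N16228 (tt N16237 (iv F54756)) (tt N12054 F54731) (tt N11778 F54734) (tt N11764 (iv D26516)) (tt N12056 F54732) (tt N16228 F54733) (tt N19907 D30260))
theorem Q16230 : ∀ i, i < 16230 → P i := stepQ 16229 Q16229 (allL N16229 (tt N16239 (iv F54766)) (tt N19530 (iv F64752)) (tt N11765 F54735) (tt N19907 (iv F65972)) (tt N16775 (iv F56584)) (tt N16239 (iv F54770)) (tt N11764 (iv D26517)))
theorem Q16231 : ∀ i, i < 16231 → P i := stepQ 16230 Q16230 (allL N16230 (tt N16220 F54739) (tt N11765 (iv D26518)) (tt N17484 (iv F58663)) (tt N11767 F54736) (tt N19904 (iv F65960)) (tt N16222 (iv F54738)) (tt N11766 F54737))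
theorem Q16232 : ∀ i, i < 16232 → P i := stepQ 16231 Q16231 (allL N16231 (tt N11766 (iv D26519)) (tt N17413 (iv F58378)) (tt N16647 (iv F56141)) (tt N11768 F54740) (tt N19905 (iv F65964)) (tt N19903 (iv F65959)) (tt N16220 F54741))
theorem Q16233 : ∀ i, i < 16233 → P i := stepQ 16232 Q16232 (allL N16232 (tt N16647 (iv F56139)) (tt N16858 F56834) (tt N11766 (iv D26520)) (tt N16646 F56138) (tt N19906 (iv F65967)) (tt N18558 (iv F61990)) (tt N17484 (iv F58664)))
theorem Q16234 : ∀ i, i < 16234 → P i := stepQ 16233 Q16233 (allL N16233 (tt N16593 (iv F55933)) (tt N11768 (iv D26521)) (tt N14097 (iv F54743)) (tt N17413 (iv F58380)) (tt N18894 (iv F62822)) (tt N16592 (iv F55931)) (tt N14055 F54742))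
theorem Q16235 : ∀ i, i < 16235 → P i := stepQ 16234 Q16234 (allL N16234 (tt N11769 F54744) (tt N16524 (iv F55719)) (tt N11768 (iv D26522)) (tt N14908 (iv F54747)) (tt N18895 (iv F62826)) (tt N12234 F54745) (tt N14736 F54746))
theorem Q16236 : ∀ i, i < 16236 → P i := stepQ 16235 Q16235 (allL N16235 (tt N11899 F54748) (tt N11774 (iv D26523)) (tt N11898 (iv F54752)) (tt N11775 F54749) (tt N17455 (iv F58546)) (tt N12069 F54750) (tt N12109 F54751))
theorem Q16237 : ∀ i, i < 16237 → P i := stepQ 16236 Q16236 (allL N16236 (tt N19893 (iv F65916)) (tt N11847 F54753) (tt N19907 (iv F65971)) (tt N11779 F54754) (tt N14999 F54755) (tt N19893 (iv F65921)) (tt N11778 (iv D26524)))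
theorem Q16238 : ∀ i, i < 16238 → P i := stepQ 16237 Q16237 (allL N16237 (tt N16228 F54756) (tt N12604 F54757) (tt N16202 F54758) (tt N11780 (iv D26525)) (tt N16440 (iv F55438)) (tt N16237 F54759) (tt N16446 F55463))
theorem Q16239 : ∀ i, i < 16239 → P i := stepQ 16238 Q16238 (allL N16238 (tt N12654 F54760) (tt N12594 F54761) (tt N11781 F54762) (tt N15801 F54765) (tt N11780 (iv D26526)) (tt N16238 F54763) (tt N15814 (iv F54764)))
theorem Q16240 : ∀ i, i < 16240 → P i := stepQ 16239 Q16239 (allL N16239 (tt N16229 F54766) (tt N15812 F54767) (tt N11782 F54768) (tt N16446 (iv F55461)) (tt N15814 F54769) (tt N16229 F54770) (tt N11780 (iv D26527)))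
theorem Q16241 : ∀ i, i < 16241 → P i := stepQ 16240 Q16240 (allL N16240 (tt N16226 F54771) (tt N19908 D30261) (tt N15814 F54772) (tt N18904 (iv F62860)) (tt N11782 F54773) (tt N16226 F54774) (tt N11781 (iv D26528)))
theorem Q16242 : ∀ i, i < 16242 → P i := stepQ 16241 Q16241 (allL N16241 (tt N13342 F54775) (tt N11782 (iv D26529)) (tt N13341 (iv F54779)) (tt N11783 F54776) (tt N19908 (iv F65977)) (tt N12227 F54777) (tt N11791 F54778))
theorem Q16243 : ∀ i, i < 16243 → P i := stepQ 16242 Q16242 (allL N16242 (tt N16530 (iv F55740)) (tt N11788 F54780) (tt N12249 F54781) (tt N18907 (iv F62867)) (tt N11784 (iv D26530)) (tt N17176 (iv F57726)) (tt N19909 D30262))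
theorem Q16244 : ∀ i, i < 16244 → P i := stepQ 16243 Q16243 (allL N16243 (tt N16531 (iv F55741)) (tt N16254 (iv F54819)) (tt N12250 F54782) (tt N11786 F54783) (tt N19909 (iv F65981)) (tt N11791 F54784) (tt N11784 (iv D26531)))
theorem Q16245 : ∀ i, i < 16245 → P i := stepQ 16244 Q16244 (allL N16244 (tt N19910 D30263) (tt N11790 (iv D26532)) (tt N19911 D30264) (tt N18917 (iv F62890)) (tt N11791 F54785) (tt N19909 (iv F65982)) (tt N19908 (iv F65979)))
theorem Q16246 : ∀ i, i < 16246 → P i := stepQ 16245 Q16245 (allL N16245 (tt N11791 (iv D26533)) (tt N13375 (iv F54789)) (tt N13343 F54788) (tt N11792 F54786) (tt N19910 (iv F65983)) (tt N16531 (iv F55743)) (tt N13342 F54787))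
theorem Q16247 : ∀ i, i < 16247 → P i := stepQ 16246 Q16246 (allL N16246 (tt N13343 F54790) (tt N12005 F54791) (tt N11791 (iv D26534)) (tt N12254 F54792) (tt N19911 (iv F65989)) (tt N12250 F54793) (tt N13341 F54794))
theorem Q16248 : ∀ i, i < 16248 → P i := stepQ 16247 Q16247 (allL N16247 (tt N16247 F54795) (tt N11794 F54796) (tt N16217 (iv F54800)) (tt N11793 (iv D26535)) (tt N16153 F54797) (tt N16217 F54798) (tt N16217 F54799))
theorem Q16249 : ∀ i, i < 16249 → P i := stepQ 16248 Q16248 (allL N16248 (tt N11796 F54801) (tt N16153 F54802) (tt N13088 F54803) (tt N16152 F54804) (tt N11794 (iv D26536)) (tt N17100 (iv F57524)) (tt N13087 F54805))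
theorem Q16250 : ∀ i, i < 16250 → P i := stepQ 16249 Q16249 (allL N16249 (tt N13087 F54806) (tt N19912 D30265) (tt N13085 F54807) (tt N18924 (iv F62911)) (tt N11797 F54808) (tt N13084 (iv F54809)) (tt N11796 (iv D26537)))
theorem Q16251 : ∀ i, i < 16251 → P i := stepQ 16250 Q16250 (allL N16250 (tt N16259 (iv F54832)) (tt N11797 (iv D26538)) (tt N13535 F54810) (tt N11798 F54811) (tt N19912 (iv F65993)) (tt N16260 (iv F54837)) (tt N11801 F54812))
theorem Q16252 : ∀ i, i < 16252 → P i := stepQ 16251 Q16251 (allL N16251 (tt N19913 D30266) (tt N11800 (iv D26539)) (tt N19914 D30267) (tt N18930 (iv F62933)) (tt N11801 F54813) (tt N19915 D30268) (tt N19912 (iv F65994)))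
theorem Q16253 : ∀ i, i < 16253 → P i := stepQ 16252 Q16252 (allL N16252 (tt N11801 (iv D26540)) (tt N12286 F54814) (tt N18610 (iv F62171)) (tt N11802 F54815) (tt N19913 (iv F65996)) (tt N19916 D30269) (tt N16259 (iv F54835)))
theorem Q16254 : ∀ i, i < 16254 → P i := stepQ 16253 Q16253 (allL N16253 (tt N18610 (iv F62170)) (tt N12739 F54816) (tt N11801 (iv D26541)) (tt N13537 F54818) (tt N19914 (iv F65998)) (tt N18572 (iv F62037)) (tt N13535 F54817))
theorem Q16255 : ∀ i, i < 16255 → P i := stepQ 16254 Q16254 (allL N16254 (tt N19916 (iv F66003)) (tt N16243 F54819) (tt N18572 (iv F62039)) (tt N11803 F54820) (tt N19915 (iv F66001)) (tt N11801 (iv D26542)) (tt N11809 (iv F54821)))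
theorem Q16256 : ∀ i, i < 16256 → P i := stepQ 16255 Q16255 (allL N16255 (tt N11803 F54822) (tt N17889 (iv F59944)) (tt N12292 F54823) (tt N19916 (iv F66005)) (tt N18934 (iv F62949)) (tt N11802 (iv D26543)) (tt N11811 F54824))
theorem Q16257 : ∀ i, i < 16257 → P i := stepQ 16256 Q16256 (allL N16256 (tt N16210 F54825) (tt N19917 D30270) (tt N16770 (iv F56558)) (tt N18945 (iv F62979)) (tt N11808 F54826) (tt N11805 (iv D26544)) (tt N16210 F54827))
theorem Q16258 : ∀ i, i < 16258 → P i := stepQ 16257 Q16257 (allL N16257 (tt N19918 D30271) (tt N11806 (iv D26545)) (tt N19919 D30272) (tt N18946 (iv F62982)) (tt N11809 F54828) (tt N19917 (iv F66009)) (tt N19915 F66002))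
theorem Q16259 : ∀ i, i < 16259 → P i := stepQ 16258 Q16258 (allL N16258 (tt N16209 F54829) (tt N19302 (iv F63964)) (tt N11808 F54830) (tt N19894 (iv F65925)) (tt N16770 (iv F56560)) (tt N11807 (iv D26546)) (tt N16209 F54831))
theorem Q16260 : ∀ i, i < 16260 → P i := stepQ 16259 Q16259 (allL N16259 (tt N16250 F54832) (tt N11808 (iv D26547)) (tt N17493 (iv F58698)) (tt N11810 F54833) (tt N19917 (iv F66008)) (tt N11809 F54834) (tt N16252 F54835))
theorem Q16261 : ∀ i, i < 16261 → P i := stepQ 16260 Q16260 (allL N16260 (tt N11809 (iv D26548)) (tt N17409 (iv F58362)) (tt N16665 (iv F56210)) (tt N11811 F54836) (tt N19918 (iv F66011)) (tt N16250 F54837) (tt N19916 (iv F66006)))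
theorem Q16262 : ∀ i, i < 16262 → P i := stepQ 16261 Q16261 (allL N16261 (tt N16665 (iv F56208)) (tt N16867 F56869) (tt N11809 (iv D26549)) (tt N16664 F56206) (tt N19919 (iv F66014)) (tt N17493 (iv F58699)) (tt N18572 (iv F62038)))
theorem Q16263 : ∀ i, i < 16263 → P i := stepQ 16262 Q16262 (allL N16262 (tt N16558 (iv F55824)) (tt N11811 (iv D26550)) (tt N14041 (iv F54839)) (tt N17409 (iv F58364)) (tt N18948 (iv F62986)) (tt N14040 F54838) (tt N16557 (iv F55823)))
theorem Q16264 : ∀ i, i < 16264 → P i := stepQ 16263 Q16263 (allL N16263 (tt N11812 F54840) (tt N16417 (iv F55352)) (tt N11811 (iv D26551)) (tt N14956 (iv F54843)) (tt N18949 (iv F62990)) (tt N14717 F54841) (tt N12292 F54842))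
theorem Q16265 : ∀ i, i < 16265 → P i := stepQ 16264 Q16264 (allL N16264 (tt N14695 F54844) (tt N14705 F54845) (tt N12855 F54846) (tt N18619 (iv F62200)) (tt N11813 (iv D26552)) (tt N12854 F54847) (tt N16452 (iv F55490)))
theorem Q16266 : ∀ i, i < 16266 → P i := stepQ 16265 Q16265 (allL N16265 (tt N11815 F54848) (tt N14044 F54849) (tt N11814 (iv D26553)) (tt N14099 (iv F54852)) (tt N19228 (iv F63705)) (tt N12174 F54850) (tt N11826 F54851))
theorem Q16267 : ∀ i, i < 16267 → P i := stepQ 16266 Q16266 (allL N16266 (tt N14099 F54858) (tt N11860 F54859) (tt N13938 F54860) (tt N11815 (iv D26554)) (tt N19381 (iv F64221)) (tt N11966 F54861) (tt N11828 F54862))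
theorem Q16268 : ∀ i, i < 16268 → P i := stepQ 16267 Q16267 (allL N16267 (tt N11817 (iv D26555)) (tt N19920 D30273) (tt N18173 F60788) (tt N19230 (iv F63711)) (tt N11818 F54863) (tt N19921 D30274) (tt N17191 (iv F57762)))
theorem Q16269 : ∀ i, i < 16269 → P i := stepQ 16268 Q16268 (allL N16268 (tt N18173 F60787) (tt N16268 F54864) (tt N11817 (iv D26556)) (tt N13630 (iv F54867)) (tt N11819 F54865) (tt N19922 D30275) (tt N13635 F54866))
theorem Q16270 : ∀ i, i < 16270 → P i := stepQ 16269 Q16269 (allL N16269 (tt N19921 (iv F66019)) (tt N16331 (iv F55093)) (tt N19922 (iv F66023)) (tt N19231 (iv F63713)) (tt N11820 F54868) (tt N11817 (iv D26557)) (tt N19923 D30276))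
theorem Q16271 : ∀ i, i < 16271 → P i := stepQ 16270 Q16270 (allL N16270 (tt N14795 F54869) (tt N11818 (iv D26558)) (tt N16870 (iv F56880)) (tt N11825 F54870) (tt N19920 (iv F66017)) (tt N16870 (iv F56882)) (tt N14056 F54871))
theorem Q16272 : ∀ i, i < 16272 → P i := stepQ 16271 Q16271 (allL N16271 (tt N11819 F54872) (tt N16603 (iv F55975)) (tt N11818 (iv D26559)) (tt N12450 F54874) (tt N18173 (iv F60785)) (tt N19924 D30277) (tt N12448 F54873))
theorem Q16273 : ∀ i, i < 16273 → P i := stepQ 16272 Q16272 (allL N16272 (tt N11820 F54875) (tt N16321 (iv F55058)) (tt N19924 (iv F66032)) (tt N11827 F54876) (tt N19921 (iv F66020)) (tt N11818 (iv D26560)) (tt N13395 F54877))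
theorem Q16274 : ∀ i, i < 16274 → P i := stepQ 16273 Q16273 (allL N16273 (tt N12450 F54878) (tt N16273 F54879) (tt N13521 F54880) (tt N11819 (iv D26561)) (tt N13684 F54881) (tt N13673 (iv F54883)) (tt N12447 F54882))
theorem Q16275 : ∀ i, i < 16275 → P i := stepQ 16274 Q16274 (allL N16274 (tt N19924 (iv F66030)) (tt N19925 D30278) (tt N11820 F54884) (tt N13673 F54885) (tt N19922 (iv F66025)) (tt N11819 (iv D26562)) (tt N16653 (iv F56161)))
theorem Q16276 : ∀ i, i < 16276 → P i := stepQ 16275 Q16275 (allL N16275 (tt N13395 F54886) (tt N13324 F54887) (tt N16653 (iv F56159)) (tt N11830 F54888) (tt N19923 (iv F66028)) (tt N13393 F54889) (tt N11820 (iv D26563)))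
theorem Q16277 : ∀ i, i < 16277 → P i := stepQ 16276 Q16276 (allL N16276 (tt N12020 F54890) (tt N16276 F54891) (tt N11821 (iv D26564)) (tt N16431 (iv F55402)) (tt N17339 (iv F58105)) (tt N16330 (iv F55091)) (tt N17465 (iv F58589)))
theorem Q16278 : ∀ i, i < 16278 → P i := stepQ 16277 Q16277 (allL N16277 (tt N16336 (iv F55103)) (tt N12809 F54894) (tt N17465 (iv F58586)) (tt N11832 F54895) (tt N15113 F54896) (tt N11937 F54897) (tt N11821 (iv D26565)))
theorem Q16279 : ∀ i, i < 16279 → P i := stepQ 16278 Q16278 (allL N16278 (tt N17529 (iv F58830)) (tt N11835 F54898) (tt N13733 F54899) (tt N19242 (iv F63750)) (tt N11828 (iv D26566)) (tt N17527 (iv F58827)) (tt N19381 (iv F64223)))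
theorem Q16280 : ∀ i, i < 16280 → P i := stepQ 16279 Q16279 (allL N16279 (tt N11867 F54900) (tt N11829 (iv D26567)) (tt N14144 F54901) (tt N17907 (iv F60012)) (tt N19243 (iv F63754)) (tt N11837 F54902) (tt N14060 F54903))
theorem Q16281 : ∀ i, i < 16281 → P i := stepQ 16280 Q16280 (allL N16280 (tt N11835 F54904) (tt N15838 F54905) (tt N14330 F54906) (tt N19247 (iv F63766)) (tt N11833 (iv D26568)) (tt N14327 F54907) (tt N11874 F54908))
theorem Q16282 : ∀ i, i < 16282 → P i := stepQ 16281 Q16281 (allL N16281 (tt N14330 F54909) (tt N13734 F54910) (tt N11835 F54911) (tt N17862 (iv F59846)) (tt N11834 (iv D26569)) (tt N14329 F54912) (tt N11879 F54913))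
theorem Q16283 : ∀ i, i < 16283 → P i := stepQ 16282 Q16282 (allL N16282 (tt N14327 F54914) (tt N19926 D30279) (tt N14329 F54915) (tt N19252 (iv F63786)) (tt N11836 F54916) (tt N11835 (iv D26570)) (tt N16303 (iv F54998)))
theorem Q16284 : ∀ i, i < 16284 → P i := stepQ 16283 Q16283 (allL N16283 (tt N13965 (iv F54921)) (tt N11836 (iv D26571)) (tt N13967 F54922) (tt N11837 F54917) (tt N19926 (iv F66040)) (tt N17907 (iv F60013)) (tt N17924 (iv F60079)))
theorem Q16285 : ∀ i, i < 16285 → P i := stepQ 16284 Q16284 (allL N16284 (tt N11837 (iv D26572)) (tt N13942 (iv F54919)) (tt N16439 (iv F55431)) (tt N13965 F54920) (tt N19254 (iv F63791)) (tt N11867 F54918) (tt N16450 (iv F55483)))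
theorem Q16286 : ∀ i, i < 16286 → P i := stepQ 16285 Q16285 (allL N16285 (tt N12089 F54923) (tt N15876 F54924) (tt N18176 (iv F60794)) (tt N19256 (iv F63798)) (tt N11838 (iv D26573)) (tt N16437 (iv F55426)) (tt N12085 F54925))
theorem Q16287 : ∀ i, i < 16287 → P i := stepQ 16286 Q16286 (allL N16286 (tt N11843 (iv D26574)) (tt N12214 (iv F54930)) (tt N15003 F54926) (tt N11844 F54927) (tt N16207 F54928) (tt N11863 F54931) (tt N16286 F54929))
theorem Q16288 : ∀ i, i < 16288 → P i := stepQ 16287 Q16287 (allL N16287 (tt N11863 F54932) (tt N11898 F54933) (tt N15013 F54934) (tt N11846 F54935) (tt N19894 (iv F65926)) (tt N11843 (iv D26575)) (tt N11863 F54936))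
theorem Q16289 : ∀ i, i < 16289 → P i := stepQ 16288 Q16288 (allL N16288 (tt N11845 F54937) (tt N13709 F54938) (tt N11844 (iv D26576)) (tt N14078 F54941) (tt N19257 (iv F63802)) (tt N11866 F54939) (tt N16288 F54940))
theorem Q16290 : ∀ i, i < 16290 → P i := stepQ 16289 Q16289 (allL N16289 (tt N11866 F54943) (tt N14116 F54944) (tt N11846 F54945) (tt N14080 F54946) (tt N19259 (iv F63813)) (tt N11845 (iv D26577)) (tt N11866 F54947))
theorem Q16291 : ∀ i, i < 16291 → P i := stepQ 16290 Q16290 (allL N16290 (tt N16314 (iv F55030)) (tt N11852 (iv D26578)) (tt N16445 (iv F55459)) (tt N17435 (iv F58472)) (tt N11855 F54948) (tt N16312 F55028) (tt N17430 (iv F58454)))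
theorem Q16292 : ∀ i, i < 16292 → P i := stepQ 16291 Q16291 (allL N16291 (tt N11853 (iv D26579)) (tt N19927 D30280) (tt N16447 (iv F55466)) (tt N19260 (iv F63817)) (tt N11856 F54949) (tt N16295 (iv F54967)) (tt N11861 F54950))
theorem Q16293 : ∀ i, i < 16293 → P i := stepQ 16292 Q16292 (allL N16292 (tt N11901 F54951) (tt N11856 (iv D26580)) (tt N12109 F54952) (tt N11858 F54953) (tt N19927 (iv F66045)) (tt N12108 F54954) (tt N11898 F54955))
theorem Q16294 : ∀ i, i < 16294 → P i := stepQ 16293 Q16293 (allL N16293 (tt N19894 (iv F65922)) (tt N11861 (iv D26581)) (tt N19892 (iv F65912)) (tt N16209 F54956) (tt N11863 F54957) (tt N16207 (iv F54958)) (tt N19894 (iv F65927)))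
theorem Q16295 : ∀ i, i < 16295 → P i := stepQ 16294 Q16294 (allL N16294 (tt N11862 F54959) (tt N12607 F54960) (tt N16444 (iv F55456)) (tt N12608 F54961) (tt N11864 F54962) (tt N11861 (iv D26582)) (tt N16194 F54963))
theorem Q16296 : ∀ i, i < 16296 → P i := stepQ 16295 Q16295 (allL N16295 (tt N16194 F54964) (tt N11895 (iv F54968)) (tt N16199 F54965) (tt N17446 (iv F58522)) (tt N11865 F54966) (tt N16291 F54967) (tt N11862 (iv D26583)))
theorem Q16297 : ∀ i, i < 16297 → P i := stepQ 16296 Q16296 (allL N16296 (tt N15013 F54969) (tt N16449 (iv F55476)) (tt N11863 (iv D26584)) (tt N15005 (iv F54972)) (tt N19892 (iv F65914)) (tt N15003 F54970) (tt N15013 F54971))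
theorem Q16298 : ∀ i, i < 16298 → P i := stepQ 16297 Q16297 (allL N16297 (tt N14144 F54973) (tt N11866 (iv D26585)) (tt N11867 F54974) (tt N17831 (iv F59732)) (tt N19271 (iv F63851)) (tt N16439 (iv F55433)) (tt N14113 F54975))
theorem Q16299 : ∀ i, i < 16299 → P i := stepQ 16298 Q16298 (allL N16298 (tt N14080 F54976) (tt N17831 (iv F59730)) (tt N18609 (iv F62167)) (tt N11866 (iv D26586)) (tt N19928 D30281) (tt N14078 F54977) (tt N14080 F54978))
theorem Q16300 : ∀ i, i < 16300 → P i := stepQ 16299 Q16299 (allL N16299 (tt N17907 (iv F60010)) (tt N11868 F54979) (tt N12086 (iv F54982)) (tt N11867 (iv D26587)) (tt N19763 (iv F65514)) (tt N13965 F54980) (tt N14133 F54981))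
theorem Q16301 : ∀ i, i < 16301 → P i := stepQ 16300 Q16300 (allL N16300 (tt N13716 F54983) (tt N11869 (iv D26588)) (tt N13710 F54984) (tt N13966 F54985) (tt N19277 (iv F63871)) (tt N13942 F54986) (tt N12169 F54987))
theorem Q16302 : ∀ i, i < 16302 → P i := stepQ 16301 Q16301 (allL N16301 (tt N17884 (iv F59923)) (tt N11870 (iv D26589)) (tt N11877 F54988) (tt N12080 F54989) (tt N19669 (iv F65234)) (tt N14136 F54990) (tt N13943 F54991))
theorem Q16303 : ∀ i, i < 16303 → P i := stepQ 16302 Q16302 (allL N16302 (tt N18527 (iv F61870)) (tt N16189 F54992) (tt N12956 F54993) (tt N19282 (iv F63894)) (tt N11872 (iv D26590)) (tt N16421 (iv F55370)) (tt N15611 F54994))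
theorem Q16304 : ∀ i, i < 16304 → P i := stepQ 16303 Q16303 (allL N16303 (tt N11880 F54995) (tt N15641 F54996) (tt N18124 (iv F60638)) (tt N19286 (iv F63905)) (tt N11875 F54997) (tt N11874 (iv D26591)) (tt N16282 F54998))
theorem Q16305 : ∀ i, i < 16305 → P i := stepQ 16304 Q16304 (allL N16304 (tt N11877 (iv D26592)) (tt N14081 F54999) (tt N17884 (iv F59924)) (tt N14974 F55000) (tt N19929 D30282) (tt N17835 (iv F59748)) (tt N13946 F55001))
theorem Q16306 : ∀ i, i < 16306 → P i := stepQ 16305 Q16305 (allL N16305 (tt N19929 (iv F66051)) (tt N11879 F55002) (tt N19669 (iv F65233)) (tt N19930 D30283) (tt N11877 (iv D26593)) (tt N19931 D30284) (tt N13740 F55003))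
theorem Q16307 : ∀ i, i < 16307 → P i := stepQ 16306 Q16306 (allL N16306 (tt N17835 (iv F59747)) (tt N14830 F55004) (tt N14136 F55005) (tt N14184 F55006) (tt N19931 (iv F66064)) (tt N11877 (iv D26594)) (tt N14182 F55007))
theorem Q16308 : ∀ i, i < 16308 → P i := stepQ 16307 Q16307 (allL N16307 (tt N14972 F55008) (tt N19930 (iv F66056)) (tt N13110 (iv F55011)) (tt N11879 (iv D26595)) (tt N13396 F55009) (tt N13991 F55010) (tt N17862 (iv F59848)))
theorem Q16309 : ∀ i, i < 16309 → P i := stepQ 16308 Q16308 (allL N16308 (tt N12499 F55012) (tt N14741 F55013) (tt N11884 (iv D26596)) (tt N16004 (iv F55016)) (tt N11885 F55014) (tt N12464 (iv F55017)) (tt N16308 F55015))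
theorem Q16310 : ∀ i, i < 16310 → P i := stepQ 16309 Q16309 (allL N16309 (tt N12500 F55018) (tt N16458 (iv F55511)) (tt N12464 F55019) (tt N17509 (iv F58762)) (tt N11886 F55020) (tt N11884 (iv D26597)) (tt N12500 F55021))
theorem Q16311 : ∀ i, i < 16311 → P i := stepQ 16310 Q16310 (allL N16310 (tt N16460 (iv F55519)) (tt N16314 (iv F55031)) (tt N11888 F55022) (tt N19665 (iv F65222)) (tt N11891 F55023) (tt N11887 (iv D26598)) (tt N16460 (iv F55523)))
theorem Q16312 : ∀ i, i < 16312 → P i := stepQ 16311 Q16311 (allL N16311 (tt N16459 (iv F55515)) (tt N11896 F55024) (tt N11889 (iv D26599)) (tt N17460 (iv F58569)) (tt N11892 F55025) (tt N16459 (iv F55518)) (tt N13606 F55026))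
theorem Q16313 : ∀ i, i < 16313 → P i := stepQ 16312 Q16312 (allL N16312 (tt N11893 (iv D26600)) (tt N19894 (iv F65923)) (tt N17455 F58549) (tt N19302 (iv F63966)) (tt N11898 F55027) (tt N16290 (iv F55028)) (tt N19927 (iv F66047)))
theorem Q16314 : ∀ i, i < 16314 → P i := stepQ 16313 Q16313 (allL N16313 (tt N17455 (iv F58544)) (tt N16317 (iv F55041)) (tt N11893 (iv D26601)) (tt N17456 (iv F58550)) (tt N11899 F55029) (tt N16464 F55536) (tt N19932 D30285))
theorem Q16315 : ∀ i, i < 16315 → P i := stepQ 16314 Q16314 (allL N16314 (tt N16290 F55030) (tt N16310 F55031) (tt N16464 (iv F55534)) (tt N19303 (iv F63972)) (tt N11900 F55032) (tt N11893 (iv D26602)) (tt N16462 F55528))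
theorem Q16316 : ∀ i, i < 16316 → P i := stepQ 16315 Q16315 (allL N16315 (tt N19927 (iv F66042)) (tt N12213 F55033) (tt N19932 (iv F66068)) (tt N12609 F55034) (tt N11901 F55035) (tt N17430 (iv F58453)) (tt N11893 (iv D26603)))
theorem Q16317 : ∀ i, i < 16317 → P i := stepQ 16316 Q16316 (allL N16316 (tt N11894 (iv D26604)) (tt N16462 (iv F55526)) (tt N12103 F55039) (tt N19304 (iv F63977)) (tt N11902 F55036) (tt N11895 F55037) (tt N12105 F55038))
theorem Q16318 : ∀ i, i < 16318 → P i := stepQ 16317 Q16317 (allL N16317 (tt N12103 F55040) (tt N16313 F55041) (tt N11894 (iv D26605)) (tt N19532 (iv F64765)) (tt N11903 F55042) (tt N11896 F55043) (tt N12104 F55044))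
theorem Q16319 : ∀ i, i < 16319 → P i := stepQ 16318 Q16318 (allL N16318 (tt N11897 F55045) (tt N16195 F55046) (tt N16465 (iv F55539)) (tt N12294 F55047) (tt N11904 F55048) (tt N16196 F55049) (tt N11895 (iv D26606)))
theorem Q16320 : ∀ i, i < 16320 → P i := stepQ 16319 Q16319 (allL N16319 (tt N16537 (iv F55762)) (tt N17460 (iv F58568)) (tt N16362 (iv F55178)) (tt N11896 (iv D26607)) (tt N15860 F55050) (tt N19532 (iv F64767)) (tt N13439 F55051))
theorem Q16321 : ∀ i, i < 16321 → P i := stepQ 16320 Q16320 (allL N16320 (tt N12109 F55052) (tt N12068 F55053) (tt N11901 F55054) (tt N12070 F55055) (tt N19932 (iv F66070)) (tt N12107 F55056) (tt N11899 (iv D26608)))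
theorem Q16322 : ∀ i, i < 16322 → P i := stepQ 16321 Q16321 (allL N16321 (tt N11908 F55057) (tt N16272 F55058) (tt N12751 F55059) (tt N11907 (iv D26609)) (tt N18178 (iv F60808)) (tt N16855 (iv F56824)) (tt N12188 F55060))
theorem Q16323 : ∀ i, i < 16323 → P i := stepQ 16322 Q16322 (allL N16322 (tt N11909 F55061) (tt N14796 F55062) (tt N12187 F55063) (tt N16855 (iv F56823)) (tt N18477 (iv F61693)) (tt N11907 (iv D26610)) (tt N12779 F55064))
theorem Q16324 : ∀ i, i < 16324 → P i := stepQ 16323 Q16323 (allL N16323 (tt N16855 (iv F56821)) (tt N16529 (iv F55737)) (tt N16848 (iv F56791)) (tt N11909 F55065) (tt N18181 (iv F60821)) (tt N11908 (iv D26611)) (tt N14751 F55066))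
theorem Q16325 : ∀ i, i < 16325 → P i := stepQ 16324 Q16324 (allL N16324 (tt N11911 (iv D26612)) (tt N14033 F55067) (tt N11940 F55068) (tt N11913 F55069) (tt N19933 D30286) (tt N11949 F55070) (tt N16353 (iv F55148)))
theorem Q16326 : ∀ i, i < 16326 → P i := stepQ 16325 Q16325 (allL N16325 (tt N19933 (iv F66072)) (tt N11912 F55071) (tt N11941 F55072) (tt N18491 (iv F61733)) (tt N11911 (iv D26613)) (tt N11948 F55073) (tt N17933 (iv F60112)))
theorem Q16327 : ∀ i, i < 16327 → P i := stepQ 16326 Q16326 (allL N16326 (tt N11927 F55074) (tt N17925 (iv F60081)) (tt N12143 F55077) (tt N11926 (iv D26614)) (tt N19554 (iv F64849)) (tt N12134 F55075) (tt N14135 F55076))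
theorem Q16328 : ∀ i, i < 16328 → P i := stepQ 16327 Q16327 (allL N16327 (tt N19554 (iv F64847)) (tt N11930 F55078) (tt N15791 F55079) (tt N19324 (iv F64054)) (tt N11927 (iv D26615)) (tt N15592 F55080) (tt N15875 F55081))
theorem Q16329 : ∀ i, i < 16329 → P i := stepQ 16328 Q16328 (allL N16328 (tt N12132 F55082) (tt N17924 (iv F60076)) (tt N11938 F55083) (tt N12131 F55084) (tt N19327 (iv F64063)) (tt N14145 F55085) (tt N11928 (iv D26616)))
theorem Q16330 : ∀ i, i < 16330 → P i := stepQ 16329 Q16329 (allL N16329 (tt N16329 F55086) (tt N11929 (iv D26617)) (tt N11972 F55087) (tt N16471 (iv F55560)) (tt N19328 (iv F64067)) (tt N11972 F55088) (tt N11931 F55089))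
theorem Q16331 : ∀ i, i < 16331 → P i := stepQ 16330 Q16330 (allL N16330 (tt N11934 F55090) (tt N17473 (iv F58623)) (tt N11932 (iv D26618)) (tt N17440 (iv F58491)) (tt N19934 D30287) (tt N16276 F55091) (tt N17407 (iv F58356)))
theorem Q16332 : ∀ i, i < 16332 → P i := stepQ 16331 Q16331 (allL N16331 (tt N11935 F55092) (tt N16269 F55093) (tt N19934 (iv F66078)) (tt N19334 (iv F64092)) (tt N11932 (iv D26619)) (tt N13218 F55094) (tt N17077 F57460))
theorem Q16333 : ∀ i, i < 16333 → P i := stepQ 16332 Q16332 (allL N16332 (tt N19934 (iv F66077)) (tt N17439 (iv F58485)) (tt N11935 F55095) (tt N19935 D30288) (tt N11934 (iv D26620)) (tt N16412 F55336) (tt N19936 D30289))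
theorem Q16334 : ∀ i, i < 16334 → P i := stepQ 16333 Q16333 (allL N16333 (tt N17407 (iv F58353)) (tt N12304 F55096) (tt N11937 F55097) (tt N17425 (iv F58428)) (tt N19936 (iv F66085)) (tt N17465 (iv F58588)) (tt N11934 (iv D26621)))
theorem Q16335 : ∀ i, i < 16335 → P i := stepQ 16334 Q16334 (allL N16334 (tt N13218 F55098) (tt N16414 (iv F55340)) (tt N16412 F55335) (tt N19338 (iv F64109)) (tt N11936 F55099) (tt N11935 (iv D26622)) (tt N18702 (iv F62385)))
theorem Q16336 : ∀ i, i < 16336 → P i := stepQ 16335 Q16335 (allL N16335 (tt N17077 (iv F57458)) (tt N11987 F55100) (tt N19936 (iv F66084)) (tt N19339 (iv F64113)) (tt N11937 F55101) (tt N15113 F55102) (tt N11935 (iv D26623)))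
theorem Q16337 : ∀ i, i < 16337 → P i := stepQ 16336 Q16336 (allL N16336 (tt N16277 F55103) (tt N13462 F55104) (tt N13460 F55105) (tt N11938 F55106) (tt N18702 (iv F62383)) (tt N13322 F55107) (tt N11936 (iv D26624)))
theorem Q16338 : ∀ i, i < 16338 → P i := stepQ 16337 Q16337 (allL N16337 (tt N11945 F55108) (tt N17214 (iv F57820)) (tt N19428 (iv F64421)) (tt N11939 (iv D26625)) (tt N12201 F55109) (tt N16411 (iv F55333)) (tt N11996 F55110))
theorem Q16339 : ∀ i, i < 16339 → P i := stepQ 16338 Q16338 (allL N16338 (tt N11941 F55111) (tt N17443 (iv F58505)) (tt N19933 (iv F66074)) (tt N19937 D30290) (tt N11940 (iv D26626)) (tt N17322 F58074) (tt N19938 D30291))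
theorem Q16340 : ∀ i, i < 16340 → P i := stepQ 16339 Q16339 (allL N16339 (tt N11943 F55112) (tt N14898 F55113) (tt N16353 (iv F55146)) (tt N14881 F55114) (tt N19938 (iv F66093)) (tt N12402 F55115) (tt N11940 (iv D26627)))
theorem Q16341 : ∀ i, i < 16341 → P i := stepQ 16340 Q16340 (allL N16340 (tt N19937 (iv F66087)) (tt N11945 F55116) (tt N19939 D30292) (tt N11941 (iv D26628)) (tt N16794 (iv F56638)) (tt N19940 D30293) (tt N19941 D30294))
theorem Q16342 : ∀ i, i < 16342 → P i := stepQ 16341 Q16341 (allL N16341 (tt N17322 F58073) (tt N19942 D30295) (tt N11948 F55117) (tt N19940 (iv F66100)) (tt N11942 F55118) (tt N11941 (iv D26629)) (tt N16627 (iv F56058)))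
theorem Q16343 : ∀ i, i < 16343 → P i := stepQ 16342 Q16342 (allL N16342 (tt N19938 (iv F66091)) (tt N12012 F55119) (tt N17933 (iv F60110)) (tt N19941 (iv F66103)) (tt N11943 F55120) (tt N19943 D30296) (tt N11941 (iv D26630)))
theorem Q16344 : ∀ i, i < 16344 → P i := stepQ 16343 Q16343 (allL N16343 (tt N16343 F55121) (tt N11942 (iv D26631)) (tt N11947 F55122) (tt N16489 (iv F55607)) (tt N19942 (iv F66106)) (tt N11947 F55123) (tt N16620 (iv F56028)))
theorem Q16345 : ∀ i, i < 16345 → P i := stepQ 16344 Q16344 (allL N16344 (tt N12402 F55124) (tt N13481 (iv F55127)) (tt N16352 (iv F55141)) (tt N14892 F55125) (tt N19943 (iv F66109)) (tt N11943 (iv D26632)) (tt N13484 F55126))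
theorem Q16346 : ∀ i, i < 16346 → P i := stepQ 16345 Q16345 (allL N16345 (tt N12201 F55128) (tt N16794 (iv F56637)) (tt N19426 (iv F64414)) (tt N11944 (iv D26633)) (tt N11945 F55129) (tt N16487 (iv F55602)) (tt N12015 F55130))
theorem Q16347 : ∀ i, i < 16347 → P i := stepQ 16346 Q16346 (allL N16346 (tt N19428 (iv F64419)) (tt N19128 (iv F63434)) (tt N11945 (iv D26634)) (tt N19127 F63432) (tt N19426 F64416) (tt N19944 D30297) (tt N12017 F55131))
theorem Q16348 : ∀ i, i < 16348 → P i := stepQ 16347 Q16347 (allL N16347 (tt N16411 (iv F55331)) (tt N19945 D30298) (tt N19944 (iv F66114)) (tt N11946 F55132) (tt N16487 (iv F55601)) (tt N11945 (iv D26635)) (tt N16383 (iv F55245)))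
theorem Q16349 : ∀ i, i < 16349 → P i := stepQ 16348 Q16348 (allL N16348 (tt N16348 F55134) (tt N11946 (iv D26636)) (tt N19942 (iv F66105)) (tt N19945 (iv F66117)) (tt N11947 F55133) (tt N19942 (iv F66107)) (tt N19946 D30299))
theorem Q16350 : ∀ i, i < 16350 → P i := stepQ 16349 Q16349 (allL N16349 (tt N16349 F55135) (tt N12802 F55136) (tt N16620 (iv F56025)) (tt N16485 (iv F55597)) (tt N19946 (iv F66121)) (tt N16620 (iv F56027)) (tt N11947 (iv D26637)))
theorem Q16351 : ∀ i, i < 16351 → P i := stepQ 16350 Q16350 (allL N16350 (tt N11948 (iv D26638)) (tt N17036 (iv F57359)) (tt N17322 (iv F58071)) (tt N19361 (iv F64153)) (tt N11949 F55137) (tt N19933 (iv F66076)) (tt N19947 D30300))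
theorem Q16352 : ∀ i, i < 16352 → P i := stepQ 16351 Q16351 (allL N16351 (tt N19947 (iv F66122)) (tt N12713 F55138) (tt N16627 (iv F56057)) (tt N19363 (iv F64161)) (tt N11950 F55139) (tt N19948 D30301) (tt N11948 (iv D26639)))
theorem Q16353 : ∀ i, i < 16353 → P i := stepQ 16352 Q16352 (allL N16352 (tt N11950 F55140) (tt N16389 (iv F55268)) (tt N16344 F55141) (tt N11953 F55142) (tt N19947 (iv F66124)) (tt N14157 F55143) (tt N11949 (iv D26640)))
theorem Q16354 : ∀ i, i < 16354 → P i := stepQ 16353 Q16353 (allL N16353 (tt N14157 F55144) (tt N12478 F55145) (tt N16339 F55146) (tt N11956 F55147) (tt N19948 (iv F66129)) (tt N11950 (iv D26641)) (tt N16324 F55148))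
theorem Q16355 : ∀ i, i < 16355 → P i := stepQ 16354 Q16354 (allL N16354 (tt N12029 F55149) (tt N17837 (iv F59754)) (tt N11956 F55150) (tt N14882 F55151) (tt N19370 (iv F64180)) (tt N11955 (iv D26642)) (tt N13941 F55152))
theorem Q16356 : ∀ i, i < 16356 → P i := stepQ 16355 Q16355 (allL N16355 (tt N16355 F55153) (tt N14779 F55154) (tt N14719 F55155) (tt N18585 (iv F62077)) (tt N19373 (iv F64195)) (tt N11960 (iv D26643)) (tt N14719 F55156))
theorem Q16357 : ∀ i, i < 16357 → P i := stepQ 16356 Q16356 (allL N16356 (tt N18529 (iv F61876)) (tt N11963 (iv D26644)) (tt N13978 F55157) (tt N18586 (iv F62084)) (tt N19377 (iv F64209)) (tt N11964 F55158) (tt N17832 (iv F59735)))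
theorem Q16358 : ∀ i, i < 16358 → P i := stepQ 16357 Q16357 (allL N16357 (tt N11964 (iv D26645)) (tt N17518 F58797) (tt N16497 (iv F55631)) (tt N17855 (iv F59825)) (tt N19378 (iv F64211)) (tt N18529 (iv F61880)) (tt N17839 (iv F59765)))
theorem Q16359 : ∀ i, i < 16359 → P i := stepQ 16358 Q16358 (allL N16358 (tt N13712 F55159) (tt N12081 F55160) (tt N13711 F55161) (tt N13945 F55162) (tt N19384 (iv F64235)) (tt N11967 (iv D26646)) (tt N13944 F55163))
theorem Q16360 : ∀ i, i < 16360 → P i := stepQ 16359 Q16359 (allL N16359 (tt N14044 F55164) (tt N12072 F55165) (tt N13962 F55166) (tt N11976 F55167) (tt N19596 (iv F64987)) (tt N12040 F55168) (tt N11973 (iv D26647)))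
theorem Q16361 : ∀ i, i < 16361 → P i := stepQ 16360 Q16360 (allL N16360 (tt N11976 F55169) (tt N14099 F55170) (tt N12031 F55171) (tt N14044 F55172) (tt N19391 (iv F64265)) (tt N12038 F55173) (tt N11974 (iv D26648)))
theorem Q16362 : ∀ i, i < 16362 → P i := stepQ 16361 Q16361 (allL N16361 (tt N16368 (iv F55194)) (tt N17268 (iv F57939)) (tt N16363 (iv F55181)) (tt N19394 (iv F64274)) (tt N11977 (iv D26649)) (tt N12000 F55174) (tt N13163 F55175))
theorem Q16363 : ∀ i, i < 16363 → P i := stepQ 16362 Q16362 (allL N16362 (tt N12238 F55176) (tt N12733 F55177) (tt N16319 F55178) (tt N11979 F55179) (tt N19541 (iv F64804)) (tt N16539 (iv F55775)) (tt N11978 (iv D26650)))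
theorem Q16364 : ∀ i, i < 16364 → P i := stepQ 16363 Q16363 (allL N16363 (tt N11987 F55180) (tt N12895 (iv F55183)) (tt N16361 F55181) (tt N19398 (iv F64289)) (tt N11981 F55182) (tt N16369 (iv F55201)) (tt N11980 (iv D26651)))
theorem Q16365 : ∀ i, i < 16365 → P i := stepQ 16364 Q16364 (allL N16364 (tt N11983 (iv D26652)) (tt N16492 (iv F55612)) (tt N11992 F55184) (tt N12388 F55185) (tt N19949 D30302) (tt N13362 F55187) (tt N14723 F55186))
theorem Q16366 : ∀ i, i < 16366 → P i := stepQ 16365 Q16365 (allL N16365 (tt N19949 (iv F66131)) (tt N11984 F55188) (tt N11993 F55189) (tt N19950 D30303) (tt N11983 (iv D26653)) (tt N19951 D30304) (tt N16591 (iv F55927)))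
theorem Q16367 : ∀ i, i < 16367 → P i := stepQ 16366 Q16366 (allL N16366 (tt N13362 F55190) (tt N13372 F55191) (tt N11994 F55192) (tt N14780 F55193) (tt N19951 (iv F66141)) (tt N11983 (iv D26654)) (tt N17428 (iv F58445)))
theorem Q16368 : ∀ i, i < 16368 → P i := stepQ 16367 Q16367 (allL N16367 (tt N17263 F57928) (tt N19950 (iv F66135)) (tt N19952 D30305) (tt N11984 (iv D26655)) (tt N18114 (iv F60604)) (tt N18653 (iv F62289)) (tt N19806 F65634))
theorem Q16369 : ∀ i, i < 16369 → P i := stepQ 16368 Q16368 (allL N16368 (tt N16361 F55194) (tt N12305 F55198) (tt N11987 F55195) (tt N19806 (iv F65630)) (tt N11985 F55196) (tt N16193 F55197) (tt N11984 (iv D26656)))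
theorem Q16370 : ∀ i, i < 16370 → P i := stepQ 16369 Q16369 (allL N16369 (tt N16370 (iv F55203)) (tt N14002 (iv F55202)) (tt N12000 F55199) (tt N19410 (iv F64311)) (tt N11988 F55200) (tt N16363 F55201) (tt N11986 (iv D26657)))
theorem Q16371 : ∀ i, i < 16371 → P i := stepQ 16370 Q16370 (allL N16370 (tt N16369 F55203) (tt N15114 F55204) (tt N16193 F55205) (tt N19411 (iv F64317)) (tt N11989 F55206) (tt N11987 (iv D26658)) (tt N16192 F55207))
theorem Q16372 : ∀ i, i < 16372 → P i := stepQ 16371 Q16371 (allL N16371 (tt N12114 F55208) (tt N16427 F55387) (tt N12755 F55209) (tt N11990 (iv D26659)) (tt N18126 (iv F60652)) (tt N11998 F55210) (tt N16864 (iv F56859)))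
theorem Q16373 : ∀ i, i < 16373 → P i := stepQ 16372 Q16372 (allL N16372 (tt N12115 F55211) (tt N14829 F55212) (tt N11991 F55213) (tt N16864 (iv F56858)) (tt N18505 (iv F61802)) (tt N12804 F55214) (tt N11990 (iv D26660)))
theorem Q16374 : ∀ i, i < 16374 → P i := stepQ 16373 Q16373 (allL N16373 (tt N13480 F55216) (tt N11992 (iv D26661)) (tt N13428 (iv F55217)) (tt N12191 F55215) (tt N19953 D30306) (tt N13386 F55218) (tt N16407 (iv F55322)))
theorem Q16375 : ∀ i, i < 16375 → P i := stepQ 16374 Q16374 (allL N16374 (tt N11993 F55219) (tt N19953 (iv F66145)) (tt N19949 (iv F66132)) (tt N19954 D30307) (tt N11992 (iv D26662)) (tt N19955 D30308) (tt N19956 D30309))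
theorem Q16376 : ∀ i, i < 16376 → P i := stepQ 16375 Q16375 (allL N16375 (tt N11994 F55220) (tt N12313 F55221) (tt N13362 F55222) (tt N12193 F55223) (tt N19955 (iv F66156)) (tt N11992 (iv D26663)) (tt N16381 (iv F55238)))
theorem Q16377 : ∀ i, i < 16377 → P i := stepQ 16376 Q16376 (allL N16376 (tt N11995 F55224) (tt N12004 (iv F55227)) (tt N14723 F55225) (tt N12194 F55226) (tt N19956 (iv F66159)) (tt N16380 (iv F55233)) (tt N11992 (iv D26664)))
theorem Q16378 : ∀ i, i < 16378 → P i := stepQ 16377 Q16377 (allL N16377 (tt N19954 (iv F66149)) (tt N11996 F55228) (tt N19847 (iv F65769)) (tt N11993 (iv D26665)) (tt N12195 F55229) (tt N19957 D30310) (tt N19958 D30311))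
theorem Q16379 : ∀ i, i < 16379 → P i := stepQ 16378 Q16378 (allL N16378 (tt N19955 (iv F66153)) (tt N16821 (iv F56714)) (tt N19951 (iv F66140)) (tt N19957 (iv F66162)) (tt N11994 F55230) (tt N11993 (iv D26666)) (tt N19959 D30312))
theorem Q16380 : ∀ i, i < 16380 → P i := stepQ 16379 Q16379 (allL N16379 (tt N19956 (iv F66157)) (tt N17173 F57716) (tt N16591 F55928) (tt N19958 (iv F66164)) (tt N11995 F55231) (tt N19960 D30313) (tt N11993 (iv D26667)))
theorem Q16381 : ∀ i, i < 16381 → P i := stepQ 16380 Q16380 (allL N16380 (tt N16381 (iv F55234)) (tt N16387 (iv F55261)) (tt N17428 (iv F58442)) (tt N12198 F55232) (tt N19959 (iv F66168)) (tt N16376 F55233) (tt N11994 (iv D26668)))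
theorem Q16382 : ∀ i, i < 16382 → P i := stepQ 16381 Q16381 (allL N16381 (tt N16380 F55234) (tt N13383 F55235) (tt N13385 F55236) (tt N12199 F55237) (tt N19960 (iv F66173)) (tt N11995 (iv D26669)) (tt N16375 F55238))
theorem Q16383 : ∀ i, i < 16383 → P i := stepQ 16382 Q16382 (allL N16382 (tt N12017 F55239) (tt N19647 F65163) (tt N11996 (iv D26670)) (tt N15759 F55241) (tt N12200 F55240) (tt N19627 (iv F65103)) (tt N19428 (iv F64422)))
theorem Q16384 : ∀ i, i < 16384 → P i := stepQ 16383 Q16383 (allL N16383 (tt N12018 F55242) (tt N16820 (iv F56712)) (tt N19627 (iv F65102)) (tt N11997 F55243) (tt N12148 F55244) (tt N11996 (iv D26671)) (tt N16347 F55245))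
theorem Q16385 : ∀ i, i < 16385 → P i := stepQ 16384 Q16384 (allL N16384 (tt N12001 (iv D26672)) (tt N13480 F55246) (tt N15813 F55247) (tt N13429 F55250) (tt N15818 (iv F55248)) (tt N13483 F55251) (tt N13427 (iv F55249)))
theorem Q16386 : ∀ i, i < 16386 → P i := stepQ 16385 Q16385 (allL N16385 (tt N13429 F55252) (tt N12002 F55253) (tt N13481 F55255) (tt N12001 (iv D26673)) (tt N19961 D30314) (tt N16516 (iv F55693)) (tt N13340 (iv F55254)))
theorem Q16387 : ∀ i, i < 16387 → P i := stepQ 16386 Q16386 (allL N16386 (tt N15818 F55256) (tt N12003 F55257) (tt N15816 F55258) (tt N19962 D30315) (tt N12001 (iv D26674)) (tt N18706 (iv F62399)) (tt N15815 (iv F55259)))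
theorem Q16388 : ∀ i, i < 16388 → P i := stepQ 16387 Q16387 (allL N16387 (tt N13483 F55260) (tt N16380 F55261) (tt N16749 F56488) (tt N16516 (iv F55692)) (tt N18706 (iv F62398)) (tt N12001 (iv D26675)) (tt N17445 (iv F58517)))
theorem Q16389 : ∀ i, i < 16389 → P i := stepQ 16388 Q16388 (allL N16388 (tt N13427 F55262) (tt N13341 F55263) (tt N15812 F55264) (tt N13340 F55265) (tt N15815 F55266) (tt N17472 (iv F58622)) (tt N12001 (iv D26676)))
theorem Q16390 : ∀ i, i < 16390 → P i := stepQ 16389 Q16389 (allL N16389 (tt N12006 F55267) (tt N16352 F55268) (tt N12002 (iv D26677)) (tt N12342 F55269) (tt N19963 D30316) (tt N14704 (iv F55270)) (tt N13302 (iv F55271)))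
theorem Q16391 : ∀ i, i < 16391 → P i := stepQ 16390 Q16390 (allL N16390 (tt N12007 F55272) (tt N19961 (iv F66176)) (tt N19963 (iv F66187)) (tt N19964 D30317) (tt N12002 (iv D26678)) (tt N19965 D30318) (tt N19966 D30319))
theorem Q16392 : ∀ i, i < 16392 → P i := stepQ 16391 Q16391 (allL N16391 (tt N12008 F55273) (tt N12194 (iv F55276)) (tt N14704 F55274) (tt N12004 F55275) (tt N19965 (iv F66196)) (tt N12002 (iv D26679)) (tt N16402 (iv F55304)))
theorem Q16393 : ∀ i, i < 16393 → P i := stepQ 16392 Q16392 (allL N16392 (tt N12009 F55277) (tt N12254 F55278) (tt N13302 F55279) (tt N12005 F55280) (tt N19966 (iv F66201)) (tt N16401 (iv F55301)) (tt N12002 (iv D26680)))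
theorem Q16394 : ∀ i, i < 16394 → P i := stepQ 16393 Q16393 (allL N16393 (tt N12010 F55281) (tt N19962 (iv F66181)) (tt N19754 (iv F65482)) (tt N12003 (iv D26681)) (tt N19964 (iv F66192)) (tt N19967 D30320) (tt N19968 D30321))
theorem Q16395 : ∀ i, i < 16395 → P i := stepQ 16394 Q16394 (allL N16394 (tt N12011 F55282) (tt N19956 F66160) (tt N12265 F55283) (tt N19967 (iv F66203)) (tt N12004 F55284) (tt N12003 (iv D26682)) (tt N16406 (iv F55320)))
theorem Q16396 : ∀ i, i < 16396 → P i := stepQ 16395 Q16395 (allL N16395 (tt N12012 F55285) (tt N19911 (iv F65988)) (tt N12266 F55286) (tt N19968 (iv F66206)) (tt N12005 F55287) (tt N16405 (iv F55316)) (tt N12003 (iv D26683)))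
theorem Q16397 : ∀ i, i < 16397 → P i := stepQ 16396 Q16396 (allL N16396 (tt N19963 (iv F66185)) (tt N12181 F55288) (tt N12007 F55289) (tt N19969 D30322) (tt N12006 (iv D26684)) (tt N16555 (iv F55815)) (tt N19970 D30323))
theorem Q16398 : ∀ i, i < 16398 → P i := stepQ 16397 Q16397 (allL N16397 (tt N13302 F55290) (tt N13313 F55291) (tt N12009 F55292) (tt N14759 F55293) (tt N19970 (iv F66213)) (tt N17414 (iv F58384)) (tt N12006 (iv D26685)))
theorem Q16399 : ∀ i, i < 16399 → P i := stepQ 16398 Q16398 (allL N16398 (tt N19964 (iv F66190)) (tt N12015 F55294) (tt N19752 (iv F65474)) (tt N12007 (iv D26686)) (tt N12010 F55295) (tt N19971 D30324) (tt N19972 D30325))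
theorem Q16400 : ∀ i, i < 16400 → P i := stepQ 16399 Q16399 (allL N16399 (tt N19965 (iv F66194)) (tt N17088 F57489) (tt N16555 F55816) (tt N19971 (iv F66215)) (tt N12008 F55296) (tt N12007 (iv D26687)) (tt N19973 D30326))
theorem Q16401 : ∀ i, i < 16401 → P i := stepQ 16400 Q16400 (allL N16400 (tt N19966 (iv F66198)) (tt N16796 (iv F56642)) (tt N19970 (iv F66212)) (tt N19972 (iv F66218)) (tt N12009 F55297) (tt N19974 D30327) (tt N12007 (iv D26688)))
theorem Q16402 : ∀ i, i < 16402 → P i := stepQ 16401 Q16401 (allL N16401 (tt N16402 (iv F55302)) (tt N13331 F55298) (tt N13339 F55299) (tt N12013 F55300) (tt N19973 (iv F66222)) (tt N16392 F55301) (tt N12008 (iv D26689)))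
theorem Q16403 : ∀ i, i < 16403 → P i := stepQ 16402 Q16402 (allL N16402 (tt N16401 F55302) (tt N16508 (iv F55672)) (tt N17414 (iv F58382)) (tt N12014 F55303) (tt N19974 (iv F66227)) (tt N12009 (iv D26690)) (tt N16391 F55304))
theorem Q16404 : ∀ i, i < 16404 → P i := stepQ 16403 Q16403 (allL N16403 (tt N19967 (iv F66202)) (tt N17156 (iv F57673)) (tt N19755 (iv F65488)) (tt N12011 F55305) (tt N19971 (iv F66216)) (tt N12010 (iv D26692)) (tt N19975 D30328))
theorem Q16405 : ∀ i, i < 16405 → P i := stepQ 16404 Q16404 (allL N16404 (tt N19968 (iv F66204)) (tt N19941 (iv F66101)) (tt N16058 (iv F55307)) (tt N12012 F55306) (tt N19972 (iv F66219)) (tt N19976 D30329) (tt N12010 (iv D26693)))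
theorem Q16406 : ∀ i, i < 16406 → P i := stepQ 16405 Q16405 (allL N16405 (tt N16406 (iv F55317)) (tt N18577 (iv F62048)) (tt N12270 F55314) (tt N19975 (iv F66229)) (tt N12013 F55315) (tt N16395 F55316) (tt N12011 (iv D26694)))
theorem Q16407 : ∀ i, i < 16407 → P i := stepQ 16406 Q16406 (allL N16406 (tt N16405 F55317) (tt N19977 D30330) (tt N12271 F55318) (tt N19976 (iv F66233)) (tt N12014 F55319) (tt N12012 (iv D26695)) (tt N16394 F55320))
theorem Q16408 : ∀ i, i < 16408 → P i := stepQ 16407 Q16407 (allL N16407 (tt N17396 (iv F58314)) (tt N12014 (iv D26696)) (tt N16516 (iv F55691)) (tt N16508 (iv F55673)) (tt N19977 (iv F66235)) (tt N13481 F55321) (tt N16373 F55322))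
theorem Q16409 : ∀ i, i < 16409 → P i := stepQ 16408 Q16408 (allL N16408 (tt N12200 F55323) (tt N19445 F64461) (tt N12015 (iv D26697)) (tt N15984 F55325) (tt N12017 F55324) (tt N19629 (iv F65113)) (tt N19426 (iv F64415)))
theorem Q16410 : ∀ i, i < 16410 → P i := stepQ 16409 Q16409 (allL N16409 (tt N12148 F55326) (tt N17290 (iv F57996)) (tt N19629 (iv F65112)) (tt N12016 F55327) (tt N12018 F55328) (tt N12015 (iv D26698)) (tt N16518 (iv F55700)))
theorem Q16411 : ∀ i, i < 16411 → P i := stepQ 16410 Q16410 (allL N16410 (tt N15759 F55329) (tt N19441 (iv F64445)) (tt N15732 F55330) (tt N12017 (iv D26699)) (tt N19073 (iv F63302)) (tt N19628 (iv F65109)) (tt N19127 F63431))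
theorem Q16412 : ∀ i, i < 16412 → P i := stepQ 16411 Q16411 (allL N16411 (tt N16347 F55331) (tt N19978 D30331) (tt N19630 (iv F65116)) (tt N12019 F55332) (tt N16518 (iv F55699)) (tt N16337 F55333) (tt N12018 (iv D26700)))
theorem Q16413 : ∀ i, i < 16413 → P i := stepQ 16412 Q16412 (allL N16412 (tt N17339 (iv F58103)) (tt N12019 (iv D26701)) (tt N16334 (iv F55335)) (tt N19978 (iv F66238)) (tt N12020 F55334) (tt N16332 (iv F55336)) (tt N17292 (iv F58004)))
theorem Q16414 : ∀ i, i < 16414 → P i := stepQ 16413 Q16413 (allL N16413 (tt N12021 (iv D26702)) (tt N12959 (iv F55339)) (tt N19979 D30332) (tt N19455 (iv F64485)) (tt N12022 F55337) (tt N19979 F66244) (tt N12965 F55338))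
theorem Q16415 : ∀ i, i < 16415 → P i := stepQ 16414 Q16414 (allL N16414 (tt N19979 (iv F66240)) (tt N16334 F55340) (tt N12021 (iv D26703)) (tt N19457 (iv F64491)) (tt N12023 F55341) (tt N12021 (iv F55342)) (tt N17027 (iv F57335)))
theorem Q16416 : ∀ i, i < 16416 → P i := stepQ 16415 Q16415 (allL N16415 (tt N12023 F55343) (tt N13295 F55344) (tt N12022 (iv D26704)) (tt N12025 (iv F55346)) (tt N19979 (iv F66242)) (tt N12022 (iv F55347)) (tt N13286 F55345))
theorem Q16417 : ∀ i, i < 16417 → P i := stepQ 16416 Q16416 (allL N16416 (tt N12026 F55348) (tt N13699 F55349) (tt N16419 (iv F55361)) (tt N12024 (iv D26705)) (tt N14959 (iv F55350)) (tt N16418 F55358) (tt N18548 (iv F61956)))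
theorem Q16418 : ∀ i, i < 16418 → P i := stepQ 16417 Q16417 (allL N16417 (tt N12027 F55351) (tt N16263 F55352) (tt N12025 F55353) (tt N16418 (iv F55357)) (tt N19463 (iv F64507)) (tt N12024 (iv D26706)) (tt N14814 F55354))
theorem Q16419 : ∀ i, i < 16419 → P i := stepQ 16418 Q16418 (allL N16418 (tt N16419 (iv F55359)) (tt N14956 F55355) (tt N12026 (iv D26707)) (tt N16417 F55357) (tt N14957 F55356) (tt N16416 (iv F55358)) (tt N17496 (iv F58711)))
theorem Q16420 : ∀ i, i < 16420 → P i := stepQ 16419 Q16419 (allL N16419 (tt N16418 F55359) (tt N13979 F55360) (tt N16416 F55361) (tt N12027 F55362) (tt N13989 F55363) (tt N12026 (iv D26708)) (tt N19980 D30333))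
theorem Q16421 : ∀ i, i < 16421 → P i := stepQ 16420 Q16420 (allL N16420 (tt N14814 F55364) (tt N18529 (iv F61877)) (tt N12028 F55365) (tt N19980 (iv F66248)) (tt N19464 (iv F64511)) (tt N14812 F55366) (tt N12027 (iv D26709)))
theorem Q16422 : ∀ i, i < 16422 → P i := stepQ 16421 Q16421 (allL N16421 (tt N14697 F55367) (tt N14724 F55368) (tt N12862 F55369) (tt N18634 (iv F62239)) (tt N12030 (iv D26710)) (tt N16302 F55370) (tt N12860 F55371))
theorem Q16423 : ∀ i, i < 16423 → P i := stepQ 16422 Q16422 (allL N16422 (tt N12032 (iv D26711)) (tt N19981 D30334) (tt N18119 F60626) (tt N19467 (iv F64523)) (tt N12033 F55372) (tt N17267 (iv F57938)) (tt N19982 D30335))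
theorem Q16424 : ∀ i, i < 16424 → P i := stepQ 16423 Q16423 (allL N16423 (tt N18119 (iv F60625)) (tt N16423 F55373) (tt N12032 (iv D26712)) (tt N13639 (iv F55376)) (tt N12034 F55374) (tt N13644 F55375) (tt N19983 D30336))
theorem Q16425 : ∀ i, i < 16425 → P i := stepQ 16424 Q16424 (allL N16424 (tt N19982 (iv F66254)) (tt N16473 (iv F55566)) (tt N19983 (iv F66258)) (tt N19468 (iv F64526)) (tt N12035 F55377) (tt N19984 D30337) (tt N12032 (iv D26713)))
theorem Q16426 : ∀ i, i < 16426 → P i := stepQ 16425 Q16425 (allL N16425 (tt N14827 F55378) (tt N12033 (iv D26714)) (tt N16871 (iv F56885)) (tt N12037 F55379) (tt N19981 (iv F66252)) (tt N14109 F55380) (tt N16871 (iv F56887)))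
theorem Q16427 : ∀ i, i < 16427 → P i := stepQ 16426 Q16426 (allL N16426 (tt N12034 F55381) (tt N16626 (iv F56052)) (tt N12033 (iv D26715)) (tt N12485 F55383) (tt N18119 (iv F60623)) (tt N12484 F55382) (tt N19985 D30338))
theorem Q16428 : ∀ i, i < 16428 → P i := stepQ 16427 Q16427 (allL N16427 (tt N12035 F55384) (tt N16371 (iv F55387)) (tt N19985 (iv F66267)) (tt N12039 F55385) (tt N19982 (iv F66255)) (tt N13448 F55386) (tt N12033 (iv D26716)))
theorem Q16429 : ∀ i, i < 16429 → P i := stepQ 16428 Q16428 (allL N16428 (tt N12485 F55388) (tt N16428 F55389) (tt N13491 F55390) (tt N12034 (iv D26717)) (tt N13693 F55391) (tt N12483 F55392) (tt N13676 (iv F55393)))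
theorem Q16430 : ∀ i, i < 16430 → P i := stepQ 16429 Q16429 (allL N16429 (tt N19985 (iv F66265)) (tt N19986 D30339) (tt N12035 F55394) (tt N13676 F55395) (tt N19983 (iv F66260)) (tt N16671 (iv F56230)) (tt N12034 (iv D26718)))
theorem Q16431 : ∀ i, i < 16431 → P i := stepQ 16430 Q16430 (allL N16430 (tt N13448 F55396) (tt N13379 F55397) (tt N16671 (iv F56228)) (tt N12042 F55398) (tt N19984 (iv F66263)) (tt N12035 (iv D26719)) (tt N13446 F55399))
theorem Q16432 : ∀ i, i < 16432 → P i := stepQ 16431 Q16431 (allL N16431 (tt N12203 F55400) (tt N16431 F55401) (tt N12036 (iv D26720)) (tt N16276 F55402) (tt N17367 (iv F58197)) (tt N17440 (iv F58492)) (tt N16472 (iv F55564)))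
theorem Q16433 : ∀ i, i < 16433 → P i := stepQ 16432 Q16432 (allL N16432 (tt N16478 (iv F55576)) (tt N12813 F55403) (tt N17440 (iv F58490)) (tt N12043 F55404) (tt N15125 F55405) (tt N12036 (iv D26721)) (tt N12141 F55406))
theorem Q16434 : ∀ i, i < 16434 → P i := stepQ 16433 Q16433 (allL N16433 (tt N17533 (iv F58843)) (tt N12049 F55407) (tt N13758 F55408) (tt N19478 (iv F64563)) (tt N12040 (iv D26722)) (tt N19596 (iv F64988)) (tt N17531 (iv F58841)))
theorem Q16435 : ∀ i, i < 16435 → P i := stepQ 16434 Q16434 (allL N16434 (tt N12080 F55409) (tt N12041 (iv D26723)) (tt N14134 F55410) (tt N17884 (iv F59925)) (tt N19479 (iv F64567)) (tt N14113 F55411) (tt N12051 F55412))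
theorem Q16436 : ∀ i, i < 16436 → P i := stepQ 16435 Q16435 (allL N16435 (tt N12049 F55413) (tt N15600 F55414) (tt N14386 F55415) (tt N19482 (iv F64580)) (tt N12047 (iv D26724)) (tt N12085 F55416) (tt N14382 F55417))
theorem Q16437 : ∀ i, i < 16437 → P i := stepQ 16436 Q16436 (allL N16436 (tt N14386 F55418) (tt N13759 F55419) (tt N12049 F55420) (tt N17874 (iv F59886)) (tt N12048 (iv D26725)) (tt N12088 F55421) (tt N14384 F55422))
theorem Q16438 : ∀ i, i < 16438 → P i := stepQ 16437 Q16437 (allL N16437 (tt N14382 F55423) (tt N19987 D30340) (tt N14384 F55424) (tt N19486 (iv F64597)) (tt N12050 F55425) (tt N16285 F55426) (tt N12049 (iv D26726)))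
theorem Q16439 : ∀ i, i < 16439 → P i := stepQ 16438 Q16438 (allL N16438 (tt N13943 F55427) (tt N12050 (iv D26727)) (tt N13946 (iv F55429)) (tt N12051 F55428) (tt N19987 (iv F66275)) (tt N17925 (iv F60084)) (tt N17884 (iv F59926)))
theorem Q16440 : ∀ i, i < 16440 → P i := stepQ 16439 Q16439 (allL N16439 (tt N12051 (iv D26728)) (tt N13944 F55430) (tt N16284 F55431) (tt N13943 F55432) (tt N19488 (iv F64604)) (tt N16297 F55433) (tt N12080 F55434))
theorem Q16441 : ∀ i, i < 16441 → P i := stepQ 16440 Q16440 (allL N16440 (tt N12056 (iv D26729)) (tt N12273 F55435) (tt N15016 F55436) (tt N12057 F55437) (tt N16237 F55438) (tt N16440 F55439) (tt N12076 (iv F55440)))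
theorem Q16442 : ∀ i, i < 16442 → P i := stepQ 16441 Q16441 (allL N16441 (tt N12076 F55441) (tt N12107 F55442) (tt N14999 F55443) (tt N12059 F55444) (tt N19907 (iv F65973)) (tt N12076 F55445) (tt N12056 (iv D26730)))
theorem Q16443 : ∀ i, i < 16443 → P i := stepQ 16442 Q16442 (allL N16442 (tt N12058 F55446) (tt N13715 F55447) (tt N12057 (iv D26731)) (tt N14129 F55450) (tt N19490 (iv F64613)) (tt N16442 F55448) (tt N12079 F55449))
theorem Q16444 : ∀ i, i < 16444 → P i := stepQ 16443 Q16443 (allL N16443 (tt N12079 F55451) (tt N14062 F55452) (tt N12059 F55453) (tt N14131 F55454) (tt N19492 (iv F64624)) (tt N12079 F55455) (tt N12058 (iv D26732)))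
theorem Q16445 : ∀ i, i < 16445 → P i := stepQ 16444 Q16444 (allL N16444 (tt N12065 (iv D26733)) (tt N19932 (iv F66067)) (tt N16294 F55456) (tt N19493 (iv F64628)) (tt N12068 F55457) (tt N12074 F55458) (tt N16448 (iv F55473)))
theorem Q16446 : ∀ i, i < 16446 → P i := stepQ 16445 Q16445 (allL N16445 (tt N16464 (iv F55532)) (tt N12067 (iv D26734)) (tt N16290 F55459) (tt N17458 (iv F58562)) (tt N12069 F55460) (tt N17455 (iv F58547)) (tt N16461 F55525))
theorem Q16447 : ∀ i, i < 16447 → P i := stepQ 16446 Q16446 (allL N16446 (tt N19907 (iv F65969)) (tt N12074 (iv D26735)) (tt N19893 (iv F65918)) (tt N16239 F55461) (tt N12076 F55462) (tt N19907 (iv F65974)) (tt N16237 (iv F55463)))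
theorem Q16448 : ∀ i, i < 16448 → P i := stepQ 16447 Q16447 (allL N16447 (tt N12075 F55464) (tt N12613 F55465) (tt N16291 F55466) (tt N12614 F55467) (tt N12077 F55468) (tt N16199 F55469) (tt N12074 (iv D26736)))
theorem Q16449 : ∀ i, i < 16449 → P i := stepQ 16448 Q16448 (allL N16448 (tt N16199 F55470) (tt N12104 F55474) (tt N16194 F55471) (tt N17471 (iv F58617)) (tt N12078 F55472) (tt N12075 (iv D26737)) (tt N16444 F55473))
theorem Q16450 : ∀ i, i < 16450 → P i := stepQ 16449 Q16449 (allL N16449 (tt N14999 F55475) (tt N16296 F55476) (tt N12076 (iv D26738)) (tt N15000 (iv F55479)) (tt N19893 (iv F65920)) (tt N14999 F55477) (tt N15016 F55478))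
theorem Q16451 : ∀ i, i < 16451 → P i := stepQ 16450 Q16450 (allL N16450 (tt N14134 F55480) (tt N12079 (iv D26739)) (tt N12080 F55481) (tt N17841 (iv F59773)) (tt N19504 (iv F64662)) (tt N14060 F55482) (tt N16284 F55483))
theorem Q16452 : ∀ i, i < 16452 → P i := stepQ 16451 Q16451 (allL N16451 (tt N14131 F55484) (tt N17841 (iv F59771)) (tt N18604 (iv F62148)) (tt N12079 (iv D26740)) (tt N19988 D30341) (tt N14131 F55485) (tt N14129 F55486))
theorem Q16453 : ∀ i, i < 16453 → P i := stepQ 16452 Q16452 (allL N16452 (tt N18526 (iv F61866)) (tt N16192 F55487) (tt N13032 F55488) (tt N19514 (iv F64702)) (tt N12083 (iv D26741)) (tt N15845 F55489) (tt N16264 F55490))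
theorem Q16454 : ∀ i, i < 16454 → P i := stepQ 16453 Q16453 (allL N16453 (tt N12086 (iv D26742)) (tt N14132 F55491) (tt N17907 (iv F60011)) (tt N14926 F55492) (tt N19989 D30342) (tt N13967 F55493) (tt N17845 (iv F59789)))
theorem Q16455 : ∀ i, i < 16455 → P i := stepQ 16454 Q16454 (allL N16454 (tt N19989 (iv F66280)) (tt N12088 F55494) (tt N19763 (iv F65513)) (tt N19990 D30343) (tt N12086 (iv D26743)) (tt N13765 F55495) (tt N19991 D30344))
theorem Q16456 : ∀ i, i < 16456 → P i := stepQ 16455 Q16455 (allL N16455 (tt N17845 (iv F59788)) (tt N14798 F55496) (tt N14133 F55497) (tt N14162 F55498) (tt N19991 (iv F66293)) (tt N14161 F55499) (tt N12086 (iv D26744)))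
theorem Q16457 : ∀ i, i < 16457 → P i := stepQ 16456 Q16456 (allL N16456 (tt N14924 F55500) (tt N19990 (iv F66285)) (tt N13168 (iv F55503)) (tt N12088 (iv D26745)) (tt N13445 F55501) (tt N17874 (iv F59888)) (tt N14010 F55502))
theorem Q16458 : ∀ i, i < 16458 → P i := stepQ 16457 Q16457 (allL N16457 (tt N12501 F55504) (tt N14762 F55505) (tt N12093 (iv D26746)) (tt N16080 (iv F55508)) (tt N12094 F55506) (tt N16457 F55507) (tt N12498 (iv F55509)))
theorem Q16459 : ∀ i, i < 16459 → P i := stepQ 16458 Q16458 (allL N16458 (tt N12502 F55510) (tt N16309 F55511) (tt N12498 F55512) (tt N17513 (iv F58778)) (tt N12095 F55513) (tt N12502 F55514) (tt N12093 (iv D26747)))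
theorem Q16460 : ∀ i, i < 16460 → P i := stepQ 16459 Q16459 (allL N16459 (tt N16311 F55515) (tt N16464 (iv F55533)) (tt N12097 F55516) (tt N19759 (iv F65502)) (tt N12100 F55517) (tt N16311 F55518) (tt N12096 (iv D26748)))
theorem Q16461 : ∀ i, i < 16461 → P i := stepQ 16460 Q16460 (allL N16460 (tt N16310 F55519) (tt N12105 F55520) (tt N12098 (iv D26749)) (tt N17432 (iv F58461)) (tt N12101 F55521) (tt N13605 F55522) (tt N16310 F55523))
theorem Q16462 : ∀ i, i < 16462 → P i := stepQ 16461 Q16461 (allL N16461 (tt N12102 (iv D26750)) (tt N19907 (iv F65970)) (tt N17430 F58455) (tt N19530 (iv F64754)) (tt N12107 F55524) (tt N19932 (iv F66071)) (tt N16445 (iv F55525)))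
theorem Q16463 : ∀ i, i < 16463 → P i := stepQ 16462 Q16462 (allL N16462 (tt N17430 (iv F58450)) (tt N16316 F55526) (tt N12102 (iv D26751)) (tt N17433 (iv F58462)) (tt N12108 F55527) (tt N19927 (iv F66046)) (tt N16314 (iv F55528)))
theorem Q16464 : ∀ i, i < 16464 → P i := stepQ 16463 Q16463 (allL N16463 (tt N19932 (iv F66066)) (tt N12272 F55529) (tt N19927 (iv F66043)) (tt N12615 F55530) (tt N12109 F55531) (tt N12102 (iv D26752)) (tt N17455 (iv F58548)))
theorem Q16465 : ∀ i, i < 16465 → P i := stepQ 16464 Q16464 (allL N16464 (tt N16445 F55532) (tt N16459 F55533) (tt N16314 F55534) (tt N19531 (iv F64760)) (tt N12110 F55535) (tt N16313 (iv F55536)) (tt N12102 (iv D26753)))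
theorem Q16466 : ∀ i, i < 16466 → P i := stepQ 16465 Q16465 (allL N16465 (tt N12106 F55537) (tt N16200 F55538) (tt N16318 F55539) (tt N12235 F55540) (tt N12111 F55541) (tt N12104 (iv D26754)) (tt N16201 F55542))
theorem Q16467 : ∀ i, i < 16467 → P i := stepQ 16466 Q16466 (allL N16466 (tt N16572 (iv F55870)) (tt N17432 (iv F58460)) (tt N16499 (iv F55636)) (tt N12105 (iv D26755)) (tt N15626 F55543) (tt N13387 F55544) (tt N19304 (iv F63980)))
theorem Q16468 : ∀ i, i < 16468 → P i := stepQ 16467 Q16467 (allL N16467 (tt N16864 (iv F56856)) (tt N16564 (iv F55845)) (tt N16850 (iv F56800)) (tt N12115 F55545) (tt N18129 (iv F60665)) (tt N14772 F55546) (tt N12114 (iv D26756)))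
theorem Q16469 : ∀ i, i < 16469 → P i := stepQ 16468 Q16468 (allL N16468 (tt N12117 (iv D26757)) (tt N14090 F55547) (tt N12144 F55548) (tt N12119 F55549) (tt N19992 D30345) (tt N16493 (iv F55620)) (tt N12152 F55550))
theorem Q16470 : ∀ i, i < 16470 → P i := stepQ 16469 Q16469 (allL N16469 (tt N19992 (iv F66295)) (tt N12118 F55551) (tt N12145 F55552) (tt N18519 (iv F61842)) (tt N12117 (iv D26758)) (tt N17943 (iv F60153)) (tt N12151 F55553))
theorem Q16471 : ∀ i, i < 16471 → P i := stepQ 16470 Q16470 (allL N16470 (tt N19327 (iv F64061)) (tt N12135 F55554) (tt N15553 F55555) (tt N19550 (iv F64832)) (tt N12132 (iv D26759)) (tt N15642 F55556) (tt N15552 F55557))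
theorem Q16472 : ∀ i, i < 16472 → P i := stepQ 16471 Q16471 (allL N16471 (tt N16471 F55558) (tt N12133 (iv D26760)) (tt N12172 F55559) (tt N16329 F55560) (tt N19553 (iv F64844)) (tt N12136 F55561) (tt N12172 F55562))
theorem Q16473 : ∀ i, i < 16473 → P i := stepQ 16472 Q16472 (allL N16472 (tt N12139 F55563) (tt N17448 (iv F58525)) (tt N12137 (iv D26761)) (tt N17465 (iv F58587)) (tt N19993 D30346) (tt N17425 (iv F58429)) (tt N16431 F55564))
theorem Q16474 : ∀ i, i < 16474 → P i := stepQ 16473 Q16473 (allL N16473 (tt N12140 F55565) (tt N16424 F55566) (tt N19993 (iv F66301)) (tt N19333 F64086) (tt N12137 (iv D26762)) (tt N17163 F57690) (tt N13238 F55567))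
theorem Q16475 : ∀ i, i < 16475 → P i := stepQ 16474 Q16474 (allL N16474 (tt N19993 (iv F66300)) (tt N17464 (iv F58581)) (tt N12140 F55568) (tt N19994 D30347) (tt N12139 (iv D26763)) (tt N19995 D30348) (tt N16519 F55703))
theorem Q16476 : ∀ i, i < 16476 → P i := stepQ 16475 Q16475 (allL N16475 (tt N17425 (iv F58426)) (tt N12245 F55569) (tt N12141 F55570) (tt N17407 (iv F58357)) (tt N19995 (iv F66308)) (tt N12139 (iv D26764)) (tt N17440 (iv F58493)))
theorem Q16477 : ∀ i, i < 16477 → P i := stepQ 16476 Q16476 (allL N16476 (tt N17163 (iv F57688)) (tt N12183 F55571) (tt N19995 (iv F66307)) (tt N19336 (iv F64100)) (tt N12141 F55572) (tt N12140 (iv D26765)) (tt N15125 F55573))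
theorem Q16478 : ∀ i, i < 16478 → P i := stepQ 16477 Q16477 (allL N16477 (tt N13238 F55574) (tt N16521 (iv F55707)) (tt N16519 F55702) (tt N19337 (iv F64105)) (tt N12142 F55575) (tt N18709 (iv F62409)) (tt N12140 (iv D26766)))
theorem Q16479 : ∀ i, i < 16479 → P i := stepQ 16478 Q16478 (allL N16478 (tt N16432 F55576) (tt N13410 F55577) (tt N13408 F55578) (tt N12143 F55579) (tt N18709 (iv F62408)) (tt N12142 (iv D26767)) (tt N13377 F55580))
theorem Q16480 : ∀ i, i < 16480 → P i := stepQ 16479 Q16479 (allL N16479 (tt N12145 F55581) (tt N17468 (iv F58601)) (tt N19992 (iv F66297)) (tt N19996 D30349) (tt N12144 (iv D26768)) (tt N19997 D30350) (tt N17245 F57891))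
theorem Q16481 : ∀ i, i < 16481 → P i := stepQ 16480 Q16480 (allL N16480 (tt N12146 F55582) (tt N14869 F55583) (tt N16493 (iv F55618)) (tt N14849 F55584) (tt N19997 (iv F66316)) (tt N12144 (iv D26769)) (tt N12357 F55585))
theorem Q16482 : ∀ i, i < 16482 → P i := stepQ 16481 Q16481 (allL N16481 (tt N19996 (iv F66310)) (tt N12148 F55586) (tt N19998 D30351) (tt N12145 (iv D26770)) (tt N16820 (iv F56713)) (tt N19999 D30352) (tt N20000 D30353))
theorem Q16483 : ∀ i, i < 16483 → P i := stepQ 16482 Q16482 (allL N16482 (tt N19997 (iv F66314)) (tt N12196 F55587) (tt N17943 (iv F60151)) (tt N19999 (iv F66325)) (tt N12146 F55588) (tt N12145 (iv D26771)) (tt N20001 D30354))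
theorem Q16484 : ∀ i, i < 16484 → P i := stepQ 16483 Q16483 (allL N16483 (tt N17245 (iv F57889)) (tt N20002 D30355) (tt N12151 F55589) (tt N20000 (iv F66326)) (tt N12147 F55590) (tt N16604 (iv F55981)) (tt N12145 (iv D26772)))
theorem Q16485 : ∀ i, i < 16485 → P i := stepQ 16484 Q16484 (allL N16484 (tt N12357 F55591) (tt N13428 (iv F55594)) (tt N16492 (iv F55613)) (tt N14861 F55592) (tt N20001 (iv F66328)) (tt N13431 F55593) (tt N12146 (iv D26773)))
theorem Q16486 : ∀ i, i < 16486 → P i := stepQ 16485 Q16485 (allL N16485 (tt N16485 F55595) (tt N12147 (iv D26774)) (tt N12150 F55596) (tt N16349 F55597) (tt N20002 (iv F66333)) (tt N16608 (iv F55993)) (tt N12150 F55598))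
theorem Q16487 : ∀ i, i < 16487 → P i := stepQ 16486 Q16486 (allL N16486 (tt N19629 (iv F65110)) (tt N18989 (iv F63115)) (tt N12148 (iv D26775)) (tt N18988 F63113) (tt N19627 F65105) (tt N12200 F55599) (tt N20003 D30356))
theorem Q16488 : ∀ i, i < 16488 → P i := stepQ 16487 Q16487 (allL N16487 (tt N16518 (iv F55697)) (tt N20004 D30357) (tt N20003 (iv F66337)) (tt N12149 F55600) (tt N16347 F55601) (tt N16345 F55602) (tt N12148 (iv D26776)))
theorem Q16489 : ∀ i, i < 16489 → P i := stepQ 16488 Q16488 (allL N16488 (tt N16488 F55604) (tt N12149 (iv D26777)) (tt N20002 (iv F66332)) (tt N20004 (iv F66341)) (tt N12150 F55603) (tt N20005 D30358) (tt N20002 (iv F66334)))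
theorem Q16490 : ∀ i, i < 16490 → P i := stepQ 16489 Q16489 (allL N16489 (tt N16489 F55605) (tt N12776 F55606) (tt N16608 (iv F55992)) (tt N16343 F55607) (tt N20005 (iv F66346)) (tt N12150 (iv D26778)) (tt N16608 (iv F55994)))
theorem Q16491 : ∀ i, i < 16491 → P i := stepQ 16490 Q16490 (allL N16490 (tt N12151 (iv D26779)) (tt N17125 (iv F57595)) (tt N17245 F57890) (tt N19576 (iv F64917)) (tt N12152 F55608) (tt N20006 D30359) (tt N19992 (iv F66299)))
theorem Q16492 : ∀ i, i < 16492 → P i := stepQ 16491 Q16491 (allL N16491 (tt N20006 (iv F66347)) (tt N12684 F55609) (tt N16604 (iv F55980)) (tt N19578 (iv F64925)) (tt N12153 F55610) (tt N12151 (iv D26780)) (tt N20007 D30360))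
theorem Q16493 : ∀ i, i < 16493 → P i := stepQ 16492 Q16492 (allL N16492 (tt N12153 F55611) (tt N16364 F55612) (tt N16484 F55613) (tt N12156 F55614) (tt N20006 (iv F66350)) (tt N12152 (iv D26781)) (tt N14178 F55615))
theorem Q16494 : ∀ i, i < 16494 → P i := stepQ 16493 Q16493 (allL N16493 (tt N14178 F55616) (tt N12442 F55617) (tt N16480 F55618) (tt N12159 F55619) (tt N20007 (iv F66355)) (tt N16468 F55620) (tt N12153 (iv D26782)))
theorem Q16495 : ∀ i, i < 16495 → P i := stepQ 16494 Q16494 (allL N16494 (tt N12212 F55621) (tt N17847 (iv F59795)) (tt N12159 F55622) (tt N14850 F55623) (tt N19585 (iv F64944)) (tt N13964 F55624) (tt N12158 (iv D26783)))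
theorem Q16496 : ∀ i, i < 16496 → P i := stepQ 16495 Q16495 (allL N16495 (tt N16495 F55625) (tt N14758 F55626) (tt N14738 F55627) (tt N18596 (iv F62119)) (tt N19588 (iv F64959)) (tt N14738 F55628) (tt N12163 (iv D26784)))
theorem Q16497 : ∀ i, i < 16497 → P i := stepQ 16496 Q16496 (allL N16496 (tt N18531 (iv F61883)) (tt N12166 (iv D26785)) (tt N13958 F55629) (tt N18587 (iv F62088)) (tt N19592 (iv F64973)) (tt N17842 (iv F59776)) (tt N12167 F55630))
theorem Q16498 : ∀ i, i < 16498 → P i := stepQ 16497 Q16497 (allL N16497 (tt N12167 (iv D26786)) (tt N17516 (iv F58791)) (tt N16357 F55631) (tt N17867 (iv F59865)) (tt N19593 (iv F64976)) (tt N17849 (iv F59805)) (tt N18531 (iv F61887)))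
theorem Q16499 : ∀ i, i < 16499 → P i := stepQ 16498 Q16498 (allL N16498 (tt N16502 (iv F55642)) (tt N17192 (iv F57763)) (tt N16500 (iv F55639)) (tt N19601 (iv F65010)) (tt N12175 (iv D26787)) (tt N13104 F55632) (tt N12190 F55633))
theorem Q16500 : ∀ i, i < 16500 → P i := stepQ 16499 Q16499 (allL N16499 (tt N12296 F55634) (tt N12742 F55635) (tt N16466 F55636) (tt N12177 F55637) (tt N19314 (iv F64021)) (tt N12176 (iv D26788)) (tt N16574 (iv F55883)))
theorem Q16501 : ∀ i, i < 16501 → P i := stepQ 16500 Q16500 (allL N16500 (tt N12183 F55638) (tt N12910 (iv F55641)) (tt N16498 F55639) (tt N19603 (iv F65017)) (tt N12179 F55640) (tt N12178 (iv D26789)) (tt N16504 (iv F55654)))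
theorem Q16502 : ∀ i, i < 16502 → P i := stepQ 16501 Q16501 (allL N16501 (tt N17187 F57752) (tt N19969 (iv F66207)) (tt N20008 D30361) (tt N12181 (iv D26790)) (tt N18168 (iv F60766)) (tt N19712 F65351) (tt N18647 (iv F62275)))
theorem Q16503 : ∀ i, i < 16503 → P i := stepQ 16502 Q16502 (allL N16502 (tt N16498 F55642) (tt N12247 (iv F55646)) (tt N12183 F55643) (tt N19712 (iv F65347)) (tt N12182 F55644) (tt N12181 (iv D26791)) (tt N16190 F55645))
theorem Q16504 : ∀ i, i < 16504 → P i := stepQ 16503 Q16503 (allL N16503 (tt N16504 (iv F55651)) (tt N15126 F55647) (tt N16190 F55648) (tt N19615 (iv F65053)) (tt N12185 F55649) (tt N16189 F55650) (tt N12183 (iv D26792)))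
theorem Q16505 : ∀ i, i < 16505 → P i := stepQ 16504 Q16504 (allL N16504 (tt N16503 F55651) (tt N14021 (iv F55655)) (tt N12190 F55652) (tt N19616 (iv F65057)) (tt N12186 F55653) (tt N12184 (iv D26793)) (tt N16500 F55654))
theorem Q16506 : ∀ i, i < 16506 → P i := stepQ 16505 Q16505 (allL N16505 (tt N12191 (iv D26794)) (tt N13429 F55656) (tt N15573 F55657) (tt N13480 F55658) (tt N15578 (iv F55660)) (tt N13479 F55659) (tt N13432 (iv F55661)))
theorem Q16507 : ∀ i, i < 16507 → P i := stepQ 16506 Q16506 (allL N16506 (tt N15578 F55662) (tt N12192 F55663) (tt N15576 F55664) (tt N20009 D30362) (tt N12191 (iv D26795)) (tt N15575 (iv F55665)) (tt N18699 (iv F62375)))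
theorem Q16508 : ∀ i, i < 16508 → P i := stepQ 16507 Q16507 (allL N16507 (tt N13479 F55666) (tt N13334 F55667) (tt N15572 F55668) (tt N13386 F55669) (tt N15575 F55670) (tt N12191 (iv D26796)) (tt N17447 (iv F58524)))
theorem Q16509 : ∀ i, i < 16509 → P i := stepQ 16508 Q16508 (allL N16508 (tt N13432 F55671) (tt N16402 F55672) (tt N16746 F56480) (tt N16407 F55673) (tt N18699 (iv F62373)) (tt N17470 (iv F58614)) (tt N12191 (iv D26797)))
theorem Q16510 : ∀ i, i < 16510 → P i := stepQ 16509 Q16509 (allL N16509 (tt N12195 F55674) (tt N20009 (iv F66359)) (tt N19851 (iv F65784)) (tt N12192 (iv D26798)) (tt N19954 (iv F66151)) (tt N20010 D30363) (tt N20011 D30364))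
theorem Q16511 : ∀ i, i < 16511 → P i := stepQ 16510 Q16510 (allL N16510 (tt N12196 F55675) (tt N19898 (iv F65941)) (tt N12324 F55676) (tt N20010 (iv F66365)) (tt N12193 F55677) (tt N12192 (iv D26799)) (tt N16515 (iv F55690)))
theorem Q16512 : ∀ i, i < 16512 → P i := stepQ 16511 Q16511 (allL N16511 (tt N12197 F55678) (tt N19965 F66197) (tt N12325 F55679) (tt N20011 (iv F66367)) (tt N12194 F55680) (tt N16514 (iv F55686)) (tt N12192 (iv D26800)))
theorem Q16513 : ∀ i, i < 16513 → P i := stepQ 16512 Q16512 (allL N16512 (tt N20010 (iv F66363)) (tt N19999 (iv F66323)) (tt N16135 F55681) (tt N12196 F55682) (tt N19957 (iv F66163)) (tt N12195 (iv D26801)) (tt N20012 D30365))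
theorem Q16514 : ∀ i, i < 16514 → P i := stepQ 16513 Q16513 (allL N16513 (tt N20011 (iv F66366)) (tt N17069 (iv F57440)) (tt N19852 (iv F65789)) (tt N12197 F55683) (tt N19958 (iv F66165)) (tt N20013 D30366) (tt N12195 (iv D26802)))
theorem Q16515 : ∀ i, i < 16515 → P i := stepQ 16514 Q16514 (allL N16514 (tt N16515 (iv F55687)) (tt N20014 D30367) (tt N12329 F55684) (tt N20012 (iv F66369)) (tt N12198 F55685) (tt N16511 F55686) (tt N12196 (iv D26803)))
theorem Q16516 : ∀ i, i < 16516 → P i := stepQ 16515 Q16515 (allL N16515 (tt N16514 F55687) (tt N18563 (iv F62001)) (tt N12330 F55688) (tt N20013 (iv F66372)) (tt N12199 F55689) (tt N12197 (iv D26804)) (tt N16510 F55690))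
theorem Q16517 : ∀ i, i < 16517 → P i := stepQ 16516 Q16516 (allL N16516 (tt N17392 (iv F58300)) (tt N12198 (iv D26805)) (tt N16407 F55691) (tt N16387 F55692) (tt N20014 (iv F66375)) (tt N16385 F55693) (tt N13428 F55694))
theorem Q16518 : ∀ i, i < 16518 → P i := stepQ 16517 Q16517 (allL N16517 (tt N15984 F55695) (tt N19643 (iv F65144)) (tt N15957 F55696) (tt N12200 (iv D26806)) (tt N19207 (iv F63649)) (tt N18988 F63112) (tt N19427 (iv F64418)))
theorem Q16519 : ∀ i, i < 16519 → P i := stepQ 16518 Q16518 (allL N16518 (tt N16487 F55697) (tt N20015 D30368) (tt N19429 (iv F64424)) (tt N12202 F55698) (tt N16411 F55699) (tt N12201 (iv D26807)) (tt N16409 F55700))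
theorem Q16520 : ∀ i, i < 16520 → P i := stepQ 16519 Q16519 (allL N16519 (tt N17367 (iv F58195)) (tt N12202 (iv D26808)) (tt N16477 (iv F55702)) (tt N20015 (iv F66378)) (tt N12203 F55701) (tt N17216 (iv F57828)) (tt N16474 (iv F55703)))
theorem Q16521 : ∀ i, i < 16521 → P i := stepQ 16520 Q16520 (allL N16520 (tt N12204 (iv D26809)) (tt N13034 (iv F55706)) (tt N20016 D30369) (tt N19655 (iv F65186)) (tt N12205 F55704) (tt N13040 F55705) (tt N20016 F66385))
theorem Q16522 : ∀ i, i < 16522 → P i := stepQ 16521 Q16521 (allL N16521 (tt N20016 (iv F66381)) (tt N16477 F55707) (tt N12204 (iv D26810)) (tt N19657 (iv F65195)) (tt N12206 F55708) (tt N17118 (iv F57578)) (tt N12204 (iv F55709)))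
theorem Q16523 : ∀ i, i < 16523 → P i := stepQ 16522 Q16522 (allL N16522 (tt N12206 F55710) (tt N13354 F55711) (tt N12205 (iv D26811)) (tt N12208 (iv F55713)) (tt N20016 (iv F66383)) (tt N13346 F55712) (tt N12205 (iv F55714)))
theorem Q16524 : ∀ i, i < 16524 → P i := stepQ 16523 Q16523 (allL N16523 (tt N12209 F55715) (tt N13696 F55716) (tt N16526 (iv F55728)) (tt N12207 (iv D26812)) (tt N14912 (iv F55717)) (tt N18555 (iv F61977)) (tt N16525 F55725))
theorem Q16525 : ∀ i, i < 16525 → P i := stepQ 16524 Q16524 (allL N16524 (tt N12210 F55718) (tt N16234 F55719) (tt N12208 F55720) (tt N16525 (iv F55724)) (tt N19663 (iv F65213)) (tt N14842 F55721) (tt N12207 (iv D26813)))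
theorem Q16526 : ∀ i, i < 16526 → P i := stepQ 16525 Q16525 (allL N16525 (tt N16526 (iv F55726)) (tt N14908 F55722) (tt N12209 (iv D26814)) (tt N16524 F55724) (tt N14910 F55723) (tt N17487 (iv F58675)) (tt N16523 (iv F55725)))
theorem Q16527 : ∀ i, i < 16527 → P i := stepQ 16526 Q16526 (allL N16526 (tt N16525 F55726) (tt N13983 F55727) (tt N16523 F55728) (tt N12210 F55729) (tt N14008 F55730) (tt N20017 D30370) (tt N12209 (iv D26815)))
theorem Q16528 : ∀ i, i < 16528 → P i := stepQ 16527 Q16527 (allL N16527 (tt N14842 F55731) (tt N18531 (iv F61884)) (tt N12211 F55732) (tt N20017 (iv F66389)) (tt N19664 (iv F65217)) (tt N12210 (iv D26816)) (tt N14840 F55733))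
theorem Q16529 : ∀ i, i < 16529 → P i := stepQ 16528 Q16528 (allL N16528 (tt N14651 F55734) (tt N17568 (iv F58962)) (tt N12216 (iv D26817)) (tt N17566 (iv F58958)) (tt N14640 F55735) (tt N14639 F55736) (tt N18486 (iv F61728)))
theorem Q16530 : ∀ i, i < 16530 → P i := stepQ 16529 Q16529 (allL N16529 (tt N17442 (iv F58498)) (tt N16323 F55737) (tt N17501 (iv F58727)) (tt N12221 F55738) (tt N19586 (iv F64950)) (tt N12218 (iv D26818)) (tt N13417 F55739))
theorem Q16531 : ∀ i, i < 16531 → P i := stepQ 16530 Q16530 (allL N16530 (tt N16242 F55740) (tt N19900 (iv F65948)) (tt N16544 (iv F55791)) (tt N20018 D30371) (tt N12227 (iv D26819)) (tt N19908 (iv F65978)) (tt N20019 D30372))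
theorem Q16532 : ∀ i, i < 16532 → P i := stepQ 16531 Q16531 (allL N16531 (tt N16243 F55741) (tt N13323 (iv F55744)) (tt N16545 (iv F55793)) (tt N12229 F55742) (tt N20019 (iv F66395)) (tt N16245 F55743) (tt N12227 (iv D26820)))
theorem Q16533 : ∀ i, i < 16533 → P i := stepQ 16532 Q16532 (allL N16532 (tt N15281 F55745) (tt N18876 (iv F62773)) (tt N20020 D30373) (tt N12228 (iv D26821)) (tt N20018 (iv F66393)) (tt N18905 (iv F62864)) (tt N20021 D30374))
theorem Q16534 : ∀ i, i < 16534 → P i := stepQ 16533 Q16533 (allL N16533 (tt N15283 F55746) (tt N17651 (iv F59172)) (tt N12231 F55747) (tt N20021 (iv F66401)) (tt N12229 F55748) (tt N15292 F55749) (tt N12228 (iv D26822)))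
theorem Q16535 : ∀ i, i < 16535 → P i := stepQ 16534 Q16534 (allL N16534 (tt N18179 (iv F60810)) (tt N15866 F55750) (tt N15266 F55751) (tt N17482 (iv F58654)) (tt N12233 F55752) (tt N12232 (iv D26823)) (tt N15268 (iv F55753)))
theorem Q16536 : ∀ i, i < 16536 → P i := stepQ 16535 Q16535 (allL N16535 (tt N18177 (iv F60799)) (tt N14142 F55754) (tt N18879 (iv F62788)) (tt N17483 (iv F58659)) (tt N12234 F55755) (tt N18895 (iv F62827)) (tt N12232 (iv D26824)))
theorem Q16537 : ∀ i, i < 16537 → P i := stepQ 16536 Q16536 (allL N16536 (tt N15273 F55756) (tt N12235 (iv D26825)) (tt N12242 F55757) (tt N16200 F55758) (tt N15130 F55759) (tt N15273 (iv F55760)) (tt N15127 F55761))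
theorem Q16538 : ∀ i, i < 16538 → P i := stepQ 16537 Q16537 (allL N16537 (tt N16319 F55762) (tt N15128 F55763) (tt N12238 F55764) (tt N16201 F55765) (tt N15131 F55766) (tt N15847 F55767) (tt N12235 (iv D26826)))
theorem Q16539 : ∀ i, i < 16539 → P i := stepQ 16538 Q16538 (allL N16538 (tt N19541 (iv F64801)) (tt N16190 F55768) (tt N15131 F55769) (tt N19695 (iv F65295)) (tt N12238 F55770) (tt N15855 F55771) (tt N12236 (iv D26827)))
theorem Q16540 : ∀ i, i < 16540 → P i := stepQ 16539 Q16539 (allL N16539 (tt N13285 F55772) (tt N14744 F55773) (tt N19532 (iv F64764)) (tt N12240 F55774) (tt N19537 (iv F64789)) (tt N16362 F55775) (tt N12237 (iv D26828)))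
theorem Q16541 : ∀ i, i < 16541 → P i := stepQ 16540 Q16540 (allL N16540 (tt N12242 (iv D26829)) (tt N17415 (iv F58387)) (tt N15273 F55776) (tt N17475 (iv F58632)) (tt N15275 F55779) (tt N12242 F55777) (tt N15272 (iv F55778)))
theorem Q16542 : ∀ i, i < 16542 → P i := stepQ 16541 Q16541 (allL N16541 (tt N17475 (iv F58630)) (tt N12243 F55780) (tt N20022 D30375) (tt N12242 (iv D26830)) (tt N20023 D30376) (tt N17475 (iv F58633)) (tt N17473 F58626))
theorem Q16543 : ∀ i, i < 16543 → P i := stepQ 16542 Q16542 (allL N16542 (tt N15275 F55781) (tt N12244 F55782) (tt N15130 F55783) (tt N20024 D30377) (tt N12242 (iv D26831)) (tt N15275 F55784) (tt N15129 (iv F55785)))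
theorem Q16544 : ∀ i, i < 16544 → P i := stepQ 16543 Q16543 (allL N16543 (tt N15272 F55786) (tt N17440 (iv F58489)) (tt N15127 F55787) (tt N17473 (iv F58624)) (tt N15129 F55788) (tt N16543 F55789) (tt N12242 (iv D26832)))
theorem Q16545 : ∀ i, i < 16545 → P i := stepQ 16544 Q16544 (allL N16544 (tt N12249 F55790) (tt N20023 (iv F66406)) (tt N16530 F55791) (tt N20025 D30378) (tt N12243 (iv D26833)) (tt N17175 (iv F57723)) (tt N20026 D30379))
theorem Q16546 : ∀ i, i < 16546 → P i := stepQ 16545 Q16545 (allL N16545 (tt N12250 F55792) (tt N17407 (iv F58354)) (tt N16531 F55793) (tt N12245 F55794) (tt N20026 (iv F66415)) (tt N13343 F55795) (tt N12243 (iv D26834)))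
theorem Q16547 : ∀ i, i < 16547 → P i := stepQ 16546 Q16546 (allL N16546 (tt N12251 F55796) (tt N20024 (iv F66408)) (tt N20027 D30380) (tt N12244 (iv D26835)) (tt N20025 (iv F66412)) (tt N17103 (iv F57534)) (tt N20028 D30381))
theorem Q16548 : ∀ i, i < 16548 → P i := stepQ 16547 Q16547 (allL N16547 (tt N12252 F55797) (tt N19995 (iv F66306)) (tt N12247 F55798) (tt N20028 (iv F66421)) (tt N12245 F55799) (tt N13024 F55800) (tt N12244 (iv D26836)))
theorem Q16549 : ∀ i, i < 16549 → P i := stepQ 16548 Q16548 (allL N16548 (tt N20025 (iv F66411)) (tt N16611 (iv F56002)) (tt N20029 D30382) (tt N12249 (iv D26837)) (tt N12251 F55801) (tt N17105 (iv F57538)) (tt N20030 D30383))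
theorem Q16550 : ∀ i, i < 16550 → P i := stepQ 16549 Q16549 (allL N16549 (tt N20026 (iv F66413)) (tt N20031 D30384) (tt N19909 (iv F65980)) (tt N20030 (iv F66424)) (tt N12250 F55802) (tt N19911 (iv F65990)) (tt N12249 (iv D26838)))
theorem Q16551 : ∀ i, i < 16551 → P i := stepQ 16550 Q16550 (allL N16550 (tt N14886 F55805) (tt N12250 (iv D26839)) (tt N14885 (iv F55806)) (tt N12253 F55803) (tt N20031 (iv F66426)) (tt N14894 F55804) (tt N16613 (iv F56011)))
theorem Q16552 : ∀ i, i < 16552 → P i := stepQ 16551 Q16551 (allL N16551 (tt N20027 (iv F66417)) (tt N20032 D30385) (tt N12251 (iv D26840)) (tt N20033 D30386) (tt N20029 (iv F66423)) (tt N17104 (iv F57535)) (tt N20034 D30387))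
theorem Q16553 : ∀ i, i < 16553 → P i := stepQ 16552 Q16552 (allL N16552 (tt N20028 (iv F66420)) (tt N20035 D30388) (tt N20034 (iv F66433)) (tt N12252 F55807) (tt N20030 (iv F66425)) (tt N20036 D30389) (tt N12251 (iv D26841)))
theorem Q16554 : ∀ i, i < 16554 → P i := stepQ 16553 Q16553 (allL N16553 (tt N16959 (iv F57123)) (tt N12252 (iv D26842)) (tt N14036 F55808) (tt N20035 (iv F66434)) (tt N12253 F55809) (tt N17087 (iv F57485)) (tt N16617 (iv F56017)))
theorem Q16555 : ∀ i, i < 16555 → P i := stepQ 16554 Q16554 (allL N16554 (tt N13024 F55810) (tt N19966 (iv F66199)) (tt N12256 F55811) (tt N20036 (iv F66436)) (tt N12254 F55812) (tt N12252 (iv D26843)) (tt N13022 F55813))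
theorem Q16556 : ∀ i, i < 16556 → P i := stepQ 16555 Q16555 (allL N16555 (tt N18528 (iv F61874)) (tt N12255 (iv D26844)) (tt N16399 (iv F55816)) (tt N19733 (iv F65412)) (tt N12257 F55814) (tt N16396 F55815) (tt N17101 (iv F57529)))
theorem Q16557 : ∀ i, i < 16557 → P i := stepQ 16556 Q16556 (allL N16556 (tt N12980 (iv F55819)) (tt N12256 (iv D26845)) (tt N12979 (iv F55820)) (tt N19734 (iv F65414)) (tt N12258 F55817) (tt N14037 F55818) (tt N17229 (iv F57857)))
theorem Q16558 : ∀ i, i < 16558 → P i := stepQ 16557 Q16557 (allL N16557 (tt N12262 F55821) (tt N16593 (iv F55934)) (tt N12261 (iv D26846)) (tt N17405 (iv F58349)) (tt N19739 (iv F65431)) (tt N14038 F55822) (tt N16262 F55823))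
theorem Q16559 : ∀ i, i < 16559 → P i := stepQ 16558 Q16558 (allL N16558 (tt N16262 F55824) (tt N16592 (iv F55930)) (tt N12263 F55825) (tt N17406 (iv F58352)) (tt N19741 (iv F65438)) (tt N17883 (iv F59922)) (tt N12262 (iv D26847)))
theorem Q16560 : ∀ i, i < 16560 → P i := stepQ 16559 Q16559 (allL N16559 (tt N12267 F55826) (tt N19534 (iv F64773)) (tt N12264 (iv D26848)) (tt N18381 (iv F61459)) (tt N12616 F55827) (tt N14945 F55828) (tt N16803 (iv F56669)))
theorem Q16561 : ∀ i, i < 16561 → P i := stepQ 16560 Q16560 (allL N16560 (tt N18381 (iv F61456)) (tt N14484 F55829) (tt N18080 (iv F60519)) (tt N12267 (iv D26849)) (tt N14757 F55830) (tt N18169 (iv F60772)) (tt N14487 F55831))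
theorem Q16562 : ∀ i, i < 16562 → P i := stepQ 16561 Q16561 (allL N16561 (tt N14945 F55832) (tt N20037 D30390) (tt N12268 F55833) (tt N18169 (iv F60770)) (tt N14946 F55834) (tt N12267 (iv D26850)) (tt N14943 F55835))
theorem Q16563 : ∀ i, i < 16563 → P i := stepQ 16562 Q16562 (allL N16562 (tt N14944 F55836) (tt N12618 F55837) (tt N14943 F55838) (tt N12270 F55839) (tt N12783 F55840) (tt N12689 F55841) (tt N12268 (iv D26851)))
theorem Q16564 : ∀ i, i < 16564 → P i := stepQ 16563 Q16563 (allL N16563 (tt N14681 F55842) (tt N17596 (iv F59033)) (tt N12275 (iv D26852)) (tt N17594 (iv F59029)) (tt N14670 F55843) (tt N18513 (iv F61833)) (tt N14668 F55844))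
theorem Q16565 : ∀ i, i < 16565 → P i := stepQ 16564 Q16564 (allL N16564 (tt N17467 (iv F58594)) (tt N16467 F55845) (tt N17506 (iv F58748)) (tt N12280 F55846) (tt N19371 (iv F64186)) (tt N13469 F55847) (tt N12277 (iv D26853)))
theorem Q16566 : ∀ i, i < 16566 → P i := stepQ 16565 Q16565 (allL N16565 (tt N16212 F55848) (tt N19913 (iv F65995)) (tt N16579 (iv F55899)) (tt N20038 D30391) (tt N12286 (iv D26854)) (tt N20039 D30392) (tt N19895 F65932))
theorem Q16567 : ∀ i, i < 16567 → P i := stepQ 16566 Q16566 (allL N16566 (tt N16213 F55849) (tt N13378 (iv F55852)) (tt N16580 (iv F55901)) (tt N12288 F55850) (tt N20039 (iv F66445)) (tt N12286 (iv D26855)) (tt N16215 F55851))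
theorem Q16568 : ∀ i, i < 16568 → P i := stepQ 16567 Q16567 (allL N16567 (tt N15228 F55853) (tt N18931 (iv F62935)) (tt N20040 D30393) (tt N12287 (iv D26856)) (tt N20038 (iv F66443)) (tt N20041 D30394) (tt N18850 F62712))
theorem Q16569 : ∀ i, i < 16569 → P i := stepQ 16568 Q16568 (allL N16568 (tt N15229 F55854) (tt N17721 (iv F59388)) (tt N12289 F55855) (tt N20041 (iv F66451)) (tt N12288 F55856) (tt N12287 (iv D26857)) (tt N15239 F55857))
theorem Q16570 : ∀ i, i < 16570 → P i := stepQ 16569 Q16569 (allL N16569 (tt N18125 (iv F60643)) (tt N14150 F55858) (tt N18934 (iv F62948)) (tt N17492 (iv F58694)) (tt N12292 F55859) (tt N12291 (iv D26858)) (tt N18949 (iv F62992)))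
theorem Q16571 : ∀ i, i < 16571 → P i := stepQ 16570 Q16570 (allL N16570 (tt N18127 (iv F60654)) (tt N15632 F55860) (tt N15319 F55861) (tt N17491 (iv F58689)) (tt N12293 F55862) (tt N15321 (iv F55863)) (tt N12291 (iv D26859)))
theorem Q16572 : ∀ i, i < 16572 → P i := stepQ 16571 Q16571 (allL N16571 (tt N15220 F55864) (tt N12294 (iv D26860)) (tt N12301 F55865) (tt N16195 F55866) (tt N15118 F55867) (tt N15115 (iv F55868)) (tt N15220 (iv F55869)))
theorem Q16573 : ∀ i, i < 16573 → P i := stepQ 16572 Q16572 (allL N16572 (tt N16466 F55870) (tt N15116 F55871) (tt N12296 F55872) (tt N16196 F55873) (tt N15119 F55874) (tt N12294 (iv D26861)) (tt N15613 F55875))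
theorem Q16574 : ∀ i, i < 16574 → P i := stepQ 16573 Q16573 (allL N16573 (tt N19314 (iv F64018)) (tt N16193 F55876) (tt N15119 F55877) (tt N19789 (iv F65578)) (tt N12296 F55878) (tt N12295 (iv D26862)) (tt N15621 F55879))
theorem Q16575 : ∀ i, i < 16575 → P i := stepQ 16574 Q16574 (allL N16574 (tt N13349 F55880) (tt N14765 F55881) (tt N19304 (iv F63976)) (tt N12300 F55882) (tt N19309 (iv F64001)) (tt N12297 (iv D26863)) (tt N16499 F55883))
theorem Q16576 : ∀ i, i < 16576 → P i := stepQ 16575 Q16575 (allL N16575 (tt N12301 (iv D26864)) (tt N17429 (iv F58447)) (tt N15220 F55884) (tt N17450 (iv F58534)) (tt N15222 (iv F55886)) (tt N15219 F55885) (tt N12301 F55887))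
theorem Q16577 : ∀ i, i < 16577 → P i := stepQ 16576 Q16576 (allL N16576 (tt N17450 (iv F58532)) (tt N12302 F55888) (tt N20042 D30395) (tt N12301 (iv D26865)) (tt N20043 D30396) (tt N17448 (iv F58528)) (tt N17450 (iv F58535)))
theorem Q16578 : ∀ i, i < 16578 → P i := stepQ 16577 Q16577 (allL N16577 (tt N15222 F55889) (tt N12303 F55890) (tt N15118 F55891) (tt N20044 D30397) (tt N12301 (iv D26866)) (tt N15117 (iv F55893)) (tt N15222 F55892))
theorem Q16579 : ∀ i, i < 16579 → P i := stepQ 16578 Q16578 (allL N16578 (tt N15219 F55894) (tt N17465 (iv F58585)) (tt N15115 F55895) (tt N17448 (iv F58526)) (tt N15117 F55896) (tt N12301 (iv D26867)) (tt N16578 F55897))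
theorem Q16580 : ∀ i, i < 16580 → P i := stepQ 16579 Q16579 (allL N16579 (tt N12308 F55898) (tt N20043 (iv F66456)) (tt N16565 F55899) (tt N20045 D30398) (tt N12302 (iv D26868)) (tt N20046 D30399) (tt N17092 (iv F57502)))
theorem Q16581 : ∀ i, i < 16581 → P i := stepQ 16580 Q16580 (allL N16580 (tt N12309 F55900) (tt N17425 (iv F58427)) (tt N16566 F55901) (tt N12304 F55902) (tt N20046 (iv F66465)) (tt N12302 (iv D26869)) (tt N13318 F55903))
theorem Q16582 : ∀ i, i < 16582 → P i := stepQ 16581 Q16581 (allL N16581 (tt N12310 F55904) (tt N20044 (iv F66458)) (tt N20047 D30400) (tt N12303 (iv D26870)) (tt N20045 (iv F66462)) (tt N20048 D30401) (tt N17183 (iv F57742)))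
theorem Q16583 : ∀ i, i < 16583 → P i := stepQ 16582 Q16582 (allL N16582 (tt N12311 F55905) (tt N19936 (iv F66083)) (tt N12305 F55906) (tt N20048 (iv F66471)) (tt N12304 F55907) (tt N12303 (iv D26871)) (tt N13095 F55908))
theorem Q16584 : ∀ i, i < 16584 → P i := stepQ 16583 Q16583 (allL N16583 (tt N20045 (iv F66461)) (tt N16630 (iv F56064)) (tt N20049 D30402) (tt N12308 (iv D26872)) (tt N12310 F55909) (tt N20050 D30403) (tt N17091 (iv F57499)))
theorem Q16585 : ∀ i, i < 16585 → P i := stepQ 16584 Q16584 (allL N16584 (tt N20046 (iv F66463)) (tt N20051 D30404) (tt N19896 (iv F65933)) (tt N20050 (iv F66474)) (tt N12309 F55910) (tt N12308 (iv D26873)) (tt N19898 (iv F65944)))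
theorem Q16586 : ∀ i, i < 16586 → P i := stepQ 16585 Q16585 (allL N16585 (tt N14854 (iv F55913)) (tt N12309 (iv D26874)) (tt N14853 (iv F55914)) (tt N12312 F55911) (tt N20051 (iv F66476)) (tt N16609 (iv F55997)) (tt N14863 F55912))
theorem Q16587 : ∀ i, i < 16587 → P i := stepQ 16586 Q16586 (allL N16586 (tt N20047 (iv F66467)) (tt N20052 D30405) (tt N12310 (iv D26875)) (tt N20053 D30406) (tt N20049 (iv F66473)) (tt N20054 D30407) (tt N17184 (iv F57743)))
theorem Q16588 : ∀ i, i < 16588 → P i := stepQ 16587 Q16587 (allL N16587 (tt N20048 (iv F66470)) (tt N20055 D30408) (tt N20054 (iv F66483)) (tt N12311 F55915) (tt N20050 (iv F66475)) (tt N12310 (iv D26876)) (tt N20056 D30409))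
theorem Q16589 : ∀ i, i < 16589 → P i := stepQ 16588 Q16588 (allL N16588 (tt N16944 (iv F57084)) (tt N12311 (iv D26877)) (tt N14093 F55916) (tt N20055 (iv F66484)) (tt N12312 F55917) (tt N16634 (iv F56075)) (tt N17171 (iv F57708)))
theorem Q16590 : ∀ i, i < 16590 → P i := stepQ 16589 Q16589 (allL N16589 (tt N13095 F55918) (tt N19955 (iv F66154)) (tt N12314 F55919) (tt N20056 (iv F66486)) (tt N12313 F55920) (tt N13093 F55921) (tt N12311 (iv D26878)))
theorem Q16591 : ∀ i, i < 16591 → P i := stepQ 16590 Q16590 (allL N16590 (tt N13055 (iv F55924)) (tt N12314 (iv D26879)) (tt N13054 (iv F55925)) (tt N19827 (iv F65695)) (tt N12316 F55922) (tt N17305 (iv F58036)) (tt N14094 F55923))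
theorem Q16592 : ∀ i, i < 16592 → P i := stepQ 16591 Q16591 (allL N16591 (tt N18530 (iv F61881)) (tt N12315 (iv D26880)) (tt N16379 (iv F55928)) (tt N19828 (iv F65699)) (tt N12317 F55926) (tt N17181 (iv F57736)) (tt N16365 F55927))
theorem Q16593 : ∀ i, i < 16593 → P i := stepQ 16592 Q16592 (allL N16592 (tt N12319 F55929) (tt N16558 F55930) (tt N12318 (iv D26881)) (tt N17423 (iv F58418)) (tt N19833 (iv F65718)) (tt N16233 F55931) (tt N14095 F55932))
theorem Q16594 : ∀ i, i < 16594 → P i := stepQ 16593 Q16593 (allL N16593 (tt N16233 F55933) (tt N16557 F55934) (tt N12320 F55935) (tt N17424 (iv F58424)) (tt N19835 (iv F65726)) (tt N12319 (iv D26882)) (tt N17889 (iv F59948)))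
theorem Q16595 : ∀ i, i < 16595 → P i := stepQ 16594 Q16594 (allL N16594 (tt N12326 F55936) (tt N19307 (iv F63990)) (tt N12323 (iv D26883)) (tt N18443 (iv F61609)) (tt N12610 F55937) (tt N16829 (iv F56743)) (tt N14993 F55938))
theorem Q16596 : ∀ i, i < 16596 → P i := stepQ 16595 Q16595 (allL N16595 (tt N18443 (iv F61606)) (tt N14533 F55939) (tt N18134 (iv F60681)) (tt N12326 (iv D26884)) (tt N14778 F55940) (tt N14536 F55941) (tt N18115 (iv F60610)))
theorem Q16597 : ∀ i, i < 16597 → P i := stepQ 16596 Q16596 (allL N16596 (tt N14993 F55942) (tt N20057 D30410) (tt N12328 F55943) (tt N18115 (iv F60608)) (tt N14994 F55944) (tt N14991 (iv F55945)) (tt N12326 (iv D26885)))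
theorem Q16598 : ∀ i, i < 16598 → P i := stepQ 16597 Q16597 (allL N16597 (tt N14992 F55946) (tt N12620 F55947) (tt N14991 F55948) (tt N12330 F55949) (tt N12808 F55950) (tt N12328 (iv D26886)) (tt N12718 F55951))
theorem Q16599 : ∀ i, i < 16599 → P i := stepQ 16598 Q16598 (allL N16598 (tt N12332 F55952) (tt N13681 F55953) (tt N13587 F55954) (tt N14736 F55955) (tt N13504 F55956) (tt N12331 (iv D26887)) (tt N14908 F55957))
theorem Q16600 : ∀ i, i < 16600 → P i := stepQ 16599 Q16599 (allL N16599 (tt N16005 F55958) (tt N12339 F55959) (tt N15637 F55960) (tt N12464 F55961) (tt N12337 (iv D26888)) (tt N16004 F55962) (tt N16005 F55963))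
theorem Q16601 : ∀ i, i < 16601 → P i := stepQ 16600 Q16600 (allL N16600 (tt N16600 F55964) (tt N12341 (iv D26889)) (tt N14737 F55965) (tt N14738 F55966) (tt N14947 F55967) (tt N18596 (iv F62121)) (tt N14737 F55968))
theorem Q16602 : ∀ i, i < 16602 → P i := stepQ 16601 Q16601 (allL N16601 (tt N16061 F55969) (tt N15672 F55970) (tt N12343 F55971) (tt N20058 D30411) (tt N12342 (iv D26890)) (tt N14293 F55972) (tt N18382 (iv F61465)))
theorem Q16603 : ∀ i, i < 16603 → P i := stepQ 16602 Q16602 (allL N16602 (tt N18169 (iv F60769)) (tt N17937 F60130) (tt N18382 (iv F61463)) (tt N14945 F55973) (tt N12344 F55974) (tt N18381 F61460) (tt N12343 (iv D26891)))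
theorem Q16604 : ∀ i, i < 16604 → P i := stepQ 16603 Q16603 (allL N16603 (tt N16848 (iv F56790)) (tt N16271 F55975) (tt N16855 (iv F56822)) (tt N12354 F55976) (tt N14380 F55977) (tt N12751 F55978) (tt N12353 (iv D26892)))
theorem Q16605 : ∀ i, i < 16605 → P i := stepQ 16604 Q16604 (allL N16604 (tt N20001 (iv F66327)) (tt N12358 F55979) (tt N16491 F55980) (tt N20059 D30412) (tt N12357 (iv D26893)) (tt N16483 F55981) (tt N19997 (iv F66317)))
theorem Q16606 : ∀ i, i < 16606 → P i := stepQ 16605 Q16605 (allL N16605 (tt N12368 F55982) (tt N20059 (iv F66497)) (tt N20060 D30413) (tt N12358 (iv D26894)) (tt N16618 (iv F56019)) (tt N20061 D30414) (tt N20062 D30415))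
theorem Q16607 : ∀ i, i < 16607 → P i := stepQ 16606 Q16606 (allL N16606 (tt N12369 F55983) (tt N20063 D30416) (tt N12362 F55984) (tt N20061 (iv F66502)) (tt N12359 F55985) (tt N12358 (iv D26895)) (tt N12412 F55986))
theorem Q16608 : ∀ i, i < 16608 → P i := stepQ 16607 Q16607 (allL N16607 (tt N12370 F55987) (tt N20064 D30417) (tt N12363 F55988) (tt N20062 (iv F66505)) (tt N12360 F55989) (tt N12407 F55990) (tt N12358 (iv D26896)))
theorem Q16609 : ∀ i, i < 16609 → P i := stepQ 16608 Q16608 (allL N16608 (tt N16608 F55991) (tt N12359 (iv D26897)) (tt N16489 F55992) (tt N16620 (iv F56026)) (tt N20063 (iv F66510)) (tt N16485 F55993) (tt N16489 F55994))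
theorem Q16610 : ∀ i, i < 16610 → P i := stepQ 16609 Q16609 (allL N16609 (tt N17426 (iv F58431)) (tt N12360 (iv D26898)) (tt N14871 F55995) (tt N12411 F55996) (tt N20064 (iv F66514)) (tt N16585 F55997) (tt N14869 F55998))
theorem Q16611 : ∀ i, i < 16611 → P i := stepQ 16610 Q16610 (allL N16610 (tt N13931 F56001) (tt N12363 (iv D26899)) (tt N17605 (iv F59053)) (tt N16629 (iv F56061)) (tt N12364 F55999) (tt N16776 (iv F56589)) (tt N12677 F56000))
theorem Q16612 : ∀ i, i < 16612 → P i := stepQ 16611 Q16611 (allL N16611 (tt N16618 (iv F56018)) (tt N16548 F56002) (tt N20065 D30418) (tt N12366 (iv D26900)) (tt N12368 F56003) (tt N16633 F56072) (tt N20066 D30419))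
theorem Q16613 : ∀ i, i < 16613 → P i := stepQ 16612 Q16612 (allL N16612 (tt N12409 F56004) (tt N20067 D30420) (tt N12404 F56005) (tt N20066 (iv F66520)) (tt N12367 F56006) (tt N12403 (iv F56007)) (tt N12366 (iv D26901)))
theorem Q16614 : ∀ i, i < 16614 → P i := stepQ 16613 Q16613 (allL N16613 (tt N17410 (iv F58366)) (tt N12367 (iv D26902)) (tt N14900 F56008) (tt N12371 F56009) (tt N20067 (iv F66524)) (tt N14898 F56010) (tt N16550 F56011))
theorem Q16615 : ∀ i, i < 16615 → P i := stepQ 16614 Q16614 (allL N16614 (tt N20060 (iv F66500)) (tt N20068 D30421) (tt N12368 (iv D26903)) (tt N20065 (iv F66518)) (tt N20065 (iv F66517)) (tt N20069 D30422) (tt N20070 D30423))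
theorem Q16616 : ∀ i, i < 16616 → P i := stepQ 16615 Q16615 (allL N16615 (tt N20061 (iv F66501)) (tt N13026 F56012) (tt N20069 (iv F66528)) (tt N12369 F56013) (tt N16633 (iv F56071)) (tt N12368 (iv D26904)) (tt N16630 (iv F56066)))
theorem Q16617 : ∀ i, i < 16617 → P i := stepQ 16616 Q16616 (allL N16616 (tt N20062 (iv F66504)) (tt N20071 D30424) (tt N20070 (iv F66529)) (tt N12370 F56014) (tt N20066 (iv F66521)) (tt N16635 (iv F56078)) (tt N12368 (iv D26905)))
theorem Q16618 : ∀ i, i < 16618 → P i := stepQ 16617 Q16617 (allL N16617 (tt N17086 (iv F57479)) (tt N12370 (iv D26906)) (tt N12507 F56015) (tt N20071 (iv F66530)) (tt N12371 F56016) (tt N17083 (iv F57475)) (tt N16553 F56017))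
theorem Q16619 : ∀ i, i < 16619 → P i := stepQ 16618 Q16618 (allL N16618 (tt N16611 F56018) (tt N18561 (iv F61998)) (tt N20072 D30425) (tt N12372 (iv D26907)) (tt N16605 F56019) (tt N20073 D30426) (tt N16632 F56068))
theorem Q16620 : ∀ i, i < 16620 → P i := stepQ 16619 Q16619 (allL N16619 (tt N12410 F56020) (tt N20074 D30427) (tt N12373 F56021) (tt N20073 (iv F66536)) (tt N12375 F56022) (tt N12372 (iv D26908)) (tt N12403 F56023))
theorem Q16621 : ∀ i, i < 16621 → P i := stepQ 16620 Q16620 (allL N16620 (tt N16620 F56024) (tt N12375 (iv D26909)) (tt N16349 F56025) (tt N16608 F56026) (tt N20074 (iv F66541)) (tt N16349 F56027) (tt N16343 F56028))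
theorem Q16622 : ∀ i, i < 16622 → P i := stepQ 16621 Q16621 (allL N16621 (tt N12379 F56029) (tt N13690 F56030) (tt N13562 F56031) (tt N14717 F56032) (tt N13528 F56033) (tt N14956 F56034) (tt N12377 (iv D26910)))
theorem Q16623 : ∀ i, i < 16623 → P i := stepQ 16622 Q16622 (allL N16622 (tt N16081 F56035) (tt N12385 F56036) (tt N15871 F56037) (tt N12498 F56038) (tt N12383 (iv D26911)) (tt N16081 F56039) (tt N16080 F56040))
theorem Q16624 : ∀ i, i < 16624 → P i := stepQ 16623 Q16623 (allL N16623 (tt N16623 F56041) (tt N12386 (iv D26912)) (tt N14718 F56042) (tt N14719 F56043) (tt N14995 F56044) (tt N14718 F56045) (tt N18585 (iv F62080)))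
theorem Q16625 : ∀ i, i < 16625 → P i := stepQ 16624 Q16624 (allL N16624 (tt N16140 F56046) (tt N15902 F56047) (tt N12389 F56048) (tt N20075 D30428) (tt N12388 (iv D26913)) (tt N18444 (iv F61615)) (tt N14347 F56049))
theorem Q16626 : ∀ i, i < 16626 → P i := stepQ 16625 Q16625 (allL N16625 (tt N18115 (iv F60607)) (tt N17947 F60172) (tt N18444 (iv F61613)) (tt N14993 F56050) (tt N12390 F56051) (tt N12389 (iv D26914)) (tt N18443 F61610))
theorem Q16627 : ∀ i, i < 16627 → P i := stepQ 16626 Q16626 (allL N16626 (tt N16850 (iv F56799)) (tt N16426 F56052) (tt N16864 (iv F56857)) (tt N12400 F56053) (tt N14325 F56054) (tt N12399 (iv D26915)) (tt N12755 F56055))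
theorem Q16628 : ∀ i, i < 16628 → P i := stepQ 16627 Q16627 (allL N16627 (tt N19943 (iv F66108)) (tt N12403 F56056) (tt N16351 F56057) (tt N20076 D30429) (tt N12402 (iv D26916)) (tt N19938 (iv F66094)) (tt N16341 F56058))
theorem Q16629 : ∀ i, i < 16629 → P i := stepQ 16628 Q16628 (allL N16628 (tt N12408 F56059) (tt N20076 (iv F66549)) (tt N20077 D30430) (tt N12403 (iv D26917)) (tt N16635 (iv F56077)) (tt N20066 F66522) (tt N20073 (iv F66538)))
theorem Q16630 : ∀ i, i < 16630 → P i := stepQ 16629 Q16629 (allL N16629 (tt N13934 F56060) (tt N12404 (iv D26918)) (tt N17577 (iv F58982)) (tt N16610 F56061) (tt N12405 F56062) (tt N12706 F56063) (tt N16771 (iv F56566)))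
theorem Q16631 : ∀ i, i < 16631 → P i := stepQ 16630 Q16630 (allL N16630 (tt N16635 (iv F56076)) (tt N16583 F56064) (tt N20078 D30431) (tt N12407 (iv D26919)) (tt N12408 F56065) (tt N20062 (iv F66507)) (tt N16615 F56066))
theorem Q16632 : ∀ i, i < 16632 → P i := stepQ 16631 Q16631 (allL N16631 (tt N20077 (iv F66552)) (tt N20079 D30432) (tt N12408 (iv D26920)) (tt N20078 (iv F66555)) (tt N20078 (iv F66553)) (tt N20080 D30433) (tt N20081 D30434))
theorem Q16633 : ∀ i, i < 16633 → P i := stepQ 16632 Q16632 (allL N16632 (tt N20066 (iv F66519)) (tt N20082 D30435) (tt N20080 (iv F66557)) (tt N12409 F56067) (tt N20062 (iv F66506)) (tt N12408 (iv D26921)) (tt N16618 (iv F56068)))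
theorem Q16634 : ∀ i, i < 16634 → P i := stepQ 16633 Q16633 (allL N16633 (tt N20073 (iv F66535)) (tt N13096 F56069) (tt N20081 (iv F66559)) (tt N12410 F56070) (tt N16615 F56071) (tt N16611 (iv F56072)) (tt N12408 (iv D26922)))
theorem Q16635 : ∀ i, i < 16635 → P i := stepQ 16634 Q16634 (allL N16634 (tt N17172 (iv F57709)) (tt N12409 (iv D26923)) (tt N12508 F56073) (tt N20082 (iv F66563)) (tt N12411 F56074) (tt N16588 F56075) (tt N17168 (iv F57702)))
theorem Q16636 : ∀ i, i < 16636 → P i := stepQ 16635 Q16635 (allL N16635 (tt N16630 F56076) (tt N18575 (iv F62045)) (tt N20083 D30436) (tt N12412 (iv D26924)) (tt N16628 F56077) (tt N16616 F56078) (tt N20061 (iv F66503)))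
theorem Q16637 : ∀ i, i < 16637 → P i := stepQ 16636 Q16636 (allL N16636 (tt N12468 F56079) (tt N12419 F56080) (tt N13705 F56081) (tt N12438 F56082) (tt N12438 F56083) (tt N12414 (iv D26925)) (tt N12438 F56084))
theorem Q16638 : ∀ i, i < 16638 → P i := stepQ 16637 Q16637 (allL N16637 (tt N14915 F56085) (tt N12415 (iv D26926)) (tt N14914 F56086) (tt N17846 (iv F59791)) (tt N12440 F56087) (tt N15007 F56088) (tt N13512 F56089))
theorem Q16639 : ∀ i, i < 16639 → P i := stepQ 16638 Q16638 (allL N16638 (tt N18167 (iv F60760)) (tt N15901 F56090) (tt N13757 F56091) (tt N12443 F56092) (tt N12416 (iv D26927)) (tt N12421 F56093) (tt N13756 F56094))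
theorem Q16640 : ∀ i, i < 16640 → P i := stepQ 16639 Q16639 (allL N16639 (tt N12418 F56095) (tt N13500 F56096) (tt N12417 (iv D26928)) (tt N13711 F56097) (tt N12444 F56098) (tt N12482 F56099) (tt N12473 F56100))
theorem Q16641 : ∀ i, i < 16641 → P i := stepQ 16640 Q16640 (allL N16640 (tt N12423 (iv D26929)) (tt N12435 F56101) (tt N13707 F56102) (tt N12458 F56103) (tt N12458 F56104) (tt N12458 F56105) (tt N12428 F56106))
theorem Q16642 : ∀ i, i < 16642 → P i := stepQ 16641 Q16641 (allL N16641 (tt N16659 (iv F56183)) (tt N13760 F56107) (tt N16792 (iv F56629)) (tt N13756 F56108) (tt N12425 F56109) (tt N12424 (iv D26930)) (tt N12443 F56110))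
theorem Q16643 : ∀ i, i < 16643 → P i := stepQ 16642 Q16642 (allL N16642 (tt N14962 F56111) (tt N12429 (iv D26931)) (tt N14961 F56112) (tt N17836 (iv F59750)) (tt N12476 F56113) (tt N13536 F56114) (tt N15019 F56115))
theorem Q16644 : ∀ i, i < 16644 → P i := stepQ 16643 Q16643 (allL N16643 (tt N18113 (iv F60598)) (tt N15671 F56116) (tt N13732 F56117) (tt N12479 F56118) (tt N12430 (iv D26932)) (tt N13731 F56119) (tt N12466 F56120))
theorem Q16645 : ∀ i, i < 16645 → P i := stepQ 16644 Q16644 (allL N16644 (tt N12434 F56121) (tt N13524 F56122) (tt N12433 F56123) (tt N13710 F56124) (tt N12480 F56125) (tt N12432 (iv D26933)) (tt N12446 F56126))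
theorem Q16646 : ∀ i, i < 16646 → P i := stepQ 16645 Q16645 (allL N16645 (tt N14907 F56127) (tt N12437 (iv D26934)) (tt N12440 F56128) (tt N13588 F56129) (tt N14914 F56130) (tt N14925 F56131) (tt N13510 F56132))
theorem Q16647 : ∀ i, i < 16647 → P i := stepQ 16646 Q16646 (allL N16646 (tt N12440 (iv D26935)) (tt N13955 F56133) (tt N14907 F56134) (tt N16232 (iv F56138)) (tt N14915 F56135) (tt N14852 F56137) (tt N13509 F56136))
theorem Q16648 : ∀ i, i < 16648 → P i := stepQ 16647 Q16647 (allL N16647 (tt N16232 F56139) (tt N12441 F56140) (tt N16231 F56141) (tt N12440 (iv D26936)) (tt N20084 D30437) (tt N20085 D30438) (tt N13511 F56142))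
theorem Q16649 : ∀ i, i < 16649 → P i := stepQ 16648 Q16648 (allL N16648 (tt N14852 F56143) (tt N12449 F56144) (tt N14925 F56145) (tt N20085 (iv F66576)) (tt N15007 F56146) (tt N12440 (iv D26937)) (tt N15006 F56147))
theorem Q16650 : ∀ i, i < 16650 → P i := stepQ 16649 Q16649 (allL N16649 (tt N12443 F56148) (tt N20084 (iv F66570)) (tt N17840 (iv F59768)) (tt N18167 (iv F60762)) (tt N12441 (iv D26938)) (tt N12452 F56149) (tt N16659 (iv F56187)))
theorem Q16651 : ∀ i, i < 16651 → P i := stepQ 16650 Q16650 (allL N16650 (tt N17840 (iv F59766)) (tt N20007 (iv F66353)) (tt N12443 F56150) (tt N20086 D30439) (tt N12442 (iv D26939)) (tt N12453 F56151) (tt N16792 (iv F56633)))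
theorem Q16652 : ∀ i, i < 16652 → P i := stepQ 16651 Q16651 (allL N16651 (tt N12462 F56152) (tt N12447 (iv D26940)) (tt N14173 F56153) (tt N17431 (iv F58458)) (tt N13609 F56154) (tt N20087 D30440) (tt N16651 F56155))
theorem Q16653 : ∀ i, i < 16653 → P i := stepQ 16652 Q16652 (allL N16652 (tt N13635 F56156) (tt N12452 F56157) (tt N17191 (iv F57760)) (tt N13633 F56158) (tt N12448 (iv D26941)) (tt N20088 D30441) (tt N18173 (iv F60786)))
theorem Q16654 : ∀ i, i < 16654 → P i := stepQ 16653 Q16653 (allL N16653 (tt N17395 (iv F58312)) (tt N20085 (iv F66574)) (tt N16275 F56159) (tt N12449 F56160) (tt N20088 (iv F66588)) (tt N12448 (iv D26942)) (tt N16274 F56161))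
theorem Q16655 : ∀ i, i < 16655 → P i := stepQ 16654 Q16654 (allL N16654 (tt N13673 F56162) (tt N13504 F56163) (tt N13672 F56164) (tt N19924 (iv F66033)) (tt N13681 F56165) (tt N12450 (iv D26943)) (tt N14007 F56166))
theorem Q16656 : ∀ i, i < 16656 → P i := stepQ 16655 Q16655 (allL N16655 (tt N13348 F56167) (tt N12451 (iv D26944)) (tt N14059 F56168) (tt N14729 F56169) (tt N20089 D30442) (tt N14823 F56170) (tt N12790 F56171))
theorem Q16657 : ∀ i, i < 16657 → P i := stepQ 16656 Q16656 (allL N16656 (tt N12453 F56172) (tt N20089 (iv F66591)) (tt N12452 F56173) (tt N20090 D30443) (tt N12451 (iv D26945)) (tt N17840 (iv F59770)) (tt N14728 F56174))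
theorem Q16658 : ∀ i, i < 16658 → P i := stepQ 16657 Q16657 (allL N16657 (tt N20090 (iv F66595)) (tt N18251 (iv F61002)) (tt N20091 D30444) (tt N12453 (iv D26946)) (tt N14370 F56175) (tt N20086 (iv F66579)) (tt N14367 F56176))
theorem Q16659 : ∀ i, i < 16659 → P i := stepQ 16658 Q16658 (allL N16658 (tt N12464 F56177) (tt N12454 (iv D26947)) (tt N12500 F56178) (tt N16005 F56179) (tt N12455 F56180) (tt N12499 (iv F56182)) (tt N12464 F56181))
theorem Q16660 : ∀ i, i < 16660 → P i := stepQ 16659 Q16659 (allL N16659 (tt N16641 F56183) (tt N12538 F56184) (tt N13959 F56185) (tt N17603 F59048) (tt N12456 F56186) (tt N12454 (iv D26948)) (tt N16649 F56187))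
theorem Q16661 : ∀ i, i < 16661 → P i := stepQ 16660 Q16660 (allL N16660 (tt N20087 (iv F66580)) (tt N17873 F59883) (tt N17517 (iv F58792)) (tt N18600 (iv F62130)) (tt N17941 (iv F60148)) (tt N12462 (iv D26949)) (tt N20087 (iv F66584)))
theorem Q16662 : ∀ i, i < 16662 → P i := stepQ 16661 Q16661 (allL N16661 (tt N14017 F56188) (tt N12463 (iv D26950)) (tt N13984 F56189) (tt N17454 (iv F58543)) (tt N14012 F56190) (tt N17873 (iv F59882)) (tt N14014 F56191))
theorem Q16663 : ∀ i, i < 16663 → P i := stepQ 16662 Q16662 (allL N16662 (tt N16677 (iv F56252)) (tt N13735 F56192) (tt N16818 (iv F56704)) (tt N13731 F56193) (tt N12470 F56194) (tt N12479 F56195) (tt N12469 (iv D26951)))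
theorem Q16664 : ∀ i, i < 16664 → P i := stepQ 16663 Q16663 (allL N16663 (tt N14955 F56196) (tt N12474 (iv D26952)) (tt N12476 F56197) (tt N13563 F56198) (tt N14961 F56199) (tt N13534 F56200) (tt N14973 F56201))
theorem Q16665 : ∀ i, i < 16665 → P i := stepQ 16664 Q16664 (allL N16664 (tt N12476 (iv D26953)) (tt N13975 F56202) (tt N14955 F56203) (tt N16261 (iv F56206)) (tt N14962 F56204) (tt N13533 F56205) (tt N14884 (iv F56207)))
theorem Q16666 : ∀ i, i < 16666 → P i := stepQ 16665 Q16665 (allL N16665 (tt N16261 F56208) (tt N12477 F56209) (tt N16260 F56210) (tt N12476 (iv D26954)) (tt N20092 D30445) (tt N13535 F56211) (tt N20093 D30446))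
theorem Q16667 : ∀ i, i < 16667 → P i := stepQ 16666 Q16666 (allL N16666 (tt N14884 F56212) (tt N12486 F56213) (tt N14973 F56214) (tt N20093 (iv F66609)) (tt N15019 F56215) (tt N15018 F56216) (tt N12476 (iv D26955)))
theorem Q16668 : ∀ i, i < 16668 → P i := stepQ 16667 Q16667 (allL N16667 (tt N12479 F56217) (tt N20092 (iv F66603)) (tt N17830 (iv F59727)) (tt N18113 (iv F60600)) (tt N12477 (iv D26956)) (tt N16677 (iv F56256)) (tt N12488 F56218))
theorem Q16669 : ∀ i, i < 16669 → P i := stepQ 16668 Q16668 (allL N16668 (tt N17830 (iv F59725)) (tt N19948 (iv F66127)) (tt N12479 F56219) (tt N20094 D30447) (tt N12478 (iv D26957)) (tt N16818 F56707) (tt N12489 F56220))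
theorem Q16670 : ∀ i, i < 16670 → P i := stepQ 16669 Q16669 (allL N16669 (tt N12496 F56221) (tt N12483 (iv D26958)) (tt N14194 F56222) (tt N17459 (iv F58566)) (tt N13613 F56223) (tt N16669 F56224) (tt N20095 D30448))
theorem Q16671 : ∀ i, i < 16671 → P i := stepQ 16670 Q16670 (allL N16670 (tt N13644 F56225) (tt N12488 F56226) (tt N17267 (iv F57936)) (tt N13642 F56227) (tt N12484 (iv D26959)) (tt N18119 (iv F60624)) (tt N20096 D30449))
theorem Q16672 : ∀ i, i < 16672 → P i := stepQ 16671 Q16671 (allL N16671 (tt N17391 (iv F58298)) (tt N20093 (iv F66607)) (tt N16430 F56228) (tt N12486 F56229) (tt N20096 (iv F66621)) (tt N16429 F56230) (tt N12484 (iv D26960)))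
theorem Q16673 : ∀ i, i < 16673 → P i := stepQ 16672 Q16672 (allL N16672 (tt N13676 F56231) (tt N13528 F56232) (tt N13675 F56233) (tt N19985 (iv F66268)) (tt N13690 F56234) (tt N13988 F56235) (tt N12485 (iv D26961)))
theorem Q16674 : ∀ i, i < 16674 → P i := stepQ 16673 Q16673 (allL N16673 (tt N13288 F56236) (tt N12487 (iv D26962)) (tt N14112 F56237) (tt N14710 F56238) (tt N20097 D30450) (tt N12765 F56239) (tt N14790 F56240))
theorem Q16675 : ∀ i, i < 16675 → P i := stepQ 16674 Q16674 (allL N16674 (tt N12489 F56241) (tt N20097 (iv F66624)) (tt N12488 F56242) (tt N20098 D30451) (tt N12487 (iv D26963)) (tt N14709 F56243) (tt N17830 (iv F59729)))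
theorem Q16676 : ∀ i, i < 16676 → P i := stepQ 16675 Q16675 (allL N16675 (tt N20098 (iv F66628)) (tt N18247 (iv F60985)) (tt N20099 D30452) (tt N12489 (iv D26964)) (tt N14315 F56244) (tt N14312 F56245) (tt N20094 (iv F66612)))
theorem Q16677 : ∀ i, i < 16677 → P i := stepQ 16676 Q16676 (allL N16676 (tt N12498 F56246) (tt N12490 (iv D26965)) (tt N12502 F56247) (tt N16081 F56248) (tt N12491 F56249) (tt N12498 F56250) (tt N12501 (iv F56251)))
theorem Q16678 : ∀ i, i < 16678 → P i := stepQ 16677 Q16677 (allL N16677 (tt N16662 F56252) (tt N12547 F56253) (tt N13935 F56254) (tt N17575 F58977) (tt N12492 F56255) (tt N16667 F56256) (tt N12490 (iv D26966)))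
theorem Q16679 : ∀ i, i < 16679 → P i := stepQ 16678 Q16678 (allL N16678 (tt N20095 (iv F66613)) (tt N17861 (iv F59843)) (tt N17519 (iv F58798)) (tt N18591 (iv F62099)) (tt N17951 (iv F60190)) (tt N20095 (iv F66617)) (tt N12496 (iv D26967)))
theorem Q16680 : ∀ i, i < 16680 → P i := stepQ 16679 Q16679 (allL N16679 (tt N13997 F56257) (tt N12497 (iv D26968)) (tt N13980 F56258) (tt N17479 (iv F58644)) (tt N13993 F56259) (tt N13995 (iv F56260)) (tt N17861 (iv F59842)))
theorem Q16681 : ∀ i, i < 16681 → P i := stepQ 16680 Q16680 (allL N16680 (tt N16975 (iv F57170)) (tt N12505 (iv D26969)) (tt N20100 D30453) (tt N12507 F56264) (tt N12826 F56265) (tt N16973 F57168) (tt N17882 (iv F59917)))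
theorem Q16682 : ∀ i, i < 16682 → P i := stepQ 16681 Q16681 (allL N16681 (tt N17001 (iv F57246)) (tt N12506 (iv D26970)) (tt N20101 D30454) (tt N12508 F56266) (tt N12830 F56267) (tt N17906 (iv F60008)) (tt N16998 F57240))
theorem Q16683 : ∀ i, i < 16683 → P i := stepQ 16682 Q16682 (allL N16682 (tt N16887 (iv F56932)) (tt N12509 (iv D26971)) (tt N12841 F56273) (tt N12515 F56268) (tt N12841 F56269) (tt N16886 (iv F56930)) (tt N20102 D30455))
theorem Q16684 : ∀ i, i < 16684 → P i := stepQ 16683 Q16683 (allL N16683 (tt N12510 F56270) (tt N12842 F56272) (tt N12509 (iv D26972)) (tt N20103 D30456) (tt N12842 F56271) (tt N17878 (iv F59901)) (tt N20104 D30457))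
theorem Q16685 : ∀ i, i < 16685 → P i := stepQ 16684 Q16684 (allL N16684 (tt N12511 F56275) (tt N16987 (iv F57208)) (tt N20104 (iv F66650)) (tt N12516 F56276) (tt N12843 F56277) (tt N14035 F56278) (tt N12509 (iv D26973)))
theorem Q16686 : ∀ i, i < 16686 → P i := stepQ 16685 Q16685 (allL N16685 (tt N20103 (iv F66645)) (tt N14199 F56279) (tt N20105 D30458) (tt N12510 (iv D26974)) (tt N20106 D30459) (tt N17880 (iv F59910)) (tt N20107 D30460))
theorem Q16687 : ∀ i, i < 16687 → P i := stepQ 16686 Q16686 (allL N16686 (tt N20104 (iv F66649)) (tt N20108 D30461) (tt N12511 F56280) (tt N20107 (iv F66663)) (tt N12845 F56281) (tt N20109 D30462) (tt N12510 (iv D26975)))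
theorem Q16688 : ∀ i, i < 16688 → P i := stepQ 16687 Q16687 (allL N16687 (tt N14035 F56282) (tt N12945 (iv F56286)) (tt N20109 (iv F66670)) (tt N12517 F56283) (tt N12846 F56284) (tt N12511 (iv D26976)) (tt N14027 F56285))
theorem Q16689 : ∀ i, i < 16689 → P i := stepQ 16688 Q16688 (allL N16688 (tt N16899 (iv F56966)) (tt N12512 (iv D26977)) (tt N12847 F56971) (tt N12518 F56287) (tt N12847 F56288) (tt N20110 D30463) (tt N16897 F56963))
theorem Q16690 : ∀ i, i < 16690 → P i := stepQ 16689 Q16689 (allL N16689 (tt N12513 F56289) (tt N12848 (iv F56972)) (tt N12512 (iv D26978)) (tt N20111 D30464) (tt N12848 F56290) (tt N20112 D30465) (tt N17902 (iv F59993)))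
theorem Q16691 : ∀ i, i < 16691 → P i := stepQ 16690 Q16690 (allL N16690 (tt N12514 F56291) (tt N17012 F57286) (tt N20112 (iv F66684)) (tt N12519 F56292) (tt N12849 F56293) (tt N12512 (iv D26979)) (tt N14092 F56294))
theorem Q16692 : ∀ i, i < 16692 → P i := stepQ 16691 Q16691 (allL N16691 (tt N20111 (iv F66679)) (tt N14203 F56295) (tt N20113 D30466) (tt N12513 (iv D26980)) (tt N20114 D30467) (tt N20115 D30468) (tt N17904 (iv F60002)))
theorem Q16693 : ∀ i, i < 16693 → P i := stepQ 16692 Q16692 (allL N16692 (tt N20112 (iv F66683)) (tt N20116 D30469) (tt N12514 F56296) (tt N20115 (iv F66697)) (tt N12851 F56297) (tt N12513 (iv D26981)) (tt N20117 D30470))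
theorem Q16694 : ∀ i, i < 16694 → P i := stepQ 16693 Q16693 (allL N16693 (tt N14092 F56298) (tt N12929 (iv F56302)) (tt N20117 (iv F66704)) (tt N12520 F56299) (tt N12852 F56300) (tt N14084 F56301) (tt N12514 (iv D26982)))
theorem Q16695 : ∀ i, i < 16695 → P i := stepQ 16694 Q16694 (allL N16694 (tt N13032 F56303) (tt N13018 F56304) (tt N18526 (iv F61867)) (tt N20102 (iv F66642)) (tt N12567 F56305) (tt N12856 F56306) (tt N12515 (iv D26983)))
theorem Q16696 : ∀ i, i < 16696 → P i := stepQ 16695 Q16695 (allL N16695 (tt N12956 F56307) (tt N13090 F56308) (tt N18527 (iv F61871)) (tt N20110 (iv F66676)) (tt N12568 F56309) (tt N12518 (iv D26984)) (tt N12861 F56310))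
theorem Q16697 : ∀ i, i < 16697 → P i := stepQ 16696 Q16696 (allL N16696 (tt N12523 (iv D26985)) (tt N20118 D30471) (tt N19089 (iv F63333)) (tt N12531 F56311) (tt N12870 F56312) (tt N16704 (iv F56337)) (tt N12524 F56313))
theorem Q16698 : ∀ i, i < 16698 → P i := stepQ 16697 Q16697 (allL N16697 (tt N19089 (iv F63332)) (tt N17623 (iv F59100)) (tt N12523 (iv D26986)) (tt N20119 D30472) (tt N12871 F56314) (tt N20120 D30473) (tt N12525 F56315))
theorem Q16699 : ∀ i, i < 16699 → P i := stepQ 16698 Q16698 (allL N16698 (tt N16704 (iv F56334)) (tt N15450 F56316) (tt N20120 (iv F66719)) (tt N12533 F56317) (tt N12872 F56318) (tt N12523 (iv D26987)) (tt N16701 (iv F56329)))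
theorem Q16700 : ∀ i, i < 16700 → P i := stepQ 16699 Q16699 (allL N16699 (tt N16994 (iv F57228)) (tt N12524 (iv D26988)) (tt N20121 D30474) (tt N12534 F56319) (tt N12873 F56320) (tt N12941 (iv F56321)) (tt N16992 F57224))
theorem Q16701 : ∀ i, i < 16701 → P i := stepQ 16700 Q16700 (allL N16700 (tt N12525 F56322) (tt N20122 D30475) (tt N12524 (iv D26989)) (tt N15491 F56324) (tt N12874 F56323) (tt N20123 D30476) (tt N19089 (iv F63335)))
theorem Q16702 : ∀ i, i < 16702 → P i := stepQ 16701 Q16701 (allL N16701 (tt N12526 F56325) (tt N12887 F56326) (tt N20123 (iv F66727)) (tt N12536 F56327) (tt N12875 F56328) (tt N12524 (iv D26990)) (tt N16698 F56329))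
theorem Q16703 : ∀ i, i < 16703 → P i := stepQ 16702 Q16702 (allL N16702 (tt N15491 F56330) (tt N17965 (iv F60229)) (tt N18492 (iv F61737)) (tt N12525 (iv D26991)) (tt N15488 F56331) (tt N19825 (iv F65693)) (tt N20119 (iv F66716)))
theorem Q16704 : ∀ i, i < 16704 → P i := stepQ 16703 Q16703 (allL N16703 (tt N20123 (iv F66726)) (tt N19818 F65672) (tt N12526 F56332) (tt N19825 (iv F65691)) (tt N12877 F56333) (tt N12525 (iv D26992)) (tt N20124 D30477))
theorem Q16705 : ∀ i, i < 16705 → P i := stepQ 16704 Q16704 (allL N16704 (tt N16698 F56334) (tt N16981 (iv F57187)) (tt N20124 (iv F66732)) (tt N12539 F56335) (tt N12878 F56336) (tt N16696 F56337) (tt N12526 (iv D26993)))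
theorem Q16706 : ∀ i, i < 16706 → P i := stepQ 16705 Q16705 (allL N16705 (tt N12527 (iv D26994)) (tt N20125 D30478) (tt N19223 (iv F63688)) (tt N12540 F56338) (tt N12882 F56339) (tt N12528 F56340) (tt N16713 (iv F56364)))
theorem Q16707 : ∀ i, i < 16707 → P i := stepQ 16706 Q16706 (allL N16706 (tt N19223 (iv F63687)) (tt N17619 (iv F59091)) (tt N12527 (iv D26995)) (tt N20126 D30479) (tt N12883 F56341) (tt N12529 F56342) (tt N20127 D30480))
theorem Q16708 : ∀ i, i < 16708 → P i := stepQ 16707 Q16707 (allL N16707 (tt N16713 (iv F56361)) (tt N15346 F56343) (tt N20127 (iv F66747)) (tt N12542 F56344) (tt N12884 F56345) (tt N16710 (iv F56356)) (tt N12527 (iv D26996)))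
theorem Q16709 : ∀ i, i < 16709 → P i := stepQ 16708 Q16708 (allL N16708 (tt N16969 (iv F57157)) (tt N12528 (iv D26997)) (tt N20128 D30481) (tt N12543 F56346) (tt N12885 F56347) (tt N16967 (iv F57153)) (tt N12925 (iv F56348)))
theorem Q16710 : ∀ i, i < 16710 → P i := stepQ 16709 Q16709 (allL N16709 (tt N12529 F56349) (tt N20129 D30482) (tt N12528 (iv D26998)) (tt N15387 F56351) (tt N12886 F56350) (tt N19223 (iv F63690)) (tt N20130 D30483))
theorem Q16711 : ∀ i, i < 16711 → P i := stepQ 16710 Q16710 (allL N16710 (tt N12530 F56352) (tt N12875 F56353) (tt N20130 (iv F66755)) (tt N12545 F56354) (tt N12887 F56355) (tt N16707 F56356) (tt N12528 (iv D26999)))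
theorem Q16712 : ∀ i, i < 16712 → P i := stepQ 16711 Q16711 (allL N16711 (tt N15387 F56357) (tt N17960 (iv F60218)) (tt N18523 (iv F61856)) (tt N12529 (iv D27000)) (tt N15384 F56358) (tt N20126 (iv F66744)) (tt N19732 (iv F65410)))
theorem Q16713 : ∀ i, i < 16713 → P i := stepQ 16712 Q16712 (allL N16712 (tt N20130 (iv F66754)) (tt N19725 (iv F65392)) (tt N12530 F56359) (tt N19732 (iv F65408)) (tt N12889 F56360) (tt N20131 D30484) (tt N12529 (iv D27001)))
theorem Q16714 : ∀ i, i < 16714 → P i := stepQ 16713 Q16713 (allL N16713 (tt N16707 F56361) (tt N17006 (iv F57262)) (tt N20131 (iv F66760)) (tt N12548 F56362) (tt N12890 F56363) (tt N12530 (iv D27002)) (tt N16705 F56364))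
theorem Q16715 : ∀ i, i < 16715 → P i := stepQ 16714 Q16714 (allL N16714 (tt N12837 F56365) (tt N12531 (iv D27003)) (tt N12697 (iv F56369)) (tt N20118 (iv F66708)) (tt N12570 F56366) (tt N12838 F56367) (tt N12696 F56368))
theorem Q16716 : ∀ i, i < 16716 → P i := stepQ 16715 Q16715 (allL N16715 (tt N12532 F56370) (tt N16765 (iv F56537)) (tt N12531 (iv D27004)) (tt N17928 (iv F60094)) (tt N12571 F56371) (tt N13514 F56372) (tt N12535 F56373))
theorem Q16717 : ∀ i, i < 16717 → P i := stepQ 16716 Q16716 (allL N16716 (tt N14769 F56374) (tt N16763 (iv F56529)) (tt N12534 (iv D27005)) (tt N20132 D30485) (tt N12572 F56375) (tt N13060 F56376) (tt N12695 F56377))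
theorem Q16718 : ∀ i, i < 16718 → P i := stepQ 16717 Q16717 (allL N16717 (tt N20133 D30486) (tt N12535 (iv D27006)) (tt N16763 (iv F56530)) (tt N18469 (iv F61667)) (tt N12573 F56378) (tt N20134 D30487) (tt N16762 F56528))
theorem Q16719 : ∀ i, i < 16719 → P i := stepQ 16718 Q16718 (allL N16718 (tt N12537 F56379) (tt N18469 (iv F61665)) (tt N14661 (iv F56382)) (tt N12535 (iv D27007)) (tt N14143 F56380) (tt N14142 F56381) (tt N17928 (iv F60096)))
theorem Q16720 : ∀ i, i < 16720 → P i := stepQ 16719 Q16719 (allL N16719 (tt N14142 F56383) (tt N17603 (iv F59045)) (tt N14662 F56384) (tt N12538 F56385) (tt N14140 F56386) (tt N12537 (iv D27008)) (tt N14138 F56387))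
theorem Q16721 : ∀ i, i < 16721 → P i := stepQ 16720 Q16720 (allL N16720 (tt N12832 F56388) (tt N12540 (iv D27009)) (tt N12668 (iv F56392)) (tt N20125 (iv F66736)) (tt N12576 F56389) (tt N12667 F56390) (tt N12833 F56391))
theorem Q16722 : ∀ i, i < 16722 → P i := stepQ 16721 Q16721 (allL N16721 (tt N12541 F56393) (tt N16757 (iv F56509)) (tt N12540 (iv D27010)) (tt N17931 (iv F60106)) (tt N12577 F56394) (tt N12544 F56395) (tt N13538 F56396))
theorem Q16723 : ∀ i, i < 16723 → P i := stepQ 16722 Q16722 (allL N16722 (tt N14748 F56397) (tt N16755 (iv F56501)) (tt N12543 (iv D27011)) (tt N20135 D30488) (tt N12578 F56398) (tt N12666 F56399) (tt N12986 F56400))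
theorem Q16724 : ∀ i, i < 16724 → P i := stepQ 16723 Q16723 (allL N16723 (tt N20136 D30489) (tt N12544 (iv D27012)) (tt N16755 (iv F56502)) (tt N18411 (iv F61520)) (tt N12579 F56401) (tt N16754 F56500) (tt N20137 D30490))
theorem Q16725 : ∀ i, i < 16725 → P i := stepQ 16724 Q16724 (allL N16724 (tt N12546 F56402) (tt N18411 (iv F61518)) (tt N14693 (iv F56405)) (tt N12544 (iv D27013)) (tt N14152 F56403) (tt N17931 (iv F60108)) (tt N14150 F56404))
theorem Q16726 : ∀ i, i < 16726 → P i := stepQ 16725 Q16725 (allL N16725 (tt N14150 F56406) (tt N17575 (iv F58974)) (tt N14694 F56407) (tt N12547 F56408) (tt N14148 F56409) (tt N14147 (iv F56410)) (tt N12546 (iv D27014)))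
theorem Q16727 : ∀ i, i < 16727 → P i := stepQ 16726 Q16726 (allL N16726 (tt N19118 (iv F63393)) (tt N14395 F56411) (tt N12549 (iv D27015)) (tt N20138 D30491) (tt N12924 F56412) (tt N19120 (iv F63403)) (tt N18840 (iv F62686)))
theorem Q16728 : ∀ i, i < 16728 → P i := stepQ 16727 Q16727 (allL N16727 (tt N12551 (iv D27016)) (tt N12852 (iv F56415)) (tt N20139 D30492) (tt N12558 F56413) (tt N12929 F56414) (tt N17014 (iv F57292)) (tt N16923 (iv F57036)))
theorem Q16729 : ∀ i, i < 16729 → P i := stepQ 16728 Q16728 (allL N16728 (tt N20139 (iv F66794)) (tt N13781 F56416) (tt N12551 (iv D27017)) (tt N17702 (iv F59337)) (tt N12930 F56417) (tt N15100 F56418) (tt N20140 D30493))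
theorem Q16730 : ∀ i, i < 16730 → P i := stepQ 16729 Q16729 (allL N16729 (tt N16923 (iv F57034)) (tt N15606 F56419) (tt N20140 (iv F66798)) (tt N12560 F56420) (tt N12931 F56421) (tt N20141 D30494) (tt N12551 (iv D27018)))
theorem Q16731 : ∀ i, i < 16731 → P i := stepQ 16730 Q16730 (allL N16730 (tt N18979 (iv F63057)) (tt N14417 F56422) (tt N12552 (iv D27019)) (tt N20142 D30495) (tt N12940 F56423) (tt N18896 (iv F62832)) (tt N18981 (iv F63070)))
theorem Q16732 : ∀ i, i < 16732 → P i := stepQ 16731 Q16731 (allL N16731 (tt N12554 (iv D27020)) (tt N12846 (iv F56426)) (tt N20143 D30496) (tt N12564 F56424) (tt N12945 F56425) (tt N16935 (iv F57066)) (tt N16989 (iv F57212)))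
theorem Q16733 : ∀ i, i < 16733 → P i := stepQ 16732 Q16732 (allL N16732 (tt N20143 (iv F66807)) (tt N13773 F56427) (tt N12554 (iv D27021)) (tt N17630 (iv F59121)) (tt N12946 F56428) (tt N20144 D30497) (tt N15090 F56429))
theorem Q16734 : ∀ i, i < 16734 → P i := stepQ 16733 Q16733 (allL N16733 (tt N16935 (iv F57064)) (tt N15843 F56430) (tt N20144 (iv F66811)) (tt N12566 F56431) (tt N12947 F56432) (tt N12554 (iv D27022)) (tt N20145 D30498))
theorem Q16735 : ∀ i, i < 16735 → P i := stepQ 16734 Q16734 (allL N16734 (tt N12556 F56433) (tt N20146 D30499) (tt N12555 (iv D27023)) (tt N20147 D30500) (tt N12585 F56434) (tt N13430 F56435) (tt N16963 (iv F57137)))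
theorem Q16736 : ∀ i, i < 16736 → P i := stepQ 16735 Q16735 (allL N16735 (tt N20147 (iv F66823)) (tt N16735 F56436) (tt N20148 D30501) (tt N12556 (iv D27024)) (tt N13150 F56437) (tt N13149 F56438) (tt N18841 (iv F62689)))
theorem Q16737 : ∀ i, i < 16737 → P i := stepQ 16736 Q16736 (allL N16736 (tt N13098 F56439) (tt N16739 (iv F56449)) (tt N17453 (iv F58540)) (tt N20141 (iv F66801)) (tt N12587 F56440) (tt N12560 (iv D27025)) (tt N13097 F56441))
theorem Q16738 : ∀ i, i < 16738 → P i := stepQ 16737 Q16737 (allL N16737 (tt N12562 F56442) (tt N20149 D30502) (tt N12561 (iv D27026)) (tt N20150 D30503) (tt N12591 F56443) (tt N16948 (iv F57098)) (tt N13482 F56444))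
theorem Q16739 : ∀ i, i < 16739 → P i := stepQ 16738 Q16738 (allL N16738 (tt N20150 (iv F66833)) (tt N16738 F56445) (tt N20151 D30504) (tt N12562 (iv D27027)) (tt N13210 F56446) (tt N18897 (iv F62835)) (tt N13208 F56447))
theorem Q16740 : ∀ i, i < 16740 → P i := stepQ 16739 Q16739 (allL N16739 (tt N13028 F56448) (tt N16736 F56449) (tt N17478 (iv F58640)) (tt N20145 (iv F66815)) (tt N12592 F56450) (tt N13027 F56451) (tt N12566 (iv D27028)))
theorem Q16741 : ∀ i, i < 16741 → P i := stepQ 16740 Q16740 (allL N16740 (tt N12573 (iv D27029)) (tt N17872 (iv F59877)) (tt N13275 F56452) (tt N17488 (iv F58678)) (tt N20133 (iv F66769)) (tt N13274 F56453) (tt N16846 (iv F56788)))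
theorem Q16742 : ∀ i, i < 16742 → P i := stepQ 16741 Q16741 (allL N16741 (tt N13274 F56454) (tt N14911 F56455) (tt N13273 F56456) (tt N14910 F56457) (tt N20134 (iv F66775)) (tt N12573 (iv D27030)) (tt N13272 F56458))
theorem Q16743 : ∀ i, i < 16743 → P i := stepQ 16742 Q16742 (allL N16742 (tt N12579 (iv D27031)) (tt N17860 (iv F59837)) (tt N13262 F56459) (tt N17497 (iv F58713)) (tt N20136 (iv F66783)) (tt N16844 (iv F56783)) (tt N13261 (iv F56460)))
theorem Q16744 : ∀ i, i < 16744 → P i := stepQ 16743 Q16743 (allL N16743 (tt N13261 F56461) (tt N14958 F56462) (tt N13260 F56463) (tt N14957 F56464) (tt N20137 (iv F66789)) (tt N13259 (iv F56465)) (tt N12579 (iv D27032)))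
theorem Q16745 : ∀ i, i < 16745 → P i := stepQ 16744 Q16744 (allL N16744 (tt N12802 F56469) (tt N12585 (iv D27033)) (tt N12800 F56466) (tt N13431 F56467) (tt N20146 (iv F66819)) (tt N14861 (iv F56470)) (tt N12799 F56468))
theorem Q16746 : ∀ i, i < 16746 → P i := stepQ 16745 Q16745 (allL N16745 (tt N12776 F56474) (tt N12591 (iv D27034)) (tt N12775 F56471) (tt N13484 F56472) (tt N20149 (iv F66829)) (tt N12774 F56473) (tt N14892 F56475))
theorem Q16747 : ∀ i, i < 16747 → P i := stepQ 16746 Q16746 (allL N16746 (tt N17446 (iv F58518)) (tt N12606 (iv D27035)) (tt N16508 (iv F56480)) (tt N16194 F56476) (tt N15109 F56477) (tt N15564 F56478) (tt N12608 F56479))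
theorem Q16748 : ∀ i, i < 16748 → P i := stepQ 16747 Q16747 (allL N16747 (tt N12609 (iv D27036)) (tt N19260 (iv F63815)) (tt N18598 (iv F62125)) (tt N19927 (iv F66044)) (tt N19261 (iv F63823)) (tt N17433 (iv F58463)) (tt N19302 (iv F63968)))
theorem Q16749 : ∀ i, i < 16749 → P i := stepQ 16748 Q16748 (allL N16748 (tt N18598 (iv F62124)) (tt N12610 F56481) (tt N12609 (iv D27037)) (tt N14996 F56483) (tt N19307 (iv F63992)) (tt N17434 (iv F58467)) (tt N13487 F56482))
theorem Q16750 : ∀ i, i < 16750 → P i := stepQ 16749 Q16749 (allL N16749 (tt N17471 (iv F58615)) (tt N12611 (iv D27038)) (tt N16387 (iv F56488)) (tt N16199 F56484) (tt N15121 F56485) (tt N12614 F56486) (tt N15804 F56487))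
theorem Q16751 : ∀ i, i < 16751 → P i := stepQ 16750 Q16750 (allL N16750 (tt N12615 (iv D27039)) (tt N19493 (iv F64626)) (tt N18589 (iv F62095)) (tt N19932 (iv F66069)) (tt N19494 (iv F64634)) (tt N19530 (iv F64756)) (tt N17456 (iv F58551)))
theorem Q16752 : ∀ i, i < 16752 → P i := stepQ 16751 Q16751 (allL N16751 (tt N18589 (iv F62094)) (tt N12616 F56489) (tt N12615 (iv D27040)) (tt N14948 F56491) (tt N19534 (iv F64775)) (tt N13435 F56490) (tt N17457 (iv F58555)))
theorem Q16753 : ∀ i, i < 16753 → P i := stepQ 16752 Q16752 (allL N16752 (tt N20152 D30505) (tt N12623 (iv D27041)) (tt N20153 D30506) (tt N12624 F56492) (tt N17188 (iv F57754)) (tt N20154 D30507) (tt N12894 F56493))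
theorem Q16754 : ∀ i, i < 16754 → P i := stepQ 16753 Q16753 (allL N16753 (tt N12624 (iv D27042)) (tt N19541 (iv F64802)) (tt N20155 D30508) (tt N20152 (iv F66838)) (tt N12733 F56494) (tt N16943 (iv F57082)) (tt N12895 F56495))
theorem Q16755 : ∀ i, i < 16755 → P i := stepQ 16754 Q16754 (allL N16754 (tt N20155 (iv F66843)) (tt N12626 F56496) (tt N12624 (iv D27043)) (tt N14586 (iv F56499)) (tt N12734 F56497) (tt N16723 (iv F56500)) (tt N12896 F56498))
theorem Q16756 : ∀ i, i < 16756 → P i := stepQ 16755 Q16755 (allL N16755 (tt N16943 (iv F57080)) (tt N16722 F56501) (tt N16723 F56502) (tt N20154 (iv F66842)) (tt N12735 F56503) (tt N12624 (iv D27044)) (tt N16941 (iv F57076)))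
theorem Q16757 : ∀ i, i < 16757 → P i := stepQ 16756 Q16756 (allL N16756 (tt N12626 F56504) (tt N15677 (iv F56507)) (tt N12625 (iv D27045)) (tt N15678 (iv F56508)) (tt N12736 F56505) (tt N16759 (iv F56519)) (tt N12628 F56506))
theorem Q16758 : ∀ i, i < 16758 → P i := stepQ 16757 Q16757 (allL N16757 (tt N16759 (iv F56516)) (tt N16721 F56509) (tt N12627 F56510) (tt N18346 (iv F61287)) (tt N12738 F56511) (tt N12626 (iv D27046)) (tt N16758 (iv F56515)))
theorem Q16759 : ∀ i, i < 16759 → P i := stepQ 16758 Q16758 (allL N16758 (tt N12630 F56512) (tt N19914 (iv F65997)) (tt N12629 F56513) (tt N18347 (iv F61292)) (tt N12739 F56514) (tt N12628 (iv D27047)) (tt N16757 F56515))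
theorem Q16760 : ∀ i, i < 16760 → P i := stepQ 16759 Q16759 (allL N16759 (tt N16757 F56516) (tt N20156 D30509) (tt N12631 F56517) (tt N18348 (iv F61297)) (tt N12741 F56518) (tt N16756 F56519) (tt N12630 (iv D27048)))
theorem Q16761 : ∀ i, i < 16761 → P i := stepQ 16760 Q16760 (allL N16760 (tt N20157 D30510) (tt N12634 (iv D27049)) (tt N20158 D30511) (tt N12635 F56520) (tt N17264 (iv F57930)) (tt N12909 F56521) (tt N20159 D30512))
theorem Q16762 : ∀ i, i < 16762 → P i := stepQ 16761 Q16761 (allL N16761 (tt N12635 (iv D27050)) (tt N19314 (iv F64019)) (tt N20160 D30513) (tt N20157 (iv F66854)) (tt N12742 F56522) (tt N12910 F56523) (tt N16958 (iv F57121)))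
theorem Q16763 : ∀ i, i < 16763 → P i := stepQ 16762 Q16762 (allL N16762 (tt N20160 (iv F66859)) (tt N12637 F56524) (tt N12635 (iv D27051)) (tt N14635 (iv F56527)) (tt N12743 F56525) (tt N12911 F56526) (tt N16717 (iv F56528)))
theorem Q16764 : ∀ i, i < 16764 → P i := stepQ 16763 Q16763 (allL N16763 (tt N16958 (iv F57119)) (tt N16716 F56529) (tt N16717 F56530) (tt N20159 (iv F66858)) (tt N12744 F56531) (tt N16956 (iv F57115)) (tt N12635 (iv D27052)))
theorem Q16765 : ∀ i, i < 16765 → P i := stepQ 16764 Q16764 (allL N16764 (tt N12637 F56532) (tt N15907 F56535) (tt N12636 (iv D27053)) (tt N15908 (iv F56536)) (tt N12745 F56533) (tt N12639 F56534) (tt N16767 (iv F56547)))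
theorem Q16766 : ∀ i, i < 16766 → P i := stepQ 16765 Q16765 (allL N16765 (tt N16767 (iv F56544)) (tt N16715 F56537) (tt N12638 F56538) (tt N18289 (iv F61102)) (tt N12747 F56539) (tt N16766 (iv F56543)) (tt N12637 (iv D27054)))
theorem Q16767 : ∀ i, i < 16767 → P i := stepQ 16766 Q16766 (allL N16766 (tt N12641 F56540) (tt N19901 (iv F65950)) (tt N12640 F56541) (tt N18290 (iv F61107)) (tt N12748 F56542) (tt N16765 F56543) (tt N12639 (iv D27055)))
theorem Q16768 : ∀ i, i < 16768 → P i := stepQ 16767 Q16767 (allL N16767 (tt N16765 F56544) (tt N20161 D30514) (tt N12642 F56545) (tt N18291 (iv F61112)) (tt N12750 F56546) (tt N12641 (iv D27056)) (tt N16764 F56547))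
theorem Q16769 : ∀ i, i < 16769 → P i := stepQ 16768 Q16768 (allL N16768 (tt N12681 F56548) (tt N12643 (iv D27057)) (tt N20149 (iv F66828)) (tt N12661 F56549) (tt N12775 F56550) (tt N12679 F56551) (tt N12644 F56552))
theorem Q16770 : ∀ i, i < 16770 → P i := stepQ 16769 Q16769 (allL N16769 (tt N14890 F56553) (tt N15567 F56554) (tt N12644 (iv D27058)) (tt N20162 D30515) (tt N14892 F56555) (tt N16796 F56645) (tt N20149 (iv F66831)))
theorem Q16771 : ∀ i, i < 16771 → P i := stepQ 16770 Q16770 (allL N16770 (tt N15574 F56556) (tt N15616 F56557) (tt N16256 F56558) (tt N15563 F56559) (tt N16258 F56560) (tt N12645 (iv D27059)) (tt N15574 F56561))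
theorem Q16772 : ∀ i, i < 16772 → P i := stepQ 16771 Q16771 (allL N16771 (tt N12707 F56562) (tt N12647 (iv D27060)) (tt N17586 (iv F59005)) (tt N12677 F56563) (tt N12797 F56564) (tt N12648 F56565) (tt N16629 F56566))
theorem Q16773 : ∀ i, i < 16773 → P i := stepQ 16772 Q16772 (allL N16772 (tt N12706 F56567) (tt N14781 F56568) (tt N17576 (iv F58981)) (tt N12678 F56569) (tt N12794 F56570) (tt N13934 F56571) (tt N12648 (iv D27061)))
theorem Q16774 : ∀ i, i < 16774 → P i := stepQ 16773 Q16773 (allL N16773 (tt N12711 F56572) (tt N12652 (iv D27062)) (tt N20146 (iv F66818)) (tt N12690 F56573) (tt N12800 F56574) (tt N12653 F56575) (tt N12708 F56576))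
theorem Q16775 : ∀ i, i < 16775 → P i := stepQ 16774 Q16774 (allL N16774 (tt N14859 F56577) (tt N15806 F56578) (tt N12653 (iv D27063)) (tt N20163 D30516) (tt N14861 F56579) (tt N20146 (iv F66820)) (tt N16821 F56717))
theorem Q16776 : ∀ i, i < 16776 → P i := stepQ 16775 Q16775 (allL N16775 (tt N15814 F56580) (tt N15850 F56581) (tt N16226 F56582) (tt N15803 F56583) (tt N16229 F56584) (tt N15814 F56585) (tt N12654 (iv D27064)))
theorem Q16777 : ∀ i, i < 16777 → P i := stepQ 16776 Q16776 (allL N16776 (tt N12678 F56586) (tt N12656 (iv D27065)) (tt N17614 (iv F59076)) (tt N12706 F56587) (tt N12772 F56588) (tt N16610 F56589) (tt N12657 F56590))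
theorem Q16778 : ∀ i, i < 16778 → P i := stepQ 16777 Q16777 (allL N16777 (tt N12677 F56591) (tt N14815 F56592) (tt N17604 (iv F59050)) (tt N12707 F56593) (tt N12769 F56594) (tt N12657 (iv D27066)) (tt N13931 F56595))
theorem Q16779 : ∀ i, i < 16779 → P i := stepQ 16778 Q16778 (allL N16778 (tt N18084 (iv F60529)) (tt N17049 (iv F57388)) (tt N18351 (iv F61307)) (tt N12663 F56596) (tt N15800 F56597) (tt N20164 D30517) (tt N12662 (iv D27067)))
theorem Q16780 : ∀ i, i < 16780 → P i := stepQ 16779 Q16779 (allL N16779 (tt N14156 F56598) (tt N18545 (iv F61945)) (tt N14154 F56599) (tt N20164 (iv F66876)) (tt N12759 F56600) (tt N12663 (iv D27068)) (tt N14153 F56601))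
theorem Q16781 : ∀ i, i < 16781 → P i := stepQ 16780 Q16780 (allL N16780 (tt N12669 F56602) (tt N20165 D30518) (tt N13108 F56603) (tt N12760 F56604) (tt N12665 F56605) (tt N13105 F56606) (tt N12664 (iv D27069)))
theorem Q16782 : ∀ i, i < 16782 → P i := stepQ 16781 Q16781 (allL N16781 (tt N17029 (iv F57341)) (tt N12665 (iv D27070)) (tt N20166 D30519) (tt N12666 F56607) (tt N20165 (iv F66880)) (tt N20135 (iv F66779)) (tt N17049 (iv F57389)))
theorem Q16783 : ∀ i, i < 16783 → P i := stepQ 16782 Q16782 (allL N16782 (tt N14891 F56608) (tt N16967 (iv F57154)) (tt N20167 D30520) (tt N12667 (iv D27071)) (tt N20168 D30521) (tt N20125 (iv F66738)) (tt N16878 (iv F56907)))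
theorem Q16784 : ∀ i, i < 16784 → P i := stepQ 16783 Q16783 (allL N16783 (tt N19749 (iv F65462)) (tt N12669 (iv D27072)) (tt N20169 D30522) (tt N12763 F56609) (tt N12670 F56610) (tt N19500 (iv F64657)) (tt N12719 F56611))
theorem Q16785 : ∀ i, i < 16785 → P i := stepQ 16784 Q16784 (allL N16784 (tt N12670 (iv D27073)) (tt N20170 D30523) (tt N19273 (iv F63860)) (tt N12672 F56612) (tt N19749 (iv F65464)) (tt N16835 (iv F56761)) (tt N12720 F56613))
theorem Q16786 : ∀ i, i < 16786 → P i := stepQ 16785 Q16785 (allL N16785 (tt N19273 (iv F63857)) (tt N19226 (iv F63696)) (tt N12670 (iv D27074)) (tt N19243 (iv F63753)) (tt N20169 (iv F66890)) (tt N19253 (iv F63790)) (tt N12721 F56614))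
theorem Q16787 : ∀ i, i < 16787 → P i := stepQ 16786 Q16786 (allL N16786 (tt N16835 (iv F56759)) (tt N18171 (iv F60779)) (tt N19253 (iv F63788)) (tt N12673 F56615) (tt N19500 (iv F64656)) (tt N12670 (iv D27075)) (tt N16832 (iv F56753)))
theorem Q16788 : ∀ i, i < 16788 → P i := stepQ 16787 Q16787 (allL N16787 (tt N14837 (iv F56617)) (tt N12672 (iv D27076)) (tt N14111 (iv F56618)) (tt N20170 (iv F66892)) (tt N12765 F56616) (tt N20097 (iv F66626)) (tt N17938 (iv F60135)))
theorem Q16789 : ∀ i, i < 16789 → P i := stepQ 16788 Q16788 (allL N16788 (tt N12675 F56619) (tt N15949 F56620) (tt N18937 (iv F62956)) (tt N12674 (iv D27077)) (tt N15951 F56621) (tt N16801 (iv F56660)) (tt N12683 F56622))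
theorem Q16790 : ∀ i, i < 16790 → P i := stepQ 16789 Q16789 (allL N16789 (tt N18937 (iv F62955)) (tt N20171 D30524) (tt N12675 (iv D27078)) (tt N18928 (iv F62920)) (tt N20172 D30525) (tt N20173 D30526) (tt N12685 F56623))
theorem Q16791 : ∀ i, i < 16791 → P i := stepQ 16790 Q16790 (allL N16790 (tt N15951 F56624) (tt N15628 F56625) (tt N20172 (iv F66898)) (tt N12767 F56626) (tt N12675 (iv D27079)) (tt N19625 (iv F65099)) (tt N12686 F56627))
theorem Q16792 : ∀ i, i < 16792 → P i := stepQ 16791 Q16791 (allL N16791 (tt N16801 (iv F56658)) (tt N20174 D30527) (tt N20173 (iv F66901)) (tt N12676 F56628) (tt N19625 (iv F65098)) (tt N12675 (iv D27080)) (tt N16797 (iv F56649)))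
theorem Q16793 : ∀ i, i < 16793 → P i := stepQ 16792 Q16792 (allL N16792 (tt N13959 F56632) (tt N12676 (iv D27081)) (tt N16641 F56629) (tt N20174 (iv F66904)) (tt N12768 F56630) (tt N14728 F56631) (tt N16650 F56633))
theorem Q16794 : ∀ i, i < 16794 → P i := stepQ 16793 Q16793 (allL N16793 (tt N12680 F56634) (tt N13138 F56636) (tt N12679 (iv D27082)) (tt N19691 (iv F65283)) (tt N12774 F56635) (tt N20149 (iv F66830)) (tt N18570 (iv F62029)))
theorem Q16795 : ∀ i, i < 16795 → P i := stepQ 16794 Q16794 (allL N16794 (tt N19691 (iv F65281)) (tt N16345 F56637) (tt N19699 (iv F65313)) (tt N12680 (iv D27083)) (tt N16340 F56638) (tt N20175 D30528) (tt N20176 D30529))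
theorem Q16796 : ∀ i, i < 16796 → P i := stepQ 16795 Q16795 (allL N16795 (tt N20149 (iv F66832)) (tt N20005 (iv F66345)) (tt N12681 F56639) (tt N20175 (iv F66909)) (tt N12776 F56640) (tt N12680 (iv D27084)) (tt N14890 (iv F56641)))
theorem Q16797 : ∀ i, i < 16797 → P i := stepQ 16796 Q16796 (allL N16796 (tt N18570 (iv F62025)) (tt N16400 F56642) (tt N12682 F56643) (tt N20176 (iv F66913)) (tt N12777 F56644) (tt N16769 (iv F56645)) (tt N12680 (iv D27085)))
theorem Q16798 : ∀ i, i < 16798 → P i := stepQ 16797 Q16797 (allL N16797 (tt N12687 F56646) (tt N19578 (iv F64924)) (tt N18914 (iv F62886)) (tt N12684 F56647) (tt N15961 F56648) (tt N12683 (iv D27086)) (tt N16791 F56649))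
theorem Q16799 : ∀ i, i < 16799 → P i := stepQ 16798 Q16798 (allL N16798 (tt N15960 F56650) (tt N17274 (iv F57956)) (tt N12686 F56651) (tt N15207 F56652) (tt N12685 (iv D27087)) (tt N20177 D30530) (tt N20172 (iv F66900)))
theorem Q16800 : ∀ i, i < 16800 → P i := stepQ 16799 Q16799 (allL N16799 (tt N18914 (iv F62885)) (tt N20178 D30531) (tt N12687 F56653) (tt N18911 F62877) (tt N20177 (iv F66920)) (tt N12685 (iv D27088)) (tt N20179 D30532))
theorem Q16801 : ∀ i, i < 16801 → P i := stepQ 16800 Q16800 (allL N16800 (tt N15961 F56654) (tt N13165 F56655) (tt N20177 (iv F66918)) (tt N12780 F56656) (tt N12687 F56657) (tt N12686 (iv D27089)) (tt N19618 (iv F65066)))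
theorem Q16802 : ∀ i, i < 16802 → P i := stepQ 16801 Q16801 (allL N16801 (tt N16791 F56658) (tt N20180 D30533) (tt N20179 (iv F66924)) (tt N12688 F56659) (tt N19618 (iv F65065)) (tt N16788 F56660) (tt N12687 (iv D27090)))
theorem Q16803 : ∀ i, i < 16803 → P i := stepQ 16802 Q16802 (allL N16802 (tt N17909 (iv F60020)) (tt N12688 (iv D27091)) (tt N14010 (iv F56664)) (tt N20180 (iv F66927)) (tt N12781 F56661) (tt N14021 F56662) (tt N13168 F56663))
theorem Q16804 : ∀ i, i < 16804 → P i := stepQ 16803 Q16803 (allL N16803 (tt N12919 F56665) (tt N14010 F56666) (tt N12689 (iv D27092)) (tt N16060 F56670) (tt N12782 F56667) (tt N14943 F56668) (tt N16559 F56669))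
theorem Q16805 : ∀ i, i < 16805 → P i := stepQ 16804 Q16804 (allL N16804 (tt N18138 (iv F60691)) (tt N17139 (iv F57626)) (tt N18413 (iv F61525)) (tt N12692 F56671) (tt N15554 F56672) (tt N12691 (iv D27093)) (tt N20181 D30534))
theorem Q16806 : ∀ i, i < 16806 → P i := stepQ 16805 Q16805 (allL N16805 (tt N14177 F56673) (tt N18541 (iv F61931)) (tt N14175 F56674) (tt N20181 (iv F66932)) (tt N12784 F56675) (tt N14174 F56676) (tt N12692 (iv D27094)))
theorem Q16807 : ∀ i, i < 16807 → P i := stepQ 16806 Q16806 (allL N16806 (tt N12698 F56677) (tt N20182 D30535) (tt N13166 F56678) (tt N12785 F56679) (tt N12694 F56680) (tt N12693 (iv D27095)) (tt N13164 F56681))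
theorem Q16808 : ∀ i, i < 16808 → P i := stepQ 16807 Q16807 (allL N16807 (tt N17120 (iv F57584)) (tt N12694 (iv D27096)) (tt N20183 D30536) (tt N12695 F56682) (tt N20182 (iv F66936)) (tt N17139 (iv F57627)) (tt N20132 (iv F66766)))
theorem Q16809 : ∀ i, i < 16809 → P i := stepQ 16808 Q16808 (allL N16808 (tt N14860 F56683) (tt N16992 F57225) (tt N20184 D30537) (tt N12696 (iv D27097)) (tt N20185 D30538) (tt N16885 F56927) (tt N20118 (iv F66711)))
theorem Q16810 : ∀ i, i < 16810 → P i := stepQ 16809 Q16809 (allL N16809 (tt N19845 (iv F65762)) (tt N12698 (iv D27098)) (tt N20186 D30539) (tt N12788 F56684) (tt N12699 F56685) (tt N12726 F56686) (tt N19264 (iv F63832)))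
theorem Q16811 : ∀ i, i < 16811 → P i := stepQ 16810 Q16810 (allL N16810 (tt N12699 (iv D27099)) (tt N20187 D30540) (tt N19506 (iv F64672)) (tt N12701 F56687) (tt N19845 (iv F65764)) (tt N12727 F56688) (tt N16842 (iv F56779)))
theorem Q16812 : ∀ i, i < 16812 → P i := stepQ 16811 Q16811 (allL N16811 (tt N19506 (iv F64669)) (tt N19466 (iv F64518)) (tt N12699 (iv D27100)) (tt N19479 (iv F64566)) (tt N20186 (iv F66946)) (tt N12728 F56689) (tt N19487 (iv F64602)))
theorem Q16813 : ∀ i, i < 16813 → P i := stepQ 16812 Q16812 (allL N16812 (tt N16842 (iv F56777)) (tt N18117 (iv F60617)) (tt N19487 (iv F64600)) (tt N12702 F56690) (tt N19264 (iv F63831)) (tt N16839 (iv F56771)) (tt N12699 (iv D27101)))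
theorem Q16814 : ∀ i, i < 16814 → P i := stepQ 16813 Q16813 (allL N16813 (tt N14805 (iv F56692)) (tt N12701 (iv D27102)) (tt N14058 (iv F56693)) (tt N20187 (iv F66948)) (tt N12790 F56691) (tt N17948 (iv F60176)) (tt N20089 (iv F66594)))
theorem Q16815 : ∀ i, i < 16815 → P i := stepQ 16814 Q16814 (allL N16814 (tt N12704 F56694) (tt N15722 F56695) (tt N18882 (iv F62796)) (tt N12703 (iv D27103)) (tt N15724 F56696) (tt N12712 F56697) (tt N16827 (iv F56735)))
theorem Q16816 : ∀ i, i < 16816 → P i := stepQ 16815 Q16815 (allL N16815 (tt N18882 (iv F62795)) (tt N20188 D30541) (tt N12704 (iv D27104)) (tt N18873 (iv F62767)) (tt N20189 D30542) (tt N12714 F56698) (tt N20190 D30543))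
theorem Q16817 : ∀ i, i < 16817 → P i := stepQ 16816 Q16816 (allL N16816 (tt N15724 F56699) (tt N15862 F56700) (tt N20189 (iv F66954)) (tt N12792 F56701) (tt N12704 (iv D27105)) (tt N12715 F56702) (tt N19423 (iv F64406)))
theorem Q16818 : ∀ i, i < 16818 → P i := stepQ 16817 Q16817 (allL N16817 (tt N16827 (iv F56733)) (tt N20191 D30544) (tt N20190 (iv F66957)) (tt N12705 F56703) (tt N19423 (iv F64405)) (tt N16823 (iv F56724)) (tt N12704 (iv D27106)))
theorem Q16819 : ∀ i, i < 16819 → P i := stepQ 16818 Q16818 (allL N16818 (tt N13935 (iv F56708)) (tt N12705 (iv D27107)) (tt N16662 F56704) (tt N20191 (iv F66960)) (tt N12793 F56705) (tt N16668 (iv F56707)) (tt N14709 F56706))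
theorem Q16820 : ∀ i, i < 16820 → P i := stepQ 16819 Q16819 (allL N16819 (tt N12709 F56709) (tt N13197 F56710) (tt N12708 (iv D27108)) (tt N19785 (iv F65566)) (tt N12799 F56711) (tt N18556 (iv F61981)) (tt N20146 (iv F66821)))
theorem Q16821 : ∀ i, i < 16821 → P i := stepQ 16820 Q16820 (allL N16820 (tt N19785 (iv F65564)) (tt N16383 F56712) (tt N19793 (iv F65596)) (tt N12709 (iv D27109)) (tt N16481 F56713) (tt N20192 D30545) (tt N20193 D30546))
theorem Q16822 : ∀ i, i < 16822 → P i := stepQ 16821 Q16821 (allL N16821 (tt N18556 (iv F61978)) (tt N16378 F56714) (tt N12710 F56715) (tt N20192 (iv F66966)) (tt N12801 F56716) (tt N12709 (iv D27110)) (tt N16774 (iv F56717)))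
theorem Q16823 : ∀ i, i < 16823 → P i := stepQ 16822 Q16822 (allL N16822 (tt N20146 (iv F66822)) (tt N19946 (iv F66120)) (tt N12711 F56718) (tt N20193 (iv F66969)) (tt N12802 F56719) (tt N14859 (iv F56720)) (tt N12709 (iv D27111)))
theorem Q16824 : ∀ i, i < 16824 → P i := stepQ 16823 Q16823 (allL N16823 (tt N12716 F56721) (tt N19363 (iv F64160)) (tt N18859 (iv F62733)) (tt N12713 F56722) (tt N15736 F56723) (tt N16817 F56724) (tt N12712 (iv D27112)))
theorem Q16825 : ∀ i, i < 16825 → P i := stepQ 16824 Q16824 (allL N16824 (tt N15735 F56725) (tt N17198 (iv F57780)) (tt N12715 F56726) (tt N15173 F56727) (tt N12714 (iv D27113)) (tt N20189 (iv F66956)) (tt N20194 D30547))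
theorem Q16826 : ∀ i, i < 16826 → P i := stepQ 16825 Q16825 (allL N16825 (tt N18859 (iv F62732)) (tt N20195 D30548) (tt N12716 F56728) (tt N18856 F62724) (tt N20194 (iv F66976)) (tt N20196 D30549) (tt N12714 (iv D27114)))
theorem Q16827 : ∀ i, i < 16827 → P i := stepQ 16826 Q16826 (allL N16826 (tt N15736 F56729) (tt N13106 F56730) (tt N20194 (iv F66974)) (tt N12805 F56731) (tt N12716 F56732) (tt N19413 (iv F64325)) (tt N12715 (iv D27115)))
theorem Q16828 : ∀ i, i < 16828 → P i := stepQ 16827 Q16827 (allL N16827 (tt N16817 F56733) (tt N20197 D30550) (tt N20196 (iv F66980)) (tt N12717 F56734) (tt N19413 (iv F64324)) (tt N12716 (iv D27116)) (tt N16814 F56735))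
theorem Q16829 : ∀ i, i < 16829 → P i := stepQ 16828 Q16828 (allL N16828 (tt N17886 (iv F59932)) (tt N12717 (iv D27117)) (tt N13991 (iv F56739)) (tt N20197 (iv F66983)) (tt N12806 F56736) (tt N13110 F56737) (tt N14002 F56738))
theorem Q16830 : ∀ i, i < 16830 → P i := stepQ 16829 Q16829 (allL N16829 (tt N12904 F56740) (tt N13991 F56741) (tt N12718 (iv D27118)) (tt N16139 F56745) (tt N12807 F56742) (tt N16594 F56743) (tt N14991 F56744))
theorem Q16831 : ∀ i, i < 16831 → P i := stepQ 16830 Q16830 (allL N16830 (tt N19748 (iv F65458)) (tt N13112 F56746) (tt N12719 (iv D27119)) (tt N20198 D30551) (tt N12721 F56747) (tt N19544 (iv F64817)) (tt N20169 (iv F66891)))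
theorem Q16832 : ∀ i, i < 16832 → P i := stepQ 16831 Q16831 (allL N16831 (tt N12721 F56748) (tt N13888 (iv F56749)) (tt N12720 (iv D27120)) (tt N13887 F56750) (tt N19748 (iv F65460)) (tt N20199 D30552) (tt N19273 (iv F63859)))
theorem Q16833 : ∀ i, i < 16833 → P i := stepQ 16832 Q16832 (allL N16832 (tt N12722 F56751) (tt N19742 (iv F65439)) (tt N20199 (iv F66990)) (tt N12724 F56752) (tt N19543 (iv F64813)) (tt N12720 (iv D27121)) (tt N16786 F56753))
theorem Q16834 : ∀ i, i < 16834 → P i := stepQ 16833 Q16833 (allL N16833 (tt N13887 F56754) (tt N13118 F56755) (tt N13900 (iv F56756)) (tt N12721 (iv D27122)) (tt N14060 (iv F56757)) (tt N19504 (iv F64663)) (tt N19243 (iv F63756)))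
theorem Q16835 : ∀ i, i < 16835 → P i := stepQ 16834 Q16834 (allL N16834 (tt N20199 (iv F66989)) (tt N19505 (iv F64667)) (tt N12722 F56758) (tt N19504 F64665) (tt N19544 (iv F64816)) (tt N12721 (iv D27123)) (tt N20200 D30553))
theorem Q16836 : ∀ i, i < 16836 → P i := stepQ 16835 Q16835 (allL N16835 (tt N16786 F56759) (tt N18105 F60579) (tt N20200 (iv F66995)) (tt N12725 F56760) (tt N18107 (iv F60583)) (tt N16784 F56761) (tt N12722 (iv D27124)))
theorem Q16837 : ∀ i, i < 16837 → P i := stepQ 16836 Q16836 (allL N16836 (tt N18542 (iv F61935)) (tt N12724 (iv D27125)) (tt N17890 (iv F59951)) (tt N19742 (iv F65440)) (tt N12812 F56762) (tt N14793 F56763) (tt N20201 D30554))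
theorem Q16838 : ∀ i, i < 16838 → P i := stepQ 16837 Q16837 (allL N16837 (tt N19844 (iv F65758)) (tt N13171 F56764) (tt N12726 (iv D27126)) (tt N20202 D30555) (tt N12728 F56765) (tt N20186 (iv F66947)) (tt N19317 (iv F64034)))
theorem Q16839 : ∀ i, i < 16839 → P i := stepQ 16838 Q16838 (allL N16838 (tt N12728 F56766) (tt N13901 (iv F56768)) (tt N12727 (iv D27127)) (tt N13900 F56767) (tt N19844 (iv F65760)) (tt N19506 (iv F64671)) (tt N20203 D30556))
theorem Q16840 : ∀ i, i < 16840 → P i := stepQ 16839 Q16839 (allL N16839 (tt N12729 F56769) (tt N19837 (iv F65729)) (tt N20203 (iv F67007)) (tt N12731 F56770) (tt N19316 (iv F64030)) (tt N16812 F56771) (tt N12727 (iv D27128)))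
theorem Q16841 : ∀ i, i < 16841 → P i := stepQ 16840 Q16840 (allL N16840 (tt N13900 F56772) (tt N13177 F56773) (tt N13887 F56774) (tt N12728 (iv D27129)) (tt N14113 (iv F56775)) (tt N19479 (iv F64568)) (tt N19271 (iv F63852)))
theorem Q16842 : ∀ i, i < 16842 → P i := stepQ 16841 Q16841 (allL N16841 (tt N20203 (iv F67006)) (tt N19272 (iv F63855)) (tt N12729 F56776) (tt N19271 F63853) (tt N19317 (iv F64033)) (tt N20204 D30557) (tt N12728 (iv D27130)))
theorem Q16843 : ∀ i, i < 16843 → P i := stepQ 16842 Q16842 (allL N16842 (tt N16812 F56777) (tt N18159 (iv F60739)) (tt N20204 (iv F67012)) (tt N12732 F56778) (tt N18161 (iv F60745)) (tt N12729 (iv D27131)) (tt N16810 F56779))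
theorem Q16844 : ∀ i, i < 16844 → P i := stepQ 16843 Q16843 (allL N16843 (tt N18550 (iv F61961)) (tt N12731 (iv D27132)) (tt N17912 (iv F60034)) (tt N19837 (iv F65730)) (tt N12816 F56780) (tt N20205 D30558) (tt N14825 F56781))
theorem Q16845 : ∀ i, i < 16845 → P i := stepQ 16844 Q16844 (allL N16844 (tt N12734 F56782) (tt N20206 D30559) (tt N12733 (iv D27133)) (tt N18595 (iv F62114)) (tt N20155 (iv F66844)) (tt N16742 F56783) (tt N13259 F56784))
theorem Q16846 : ∀ i, i < 16846 → P i := stepQ 16845 Q16845 (allL N16845 (tt N16845 F56785) (tt N12741 (iv D27134)) (tt N18601 (iv F62132)) (tt N17498 (iv F58716)) (tt N20156 (iv F66851)) (tt N20207 D30560) (tt N18601 (iv F62134)))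
theorem Q16847 : ∀ i, i < 16847 → P i := stepQ 16846 Q16846 (allL N16846 (tt N12743 F56786) (tt N20208 D30561) (tt N12742 (iv D27135)) (tt N18584 (iv F62072)) (tt N20160 (iv F66860)) (tt N13272 F56787) (tt N16740 F56788))
theorem Q16848 : ∀ i, i < 16848 → P i := stepQ 16847 Q16847 (allL N16847 (tt N16847 F56789) (tt N12750 (iv D27136)) (tt N18592 (iv F62101)) (tt N17503 (iv F58736)) (tt N20161 (iv F66867)) (tt N18592 (iv F62103)) (tt N20209 D30562))
theorem Q16849 : ∀ i, i < 16849 → P i := stepQ 16848 Q16848 (allL N16848 (tt N16603 F56790) (tt N20210 D30563) (tt N16323 F56791) (tt N12754 F56792) (tt N14393 F56793) (tt N14392 F56794) (tt N12753 (iv D27137)))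
theorem Q16850 : ∀ i, i < 16850 → P i := stepQ 16849 Q16849 (allL N16849 (tt N16849 F56795) (tt N12754 (iv D27138)) (tt N14947 F56796) (tt N20210 (iv F67040)) (tt N14737 F56797) (tt N17502 (iv F58733)) (tt N14947 F56798))
theorem Q16851 : ∀ i, i < 16851 → P i := stepQ 16850 Q16850 (allL N16850 (tt N16626 F56799) (tt N20211 D30564) (tt N16467 F56800) (tt N12758 F56801) (tt N14338 F56802) (tt N12757 (iv D27139)) (tt N14337 F56803))
theorem Q16852 : ∀ i, i < 16852 → P i := stepQ 16851 Q16851 (allL N16851 (tt N16851 F56804) (tt N12758 (iv D27140)) (tt N14995 F56805) (tt N20211 (iv F67046)) (tt N14718 F56806) (tt N14995 F56807) (tt N17507 (iv F58756)))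
theorem Q16853 : ∀ i, i < 16853 → P i := stepQ 16852 Q16852 (allL N16852 (tt N14477 F56811) (tt N12760 (iv D27141)) (tt N15794 F56808) (tt N20165 (iv F66879)) (tt N12761 F56809) (tt N14476 (iv F56812)) (tt N15793 F56810))
theorem Q16854 : ∀ i, i < 16854 → P i := stepQ 16853 Q16853 (allL N16853 (tt N13004 F56813) (tt N12916 F56814) (tt N18578 (iv F62053)) (tt N20168 (iv F66887)) (tt N12762 (iv D27142)) (tt N12913 F56815) (tt N13001 F56816))
theorem Q16855 : ∀ i, i < 16855 → P i := stepQ 16854 Q16854 (allL N16854 (tt N12763 (iv D27143)) (tt N17939 (iv F60136)) (tt N15863 F56817) (tt N19749 (iv F65463)) (tt N12764 F56818) (tt N14316 F56819) (tt N12811 F56820))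
theorem Q16856 : ∀ i, i < 16856 → P i := stepQ 16855 Q16855 (allL N16855 (tt N16323 F56821) (tt N16870 (iv F56879)) (tt N16603 F56822) (tt N16322 F56823) (tt N18172 (iv F60783)) (tt N16321 F56824) (tt N12766 (iv D27144)))
theorem Q16857 : ∀ i, i < 16857 → P i := stepQ 16856 Q16856 (allL N16856 (tt N12770 F56825) (tt N14019 F56826) (tt N12769 (iv D27145)) (tt N14020 F56827) (tt N17604 (iv F59051)) (tt N12771 F56828) (tt N13930 F56829))
theorem Q16858 : ∀ i, i < 16858 → P i := stepQ 16857 Q16857 (allL N16857 (tt N17452 F58558) (tt N12771 (iv D27146)) (tt N17458 (iv F58561)) (tt N17843 (iv F59780)) (tt N17612 F59073) (tt N17457 (iv F58557)) (tt N17451 F58559))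
theorem Q16859 : ∀ i, i < 16859 → P i := stepQ 16858 Q16858 (allL N16858 (tt N12773 F56830) (tt N16232 (iv F56834)) (tt N12772 F56831) (tt N13955 F56832) (tt N17614 (iv F59078)) (tt N13953 F56833) (tt N12771 (iv D27147)))
theorem Q16860 : ∀ i, i < 16860 → P i := stepQ 16859 Q16859 (allL N16859 (tt N15962 F56835) (tt N14637 F56836) (tt N18068 (iv F60488)) (tt N12778 (iv D27148)) (tt N14390 F56837) (tt N20212 D30565) (tt N14644 F56838))
theorem Q16861 : ∀ i, i < 16861 → P i := stepQ 16860 Q16860 (allL N16860 (tt N14481 F56839) (tt N15811 F56840) (tt N12780 F56841) (tt N20212 (iv F67052)) (tt N12779 F56842) (tt N12778 (iv D27149)) (tt N18477 (iv F61694)))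
theorem Q16862 : ∀ i, i < 16862 → P i := stepQ 16861 Q16861 (allL N16861 (tt N14526 (iv F56846)) (tt N12785 (iv D27150)) (tt N15545 F56843) (tt N20182 (iv F66935)) (tt N12786 F56844) (tt N15544 F56845) (tt N14525 (iv F56847)))
theorem Q16863 : ∀ i, i < 16863 → P i := stepQ 16862 Q16862 (allL N16862 (tt N13077 F56848) (tt N12901 F56849) (tt N18565 (iv F62010)) (tt N20185 (iv F66943)) (tt N12787 (iv D27151)) (tt N13075 F56850) (tt N12898 F56851))
theorem Q16864 : ∀ i, i < 16864 → P i := stepQ 16863 Q16863 (allL N16863 (tt N12788 (iv D27152)) (tt N17949 (iv F60178)) (tt N15629 F56852) (tt N19845 (iv F65763)) (tt N12789 F56853) (tt N12815 F56854) (tt N14371 F56855))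
theorem Q16865 : ∀ i, i < 16865 → P i := stepQ 16864 Q16864 (allL N16864 (tt N16467 F56856) (tt N16871 (iv F56884)) (tt N16626 F56857) (tt N16372 F56858) (tt N18118 (iv F60621)) (tt N12791 (iv D27153)) (tt N16371 F56859))
theorem Q16866 : ∀ i, i < 16866 → P i := stepQ 16865 Q16865 (allL N16865 (tt N12795 F56860) (tt N14000 F56861) (tt N12794 (iv D27154)) (tt N14001 F56862) (tt N17576 (iv F58979)) (tt N13933 F56863) (tt N12796 F56864))
theorem Q16867 : ∀ i, i < 16867 → P i := stepQ 16866 Q16866 (allL N16866 (tt N17477 (iv F58636)) (tt N12796 (iv D27155)) (tt N17435 (iv F58471)) (tt N17833 (iv F59739)) (tt N17584 F59002) (tt N17476 (iv F58635)) (tt N17434 F58469))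
theorem Q16868 : ∀ i, i < 16868 → P i := stepQ 16867 Q16867 (allL N16867 (tt N12798 F56865) (tt N16261 (iv F56869)) (tt N12797 F56866) (tt N13975 F56867) (tt N17586 (iv F59007)) (tt N12796 (iv D27156)) (tt N13974 F56868))
theorem Q16869 : ∀ i, i < 16869 → P i := stepQ 16868 Q16868 (allL N16868 (tt N15737 F56870) (tt N14666 F56871) (tt N18039 (iv F60409)) (tt N12803 (iv D27157)) (tt N14335 F56872) (tt N14672 F56873) (tt N20213 D30566))
theorem Q16870 : ∀ i, i < 16870 → P i := stepQ 16869 Q16869 (allL N16869 (tt N14530 F56874) (tt N15568 F56875) (tt N12805 F56876) (tt N20213 (iv F67056)) (tt N12804 F56877) (tt N18505 (iv F61803)) (tt N12803 (iv D27158)))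
theorem Q16871 : ∀ i, i < 16871 → P i := stepQ 16870 Q16870 (allL N16870 (tt N13297 F56878) (tt N16855 F56879) (tt N16270 F56880) (tt N14796 F56881) (tt N20201 (iv F67001)) (tt N16270 F56882) (tt N12812 (iv D27159)))
theorem Q16872 : ∀ i, i < 16872 → P i := stepQ 16871 Q16871 (allL N16871 (tt N13356 F56883) (tt N16864 F56884) (tt N16425 F56885) (tt N14829 F56886) (tt N20205 (iv F67018)) (tt N12816 (iv D27160)) (tt N16425 F56887))
theorem Q16873 : ∀ i, i < 16873 → P i := stepQ 16872 Q16872 (allL N16872 (tt N12824 F56888) (tt N14540 F56889) (tt N12823 (iv D27161)) (tt N14539 F56891) (tt N17878 (iv F59900)) (tt N12842 F56890) (tt N16896 (iv F56959)))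
theorem Q16874 : ∀ i, i < 16874 → P i := stepQ 16873 Q16873 (allL N16873 (tt N14539 F56892) (tt N15070 F56893) (tt N14289 F56894) (tt N12824 (iv D27162)) (tt N14288 (iv F56896)) (tt N12844 F56895) (tt N20214 D30567))
theorem Q16875 : ∀ i, i < 16875 → P i := stepQ 16874 Q16874 (allL N16874 (tt N16896 (iv F56957)) (tt N18723 (iv F62458)) (tt N12825 F56897) (tt N20214 (iv F67060)) (tt N17881 (iv F59912)) (tt N16890 (iv F56944)) (tt N12824 (iv D27163)))
theorem Q16876 : ∀ i, i < 16876 → P i := stepQ 16875 Q16875 (allL N16875 (tt N20125 (iv F66735)) (tt N12825 (iv D27164)) (tt N20215 D30568) (tt N12832 F56898) (tt N17882 (iv F59915)) (tt N14891 (iv F56900)) (tt N12826 F56899))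
theorem Q16877 : ∀ i, i < 16877 → P i := stepQ 16876 Q16876 (allL N16876 (tt N12826 (iv D27165)) (tt N17004 (iv F57257)) (tt N19700 (iv F65317)) (tt N12833 F56901) (tt N16975 (iv F57172)) (tt N12951 F56902) (tt N20125 (iv F66739)))
theorem Q16878 : ∀ i, i < 16878 → P i := stepQ 16877 Q16877 (allL N16877 (tt N19700 (iv F65315)) (tt N15072 F56903) (tt N12826 (iv D27166)) (tt N19699 F65314) (tt N20100 (iv F66636)) (tt N20216 D30569) (tt N20215 (iv F67063)))
theorem Q16879 : ∀ i, i < 16879 → P i := stepQ 16878 Q16878 (allL N16878 (tt N12951 F56904) (tt N15445 F56905) (tt N20216 (iv F67066)) (tt N12835 F56906) (tt N16973 (iv F57167)) (tt N12826 (iv D27167)) (tt N16782 F56907))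
theorem Q16880 : ∀ i, i < 16880 → P i := stepQ 16879 Q16879 (allL N16879 (tt N12828 F56908) (tt N14591 F56909) (tt N12827 (iv D27168)) (tt N14590 F56911) (tt N17902 (iv F59992)) (tt N16907 (iv F56994)) (tt N12848 F56910))
theorem Q16881 : ∀ i, i < 16881 → P i := stepQ 16880 Q16880 (allL N16880 (tt N14590 F56912) (tt N15073 F56913) (tt N14344 F56914) (tt N12828 (iv D27169)) (tt N14343 (iv F56916)) (tt N20217 D30570) (tt N12850 F56915))
theorem Q16882 : ∀ i, i < 16882 → P i := stepQ 16881 Q16881 (allL N16881 (tt N16907 (iv F56992)) (tt N18733 (iv F62496)) (tt N12829 F56917) (tt N20217 (iv F67070)) (tt N17905 (iv F60004)) (tt N12828 (iv D27170)) (tt N16901 (iv F56979)))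
theorem Q16883 : ∀ i, i < 16883 → P i := stepQ 16882 Q16882 (allL N16882 (tt N20118 (iv F66707)) (tt N12829 (iv D27171)) (tt N20218 D30571) (tt N12837 F56918) (tt N17906 (iv F60007)) (tt N12830 F56919) (tt N14860 F56920))
theorem Q16884 : ∀ i, i < 16884 → P i := stepQ 16883 Q16883 (allL N16883 (tt N12830 (iv D27172)) (tt N16979 (iv F57183)) (tt N19794 (iv F65600)) (tt N12838 F56921) (tt N17001 (iv F57248)) (tt N20118 (iv F66710)) (tt N12935 (iv F56922)))
theorem Q16885 : ∀ i, i < 16885 → P i := stepQ 16884 Q16884 (allL N16884 (tt N19794 (iv F65598)) (tt N15075 F56923) (tt N12830 (iv D27173)) (tt N19793 F65597) (tt N20101 (iv F66638)) (tt N20218 (iv F67072)) (tt N20219 D30572))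
theorem Q16886 : ∀ i, i < 16886 → P i := stepQ 16885 Q16885 (allL N16885 (tt N12935 F56924) (tt N15341 F56925) (tt N20219 (iv F67076)) (tt N12840 F56926) (tt N16998 (iv F57239)) (tt N16808 (iv F56927)) (tt N12830 (iv D27174)))
theorem Q16887 : ∀ i, i < 16887 → P i := stepQ 16886 Q16886 (allL N16886 (tt N12841 (iv D27175)) (tt N12867 F56928) (tt N16887 (iv F56934)) (tt N12853 F56929) (tt N16887 (iv F56936)) (tt N16682 F56930) (tt N15185 (iv F56931)))
theorem Q16888 : ∀ i, i < 16888 → P i := stepQ 16887 Q16887 (allL N16887 (tt N16682 F56932) (tt N15601 F56933) (tt N16886 F56934) (tt N12855 F56935) (tt N16886 F56936) (tt N12841 (iv D27176)) (tt N16991 (iv F57220)))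
theorem Q16889 : ∀ i, i < 16889 → P i := stepQ 16888 Q16888 (allL N16888 (tt N15185 F56937) (tt N17010 F57276) (tt N20102 (iv F66641)) (tt N12856 F56938) (tt N20102 (iv F66643)) (tt N20102 (iv F66644)) (tt N12841 (iv D27177)))
theorem Q16890 : ∀ i, i < 16890 → P i := stepQ 16889 Q16889 (allL N16889 (tt N12844 F56939) (tt N20103 (iv F66646)) (tt N14155 F56941) (tt N12842 (iv D27178)) (tt N18473 (iv F61679)) (tt N14539 F56940) (tt N20220 D30573))
theorem Q16891 : ∀ i, i < 16891 → P i := stepQ 16890 Q16890 (allL N16890 (tt N12845 F56942) (tt N20221 D30574) (tt N12843 F56943) (tt N20220 (iv F67080)) (tt N20104 (iv F66651)) (tt N16874 F56944) (tt N12842 (iv D27179)))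
theorem Q16892 : ∀ i, i < 16892 → P i := stepQ 16891 Q16891 (allL N16891 (tt N17012 (iv F57281)) (tt N12843 (iv D27180)) (tt N15402 (iv F56947)) (tt N12858 F56945) (tt N16987 (iv F57206)) (tt N12950 F56946) (tt N17010 (iv F57275)))
theorem Q16893 : ∀ i, i < 16893 → P i := stepQ 16892 Q16892 (allL N16892 (tt N14155 F56948) (tt N16908 (iv F56996)) (tt N12844 (iv D27181)) (tt N14153 F56949) (tt N14290 (iv F56951)) (tt N14289 F56950) (tt N20164 (iv F66878)))
theorem Q16894 : ∀ i, i < 16894 → P i := stepQ 16893 Q16893 (allL N16893 (tt N18473 (iv F61678)) (tt N15037 F56952) (tt N14290 F56953) (tt N20106 (iv F66660)) (tt N12844 (iv D27182)) (tt N14288 F56954) (tt N20222 D30575))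
theorem Q16895 : ∀ i, i < 16895 → P i := stepQ 16894 Q16894 (allL N16894 (tt N20220 (iv F67078)) (tt N20223 D30576) (tt N20164 (iv F66875)) (tt N12845 F56955) (tt N20222 (iv F67084)) (tt N18351 (iv F61309)) (tt N12844 (iv D27183)))
theorem Q16896 : ∀ i, i < 16896 → P i := stepQ 16895 Q16895 (allL N16895 (tt N20224 D30577) (tt N12845 (iv D27184)) (tt N16933 (iv F57059)) (tt N20223 (iv F67086)) (tt N20108 (iv F66666)) (tt N20225 D30578) (tt N15039 F56956))
theorem Q16897 : ∀ i, i < 16897 → P i := stepQ 16896 Q16896 (allL N16896 (tt N16874 F56957) (tt N20226 D30579) (tt N12846 F56958) (tt N18351 (iv F61308)) (tt N20109 (iv F66671)) (tt N12845 (iv D27185)) (tt N16872 F56959))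
theorem Q16898 : ∀ i, i < 16898 → P i := stepQ 16897 Q16897 (allL N16897 (tt N12847 (iv D27186)) (tt N12879 F56960) (tt N16899 F56970) (tt N12859 F56961) (tt N16899 (iv F56969)) (tt N15151 (iv F56962)) (tt N16688 (iv F56963)))
theorem Q16899 : ∀ i, i < 16899 → P i := stepQ 16898 Q16898 (allL N16898 (tt N15151 F56964) (tt N16986 F57202) (tt N20110 (iv F66675)) (tt N12861 F56965) (tt N20110 (iv F66677)) (tt N12847 (iv D27188)) (tt N20110 (iv F66678)))
theorem Q16900 : ∀ i, i < 16900 → P i := stepQ 16899 Q16899 (allL N16899 (tt N16688 F56966) (tt N15840 F56967) (tt N16897 (iv F56970)) (tt N12862 F56968) (tt N16897 F56969) (tt N16966 (iv F57148)) (tt N12847 (iv D27189)))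
theorem Q16901 : ∀ i, i < 16901 → P i := stepQ 16900 Q16900 (allL N16900 (tt N12850 F56974) (tt N20111 (iv F66680)) (tt N14176 F56976) (tt N12848 (iv D27190)) (tt N18504 (iv F61797)) (tt N20227 D30580) (tt N14590 F56975))
theorem Q16902 : ∀ i, i < 16902 → P i := stepQ 16901 Q16901 (allL N16901 (tt N12851 F56977) (tt N20228 D30581) (tt N12849 F56978) (tt N20227 (iv F67094)) (tt N20112 (iv F66685)) (tt N12848 (iv D27191)) (tt N16881 F56979))
theorem Q16903 : ∀ i, i < 16903 → P i := stepQ 16902 Q16902 (allL N16902 (tt N16987 (iv F57203)) (tt N12849 (iv D27192)) (tt N15504 (iv F56982)) (tt N12864 F56980) (tt N17012 (iv F57284)) (tt N16986 (iv F57201)) (tt N12933 F56981))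
theorem Q16904 : ∀ i, i < 16904 → P i := stepQ 16903 Q16903 (allL N16903 (tt N14176 F56983) (tt N16910 (iv F57002)) (tt N12850 (iv D27193)) (tt N14174 F56984) (tt N14346 (iv F56986)) (tt N20181 (iv F66934)) (tt N14344 F56985))
theorem Q16905 : ∀ i, i < 16905 → P i := stepQ 16904 Q16904 (allL N16904 (tt N18504 (iv F61796)) (tt N15049 F56987) (tt N14346 F56988) (tt N20114 (iv F66694)) (tt N12850 (iv D27194)) (tt N20229 D30582) (tt N14343 F56989))
theorem Q16906 : ∀ i, i < 16906 → P i := stepQ 16905 Q16905 (allL N16905 (tt N20227 (iv F67092)) (tt N20230 D30583) (tt N20181 (iv F66931)) (tt N12851 F56990) (tt N20229 (iv F67098)) (tt N12850 (iv D27195)) (tt N18413 (iv F61527)))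
theorem Q16907 : ∀ i, i < 16907 → P i := stepQ 16906 Q16906 (allL N16906 (tt N20231 D30584) (tt N12851 (iv D27196)) (tt N16921 (iv F57029)) (tt N20230 (iv F67100)) (tt N20116 (iv F66700)) (tt N15051 F56991) (tt N20232 D30585))
theorem Q16908 : ∀ i, i < 16908 → P i := stepQ 16907 Q16907 (allL N16907 (tt N16881 F56992) (tt N20233 D30586) (tt N12852 F56993) (tt N18413 (iv F61526)) (tt N20117 (iv F66705)) (tt N16879 F56994) (tt N12851 (iv D27197)))
theorem Q16909 : ∀ i, i < 16909 → P i := stepQ 16908 Q16908 (allL N16908 (tt N15024 F56995) (tt N16892 F56996) (tt N18619 (iv F62199)) (tt N12854 (iv D27198)) (tt N15023 F56997) (tt N18619 (iv F62202)) (tt N20234 D30587))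
theorem Q16910 : ∀ i, i < 16910 → P i := stepQ 16909 Q16909 (allL N16909 (tt N15845 F56998) (tt N17217 (iv F57829)) (tt N12856 F56999) (tt N20234 (iv F67108)) (tt N13255 F57000) (tt N18526 (iv F61869)) (tt N12854 (iv D27199)))
theorem Q16911 : ∀ i, i < 16911 → P i := stepQ 16910 Q16910 (allL N16910 (tt N15028 F57001) (tt N16903 F57002) (tt N18634 (iv F62238)) (tt N12860 (iv D27200)) (tt N15027 F57003) (tt N20235 D30588) (tt N18634 (iv F62241)))
theorem Q16912 : ∀ i, i < 16912 → P i := stepQ 16911 Q16911 (allL N16911 (tt N15611 F57004) (tt N17293 (iv F58005)) (tt N12861 F57005) (tt N20235 (iv F67112)) (tt N13256 F57006) (tt N12860 (iv D27201)) (tt N18527 (iv F61873)))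
theorem Q16913 : ∀ i, i < 16913 → P i := stepQ 16912 Q16912 (allL N16912 (tt N12868 F57007) (tt N14648 F57008) (tt N12867 (iv D27202)) (tt N14653 F57009) (tt N14648 F57010) (tt N14647 F57011) (tt N15844 F57012))
theorem Q16914 : ∀ i, i < 16914 → P i := stepQ 16913 Q16913 (allL N16913 (tt N15844 F57013) (tt N20236 D30589) (tt N12869 F57014) (tt N17567 (iv F58961)) (tt N18481 (iv F61709)) (tt N18478 (iv F61699)) (tt N12868 (iv D27203)))
theorem Q16915 : ∀ i, i < 16915 → P i := stepQ 16914 Q16914 (allL N16914 (tt N15605 F57015) (tt N17002 F57253) (tt N18478 (iv F61696)) (tt N12892 F57016) (tt N15602 F57017) (tt N12869 (iv D27204)) (tt N12891 F57018))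
theorem Q16916 : ∀ i, i < 16916 → P i := stepQ 16915 Q16915 (allL N16915 (tt N17906 (iv F60005)) (tt N12870 (iv D27205)) (tt N20237 D30590) (tt N12898 F57019) (tt N20118 (iv F66709)) (tt N17001 F57249) (tt N20185 (iv F66945)))
theorem Q16917 : ∀ i, i < 16917 → P i := stepQ 16916 Q16916 (allL N16916 (tt N16922 (iv F57030)) (tt N20238 D30591) (tt N12872 F57020) (tt N18233 (iv F60949)) (tt N20120 (iv F66721)) (tt N12871 (iv D27206)) (tt N16920 (iv F57028)))
theorem Q16918 : ∀ i, i < 16918 → P i := stepQ 16917 Q16917 (allL N16917 (tt N18983 (iv F63077)) (tt N20239 D30592) (tt N12873 (iv D27207)) (tt N20240 D30593) (tt N20121 (iv F66722)) (tt N18981 (iv F63069)) (tt N20241 D30594))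
theorem Q16919 : ∀ i, i < 16919 → P i := stepQ 16918 Q16918 (allL N16918 (tt N15270 F57021) (tt N20185 (iv F66942)) (tt N20241 (iv F67122)) (tt N12901 F57022) (tt N16992 (iv F57222)) (tt N15343 F57023) (tt N12873 (iv D27208)))
theorem Q16920 : ∀ i, i < 16920 → P i := stepQ 16919 Q16919 (allL N16919 (tt N20242 D30595) (tt N12874 (iv D27209)) (tt N20239 (iv F67117)) (tt N14436 F57024) (tt N20122 (iv F66725)) (tt N19108 F63372) (tt N20243 D30596))
theorem Q16921 : ∀ i, i < 16921 → P i := stepQ 16920 Q16920 (allL N16920 (tt N12877 F57025) (tt N20244 D30597) (tt N12875 F57026) (tt N14437 F57027) (tt N20123 (iv F66729)) (tt N12874 (iv D27210)) (tt N16916 F57028))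
theorem Q16922 : ∀ i, i < 16922 → P i := stepQ 16921 Q16921 (allL N16921 (tt N20245 D30598) (tt N12877 (iv D27211)) (tt N16906 F57029) (tt N18838 F62682) (tt N19818 (iv F65670)) (tt N18639 (iv F62252)) (tt N19815 (iv F65660)))
theorem Q16923 : ∀ i, i < 16923 → P i := stepQ 16922 Q16922 (allL N16922 (tt N16916 F57030) (tt N20246 D30599) (tt N12878 F57031) (tt N15427 F57032) (tt N20124 (iv F66733)) (tt N15426 F57033) (tt N12877 (iv D27212)))
theorem Q16924 : ∀ i, i < 16924 → P i := stepQ 16923 Q16923 (allL N16923 (tt N16729 F57034) (tt N12878 (iv D27213)) (tt N20247 D30600) (tt N12905 F57035) (tt N16981 (iv F57189)) (tt N17015 (iv F57296)) (tt N16727 F57036))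
theorem Q16925 : ∀ i, i < 16925 → P i := stepQ 16924 Q16924 (allL N16924 (tt N12880 F57037) (tt N14678 F57038) (tt N12879 (iv D27214)) (tt N14684 F57039) (tt N14678 F57040) (tt N15610 F57041) (tt N14676 F57042))
theorem Q16926 : ∀ i, i < 16926 → P i := stepQ 16925 Q16925 (allL N16925 (tt N15610 F57043) (tt N20248 D30601) (tt N12881 F57044) (tt N17595 (iv F59032)) (tt N18508 (iv F61813)) (tt N12880 (iv D27215)) (tt N18506 (iv F61808)))
theorem Q16927 : ∀ i, i < 16927 → P i := stepQ 16926 Q16926 (allL N16926 (tt N15607 F57045) (tt N16977 F57179) (tt N18506 (iv F61805)) (tt N12907 F57046) (tt N15839 F57047) (tt N12906 F57048) (tt N12881 (iv D27216)))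
theorem Q16928 : ∀ i, i < 16928 → P i := stepQ 16927 Q16927 (allL N16927 (tt N17882 (iv F59913)) (tt N12882 (iv D27217)) (tt N20249 D30602) (tt N12913 F57049) (tt N20125 (iv F66737)) (tt N20168 (iv F66888)) (tt N16975 F57173))
theorem Q16929 : ∀ i, i < 16929 → P i := stepQ 16928 Q16928 (allL N16928 (tt N16934 (iv F57060)) (tt N20250 D30603) (tt N12884 F57050) (tt N18208 (iv F60887)) (tt N20127 (iv F66749)) (tt N16932 (iv F57058)) (tt N12883 (iv D27218)))
theorem Q16930 : ∀ i, i < 16930 → P i := stepQ 16929 Q16929 (allL N16929 (tt N19122 (iv F63411)) (tt N20251 D30604) (tt N12885 (iv D27219)) (tt N20252 D30605) (tt N20128 (iv F66750)) (tt N20253 D30606) (tt N19120 (iv F63404)))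
theorem Q16931 : ∀ i, i < 16931 → P i := stepQ 16930 Q16930 (allL N16930 (tt N15217 F57051) (tt N20168 (iv F66886)) (tt N20253 (iv F67147)) (tt N12916 F57052) (tt N16967 (iv F57151)) (tt N12885 (iv D27220)) (tt N15447 F57053))
theorem Q16932 : ∀ i, i < 16932 → P i := stepQ 16931 Q16931 (allL N16931 (tt N20254 D30607) (tt N12886 (iv D27221)) (tt N20251 (iv F67142)) (tt N14414 F57054) (tt N20129 (iv F66753)) (tt N20255 D30608) (tt N18968 F63032))
theorem Q16933 : ∀ i, i < 16933 → P i := stepQ 16932 Q16932 (allL N16932 (tt N12889 F57055) (tt N20256 D30609) (tt N12887 F57056) (tt N14415 F57057) (tt N20130 (iv F66757)) (tt N16928 F57058) (tt N12886 (iv D27222)))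
theorem Q16934 : ∀ i, i < 16934 → P i := stepQ 16933 Q16933 (allL N16933 (tt N20257 D30610) (tt N12889 (iv D27223)) (tt N16895 F57059) (tt N18787 F62590) (tt N19725 (iv F65390)) (tt N19722 (iv F65380)) (tt N18624 (iv F62213)))
theorem Q16935 : ∀ i, i < 16935 → P i := stepQ 16934 Q16934 (allL N16934 (tt N16928 F57060) (tt N20258 D30611) (tt N12890 F57061) (tt N15530 F57062) (tt N20131 (iv F66761)) (tt N12889 (iv D27224)) (tt N15529 F57063))
theorem Q16936 : ∀ i, i < 16936 → P i := stepQ 16935 Q16935 (allL N16935 (tt N16733 F57064) (tt N12890 (iv D27225)) (tt N20259 D30612) (tt N12920 F57065) (tt N17006 (iv F57264)) (tt N16731 F57066) (tt N16990 (iv F57215)))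
theorem Q16937 : ∀ i, i < 16937 → P i := stepQ 16936 Q16936 (allL N16936 (tt N19399 F64294) (tt N12893 (iv D27226)) (tt N20260 D30613) (tt N13257 F57067) (tt N12894 F57068) (tt N20261 D30614) (tt N17188 (iv F57755)))
theorem Q16938 : ∀ i, i < 16938 → P i := stepQ 16937 Q16937 (allL N16937 (tt N12894 (iv D27227)) (tt N19398 F64291) (tt N19460 (iv F64499)) (tt N12895 F57069) (tt N19399 (iv F64293)) (tt N20262 D30615) (tt N20152 (iv F66839)))
theorem Q16939 : ∀ i, i < 16939 → P i := stepQ 16938 Q16938 (allL N16938 (tt N19460 (iv F64498)) (tt N19233 (iv F63718)) (tt N12894 (iv D27228)) (tt N19458 (iv F64494)) (tt N20260 (iv F67168)) (tt N20263 D30616) (tt N20153 (iv F66840)))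
theorem Q16940 : ∀ i, i < 16940 → P i := stepQ 16939 Q16939 (allL N16939 (tt N20262 (iv F67174)) (tt N17043 (iv F57371)) (tt N20263 (iv F67177)) (tt N12897 F57070) (tt N20261 (iv F67172)) (tt N12894 (iv D27229)) (tt N20264 D30617))
theorem Q16941 : ∀ i, i < 16941 → P i := stepQ 16940 Q16940 (allL N16940 (tt N12896 F57071) (tt N17540 F58869) (tt N12895 (iv D27230)) (tt N15769 (iv F57073)) (tt N13259 F57072) (tt N20137 F66790) (tt N20155 (iv F66846)))
theorem Q16942 : ∀ i, i < 16942 → P i := stepQ 16941 Q16941 (allL N16941 (tt N12897 F57074) (tt N17864 (iv F59851)) (tt N20137 (iv F66787)) (tt N20262 (iv F67175)) (tt N13260 F57075) (tt N12895 (iv D27231)) (tt N16755 F57076))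
theorem Q16943 : ∀ i, i < 16943 → P i := stepQ 16942 Q16942 (allL N16942 (tt N20137 (iv F66785)) (tt N17854 (iv F59820)) (tt N12897 F57077) (tt N15771 F57078) (tt N13261 F57079) (tt N12896 (iv D27232)) (tt N20136 F66784))
theorem Q16944 : ∀ i, i < 16944 → P i := stepQ 16943 Q16943 (allL N16943 (tt N16755 F57080) (tt N14740 (iv F57083)) (tt N20136 (iv F66781)) (tt N20264 (iv F67180)) (tt N13262 F57081) (tt N16753 F57082) (tt N12897 (iv D27233)))
theorem Q16945 : ∀ i, i < 16945 → P i := stepQ 16944 Q16944 (allL N16944 (tt N16588 F57084) (tt N18574 (iv F62042)) (tt N12898 (iv D27234)) (tt N20265 D30618) (tt N13263 F57085) (tt N17172 F57712) (tt N18565 (iv F62012)))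
theorem Q16946 : ∀ i, i < 16946 → P i := stepQ 16945 Q16945 (allL N16945 (tt N12900 F57086) (tt N20266 D30619) (tt N12899 (iv D27235)) (tt N20267 D30620) (tt N13264 F57087) (tt N13482 F57088) (tt N15271 F57089))
theorem Q16947 : ∀ i, i < 16947 → P i := stepQ 16946 Q16946 (allL N16946 (tt N18564 (iv F62004)) (tt N12900 (iv D27236)) (tt N12902 F57090) (tt N20268 D30621) (tt N13265 F57091) (tt N13474 F57092) (tt N19318 (iv F64037)))
theorem Q16948 : ∀ i, i < 16948 → P i := stepQ 16947 Q16947 (allL N16947 (tt N20267 (iv F67188)) (tt N20268 (iv F67192)) (tt N20269 D30622) (tt N12900 (iv D27237)) (tt N13209 F57093) (tt N13208 F57094) (tt N20270 D30623))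
theorem Q16949 : ∀ i, i < 16949 → P i := stepQ 16948 Q16948 (allL N16948 (tt N15271 F57095) (tt N17225 F57849) (tt N12901 F57096) (tt N20270 (iv F67198)) (tt N13266 F57097) (tt N16737 F57098) (tt N12900 (iv D27238)))
theorem Q16950 : ∀ i, i < 16950 → P i := stepQ 16949 Q16949 (allL N16949 (tt N15634 F57099) (tt N17491 (iv F58687)) (tt N13474 F57100) (tt N15632 F57101) (tt N13267 F57102) (tt N12902 (iv D27239)) (tt N13477 F57103))
theorem Q16951 : ∀ i, i < 16951 → P i := stepQ 16950 Q16950 (allL N16950 (tt N18594 (iv F62109)) (tt N12903 (iv D27240)) (tt N17492 (iv F58693)) (tt N15321 F57104) (tt N13269 F57105) (tt N17491 (iv F58690)) (tt N17865 (iv F59858)))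
theorem Q16952 : ∀ i, i < 16952 → P i := stepQ 16951 Q16951 (allL N16951 (tt N19605 F65026) (tt N12908 (iv D27241)) (tt N20271 D30624) (tt N13270 F57106) (tt N12909 F57107) (tt N17264 (iv F57931)) (tt N20272 D30625))
theorem Q16953 : ∀ i, i < 16953 → P i := stepQ 16952 Q16952 (allL N16952 (tt N12909 (iv D27242)) (tt N19603 F65019) (tt N19660 (iv F65203)) (tt N12910 F57108) (tt N19605 (iv F65025)) (tt N20157 (iv F66855)) (tt N20273 D30626))
theorem Q16954 : ∀ i, i < 16954 → P i := stepQ 16953 Q16953 (allL N16953 (tt N19660 (iv F65202)) (tt N19475 (iv F64552)) (tt N12909 (iv D27243)) (tt N19658 (iv F65198)) (tt N20271 (iv F67203)) (tt N20158 (iv F66856)) (tt N20274 D30627))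
theorem Q16955 : ∀ i, i < 16955 → P i := stepQ 16954 Q16954 (allL N16954 (tt N20273 (iv F67209)) (tt N17133 (iv F57609)) (tt N20274 (iv F67212)) (tt N12912 F57109) (tt N20272 (iv F67207)) (tt N20275 D30628) (tt N12909 (iv D27244)))
theorem Q16956 : ∀ i, i < 16956 → P i := stepQ 16955 Q16955 (allL N16955 (tt N12911 F57110) (tt N17536 F58855) (tt N12910 (iv D27245)) (tt N15994 (iv F57112)) (tt N13272 F57111) (tt N20160 (iv F66861)) (tt N20134 (iv F66776)))
theorem Q16957 : ∀ i, i < 16957 → P i := stepQ 16956 Q16956 (allL N16956 (tt N12912 F57113) (tt N17876 (iv F59891)) (tt N20134 (iv F66773)) (tt N20273 (iv F67210)) (tt N13273 F57114) (tt N16763 F57115) (tt N12910 (iv D27246)))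
theorem Q16958 : ∀ i, i < 16958 → P i := stepQ 16957 Q16957 (allL N16957 (tt N20134 (iv F66771)) (tt N17866 (iv F59860)) (tt N12912 F57116) (tt N15996 F57117) (tt N13274 F57118) (tt N20133 (iv F66770)) (tt N12911 (iv D27247)))
theorem Q16959 : ∀ i, i < 16959 → P i := stepQ 16958 Q16958 (allL N16958 (tt N16763 F57119) (tt N14761 (iv F57122)) (tt N20133 (iv F66767)) (tt N20275 (iv F67216)) (tt N13275 F57120) (tt N12912 (iv D27248)) (tt N16761 F57121))
theorem Q16960 : ∀ i, i < 16960 → P i := stepQ 16959 Q16959 (allL N16959 (tt N16553 F57123) (tt N18560 (iv F61995)) (tt N12913 (iv D27249)) (tt N20276 D30629) (tt N13276 F57124) (tt N18578 (iv F62054)) (tt N17086 F57482))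
theorem Q16961 : ∀ i, i < 16961 → P i := stepQ 16960 Q16960 (allL N16960 (tt N12915 F57125) (tt N20277 D30630) (tt N12914 (iv D27250)) (tt N20278 D30631) (tt N13277 F57126) (tt N15218 F57127) (tt N13430 F57128))
theorem Q16962 : ∀ i, i < 16962 → P i := stepQ 16961 Q16961 (allL N16961 (tt N18569 (iv F62021)) (tt N12915 (iv D27251)) (tt N12917 F57129) (tt N20279 D30632) (tt N13278 F57130) (tt N19545 (iv F64819)) (tt N13422 F57131))
theorem Q16963 : ∀ i, i < 16963 → P i := stepQ 16962 Q16962 (allL N16962 (tt N20278 (iv F67225)) (tt N20279 (iv F67229)) (tt N20280 D30633) (tt N12915 (iv D27252)) (tt N13151 F57132) (tt N20281 D30634) (tt N13149 F57133))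
theorem Q16964 : ∀ i, i < 16964 → P i := stepQ 16963 Q16963 (allL N16963 (tt N15218 F57134) (tt N17301 F58026) (tt N12916 F57135) (tt N20281 (iv F67235)) (tt N13279 F57136) (tt N12915 (iv D27253)) (tt N16734 F57137))
theorem Q16965 : ∀ i, i < 16965 → P i := stepQ 16964 Q16964 (allL N16964 (tt N15868 F57138) (tt N17482 (iv F58652)) (tt N13422 F57139) (tt N15866 F57140) (tt N13281 F57141) (tt N13425 F57142) (tt N12917 (iv D27254)))
theorem Q16966 : ∀ i, i < 16966 → P i := stepQ 16965 Q16965 (allL N16965 (tt N18583 (iv F62067)) (tt N12918 (iv D27255)) (tt N17483 (iv F58658)) (tt N15268 F57143) (tt N13282 F57144) (tt N17877 (iv F59897)) (tt N17482 (iv F58656)))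
theorem Q16967 : ∀ i, i < 16967 → P i := stepQ 16966 Q16966 (allL N16966 (tt N20110 (iv F66673)) (tt N12921 (iv D27256)) (tt N15151 F57145) (tt N12956 F57146) (tt N15151 F57147) (tt N16899 F57148) (tt N15151 F57149))
theorem Q16968 : ∀ i, i < 16968 → P i := stepQ 16967 Q16967 (allL N16967 (tt N12922 (iv D27257)) (tt N16782 F57154) (tt N20282 D30635) (tt N12967 F57150) (tt N16930 F57151) (tt N16708 F57153) (tt N12923 F57152))
theorem Q16969 : ∀ i, i < 16969 → P i := stepQ 16968 Q16968 (allL N16968 (tt N20282 (iv F67239)) (tt N15328 F57155) (tt N12922 (iv D27258)) (tt N20283 D30636) (tt N18840 (iv F62685)) (tt N20284 D30637) (tt N12924 F57156))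
theorem Q16970 : ∀ i, i < 16970 → P i := stepQ 16969 Q16969 (allL N16969 (tt N16708 F57157) (tt N16994 (iv F57229)) (tt N20284 (iv F67246)) (tt N12969 F57158) (tt N15452 F57159) (tt N12922 (iv D27259)) (tt N15449 F57160))
theorem Q16971 : ∀ i, i < 16971 → P i := stepQ 16970 Q16970 (allL N16970 (tt N12924 F57161) (tt N16970 F57162) (tt N12923 (iv D27260)) (tt N20285 D30638) (tt N19118 (iv F63395)) (tt N19119 (iv F63400)) (tt N20282 (iv F67242)))
theorem Q16972 : ∀ i, i < 16972 → P i := stepQ 16971 Q16971 (allL N16971 (tt N20285 (iv F67249)) (tt N15324 F57163) (tt N20286 D30639) (tt N12924 (iv D27261)) (tt N20287 D30640) (tt N20288 D30641) (tt N20283 (iv F67244)))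
theorem Q16973 : ∀ i, i < 16973 → P i := stepQ 16972 Q16972 (allL N16972 (tt N19119 (iv F63397)) (tt N20289 D30642) (tt N12925 F57164) (tt N20288 (iv F67254)) (tt N19120 (iv F63402)) (tt N12924 (iv D27262)) (tt N20128 (iv F66751)))
theorem Q16974 : ∀ i, i < 16974 → P i := stepQ 16973 Q16973 (allL N16973 (tt N12927 (iv D27263)) (tt N15448 F57165) (tt N20290 D30643) (tt N13001 F57166) (tt N16878 F57167) (tt N16680 (iv F57168)) (tt N20168 (iv F66889)))
theorem Q16975 : ∀ i, i < 16975 → P i := stepQ 16974 Q16974 (allL N16974 (tt N20290 (iv F67262)) (tt N15495 F57169) (tt N12927 (iv D27264)) (tt N20291 D30644) (tt N17013 (iv F57288)) (tt N20292 D30645) (tt N20293 D30646))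
theorem Q16976 : ∀ i, i < 16976 → P i := stepQ 16975 Q16975 (allL N16975 (tt N16680 F57170) (tt N16990 (iv F57213)) (tt N20292 (iv F67269)) (tt N13003 F57171) (tt N16876 F57172) (tt N12927 (iv D27265)) (tt N16927 (iv F57173)))
theorem Q16977 : ∀ i, i < 16977 → P i := stepQ 16976 Q16976 (allL N16976 (tt N20168 (iv F66885)) (tt N12934 F57174) (tt N20293 (iv F67273)) (tt N13004 F57175) (tt N14891 F57176) (tt N17882 (iv F59916)) (tt N12927 (iv D27266)))
theorem Q16978 : ∀ i, i < 16978 → P i := stepQ 16977 Q16977 (allL N16977 (tt N12928 (iv D27267)) (tt N16926 (iv F57179)) (tt N20294 D30647) (tt N13010 F57177) (tt N17014 (iv F57291)) (tt N12929 F57178) (tt N16984 (iv F57194)))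
theorem Q16979 : ∀ i, i < 16979 → P i := stepQ 16978 Q16978 (allL N16978 (tt N20294 (iv F67275)) (tt N14228 F57180) (tt N12928 (iv D27268)) (tt N19771 (iv F65534)) (tt N15100 F57181) (tt N12930 F57182) (tt N19769 F65529))
theorem Q16980 : ∀ i, i < 16980 → P i := stepQ 16979 Q16979 (allL N16979 (tt N16984 (iv F57192)) (tt N16883 F57183) (tt N19769 (iv F65527)) (tt N13012 F57184) (tt N17015 (iv F57295)) (tt N16981 (iv F57190)) (tt N12928 (iv D27269)))
theorem Q16981 : ∀ i, i < 16981 → P i := stepQ 16980 Q16980 (allL N16980 (tt N12930 F57185) (tt N20295 D30648) (tt N12929 (iv D27270)) (tt N20296 D30649) (tt N20139 (iv F66796)) (tt N20294 (iv F67277)) (tt N20297 D30650))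
theorem Q16982 : ∀ i, i < 16982 → P i := stepQ 16981 Q16981 (allL N16981 (tt N12931 F57186) (tt N16704 F57187) (tt N20297 (iv F67282)) (tt N13014 F57188) (tt N16923 F57189) (tt N16979 F57190) (tt N12929 (iv D27271)))
theorem Q16983 : ∀ i, i < 16983 → P i := stepQ 16982 Q16982 (allL N16982 (tt N20296 (iv F67278)) (tt N18950 (iv F62995)) (tt N19784 (iv F65562)) (tt N12930 (iv D27272)) (tt N20298 D30651) (tt N19771 F65535) (tt N20299 D30652))
theorem Q16984 : ∀ i, i < 16984 → P i := stepQ 16983 Q16983 (allL N16983 (tt N20297 (iv F67281)) (tt N20300 D30653) (tt N12931 F57191) (tt N20299 (iv F67289)) (tt N20140 (iv F66799)) (tt N20301 D30654) (tt N12930 (iv D27273)))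
theorem Q16985 : ∀ i, i < 16985 → P i := stepQ 16984 Q16984 (allL N16984 (tt N16979 F57192) (tt N17009 (iv F57268)) (tt N20301 (iv F67293)) (tt N13017 F57193) (tt N20141 (iv F66802)) (tt N12931 (iv D27274)) (tt N16977 F57194))
theorem Q16986 : ∀ i, i < 16986 → P i := stepQ 16985 Q16985 (allL N16985 (tt N12933 F57195) (tt N20102 (iv F66640)) (tt N15498 F57196) (tt N13018 F57197) (tt N17010 (iv F57274)) (tt N12932 (iv D27275)) (tt N16987 (iv F57207)))
theorem Q16987 : ∀ i, i < 16987 → P i := stepQ 16986 Q16986 (allL N16986 (tt N12934 F57198) (tt N16898 (iv F57202)) (tt N15499 F57199) (tt N13019 F57200) (tt N17011 (iv F57280)) (tt N16902 F57201) (tt N12932 (iv D27276)))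
theorem Q16988 : ∀ i, i < 16988 → P i := stepQ 16987 Q16987 (allL N16987 (tt N16902 F57203) (tt N16684 F57208) (tt N15506 F57204) (tt N13021 F57205) (tt N16891 F57206) (tt N12934 (iv D27277)) (tt N16985 F57207))
theorem Q16989 : ∀ i, i < 16989 → P i := stepQ 16988 Q16988 (allL N16988 (tt N20219 (iv F67074)) (tt N15470 F57209) (tt N12935 (iv D27278)) (tt N19797 (iv F65603)) (tt N16999 (iv F57242)) (tt N18562 (iv F61999)) (tt N19794 F65601))
theorem Q16990 : ∀ i, i < 16990 → P i := stepQ 16989 Q16989 (allL N16989 (tt N12936 (iv D27279)) (tt N15602 F57210) (tt N18678 (iv F62342)) (tt N13027 F57211) (tt N17002 (iv F57251)) (tt N20145 (iv F66817)) (tt N16731 F57212))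
theorem Q16991 : ∀ i, i < 16991 → P i := stepQ 16990 Q16990 (allL N16990 (tt N20145 (iv F66813)) (tt N16975 F57213) (tt N18679 (iv F62344)) (tt N13028 F57214) (tt N17004 (iv F57259)) (tt N12936 (iv D27280)) (tt N16935 F57215))
theorem Q16992 : ∀ i, i < 16992 → P i := stepQ 16991 Q16991 (allL N16991 (tt N20102 (iv F66639)) (tt N12937 (iv D27281)) (tt N15185 F57216) (tt N13032 F57217) (tt N15185 F57218) (tt N15185 F57219) (tt N16887 F57220))
theorem Q16993 : ∀ i, i < 16993 → P i := stepQ 16992 Q16992 (allL N16992 (tt N12938 (iv D27282)) (tt N16808 (iv F57225)) (tt N20302 D30655) (tt N13043 F57221) (tt N16918 F57222) (tt N12939 F57223) (tt N16699 (iv F57224)))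
theorem Q16994 : ∀ i, i < 16994 → P i := stepQ 16993 Q16993 (allL N16993 (tt N20302 (iv F67298)) (tt N15432 F57226) (tt N12938 (iv D27283)) (tt N20303 D30656) (tt N18896 (iv F62831)) (tt N12940 F57227) (tt N20304 D30657))
theorem Q16995 : ∀ i, i < 16995 → P i := stepQ 16994 Q16994 (allL N16994 (tt N16699 F57228) (tt N16969 F57229) (tt N20304 (iv F67305)) (tt N13045 F57230) (tt N15348 F57231) (tt N15345 F57232) (tt N12938 (iv D27284)))
theorem Q16996 : ∀ i, i < 16996 → P i := stepQ 16995 Q16995 (allL N16995 (tt N12940 F57233) (tt N16995 F57234) (tt N12939 (iv D27285)) (tt N20305 D30658) (tt N18979 (iv F63059)) (tt N20302 (iv F67300)) (tt N18980 (iv F63066)))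
theorem Q16997 : ∀ i, i < 16997 → P i := stepQ 16996 Q16996 (allL N16996 (tt N20305 (iv F67308)) (tt N15429 F57235) (tt N20306 D30659) (tt N12940 (iv D27286)) (tt N20307 D30660) (tt N20303 (iv F67303)) (tt N20308 D30661))
theorem Q16998 : ∀ i, i < 16998 → P i := stepQ 16997 Q16997 (allL N16997 (tt N18980 (iv F63063)) (tt N20309 D30662) (tt N12941 F57236) (tt N20308 (iv F67313)) (tt N18981 (iv F63068)) (tt N20121 (iv F66723)) (tt N12940 (iv D27287)))
theorem Q16999 : ∀ i, i < 16999 → P i := stepQ 16998 Q16998 (allL N16998 (tt N12943 (iv D27288)) (tt N15344 F57237) (tt N20310 D30663) (tt N13075 F57238) (tt N16885 F57239) (tt N20185 (iv F66944)) (tt N16681 (iv F57240)))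
theorem Q17000 : ∀ i, i < 17000 → P i := stepQ 16999 Q16999 (allL N16999 (tt N20310 (iv F67321)) (tt N15391 F57241) (tt N12943 (iv D27289)) (tt N20311 D30664) (tt N16988 F57242) (tt N20312 D30665) (tt N20313 D30666))
theorem Q17001 : ∀ i, i < 17001 → P i := stepQ 17000 Q17000 (allL N17000 (tt N20185 (iv F66941)) (tt N12949 F57243) (tt N20312 (iv F67327)) (tt N13077 F57244) (tt N14860 F57245) (tt N12943 (iv D27290)) (tt N17906 (iv F60009)))
theorem Q17002 : ∀ i, i < 17002 → P i := stepQ 17001 Q17001 (allL N17001 (tt N16681 F57246) (tt N17015 (iv F57293)) (tt N20313 (iv F67331)) (tt N13078 F57247) (tt N16883 F57248) (tt N16915 (iv F57249)) (tt N12943 (iv D27291)))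
theorem Q17003 : ∀ i, i < 17003 → P i := stepQ 17002 Q17002 (allL N17002 (tt N12944 (iv D27292)) (tt N16914 (iv F57253)) (tt N20314 D30667) (tt N13081 F57250) (tt N16989 F57251) (tt N17009 (iv F57270)) (tt N12945 F57252))
theorem Q17004 : ∀ i, i < 17004 → P i := stepQ 17003 Q17003 (allL N17003 (tt N20314 (iv F67334)) (tt N14222 F57254) (tt N12944 (iv D27293)) (tt N19677 (iv F65254)) (tt N15090 F57255) (tt N19675 F65249) (tt N12946 F57256))
theorem Q17005 : ∀ i, i < 17005 → P i := stepQ 17004 Q17004 (allL N17004 (tt N17009 (iv F57267)) (tt N16876 F57257) (tt N19675 (iv F65247)) (tt N13083 F57258) (tt N16990 F57259) (tt N12944 (iv D27294)) (tt N17006 (iv F57265)))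
theorem Q17006 : ∀ i, i < 17006 → P i := stepQ 17005 Q17005 (allL N17005 (tt N12946 F57260) (tt N20315 D30668) (tt N12945 (iv D27295)) (tt N20316 D30669) (tt N20143 (iv F66809)) (tt N20317 D30670) (tt N20314 (iv F67336)))
theorem Q17007 : ∀ i, i < 17007 → P i := stepQ 17006 Q17006 (allL N17006 (tt N12947 F57261) (tt N16713 F57262) (tt N20317 (iv F67341)) (tt N13085 F57263) (tt N16935 F57264) (tt N12945 (iv D27296)) (tt N17004 F57265))
theorem Q17008 : ∀ i, i < 17008 → P i := stepQ 17007 Q17007 (allL N17007 (tt N20316 (iv F67337)) (tt N19097 (iv F63350)) (tt N19689 (iv F65276)) (tt N12946 (iv D27297)) (tt N20318 D30671) (tt N20319 D30672) (tt N19677 F65255))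
theorem Q17009 : ∀ i, i < 17009 → P i := stepQ 17008 Q17008 (allL N17008 (tt N20317 (iv F67340)) (tt N20320 D30673) (tt N12947 F57266) (tt N20319 (iv F67348)) (tt N20144 (iv F66812)) (tt N12946 (iv D27298)) (tt N20321 D30674))
theorem Q17010 : ∀ i, i < 17010 → P i := stepQ 17009 Q17009 (allL N17009 (tt N17004 F57267) (tt N16984 F57268) (tt N20321 (iv F67352)) (tt N13088 F57269) (tt N20145 (iv F66816)) (tt N17002 F57270) (tt N12947 (iv D27299)))
theorem Q17011 : ∀ i, i < 17011 → P i := stepQ 17010 Q17010 (allL N17010 (tt N12949 F57271) (tt N16888 (iv F57276)) (tt N15394 F57272) (tt N13089 F57273) (tt N16985 F57274) (tt N12948 (iv D27300)) (tt N16891 F57275))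
theorem Q17012 : ∀ i, i < 17012 → P i := stepQ 17011 Q17011 (allL N17011 (tt N12950 F57277) (tt N20110 (iv F66674)) (tt N15395 F57278) (tt N13090 F57279) (tt N16986 F57280) (tt N17012 (iv F57285)) (tt N12948 (iv D27301)))
theorem Q17013 : ∀ i, i < 17013 → P i := stepQ 17012 Q17012 (allL N17012 (tt N16891 F57281) (tt N16690 (iv F57286)) (tt N15401 F57282) (tt N13092 F57283) (tt N16902 F57284) (tt N17011 F57285) (tt N12949 (iv D27302)))
theorem Q17014 : ∀ i, i < 17014 → P i := stepQ 17013 Q17013 (allL N17013 (tt N20216 (iv F67064)) (tt N15367 F57287) (tt N12951 (iv D27303)) (tt N19702 (iv F65320)) (tt N16974 F57288) (tt N19700 F65318) (tt N18576 (iv F62046)))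
theorem Q17015 : ∀ i, i < 17015 → P i := stepQ 17014 Q17014 (allL N17014 (tt N12952 (iv D27304)) (tt N15839 F57289) (tt N18689 (iv F62358)) (tt N13097 F57290) (tt N16977 F57291) (tt N16727 F57292) (tt N20141 (iv F66803)))
theorem Q17016 : ∀ i, i < 17016 → P i := stepQ 17015 Q17015 (allL N17015 (tt N20141 (iv F66800)) (tt N17001 F57293) (tt N18690 (iv F62360)) (tt N13098 F57294) (tt N16979 F57295) (tt N16923 F57296) (tt N12952 (iv D27305)))
theorem Q17017 : ∀ i, i < 17017 → P i := stepQ 17016 Q17016 (allL N17016 (tt N12961 F57297) (tt N13101 F57298) (tt N14309 F57299) (tt N13283 F57300) (tt N12953 (iv D27306)) (tt N14458 (iv F57301)) (tt N15031 (iv F57302)))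
theorem Q17018 : ∀ i, i < 17018 → P i := stepQ 17017 Q17017 (allL N17017 (tt N12962 F57303) (tt N14544 F57304) (tt N14455 F57305) (tt N12954 F57306) (tt N14458 F57307) (tt N12953 (iv D27307)) (tt N17025 (iv F57328)))
theorem Q17019 : ∀ i, i < 17019 → P i := stepQ 17018 Q17018 (allL N17018 (tt N12963 F57308) (tt N15060 (iv F57311)) (tt N18470 (iv F61670)) (tt N12955 F57309) (tt N15031 F57310) (tt N17023 (iv F57324)) (tt N12953 (iv D27308)))
theorem Q17020 : ∀ i, i < 17020 → P i := stepQ 17019 Q17019 (allL N17019 (tt N12972 F57312) (tt N17952 (iv F60192)) (tt N18189 (iv F60843)) (tt N12958 F57313) (tt N17520 (iv F58802)) (tt N12957 (iv D27309)) (tt N17034 (iv F57356)))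
theorem Q17021 : ∀ i, i < 17021 → P i := stepQ 17020 Q17020 (allL N17020 (tt N12973 F57314) (tt N19455 F64488) (tt N18235 (iv F60955)) (tt N12959 F57315) (tt N17523 (iv F58812)) (tt N17032 (iv F57351)) (tt N12957 (iv D27310)))
theorem Q17022 : ∀ i, i < 17022 → P i := stepQ 17021 Q17021 (allL N17021 (tt N14309 F57316) (tt N18716 (iv F62432)) (tt N12961 F57317) (tt N14303 F57318) (tt N12960 (iv D27311)) (tt N14445 F57319) (tt N18259 (iv F61029)))
theorem Q17023 : ∀ i, i < 17023 → P i := stepQ 17022 Q17022 (allL N17022 (tt N15031 F57320) (tt N18407 (iv F61507)) (tt N18259 (iv F61026)) (tt N13284 F57321) (tt N12963 F57322) (tt N18257 (iv F61023)) (tt N12961 (iv D27312)))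
theorem Q17024 : ∀ i, i < 17024 → P i := stepQ 17023 Q17023 (allL N17023 (tt N17025 (iv F57326)) (tt N19538 (iv F64791)) (tt N18193 (iv F60852)) (tt N12964 F57323) (tt N18535 (iv F61905)) (tt N17018 F57324) (tt N12962 (iv D27313)))
theorem Q17025 : ∀ i, i < 17025 → P i := stepQ 17024 Q17024 (allL N17024 (tt N18392 F61485) (tt N12963 (iv D27314)) (tt N18750 (iv F62530)) (tt N12965 F57325) (tt N18407 (iv F61509)) (tt N20322 D30675) (tt N19455 (iv F64487)))
theorem Q17026 : ∀ i, i < 17026 → P i := stepQ 17025 Q17025 (allL N17025 (tt N17023 F57326) (tt N20323 D30676) (tt N18253 (iv F61009)) (tt N12966 F57327) (tt N18257 (iv F61022)) (tt N12963 (iv D27315)) (tt N17017 F57328))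
theorem Q17027 : ∀ i, i < 17027 → P i := stepQ 17026 Q17026 (allL N17026 (tt N17027 (iv F57332)) (tt N12968 F57329) (tt N12965 (iv D27316)) (tt N20324 D30677) (tt N13286 F57330) (tt N14809 (iv F57331)) (tt N19979 (iv F66243)))
theorem Q17028 : ∀ i, i < 17028 → P i := stepQ 17027 Q17027 (allL N17027 (tt N17026 F57332) (tt N14837 (iv F57336)) (tt N14809 F57333) (tt N20322 (iv F67357)) (tt N13287 F57334) (tt N12965 (iv D27317)) (tt N16414 F57335))
theorem Q17029 : ∀ i, i < 17029 → P i := stepQ 17028 Q17028 (allL N17028 (tt N20097 (iv F66623)) (tt N12966 (iv D27318)) (tt N14838 (iv F57340)) (tt N20323 (iv F67361)) (tt N13288 F57337) (tt N14837 F57338) (tt N14788 F57339))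
theorem Q17030 : ∀ i, i < 17030 → P i := stepQ 17029 Q17029 (allL N17029 (tt N16781 F57341) (tt N20324 (iv F67366)) (tt N20325 D30678) (tt N12968 (iv D27319)) (tt N18275 (iv F61064)) (tt N18269 F61054) (tt N12985 F57342))
theorem Q17031 : ∀ i, i < 17031 → P i := stepQ 17030 Q17030 (allL N17030 (tt N13060 F57343) (tt N14838 F57344) (tt N12970 (iv D27320)) (tt N20326 D30679) (tt N13289 F57345) (tt N14769 F57346) (tt N13058 F57347))
theorem Q17032 : ∀ i, i < 17032 → P i := stepQ 17031 Q17031 (allL N17031 (tt N17523 (iv F58810)) (tt N20327 D30680) (tt N18237 (iv F60962)) (tt N13290 F57348) (tt N12973 F57349) (tt N20328 D30681) (tt N12971 (iv D27321)))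
theorem Q17033 : ∀ i, i < 17033 → P i := stepQ 17032 Q17032 (allL N17032 (tt N17034 (iv F57354)) (tt N20329 D30682) (tt N18238 (iv F60964)) (tt N12974 F57350) (tt N17563 (iv F58950)) (tt N17020 F57351) (tt N12972 (iv D27322)))
theorem Q17034 : ∀ i, i < 17034 → P i := stepQ 17033 Q17033 (allL N17033 (tt N20330 D30683) (tt N12973 (iv D27323)) (tt N20331 D30684) (tt N12975 F57352) (tt N20327 (iv F67379)) (tt N20332 D30685) (tt N12978 F57353))
theorem Q17035 : ∀ i, i < 17035 → P i := stepQ 17034 Q17034 (allL N17034 (tt N17032 F57354) (tt N20333 D30686) (tt N18240 (iv F60970)) (tt N12976 F57355) (tt N20328 (iv F67385)) (tt N12973 (iv D27324)) (tt N17019 F57356))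
theorem Q17036 : ∀ i, i < 17036 → P i := stepQ 17035 Q17035 (allL N17035 (tt N19590 F64968) (tt N12974 (iv D27325)) (tt N17038 (iv F57365)) (tt N20329 (iv F67387)) (tt N13293 F57357) (tt N17037 F57364) (tt N14037 F57358))
theorem Q17037 : ∀ i, i < 17037 → P i := stepQ 17036 Q17036 (allL N17036 (tt N12975 (iv D27326)) (tt N16350 F57359) (tt N17229 F57859) (tt N20330 (iv F67393)) (tt N13294 F57360) (tt N17048 (iv F57386)) (tt N12979 F57361))
theorem Q17038 : ∀ i, i < 17038 → P i := stepQ 17037 Q17037 (allL N17037 (tt N17229 F57858) (tt N19979 (iv F66241)) (tt N12975 (iv D27327)) (tt N20334 D30687) (tt N13295 F57362) (tt N17035 (iv F57364)) (tt N12980 F57363))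
theorem Q17039 : ∀ i, i < 17039 → P i := stepQ 17038 Q17038 (allL N17038 (tt N17048 (iv F57383)) (tt N18543 (iv F61940)) (tt N17035 F57365) (tt N20332 (iv F67406)) (tt N13296 F57366) (tt N12975 (iv D27328)) (tt N17045 (iv F57377)))
theorem Q17040 : ∀ i, i < 17040 → P i := stepQ 17039 Q17039 (allL N17039 (tt N20201 (iv F66998)) (tt N12976 (iv D27329)) (tt N18543 (iv F61941)) (tt N20333 (iv F67410)) (tt N13297 F57367) (tt N18543 (iv F61943)) (tt N18542 F61939))
theorem Q17041 : ∀ i, i < 17041 → P i := stepQ 17040 Q17040 (allL N17040 (tt N19751 (iv F65470)) (tt N12977 (iv D27330)) (tt N17708 (iv F59353)) (tt N13298 F57368) (tt N12978 F57369) (tt N19750 (iv F65469)) (tt N20327 (iv F67380)))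
theorem Q17042 : ∀ i, i < 17042 → P i := stepQ 17041 Q17041 (allL N17041 (tt N12978 (iv D27331)) (tt N20335 D30688) (tt N20336 D30689) (tt N12979 F57370) (tt N19751 (iv F65472)) (tt N19747 F65457) (tt N20330 (iv F67395)))
theorem Q17043 : ∀ i, i < 17043 → P i := stepQ 17042 Q17042 (allL N17042 (tt N20336 (iv F67419)) (tt N17710 (iv F59365)) (tt N12978 (iv D27332)) (tt N17138 F59142) (tt N17708 (iv F59352)) (tt N17133 (iv F59141)) (tt N20331 (iv F67401)))
theorem Q17044 : ∀ i, i < 17044 → P i := stepQ 17043 Q17043 (allL N17043 (tt N19747 F65456) (tt N16939 F57371) (tt N17133 F59140) (tt N12981 F57372) (tt N19750 (iv F65467)) (tt N12978 (iv D27333)) (tt N17132 (iv F59139)))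
theorem Q17045 : ∀ i, i < 17045 → P i := stepQ 17044 Q17044 (allL N17044 (tt N19970 (iv F66210)) (tt N12979 (iv D27334)) (tt N19966 (iv F66200)) (tt N20335 (iv F67415)) (tt N13302 F57373) (tt N17101 (iv F57528)) (tt N19963 (iv F66189)))
theorem Q17046 : ∀ i, i < 17046 → P i := stepQ 17045 Q17045 (allL N17045 (tt N12981 F57374) (tt N14786 (iv F57378)) (tt N14037 F57375) (tt N19747 (iv F65454)) (tt N13303 F57376) (tt N12979 (iv D27335)) (tt N17038 F57377))
theorem Q17047 : ∀ i, i < 17047 → P i := stepQ 17046 Q17046 (allL N17046 (tt N19734 F65417) (tt N12985 F57379) (tt N20337 D30690) (tt N12980 (iv D27336)) (tt N19736 (iv F65422)) (tt N20338 D30691) (tt N20334 (iv F67414)))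
theorem Q17048 : ∀ i, i < 17048 → P i := stepQ 17047 Q17047 (allL N17047 (tt N14037 F57380) (tt N17886 (iv F59933)) (tt N12981 F57381) (tt N20338 (iv F67432)) (tt N13304 F57382) (tt N12980 (iv D27337)) (tt N19590 (iv F64967)))
theorem Q17049 : ∀ i, i < 17049 → P i := stepQ 17048 Q17048 (allL N17048 (tt N17038 F57383) (tt N14032 F57384) (tt N19590 (iv F64964)) (tt N17132 F59138) (tt N13305 F57385) (tt N17036 F57386) (tt N12981 (iv D27338)))
theorem Q17050 : ∀ i, i < 17050 → P i := stepQ 17049 Q17049 (allL N17049 (tt N12985 F57387) (tt N16778 F57388) (tt N20339 D30692) (tt N12983 (iv D27339)) (tt N19480 (iv F64572)) (tt N20340 D30693) (tt N16781 F57389))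
theorem Q17051 : ∀ i, i < 17051 → P i := stepQ 17050 Q17050 (allL N17050 (tt N12986 F57390) (tt N14806 F57394) (tt N12984 F57391) (tt N20340 (iv F67438)) (tt N13306 F57392) (tt N12983 (iv D27340)) (tt N14748 F57393))
theorem Q17052 : ∀ i, i < 17052 → P i := stepQ 17051 Q17051 (allL N17051 (tt N20339 (iv F67434)) (tt N18299 F67429) (tt N12985 (iv D27341)) (tt N20341 D30694) (tt N20342 D30695) (tt N20343 D30696) (tt N20325 (iv F67370)))
theorem Q17053 : ∀ i, i < 17053 → P i := stepQ 17052 Q17052 (allL N17052 (tt N19480 (iv F64570)) (tt N19736 (iv F65420)) (tt N20342 (iv F67445)) (tt N13307 F57395) (tt N12985 (iv D27342)) (tt N19809 (iv F65642)) (tt N18275 F61065))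
theorem Q17054 : ∀ i, i < 17054 → P i := stepQ 17053 Q17053 (allL N17053 (tt N20340 (iv F67437)) (tt N20344 D30697) (tt N20343 (iv F67446)) (tt N12986 F57396) (tt N19809 (iv F65641)) (tt N12985 (iv D27343)) (tt N20135 (iv F66780)))
theorem Q17055 : ∀ i, i < 17055 → P i := stepQ 17054 Q17054 (allL N17054 (tt N13110 F57399) (tt N12986 (iv D27344)) (tt N14972 F57397) (tt N20344 (iv F67447)) (tt N13308 F57398) (tt N17886 (iv F59935)) (tt N17864 (iv F59854)))
theorem Q17056 : ∀ i, i < 17056 → P i := stepQ 17055 Q17055 (allL N17055 (tt N12987 (iv D27345)) (tt N18284 (iv F61083)) (tt N20345 D30698) (tt N13309 F57400) (tt N12989 F57401) (tt N17197 (iv F57779)) (tt N13111 F57402))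
theorem Q17057 : ∀ i, i < 17057 → P i := stepQ 17056 Q17056 (allL N17056 (tt N20345 (iv F67450)) (tt N17726 (iv F59403)) (tt N12987 (iv D27346)) (tt N17725 F59401) (tt N12990 F57403) (tt N20346 D30699) (tt N13112 F57404))
theorem Q17058 : ∀ i, i < 17058 → P i := stepQ 17057 Q17057 (allL N17057 (tt N17197 (iv F57776)) (tt N20347 D30700) (tt N20346 (iv F67457)) (tt N13310 F57405) (tt N12991 F57406) (tt N12987 (iv D27347)) (tt N13401 F57407))
theorem Q17059 : ∀ i, i < 17059 → P i := stepQ 17058 Q17058 (allL N17058 (tt N20348 D30701) (tt N12988 (iv D27348)) (tt N20349 D30702) (tt N13311 F57408) (tt N12992 F57409) (tt N20347 (iv F67466)) (tt N13793 F57410))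
theorem Q17060 : ∀ i, i < 17060 → P i := stepQ 17059 Q17059 (allL N17059 (tt N20350 D30703) (tt N12989 (iv D27349)) (tt N18341 (iv F61267)) (tt N12993 F57411) (tt N18284 (iv F61086)) (tt N18340 F61265) (tt N14835 F57412))
theorem Q17061 : ∀ i, i < 17061 → P i := stepQ 17060 Q17060 (allL N17060 (tt N12990 F57413) (tt N20351 D30704) (tt N12989 (iv D27350)) (tt N13825 (iv F57415)) (tt N20345 (iv F67452)) (tt N17204 (iv F57801)) (tt N13116 F57414))
theorem Q17062 : ∀ i, i < 17062 → P i := stepQ 17061 Q17061 (allL N17061 (tt N13825 F57416) (tt N15936 F57420) (tt N14565 (iv F57418)) (tt N12990 (iv D27351)) (tt N14063 (iv F57419)) (tt N17677 (iv F59263)) (tt N13118 F57417))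
theorem Q17063 : ∀ i, i < 17063 → P i := stepQ 17062 Q17062 (allL N17062 (tt N17204 (iv F57799)) (tt N20352 D30705) (tt N12991 F57424) (tt N17677 (iv F59261)) (tt N20346 (iv F67459)) (tt N12990 (iv D27352)) (tt N17200 (iv F57790)))
theorem Q17064 : ∀ i, i < 17064 → P i := stepQ 17063 Q17063 (allL N17063 (tt N20353 D30706) (tt N12991 (iv D27353)) (tt N20354 D30707) (tt N12997 F57425) (tt N20347 (iv F67465)) (tt N12992 F57426) (tt N20355 D30708))
theorem Q17065 : ∀ i, i < 17065 → P i := stepQ 17064 Q17064 (allL N17064 (tt N12992 (iv D27354)) (tt N19472 (iv F64541)) (tt N13066 F61376) (tt N12998 F57427) (tt N20348 (iv F67469)) (tt N20353 (iv F67496)) (tt N20356 D30709))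
theorem Q17066 : ∀ i, i < 17066 → P i := stepQ 17065 Q17065 (allL N17065 (tt N13066 F61374) (tt N19238 (iv F63736)) (tt N12992 (iv D27355)) (tt N13072 F61375) (tt N20349 (iv F67476)) (tt N20354 (iv F67500)) (tt N20357 D30710))
theorem Q17067 : ∀ i, i < 17067 → P i := stepQ 17066 Q17066 (allL N17066 (tt N20356 (iv F67503)) (tt N13792 F57428) (tt N20357 (iv F67509)) (tt N13000 F57429) (tt N13793 F57430) (tt N20358 D30711) (tt N12992 (iv D27356)))
theorem Q17068 : ∀ i, i < 17068 → P i := stepQ 17067 Q17067 (allL N17067 (tt N12993 (iv D27357)) (tt N19970 (iv F66211)) (tt N14834 F57431) (tt N20350 (iv F67480)) (tt N13313 F57432) (tt N14750 F57434) (tt N14833 F57433))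
theorem Q17069 : ∀ i, i < 17069 → P i := stepQ 17068 Q17068 (allL N17068 (tt N14750 F57435) (tt N17228 (iv F57853)) (tt N14836 F57436) (tt N18340 (iv F61262)) (tt N13314 F57437) (tt N12993 (iv D27358)) (tt N14749 F57438))
theorem Q17070 : ∀ i, i < 17070 → P i := stepQ 17069 Q17069 (allL N17069 (tt N12995 F57439) (tt N16513 F57440) (tt N16067 F57442) (tt N12994 (iv D27359)) (tt N20359 D30712) (tt N17224 (iv F57846)) (tt N13125 F57441))
theorem Q17071 : ∀ i, i < 17071 → P i := stepQ 17070 Q17070 (allL N17070 (tt N16067 F57443) (tt N15539 F57444) (tt N12995 (iv D27360)) (tt N15546 F57445) (tt N20360 D30713) (tt N19744 (iv F65446)) (tt N13128 F57446))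
theorem Q17072 : ∀ i, i < 17072 → P i := stepQ 17071 Q17071 (allL N17071 (tt N20359 (iv F67516)) (tt N13007 F57447) (tt N20360 (iv F67523)) (tt N13079 F57448) (tt N12995 (iv D27361)) (tt N20361 D30714) (tt N13129 F57449))
theorem Q17073 : ∀ i, i < 17073 → P i := stepQ 17072 Q17072 (allL N17072 (tt N17224 (iv F57844)) (tt N20362 D30715) (tt N19744 (iv F65444)) (tt N12996 F57450) (tt N20361 (iv F67528)) (tt N12995 (iv D27362)) (tt N17215 (iv F57826)))
theorem Q17074 : ∀ i, i < 17074 → P i := stepQ 17073 Q17073 (allL N17073 (tt N19898 (iv F65940)) (tt N12996 (iv D27363)) (tt N19897 F65939) (tt N20362 (iv F67529)) (tt N13318 F57451) (tt N13009 F57452) (tt N20046 (iv F66466)))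
theorem Q17075 : ∀ i, i < 17075 → P i := stepQ 17074 Q17074 (allL N17074 (tt N12997 (iv D27364)) (tt N18540 (iv F61926)) (tt N20363 D30716) (tt N20353 (iv F67494)) (tt N13319 F57453) (tt N12998 F57454) (tt N17082 (iv F57472)))
theorem Q17076 : ∀ i, i < 17076 → P i := stepQ 17075 Q17075 (allL N17075 (tt N20363 (iv F67532)) (tt N19897 F65938) (tt N12997 (iv D27365)) (tt N20364 D30717) (tt N13320 F57455) (tt N12999 F57456) (tt N20365 D30718))
theorem Q17077 : ∀ i, i < 17077 → P i := stepQ 17076 Q17076 (allL N17076 (tt N17082 (iv F57470)) (tt N17219 (iv F57834)) (tt N20365 (iv F67537)) (tt N20355 (iv F67502)) (tt N13321 F57457) (tt N17079 (iv F57465)) (tt N12997 (iv D27366)))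
theorem Q17078 : ∀ i, i < 17078 → P i := stepQ 17077 Q17077 (allL N17077 (tt N16335 F57458) (tt N12998 (iv D27367)) (tt N20366 D30719) (tt N19472 F64544) (tt N13322 F57459) (tt N18702 (iv F62384)) (tt N16331 (iv F57460)))
theorem Q17079 : ∀ i, i < 17079 → P i := stepQ 17078 Q17078 (allL N17078 (tt N12999 F57461) (tt N20019 F66397) (tt N12998 (iv D27368)) (tt N20367 D30720) (tt N13323 F57462) (tt N20363 (iv F67534)) (tt N20368 D30721))
theorem Q17080 : ∀ i, i < 17080 → P i := stepQ 17079 Q17079 (allL N17079 (tt N13000 F57463) (tt N19923 (iv F66027)) (tt N20368 (iv F67546)) (tt N20356 (iv F67505)) (tt N13324 F57464) (tt N17076 F57465) (tt N12998 (iv D27369)))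
theorem Q17081 : ∀ i, i < 17081 → P i := stepQ 17080 Q17080 (allL N17080 (tt N20367 (iv F67544)) (tt N13015 F57466) (tt N17166 (iv F61362)) (tt N12999 (iv D27370)) (tt N17653 (iv F59178)) (tt N20364 (iv F67536)) (tt N20369 D30722))
theorem Q17082 : ∀ i, i < 17082 → P i := stepQ 17081 Q17081 (allL N17081 (tt N20368 (iv F67545)) (tt N13084 (iv F57469)) (tt N13000 F57467) (tt N20369 (iv F67550)) (tt N13325 F57468) (tt N20370 D30723) (tt N12999 (iv D27371)))
theorem Q17083 : ∀ i, i < 17083 → P i := stepQ 17082 Q17082 (allL N17082 (tt N17076 F57470) (tt N17830 (iv F59726)) (tt N20370 (iv F67553)) (tt N20358 (iv F67513)) (tt N13326 F57471) (tt N13000 (iv D27372)) (tt N17074 F57472))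
theorem Q17084 : ∀ i, i < 17084 → P i := stepQ 17083 Q17083 (allL N17083 (tt N13002 F57473) (tt N18570 (iv F62026)) (tt N13001 (iv D27373)) (tt N20371 D30724) (tt N13327 F57474) (tt N16617 F57475) (tt N18578 (iv F62055)))
theorem Q17085 : ∀ i, i < 17085 → P i := stepQ 17084 Q17084 (allL N17084 (tt N17090 (iv F57493)) (tt N13002 (iv D27374)) (tt N13005 F57476) (tt N20372 D30725) (tt N13328 F57477) (tt N13465 (iv F57478)) (tt N17088 F57488))
theorem Q17086 : ∀ i, i < 17086 → P i := stepQ 17085 Q17085 (allL N17085 (tt N20371 (iv F67556)) (tt N20372 (iv F67558)) (tt N20373 D30726) (tt N13002 (iv D27375)) (tt N20374 D30727) (tt N20375 D30728) (tt N20376 D30729))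
theorem Q17087 : ∀ i, i < 17087 → P i := stepQ 17086 Q17086 (allL N17086 (tt N16617 F57479) (tt N20377 D30730) (tt N13003 F57480) (tt N20375 (iv F67564)) (tt N13330 F57481) (tt N13002 (iv D27376)) (tt N16959 (iv F57482)))
theorem Q17088 : ∀ i, i < 17088 → P i := stepQ 17087 Q17087 (allL N17087 (tt N18578 (iv F62051)) (tt N19973 (iv F66220)) (tt N13004 F57483) (tt N20376 (iv F67566)) (tt N13331 F57484) (tt N16553 F57485) (tt N13002 (iv D27377)))
theorem Q17089 : ∀ i, i < 17089 → P i := stepQ 17088 Q17088 (allL N17088 (tt N13005 (iv D27378)) (tt N16399 (iv F57489)) (tt N17090 (iv F57495)) (tt N20378 D30731) (tt N13332 F57486) (tt N13459 F57487) (tt N17084 (iv F57488)))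
theorem Q17090 : ∀ i, i < 17090 → P i := stepQ 17089 Q17089 (allL N17089 (tt N20378 (iv F67573)) (tt N13006 F57490) (tt N20379 D30732) (tt N13005 (iv D27379)) (tt N13069 F57491) (tt N13188 F57492) (tt N20380 D30733))
theorem Q17091 : ∀ i, i < 17091 → P i := stepQ 17090 Q17090 (allL N17090 (tt N17084 F57493) (tt N13024 F57494) (tt N17088 F57495) (tt N20380 (iv F67586)) (tt N13333 F57496) (tt N17464 (iv F58583)) (tt N13005 (iv D27380)))
theorem Q17092 : ∀ i, i < 17092 → P i := stepQ 17091 Q17091 (allL N17091 (tt N20381 D30734) (tt N13008 (iv D27381)) (tt N20382 D30735) (tt N13009 F57497) (tt N13094 F57498) (tt N20362 (iv F67531)) (tt N16583 F57499))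
theorem Q17093 : ∀ i, i < 17093 → P i := stepQ 17092 Q17092 (allL N17092 (tt N13009 (iv D27382)) (tt N15575 F57500) (tt N19895 (iv F65928)) (tt N20381 (iv F67589)) (tt N13334 F57501) (tt N19898 (iv F65943)) (tt N16579 F57502))
theorem Q17094 : ∀ i, i < 17094 → P i := stepQ 17093 Q17093 (allL N17093 (tt N19895 F65931) (tt N13011 F57503) (tt N13009 (iv D27383)) (tt N20383 D30736) (tt N13335 F57504) (tt N19897 (iv F65937)) (tt N16212 F57505))
theorem Q17095 : ∀ i, i < 17095 → P i := stepQ 17094 Q17094 (allL N17094 (tt N13011 F57506) (tt N13087 F57507) (tt N13010 (iv D27384)) (tt N19872 (iv F65848)) (tt N13336 F57508) (tt N13013 F57509) (tt N16218 F57510))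
theorem Q17096 : ∀ i, i < 17096 → P i := stepQ 17095 Q17095 (allL N17095 (tt N19872 (iv F65845)) (tt N20383 (iv F67594)) (tt N19875 (iv F65860)) (tt N13011 (iv D27385)) (tt N15246 F57511) (tt N13015 F57512) (tt N15244 F57513))
theorem Q17097 : ∀ i, i < 17097 → P i := stepQ 17096 Q17096 (allL N17096 (tt N20384 D30737) (tt N13013 (iv D27386)) (tt N13074 F57514) (tt N20385 D30738) (tt N13337 F57515) (tt N13073 F57516) (tt N20386 D30739))
theorem Q17098 : ∀ i, i < 17098 → P i := stepQ 17097 Q17097 (allL N17097 (tt N13015 F57517) (tt N20385 (iv F67601)) (tt N19876 (iv F65866)) (tt N13013 (iv D27387)) (tt N17670 (iv F59232)) (tt N19872 (iv F65850)) (tt N18869 (iv F62760)))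
theorem Q17099 : ∀ i, i < 17099 → P i := stepQ 17098 Q17098 (allL N17098 (tt N19876 (iv F65865)) (tt N17179 F61373) (tt N13015 (iv D27388)) (tt N19783 (iv F65556)) (tt N17671 (iv F59234)) (tt N19875 (iv F65863)) (tt N16170 (iv F57521)))
theorem Q17100 : ∀ i, i < 17100 → P i := stepQ 17099 Q17099 (allL N17099 (tt N18869 (iv F62757)) (tt N19853 (iv F65792)) (tt N16170 F57520) (tt N13016 F57518) (tt N17672 (iv F59239)) (tt N16167 (iv F57519)) (tt N13015 (iv D27389)))
theorem Q17101 : ∀ i, i < 17101 → P i := stepQ 17100 Q17100 (allL N17100 (tt N13082 F57526) (tt N13016 (iv D27390)) (tt N13081 F57522) (tt N19853 (iv F65794)) (tt N13338 F57523) (tt N16248 F57524) (tt N13084 F57525))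
theorem Q17102 : ∀ i, i < 17102 → P i := stepQ 17101 Q17101 (allL N17101 (tt N18698 F62371) (tt N13020 (iv D27391)) (tt N19973 (iv F66221)) (tt N19752 (iv F65475)) (tt N13339 F57527) (tt N17044 F57528) (tt N16555 F57529))
theorem Q17103 : ∀ i, i < 17103 → P i := stepQ 17102 Q17102 (allL N17102 (tt N13144 F57530) (tt N13022 (iv D27392)) (tt N13203 F57531) (tt N20387 D30740) (tt N13340 F57532) (tt N18900 (iv F62845)) (tt N19961 (iv F66178)))
theorem Q17104 : ∀ i, i < 17104 → P i := stepQ 17103 Q17103 (allL N17103 (tt N13023 F57533) (tt N20387 (iv F67608)) (tt N18721 F62449) (tt N13022 (iv D27393)) (tt N20388 D30741) (tt N16546 F57534) (tt N20036 (iv F66437)))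
theorem Q17105 : ∀ i, i < 17105 → P i := stepQ 17104 Q17104 (allL N17104 (tt N18721 (iv F62450)) (tt N19594 (iv F64978)) (tt N13023 (iv D27394)) (tt N18720 F62448) (tt N20389 D30742) (tt N16551 F57535) (tt N20390 D30743))
theorem Q17106 : ∀ i, i < 17106 → P i := stepQ 17105 Q17105 (allL N17105 (tt N20388 (iv F67613)) (tt N13025 F57536) (tt N20389 (iv F67617)) (tt N13080 F57537) (tt N13023 (iv D27395)) (tt N16548 F57538) (tt N20391 D30744))
theorem Q17107 : ∀ i, i < 17107 → P i := stepQ 17106 Q17106 (allL N17106 (tt N20036 (iv F66435)) (tt N20380 (iv F67585)) (tt N20390 (iv F67620)) (tt N13024 F57539) (tt N20391 (iv F67624)) (tt N20028 (iv F66422)) (tt N13023 (iv D27396)))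
theorem Q17108 : ∀ i, i < 17108 → P i := stepQ 17107 Q17107 (allL N17107 (tt N13037 F57540) (tt N13160 F57541) (tt N14364 F57542) (tt N13344 F57543) (tt N13029 (iv D27397)) (tt N15032 (iv F57544)) (tt N14507 (iv F57545)))
theorem Q17109 : ∀ i, i < 17109 → P i := stepQ 17108 Q17108 (allL N17108 (tt N13038 F57546) (tt N15065 (iv F57549)) (tt N18498 (iv F61779)) (tt N13030 F57547) (tt N15032 F57548) (tt N13029 (iv D27398)) (tt N17116 (iv F57571)))
theorem Q17110 : ∀ i, i < 17110 → P i := stepQ 17109 Q17109 (allL N17109 (tt N13039 F57550) (tt N14596 F57551) (tt N14504 F57552) (tt N13031 F57553) (tt N14507 F57554) (tt N17115 (iv F57568)) (tt N13029 (iv D27399)))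
theorem Q17111 : ∀ i, i < 17111 → P i := stepQ 17110 Q17110 (allL N17110 (tt N13047 F57555) (tt N19655 F65189) (tt N18294 (iv F61124)) (tt N13034 F57556) (tt N17525 (iv F58818)) (tt N13033 (iv D27400)) (tt N17124 (iv F57594)))
theorem Q17112 : ∀ i, i < 17112 → P i := stepQ 17111 Q17111 (allL N17111 (tt N13048 F57557) (tt N17954 (iv F60200)) (tt N18214 (iv F60905)) (tt N13035 F57558) (tt N17521 (iv F58806)) (tt N17123 (iv F57591)) (tt N13033 (iv D27401)))
theorem Q17113 : ∀ i, i < 17113 → P i := stepQ 17112 Q17112 (allL N17112 (tt N14364 F57559) (tt N18727 (iv F62469)) (tt N13037 F57560) (tt N14358 F57561) (tt N13036 (iv D27402)) (tt N18316 (iv F61190)) (tt N14494 F57562))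
theorem Q17114 : ∀ i, i < 17114 → P i := stepQ 17113 Q17113 (allL N17113 (tt N15032 F57563) (tt N18465 (iv F61654)) (tt N18316 (iv F61187)) (tt N13345 F57564) (tt N13038 F57565) (tt N13037 (iv D27403)) (tt N18314 (iv F61184)))
theorem Q17115 : ∀ i, i < 17115 → P i := stepQ 17114 Q17114 (allL N17114 (tt N18454 F61640) (tt N13038 (iv D27404)) (tt N18801 (iv F62615)) (tt N13040 F57566) (tt N18465 (iv F61656)) (tt N19655 (iv F65188)) (tt N20392 D30745))
theorem Q17116 : ∀ i, i < 17116 → P i := stepQ 17115 Q17115 (allL N17115 (tt N17116 (iv F57569)) (tt N20393 D30746) (tt N18310 (iv F61170)) (tt N13041 F57567) (tt N18314 (iv F61183)) (tt N17109 F57568) (tt N13038 (iv D27405)))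
theorem Q17117 : ∀ i, i < 17117 → P i := stepQ 17116 Q17116 (allL N17116 (tt N17115 F57569) (tt N19310 (iv F64003)) (tt N18218 (iv F60914)) (tt N13042 F57570) (tt N18539 (iv F61924)) (tt N13039 (iv D27406)) (tt N17108 F57571))
theorem Q17118 : ∀ i, i < 17118 → P i := stepQ 17117 Q17117 (allL N17117 (tt N17118 (iv F57575)) (tt N13044 F57572) (tt N13040 (iv D27407)) (tt N20394 D30747) (tt N13346 F57573) (tt N20016 (iv F66384)) (tt N14807 (iv F57574)))
theorem Q17119 : ∀ i, i < 17119 → P i := stepQ 17118 Q17118 (allL N17118 (tt N17117 F57575) (tt N14805 (iv F57579)) (tt N14807 F57576) (tt N20392 (iv F67625)) (tt N13347 F57577) (tt N16521 F57578) (tt N13040 (iv D27408)))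
theorem Q17120 : ∀ i, i < 17120 → P i := stepQ 17119 Q17119 (allL N17119 (tt N20089 (iv F66590)) (tt N13041 (iv D27409)) (tt N14806 F57580) (tt N20393 (iv F67629)) (tt N13348 F57581) (tt N14821 F57582) (tt N14805 F57583))
theorem Q17121 : ∀ i, i < 17121 → P i := stepQ 17120 Q17120 (allL N17120 (tt N16807 F57584) (tt N20394 (iv F67634)) (tt N20395 D30748) (tt N13044 (iv D27410)) (tt N18332 (iv F61224)) (tt N13059 F57585) (tt N18326 F61212))

end Cfsg.Agent.Helper17.SuzbTC
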