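import Cfsg.Agent.Helper17.SuzbTC.Fin4

set_option autoImplicit false
set_option linter.all false
set_option maxRecDepth 100000

noncomputable section

namespace Cfsg.Agent.Helper17.SuzbTC

theorem Q17122 : ∀ i, i < 17122 → P i := stepQ 17121 Q17121 (allL N17121 (tt N17525 (iv F58816)) (tt N20396 D30749) (tt N18296 (iv F61131)) (tt N13350 F57586) (tt N13047 F57587) (tt N13046 (iv D27411)) (tt N20397 D30750))
theorem Q17123 : ∀ i, i < 17123 → P i := stepQ 17122 Q17122 (allL N17122 (tt N20331 (iv F67398)) (tt N13047 (iv D27412)) (tt N20330 F67397) (tt N13049 F57588) (tt N20396 (iv F67642)) (tt N13053 F57589) (tt N20336 (iv F67422)))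
theorem Q17124 : ∀ i, i < 17124 → P i := stepQ 17123 Q17123 (allL N17123 (tt N17124 (iv F57592)) (tt N20398 D30751) (tt N18298 (iv F61135)) (tt N13050 F57590) (tt N20397 (iv F67648)) (tt N17111 F57591) (tt N13047 (iv D27413)))
theorem Q17125 : ∀ i, i < 17125 → P i := stepQ 17124 Q17124 (allL N17124 (tt N17123 F57592) (tt N20337 F67427) (tt N18299 (iv F61139)) (tt N13051 F57593) (tt N17591 (iv F59021)) (tt N13048 (iv D27414)) (tt N17110 F57594))
theorem Q17126 : ∀ i, i < 17126 → P i := stepQ 17125 Q17125 (allL N17125 (tt N13049 (iv D27415)) (tt N16490 F57595) (tt N17305 (iv F58034)) (tt N20331 F67402) (tt N13353 F57596) (tt N13054 F57597) (tt N17138 (iv F57624)))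
theorem Q17127 : ∀ i, i < 17127 → P i := stepQ 17126 Q17126 (allL N17126 (tt N17305 (iv F58037)) (tt N20016 (iv F66382)) (tt N13049 (iv D27416)) (tt N20399 D30752) (tt N13354 F57598) (tt N13055 F57599) (tt N17129 (iv F57604)))
theorem Q17128 : ∀ i, i < 17128 → P i := stepQ 17127 Q17127 (allL N17127 (tt N17138 (iv F57621)) (tt N18551 (iv F61966)) (tt N17129 F57605) (tt N20336 F67423) (tt N13355 F57600) (tt N17135 (iv F57615)) (tt N13049 (iv D27417)))
theorem Q17129 : ∀ i, i < 17129 → P i := stepQ 17128 Q17128 (allL N17128 (tt N20205 (iv F67015)) (tt N13050 (iv D27418)) (tt N18551 (iv F61967)) (tt N20398 (iv F67650)) (tt N13356 F57601) (tt N18550 (iv F61965)) (tt N18551 (iv F61969)))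
theorem Q17130 : ∀ i, i < 17130 → P i := stepQ 17129 Q17129 (allL N17129 (tt N19375 (iv F64204)) (tt N13051 (iv D27419)) (tt N17127 (iv F57605)) (tt N20337 (iv F67426)) (tt N13357 F57602) (tt N14094 F57603) (tt N17126 F57604))
theorem Q17131 : ∀ i, i < 17131 → P i := stepQ 17130 Q17130 (allL N17130 (tt N19843 (iv F65753)) (tt N13052 (iv D27420)) (tt N17636 (iv F59136)) (tt N13358 F57606) (tt N13053 F57607) (tt N20396 (iv F67643)) (tt N19842 F65752))
theorem Q17132 : ∀ i, i < 17132 → P i := stepQ 17131 Q17131 (allL N17131 (tt N13053 (iv D27421)) (tt N20400 D30753) (tt N20332 (iv F67405)) (tt N13054 F57608) (tt N19843 (iv F65756)) (tt N20331 F67403) (tt N19841 F65747))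
theorem Q17133 : ∀ i, i < 17133 → P i := stepQ 17132 Q17132 (allL N17132 (tt N20332 (iv F67404)) (tt N17638 (iv F59149)) (tt N13053 (iv D27422)) (tt N17048 (iv F59138)) (tt N17636 F59137) (tt N20330 (iv F67396)) (tt N17043 F59139))
theorem Q17134 : ∀ i, i < 17134 → P i := stepQ 17133 Q17133 (allL N17133 (tt N19841 (iv F65746)) (tt N16954 F57609) (tt N17043 (iv F59140)) (tt N13056 F57610) (tt N19842 (iv F65750)) (tt N17042 F59141) (tt N13053 (iv D27423)))
theorem Q17135 : ∀ i, i < 17135 → P i := stepQ 17134 Q17134 (allL N17134 (tt N19951 (iv F66138)) (tt N13054 (iv D27424)) (tt N19955 (iv F66155)) (tt N20400 (iv F67659)) (tt N13362 F57611) (tt N19949 (iv F66133)) (tt N17181 (iv F57737)))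
theorem Q17136 : ∀ i, i < 17136 → P i := stepQ 17135 Q17135 (allL N17135 (tt N13056 F57612) (tt N14819 F57616) (tt N14094 F57613) (tt N19841 (iv F65744)) (tt N13363 F57614) (tt N17127 F57615) (tt N13054 (iv D27425)))
theorem Q17137 : ∀ i, i < 17137 → P i := stepQ 17136 Q17136 (allL N17136 (tt N19827 F65698) (tt N13059 F57617) (tt N20329 F67390) (tt N13055 (iv D27426)) (tt N19829 (iv F65703)) (tt N20399 (iv F67655)) (tt N20401 D30754))
theorem Q17138 : ∀ i, i < 17138 → P i := stepQ 17137 Q17137 (allL N17137 (tt N14094 F57618) (tt N17909 (iv F60021)) (tt N13056 F57619) (tt N20401 (iv F67664)) (tt N13364 F57620) (tt N19375 (iv F64202)) (tt N13055 (iv D27427)))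
theorem Q17139 : ∀ i, i < 17139 → P i := stepQ 17138 Q17138 (allL N17138 (tt N17127 F57621) (tt N14089 F57622) (tt N19375 (iv F64200)) (tt N17042 (iv F59142)) (tt N13365 F57623) (tt N13056 (iv D27428)) (tt N17125 F57624))
theorem Q17140 : ∀ i, i < 17140 → P i := stepQ 17139 Q17139 (allL N17139 (tt N13059 F57625) (tt N16804 F57626) (tt N20402 D30755) (tt N13058 (iv D27429)) (tt N19240 (iv F63744)) (tt N16807 F57627) (tt N20326 (iv F67375)))
theorem Q17141 : ∀ i, i < 17141 → P i := stepQ 17140 Q17140 (allL N17140 (tt N20402 (iv F67666)) (tt N18238 (iv F67391)) (tt N13059 (iv D27430)) (tt N20403 D30756) (tt N20404 D30757) (tt N20395 (iv F67638)) (tt N20405 D30758))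
theorem Q17142 : ∀ i, i < 17142 → P i := stepQ 17141 Q17141 (allL N17141 (tt N19240 (iv F63742)) (tt N19829 (iv F65701)) (tt N20404 (iv F67672)) (tt N13366 F57628) (tt N13059 (iv D27431)) (tt N18332 F61225) (tt N19715 (iv F65360)))
theorem Q17143 : ∀ i, i < 17143 → P i := stepQ 17142 Q17142 (allL N17142 (tt N20326 (iv F67371)) (tt N20406 D30759) (tt N20405 (iv F67673)) (tt N13060 F57629) (tt N19715 (iv F65358)) (tt N20132 (iv F66765)) (tt N13059 (iv D27432)))
theorem Q17144 : ∀ i, i < 17144 → P i := stepQ 17143 Q17143 (allL N17143 (tt N13168 (iv F57632)) (tt N13060 (iv D27433)) (tt N14924 F57630) (tt N20406 (iv F67674)) (tt N13367 F57631) (tt N17876 (iv F59894)) (tt N17909 (iv F60024)))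
theorem Q17145 : ∀ i, i < 17145 → P i := stepQ 17144 Q17144 (allL N17144 (tt N13061 (iv D27434)) (tt N18341 (iv F61266)) (tt N20351 (iv F67485)) (tt N13368 F57633) (tt N13063 F57634) (tt N13170 F57635) (tt N17273 (iv F57955)))
theorem Q17146 : ∀ i, i < 17146 → P i := stepQ 17145 Q17145 (allL N17145 (tt N20351 (iv F67484)) (tt N17657 (iv F59190)) (tt N13061 (iv D27435)) (tt N17656 F59188) (tt N13064 F57636) (tt N13171 F57637) (tt N20407 D30760))
theorem Q17147 : ∀ i, i < 17147 → P i := stepQ 17146 Q17146 (allL N17146 (tt N17273 (iv F57952)) (tt N20408 D30761) (tt N20407 (iv F67678)) (tt N13369 F57638) (tt N13065 F57639) (tt N13453 F57640) (tt N13061 (iv D27436)))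
theorem Q17148 : ∀ i, i < 17148 → P i := stepQ 17147 Q17147 (allL N17147 (tt N20349 (iv F67473)) (tt N13062 (iv D27437)) (tt N20348 (iv F67472)) (tt N13370 F57641) (tt N13066 F57642) (tt N13843 F57643) (tt N20408 (iv F67687)))
theorem Q17149 : ∀ i, i < 17149 → P i := stepQ 17148 Q17148 (allL N17148 (tt N20409 D30762) (tt N13063 (iv D27438)) (tt N18284 (iv F61084)) (tt N13067 F57644) (tt N18341 (iv F61269)) (tt N14803 F57645) (tt N18283 F61082))
theorem Q17150 : ∀ i, i < 17150 → P i := stepQ 17149 Q17149 (allL N17149 (tt N13064 F57646) (tt N20345 (iv F67451)) (tt N13063 (iv D27439)) (tt N13873 (iv F57648)) (tt N20351 (iv F67487)) (tt N13175 F57647) (tt N17280 (iv F57977)))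
theorem Q17151 : ∀ i, i < 17151 → P i := stepQ 17150 Q17150 (allL N17150 (tt N13873 F57649) (tt N15708 F57653) (tt N14615 (iv F57651)) (tt N13064 (iv D27440)) (tt N14115 (iv F57652)) (tt N13177 F57650) (tt N17746 (iv F59478)))
theorem Q17152 : ∀ i, i < 17152 → P i := stepQ 17151 Q17151 (allL N17151 (tt N17280 (iv F57975)) (tt N20410 D30763) (tt N13065 F57657) (tt N17746 (iv F59476)) (tt N20407 (iv F67680)) (tt N17276 (iv F57966)) (tt N13064 (iv D27441)))
theorem Q17153 : ∀ i, i < 17153 → P i := stepQ 17152 Q17152 (allL N17152 (tt N20357 (iv F67508)) (tt N13065 (iv D27442)) (tt N20356 (iv F67504)) (tt N13071 F57658) (tt N20408 (iv F67686)) (tt N20411 D30764) (tt N13066 F57659))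
theorem Q17154 : ∀ i, i < 17154 → P i := stepQ 17153 Q17153 (allL N17153 (tt N20354 (iv F67498)) (tt N13842 F57661) (tt N20353 F67497) (tt N13074 F57662) (tt N13843 F57663) (tt N13066 (iv D27445)) (tt N20412 D30765))
theorem Q17155 : ∀ i, i < 17155 → P i := stepQ 17154 Q17154 (allL N17154 (tt N13067 (iv D27446)) (tt N19951 (iv F66139)) (tt N14802 F57664) (tt N20409 (iv F67689)) (tt N13372 F57665) (tt N14801 F57666) (tt N14771 (iv F57667)))
theorem Q17156 : ∀ i, i < 17156 → P i := stepQ 17155 Q17155 (allL N17155 (tt N14771 F57668) (tt N17304 (iv F58031)) (tt N14804 F57669) (tt N18283 (iv F61081)) (tt N13373 F57670) (tt N14770 F57671) (tt N13067 (iv D27447)))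
theorem Q17157 : ∀ i, i < 17157 → P i := stepQ 17156 Q17156 (allL N17156 (tt N13069 F57672) (tt N16403 F57673) (tt N16142 F57675) (tt N13068 (iv D27448)) (tt N20378 (iv F67575)) (tt N13184 F57674) (tt N17300 (iv F58022)))
theorem Q17158 : ∀ i, i < 17158 → P i := stepQ 17157 Q17157 (allL N17157 (tt N16142 F57676) (tt N15780 F57677) (tt N13069 (iv D27449)) (tt N15785 F57678) (tt N20379 (iv F67581)) (tt N13187 F57679) (tt N19840 (iv F65742)))
theorem Q17159 : ∀ i, i < 17159 → P i := stepQ 17158 Q17158 (allL N17158 (tt N17300 (iv F58020)) (tt N20391 (iv F67622)) (tt N19840 (iv F65740)) (tt N13070 F57680) (tt N20380 (iv F67587)) (tt N17291 (iv F58002)) (tt N13069 (iv D27450)))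
theorem Q17160 : ∀ i, i < 17160 → P i := stepQ 17159 Q17159 (allL N17159 (tt N19911 (iv F65987)) (tt N13070 (iv D27451)) (tt N19910 F65986) (tt N20391 (iv F67623)) (tt N13343 F57681) (tt N20026 (iv F66416)) (tt N13080 F57682))
theorem Q17161 : ∀ i, i < 17161 → P i := stepQ 17160 Q17160 (allL N17160 (tt N13071 (iv D27452)) (tt N18549 (iv F61957)) (tt N20413 D30766) (tt N20357 (iv F67510)) (tt N13374 F57683) (tt N17167 (iv F57699)) (tt N13072 F57684))
theorem Q17162 : ∀ i, i < 17162 → P i := stepQ 17161 Q17161 (allL N17161 (tt N20413 (iv F67705)) (tt N19910 F65985) (tt N13071 (iv D27453)) (tt N20414 D30767) (tt N13375 F57685) (tt N20415 D30768) (tt N13073 F57686))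
theorem Q17163 : ∀ i, i < 17163 → P i := stepQ 17162 Q17162 (allL N17162 (tt N17167 (iv F57697)) (tt N17295 (iv F58010)) (tt N20415 (iv F67715)) (tt N20411 (iv F67698)) (tt N13376 F57687) (tt N13071 (iv D27454)) (tt N17165 (iv F57695)))
theorem Q17164 : ∀ i, i < 17164 → P i := stepQ 17163 Q17163 (allL N17163 (tt N16476 F57688) (tt N13072 (iv D27455)) (tt N20416 D30769) (tt N19238 F63737) (tt N13377 F57689) (tt N16473 (iv F57690)) (tt N18709 (iv F62410)))
theorem Q17165 : ∀ i, i < 17165 → P i := stepQ 17164 Q17164 (allL N17164 (tt N13073 F57691) (tt N20039 F66447) (tt N13072 (iv D27456)) (tt N20417 D30770) (tt N13378 F57692) (tt N20384 (iv F67600)) (tt N20413 (iv F67709)))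
theorem Q17166 : ∀ i, i < 17166 → P i := stepQ 17165 Q17165 (allL N17165 (tt N13074 F57693) (tt N19984 (iv F66262)) (tt N20384 (iv F67598)) (tt N20354 F67501) (tt N13379 F57694) (tt N13072 (iv D27457)) (tt N17162 F57695))
theorem Q17167 : ∀ i, i < 17167 → P i := stepQ 17166 Q17166 (allL N17166 (tt N20417 (iv F67723)) (tt N13086 F57696) (tt N17080 F61362) (tt N13073 (iv D27458)) (tt N17723 (iv F59394)) (tt N20385 (iv F67602)) (tt N20414 (iv F67711)))
theorem Q17168 : ∀ i, i < 17168 → P i := stepQ 17167 Q17167 (allL N17167 (tt N17162 F57697) (tt N17840 (iv F59767)) (tt N20386 (iv F67605)) (tt N20412 (iv F67702)) (tt N13380 F57698) (tt N17160 F57699) (tt N13074 (iv D27459)))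
theorem Q17169 : ∀ i, i < 17169 → P i := stepQ 17168 Q17168 (allL N17168 (tt N13076 F57700) (tt N18556 (iv F61979)) (tt N13075 (iv D27460)) (tt N20418 D30771) (tt N13381 F57701) (tt N18565 (iv F62011)) (tt N16634 F57702))
theorem Q17170 : ∀ i, i < 17170 → P i := stepQ 17169 Q17169 (allL N17169 (tt N17174 (iv F57717)) (tt N13076 (iv D27461)) (tt N13079 F57703) (tt N20419 D30772) (tt N13316 F57704) (tt N17173 (iv F57715)) (tt N13413 (iv F57705)))
theorem Q17171 : ∀ i, i < 17171 → P i := stepQ 17170 Q17170 (allL N17170 (tt N20418 (iv F67725)) (tt N20419 (iv F67728)) (tt N20420 D30773) (tt N13076 (iv D27462)) (tt N20421 D30774) (tt N20422 D30775) (tt N20423 D30776))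
theorem Q17172 : ∀ i, i < 17172 → P i := stepQ 17171 Q17171 (allL N17171 (tt N18565 (iv F62008)) (tt N19960 (iv F66171)) (tt N13077 F57706) (tt N20422 (iv F67736)) (tt N13383 F57707) (tt N13076 (iv D27463)) (tt N16588 F57708))
theorem Q17173 : ∀ i, i < 17173 → P i := stepQ 17172 Q17172 (allL N17172 (tt N16634 F57709) (tt N20424 D30777) (tt N13078 F57710) (tt N20423 (iv F67739)) (tt N13384 F57711) (tt N16944 (iv F57712)) (tt N13076 (iv D27464)))
theorem Q17174 : ∀ i, i < 17174 → P i := stepQ 17173 Q17173 (allL N17173 (tt N13079 (iv D27465)) (tt N16379 (iv F57716)) (tt N17174 (iv F57719)) (tt N20359 (iv F67519)) (tt N13315 F57713) (tt N17169 F57715) (tt N13407 F57714))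
theorem Q17175 : ∀ i, i < 17175 → P i := stepQ 17174 Q17174 (allL N17174 (tt N17169 F57717) (tt N13095 F57718) (tt N17173 F57719) (tt N20361 (iv F67527)) (tt N13317 F57720) (tt N13079 (iv D27466)) (tt N17439 (iv F58488)))
theorem Q17176 : ∀ i, i < 17176 → P i := stepQ 17175 Q17175 (allL N17175 (tt N13080 (iv D27467)) (tt N15815 F57721) (tt N19908 (iv F65976)) (tt N20388 (iv F67615)) (tt N13341 F57722) (tt N16544 F57723) (tt N19911 (iv F65991)))
theorem Q17177 : ∀ i, i < 17177 → P i := stepQ 17176 Q17176 (allL N17176 (tt N19908 (iv F65975)) (tt N13082 F57724) (tt N13080 (iv D27468)) (tt N20425 D30778) (tt N13342 F57725) (tt N16242 F57726) (tt N19910 (iv F65984)))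
theorem Q17178 : ∀ i, i < 17178 → P i := stepQ 17177 Q17177 (allL N17177 (tt N19853 (iv F65791)) (tt N20425 (iv F67746)) (tt N19855 (iv F65802)) (tt N13082 (iv D27469)) (tt N15298 F57727) (tt N15297 F57728) (tt N13086 F57729))
theorem Q17179 : ∀ i, i < 17179 → P i := stepQ 17178 Q17178 (allL N17178 (tt N13086 F57730) (tt N20369 (iv F67549)) (tt N19857 (iv F65812)) (tt N13084 (iv D27470)) (tt N17738 (iv F59445)) (tt N18924 F62913) (tt N19853 (iv F65796)))
theorem Q17180 : ∀ i, i < 17180 → P i := stepQ 17179 Q17179 (allL N17179 (tt N19857 (iv F65811)) (tt N17098 (iv F61373)) (tt N13086 (iv D27471)) (tt N19690 (iv F65279)) (tt N17739 (iv F59447)) (tt N16156 F57734) (tt N19855 (iv F65805)))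
theorem Q17181 : ∀ i, i < 17181 → P i := stepQ 17180 Q17180 (allL N17180 (tt N18924 (iv F62910)) (tt N19872 (iv F65846)) (tt N16156 (iv F57733)) (tt N13087 F57731) (tt N17740 (iv F59452)) (tt N13086 (iv D27472)) (tt N16152 F57732))
theorem Q17182 : ∀ i, i < 17182 → P i := stepQ 17181 Q17181 (allL N17181 (tt N18705 F62396) (tt N13091 (iv D27473)) (tt N19960 (iv F66172)) (tt N19847 (iv F65770)) (tt N13385 F57735) (tt N16591 F57736) (tt N17134 F57737))
theorem Q17183 : ∀ i, i < 17183 → P i := stepQ 17182 Q17182 (allL N17182 (tt N13203 F57738) (tt N13093 (iv D27474)) (tt N13144 F57739) (tt N20426 D30779) (tt N13386 F57740) (tt N19953 (iv F66147)) (tt N18845 (iv F62698)))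
theorem Q17184 : ∀ i, i < 17184 → P i := stepQ 17183 Q17183 (allL N17183 (tt N13094 F57741) (tt N20426 (iv F67751)) (tt N18732 (iv F62494)) (tt N13093 (iv D27475)) (tt N20381 (iv F67590)) (tt N20056 (iv F66487)) (tt N16581 F57742))
theorem Q17185 : ∀ i, i < 17185 → P i := stepQ 17184 Q17184 (allL N17184 (tt N18732 (iv F62492)) (tt N19379 (iv F64213)) (tt N13094 (iv D27476)) (tt N18731 F62490) (tt N20382 (iv F67592)) (tt N20427 D30780) (tt N16586 F57743))
theorem Q17186 : ∀ i, i < 17186 → P i := stepQ 17185 Q17185 (allL N17185 (tt N20056 (iv F66485)) (tt N20361 (iv F67526)) (tt N20427 (iv F67757)) (tt N13095 F57744) (tt N20362 (iv F67530)) (tt N13094 (iv D27477)) (tt N20048 (iv F66472)))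
theorem Q17187 : ∀ i, i < 17187 → P i := stepQ 17186 Q17186 (allL N17186 (tt N19308 (iv F63993)) (tt N13100 (iv D27478)) (tt N19930 F66059) (tt N15216 F57745) (tt N13392 F57746) (tt N15619 F57747) (tt N15565 F57748))
theorem Q17188 : ∀ i, i < 17188 → P i := stepQ 17187 Q17187 (allL N17187 (tt N16501 (iv F57752)) (tt N13103 (iv D27479)) (tt N20428 D30781) (tt N13104 F57749) (tt N15057 F57750) (tt N19601 (iv F65011)) (tt N15060 F57751))
theorem Q17189 : ∀ i, i < 17189 → P i := stepQ 17188 Q17188 (allL N17188 (tt N20429 D30782) (tt N13105 (iv D27480)) (tt N20195 (iv F66977)) (tt N13787 F57753) (tt N16752 F57754) (tt N20430 D30783) (tt N16936 F57755))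
theorem Q17190 : ∀ i, i < 17190 → P i := stepQ 17189 Q17189 (allL N17189 (tt N20431 D30784) (tt N13107 (iv D27481)) (tt N20432 D30785) (tt N13109 F57756) (tt N15532 F57757) (tt N20433 D30786) (tt N15537 F57758))
theorem Q17191 : ∀ i, i < 17191 → P i := stepQ 17190 Q17190 (allL N17190 (tt N20344 F67448) (tt N13108 (iv D27482)) (tt N20434 D30787) (tt N13110 F57759) (tt N18350 (iv F61305)) (tt N20197 (iv F66984)) (tt N18357 (iv F61328)))
theorem Q17192 : ∀ i, i < 17192 → P i := stepQ 17191 Q17191 (allL N17191 (tt N13109 (iv D27483)) (tt N17891 F59956) (tt N16652 F57760) (tt N20431 (iv F67773)) (tt N13393 F57761) (tt N19923 (iv F66029)) (tt N16267 F57762))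
theorem Q17193 : ∀ i, i < 17193 → P i := stepQ 17192 Q17192 (allL N17192 (tt N19923 (iv F66026)) (tt N16498 F57763) (tt N17536 (iv F58852)) (tt N20433 (iv F67785)) (tt N13395 F57764) (tt N13109 (iv D27484)) (tt N19921 (iv F66021)))
theorem Q17194 : ∀ i, i < 17194 → P i := stepQ 17193 Q17193 (allL N17193 (tt N13112 F57765) (tt N13827 (iv F57767)) (tt N13111 (iv D27485)) (tt N14065 (iv F57768)) (tt N13116 F57766) (tt N17436 (iv F58476)) (tt N20345 (iv F67454)))
theorem Q17195 : ∀ i, i < 17195 → P i := stepQ 17194 Q17194 (allL N17194 (tt N14065 F57769) (tt N20198 (iv F66987)) (tt N17731 (iv F59421)) (tt N13112 (iv D27486)) (tt N14061 F57770) (tt N17731 (iv F59424)) (tt N17725 F59402))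
theorem Q17196 : ∀ i, i < 17196 → P i := stepQ 17195 Q17195 (allL N17195 (tt N17436 (iv F58474)) (tt N20435 D30788) (tt N13113 F57771) (tt N17731 (iv F59422)) (tt N13119 F57772) (tt N13112 (iv D27487)) (tt N17729 F59415))
theorem Q17197 : ∀ i, i < 17197 → P i := stepQ 17196 Q17196 (allL N17196 (tt N19696 (iv F65299)) (tt N13113 (iv D27488)) (tt N20436 D30789) (tt N13402 F57773) (tt N13120 F57774) (tt N13114 F57775) (tt N20437 D30790))
theorem Q17198 : ∀ i, i < 17198 → P i := stepQ 17197 Q17197 (allL N17197 (tt N17057 F57776) (tt N18373 F61434) (tt N17729 (iv F59414)) (tt N13403 F57777) (tt N13121 F57778) (tt N17055 F57779) (tt N13113 (iv D27489)))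
theorem Q17199 : ∀ i, i < 17199 → P i := stepQ 17198 Q17198 (allL N17198 (tt N19713 (iv F65352)) (tt N16824 F57780) (tt N13114 (iv D27490)) (tt N18772 (iv F62566)) (tt N13123 F57781) (tt N20436 (iv F67793)) (tt N19233 (iv F63720)))
theorem Q17200 : ∀ i, i < 17200 → P i := stepQ 17199 Q17199 (allL N17199 (tt N14570 F57782) (tt N13826 F57783) (tt N13115 (iv D27491)) (tt N17621 (iv F59096)) (tt N14577 F57784) (tt N14568 F57785) (tt N14839 F57786))
theorem Q17201 : ∀ i, i < 17201 → P i := stepQ 17200 Q17200 (allL N17200 (tt N13119 F57787) (tt N15872 (iv F57791)) (tt N13117 F57788) (tt N13824 F57789) (tt N17436 (iv F58475)) (tt N13116 (iv D27492)) (tt N17062 F57790))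
theorem Q17202 : ∀ i, i < 17202 → P i := stepQ 17201 Q17201 (allL N17201 (tt N20438 D30791) (tt N13117 (iv D27493)) (tt N20439 D30792) (tt N13127 F57792) (tt N14573 F57793) (tt N14567 F57794) (tt N20440 D30793))
theorem Q17203 : ∀ i, i < 17203 → P i := stepQ 17202 Q17202 (allL N17202 (tt N13824 F57795) (tt N19492 (iv F64621)) (tt N14564 F57796) (tt N13119 F57797) (tt N14062 F57798) (tt N13118 (iv D27494)) (tt N17678 (iv F59268)))
theorem Q17204 : ∀ i, i < 17204 → P i := stepQ 17203 Q17203 (allL N17203 (tt N19505 (iv F64666)) (tt N13119 (iv D27495)) (tt N20441 D30794) (tt N19492 (iv F64623)) (tt N20435 (iv F67790)) (tt N19505 (iv F64668)) (tt N19491 F64619))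
theorem Q17205 : ∀ i, i < 17205 → P i := stepQ 17204 Q17204 (allL N17204 (tt N17062 F57799) (tt N17733 (iv F59429)) (tt N13121 F57800) (tt N17678 (iv F59266)) (tt N17729 (iv F59413)) (tt N17060 F57801) (tt N13119 (iv D27496)))
theorem Q17206 : ∀ i, i < 17206 → P i := stepQ 17205 Q17205 (allL N17205 (tt N13120 (iv D27497)) (tt N19539 (iv F64794)) (tt N20442 D30795) (tt N13133 F57802) (tt N19696 (iv F65301)) (tt N13122 F57803) (tt N17213 (iv F57818)))
theorem Q17207 : ∀ i, i < 17207 → P i := stepQ 17206 Q17206 (allL N17206 (tt N20442 (iv F67812)) (tt N20441 (iv F67810)) (tt N13120 (iv D27498)) (tt N20443 D30796) (tt N20436 (iv F67792)) (tt N13123 F57804) (tt N20444 D30797))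
theorem Q17208 : ∀ i, i < 17208 → P i := stepQ 17207 Q17207 (allL N17207 (tt N17213 (iv F57816)) (tt N15913 (iv F57806)) (tt N20444 (iv F67816)) (tt N13134 F57805) (tt N20437 (iv F67797)) (tt N17210 (iv F57812)) (tt N13120 (iv D27499)))
theorem Q17209 : ∀ i, i < 17209 → P i := stepQ 17208 Q17208 (allL N17208 (tt N18371 F61428) (tt N13121 (iv D27500)) (tt N19165 (iv F63527)) (tt N13135 F57807) (tt N18373 (iv F61433)) (tt N20445 D30798) (tt N15913 F57808))
theorem Q17210 : ∀ i, i < 17210 → P i := stepQ 17209 Q17209 (allL N17209 (tt N13123 F57809) (tt N13896 (iv F58174)) (tt N13122 (iv D27501)) (tt N17802 (iv F59614)) (tt N19713 (iv F65354)) (tt N20442 (iv F67813)) (tt N20446 D30799))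
theorem Q17211 : ∀ i, i < 17211 → P i := stepQ 17210 Q17210 (allL N17210 (tt N13124 F57810) (tt N20447 D30800) (tt N20446 (iv F67823)) (tt N13136 F57811) (tt N19232 (iv F63716)) (tt N17207 F57812) (tt N13122 (iv D27502)))
theorem Q17212 : ∀ i, i < 17212 → P i := stepQ 17211 Q17211 (allL N17211 (tt N17802 (iv F59612)) (tt N15249 F57813) (tt N19873 (iv F65852)) (tt N13123 (iv D27503)) (tt N15248 (iv F57814)) (tt N20443 (iv F67814)) (tt N20448 D30801))
theorem Q17213 : ∀ i, i < 17213 → P i := stepQ 17212 Q17212 (allL N17212 (tt N20446 (iv F67822)) (tt N20260 (iv F67167)) (tt N13124 F57815) (tt N20448 (iv F67829)) (tt N19233 (iv F63719)) (tt N20449 D30802) (tt N13123 (iv D27504)))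
theorem Q17214 : ∀ i, i < 17214 → P i := stepQ 17213 Q17213 (allL N17213 (tt N17207 F57816) (tt N18307 F61160) (tt N20449 (iv F67832)) (tt N13137 F57817) (tt N19234 (iv F63723)) (tt N13124 (iv D27505)) (tt N17205 F57818))
theorem Q17215 : ∀ i, i < 17215 → P i := stepQ 17214 Q17214 (allL N17214 (tt N13129 F57819) (tt N16337 F57820) (tt N16065 F57821) (tt N13407 F57822) (tt N13125 (iv D27506)) (tt N20450 D30803) (tt N20359 (iv F67520)))
theorem Q17216 : ∀ i, i < 17216 → P i := stepQ 17215 Q17215 (allL N17215 (tt N13130 F57823) (tt N20451 D30804) (tt N16066 F57824) (tt N13126 F57825) (tt N20450 (iv F67838)) (tt N13125 (iv D27507)) (tt N17072 F57826))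
theorem Q17217 : ∀ i, i < 17217 → P i := stepQ 17216 Q17216 (allL N17216 (tt N18710 (iv F62412)) (tt N13126 (iv D27508)) (tt N18709 F62411) (tt N20451 (iv F67840)) (tt N13408 F57827) (tt N16519 F57828) (tt N20416 (iv F67722)))
theorem Q17218 : ∀ i, i < 17218 → P i := stepQ 17217 Q17217 (allL N17217 (tt N13127 (iv D27509)) (tt N16909 F57829) (tt N17948 (iv F60175)) (tt N20438 (iv F67800)) (tt N13409 F57830) (tt N14058 F57831) (tt N18545 (iv F61948)))
theorem Q17219 : ∀ i, i < 17219 → P i := stepQ 17218 Q17218 (allL N17218 (tt N17948 (iv F60173)) (tt N18709 (iv F62407)) (tt N13127 (iv D27510)) (tt N20452 D30805) (tt N13410 F57832) (tt N14805 F57833) (tt N18549 (iv F61960)))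
theorem Q17220 : ∀ i, i < 17220 → P i := stepQ 17219 Q17219 (allL N17219 (tt N18545 (iv F61944)) (tt N17076 F57834) (tt N18549 (iv F61958)) (tt N20440 (iv F67807)) (tt N13411 F57835) (tt N17891 (iv F59955)) (tt N13127 (iv D27511)))
theorem Q17221 : ∀ i, i < 17221 → P i := stepQ 17220 Q17220 (allL N17220 (tt N16065 F57836) (tt N17674 (iv F59247)) (tt N13129 F57837) (tt N17890 (iv F59952)) (tt N13128 (iv D27512)) (tt N20453 D30806) (tt N20360 (iv F67525)))
theorem Q17222 : ∀ i, i < 17222 → P i := stepQ 17221 Q17221 (allL N17221 (tt N16066 F57838) (tt N17953 F60199) (tt N13130 F57839) (tt N17673 (iv F59244)) (tt N20453 (iv F67849)) (tt N13128 (iv D27513)) (tt N19746 (iv F65453)))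
theorem Q17223 : ∀ i, i < 17223 → P i := stepQ 17222 Q17222 (allL N17222 (tt N20450 (iv F67834)) (tt N19540 F64800) (tt N20453 (iv F67847)) (tt N13413 F57840) (tt N13130 F57841) (tt N13129 (iv D27514)) (tt N20419 (iv F67731)))
theorem Q17224 : ∀ i, i < 17224 → P i := stepQ 17223 Q17223 (allL N17223 (tt N19693 (iv F65288)) (tt N13130 (iv D27515)) (tt N18613 (iv F62176)) (tt N13131 F57842) (tt N19540 (iv F64797)) (tt N13139 F57843) (tt N20454 D30807))
theorem Q17225 : ∀ i, i < 17225 → P i := stepQ 17224 Q17224 (allL N17224 (tt N17072 F57844) (tt N20421 (iv F67734)) (tt N19746 (iv F65451)) (tt N13132 F57845) (tt N20419 (iv F67729)) (tt N17069 F57846) (tt N13130 (iv D27516)))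
theorem Q17226 : ∀ i, i < 17226 → P i := stepQ 17225 Q17225 (allL N17225 (tt N13131 (iv D27517)) (tt N16948 (iv F57849)) (tt N17307 (iv F58041)) (tt N19693 (iv F65290)) (tt N13414 F57847) (tt N13138 F57848) (tt N17234 (iv F57871)))
theorem Q17227 : ∀ i, i < 17227 → P i := stepQ 17226 Q17226 (allL N17226 (tt N17234 (iv F57869)) (tt N20455 D30808) (tt N17310 (iv F58049)) (tt N20454 (iv F67852)) (tt N13415 F57850) (tt N17231 (iv F57864)) (tt N13131 (iv D27518)))
theorem Q17228 : ∀ i, i < 17228 → P i := stepQ 17227 Q17227 (allL N17227 (tt N18567 (iv F62013)) (tt N13132 (iv D27519)) (tt N15903 F57851) (tt N20421 (iv F67735)) (tt N13382 F57852) (tt N18563 (iv F62003)) (tt N20455 (iv F67858)))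
theorem Q17229 : ∀ i, i < 17229 → P i := stepQ 17228 Q17228 (allL N17228 (tt N17896 (iv F59975)) (tt N17068 F57853) (tt N15907 F57854) (tt N20445 (iv F67820)) (tt N13417 F57855) (tt N13135 (iv D27520)) (tt N19586 (iv F64951)))
theorem Q17230 : ∀ i, i < 17230 → P i := stepQ 17229 Q17229 (allL N17229 (tt N17037 (iv F57858)) (tt N13136 (iv D27521)) (tt N17036 (iv F57859)) (tt N20447 (iv F67825)) (tt N13418 F57856) (tt N19590 (iv F64966)) (tt N16556 F57857))
theorem Q17231 : ∀ i, i < 17231 → P i := stepQ 17230 Q17230 (allL N17230 (tt N17879 (iv F59903)) (tt N13137 (iv D27522)) (tt N17764 F59526) (tt N18307 (iv F61157)) (tt N13419 F57860) (tt N13220 F57861) (tt N18533 (iv F61896)))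
theorem Q17232 : ∀ i, i < 17232 → P i := stepQ 17231 Q17231 (allL N17231 (tt N13140 F57862) (tt N18578 (iv F62052)) (tt N17301 (iv F58023)) (tt N19694 (iv F65294)) (tt N13421 F57863) (tt N17226 F57864) (tt N13138 (iv D27523)))
theorem Q17233 : ∀ i, i < 17233 → P i := stepQ 17232 Q17232 (allL N17232 (tt N19692 (iv F65284)) (tt N13141 F57865) (tt N19395 (iv F64279)) (tt N13422 F57866) (tt N13139 (iv D27524)) (tt N19540 (iv F64798)) (tt N20279 (iv F67231)))
theorem Q17234 : ∀ i, i < 17234 → P i := stepQ 17233 Q17233 (allL N17233 (tt N19694 (iv F65292)) (tt N13151 F57867) (tt N19396 (iv F64283)) (tt N13140 F57868) (tt N20279 (iv F67230)) (tt N20456 D30809) (tt N13139 (iv D27525)))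
theorem Q17235 : ∀ i, i < 17235 → P i := stepQ 17234 Q17234 (allL N17234 (tt N17226 F57869) (tt N19318 (iv F64038)) (tt N17302 (iv F58027)) (tt N20456 (iv F67861)) (tt N13423 F57870) (tt N13140 (iv D27526)) (tt N17225 F57871))
theorem Q17236 : ∀ i, i < 17236 → P i := stepQ 17235 Q17235 (allL N17235 (tt N18383 (iv F61466)) (tt N13143 F57872) (tt N17674 (iv F59248)) (tt N16025 F57873) (tt N13142 (iv D27527)) (tt N20457 D30810) (tt N20458 D30811))
theorem Q17237 : ∀ i, i < 17237 → P i := stepQ 17236 Q17236 (allL N17236 (tt N18394 (iv F61487)) (tt N17348 (iv F58134)) (tt N17675 (iv F59251)) (tt N17342 (iv F58116)) (tt N20457 (iv F67866)) (tt N13142 (iv D27528)) (tt N20459 D30812))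
theorem Q17238 : ∀ i, i < 17238 → P i := stepQ 17237 Q17237 (allL N17237 (tt N18395 (iv F61489)) (tt N13157 F57874) (tt N17676 (iv F59258)) (tt N17343 (iv F58119)) (tt N20458 (iv F67869)) (tt N20460 D30813) (tt N13142 (iv D27529)))
theorem Q17239 : ∀ i, i < 17239 → P i := stepQ 17238 Q17238 (allL N17238 (tt N20387 (iv F67607)) (tt N13145 F57875) (tt N20461 D30814) (tt N13144 (iv D27530)) (tt N15817 F57876) (tt N20462 D30815) (tt N20463 D30816))
theorem Q17240 : ∀ i, i < 17240 → P i := stepQ 17239 Q17239 (allL N17239 (tt N18900 F62846) (tt N20001 F66330) (tt N19953 (iv F66146)) (tt N20462 (iv F67884)) (tt N13428 F57877) (tt N13144 (iv D27531)) (tt N20014 (iv F66377)))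
theorem Q17241 : ∀ i, i < 17241 → P i := stepQ 17240 Q17240 (allL N17240 (tt N19961 (iv F66175)) (tt N15578 (iv F57879)) (tt N18845 (iv F62696)) (tt N20463 (iv F67888)) (tt N13429 F57878) (tt N20266 (iv F67186)) (tt N13144 (iv D27532)))
theorem Q17242 : ∀ i, i < 17242 → P i := stepQ 17241 Q17241 (allL N17241 (tt N13148 F57880) (tt N16024 F58169) (tt N13145 (iv D27533)) (tt N19854 (iv F65799)) (tt N20464 D30817) (tt N20465 D30818) (tt N20466 D30819))
theorem Q17243 : ∀ i, i < 17243 → P i := stepQ 17242 Q17242 (allL N17242 (tt N13149 F57881) (tt N15817 F57882) (tt N20464 (iv F67893)) (tt N13430 F57883) (tt N13145 (iv D27534)) (tt N20147 (iv F66825)) (tt N20278 (iv F67228)))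
theorem Q17244 : ∀ i, i < 17244 → P i := stepQ 17243 Q17243 (allL N17243 (tt N13150 F57884) (tt N20467 D30820) (tt N20465 (iv F67896)) (tt N13146 F57885) (tt N20147 (iv F66824)) (tt N13145 (iv D27535)) (tt N17252 (iv F57902)))
theorem Q17245 : ∀ i, i < 17245 → P i := stepQ 17244 Q17244 (allL N17244 (tt N13151 F57886) (tt N20468 D30821) (tt N20466 (iv F67898)) (tt N13147 F57887) (tt N20278 (iv F67226)) (tt N17251 (iv F57899)) (tt N13145 (iv D27536)))
theorem Q17246 : ∀ i, i < 17246 → P i := stepQ 17245 Q17245 (allL N17245 (tt N16483 F57889) (tt N13146 (iv D27537)) (tt N16490 (iv F57890)) (tt N20467 (iv F67899)) (tt N13431 F57888) (tt N20001 (iv F66329)) (tt N16479 (iv F57891)))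
theorem Q17247 : ∀ i, i < 17247 → P i := stepQ 17246 Q17246 (allL N17246 (tt N18699 (iv F62372)) (tt N13147 (iv D27538)) (tt N15579 F57892) (tt N20468 (iv F67902)) (tt N13432 F57893) (tt N19262 (iv F63827)) (tt N15578 F57894))
theorem Q17248 : ∀ i, i < 17248 → P i := stepQ 17247 Q17247 (allL N17247 (tt N19854 (iv F65797)) (tt N17360 (iv F58164)) (tt N17817 (iv F59666)) (tt N13148 (iv D27539)) (tt N20469 D30822) (tt N20470 D30823) (tt N20471 D30824))
theorem Q17249 : ∀ i, i < 17249 → P i := stepQ 17248 Q17248 (allL N17248 (tt N20464 (iv F67891)) (tt N17361 (iv F58180)) (tt N13149 F57895) (tt N20472 D30825) (tt N13148 (iv D27540)) (tt N20148 (iv F66827)) (tt N20280 (iv F67233)))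
theorem Q17250 : ∀ i, i < 17250 → P i := stepQ 17249 Q17249 (allL N17249 (tt N20465 (iv F67894)) (tt N20473 D30826) (tt N13150 F57896) (tt N20470 (iv F67906)) (tt N20148 (iv F66826)) (tt N13148 (iv D27541)) (tt N20474 D30827))
theorem Q17251 : ∀ i, i < 17251 → P i := stepQ 17250 Q17250 (allL N17250 (tt N20466 (iv F67897)) (tt N20475 D30828) (tt N13151 F57897) (tt N20471 (iv F67907)) (tt N20280 (iv F67232)) (tt N20476 D30829) (tt N13148 (iv D27542)))
theorem Q17252 : ∀ i, i < 17252 → P i := stepQ 17251 Q17251 (allL N17251 (tt N17252 (iv F57900)) (tt N18843 (iv F62692)) (tt N20474 (iv F67911)) (tt N13152 F57898) (tt N18841 (iv F62688)) (tt N17244 F57899) (tt N13150 (iv D27543)))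
theorem Q17253 : ∀ i, i < 17253 → P i := stepQ 17252 Q17252 (allL N17252 (tt N17251 F57900) (tt N19319 (iv F64040)) (tt N20476 (iv F67916)) (tt N13153 F57901) (tt N20281 (iv F67236)) (tt N13151 (iv D27544)) (tt N17243 F57902))
theorem Q17254 : ∀ i, i < 17254 → P i := stepQ 17253 Q17253 (allL N17253 (tt N20477 D30830) (tt N13152 (iv D27545)) (tt N20478 D30831) (tt N18843 (iv F62693)) (tt N13433 F57903) (tt N20479 D30832) (tt N17253 F57904))
theorem Q17255 : ∀ i, i < 17255 → P i := stepQ 17254 Q17254 (allL N17254 (tt N15172 F58178) (tt N13154 (iv D27546)) (tt N19670 (iv F65237)) (tt N17351 (iv F58146)) (tt N20480 D30833) (tt N20481 D30834) (tt N20482 D30835))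
theorem Q17256 : ∀ i, i < 17256 → P i := stepQ 17255 Q17255 (allL N17255 (tt N13155 F57905) (tt N20480 (iv F67931)) (tt N15280 F57906) (tt N17779 (iv F59566)) (tt N13154 (iv D27547)) (tt N20483 D30836) (tt N19331 (iv F64079)))
theorem Q17257 : ∀ i, i < 17257 → P i := stepQ 17256 Q17256 (allL N17256 (tt N13156 F57907) (tt N20484 D30837) (tt N19598 (iv F64995)) (tt N17352 (iv F58148)) (tt N20483 (iv F67937)) (tt N13154 (iv D27548)) (tt N17261 (iv F57920)))
theorem Q17258 : ∀ i, i < 17258 → P i := stepQ 17257 Q17257 (allL N17257 (tt N13157 F57908) (tt N20485 D30838) (tt N15588 F57909) (tt N17353 (iv F58150)) (tt N19331 (iv F64078)) (tt N17260 (iv F57918)) (tt N13154 (iv D27549)))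
theorem Q17259 : ∀ i, i < 17259 → P i := stepQ 17258 Q17258 (allL N17258 (tt N20483 (iv F67935)) (tt N17258 F57910) (tt N15646 F57911) (tt N17782 (iv F59570)) (tt N13156 F57912) (tt N13155 (iv D27550)) (tt N15643 (iv F57913)))
theorem Q17260 : ∀ i, i < 17260 → P i := stepQ 17259 Q17259 (allL N17259 (tt N19331 (iv F64076)) (tt N20458 (iv F67867)) (tt N14207 F57914) (tt N17783 (iv F59572)) (tt N13157 F57915) (tt N19320 (iv F64043)) (tt N13155 (iv D27551)))
theorem Q17261 : ∀ i, i < 17261 → P i := stepQ 17260 Q17260 (allL N17260 (tt N17261 (iv F57919)) (tt N18846 (iv F62701)) (tt N15644 F57916) (tt N17354 (iv F58151)) (tt N15643 F57917) (tt N17257 F57918) (tt N13156 (iv D27552)))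
theorem Q17262 : ∀ i, i < 17262 → P i := stepQ 17261 Q17261 (allL N17261 (tt N17260 F57919) (tt N18457 (iv F62756)) (tt N19321 (iv F64048)) (tt N17355 (iv F58154)) (tt N19320 F64045) (tt N13157 (iv D27553)) (tt N17256 F57920))
theorem Q17263 : ∀ i, i < 17263 → P i := stepQ 17262 Q17262 (allL N17262 (tt N19536 (iv F64781)) (tt N13158 (iv D27554)) (tt N19990 F66288) (tt N15269 F57921) (tt N13443 F57922) (tt N15807 F57923) (tt N15852 F57924))
theorem Q17264 : ∀ i, i < 17264 → P i := stepQ 17263 Q17263 (allL N17263 (tt N16367 (iv F57928)) (tt N13161 (iv D27555)) (tt N20486 D30839) (tt N13163 F57925) (tt N15062 F57926) (tt N15065 F57927) (tt N19394 (iv F64276)))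
theorem Q17265 : ∀ i, i < 17265 → P i := stepQ 17264 Q17264 (allL N17264 (tt N20487 D30840) (tt N13164 (iv D27556)) (tt N20178 (iv F66921)) (tt N13838 F57929) (tt N16760 F57930) (tt N16951 F57931) (tt N20488 D30841))
theorem Q17266 : ∀ i, i < 17266 → P i := stepQ 17265 Q17265 (allL N17265 (tt N20406 F67675) (tt N13166 (iv D27557)) (tt N20489 D30842) (tt N13168 F57932) (tt N18412 (iv F61523)) (tt N18419 (iv F61546)) (tt N20180 (iv F66929)))
theorem Q17267 : ∀ i, i < 17267 → P i := stepQ 17266 Q17266 (allL N17266 (tt N20490 D30843) (tt N13167 (iv D27558)) (tt N20491 D30844) (tt N13169 F57933) (tt N15776 F57934) (tt N15779 F57935) (tt N20492 D30845))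
theorem Q17268 : ∀ i, i < 17268 → P i := stepQ 17267 Q17267 (allL N17267 (tt N13169 (iv D27559)) (tt N17913 F60039) (tt N16670 F57936) (tt N20490 (iv F67958)) (tt N13446 F57937) (tt N16422 F57938) (tt N19984 (iv F66264)))
theorem Q17269 : ∀ i, i < 17269 → P i := stepQ 17268 Q17268 (allL N17268 (tt N19984 (iv F66261)) (tt N16361 F57939) (tt N17540 (iv F58866)) (tt N20492 (iv F67970)) (tt N13448 F57940) (tt N19982 (iv F66256)) (tt N13169 (iv D27560)))
theorem Q17270 : ∀ i, i < 17270 → P i := stepQ 17269 Q17269 (allL N17269 (tt N13171 F57941) (tt N13876 (iv F57943)) (tt N13170 (iv D27561)) (tt N14118 (iv F57944)) (tt N13175 F57942) (tt N20351 (iv F67488)) (tt N17461 (iv F58572)))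
theorem Q17271 : ∀ i, i < 17271 → P i := stepQ 17270 Q17270 (allL N17270 (tt N14118 F57945) (tt N20202 (iv F67004)) (tt N17661 (iv F59203)) (tt N13171 (iv D27562)) (tt N14114 F57946) (tt N17656 F59189) (tt N17661 (iv F59206)))
theorem Q17272 : ∀ i, i < 17272 → P i := stepQ 17271 Q17271 (allL N17271 (tt N17461 (iv F58570)) (tt N20493 D30846) (tt N13172 F57947) (tt N17661 (iv F59204)) (tt N13178 F57948) (tt N17660 F59202) (tt N13171 (iv D27563)))
theorem Q17273 : ∀ i, i < 17273 → P i := stepQ 17272 Q17272 (allL N17272 (tt N19791 (iv F65586)) (tt N13172 (iv D27564)) (tt N20494 D30847) (tt N13454 F57949) (tt N13179 F57950) (tt N20495 D30848) (tt N13173 F57951))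
theorem Q17274 : ∀ i, i < 17274 → P i := stepQ 17273 Q17273 (allL N17273 (tt N17146 F57952) (tt N18438 F61590) (tt N17660 (iv F59200)) (tt N13455 F57953) (tt N13180 F57954) (tt N13172 (iv D27565)) (tt N17144 F57955))
theorem Q17275 : ∀ i, i < 17275 → P i := stepQ 17274 Q17274 (allL N17274 (tt N19808 (iv F65637)) (tt N16798 F57956) (tt N13173 (iv D27566)) (tt N18823 (iv F62658)) (tt N13182 F57957) (tt N19475 (iv F64554)) (tt N20494 (iv F67976)))
theorem Q17276 : ∀ i, i < 17276 → P i := stepQ 17275 Q17275 (allL N17275 (tt N14621 F57958) (tt N13875 F57959) (tt N13174 (iv D27567)) (tt N17625 (iv F59106)) (tt N14627 F57960) (tt N14808 F57961) (tt N14619 F57962))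
theorem Q17277 : ∀ i, i < 17277 → P i := stepQ 17276 Q17276 (allL N17276 (tt N13178 F57963) (tt N15638 (iv F57967)) (tt N13176 F57964) (tt N13874 F57965) (tt N17461 (iv F58571)) (tt N17151 F57966) (tt N13175 (iv D27568)))
theorem Q17278 : ∀ i, i < 17278 → P i := stepQ 17277 Q17277 (allL N17277 (tt N20496 D30849) (tt N13176 (iv D27569)) (tt N20497 D30850) (tt N13186 F57968) (tt N14625 F57969) (tt N20498 D30851) (tt N14618 F57970))
theorem Q17279 : ∀ i, i < 17279 → P i := stepQ 17278 Q17278 (allL N17278 (tt N13874 F57971) (tt N19259 (iv F63810)) (tt N14616 F57972) (tt N13178 F57973) (tt N14116 F57974) (tt N17745 (iv F59473)) (tt N13177 (iv D27570)))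
theorem Q17280 : ∀ i, i < 17280 → P i := stepQ 17279 Q17279 (allL N17279 (tt N19272 (iv F63854)) (tt N13178 (iv D27571)) (tt N20499 D30852) (tt N19259 (iv F63812)) (tt N20493 (iv F67973)) (tt N19258 F63808) (tt N19272 (iv F63856)))
theorem Q17281 : ∀ i, i < 17281 → P i := stepQ 17280 Q17280 (allL N17280 (tt N17151 F57975) (tt N17664 (iv F59216)) (tt N13180 F57976) (tt N17745 (iv F59471)) (tt N17660 F59201) (tt N13178 (iv D27572)) (tt N17149 F57977))
theorem Q17282 : ∀ i, i < 17282 → P i := stepQ 17281 Q17281 (allL N17281 (tt N13179 (iv D27573)) (tt N19311 (iv F64006)) (tt N20500 D30853) (tt N13192 F57978) (tt N19791 (iv F65588)) (tt N17289 (iv F57994)) (tt N13181 F57979))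
theorem Q17283 : ∀ i, i < 17283 → P i := stepQ 17282 Q17282 (allL N17282 (tt N20500 (iv F67995)) (tt N20499 (iv F67993)) (tt N13179 (iv D27574)) (tt N20501 D30854) (tt N20494 (iv F67975)) (tt N20502 D30855) (tt N13182 F57980))
theorem Q17284 : ∀ i, i < 17284 → P i := stepQ 17283 Q17283 (allL N17283 (tt N17289 (iv F57992)) (tt N15683 (iv F57982)) (tt N20502 (iv F68000)) (tt N13193 F57981) (tt N20495 (iv F67980)) (tt N13179 (iv D27575)) (tt N17286 (iv F57988)))
theorem Q17285 : ∀ i, i < 17285 → P i := stepQ 17284 Q17284 (allL N17284 (tt N18434 F61580) (tt N13180 (iv D27576)) (tt N19028 (iv F63199)) (tt N13194 F57983) (tt N18438 (iv F61589)) (tt N15683 F57984) (tt N20503 D30856))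
theorem Q17286 : ∀ i, i < 17286 → P i := stepQ 17285 Q17285 (allL N17285 (tt N13182 F57985) (tt N13909 (iv F58274)) (tt N13181 (iv D27577)) (tt N17817 (iv F59667)) (tt N19808 (iv F65639)) (tt N20504 D30857) (tt N20500 (iv F67997)))
theorem Q17287 : ∀ i, i < 17287 → P i := stepQ 17286 Q17286 (allL N17286 (tt N13183 F57986) (tt N20505 D30858) (tt N20504 (iv F68008)) (tt N13195 F57987) (tt N19474 (iv F64550)) (tt N13181 (iv D27578)) (tt N17283 F57988))
theorem Q17288 : ∀ i, i < 17288 → P i := stepQ 17287 Q17287 (allL N17287 (tt N17817 (iv F59665)) (tt N15302 F57989) (tt N19854 (iv F65798)) (tt N13182 (iv D27579)) (tt N15301 (iv F57990)) (tt N20506 D30859) (tt N20501 (iv F67998)))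
theorem Q17289 : ∀ i, i < 17289 → P i := stepQ 17288 Q17288 (allL N17288 (tt N20504 (iv F68006)) (tt N20271 (iv F67202)) (tt N13183 F57991) (tt N20506 (iv F68015)) (tt N19475 (iv F64553)) (tt N13182 (iv D27580)) (tt N20507 D30860))
theorem Q17290 : ∀ i, i < 17290 → P i := stepQ 17289 Q17289 (allL N17289 (tt N17283 F57992) (tt N18249 F60994) (tt N20507 (iv F68018)) (tt N13196 F57993) (tt N19476 (iv F64557)) (tt N17281 F57994) (tt N13183 (iv D27581)))
theorem Q17291 : ∀ i, i < 17291 → P i := stepQ 17290 Q17290 (allL N17290 (tt N13188 F57995) (tt N16409 F57996) (tt N16141 F57997) (tt N13459 F57998) (tt N13184 (iv D27582)) (tt N20378 (iv F67576)) (tt N20508 D30861))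
theorem Q17292 : ∀ i, i < 17292 → P i := stepQ 17291 Q17291 (allL N17291 (tt N13189 F57999) (tt N20509 D30862) (tt N16143 F58000) (tt N13185 F58001) (tt N20508 (iv F68024)) (tt N17158 F58002) (tt N13184 (iv D27583)))
theorem Q17293 : ∀ i, i < 17293 → P i := stepQ 17292 Q17292 (allL N17292 (tt N18703 (iv F62387)) (tt N13185 (iv D27584)) (tt N18702 F62386) (tt N20509 (iv F68026)) (tt N13460 F58003) (tt N20366 (iv F67542)) (tt N16412 F58004))
theorem Q17294 : ∀ i, i < 17294 → P i := stepQ 17293 Q17293 (allL N17293 (tt N13186 (iv D27585)) (tt N16911 F58005) (tt N17938 (iv F60133)) (tt N20496 (iv F67983)) (tt N13461 F58006) (tt N18541 (iv F61933)) (tt N14111 F58007))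
theorem Q17295 : ∀ i, i < 17295 → P i := stepQ 17294 Q17294 (allL N17294 (tt N17938 (iv F60131)) (tt N18702 (iv F62382)) (tt N13186 (iv D27586)) (tt N20510 D30863) (tt N13462 F58008) (tt N18540 (iv F61928)) (tt N14837 F58009))
theorem Q17296 : ∀ i, i < 17296 → P i := stepQ 17295 Q17295 (allL N17295 (tt N18541 (iv F61930)) (tt N17162 F58010) (tt N18540 F61929) (tt N20498 (iv F67990)) (tt N13463 F58011) (tt N13186 (iv D27587)) (tt N17913 (iv F60038)))
theorem Q17297 : ∀ i, i < 17297 → P i := stepQ 17296 Q17296 (allL N17296 (tt N16141 F58012) (tt N17742 (iv F59460)) (tt N13188 F58013) (tt N17912 (iv F60035)) (tt N13187 (iv D27588)) (tt N20379 (iv F67582)) (tt N20511 D30864))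
theorem Q17298 : ∀ i, i < 17298 → P i := stepQ 17297 Q17297 (allL N17297 (tt N16143 F58014) (tt N17955 F60207) (tt N13189 F58015) (tt N17741 (iv F59457)) (tt N20511 (iv F68035)) (tt N19839 (iv F65738)) (tt N13187 (iv D27589)))
theorem Q17299 : ∀ i, i < 17299 → P i := stepQ 17298 Q17298 (allL N17298 (tt N20508 (iv F68020)) (tt N19312 F64011) (tt N20511 (iv F68033)) (tt N13465 F58016) (tt N13189 F58017) (tt N20372 (iv F67560)) (tt N13188 (iv D27590)))
theorem Q17300 : ∀ i, i < 17300 → P i := stepQ 17299 Q17299 (allL N17299 (tt N19788 (iv F65574)) (tt N13189 (iv D27591)) (tt N18615 (iv F62184)) (tt N13190 F58018) (tt N19312 (iv F64009)) (tt N20512 D30865) (tt N13198 F58019))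
theorem Q17301 : ∀ i, i < 17301 → P i := stepQ 17300 Q17300 (allL N17300 (tt N17158 F58020) (tt N20374 (iv F67561)) (tt N19839 (iv F65736)) (tt N13191 F58021) (tt N20372 (iv F67559)) (tt N13189 (iv D27592)) (tt N17156 F58022))
theorem Q17302 : ∀ i, i < 17302 → P i := stepQ 17301 Q17301 (allL N17301 (tt N13190 (iv D27593)) (tt N16963 (iv F58026)) (tt N17231 F58023) (tt N19788 (iv F65576)) (tt N13466 F58024) (tt N17310 (iv F58051)) (tt N13197 F58025))
theorem Q17303 : ∀ i, i < 17303 → P i := stepQ 17302 Q17302 (allL N17302 (tt N17310 (iv F58048)) (tt N20513 D30866) (tt N17234 F58027) (tt N20512 (iv F68038)) (tt N13467 F58028) (tt N13190 (iv D27594)) (tt N17307 (iv F58043)))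
theorem Q17304 : ∀ i, i < 17304 → P i := stepQ 17303 Q17303 (allL N17303 (tt N18580 (iv F62056)) (tt N13191 (iv D27595)) (tt N15673 F58029) (tt N20374 (iv F67562)) (tt N13329 F58030) (tt N20513 (iv F68043)) (tt N18577 (iv F62050)))
theorem Q17305 : ∀ i, i < 17305 → P i := stepQ 17304 Q17304 (allL N17304 (tt N17918 (iv F60059)) (tt N17155 F58031) (tt N15677 F58032) (tt N20503 (iv F68004)) (tt N13469 F58033) (tt N19371 (iv F64187)) (tt N13194 (iv D27596)))
theorem Q17306 : ∀ i, i < 17306 → P i := stepQ 17305 Q17305 (allL N17305 (tt N17126 F58037) (tt N13195 (iv D27597)) (tt N17125 F58034) (tt N20505 (iv F68011)) (tt N13470 F58035) (tt N16590 F58036) (tt N19375 (iv F64203)))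
theorem Q17307 : ∀ i, i < 17307 → P i := stepQ 17306 Q17306 (allL N17306 (tt N17903 (iv F59995)) (tt N13196 (iv D27598)) (tt N17696 F59316) (tt N18249 (iv F60992)) (tt N13471 F58038) (tt N18537 (iv F61915)) (tt N13240 F58039))
theorem Q17308 : ∀ i, i < 17308 → P i := stepQ 17307 Q17307 (allL N17307 (tt N13199 F58040) (tt N18565 (iv F62009)) (tt N17225 F58041) (tt N19787 (iv F65573)) (tt N13473 F58042) (tt N13197 (iv D27599)) (tt N17302 F58043))
theorem Q17309 : ∀ i, i < 17309 → P i := stepQ 17308 Q17308 (allL N17308 (tt N19786 (iv F65567)) (tt N13200 F58044) (tt N19313 (iv F64014)) (tt N13474 F58045) (tt N13198 (iv D27600)) (tt N20268 (iv F67194)) (tt N19312 F64012))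
theorem Q17310 : ∀ i, i < 17310 → P i := stepQ 17309 Q17309 (allL N17309 (tt N19787 (iv F65571)) (tt N13209 F58046) (tt N19602 (iv F65014)) (tt N13199 F58047) (tt N20268 (iv F67193)) (tt N13198 (iv D27601)) (tt N20514 D30867))
theorem Q17311 : ∀ i, i < 17311 → P i := stepQ 17310 Q17310 (allL N17310 (tt N17302 F58048) (tt N19545 (iv F64821)) (tt N17226 F58049) (tt N20514 (iv F68047)) (tt N13475 F58050) (tt N17301 F58051) (tt N13199 (iv D27602)))
theorem Q17312 : ∀ i, i < 17312 → P i := stepQ 17311 Q17311 (allL N17311 (tt N18445 (iv F61616)) (tt N13202 F58052) (tt N17742 (iv F59461)) (tt N16101 F58053) (tt N13201 (iv D27603)) (tt N20515 D30868) (tt N20516 D30869))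
theorem Q17313 : ∀ i, i < 17313 → P i := stepQ 17312 Q17312 (allL N17312 (tt N18456 (iv F61642)) (tt N13215 F58054) (tt N17743 (iv F59464)) (tt N17370 (iv F58208)) (tt N20515 (iv F68051)) (tt N13201 (iv D27604)) (tt N20517 D30870))
theorem Q17314 : ∀ i, i < 17314 → P i := stepQ 17313 Q17313 (allL N17313 (tt N18457 (iv F61644)) (tt N17377 (iv F58232)) (tt N17744 (iv F59467)) (tt N17371 (iv F58211)) (tt N20516 (iv F68055)) (tt N20518 D30871) (tt N13201 (iv D27605)))
theorem Q17315 : ∀ i, i < 17315 → P i := stepQ 17314 Q17314 (allL N17314 (tt N20426 (iv F67750)) (tt N13204 F58055) (tt N20519 D30872) (tt N13203 (iv D27606)) (tt N15577 F58056) (tt N20520 D30873) (tt N20521 D30874))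
theorem Q17316 : ∀ i, i < 17316 → P i := stepQ 17315 Q17315 (allL N17315 (tt N19953 (iv F66144)) (tt N15818 (iv F58058)) (tt N18900 (iv F62842)) (tt N20520 (iv F68071)) (tt N13480 F58057) (tt N13203 (iv D27607)) (tt N20277 (iv F67224)))
theorem Q17317 : ∀ i, i < 17317 → P i := stepQ 17316 Q17316 (allL N17316 (tt N18845 F62699) (tt N19943 (iv F66111)) (tt N19961 (iv F66177)) (tt N20521 (iv F68076)) (tt N13481 F58059) (tt N19977 (iv F66236)) (tt N13203 (iv D27608)))
theorem Q17318 : ∀ i, i < 17318 → P i := stepQ 17317 Q17317 (allL N17317 (tt N13207 F58060) (tt N16100 F58269) (tt N13204 (iv D27609)) (tt N19873 (iv F65853)) (tt N20522 D30875) (tt N20523 D30876) (tt N20524 D30877))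
theorem Q17319 : ∀ i, i < 17319 → P i := stepQ 17318 Q17318 (allL N17318 (tt N13208 F58061) (tt N15577 F58062) (tt N20522 (iv F68080)) (tt N13482 F58063) (tt N13204 (iv D27610)) (tt N20267 (iv F67190)) (tt N20150 (iv F66835)))
theorem Q17320 : ∀ i, i < 17320 → P i := stepQ 17319 Q17319 (allL N17319 (tt N13209 F58064) (tt N20525 D30878) (tt N20523 (iv F68082)) (tt N13205 F58065) (tt N20267 (iv F67189)) (tt N13204 (iv D27611)) (tt N17328 (iv F58082)))
theorem Q17321 : ∀ i, i < 17321 → P i := stepQ 17320 Q17320 (allL N17320 (tt N13210 F58066) (tt N20526 D30879) (tt N20524 (iv F68085)) (tt N13206 F58067) (tt N20150 (iv F66834)) (tt N17327 (iv F58079)) (tt N13204 (iv D27612)))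
theorem Q17322 : ∀ i, i < 17322 → P i := stepQ 17321 Q17321 (allL N17321 (tt N18706 (iv F62397)) (tt N13205 (iv D27613)) (tt N15819 F58068) (tt N20525 (iv F68086)) (tt N13483 F58069) (tt N15818 F58070) (tt N19495 (iv F64639)))
theorem Q17323 : ∀ i, i < 17323 → P i := stepQ 17322 Q17322 (allL N17322 (tt N16341 (iv F58073)) (tt N13206 (iv D27614)) (tt N16350 F58071) (tt N20526 (iv F68088)) (tt N13484 F58072) (tt N16338 (iv F58074)) (tt N19943 (iv F66110)))
theorem Q17324 : ∀ i, i < 17324 → P i := stepQ 17323 Q17323 (allL N17323 (tt N19873 (iv F65851)) (tt N17386 (iv F58264)) (tt N17802 (iv F59613)) (tt N13207 (iv D27615)) (tt N20527 D30880) (tt N20528 D30881) (tt N20529 D30882))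
theorem Q17325 : ∀ i, i < 17325 → P i := stepQ 17324 Q17324 (allL N17324 (tt N20522 (iv F68078)) (tt N17387 (iv F58280)) (tt N13208 F58075) (tt N20530 D30883) (tt N13207 (iv D27616)) (tt N20269 (iv F67196)) (tt N20151 (iv F66837)))
theorem Q17326 : ∀ i, i < 17326 → P i := stepQ 17325 Q17325 (allL N17325 (tt N20523 (iv F68081)) (tt N20531 D30884) (tt N13209 F58076) (tt N20528 (iv F68093)) (tt N20269 (iv F67195)) (tt N13207 (iv D27617)) (tt N20532 D30885))
theorem Q17327 : ∀ i, i < 17327 → P i := stepQ 17326 Q17326 (allL N17326 (tt N20524 (iv F68083)) (tt N20533 D30886) (tt N13210 F58077) (tt N20529 (iv F68094)) (tt N20151 (iv F66836)) (tt N20534 D30887) (tt N13207 (iv D27618)))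
theorem Q17328 : ∀ i, i < 17328 → P i := stepQ 17327 Q17327 (allL N17327 (tt N17328 (iv F58080)) (tt N19546 (iv F64823)) (tt N20532 (iv F68098)) (tt N13211 F58078) (tt N20270 (iv F67199)) (tt N17320 F58079) (tt N13209 (iv D27619)))
theorem Q17329 : ∀ i, i < 17329 → P i := stepQ 17328 Q17328 (allL N17328 (tt N17327 F58080) (tt N18898 (iv F62836)) (tt N20534 (iv F68104)) (tt N13212 F58081) (tt N18897 (iv F62834)) (tt N13210 (iv D27620)) (tt N17319 F58082))
theorem Q17330 : ∀ i, i < 17330 → P i := stepQ 17329 Q17329 (allL N17329 (tt N20535 D30888) (tt N13212 (iv D27621)) (tt N20536 D30889) (tt N18898 (iv F62837)) (tt N13486 F58083) (tt N17329 F58084) (tt N20537 D30890))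
theorem Q17331 : ∀ i, i < 17331 → P i := stepQ 17330 Q17330 (allL N17330 (tt N15206 F58278) (tt N13213 (iv D27622)) (tt N19764 (iv F65517)) (tt N17379 (iv F58242)) (tt N20538 D30891) (tt N20539 D30892) (tt N20540 D30893))
theorem Q17332 : ∀ i, i < 17332 → P i := stepQ 17331 Q17331 (allL N17331 (tt N13214 F58085) (tt N20538 (iv F68119)) (tt N15227 F58086) (tt N17795 (iv F59601)) (tt N13213 (iv D27623)) (tt N19557 F64860) (tt N20541 D30894))
theorem Q17333 : ∀ i, i < 17333 → P i := stepQ 17332 Q17332 (allL N17332 (tt N13215 F58087) (tt N20542 D30895) (tt N15828 F58088) (tt N17380 (iv F58245)) (tt N19557 (iv F64859)) (tt N13213 (iv D27624)) (tt N17337 (iv F58100)))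
theorem Q17334 : ∀ i, i < 17334 → P i := stepQ 17333 Q17333 (allL N17333 (tt N13216 F58089) (tt N20543 D30896) (tt N19385 (iv F64239)) (tt N17381 (iv F58248)) (tt N20541 (iv F68128)) (tt N17336 (iv F58096)) (tt N13213 (iv D27625)))
theorem Q17335 : ∀ i, i < 17335 → P i := stepQ 17334 Q17334 (allL N17334 (tt N19557 (iv F64857)) (tt N20515 (iv F68049)) (tt N14208 F58090) (tt N17798 (iv F59604)) (tt N13215 F58091) (tt N13214 (iv D27626)) (tt N19547 (iv F64827)))
theorem Q17336 : ∀ i, i < 17336 → P i := stepQ 17335 Q17335 (allL N17335 (tt N20541 (iv F68126)) (tt N17335 F58092) (tt N15879 F58093) (tt N17799 (iv F59607)) (tt N13216 F58094) (tt N15877 (iv F58095)) (tt N13214 (iv D27627)))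
theorem Q17337 : ∀ i, i < 17337 → P i := stepQ 17336 Q17336 (allL N17336 (tt N17337 (iv F58097)) (tt N18394 (iv F62906)) (tt N19387 (iv F64246)) (tt N17382 (iv F58250)) (tt N19547 (iv F64826)) (tt N17333 F58096) (tt N13215 (iv D27628)))
theorem Q17338 : ∀ i, i < 17338 → P i := stepQ 17337 Q17337 (allL N17337 (tt N17336 F58097) (tt N18901 (iv F62848)) (tt N15878 F58098) (tt N17383 (iv F58254)) (tt N15877 F58099) (tt N13216 (iv D27629)) (tt N17332 F58100))
theorem Q17339 : ∀ i, i < 17339 → P i := stepQ 17338 Q17338 (allL N17338 (tt N19338 (iv F64107)) (tt N13217 (iv D27630)) (tt N19559 (iv F64867)) (tt N13218 F58101) (tt N15542 F58102) (tt N19334 (iv F64093)) (tt N18701 (iv F62381)))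
theorem Q17340 : ∀ i, i < 17340 → P i := stepQ 17339 Q17339 (allL N17339 (tt N16412 F58103) (tt N17339 F58104) (tt N13218 (iv D27631)) (tt N20544 D30897) (tt N16276 F58105) (tt N19934 (iv F66079)) (tt N18703 (iv F62390)))
theorem Q17341 : ∀ i, i < 17341 → P i := stepQ 17340 Q17340 (allL N17340 (tt N17638 (iv F59148)) (tt N13219 (iv D27632)) (tt N13847 (iv F58109)) (tt N13220 F58106) (tt N14439 F58107) (tt N18307 (iv F61159)) (tt N14448 F58108))
theorem Q17342 : ∀ i, i < 17342 → P i := stepQ 17341 Q17341 (allL N17341 (tt N15916 F58110) (tt N17341 F58111) (tt N13220 (iv D27633)) (tt N13655 F58114) (tt N14739 F58112) (tt N17764 (iv F59525)) (tt N14741 F58113))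
theorem Q17343 : ∀ i, i < 17343 → P i := stepQ 17342 Q17342 (allL N17342 (tt N18922 (iv F62901)) (tt N13225 F58115) (tt N18920 (iv F62896)) (tt N17236 F58116) (tt N16155 F58117) (tt N13222 (iv D27634)) (tt N20545 D30898))
theorem Q17344 : ∀ i, i < 17344 → P i := stepQ 17343 Q17343 (allL N17343 (tt N18923 (iv F62907)) (tt N13230 F58118) (tt N17740 (iv F59450)) (tt N17237 F58119) (tt N16156 F58120) (tt N17739 F59448) (tt N13222 (iv D27635)))
theorem Q17345 : ∀ i, i < 17345 → P i := stepQ 17344 Q17344 (allL N17344 (tt N20546 D30899) (tt N13223 (iv D27636)) (tt N20546 (iv F68147)) (tt N15718 F58121) (tt N16157 F58122) (tt N20547 D30900) (tt N20548 D30901))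
theorem Q17346 : ∀ i, i < 17346 → P i := stepQ 17345 Q17345 (allL N17345 (tt N13225 F58123) (tt N20549 D30902) (tt N17380 (iv F58244)) (tt N15720 F58124) (tt N16159 F58125) (tt N13223 (iv D27637)) (tt N15286 (iv F61406)))
theorem Q17347 : ∀ i, i < 17347 → P i := stepQ 17346 Q17346 (allL N17346 (tt N13226 F58126) (tt N20550 D30903) (tt N17381 (iv F58247)) (tt N15721 F58127) (tt N16160 F58128) (tt N17350 (iv F58142)) (tt N13223 (iv D27638)))
theorem Q17348 : ∀ i, i < 17348 → P i := stepQ 17347 Q17347 (allL N17347 (tt N15719 F58129) (tt N13227 F58130) (tt N15714 F58131) (tt N16162 F58132) (tt N13224 (iv D27639)) (tt N20551 D30904) (tt N20552 D30905))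
theorem Q17349 : ∀ i, i < 17349 → P i := stepQ 17348 Q17348 (allL N17348 (tt N15720 F58133) (tt N17236 F58134) (tt N15715 F58135) (tt N13225 F58136) (tt N20551 (iv F68164)) (tt N13224 (iv D27640)) (tt N19409 (iv F64310)))
theorem Q17350 : ∀ i, i < 17350 → P i := stepQ 17349 Q17349 (allL N17349 (tt N15721 F58137) (tt N13236 F58138) (tt N15716 F58139) (tt N13226 F58140) (tt N20552 (iv F68169)) (tt N18912 (iv F62879)) (tt N13224 (iv D27641)))
theorem Q17351 : ∀ i, i < 17351 → P i := stepQ 17350 Q17350 (allL N17350 (tt N15286 (iv F61402)) (tt N20553 D30906) (tt N17382 (iv F58249)) (tt N19409 (iv F64309)) (tt N16165 F58141) (tt N17346 F58142) (tt N13225 (iv D27642)))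
theorem Q17352 : ∀ i, i < 17352 → P i := stepQ 17351 Q17351 (allL N17351 (tt N15248 (iv F58175)) (tt N13228 (iv D27644)) (tt N20527 (iv F68092)) (tt N17254 F58146) (tt N17802 (iv F59615)) (tt N20554 D30907) (tt N20555 D30908))
theorem Q17353 : ∀ i, i < 17353 → P i := stepQ 17352 Q17352 (allL N17352 (tt N13229 F58147) (tt N20556 D30909) (tt N17373 (iv F58216)) (tt N17256 F58148) (tt N17803 (iv F59619)) (tt N13228 (iv D27645)) (tt N17355 (iv F58155)))
theorem Q17354 : ∀ i, i < 17354 → P i := stepQ 17353 Q17353 (allL N17353 (tt N13230 F58149) (tt N20557 D30910) (tt N17374 (iv F58220)) (tt N17257 F58150) (tt N17804 (iv F59623)) (tt N17354 (iv F58152)) (tt N13228 (iv D27646)))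
theorem Q17355 : ∀ i, i < 17355 → P i := stepQ 17354 Q17354 (allL N17354 (tt N17355 (iv F58153)) (tt N15223 F61413) (tt N15233 (iv F61408)) (tt N17260 F58151) (tt N17805 (iv F59626)) (tt N17353 F58152) (tt N13229 (iv D27647)))
theorem Q17356 : ∀ i, i < 17356 → P i := stepQ 17355 Q17355 (allL N17355 (tt N17354 F58153) (tt N18868 F62755) (tt N17378 (iv F58239)) (tt N17261 F58154) (tt N17806 (iv F59631)) (tt N13230 (iv D27648)) (tt N17352 F58155))
theorem Q17357 : ∀ i, i < 17357 → P i := stepQ 17356 Q17356 (allL N17356 (tt N13233 F58158) (tt N16158 (iv F58168)) (tt N13231 (iv D27654)) (tt N16157 F58167) (tt N20558 D30911) (tt N20559 D30912) (tt N17388 F61424))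
theorem Q17358 : ∀ i, i < 17358 → P i := stepQ 17357 Q17357 (allL N17357 (tt N13234 F58159) (tt N15255 (iv F58179)) (tt N20558 (iv F68184)) (tt N17808 (iv F59639)) (tt N13231 (iv D27655)) (tt N20560 D30913) (tt N17389 F61422))
theorem Q17359 : ∀ i, i < 17359 → P i := stepQ 17358 Q17358 (allL N17358 (tt N13235 F58160) (tt N20561 D30914) (tt N20559 (iv F68187)) (tt N13232 F58161) (tt N20560 (iv F68191)) (tt N13231 (iv D27656)) (tt N13251 (iv F61401)))
theorem Q17360 : ∀ i, i < 17360 → P i := stepQ 17359 Q17359 (allL N17359 (tt N20562 D30915) (tt N13232 (iv D27658)) (tt N20563 D30916) (tt N20561 (iv F68193)) (tt N17810 (iv F59644)) (tt N15259 (iv F58176)) (tt N15312 F61396))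
theorem Q17361 : ∀ i, i < 17361 → P i := stepQ 17360 Q17360 (allL N17360 (tt N16157 F58166) (tt N17247 F58164) (tt N16157 F58165) (tt N13233 (iv D27660)) (tt N20546 (iv F68146)) (tt N20564 D30917) (tt N19877 (iv F65872)))
theorem Q17362 : ∀ i, i < 17362 → P i := stepQ 17361 Q17361 (allL N17361 (tt N20558 (iv F68182)) (tt N17248 F58180) (tt N13234 F58181) (tt N20565 D30918) (tt N13233 (iv D27661)) (tt N20566 D30919) (tt N20567 D30920))
theorem Q17363 : ∀ i, i < 17363 → P i := stepQ 17362 Q17362 (allL N17362 (tt N20559 (iv F68186)) (tt N20568 D30921) (tt N13235 F58182) (tt N20564 (iv F68203)) (tt N20566 (iv F68211)) (tt N13233 (iv D27662)) (tt N13252 F61398))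
theorem Q17364 : ∀ i, i < 17364 → P i := stepQ 17363 Q17363 (allL N17363 (tt N17388 (iv F61423)) (tt N20569 D30922) (tt N13236 F58183) (tt N19877 (iv F65871)) (tt N20567 (iv F68215)) (tt N17384 F61416) (tt N13233 (iv D27663)))
theorem Q17365 : ∀ i, i < 17365 → P i := stepQ 17364 Q17364 (allL N17364 (tt N20560 (iv F68190)) (tt N17364 F58184) (tt N20566 (iv F68210)) (tt N17815 (iv F59653)) (tt N13235 F58185) (tt N13234 (iv D27664)) (tt N13253 F61397))
theorem Q17366 : ∀ i, i < 17366 → P i := stepQ 17365 Q17365 (allL N17365 (tt N17389 (iv F61418)) (tt N20552 (iv F68166)) (tt N20567 (iv F68213)) (tt N17816 (iv F59655)) (tt N13236 F58186) (tt N17385 F61417) (tt N13234 (iv D27665)))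
theorem Q17367 : ∀ i, i < 17367 → P i := stepQ 17366 Q17366 (allL N17366 (tt N19337 (iv F64103)) (tt N13237 (iv D27670)) (tt N19335 (iv F64095)) (tt N13238 F58193) (tt N15783 F58194) (tt N18708 (iv F62406)) (tt N19333 (iv F64088)))
theorem Q17368 : ∀ i, i < 17368 → P i := stepQ 17367 Q17367 (allL N17367 (tt N16519 F58195) (tt N17367 F58196) (tt N13238 (iv D27671)) (tt N20570 D30923) (tt N16431 F58197) (tt N18710 (iv F62415)) (tt N19993 (iv F66302)))
theorem Q17369 : ∀ i, i < 17369 → P i := stepQ 17368 Q17368 (allL N17368 (tt N17710 (iv F59364)) (tt N13239 (iv D27672)) (tt N13798 (iv F58201)) (tt N13240 F58198) (tt N14488 F58199) (tt N14497 F58200) (tt N18249 (iv F60993)))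
theorem Q17370 : ∀ i, i < 17370 → P i := stepQ 17369 Q17369 (allL N17369 (tt N15686 F58202) (tt N17369 F58203) (tt N13240 (iv D27673)) (tt N13661 F58206) (tt N14760 F58204) (tt N14762 F58205) (tt N17696 (iv F59315)))
theorem Q17371 : ∀ i, i < 17371 → P i := stepQ 17370 Q17370 (allL N17370 (tt N18867 (iv F62748)) (tt N13249 F58207) (tt N17672 (iv F59237)) (tt N17312 F58208) (tt N16170 F58209) (tt N13242 (iv D27674)) (tt N17671 F59235))
theorem Q17372 : ∀ i, i < 17372 → P i := stepQ 17371 Q17371 (allL N17371 (tt N18868 (iv F62751)) (tt N13246 F58210) (tt N18865 (iv F62743)) (tt N17313 F58211) (tt N16171 F58212) (tt N20571 D30924) (tt N13242 (iv D27675)))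
theorem Q17373 : ∀ i, i < 17373 → P i := stepQ 17372 Q17372 (allL N17372 (tt N20572 D30925) (tt N13243 (iv D27676)) (tt N20572 (iv F68238)) (tt N15944 F58213) (tt N16172 F58214) (tt N20573 D30926) (tt N20547 F68150))
theorem Q17374 : ∀ i, i < 17374 → P i := stepQ 17373 Q17373 (allL N17373 (tt N13245 F58215) (tt N20574 D30927) (tt N17352 F58216) (tt N15946 F58217) (tt N16174 F58218) (tt N13243 (iv D27677)) (tt N17378 (iv F58241)))
theorem Q17375 : ∀ i, i < 17375 → P i := stepQ 17374 Q17374 (allL N17374 (tt N13246 F58219) (tt N20575 D30928) (tt N17353 F58220) (tt N15947 F58221) (tt N16175 F58222) (tt N15233 (iv F61410)) (tt N13243 (iv D27678)))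
theorem Q17376 : ∀ i, i < 17376 → P i := stepQ 17375 Q17375 (allL N17375 (tt N15945 F58223) (tt N13247 F58224) (tt N15940 F58225) (tt N16177 F58226) (tt N13244 (iv D27679)) (tt N20576 D30929) (tt N20577 D30930))
theorem Q17377 : ∀ i, i < 17377 → P i := stepQ 17376 Q17376 (allL N17376 (tt N15946 F58227) (tt N13254 F58228) (tt N15941 F58229) (tt N13245 F58230) (tt N20576 (iv F68256)) (tt N13244 (iv D27680)) (tt N18857 (iv F62727)))
theorem Q17378 : ∀ i, i < 17378 → P i := stepQ 17377 Q17377 (allL N17377 (tt N15947 F58231) (tt N17313 F58232) (tt N15942 F58233) (tt N13246 F58234) (tt N20577 (iv F68261)) (tt N19613 (iv F65051)) (tt N13244 (iv D27681)))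
theorem Q17379 : ∀ i, i < 17379 → P i := stepQ 17378 Q17378 (allL N17378 (tt N15233 (iv F61407)) (tt N20578 D30931) (tt N17355 F58239) (tt N19613 (iv F65050)) (tt N16181 F58240) (tt N13246 (iv D27683)) (tt N17373 F58241))
theorem Q17380 : ∀ i, i < 17380 → P i := stepQ 17379 Q17379 (allL N17379 (tt N15301 (iv F58275)) (tt N13248 (iv D27684)) (tt N20469 (iv F67905)) (tt N17330 F58242) (tt N17817 (iv F59668)) (tt N20579 D30932) (tt N20580 D30933))
theorem Q17381 : ∀ i, i < 17381 → P i := stepQ 17380 Q17380 (allL N17380 (tt N13249 F58243) (tt N20581 D30934) (tt N17345 F58244) (tt N17332 F58245) (tt N17818 (iv F59672)) (tt N13248 (iv D27685)) (tt N17383 (iv F58255)))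
theorem Q17382 : ∀ i, i < 17382 → P i := stepQ 17381 Q17381 (allL N17381 (tt N13250 F58246) (tt N20582 D30935) (tt N17346 F58247) (tt N17333 F58248) (tt N17819 (iv F59676)) (tt N17382 (iv F58251)) (tt N13248 (iv D27686)))
theorem Q17383 : ∀ i, i < 17383 → P i := stepQ 17382 Q17382 (allL N17382 (tt N17383 (iv F58252)) (tt N18922 F62905) (tt N17350 F58249) (tt N17336 F58250) (tt N17820 (iv F59679)) (tt N17381 F58251) (tt N13249 (iv D27687)))
theorem Q17384 : ∀ i, i < 17384 → P i := stepQ 17383 Q17383 (allL N17383 (tt N17382 F58252) (tt N15276 F61415) (tt N15286 (iv F61403)) (tt N17337 F58254) (tt N17821 (iv F59684)) (tt N13250 (iv D27688)) (tt N17380 F58255))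
theorem Q17385 : ∀ i, i < 17385 → P i := stepQ 17384 Q17384 (allL N17384 (tt N13252 F58258) (tt N16173 (iv F58268)) (tt N13251 (iv D27694)) (tt N16172 F58267) (tt N20583 D30936) (tt N17363 (iv F61416)) (tt N20559 (iv F68189)))
theorem Q17386 : ∀ i, i < 17386 → P i := stepQ 17385 Q17385 (allL N17385 (tt N13253 F58259) (tt N15308 (iv F58279)) (tt N20583 (iv F68279)) (tt N17823 (iv F59692)) (tt N13251 (iv D27695)) (tt N17365 (iv F61417)) (tt N20560 (iv F68192)))
theorem Q17387 : ∀ i, i < 17387 → P i := stepQ 17386 Q17386 (allL N17386 (tt N16172 F58266) (tt N17323 F58264) (tt N16172 F58265) (tt N13252 (iv D27700)) (tt N20572 (iv F68237)) (tt N19859 F65816) (tt N20564 (iv F68204)))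
theorem Q17388 : ∀ i, i < 17388 → P i := stepQ 17387 Q17387 (allL N17387 (tt N20583 (iv F68277)) (tt N17324 F58280) (tt N13253 F58281) (tt N20584 D30937) (tt N13252 (iv D27701)) (tt N20585 D30938) (tt N20566 F68212))
theorem Q17389 : ∀ i, i < 17389 → P i := stepQ 17388 Q17388 (allL N17388 (tt N17363 F61423) (tt N20586 D30939) (tt N13254 F58282) (tt N19859 (iv F65815)) (tt N20585 (iv F68290)) (tt N13252 (iv D27702)) (tt N17356 (iv F61424)))
theorem Q17390 : ∀ i, i < 17390 → P i := stepQ 17389 Q17389 (allL N17389 (tt N17365 F61418) (tt N20576 (iv F68253)) (tt N20585 (iv F68288)) (tt N17827 (iv F59705)) (tt N13254 F58284) (tt N13253 (iv D27704)) (tt N17357 (iv F61422)))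
theorem Q17391 : ∀ i, i < 17391 → P i := stepQ 17390 Q17390 (allL N17390 (tt N18360 (iv F61333)) (tt N17403 (iv F58340)) (tt N13257 (iv D27710)) (tt N20261 (iv F67171)) (tt N13258 F58293) (tt N13257 F58295) (tt N14452 F58294))
theorem Q17392 : ∀ i, i < 17392 → P i := stepQ 17391 Q17391 (allL N17391 (tt N16671 F58298) (tt N13259 (iv D27711)) (tt N13448 F58296) (tt N13988 F58297) (tt N17540 (iv F58868)) (tt N19985 (iv F66269)) (tt N13447 (iv F58299)))
theorem Q17393 : ∀ i, i < 17393 → P i := stepQ 17392 Q17392 (allL N17392 (tt N16516 F58300) (tt N13264 (iv D27712)) (tt N17396 (iv F58315)) (tt N13483 F58301) (tt N20266 (iv F67185)) (tt N13429 F58302) (tt N17415 (iv F58389)))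
theorem Q17394 : ∀ i, i < 17394 → P i := stepQ 17393 Q17393 (allL N17393 (tt N17411 (iv F58375)) (tt N13423 F58303) (tt N13268 F58304) (tt N13475 F58305) (tt N19318 (iv F64035)) (tt N13434 F58306) (tt N13265 (iv D27713)))
theorem Q17395 : ∀ i, i < 17395 → P i := stepQ 17394 Q17394 (allL N17394 (tt N18422 (iv F61551)) (tt N17421 (iv F58408)) (tt N13270 (iv D27714)) (tt N20272 (iv F67206)) (tt N13271 F58307) (tt N14501 F58308) (tt N13270 (iv F58309)))
theorem Q17396 : ∀ i, i < 17396 → P i := stepQ 17395 Q17395 (allL N17395 (tt N16653 F58312) (tt N13272 (iv D27715)) (tt N13395 F58310) (tt N14007 F58311) (tt N17536 (iv F58854)) (tt N13394 (iv F58313)) (tt N19924 (iv F66034)))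
theorem Q17397 : ∀ i, i < 17397 → P i := stepQ 17396 Q17396 (allL N17396 (tt N16407 F58314) (tt N13277 (iv D27716)) (tt N17392 F58315) (tt N13432 F58316) (tt N20277 (iv F67222)) (tt N17429 (iv F58449)) (tt N13480 F58317))
theorem Q17398 : ∀ i, i < 17398 → P i := stepQ 17397 Q17397 (allL N17397 (tt N17427 (iv F58436)) (tt N13475 F58318) (tt N13280 F58319) (tt N13423 F58320) (tt N19545 (iv F64818)) (tt N13278 (iv D27717)) (tt N13485 F58321))
theorem Q17399 : ∀ i, i < 17399 → P i := stepQ 17398 Q17398 (allL N17398 (tt N15670 F58322) (tt N13290 (iv D27718)) (tt N17635 (iv F59132)) (tt N20327 (iv F67378)) (tt N13291 F58323) (tt N17634 F59129) (tt N13298 F58324))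
theorem Q17400 : ∀ i, i < 17400 → P i := stepQ 17399 Q17399 (allL N17399 (tt N13722 F58325) (tt N18380 (iv F61452)) (tt N13399 F58326) (tt N20328 (iv F67384)) (tt N13292 F58327) (tt N13290 (iv D27719)) (tt N13615 F58328))
theorem Q17401 : ∀ i, i < 17401 → P i := stepQ 17400 Q17400 (allL N17400 (tt N13293 (iv D27720)) (tt N17442 (iv F58499)) (tt N13305 F58329) (tt N14039 F58330) (tt N19590 (iv F64965)) (tt N13418 F58331) (tt N13304 F58332))
theorem Q17402 : ∀ i, i < 17402 → P i := stepQ 17401 Q17401 (allL N17401 (tt N13298 (iv D27721)) (tt N18382 (iv F61462)) (tt N17637 (iv F59144)) (tt N19751 (iv F65471)) (tt N13299 F58333) (tt N14561 F58335) (tt N15670 F58334))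
theorem Q17403 : ∀ i, i < 17403 → P i := stepQ 17402 Q17402 (allL N17402 (tt N17637 (iv F59143)) (tt N13310 F58336) (tt N13298 (iv D27722)) (tt N20347 (iv F67464)) (tt N13300 F58337) (tt N13311 (iv F58338)) (tt N17635 (iv F59134)))
theorem Q17404 : ∀ i, i < 17404 → P i := stepQ 17403 Q17403 (allL N17403 (tt N14561 F58339) (tt N17390 F58340) (tt N13311 F58341) (tt N19750 (iv F65466)) (tt N13301 F58342) (tt N13298 (iv D27723)) (tt N13795 F58343))
theorem Q17405 : ∀ i, i < 17405 → P i := stepQ 17404 Q17404 (allL N17404 (tt N13311 (iv D27724)) (tt N15649 F58344) (tt N14561 F58345) (tt N20348 (iv F67468)) (tt N13312 F58346) (tt N17637 (iv F59146)) (tt N13794 F58347))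
theorem Q17406 : ∀ i, i < 17406 → P i := stepQ 17405 Q17405 (allL N17405 (tt N13320 F58348) (tt N17424 (iv F58422)) (tt N13319 (iv D27725)) (tt N16557 F58349) (tt N20363 (iv F67533)) (tt N13323 F58350) (tt N17409 (iv F58365)))
theorem Q17407 : ∀ i, i < 17407 → P i := stepQ 17406 Q17406 (allL N17406 (tt N17409 (iv F58361)) (tt N17423 (iv F58417)) (tt N13321 F58351) (tt N16558 F58352) (tt N20365 (iv F67538)) (tt N17408 (iv F58360)) (tt N13320 (iv D27726)))
theorem Q17408 : ∀ i, i < 17408 → P i := stepQ 17407 Q17407 (allL N17407 (tt N16333 F58353) (tt N16545 F58354) (tt N13322 (iv D27727)) (tt N16475 F58357) (tt N20366 (iv F67541)) (tt N13460 F58355) (tt N16330 F58356))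
theorem Q17409 : ∀ i, i < 17409 → P i := stepQ 17408 Q17408 (allL N17408 (tt N13325 F58358) (tt N19903 (iv F65957)) (tt N13324 F58359) (tt N17883 (iv F59921)) (tt N20368 (iv F67547)) (tt N17406 F58360) (tt N13323 (iv D27728)))
theorem Q17410 : ∀ i, i < 17410 → P i := stepQ 17409 Q17409 (allL N17409 (tt N17406 F58361) (tt N16260 F58362) (tt N13326 F58363) (tt N16262 F58364) (tt N20370 (iv F67554)) (tt N13325 (iv D27729)) (tt N17405 F58365))
theorem Q17411 : ∀ i, i < 17411 → P i := stepQ 17410 Q17410 (allL N17410 (tt N16613 F58366) (tt N13467 F58367) (tt N14888 F58368) (tt N13330 F58369) (tt N20513 (iv F68042)) (tt N13329 (iv D27730)) (tt N14886 F58370))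
theorem Q17412 : ∀ i, i < 17412 → P i := stepQ 17411 Q17411 (allL N17411 (tt N17393 F58375) (tt N13330 (iv D27731)) (tt N13478 F58371) (tt N13467 F58372) (tt N20377 (iv F67569)) (tt N13464 F58373) (tt N14866 F58374))
theorem Q17413 : ∀ i, i < 17413 → P i := stepQ 17412 Q17412 (allL N17412 (tt N13337 (iv D27732)) (tt N19916 (iv F66004)) (tt N13379 F58376) (tt N17889 (iv F59946)) (tt N20384 (iv F67599)) (tt N13378 F58377) (tt N17424 (iv F58425)))
theorem Q17414 : ∀ i, i < 17414 → P i := stepQ 17413 Q17413 (allL N17413 (tt N17424 (iv F58421)) (tt N16231 F58378) (tt N13380 F58379) (tt N16233 F58380) (tt N20386 (iv F67606)) (tt N17423 (iv F58419)) (tt N13337 (iv D27733)))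
theorem Q17415 : ∀ i, i < 17415 → P i := stepQ 17414 Q17414 (allL N17414 (tt N13339 (iv D27734)) (tt N14701 F58381) (tt N16402 F58382) (tt N14702 F58383) (tt N18698 (iv F62369)) (tt N16397 F58384) (tt N14704 F58385))
theorem Q17416 : ∀ i, i < 17416 → P i := stepQ 17415 Q17415 (allL N17415 (tt N13428 F58386) (tt N16540 F58387) (tt N13480 F58388) (tt N17472 (iv F58621)) (tt N18900 (iv F62844)) (tt N13340 (iv D27735)) (tt N17392 F58389))
theorem Q17417 : ∀ i, i < 17417 → P i := stepQ 17416 Q17416 (allL N17416 (tt N15900 F58390) (tt N13350 (iv D27736)) (tt N17707 (iv F59348)) (tt N20396 (iv F67641)) (tt N13351 F58391) (tt N13358 F58392) (tt N17706 F59345))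
theorem Q17418 : ∀ i, i < 17418 → P i := stepQ 17417 Q17417 (allL N17417 (tt N13747 F58393) (tt N18441 (iv F61598)) (tt N13451 F58394) (tt N20397 (iv F67647)) (tt N13352 F58395) (tt N13616 F58396) (tt N13350 (iv D27737)))
theorem Q17419 : ∀ i, i < 17419 → P i := stepQ 17418 Q17418 (allL N17418 (tt N13357 (iv D27738)) (tt N17467 (iv F58595)) (tt N13365 F58397) (tt N14096 F58398) (tt N19375 (iv F64201)) (tt N13364 F58399) (tt N13470 F58400))
theorem Q17420 : ∀ i, i < 17420 → P i := stepQ 17419 Q17419 (allL N17419 (tt N13358 (iv D27739)) (tt N18444 (iv F61612)) (tt N17709 (iv F59359)) (tt N19843 (iv F65755)) (tt N13359 F58401) (tt N15900 F58402) (tt N14611 (iv F58403)))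
theorem Q17421 : ∀ i, i < 17421 → P i := stepQ 17420 Q17420 (allL N17420 (tt N17709 (iv F59358)) (tt N13369 F58404) (tt N13358 (iv D27740)) (tt N20408 (iv F67685)) (tt N13360 F58405) (tt N17707 (iv F59350)) (tt N13370 (iv F58406)))
theorem Q17422 : ∀ i, i < 17422 → P i := stepQ 17421 Q17421 (allL N17421 (tt N14611 F58407) (tt N17394 F58408) (tt N13370 F58409) (tt N19842 (iv F65749)) (tt N13361 F58410) (tt N13845 F58411) (tt N13358 (iv D27741)))
theorem Q17423 : ∀ i, i < 17423 → P i := stepQ 17422 Q17422 (allL N17422 (tt N13370 (iv D27742)) (tt N15883 F58412) (tt N14611 F58413) (tt N20349 (iv F67475)) (tt N13371 F58414) (tt N13844 F58415) (tt N17709 (iv F59362)))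
theorem Q17424 : ∀ i, i < 17424 → P i := stepQ 17423 Q17423 (allL N17423 (tt N13375 F58416) (tt N17406 F58417) (tt N13374 (iv D27743)) (tt N16592 F58418) (tt N20413 (iv F67707)) (tt N17413 F58419) (tt N13378 F58420))
theorem Q17425 : ∀ i, i < 17425 → P i := stepQ 17424 Q17424 (allL N17424 (tt N17413 F58421) (tt N17405 F58422) (tt N13376 F58423) (tt N16593 F58424) (tt N20415 (iv F67716)) (tt N13375 (iv D27744)) (tt N17412 F58425))
theorem Q17426 : ∀ i, i < 17426 → P i := stepQ 17425 Q17425 (allL N17425 (tt N16475 F58426) (tt N16580 F58427) (tt N13377 (iv D27745)) (tt N16333 F58428) (tt N20416 (iv F67720)) (tt N16472 F58429) (tt N13408 F58430))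
theorem Q17427 : ∀ i, i < 17427 → P i := stepQ 17426 Q17426 (allL N17426 (tt N16609 F58431) (tt N13415 F58432) (tt N14856 F58433) (tt N13384 F58434) (tt N20455 (iv F67856)) (tt N14854 F58435) (tt N13382 (iv D27746)))
theorem Q17428 : ∀ i, i < 17428 → P i := stepQ 17427 Q17427 (allL N17427 (tt N17397 F58436) (tt N13384 (iv D27747)) (tt N13426 F58437) (tt N13415 F58438) (tt N20424 (iv F67742)) (tt N14872 F58439) (tt N13412 F58440))
theorem Q17429 : ∀ i, i < 17429 → P i := stepQ 17428 Q17428 (allL N17428 (tt N13385 (iv D27748)) (tt N14720 F58441) (tt N16380 F58442) (tt N14721 F58443) (tt N18705 (iv F62394)) (tt N14723 F58444) (tt N16366 F58445))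
theorem Q17430 : ∀ i, i < 17430 → P i := stepQ 17429 Q17429 (allL N17429 (tt N13481 F58446) (tt N16575 F58447) (tt N13429 F58448) (tt N17447 (iv F58523)) (tt N18845 (iv F62697)) (tt N17396 F58449) (tt N13386 (iv D27749)))
theorem Q17431 : ∀ i, i < 17431 → P i := stepQ 17430 Q17430 (allL N17430 (tt N16462 F58450) (tt N13390 (iv D27750)) (tt N16461 (iv F58455)) (tt N13392 F58451) (tt N16204 F58452) (tt N16315 F58453) (tt N16290 F58454))
theorem Q17432 : ∀ i, i < 17432 → P i := stepQ 17431 Q17431 (allL N17431 (tt N14987 F58456) (tt N13394 F58457) (tt N13391 (iv D27751)) (tt N16651 F58458) (tt N17510 (iv F58768)) (tt N20208 (iv F67031)) (tt N17431 F58459))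
theorem Q17433 : ∀ i, i < 17433 → P i := stepQ 17432 Q17432 (allL N17432 (tt N19665 (iv F65219)) (tt N16466 F58460) (tt N20208 (iv F67029)) (tt N16460 F58461) (tt N19315 (iv F64025)) (tt N13391 (iv D27752)) (tt N19665 (iv F65224)))
theorem Q17434 : ∀ i, i < 17434 → P i := stepQ 17433 Q17433 (allL N17433 (tt N13392 (iv D27753)) (tt N19304 (iv F63975)) (tt N14979 F58464) (tt N16462 F58462) (tt N19308 (iv F63996)) (tt N16747 F58463) (tt N19303 (iv F63974)))
theorem Q17435 : ∀ i, i < 17435 → P i := stepQ 17434 Q17434 (allL N17434 (tt N14979 F58465) (tt N13396 F58466) (tt N13392 (iv D27754)) (tt N13992 F58468) (tt N19930 (iv F66057)) (tt N16748 F58467) (tt N16866 (iv F58469)))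
theorem Q17436 : ∀ i, i < 17436 → P i := stepQ 17435 Q17435 (allL N17435 (tt N19303 (iv F63970)) (tt N14905 F58470) (tt N16866 F58471) (tt N16290 F58472) (tt N15565 F58473) (tt N19302 (iv F63969)) (tt N13392 (iv D27755)))
theorem Q17437 : ∀ i, i < 17437 → P i := stepQ 17436 Q17436 (allL N17436 (tt N17195 F58474) (tt N19387 F64250) (tt N13401 (iv D27756)) (tt N17893 (iv F59964)) (tt N17200 F58475) (tt N17193 F58476) (tt N20346 (iv F67460)))
theorem Q17438 : ∀ i, i < 17438 → P i := stepQ 17437 Q17437 (allL N17437 (tt N15545 F58477) (tt N14661 F58478) (tt N14526 F58479) (tt N20437 (iv F67796)) (tt N13405 F58480) (tt N15543 F58481) (tt N13402 (iv D27757)))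
theorem Q17439 : ∀ i, i < 17439 → P i := stepQ 17438 Q17438 (allL N17438 (tt N19715 (iv F65357)) (tt N14624 F58482) (tt N20587 D30940) (tt N13404 (iv D27758)) (tt N20326 (iv F67373)) (tt N14517 F58483) (tt N19240 (iv F63745)))
theorem Q17440 : ∀ i, i < 17440 → P i := stepQ 17439 Q17439 (allL N17439 (tt N13413 F58484) (tt N16332 F58485) (tt N13407 F58486) (tt N20450 (iv F67837)) (tt N13406 (iv D27759)) (tt N13407 F58487) (tt N17174 F58488))
theorem Q17441 : ∀ i, i < 17441 → P i := stepQ 17440 Q17440 (allL N17440 (tt N13408 (iv D27760)) (tt N16543 F58489) (tt N16432 F58490) (tt N16330 F58491) (tt N18710 (iv F62414)) (tt N16431 F58492) (tt N16475 F58493))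
theorem Q17442 : ∀ i, i < 17442 → P i := stepQ 17441 Q17441 (allL N17441 (tt N15867 F58494) (tt N13413 F58495) (tt N13425 F58496) (tt N19540 (iv F64799)) (tt N13412 (iv D27761)) (tt N13422 F58497) (tt N20424 (iv F67744)))
theorem Q17443 : ∀ i, i < 17443 → P i := stepQ 17442 Q17442 (allL N17442 (tt N16529 F58498) (tt N17400 F58499) (tt N15915 F58500) (tt N14074 F58501) (tt N15914 F58502) (tt N13416 (iv D27762)) (tt N14072 F58503))
theorem Q17444 : ∀ i, i < 17444 → P i := stepQ 17443 Q17443 (allL N17443 (tt N13422 F58504) (tt N16338 F58505) (tt N15868 F58506) (tt N19692 (iv F65286)) (tt N13420 (iv D27763)) (tt N15867 F58507) (tt N18569 (iv F62024)))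
theorem Q17445 : ∀ i, i < 17445 → P i := stepQ 17444 Q17444 (allL N17444 (tt N15865 F58508) (tt N13438 F58509) (tt N20424 (iv F67741)) (tt N15864 F58510) (tt N13426 F58511) (tt N14873 F58512) (tt N13425 (iv D27764)))
theorem Q17446 : ∀ i, i < 17446 → P i := stepQ 17445 Q17445 (allL N17445 (tt N17472 (iv F58620)) (tt N14861 F58513) (tt N15804 F58514) (tt N13428 F58515) (tt N15806 F58516) (tt N13427 (iv D27765)) (tt N16387 F58517))
theorem Q17447 : ∀ i, i < 17447 → P i := stepQ 17446 Q17446 (allL N17446 (tt N16746 F58518) (tt N15614 F58519) (tt N13432 (iv D27766)) (tt N16295 F58522) (tt N15579 F58520) (tt N19260 (iv F63819)) (tt N15573 F58521))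
theorem Q17448 : ∀ i, i < 17448 → P i := stepQ 17447 Q17447 (allL N17447 (tt N17470 (iv F58609)) (tt N17450 (iv F58533)) (tt N19260 (iv F63816)) (tt N17429 F58523) (tt N19262 (iv F63826)) (tt N13432 (iv D27767)) (tt N16507 F58524))
theorem Q17449 : ∀ i, i < 17449 → P i := stepQ 17448 Q17448 (allL N17448 (tt N13433 (iv D27768)) (tt N16472 F58525) (tt N19986 (iv F66271)) (tt N16578 F58526) (tt N20477 (iv F67919)) (tt N16576 F58528) (tt N17448 F58527))
theorem Q17450 : ∀ i, i < 17450 → P i := stepQ 17449 Q17449 (allL N17449 (tt N19986 (iv F66270)) (tt N14983 F58529) (tt N13433 (iv D27769)) (tt N14984 F58531) (tt N20478 (iv F67923)) (tt N20588 D30941) (tt N17449 F58530))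
theorem Q17451 : ∀ i, i < 17451 → P i := stepQ 17450 Q17450 (allL N17450 (tt N16576 F58532) (tt N17447 F58533) (tt N20588 (iv F68300)) (tt N16575 F58534) (tt N20479 (iv F67928)) (tt N13433 (iv D27770)) (tt N16576 F58535))
theorem Q17452 : ∀ i, i < 17452 → P i := stepQ 17451 Q17451 (allL N17451 (tt N13435 (iv D27771)) (tt N17484 (iv F58662)) (tt N19530 (iv F64753)) (tt N14978 F58536) (tt N19533 (iv F64770)) (tt N18589 (iv F62097)) (tt N16857 (iv F58559)))
theorem Q17453 : ∀ i, i < 17453 → P i := stepQ 17452 Q17452 (allL N17452 (tt N16857 (iv F58558)) (tt N17869 (iv F59871)) (tt N19531 (iv F64759)) (tt N14932 F58537) (tt N19535 (iv F64779)) (tt N14931 F58538) (tt N13435 (iv D27772)))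
theorem Q17454 : ∀ i, i < 17454 → P i := stepQ 17453 Q17453 (allL N17453 (tt N13438 F58539) (tt N20589 D30942) (tt N16736 F58540) (tt N17868 (iv F59868)) (tt N13437 F58541) (tt N14988 F58542) (tt N13436 (iv D27773)))
theorem Q17455 : ∀ i, i < 17455 → P i := stepQ 17454 Q17454 (allL N17454 (tt N17828 (iv F59718)) (tt N13437 (iv D27774)) (tt N17479 (iv F58643)) (tt N16661 F58543) (tt N20589 (iv F68303)) (tt N20590 D30943) (tt N17869 (iv F59872)))
theorem Q17456 : ∀ i, i < 17456 → P i := stepQ 17455 Q17455 (allL N17455 (tt N16313 F58544) (tt N13441 (iv D27775)) (tt N16312 (iv F58549)) (tt N13443 F58545) (tt N16235 F58546) (tt N16445 F58547) (tt N16463 F58548))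
theorem Q17457 : ∀ i, i < 17457 → P i := stepQ 17456 Q17456 (allL N17456 (tt N13443 (iv D27776)) (tt N19532 (iv F64763)) (tt N14931 (iv F58552)) (tt N16313 F58550) (tt N19536 (iv F64784)) (tt N19531 (iv F64762)) (tt N16750 F58551))
theorem Q17458 : ∀ i, i < 17458 → P i := stepQ 17457 Q17457 (allL N17457 (tt N14931 F58553) (tt N13445 F58554) (tt N13443 (iv D27777)) (tt N14011 F58556) (tt N19990 (iv F66286)) (tt N16857 F58557) (tt N16751 F58555))
theorem Q17459 : ∀ i, i < 17459 → P i := stepQ 17458 Q17458 (allL N17458 (tt N19531 (iv F64758)) (tt N14953 F58560) (tt N16857 F58561) (tt N16445 F58562) (tt N15807 F58563) (tt N13443 (iv D27778)) (tt N19530 F64757))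
theorem Q17460 : ∀ i, i < 17460 → P i := stepQ 17459 Q17459 (allL N17459 (tt N14939 F58564) (tt N13447 F58565) (tt N13444 (iv D27779)) (tt N16669 F58566) (tt N17514 (iv F58784)) (tt N17459 F58567) (tt N20206 (iv F67022)))
theorem Q17461 : ∀ i, i < 17461 → P i := stepQ 17460 Q17460 (allL N17460 (tt N19759 (iv F65499)) (tt N16319 F58568) (tt N20206 (iv F67020)) (tt N16311 F58569) (tt N19542 (iv F64808)) (tt N19759 (iv F65504)) (tt N13444 (iv D27780)))
theorem Q17462 : ∀ i, i < 17462 → P i := stepQ 17461 Q17461 (allL N17461 (tt N17271 F58570) (tt N19321 (iv F64047)) (tt N13453 (iv D27781)) (tt N17915 (iv F60048)) (tt N17276 F58571) (tt N20407 (iv F67681)) (tt N17269 F58572))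
theorem Q17463 : ∀ i, i < 17463 → P i := stepQ 17462 Q17462 (allL N17462 (tt N15794 F58573) (tt N14693 F58574) (tt N14477 F58575) (tt N20495 (iv F67979)) (tt N13457 F58576) (tt N13454 (iv D27782)) (tt N15792 F58577))
theorem Q17464 : ∀ i, i < 17464 → P i := stepQ 17463 Q17463 (allL N17463 (tt N19809 (iv F65640)) (tt N14574 F58578) (tt N20591 D30944) (tt N13456 (iv D27783)) (tt N20340 (iv F67439)) (tt N19480 (iv F64573)) (tt N14468 F58579))
theorem Q17465 : ∀ i, i < 17465 → P i := stepQ 17464 Q17464 (allL N17464 (tt N13465 F58580) (tt N16474 F58581) (tt N13459 F58582) (tt N20508 (iv F68023)) (tt N13458 (iv D27784)) (tt N17090 F58583) (tt N13459 F58584))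
theorem Q17466 : ∀ i, i < 17466 → P i := stepQ 17465 Q17465 (allL N17465 (tt N13460 (iv D27785)) (tt N16578 F58585) (tt N16277 F58586) (tt N16472 F58587) (tt N18703 (iv F62389)) (tt N16333 F58588) (tt N16276 F58589))
theorem Q17467 : ∀ i, i < 17467 → P i := stepQ 17466 Q17466 (allL N17466 (tt N15633 F58590) (tt N13465 F58591) (tt N13477 F58592) (tt N19312 (iv F64010)) (tt N13464 (iv D27786)) (tt N20377 (iv F67570)) (tt N13474 F58593))
theorem Q17468 : ∀ i, i < 17468 → P i := stepQ 17467 Q17467 (allL N17467 (tt N16564 F58594) (tt N17418 F58595) (tt N15685 F58596) (tt N14125 F58597) (tt N15684 F58598) (tt N14123 F58599) (tt N13468 (iv D27787)))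
theorem Q17469 : ∀ i, i < 17469 → P i := stepQ 17468 Q17468 (allL N17468 (tt N13474 F58600) (tt N16479 F58601) (tt N15634 F58602) (tt N19786 (iv F65569)) (tt N13472 (iv D27788)) (tt N18564 (iv F62007)) (tt N15633 F58603))
theorem Q17470 : ∀ i, i < 17470 → P i := stepQ 17469 Q17469 (allL N17469 (tt N15631 F58604) (tt N13490 F58605) (tt N20377 (iv F67568)) (tt N15630 F58606) (tt N13478 F58607) (tt N13477 (iv D27789)) (tt N14875 F58608))
theorem Q17471 : ∀ i, i < 17471 → P i := stepQ 17470 Q17470 (allL N17470 (tt N17447 F58609) (tt N14892 F58610) (tt N15564 F58611) (tt N13481 F58612) (tt N15567 F58613) (tt N16508 F58614) (tt N13479 (iv D27790)))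
theorem Q17472 : ∀ i, i < 17472 → P i := stepQ 17471 Q17471 (allL N17471 (tt N16749 F58615) (tt N15848 F58616) (tt N13483 (iv D27791)) (tt N16448 F58617) (tt N15819 F58618) (tt N15813 F58619) (tt N19493 (iv F64631)))
theorem Q17473 : ∀ i, i < 17473 → P i := stepQ 17472 Q17472 (allL N17472 (tt N17445 F58620) (tt N17475 (iv F58631)) (tt N19493 (iv F64627)) (tt N17415 F58621) (tt N19495 (iv F64637)) (tt N16388 F58622) (tt N13483 (iv D27792)))
theorem Q17474 : ∀ i, i < 17474 → P i := stepQ 17473 Q17473 (allL N17473 (tt N13486 (iv D27793)) (tt N16330 F58623) (tt N19925 (iv F66036)) (tt N16543 F58624) (tt N20535 (iv F68107)) (tt N17473 F58625) (tt N16541 (iv F58626)))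
theorem Q17475 : ∀ i, i < 17475 → P i := stepQ 17474 Q17474 (allL N17474 (tt N19925 (iv F66035)) (tt N14935 F58627) (tt N13486 (iv D27794)) (tt N14937 F58629) (tt N20536 (iv F68111)) (tt N17474 F58628) (tt N20592 D30945))
theorem Q17476 : ∀ i, i < 17476 → P i := stepQ 17475 Q17475 (allL N17475 (tt N16541 F58630) (tt N17472 F58631) (tt N20592 (iv F68312)) (tt N16540 F58632) (tt N20537 (iv F68116)) (tt N16541 F58633) (tt N13486 (iv D27795)))
theorem Q17477 : ∀ i, i < 17477 → P i := stepQ 17476 Q17476 (allL N17476 (tt N13487 (iv D27796)) (tt N17493 (iv F58697)) (tt N19302 (iv F63965)) (tt N14930 F58634) (tt N19305 (iv F63982)) (tt N16866 F58635) (tt N18598 (iv F62127)))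
theorem Q17478 : ∀ i, i < 17478 → P i := stepQ 17477 Q17477 (allL N17477 (tt N16866 F58636) (tt N17857 (iv F59831)) (tt N19303 (iv F63971)) (tt N14981 F58637) (tt N19306 (iv F63988)) (tt N13487 (iv D27797)) (tt N14979 F58638))
theorem Q17479 : ∀ i, i < 17479 → P i := stepQ 17478 Q17478 (allL N17478 (tt N13490 F58639) (tt N20593 D30946) (tt N16739 F58640) (tt N17856 (iv F59828)) (tt N13489 F58641) (tt N13488 (iv D27798)) (tt N14940 F58642))
theorem Q17480 : ∀ i, i < 17480 → P i := stepQ 17479 Q17479 (allL N17479 (tt N17829 (iv F59721)) (tt N13489 (iv D27799)) (tt N17454 F58643) (tt N16679 F58644) (tt N20593 (iv F68316)) (tt N17857 (iv F59832)) (tt N20594 D30947))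
theorem Q17481 : ∀ i, i < 17481 → P i := stepQ 17480 Q17480 (allL N17480 (tt N13505 F58645) (tt N19924 (iv F66031)) (tt N13503 (iv D27800)) (tt N13504 F58646) (tt N20595 D30948) (tt N13503 (iv F58648)) (tt N14911 F58647))
theorem Q17482 : ∀ i, i < 17482 → P i := stepQ 17481 Q17481 (allL N17481 (tt N13506 F58649) (tt N14388 F58650) (tt N20595 (iv F68323)) (tt N14389 F58651) (tt N13503 (iv D27801)) (tt N20595 (iv F68325)) (tt N17877 (iv F59898)))
theorem Q17483 : ∀ i, i < 17483 → P i := stepQ 17482 Q17482 (allL N17482 (tt N20595 (iv F68322)) (tt N16964 F58652) (tt N13506 F58653) (tt N16534 F58654) (tt N13505 (iv D27802)) (tt N13506 F58655) (tt N16965 F58656))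
theorem Q17484 : ∀ i, i < 17484 → P i := stepQ 17483 Q17483 (allL N17483 (tt N17877 (iv F59895)) (tt N13518 F58657) (tt N16965 F58658) (tt N16535 F58659) (tt N13507 F58660) (tt N18583 (iv F62069)) (tt N13506 (iv D27803)))
theorem Q17485 : ∀ i, i < 17485 → P i := stepQ 17484 Q17484 (allL N17484 (tt N13511 F58661) (tt N17451 F58662) (tt N16230 F58663) (tt N13509 (iv D27804)) (tt N20596 D30949) (tt N18606 (iv F62159)) (tt N16232 F58664))
theorem Q17486 : ∀ i, i < 17486 → P i := stepQ 17485 Q17485 (allL N17485 (tt N20596 (iv F68327)) (tt N13514 F58665) (tt N19899 (iv F65945)) (tt N17927 (iv F60091)) (tt N13511 (iv D27805)) (tt N19901 (iv F65952)) (tt N20084 (iv F66572)))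
theorem Q17487 : ∀ i, i < 17487 → P i := stepQ 17486 Q17486 (allL N17486 (tt N14965 F58670) (tt N13515 (iv D27806)) (tt N13559 F58666) (tt N14753 F58667) (tt N13517 F58668) (tt N13558 F58669) (tt N14752 F58671))
theorem Q17488 : ∀ i, i < 17488 → P i := stepQ 17487 Q17487 (allL N17487 (tt N20017 (iv F66386)) (tt N13519 (iv D27807)) (tt N14841 F58672) (tt N14842 F58673) (tt N13520 F58674) (tt N16525 F58675) (tt N14841 F58676))
theorem Q17489 : ∀ i, i < 17489 → P i := stepQ 17488 Q17488 (allL N17488 (tt N13520 (iv D27808)) (tt N14016 F58677) (tt N18584 (iv F62071)) (tt N16740 F58678) (tt N20017 (iv F66390)) (tt N14008 F58679) (tt N18584 (iv F62074)))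
theorem Q17490 : ∀ i, i < 17490 → P i := stepQ 17489 Q17489 (allL N17489 (tt N13529 F58680) (tt N19985 (iv F66266)) (tt N13527 (iv D27809)) (tt N13528 F58681) (tt N20597 D30950) (tt N14958 F58682) (tt N13527 (iv F58683)))
theorem Q17491 : ∀ i, i < 17491 → P i := stepQ 17490 Q17490 (allL N17490 (tt N13530 F58684) (tt N14333 F58685) (tt N20597 (iv F68332)) (tt N14334 F58686) (tt N13527 (iv D27810)) (tt N17865 (iv F59857)) (tt N20597 (iv F68335)))
theorem Q17492 : ∀ i, i < 17492 → P i := stepQ 17491 Q17491 (allL N17491 (tt N20597 (iv F68331)) (tt N16949 F58687) (tt N13530 F58688) (tt N16570 F58689) (tt N13529 (iv D27811)) (tt N16950 F58690) (tt N13530 F58691))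
theorem Q17493 : ∀ i, i < 17493 → P i := stepQ 17492 Q17492 (allL N17492 (tt N17865 (iv F59855)) (tt N13542 F58692) (tt N16950 F58693) (tt N16569 F58694) (tt N13531 F58695) (tt N13530 (iv D27812)) (tt N18594 (iv F62111)))
theorem Q17494 : ∀ i, i < 17494 → P i := stepQ 17493 Q17493 (allL N17493 (tt N13535 F58696) (tt N17476 F58697) (tt N16259 F58698) (tt N13533 (iv D27813)) (tt N20598 D30951) (tt N16261 F58699) (tt N18610 (iv F62172)))
theorem Q17495 : ∀ i, i < 17495 → P i := stepQ 17494 Q17494 (allL N17494 (tt N20598 (iv F68336)) (tt N13538 F58700) (tt N19912 (iv F65992)) (tt N17930 (iv F60103)) (tt N13535 (iv D27814)) (tt N20092 (iv F66605)) (tt N19914 (iv F65999)))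
theorem Q17496 : ∀ i, i < 17496 → P i := stepQ 17495 Q17495 (allL N17495 (tt N14917 F58705) (tt N13540 (iv D27815)) (tt N13585 F58701) (tt N14774 F58702) (tt N13541 F58703) (tt N14773 (iv F58706)) (tt N13584 F58704))
theorem Q17497 : ∀ i, i < 17497 → P i := stepQ 17496 Q17496 (allL N17496 (tt N19980 (iv F66245)) (tt N13543 (iv D27816)) (tt N14813 F58707) (tt N14814 F58708) (tt N13544 F58709) (tt N14813 F58710) (tt N16418 F58711))
theorem Q17498 : ∀ i, i < 17498 → P i := stepQ 17497 Q17497 (allL N17497 (tt N13544 (iv D27817)) (tt N13998 F58712) (tt N18595 (iv F62113)) (tt N16742 F58713) (tt N19980 (iv F66249)) (tt N18595 (iv F62116)) (tt N13989 F58714))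
theorem Q17499 : ∀ i, i < 17499 → P i := stepQ 17498 Q17498 (allL N17498 (tt N17498 F58715) (tt N13556 (iv D27818)) (tt N17507 (iv F58753)) (tt N16845 F58716) (tt N18585 (iv F62078)) (tt N17507 (iv F58755)) (tt N14995 F58717))
theorem Q17500 : ∀ i, i < 17500 → P i := stepQ 17499 Q17499 (allL N17499 (tt N17873 (iv F59879)) (tt N13569 (iv D27819)) (tt N18587 (iv F62087)) (tt N17858 F59835) (tt N14966 F58718) (tt N14017 F58719) (tt N14936 F58720))
theorem Q17501 : ∀ i, i < 17501 → P i := stepQ 17500 Q17500 (allL N17500 (tt N13574 F58721) (tt N17858 (iv F59833)) (tt N14072 F58722) (tt N13569 (iv D27820)) (tt N15917 F58723) (tt N14789 F58724) (tt N15915 F58725))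
theorem Q17502 : ∀ i, i < 17502 → P i := stepQ 17501 Q17501 (allL N17501 (tt N15915 F58726) (tt N20209 (iv F67035)) (tt N16529 F58727) (tt N13575 F58728) (tt N15911 F58729) (tt N15910 F58730) (tt N13574 (iv D27821)))
theorem Q17503 : ∀ i, i < 17503 → P i := stepQ 17502 Q17502 (allL N17502 (tt N17502 F58731) (tt N13575 (iv D27822)) (tt N17503 (iv F58735)) (tt N20209 (iv F67036)) (tt N14968 F58732) (tt N16849 F58733) (tt N17503 (iv F58738)))
theorem Q17504 : ∀ i, i < 17504 → P i := stepQ 17503 Q17503 (allL N17503 (tt N17503 F58734) (tt N13583 (iv D27823)) (tt N17502 F58735) (tt N16847 F58736) (tt N18596 (iv F62120)) (tt N14947 F58737) (tt N17502 F58738))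
theorem Q17505 : ∀ i, i < 17505 → P i := stepQ 17504 Q17504 (allL N17504 (tt N17861 (iv F59839)) (tt N13591 (iv D27824)) (tt N18586 (iv F62083)) (tt N17870 F59875) (tt N14918 F58739) (tt N14985 F58740) (tt N13997 F58741))
theorem Q17506 : ∀ i, i < 17506 → P i := stepQ 17505 Q17505 (allL N17505 (tt N13595 F58742) (tt N17870 (iv F59873)) (tt N14123 F58743) (tt N13591 (iv D27825)) (tt N15687 F58744) (tt N15685 F58745) (tt N14824 F58746))
theorem Q17507 : ∀ i, i < 17507 → P i := stepQ 17506 Q17506 (allL N17506 (tt N15685 F58747) (tt N20207 (iv F67026)) (tt N16564 F58748) (tt N13596 F58749) (tt N15681 F58750) (tt N13595 (iv D27826)) (tt N15680 F58751))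
theorem Q17508 : ∀ i, i < 17508 → P i := stepQ 17507 Q17507 (allL N17507 (tt N17507 F58752) (tt N13596 (iv D27827)) (tt N17498 F58753) (tt N20207 (iv F67027)) (tt N14920 F58754) (tt N17498 F58755) (tt N16851 F58756))
theorem Q17509 : ∀ i, i < 17509 → P i := stepQ 17508 Q17508 (allL N17508 (tt N13598 F58757) (tt N17940 F60144) (tt N13597 (iv D27828)) (tt N16002 F58760) (tt N13607 F58758) (tt N20599 D30952) (tt N17508 F58759))
theorem Q17510 : ∀ i, i < 17510 → P i := stepQ 17509 Q17509 (allL N17509 (tt N13599 F58761) (tt N17513 (iv F58777)) (tt N20599 (iv F68341)) (tt N16309 F58762) (tt N13608 F58763) (tt N13597 (iv D27829)) (tt N13599 F58764))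
theorem Q17511 : ∀ i, i < 17511 → P i := stepQ 17510 Q17510 (allL N17510 (tt N16002 F58765) (tt N13635 F58766) (tt N16001 F58767) (tt N13598 (iv D27830)) (tt N17431 F58768) (tt N20600 D30953) (tt N17510 F58769))
theorem Q17512 : ∀ i, i < 17512 → P i := stepQ 17511 Q17511 (allL N17511 (tt N20599 (iv F68340)) (tt N18468 (iv F61662)) (tt N13599 F58770) (tt N20600 (iv F68349)) (tt N13610 F58771) (tt N13598 (iv D27831)) (tt N20599 (iv F68344)))
theorem Q17513 : ∀ i, i < 17513 → P i := stepQ 17512 Q17512 (allL N17512 (tt N13601 F58772) (tt N17950 F60186) (tt N13600 (iv D27832)) (tt N16078 F58775) (tt N13611 F58773) (tt N17512 F58774) (tt N20601 D30954))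
theorem Q17514 : ∀ i, i < 17514 → P i := stepQ 17513 Q17513 (allL N17513 (tt N13602 F58776) (tt N17509 F58777) (tt N20601 (iv F68353)) (tt N16458 F58778) (tt N13612 F58779) (tt N13602 F58780) (tt N13600 (iv D27833)))
theorem Q17515 : ∀ i, i < 17515 → P i := stepQ 17514 Q17514 (allL N17514 (tt N16078 F58781) (tt N13644 F58782) (tt N16077 F58783) (tt N13601 (iv D27834)) (tt N17459 F58784) (tt N17514 F58785) (tt N20602 D30955))
theorem Q17516 : ∀ i, i < 17516 → P i := stepQ 17515 Q17515 (allL N17515 (tt N20601 (iv F68352)) (tt N18410 (iv F61515)) (tt N13602 F58786) (tt N20602 (iv F68361)) (tt N13614 F58787) (tt N20601 (iv F68356)) (tt N13601 (iv D27835)))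
theorem Q17517 : ∀ i, i < 17517 → P i := stepQ 17516 Q17516 (allL N17516 (tt N13610 F58788) (tt N16497 F58791) (tt N13608 F58789) (tt N17941 (iv F60147)) (tt N20599 (iv F68343)) (tt N13607 (iv D27836)) (tt N13610 F58790))
theorem Q17518 : ∀ i, i < 17518 → P i := stepQ 17517 Q17517 (allL N17517 (tt N17941 (iv F60145)) (tt N18555 (iv F61976)) (tt N16660 F58792) (tt N13610 F58793) (tt N20087 (iv F66583)) (tt N13609 (iv D27837)) (tt N17941 (iv F60149)))
theorem Q17519 : ∀ i, i < 17519 → P i := stepQ 17518 Q17518 (allL N17518 (tt N13614 F58794) (tt N16357 (iv F58797)) (tt N13612 F58795) (tt N17951 (iv F60189)) (tt N20601 (iv F68355)) (tt N13614 F58796) (tt N13611 (iv D27838)))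
theorem Q17520 : ∀ i, i < 17520 → P i := stepQ 17519 Q17519 (allL N17519 (tt N17951 (iv F60187)) (tt N18548 (iv F61955)) (tt N16678 F58798) (tt N13614 F58799) (tt N20095 (iv F66616)) (tt N17951 (iv F60191)) (tt N13613 (iv D27839)))
theorem Q17521 : ∀ i, i < 17521 → P i := stepQ 17520 Q17520 (allL N17520 (tt N13721 F58800) (tt N14195 F58801) (tt N18236 (iv F60959)) (tt N13615 (iv D27840)) (tt N17019 F58802) (tt N13617 F58803) (tt N20328 (iv F67386)))
theorem Q17522 : ∀ i, i < 17522 → P i := stepQ 17521 Q17521 (allL N17521 (tt N13746 F58804) (tt N14197 F58805) (tt N18295 (iv F61128)) (tt N13616 (iv D27841)) (tt N17111 F58806) (tt N20397 (iv F67649)) (tt N13619 F58807))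
theorem Q17523 : ∀ i, i < 17523 → P i := stepQ 17522 Q17522 (allL N17522 (tt N14442 F58808) (tt N18666 (iv F62318)) (tt N13617 (iv D27842)) (tt N17562 (iv F58948)) (tt N14441 F58809) (tt N18236 (iv F60961)) (tt N20603 D30956))
theorem Q17524 : ∀ i, i < 17524 → P i := stepQ 17523 Q17523 (allL N17523 (tt N17031 F58810) (tt N15766 (iv F58813)) (tt N20603 (iv F68365)) (tt N13618 F58811) (tt N17020 F58812) (tt N17563 (iv F58951)) (tt N13617 (iv D27843)))
theorem Q17525 : ∀ i, i < 17525 → P i := stepQ 17524 Q17524 (allL N17524 (tt N14491 F58814) (tt N18671 (iv F62327)) (tt N13619 (iv D27844)) (tt N17590 (iv F59019)) (tt N14490 F58815) (tt N20604 D30957) (tt N18295 (iv F61130)))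
theorem Q17526 : ∀ i, i < 17526 → P i := stepQ 17525 Q17525 (allL N17525 (tt N17121 F58816) (tt N15991 (iv F58819)) (tt N20604 (iv F68368)) (tt N13620 F58817) (tt N17110 F58818) (tt N13619 (iv D27845)) (tt N17591 (iv F59022)))
theorem Q17527 : ∀ i, i < 17527 → P i := stepQ 17526 Q17526 (allL N17526 (tt N13859 F58820) (tt N13739 F58821) (tt N19381 (iv F64220)) (tt N13631 F58822) (tt N13938 F58823) (tt N13621 (iv D27846)) (tt N13733 F58824))
theorem Q17528 : ∀ i, i < 17528 → P i := stepQ 17527 Q17527 (allL N17527 (tt N13623 F58825) (tt N20605 D30958) (tt N13622 (iv D27847)) (tt N20432 (iv F67779)) (tt N14100 F58826) (tt N16278 F58827) (tt N13858 F58828))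
theorem Q17529 : ∀ i, i < 17529 → P i := stepQ 17528 Q17528 (allL N17528 (tt N20432 (iv F67777)) (tt N14207 F58829) (tt N20431 (iv F67776)) (tt N13623 (iv D27848)) (tt N19600 (iv F65007)) (tt N20410 (iv F67696)) (tt N19382 (iv F64227)))
theorem Q17530 : ∀ i, i < 17530 → P i := stepQ 17529 Q17529 (allL N17529 (tt N16278 F58830) (tt N17746 (iv F59475)) (tt N13624 F58831) (tt N20410 (iv F67694)) (tt N14699 F58832) (tt N13623 (iv D27849)) (tt N17727 (iv F59408)))
theorem Q17531 : ∀ i, i < 17531 → P i := stepQ 17530 Q17530 (allL N17530 (tt N13810 F58833) (tt N13764 F58834) (tt N19596 (iv F64986)) (tt N13640 F58835) (tt N13962 F58836) (tt N13758 F58837) (tt N13625 (iv D27850)))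
theorem Q17532 : ∀ i, i < 17532 → P i := stepQ 17531 Q17531 (allL N17531 (tt N13627 F58838) (tt N20606 D30959) (tt N13626 (iv D27851)) (tt N20491 (iv F67964)) (tt N14043 F58839) (tt N13809 F58840) (tt N16433 F58841))
theorem Q17533 : ∀ i, i < 17533 → P i := stepQ 17532 Q17532 (allL N17532 (tt N20491 (iv F67962)) (tt N14208 F58842) (tt N20490 (iv F67961)) (tt N13627 (iv D27852)) (tt N19386 (iv F64243)) (tt N19389 (iv F64257)) (tt N20352 (iv F67493)))
theorem Q17534 : ∀ i, i < 17534 → P i := stepQ 17533 Q17533 (allL N17533 (tt N16433 F58843) (tt N17677 (iv F59260)) (tt N13628 F58844) (tt N20352 (iv F67491)) (tt N14700 F58845) (tt N17658 (iv F59195)) (tt N13627 (iv D27853)))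
theorem Q17535 : ∀ i, i < 17535 → P i := stepQ 17534 Q17534 (allL N17534 (tt N17537 (iv F58856)) (tt N20607 D30960) (tt N13631 F58846) (tt N19922 (iv F66024)) (tt N13683 F58847) (tt N13630 (iv D27854)) (tt N17535 (iv F58851)))
theorem Q17536 : ∀ i, i < 17536 → P i := stepQ 17535 Q17535 (allL N17535 (tt N13636 F58848) (tt N20608 D30961) (tt N13634 F58849) (tt N20088 (iv F66587)) (tt N13695 F58850) (tt N13633 (iv D27855)) (tt N17534 F58851))
theorem Q17537 : ∀ i, i < 17537 → P i := stepQ 17536 Q17536 (allL N17536 (tt N20088 (iv F66585)) (tt N16955 (iv F58855)) (tt N17192 F58852) (tt N13636 F58853) (tt N17395 F58854) (tt N13635 (iv D27856)) (tt N20609 D30962))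
theorem Q17538 : ∀ i, i < 17538 → P i := stepQ 17537 Q17537 (allL N17537 (tt N17534 F58856) (tt N18179 (iv F60811)) (tt N13637 F58857) (tt N20609 (iv F68392)) (tt N13697 F58858) (tt N14381 F58859) (tt N13636 (iv D27857)))
theorem Q17539 : ∀ i, i < 17539 → P i := stepQ 17538 Q17538 (allL N17538 (tt N17541 (iv F58870)) (tt N20610 D30963) (tt N13640 F58860) (tt N19983 (iv F66259)) (tt N13692 F58861) (tt N17539 (iv F58865)) (tt N13639 (iv D27858)))
theorem Q17540 : ∀ i, i < 17540 → P i := stepQ 17539 Q17539 (allL N17539 (tt N13645 F58862) (tt N20611 D30964) (tt N13643 F58863) (tt N20096 (iv F66620)) (tt N13698 F58864) (tt N17538 F58865) (tt N13642 (iv D27859)))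
theorem Q17541 : ∀ i, i < 17541 → P i := stepQ 17540 Q17540 (allL N17540 (tt N20096 (iv F66618)) (tt N16940 (iv F58869)) (tt N17268 F58866) (tt N13645 F58867) (tt N17391 F58868) (tt N20612 D30965) (tt N13644 (iv D27860)))
theorem Q17542 : ∀ i, i < 17542 → P i := stepQ 17541 Q17541 (allL N17541 (tt N17538 F58870) (tt N18127 (iv F60655)) (tt N13646 F58871) (tt N20612 (iv F68405)) (tt N13700 F58872) (tt N13645 (iv D27861)) (tt N14326 F58873))
theorem Q17543 : ∀ i, i < 17543 → P i := stepQ 17542 Q17542 (allL N17542 (tt N13660 F58874) (tt N13647 (iv D27862)) (tt N19277 (iv F63870)) (tt N13652 F58875) (tt N13710 F58876) (tt N13737 F58877) (tt N13648 F58878))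
theorem Q17544 : ∀ i, i < 17544 → P i := stepQ 17543 Q17543 (allL N17543 (tt N13654 F58879) (tt N13649 (iv D27863)) (tt N19384 (iv F64234)) (tt N13657 F58880) (tt N13711 F58881) (tt N13650 F58882) (tt N13762 F58883))
theorem Q17545 : ∀ i, i < 17545 → P i := stepQ 17544 Q17544 (allL N17544 (tt N17610 (iv F59065)) (tt N19257 (iv F63801)) (tt N13652 (iv D27864)) (tt N20613 D30966) (tt N13709 F58884) (tt N17607 (iv F59062)) (tt N13653 F58885))
theorem Q17546 : ∀ i, i < 17546 → P i := stepQ 17545 Q17545 (allL N17545 (tt N19383 F64231) (tt N17545 F58886) (tt N20614 D30967) (tt N13653 (iv D27865)) (tt N17550 (iv F58904)) (tt N20615 D30968) (tt N20613 (iv F68408)))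
theorem Q17547 : ∀ i, i < 17547 → P i := stepQ 17546 Q17546 (allL N17546 (tt N19384 (iv F64232)) (tt N17761 F59517) (tt N13654 F58887) (tt N20615 (iv F68409)) (tt N13712 F58888) (tt N13653 (iv D27866)) (tt N13763 (iv F58889)))
theorem Q17548 : ∀ i, i < 17548 → P i := stepQ 17547 Q17547 (allL N17547 (tt N15918 F58890) (tt N16004 (iv F58895)) (tt N13656 F58891) (tt N14741 F58892) (tt N13713 F58893) (tt N14928 F58894) (tt N13655 (iv D27867)))
theorem Q17549 : ∀ i, i < 17549 → P i := stepQ 17548 Q17548 (allL N17548 (tt N13886 F58896) (tt N17553 (iv F58915)) (tt N14928 F58897) (tt N13839 F58898) (tt N13714 F58899) (tt N13656 (iv D27868)) (tt N13779 F58900))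
theorem Q17550 : ∀ i, i < 17550 → P i := stepQ 17549 Q17549 (allL N17549 (tt N17582 (iv F58994)) (tt N19490 (iv F64612)) (tt N13657 (iv D27869)) (tt N20616 D30969) (tt N13715 F58901) (tt N13659 F58902) (tt N17579 (iv F58991)))
theorem Q17551 : ∀ i, i < 17551 → P i := stepQ 17550 Q17550 (allL N17550 (tt N19597 F64992) (tt N17550 F58903) (tt N20617 D30970) (tt N13659 (iv D27870)) (tt N17545 F58904) (tt N20616 (iv F68412)) (tt N20618 D30971))
theorem Q17552 : ∀ i, i < 17552 → P i := stepQ 17551 Q17551 (allL N17551 (tt N19277 (iv F63869)) (tt N17693 F59307) (tt N13660 F58905) (tt N20618 (iv F68415)) (tt N13716 F58906) (tt N13738 (iv F58907)) (tt N13659 (iv D27871)))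
theorem Q17553 : ∀ i, i < 17553 → P i := stepQ 17552 Q17552 (allL N17552 (tt N15688 F58908) (tt N16080 (iv F58913)) (tt N13662 F58909) (tt N14762 F58910) (tt N13717 F58911) (tt N13661 (iv D27872)) (tt N14976 F58912))
theorem Q17554 : ∀ i, i < 17554 → P i := stepQ 17553 Q17553 (allL N17553 (tt N13837 F58914) (tt N17548 F58915) (tt N14976 F58916) (tt N13788 F58917) (tt N13718 F58918) (tt N13771 F58919) (tt N13662 (iv D27873)))
theorem Q17555 : ∀ i, i < 17555 → P i := stepQ 17554 Q17554 (allL N17554 (tt N14937 F58920) (tt N13673 F58921) (tt N13667 (iv D27874)) (tt N19925 (iv F66037)) (tt N13669 F58922) (tt N17554 F58923) (tt N18602 (iv F62139)))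
theorem Q17556 : ∀ i, i < 17556 → P i := stepQ 17555 Q17555 (allL N17555 (tt N14984 F58924) (tt N13676 F58925) (tt N13668 (iv D27875)) (tt N19986 (iv F66272)) (tt N13670 F58926) (tt N18608 (iv F62163)) (tt N17555 F58927))
theorem Q17557 : ∀ i, i < 17557 → P i := stepQ 17556 Q17556 (allL N17556 (tt N14130 F58928) (tt N13683 F58929) (tt N14129 F58930) (tt N13669 (iv D27876)) (tt N20607 (iv F68384)) (tt N17556 F58931) (tt N18604 (iv F62150)))
theorem Q17558 : ∀ i, i < 17558 → P i := stepQ 17557 Q17557 (allL N17557 (tt N14079 F58932) (tt N13692 F58933) (tt N14078 F58934) (tt N13670 (iv D27877)) (tt N20610 (iv F68397)) (tt N18609 (iv F62168)) (tt N17557 F58935))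
theorem Q17559 : ∀ i, i < 17559 → P i := stepQ 17558 Q17558 (allL N17558 (tt N17847 (iv F59794)) (tt N13695 (iv D27878)) (tt N13973 F58936) (tt N15007 F58937) (tt N20608 (iv F68387)) (tt N17846 (iv F59793)) (tt N15009 (iv F58938)))
theorem Q17560 : ∀ i, i < 17560 → P i := stepQ 17559 Q17559 (allL N17559 (tt N17837 (iv F59753)) (tt N13698 (iv D27879)) (tt N13952 F58939) (tt N15019 F58940) (tt N20611 (iv F68400)) (tt N15021 (iv F58941)) (tt N17836 F59752))
theorem Q17561 : ∀ i, i < 17561 → P i := stepQ 17560 Q17560 (allL N17560 (tt N18001 (iv F60321)) (tt N13719 (iv D27880)) (tt N14233 F58942) (tt N17564 (iv F58952)) (tt N18001 (iv F60324)) (tt N15034 F58943) (tt N20619 D30972))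
theorem Q17562 : ∀ i, i < 17562 → P i := stepQ 17561 Q17561 (allL N17561 (tt N18006 (iv F60330)) (tt N13720 (iv D27881)) (tt N14235 F58944) (tt N17592 (iv F59023)) (tt N18006 (iv F60333)) (tt N20620 D30973) (tt N15046 F58945))
theorem Q17563 : ∀ i, i < 17563 → P i := stepQ 17562 Q17562 (allL N17562 (tt N18236 (iv F60957)) (tt N20621 D30974) (tt N13721 (iv D27882)) (tt N17522 F58948) (tt N14443 F58946) (tt N14442 F58947) (tt N20622 D30975))
theorem Q17564 : ∀ i, i < 17564 → P i := stepQ 17563 Q17563 (allL N17563 (tt N20328 (iv F67382)) (tt N17650 (iv F59169)) (tt N20622 (iv F68435)) (tt N13722 F58949) (tt N17032 F58950) (tt N17523 F58951) (tt N13721 (iv D27883)))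
theorem Q17565 : ∀ i, i < 17565 → P i := stepQ 17564 Q17564 (allL N17564 (tt N19520 (iv F64717)) (tt N13723 (iv D27884)) (tt N20621 (iv F68431)) (tt N17560 F58952) (tt N20623 D30976) (tt N18617 (iv F62193)) (tt N19517 F64708))
theorem Q17566 : ∀ i, i < 17566 → P i := stepQ 17565 Q17565 (allL N17565 (tt N13726 F58953) (tt N20623 (iv F68441)) (tt N13724 F58954) (tt N20105 (iv F66655)) (tt N13723 (iv D27885)) (tt N13790 F58955) (tt N17643 (iv F59164)))
theorem Q17567 : ∀ i, i < 17567 → P i := stepQ 17566 Q17566 (allL N17566 (tt N18482 (iv F61711)) (tt N13726 F58956) (tt N14306 F58957) (tt N16528 F58958) (tt N13725 (iv D27886)) (tt N14306 F58959) (tt N20624 D30977))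
theorem Q17568 : ∀ i, i < 17568 → P i := stepQ 17567 Q17567 (allL N17567 (tt N18098 (iv F60568)) (tt N20625 D30978) (tt N14307 F58960) (tt N16913 F58961) (tt N20624 (iv F68447)) (tt N18094 (iv F60561)) (tt N13725 (iv D27887)))
theorem Q17569 : ∀ i, i < 17569 → P i := stepQ 17568 Q17568 (allL N17568 (tt N20105 (iv F66653)) (tt N16528 F58962) (tt N20103 (iv F66648)) (tt N13726 (iv D27888)) (tt N18021 (iv F60364)) (tt N13800 F58963) (tt N20626 D30979))
theorem Q17570 : ∀ i, i < 17570 → P i := stepQ 17569 Q17569 (allL N17569 (tt N17643 (iv F59161)) (tt N20627 D30980) (tt N13728 F58964) (tt N20626 (iv F68451)) (tt N13727 F58965) (tt N17629 (iv F59120)) (tt N13726 (iv D27889)))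
theorem Q17571 : ∀ i, i < 17571 → P i := stepQ 17570 Q17570 (allL N17570 (tt N20628 D30981) (tt N13727 (iv D27890)) (tt N20629 D30982) (tt N18738 (iv F62507)) (tt N20627 (iv F68452)) (tt N20630 D30983) (tt N20625 (iv F68450)))
theorem Q17572 : ∀ i, i < 17572 → P i := stepQ 17571 Q17571 (allL N17571 (tt N20191 F66964) (tt N13728 (iv D27891)) (tt N20631 D30984) (tt N13935 F58966) (tt N13729 F58967) (tt N20632 D30985) (tt N14312 F58968))
theorem Q17573 : ∀ i, i < 17573 → P i := stepQ 17572 Q17572 (allL N17572 (tt N13729 (iv D27892)) (tt N19423 (iv F64403)) (tt N20633 D30986) (tt N13730 F58969) (tt N20191 (iv F66961)) (tt N18111 (iv F60592)) (tt N14313 F58970))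
theorem Q17574 : ∀ i, i < 17574 → P i := stepQ 17573 Q17573 (allL N17573 (tt N20633 (iv F68462)) (tt N20629 (iv F68453)) (tt N13729 (iv D27893)) (tt N20631 (iv F68456)) (tt N20631 (iv F68454)) (tt N20634 D30987) (tt N14314 F58971))
theorem Q17575 : ∀ i, i < 17575 → P i := stepQ 17574 Q17574 (allL N17574 (tt N18111 (iv F60590)) (tt N17633 (iv F59123)) (tt N20634 (iv F68464)) (tt N13732 F58972) (tt N20632 (iv F68460)) (tt N13729 (iv D27894)) (tt N18109 (iv F60588)))
theorem Q17576 : ∀ i, i < 17576 → P i := stepQ 17575 Q17575 (allL N17575 (tt N13731 F58973) (tt N16725 F58974) (tt N13730 (iv D27895)) (tt N16677 (iv F58977)) (tt N13937 F58975) (tt N18113 (iv F60602)) (tt N14317 F58976))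
theorem Q17577 : ∀ i, i < 17577 → P i := stepQ 17576 Q17576 (allL N17576 (tt N13735 F58978) (tt N17862 F59849) (tt N16772 F58981) (tt N13734 (iv D27896)) (tt N16865 F58979) (tt N17588 (iv F59014)) (tt N13741 F58980))
theorem Q17578 : ∀ i, i < 17578 → P i := stepQ 17577 Q17577 (allL N17577 (tt N17588 (iv F59010)) (tt N18581 (iv F62060)) (tt N16629 F58982) (tt N13736 F58983) (tt N13974 F58984) (tt N13735 (iv D27897)) (tt N17586 (iv F59008)))
theorem Q17579 : ∀ i, i < 17579 → P i := stepQ 17578 Q17578 (allL N17578 (tt N14664 F58988) (tt N13736 (iv D27898)) (tt N14663 F58985) (tt N18581 (iv F62061)) (tt N13941 F58986) (tt N15671 F58987) (tt N19370 (iv F64181)))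
theorem Q17580 : ∀ i, i < 17580 → P i := stepQ 17579 Q17579 (allL N17579 (tt N13738 F58989) (tt N19254 F63793) (tt N13737 (iv D27899)) (tt N20635 D30988) (tt N13942 F58990) (tt N19277 (iv F63872)) (tt N17549 F58991))
theorem Q17581 : ∀ i, i < 17581 → P i := stepQ 17580 Q17580 (allL N17580 (tt N19987 (iv F66274)) (tt N13738 (iv D27900)) (tt N13740 F58992) (tt N20636 D30989) (tt N13943 F58993) (tt N20637 D30990) (tt N19669 (iv F65236)))
theorem Q17582 : ∀ i, i < 17582 → P i := stepQ 17581 Q17581 (allL N17581 (tt N20635 (iv F68465)) (tt N20636 (iv F68469)) (tt N20638 D30991) (tt N13738 (iv D27901)) (tt N20639 D30992) (tt N20618 F68417) (tt N20640 D30993))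
theorem Q17583 : ∀ i, i < 17583 → P i := stepQ 17582 Q17582 (allL N17582 (tt N17549 F58994) (tt N15921 F58998) (tt N13739 F58995) (tt N20640 (iv F68484)) (tt N13945 F58996) (tt N15924 (iv F58997)) (tt N13738 (iv D27902)))
theorem Q17584 : ∀ i, i < 17584 → P i := stepQ 17583 Q17583 (allL N17583 (tt N13740 (iv D27903)) (tt N20641 D30994) (tt N19987 F66276) (tt N19306 (iv F63987)) (tt N13946 F58999) (tt N17945 (iv F60162)) (tt N19929 (iv F66054)))
theorem Q17585 : ∀ i, i < 17585 → P i := stepQ 17584 Q17584 (allL N17584 (tt N19306 (iv F63985)) (tt N13741 F59000) (tt N15565 (iv F59001)) (tt N13740 (iv D27904)) (tt N16866 (iv F59002)) (tt N19305 (iv F63983)) (tt N19930 (iv F66058)))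
theorem Q17586 : ∀ i, i < 17586 → P i := stepQ 17585 Q17585 (allL N17585 (tt N17945 (iv F60159)) (tt N20642 D30995) (tt N20637 (iv F68474)) (tt N19305 F63984) (tt N13948 F59003) (tt N13740 (iv D27905)) (tt N20643 D30996))
theorem Q17587 : ∀ i, i < 17587 → P i := stepQ 17586 Q17586 (allL N17586 (tt N13743 F59004) (tt N19919 (iv F66013)) (tt N16771 F59005) (tt N13742 F59006) (tt N16867 F59007) (tt N13741 (iv D27906)) (tt N17577 F59008))
theorem Q17588 : ∀ i, i < 17588 → P i := stepQ 17587 Q17587 (allL N17587 (tt N20644 D30997) (tt N13742 (iv D27907)) (tt N20611 (iv F68399)) (tt N19919 F66015) (tt N13952 F59009) (tt N20642 (iv F68494)) (tt N20645 D30998))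
theorem Q17589 : ∀ i, i < 17589 → P i := stepQ 17588 Q17588 (allL N17588 (tt N17577 F59010) (tt N20646 D30999) (tt N13934 F59011) (tt N13744 F59012) (tt N13933 F59013) (tt N17576 F59014) (tt N13743 (iv D27908)))
theorem Q17590 : ∀ i, i < 17590 → P i := stepQ 17589 Q17589 (allL N17589 (tt N20647 D31000) (tt N13744 (iv D27909)) (tt N19592 (iv F64972)) (tt N20646 (iv F68511)) (tt N13958 F59015) (tt N18123 (iv F60636)) (tt N15689 F59016))
theorem Q17591 : ∀ i, i < 17591 → P i := stepQ 17590 Q17590 (allL N17590 (tt N18295 (iv F61126)) (tt N20648 D31001) (tt N13746 (iv D27910)) (tt N17524 F59019) (tt N14493 F59017) (tt N20649 D31002) (tt N14491 F59018))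
theorem Q17592 : ∀ i, i < 17592 → P i := stepQ 17591 Q17591 (allL N17591 (tt N20397 (iv F67645)) (tt N17720 (iv F59385)) (tt N20649 (iv F68525)) (tt N13747 F59020) (tt N17124 F59021) (tt N13746 (iv D27911)) (tt N17525 F59022))
theorem Q17593 : ∀ i, i < 17593 → P i := stepQ 17592 Q17592 (allL N17592 (tt N19291 (iv F63921)) (tt N13748 (iv D27912)) (tt N20648 (iv F68521)) (tt N17561 F59023) (tt N20650 D31003) (tt N19288 F63923) (tt N18632 (iv F62232)))
theorem Q17594 : ∀ i, i < 17594 → P i := stepQ 17593 Q17593 (allL N17593 (tt N13751 F59024) (tt N20650 (iv F68531)) (tt N13749 F59025) (tt N20113 (iv F66689)) (tt N13748 (iv D27913)) (tt N17715 (iv F59380)) (tt N13840 F59026))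
theorem Q17595 : ∀ i, i < 17595 → P i := stepQ 17594 Q17594 (allL N17594 (tt N18510 (iv F61820)) (tt N13751 F59027) (tt N14361 F59028) (tt N16563 F59029) (tt N13750 (iv D27914)) (tt N20651 D31004) (tt N14361 F59030))
theorem Q17596 : ∀ i, i < 17596 → P i := stepQ 17595 Q17595 (allL N17595 (tt N18152 (iv F60730)) (tt N20652 D31005) (tt N14362 F59031) (tt N16925 F59032) (tt N20651 (iv F68537)) (tt N13750 (iv D27915)) (tt N18148 (iv F60723)))
theorem Q17597 : ∀ i, i < 17597 → P i := stepQ 17596 Q17596 (allL N17596 (tt N20113 (iv F66687)) (tt N16563 F59033) (tt N20111 (iv F66682)) (tt N13751 (iv D27916)) (tt N18051 (iv F60445)) (tt N20653 D31006) (tt N13849 F59034))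
theorem Q17598 : ∀ i, i < 17598 → P i := stepQ 17597 Q17597 (allL N17597 (tt N17715 (iv F59377)) (tt N20654 D31007) (tt N13753 F59035) (tt N20653 (iv F68541)) (tt N13752 F59036) (tt N13751 (iv D27917)) (tt N17701 (iv F59336)))
theorem Q17599 : ∀ i, i < 17599 → P i := stepQ 17598 Q17598 (allL N17598 (tt N20655 D31008) (tt N13752 (iv D27918)) (tt N20656 D31009) (tt N18792 (iv F62597)) (tt N20654 (iv F68542)) (tt N20652 (iv F68540)) (tt N20657 D31010))
theorem Q17600 : ∀ i, i < 17600 → P i := stepQ 17599 Q17599 (allL N17599 (tt N20174 (iv F66908)) (tt N13753 (iv D27919)) (tt N20658 D31011) (tt N13959 F59037) (tt N13754 F59038) (tt N14367 F59039) (tt N20659 D31012))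
theorem Q17601 : ∀ i, i < 17601 → P i := stepQ 17600 Q17600 (allL N17600 (tt N13754 (iv D27920)) (tt N19625 (iv F65096)) (tt N20660 D31013) (tt N13755 F59040) (tt N20174 (iv F66905)) (tt N14368 F59041) (tt N18165 (iv F60754)))
theorem Q17602 : ∀ i, i < 17602 → P i := stepQ 17601 Q17601 (allL N17601 (tt N20660 (iv F68552)) (tt N20656 (iv F68543)) (tt N13754 (iv D27921)) (tt N20658 (iv F68546)) (tt N20658 (iv F68544)) (tt N14369 F59042) (tt N20661 D31014))
theorem Q17603 : ∀ i, i < 17603 → P i := stepQ 17602 Q17602 (allL N17602 (tt N18165 (iv F60752)) (tt N17705 (iv F59339)) (tt N20661 (iv F68554)) (tt N13757 F59043) (tt N20659 (iv F68550)) (tt N18163 (iv F60750)) (tt N13754 (iv D27922)))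
theorem Q17604 : ∀ i, i < 17604 → P i := stepQ 17603 Q17603 (allL N17603 (tt N13756 F59044) (tt N16719 F59045) (tt N13755 (iv D27923)) (tt N16659 (iv F59048)) (tt N13961 F59046) (tt N14372 F59047) (tt N18167 (iv F60764)))
theorem Q17605 : ∀ i, i < 17605 → P i := stepQ 17604 Q17604 (allL N17604 (tt N13760 F59049) (tt N17874 F59889) (tt N16777 F59050) (tt N13759 (iv D27924)) (tt N16856 F59051) (tt N13766 F59052) (tt N17616 (iv F59085)))
theorem Q17606 : ∀ i, i < 17606 → P i := stepQ 17605 Q17605 (allL N17605 (tt N17616 (iv F59081)) (tt N18568 (iv F62017)) (tt N16610 F59053) (tt N13761 F59054) (tt N13953 F59055) (tt N17614 (iv F59079)) (tt N13760 (iv D27925)))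
theorem Q17607 : ∀ i, i < 17607 → P i := stepQ 17606 Q17606 (allL N17606 (tt N14691 F59059) (tt N13761 (iv D27926)) (tt N14690 F59056) (tt N18568 (iv F62018)) (tt N13964 F59057) (tt N19585 (iv F64945)) (tt N15901 F59058))
theorem Q17608 : ∀ i, i < 17608 → P i := stepQ 17607 Q17607 (allL N17607 (tt N13763 F59060) (tt N19488 F64607) (tt N13762 (iv D27927)) (tt N20639 (iv F68481)) (tt N13944 F59061) (tt N17544 F59062) (tt N19384 (iv F64236)))
theorem Q17609 : ∀ i, i < 17609 → P i := stepQ 17608 Q17608 (allL N17608 (tt N19926 (iv F66039)) (tt N13763 (iv D27928)) (tt N13765 F59063) (tt N20662 D31015) (tt N13965 F59064) (tt N19763 (iv F65515)) (tt N20663 D31016))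
theorem Q17610 : ∀ i, i < 17610 → P i := stepQ 17609 Q17609 (allL N17609 (tt N20639 (iv F68479)) (tt N20662 (iv F68556)) (tt N20664 D31017) (tt N13763 (iv D27929)) (tt N20635 (iv F68467)) (tt N20665 D31018) (tt N20615 F68410))
theorem Q17611 : ∀ i, i < 17611 → P i := stepQ 17610 Q17610 (allL N17610 (tt N17544 F59065) (tt N15692 (iv F59069)) (tt N13764 F59066) (tt N20665 (iv F68567)) (tt N13966 F59067) (tt N13763 (iv D27930)) (tt N15696 F59068))
theorem Q17612 : ∀ i, i < 17612 → P i := stepQ 17611 Q17611 (allL N17611 (tt N13765 (iv D27931)) (tt N20666 D31019) (tt N19926 F66041) (tt N19535 (iv F64778)) (tt N13967 F59070) (tt N19989 (iv F66283)) (tt N17935 (iv F60120)))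
theorem Q17613 : ∀ i, i < 17613 → P i := stepQ 17612 Q17612 (allL N17612 (tt N19535 (iv F64776)) (tt N13766 F59071) (tt N15807 (iv F59072)) (tt N13765 (iv D27932)) (tt N16857 (iv F59073)) (tt N19990 (iv F66287)) (tt N19533 (iv F64771)))
theorem Q17614 : ∀ i, i < 17614 → P i := stepQ 17613 Q17613 (allL N17613 (tt N17935 (iv F60117)) (tt N20667 D31020) (tt N20663 (iv F68561)) (tt N19533 F64772) (tt N13969 F59074) (tt N20668 D31021) (tt N13765 (iv D27933)))
theorem Q17615 : ∀ i, i < 17615 → P i := stepQ 17614 Q17614 (allL N17614 (tt N13768 F59075) (tt N19906 (iv F65966)) (tt N16776 F59076) (tt N13767 F59077) (tt N16858 F59078) (tt N17605 F59079) (tt N13766 (iv D27934)))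
theorem Q17616 : ∀ i, i < 17616 → P i := stepQ 17615 Q17615 (allL N17615 (tt N20669 D31022) (tt N13767 (iv D27935)) (tt N20608 (iv F68386)) (tt N19906 F65968) (tt N13973 F59080) (tt N20670 D31023) (tt N20667 (iv F68577)))
theorem Q17617 : ∀ i, i < 17617 → P i := stepQ 17616 Q17616 (allL N17616 (tt N17605 F59081) (tt N20671 D31024) (tt N13931 F59082) (tt N13769 F59083) (tt N13930 F59084) (tt N13768 (iv D27936)) (tt N17604 F59085))
theorem Q17618 : ∀ i, i < 17618 → P i := stepQ 17617 Q17617 (allL N17617 (tt N20672 D31025) (tt N13769 (iv D27937)) (tt N19377 (iv F64208)) (tt N20671 (iv F68595)) (tt N13978 F59086) (tt N15919 F59087) (tt N18175 (iv F60792)))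
theorem Q17619 : ∀ i, i < 17619 → P i := stepQ 17618 Q17618 (allL N17618 (tt N14245 F59088) (tt N14221 F59089) (tt N18082 (iv F60526)) (tt N13772 (iv D27938)) (tt N17628 (iv F59116)) (tt N18616 (iv F62190)) (tt N19097 (iv F63351)))
theorem Q17620 : ∀ i, i < 17620 → P i := stepQ 17619 Q17619 (allL N17619 (tt N14400 F59090) (tt N16706 F59091) (tt N13774 (iv D27939)) (tt N17663 (iv F59213)) (tt N15336 F59092) (tt N14398 F59093) (tt N13778 F59094))
theorem Q17621 : ∀ i, i < 17621 → P i := stepQ 17620 Q17620 (allL N17620 (tt N18458 (iv F61646)) (tt N18141 (iv F60703)) (tt N20518 (iv F68061)) (tt N13775 (iv D27940)) (tt N20673 D31026) (tt N17744 (iv F59469)) (tt N14624 F59095))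
theorem Q17622 : ∀ i, i < 17622 → P i := stepQ 17621 Q17621 (allL N17621 (tt N18389 (iv F61474)) (tt N13778 (iv D27941)) (tt N17625 (iv F59105)) (tt N17199 F59096) (tt N18956 (iv F63008)) (tt N18386 (iv F61472)) (tt N18554 (iv F61974)))
theorem Q17623 : ∀ i, i < 17623 → P i := stepQ 17622 Q17622 (allL N17622 (tt N14265 F59097) (tt N14227 F59098) (tt N18136 (iv F60688)) (tt N13780 (iv D27942)) (tt N17700 (iv F59332)) (tt N18950 (iv F62996)) (tt N18631 (iv F62229)))
theorem Q17624 : ∀ i, i < 17624 → P i := stepQ 17623 Q17623 (allL N17623 (tt N14422 F59099) (tt N16697 F59100) (tt N13782 (iv D27943)) (tt N17732 (iv F59426)) (tt N15326 F59101) (tt N13786 F59102) (tt N14420 F59103))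
theorem Q17625 : ∀ i, i < 17625 → P i := stepQ 17624 Q17624 (allL N17624 (tt N18396 (iv F61491)) (tt N18085 F60535) (tt N20459 (iv F67870)) (tt N13783 (iv D27944)) (tt N20674 D31027) (tt N14574 F59104) (tt N17675 (iv F59253)))
theorem Q17626 : ∀ i, i < 17626 → P i := stepQ 17625 Q17625 (allL N17625 (tt N18451 (iv F61626)) (tt N13786 (iv D27945)) (tt N17621 F59105) (tt N17275 F59106) (tt N19096 (iv F63348)) (tt N18547 (iv F61952)) (tt N18448 (iv F61622)))
theorem Q17627 : ∀ i, i < 17627 → P i := stepQ 17626 Q17626 (allL N17626 (tt N13787 (iv D27946)) (tt N15713 F59107) (tt N17627 (iv F59113)) (tt N20429 (iv F67765)) (tt N14025 F59108) (tt N14452 F59110) (tt N15717 F59109))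
theorem Q17628 : ∀ i, i < 17628 → P i := stepQ 17627 Q17627 (allL N17627 (tt N14452 F59111) (tt N14476 F59112) (tt N17626 F59113) (tt N20430 (iv F67771)) (tt N14026 F59114) (tt N13787 (iv D27947)) (tt N18360 (iv F61337)))
theorem Q17629 : ∀ i, i < 17629 → P i := stepQ 17628 Q17628 (allL N17628 (tt N13800 F59115) (tt N17984 (iv F60278)) (tt N17880 (iv F59909)) (tt N13790 (iv D27948)) (tt N17618 F59116) (tt N20105 (iv F66656)) (tt N20675 D31028))
theorem Q17630 : ∀ i, i < 17630 → P i := stepQ 17629 Q17629 (allL N17629 (tt N13801 F59117) (tt N20676 D31029) (tt N13792 F59118) (tt N20675 (iv F68615)) (tt N13791 F59119) (tt N17569 F59120) (tt N13790 (iv D27949)))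
theorem Q17631 : ∀ i, i < 17631 → P i := stepQ 17630 Q17630 (allL N17630 (tt N18436 (iv F61585)) (tt N13791 (iv D27950)) (tt N18435 (iv F61583)) (tt N16732 F59121) (tt N20676 (iv F68620)) (tt N20677 D31030) (tt N18677 (iv F62341)))
theorem Q17632 : ∀ i, i < 17632 → P i := stepQ 17631 Q17631 (allL N17631 (tt N13793 (iv D27951)) (tt N19237 F63735) (tt N20408 (iv F67684)) (tt N13794 F59122) (tt N20356 (iv F67506)) (tt N20678 D31031) (tt N20348 (iv F67471)))
theorem Q17633 : ∀ i, i < 17633 → P i := stepQ 17632 Q17632 (allL N17632 (tt N20408 (iv F67683)) (tt N18435 F61584) (tt N13793 (iv D27952)) (tt N17709 (iv F59360)) (tt N20357 (iv F67511)) (tt N17705 F59357) (tt N20349 (iv F67478)))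
theorem Q17634 : ∀ i, i < 17634 → P i := stepQ 17633 Q17633 (allL N17633 (tt N20678 (iv F68623)) (tt N17574 F59123) (tt N17705 (iv F59356)) (tt N13796 F59124) (tt N20358 (iv F67514)) (tt N13793 (iv D27953)) (tt N17704 F59355))
theorem Q17635 : ∀ i, i < 17635 → P i := stepQ 17634 Q17634 (allL N17634 (tt N13795 F59125) (tt N14565 F59126) (tt N13794 (iv D27954)) (tt N19745 (iv F65448)) (tt N14028 F59127) (tt N17398 (iv F59129)) (tt N14561 F59128))
theorem Q17636 : ∀ i, i < 17636 → P i := stepQ 17635 Q17635 (allL N17635 (tt N13796 F59130) (tt N14584 F59131) (tt N17398 F59132) (tt N20678 (iv F68625)) (tt N14029 F59133) (tt N13794 (iv D27955)) (tt N17402 F59134))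
theorem Q17637 : ∀ i, i < 17637 → P i := stepQ 17636 Q17636 (allL N17636 (tt N19745 (iv F65447)) (tt N13798 F59135) (tt N17130 F59136) (tt N13795 (iv D27956)) (tt N17132 (iv F59137)) (tt N19364 (iv F64164)) (tt N19750 (iv F65468)))
theorem Q17638 : ∀ i, i < 17638 → P i := stepQ 17637 Q17637 (allL N17637 (tt N17402 F59143) (tt N14562 (iv F59147)) (tt N17401 F59144) (tt N17704 (iv F59354)) (tt N14030 F59145) (tt N17404 F59146) (tt N13796 (iv D27957)))
theorem Q17639 : ∀ i, i < 17639 → P i := stepQ 17638 Q17638 (allL N17638 (tt N17340 F59148) (tt N17132 F59149) (tt N14488 F59150) (tt N14032 F59151) (tt N13798 (iv D27958)) (tt N14499 (iv F59152)) (tt N18246 (iv F60984)))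
theorem Q17640 : ∀ i, i < 17640 → P i := stepQ 17639 Q17639 (allL N17639 (tt N18234 (iv F60952)) (tt N18494 F61746) (tt N14497 F59153) (tt N13799 F59154) (tt N14499 F59155) (tt N13798 (iv D27959)) (tt N14451 F59156))
theorem Q17641 : ∀ i, i < 17641 → P i := stepQ 17640 Q17640 (allL N17640 (tt N17880 (iv F59908)) (tt N14542 F59157) (tt N13800 (iv D27960)) (tt N17878 (iv F59902)) (tt N18020 (iv F60361)) (tt N20103 (iv F66647)) (tt N20679 D31032))
theorem Q17642 : ∀ i, i < 17642 → P i := stepQ 17641 Q17641 (allL N17641 (tt N20675 (iv F68614)) (tt N20680 D31033) (tt N20679 (iv F68628)) (tt N13801 F59158) (tt N18022 (iv F60366)) (tt N20681 D31034) (tt N13800 (iv D27961)))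
theorem Q17643 : ∀ i, i < 17643 → P i := stepQ 17642 Q17642 (allL N17642 (tt N20682 D31035) (tt N13801 (iv D27962)) (tt N19728 (iv F65397)) (tt N20680 (iv F68631)) (tt N13802 F59159) (tt N20683 D31036) (tt N14460 F59160))
theorem Q17644 : ∀ i, i < 17644 → P i := stepQ 17643 Q17643 (allL N17643 (tt N17569 F59161) (tt N20684 D31037) (tt N13804 F59162) (tt N20681 (iv F68635)) (tt N13803 F59163) (tt N13801 (iv D27963)) (tt N17565 F59164))
theorem Q17645 : ∀ i, i < 17645 → P i := stepQ 17644 Q17644 (allL N17644 (tt N13802 (iv D27964)) (tt N16019 (iv F61043)) (tt N17665 F61041) (tt N18739 (iv F62508)) (tt N20682 (iv F68639)) (tt N18268 (iv F61051)) (tt N14462 F59165))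
theorem Q17646 : ∀ i, i < 17646 → P i := stepQ 17645 Q17645 (allL N17645 (tt N18268 (iv F61050)) (tt N17922 (iv F61369)) (tt N19731 (iv F65407)) (tt N18740 (iv F62511)) (tt N20683 (iv F68642)) (tt N13802 (iv D27965)) (tt N18265 (iv F61037)))
theorem Q17647 : ∀ i, i < 17647 → P i := stepQ 17646 Q17646 (allL N17646 (tt N20685 D31038) (tt N13803 (iv D27966)) (tt N17910 (iv F61367)) (tt N18741 (iv F62512)) (tt N20684 (iv F68644)) (tt N17922 F61368) (tt N20686 D31039))
theorem Q17648 : ∀ i, i < 17648 → P i := stepQ 17647 Q17647 (allL N17647 (tt N20338 (iv F67430)) (tt N13804 (iv D27967)) (tt N20401 (iv F67663)) (tt N14037 F59166) (tt N13805 F59167) (tt N19734 (iv F65416)) (tt N20329 (iv F67389)))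
theorem Q17649 : ∀ i, i < 17649 → P i := stepQ 17648 Q17648 (allL N17648 (tt N13805 (iv D27968)) (tt N17887 (iv F59937)) (tt N13854 F61363) (tt N13806 F59168) (tt N20338 (iv F67433)) (tt N19736 (iv F65423)) (tt N19830 (iv F65707)))
theorem Q17650 : ∀ i, i < 17650 → P i := stepQ 17649 Q17649 (allL N17649 (tt N13854 F61364) (tt N17910 F61365) (tt N13805 (iv D27969)) (tt N13855 F61366) (tt N20401 (iv F67665)) (tt N19737 (iv F65426)) (tt N19829 (iv F65704)))
theorem Q17651 : ∀ i, i < 17651 → P i := stepQ 17650 Q17650 (allL N17650 (tt N19830 (iv F65706)) (tt N17563 F59169) (tt N19829 F65705) (tt N13808 F59170) (tt N20329 (iv F67388)) (tt N20687 D31040) (tt N13805 (iv D27970)))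
theorem Q17652 : ∀ i, i < 17652 → P i := stepQ 17651 Q17651 (allL N17651 (tt N13807 F59171) (tt N16533 F59172) (tt N13806 (iv D27971)) (tt N20688 D31041) (tt N14038 F59173) (tt N19739 (iv F65432)) (tt N20689 D31042))
theorem Q17653 : ∀ i, i < 17653 → P i := stepQ 17652 Q17652 (allL N17652 (tt N13808 F59174) (tt N17898 (iv F59983)) (tt N20689 (iv F68661)) (tt N19830 F65708) (tt N14039 F59175) (tt N16064 F59176) (tt N13806 (iv D27972)))
theorem Q17654 : ∀ i, i < 17654 → P i := stepQ 17653 Q17653 (allL N17653 (tt N20688 (iv F68656)) (tt N13818 F59177) (tt N17723 F61360) (tt N13807 (iv D27973)) (tt N17080 F59178) (tt N19740 (iv F65435)) (tt N20690 D31043))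
theorem Q17655 : ∀ i, i < 17655 → P i := stepQ 17654 Q17654 (allL N17654 (tt N20689 (iv F68659)) (tt N13866 F59179) (tt N13808 F59180) (tt N20690 (iv F68666)) (tt N14040 F59181) (tt N18948 (iv F62987)) (tt N13807 (iv D27974)))
theorem Q17656 : ∀ i, i < 17656 → P i := stepQ 17655 Q17655 (allL N17655 (tt N16064 F59182) (tt N15770 F59183) (tt N18948 F62988) (tt N20687 (iv F68653)) (tt N14041 F59184) (tt N13808 (iv D27975)) (tt N16062 F59185))
theorem Q17657 : ∀ i, i < 17657 → P i := stepQ 17656 Q17656 (allL N17656 (tt N17662 (iv F59207)) (tt N13809 (iv D27976)) (tt N13811 F59186) (tt N17145 (iv F59188)) (tt N14042 F59187) (tt N17270 (iv F59189)) (tt N17659 F59198))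
theorem Q17658 : ∀ i, i < 17658 → P i := stepQ 17657 Q17657 (allL N17657 (tt N19389 F64258) (tt N17145 F59190) (tt N15779 F59192) (tt N13809 (iv D27977)) (tt N15781 F59191) (tt N20491 (iv F67966)) (tt N20691 D31044))
theorem Q17659 : ∀ i, i < 17659 → P i := stepQ 17658 Q17658 (allL N17658 (tt N19596 (iv F64985)) (tt N19228 (iv F63704)) (tt N13810 F59193) (tt N20691 (iv F68670)) (tt N14044 F59194) (tt N17533 F59195) (tt N13809 (iv D27978)))
theorem Q17660 : ∀ i, i < 17660 → P i := stepQ 17659 Q17659 (allL N17659 (tt N13811 (iv D27979)) (tt N15547 F59196) (tt N17662 (iv F59209)) (tt N20407 (iv F67679)) (tt N14045 F59197) (tt N17915 (iv F60049)) (tt N17656 (iv F59198)))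
theorem Q17661 : ∀ i, i < 17661 → P i := stepQ 17660 Q17660 (allL N17660 (tt N20407 (iv F67677)) (tt N13812 F59199) (tt N17273 F59200) (tt N13811 (iv D27980)) (tt N17280 (iv F59201)) (tt N17271 (iv F59202)) (tt N20351 (iv F67489)))
theorem Q17662 : ∀ i, i < 17662 → P i := stepQ 17661 Q17661 (allL N17661 (tt N17915 (iv F60045)) (tt N17695 (iv F59311)) (tt N17270 F59203) (tt N17271 F59204) (tt N14047 F59205) (tt N13811 (iv D27981)) (tt N17270 F59206))
theorem Q17663 : ∀ i, i < 17663 → P i := stepQ 17662 Q17662 (allL N17662 (tt N17656 F59207) (tt N13825 F59208) (tt N17659 F59209) (tt N20351 (iv F67486)) (tt N14048 F59210) (tt N14118 F59211) (tt N13811 (iv D27982)))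
theorem Q17664 : ∀ i, i < 17664 → P i := stepQ 17663 Q17663 (allL N17663 (tt N13813 F59212) (tt N20126 (iv F66741)) (tt N13812 (iv D27983)) (tt N17619 F59213) (tt N20692 D31045) (tt N17690 (iv F59298)) (tt N13826 F59214))
theorem Q17665 : ∀ i, i < 17665 → P i := stepQ 17664 Q17664 (allL N17664 (tt N13814 F59215) (tt N17280 F59216) (tt N20692 (iv F68675)) (tt N14050 F59217) (tt N13812 (iv D27984)) (tt N17691 (iv F59302)) (tt N13827 F59218))
theorem Q17666 : ∀ i, i < 17666 → P i := stepQ 17665 Q17665 (allL N17665 (tt N16054 F61042) (tt N13813 (iv D27985)) (tt N17644 (iv F61041)) (tt N18187 (iv F60836)) (tt N20693 D31046) (tt N20694 D31047) (tt N18264 F61044))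
theorem Q17667 : ∀ i, i < 17667 → P i := stepQ 17666 Q17666 (allL N17666 (tt N20692 (iv F68673)) (tt N20693 (iv F68679)) (tt N13814 F59219) (tt N18975 (iv F63048)) (tt N13813 (iv D27986)) (tt N18186 (iv F60834)) (tt N13831 F59220))
theorem Q17668 : ∀ i, i < 17668 → P i := stepQ 17667 Q17667 (allL N17667 (tt N17691 (iv F59299)) (tt N16090 F59223) (tt N18186 (iv F60832)) (tt N14054 F59221) (tt N13815 F59222) (tt N13814 (iv D27987)) (tt N17681 (iv F59279)))
theorem Q17669 : ∀ i, i < 17669 → P i := stepQ 17668 Q17668 (allL N17668 (tt N16097 (iv F59226)) (tt N13815 (iv D27988)) (tt N20695 D31048) (tt N13816 F59224) (tt N16090 F59225) (tt N19298 (iv F63945)) (tt N16088 (iv F59227)))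
theorem Q17670 : ∀ i, i < 17670 → P i := stepQ 17669 Q17669 (allL N17669 (tt N20696 D31049) (tt N13817 (iv D27989)) (tt N13857 F59228) (tt N20697 D31050) (tt N14055 F59229) (tt N13856 F59230) (tt N18894 (iv F62823)))
theorem Q17671 : ∀ i, i < 17671 → P i := stepQ 17670 Q17670 (allL N17670 (tt N13818 F59231) (tt N20697 (iv F68694)) (tt N20571 (iv F68231)) (tt N13817 (iv D27990)) (tt N17097 F59232) (tt N18865 (iv F62745)) (tt N15245 F59233))
theorem Q17672 : ∀ i, i < 17672 → P i := stepQ 17671 Q17671 (allL N17671 (tt N20571 (iv F68230)) (tt N17739 (iv F61361)) (tt N13818 (iv D27991)) (tt N20517 (iv F68058)) (tt N17098 F59234) (tt N18868 (iv F62754)) (tt N17370 (iv F59235)))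
theorem Q17673 : ∀ i, i < 17673 → P i := stepQ 17672 Q17672 (allL N17672 (tt N15245 F59236) (tt N18920 (iv F62895)) (tt N17370 F59237) (tt N13819 F59238) (tt N17099 F59239) (tt N15241 (iv F59240)) (tt N13818 (iv D27992)))
theorem Q17674 : ∀ i, i < 17674 → P i := stepQ 17673 Q17673 (allL N17673 (tt N14564 F59241) (tt N14196 F59242) (tt N13824 F59243) (tt N17221 F59244) (tt N14057 F59245) (tt N13820 (iv D27993)) (tt N18380 (iv F61455)))
theorem Q17675 : ∀ i, i < 17675 → P i := stepQ 17674 Q17674 (allL N17674 (tt N14567 F59246) (tt N17220 F59247) (tt N17235 F59248) (tt N14058 F59249) (tt N13821 (iv D27994)) (tt N20438 (iv F67802)) (tt N20698 D31051))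
theorem Q17676 : ∀ i, i < 17676 → P i := stepQ 17675 Q17675 (allL N17675 (tt N14573 F59250) (tt N18309 (iv F61165)) (tt N17236 F59251) (tt N13822 F59252) (tt N20438 (iv F67801)) (tt N13821 (iv D27995)) (tt N17624 F59253))
theorem Q17677 : ∀ i, i < 17677 → P i := stepQ 17676 Q17676 (allL N17676 (tt N14574 F59257) (tt N19225 F63695) (tt N17237 F59258) (tt N13823 F59259) (tt N20698 (iv F68702)) (tt N18396 (iv F61493)) (tt N13821 (iv D27996)))
theorem Q17678 : ∀ i, i < 17678 → P i := stepQ 17677 Q17677 (allL N17677 (tt N17678 (iv F59264)) (tt N17533 F59260) (tt N18380 (iv F61453)) (tt N17062 F59261) (tt N14067 F59262) (tt N17061 F59263) (tt N13824 (iv D27997)))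
theorem Q17679 : ∀ i, i < 17679 → P i := stepQ 17678 Q17678 (allL N17678 (tt N17677 F59264) (tt N14104 F59265) (tt N18379 (iv F61448)) (tt N17204 F59266) (tt N14068 F59267) (tt N13825 (iv D27998)) (tt N17202 F59268))
theorem Q17680 : ∀ i, i < 17680 → P i := stepQ 17679 Q17679 (allL N17679 (tt N13831 F59269) (tt N14577 F59270) (tt N13827 F59271) (tt N20699 D31052) (tt N13826 (iv D27999)) (tt N20700 D31053) (tt N20692 (iv F68677)))
theorem Q17681 : ∀ i, i < 17681 → P i := stepQ 17680 Q17680 (allL N17680 (tt N13832 F59272) (tt N20138 (iv F66791)) (tt N13828 F59273) (tt N14395 F59274) (tt N20700 (iv F68714)) (tt N13826 (iv D28000)) (tt N14399 F59275))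
theorem Q17682 : ∀ i, i < 17682 → P i := stepQ 17681 Q17681 (allL N17681 (tt N13833 F59276) (tt N19385 (iv F64238)) (tt N20700 (iv F68712)) (tt N14070 F59277) (tt N13828 F59278) (tt N13827 (iv D28001)) (tt N17667 F59279))
theorem Q17683 : ∀ i, i < 17683 → P i := stepQ 17682 Q17682 (allL N17682 (tt N15879 (iv F59283)) (tt N13828 (iv D28002)) (tt N20541 (iv F68127)) (tt N13829 F59280) (tt N19385 (iv F64241)) (tt N15872 F59281) (tt N15227 F59282))
theorem Q17684 : ∀ i, i < 17684 → P i := stepQ 17683 Q17683 (allL N17683 (tt N13830 (iv D28003)) (tt N19708 F65337) (tt N13896 F59284) (tt N18808 (iv F62624)) (tt N19710 (iv F65343)) (tt N20701 D31054) (tt N19031 (iv F63208)))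
theorem Q17685 : ∀ i, i < 17685 → P i := stepQ 17684 Q17684 (allL N17684 (tt N19710 (iv F65341)) (tt N13831 F59285) (tt N13897 F59286) (tt N15189 (iv F59287)) (tt N13830 (iv D28004)) (tt N20702 D31055) (tt N19007 F63157))
theorem Q17686 : ∀ i, i < 17686 → P i := stepQ 17685 Q17685 (allL N17685 (tt N20701 (iv F68716)) (tt N20703 D31056) (tt N13898 F59288) (tt N18809 (iv F62628)) (tt N20702 (iv F68723)) (tt N13830 (iv D28005)) (tt N20704 D31057))
theorem Q17687 : ∀ i, i < 17687 → P i := stepQ 17686 Q17686 (allL N17686 (tt N19031 (iv F63205)) (tt N18264 (iv F61045)) (tt N13899 F59289) (tt N18810 (iv F62631)) (tt N19007 F63156) (tt N19006 F63162) (tt N13830 (iv D28006)))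
theorem Q17688 : ∀ i, i < 17688 → P i := stepQ 17687 Q17687 (allL N17687 (tt N20699 (iv F68704)) (tt N15189 F59290) (tt N15191 (iv F59291)) (tt N13831 (iv D28007)) (tt N18063 (iv F60474)) (tt N20705 D31058) (tt N18975 F63050))
theorem Q17689 : ∀ i, i < 17689 → P i := stepQ 17688 Q17688 (allL N17688 (tt N20700 (iv F68710)) (tt N20706 D31059) (tt N13833 F59292) (tt N20705 (iv F68735)) (tt N13832 F59293) (tt N13831 (iv D28008)) (tt N20707 D31060))
theorem Q17690 : ∀ i, i < 17690 → P i := stepQ 17689 Q17689 (allL N17689 (tt N17689 F63000) (tt N13832 (iv D28009)) (tt N17689 F59294) (tt N18811 (iv F62633)) (tt N20706 (iv F68739)) (tt N20703 (iv F68726)) (tt N20708 D31061))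
theorem Q17691 : ∀ i, i < 17691 → P i := stepQ 17690 Q17690 (allL N17690 (tt N14399 F59295) (tt N19000 (iv F63144)) (tt N13834 F59296) (tt N14398 F59297) (tt N20707 (iv F68744)) (tt N17663 F59298) (tt N13832 (iv D28010)))
theorem Q17692 : ∀ i, i < 17692 → P i := stepQ 17691 Q17691 (allL N17691 (tt N17667 F59299) (tt N19258 (iv F63805)) (tt N20707 (iv F68742)) (tt N14077 F59300) (tt N13834 F59301) (tt N17664 F59302) (tt N13833 (iv D28011)))
theorem Q17693 : ∀ i, i < 17693 → P i := stepQ 17692 Q17692 (allL N17692 (tt N20709 D31062) (tt N13834 (iv D28012)) (tt N20710 D31063) (tt N13835 F59303) (tt N19258 (iv F63806)) (tt N20493 (iv F67974)) (tt N17692 F59304))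
theorem Q17694 : ∀ i, i < 17694 → P i := stepQ 17693 Q17693 (allL N17693 (tt N13835 (iv D28013)) (tt N17551 (iv F59307)) (tt N20610 (iv F68396)) (tt N20709 (iv F68753)) (tt N14078 F59305) (tt N19928 (iv F66049)) (tt N17693 F59306))
theorem Q17695 : ∀ i, i < 17695 → P i := stepQ 17694 Q17694 (allL N17694 (tt N20610 (iv F68395)) (tt N13836 F59308) (tt N13835 (iv D28014)) (tt N20478 F67925) (tt N14079 F59309) (tt N20711 D31064) (tt N17694 F59310))
theorem Q17696 : ∀ i, i < 17696 → P i := stepQ 17695 Q17695 (allL N17695 (tt N19928 (iv F66048)) (tt N17661 F59311) (tt N20711 (iv F68760)) (tt N20493 (iv F67972)) (tt N14080 F59312) (tt N13835 (iv D28015)) (tt N19928 (iv F66050)))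
theorem Q17697 : ∀ i, i < 17697 → P i := stepQ 17696 Q17696 (allL N17696 (tt N14986 F59313) (tt N20478 (iv F67922)) (tt N17306 (iv F59316)) (tt N13836 (iv D28016)) (tt N14983 F59314) (tt N14982 (iv F59317)) (tt N17369 F59315))
theorem Q17698 : ∀ i, i < 17698 → P i := stepQ 17697 Q17697 (allL N17697 (tt N14976 F59318) (tt N19929 (iv F66052)) (tt N13837 F59319) (tt N14982 F59320) (tt N14081 F59321) (tt N13836 (iv D28017)) (tt N15688 F59322))
theorem Q17699 : ∀ i, i < 17699 → P i := stepQ 17698 Q17698 (allL N17698 (tt N13838 (iv D28018)) (tt N15939 F59323) (tt N17699 (iv F59329)) (tt N20487 (iv F67948)) (tt N14082 F59324) (tt N15943 F59325) (tt N14501 (iv F59326)))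
theorem Q17700 : ∀ i, i < 17700 → P i := stepQ 17699 Q17699 (allL N17699 (tt N14501 F59327) (tt N14525 F59328) (tt N17698 F59329) (tt N20488 (iv F67954)) (tt N14083 F59330) (tt N18422 (iv F61554)) (tt N13838 (iv D28019)))
theorem Q17701 : ∀ i, i < 17701 → P i := stepQ 17700 Q17700 (allL N17700 (tt N13849 F59331) (tt N17992 (iv F60304)) (tt N17904 (iv F60001)) (tt N13840 (iv D28020)) (tt N17622 F59332) (tt N20712 D31065) (tt N20113 (iv F66690)))
theorem Q17702 : ∀ i, i < 17702 → P i := stepQ 17701 Q17701 (allL N17701 (tt N13850 F59333) (tt N20713 D31066) (tt N13842 F59334) (tt N20712 (iv F68763)) (tt N13841 F59335) (tt N13840 (iv D28021)) (tt N17597 F59336))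
theorem Q17703 : ∀ i, i < 17703 → P i := stepQ 17702 Q17702 (allL N17702 (tt N18376 (iv F61440)) (tt N13841 (iv D28022)) (tt N18375 (iv F61438)) (tt N16728 F59337) (tt N20713 (iv F68768)) (tt N18688 (iv F62357)) (tt N20714 D31067))
theorem Q17704 : ∀ i, i < 17704 → P i := stepQ 17703 Q17703 (allL N17703 (tt N13843 (iv D28023)) (tt N19471 F64539) (tt N20347 (iv F67463)) (tt N13844 F59338) (tt N20354 (iv F67499)) (tt N20349 (iv F67477)) (tt N20715 D31068))
theorem Q17705 : ∀ i, i < 17705 → P i := stepQ 17704 Q17704 (allL N17704 (tt N20347 (iv F67462)) (tt N18375 F61439) (tt N13843 (iv D28024)) (tt N17637 F59354) (tt N20353 (iv F67495)) (tt N20348 (iv F67470)) (tt N17633 (iv F59355)))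
theorem Q17706 : ∀ i, i < 17706 → P i := stepQ 17705 Q17705 (allL N17705 (tt N20715 (iv F68771)) (tt N17602 F59339) (tt N17633 F59356) (tt N13846 F59340) (tt N20412 (iv F67703)) (tt N17632 (iv F59357)) (tt N13843 (iv D28025)))
theorem Q17707 : ∀ i, i < 17707 → P i := stepQ 17706 Q17706 (allL N17706 (tt N13845 F59341) (tt N14615 F59342) (tt N13844 (iv D28026)) (tt N19838 (iv F65734)) (tt N14085 F59343) (tt N14611 F59344) (tt N17416 (iv F59345)))
theorem Q17708 : ∀ i, i < 17708 → P i := stepQ 17707 Q17707 (allL N17707 (tt N13846 F59346) (tt N14633 F59347) (tt N17416 F59348) (tt N20715 (iv F68774)) (tt N14086 F59349) (tt N17420 F59350) (tt N13844 (iv D28027)))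
theorem Q17709 : ∀ i, i < 17709 → P i := stepQ 17708 Q17708 (allL N17708 (tt N19838 (iv F65732)) (tt N13847 F59351) (tt N17040 F59353) (tt N13845 (iv D28028)) (tt N17042 F59352) (tt N19842 (iv F65751)) (tt N19579 (iv F64928)))
theorem Q17710 : ∀ i, i < 17710 → P i := stepQ 17709 Q17709 (allL N17709 (tt N17420 F59358) (tt N14612 (iv F59363)) (tt N17419 F59359) (tt N17632 F59360) (tt N14087 F59361) (tt N13846 (iv D28029)) (tt N17422 F59362))
theorem Q17711 : ∀ i, i < 17711 → P i := stepQ 17710 Q17710 (allL N17710 (tt N17368 F59364) (tt N17042 F59365) (tt N14439 F59366) (tt N14089 F59367) (tt N13847 (iv D28030)) (tt N18305 (iv F61154)) (tt N14450 (iv F59368)))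
theorem Q17712 : ∀ i, i < 17712 → P i := stepQ 17711 Q17711 (allL N17711 (tt N18293 (iv F61119)) (tt N18520 F61849) (tt N14448 F59369) (tt N13848 F59370) (tt N14450 F59371) (tt N14500 F59372) (tt N13847 (iv D28031)))
theorem Q17713 : ∀ i, i < 17713 → P i := stepQ 17712 Q17712 (allL N17712 (tt N17904 (iv F60000)) (tt N14594 F59373) (tt N13849 (iv D28032)) (tt N17902 (iv F59994)) (tt N18049 (iv F60440)) (tt N20716 D31069) (tt N20111 (iv F66681)))
theorem Q17714 : ∀ i, i < 17714 → P i := stepQ 17713 Q17713 (allL N17713 (tt N20712 (iv F68762)) (tt N20717 D31070) (tt N20716 (iv F68777)) (tt N13850 F59374) (tt N18050 (iv F60442)) (tt N13849 (iv D28033)) (tt N20718 D31071))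
theorem Q17715 : ∀ i, i < 17715 → P i := stepQ 17714 Q17714 (allL N17714 (tt N20719 D31072) (tt N13850 (iv D28034)) (tt N19821 (iv F65677)) (tt N20717 (iv F68780)) (tt N13851 F59375) (tt N14509 F59376) (tt N20720 D31073))
theorem Q17716 : ∀ i, i < 17716 → P i := stepQ 17715 Q17715 (allL N17715 (tt N17597 F59377) (tt N20721 D31074) (tt N13853 F59378) (tt N20718 (iv F68784)) (tt N13852 F59379) (tt N17593 F59380) (tt N13850 (iv D28035)))
theorem Q17717 : ∀ i, i < 17717 → P i := stepQ 17716 Q17716 (allL N17716 (tt N13851 (iv D28036)) (tt N16094 (iv F59434)) (tt N17734 F59433) (tt N18789 (iv F62592)) (tt N20719 (iv F68788)) (tt N14511 F59381) (tt N18325 (iv F61209)))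
theorem Q17718 : ∀ i, i < 17718 → P i := stepQ 17717 Q17717 (allL N17717 (tt N18325 (iv F61208)) (tt N17900 F61372) (tt N19824 (iv F65690)) (tt N18790 (iv F62595)) (tt N20720 (iv F68791)) (tt N18322 (iv F61202)) (tt N13851 (iv D28037)))
theorem Q17719 : ∀ i, i < 17719 → P i := stepQ 17718 Q17718 (allL N17718 (tt N20722 D31075) (tt N13852 (iv D28038)) (tt N17887 F61370) (tt N18791 (iv F62596)) (tt N20721 (iv F68793)) (tt N20723 D31076) (tt N17900 (iv F61371)))
theorem Q17720 : ∀ i, i < 17720 → P i := stepQ 17719 Q17719 (allL N17719 (tt N20401 (iv F67662)) (tt N13853 (iv D28039)) (tt N20338 (iv F67431)) (tt N14094 F59382) (tt N13854 F59383) (tt N20337 F67428) (tt N19827 (iv F65697)))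
theorem Q17721 : ∀ i, i < 17721 → P i := stepQ 17720 Q17720 (allL N17720 (tt N19737 (iv F65425)) (tt N17591 F59385) (tt N19736 F65424) (tt N13857 F59386) (tt N20337 (iv F67425)) (tt N13854 (iv D28042)) (tt N20724 D31077))
theorem Q17722 : ∀ i, i < 17722 → P i := stepQ 17721 Q17721 (allL N17721 (tt N13856 F59387) (tt N16568 F59388) (tt N13855 (iv D28043)) (tt N20725 D31078) (tt N14095 F59389) (tt N20696 (iv F68692)) (tt N19833 (iv F65720)))
theorem Q17723 : ∀ i, i < 17723 → P i := stepQ 17722 Q17722 (allL N17722 (tt N13857 F59390) (tt N17920 (iv F60067)) (tt N20696 (iv F68690)) (tt N19737 F65427) (tt N14096 F59391) (tt N13855 (iv D28044)) (tt N16138 F59392))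
theorem Q17724 : ∀ i, i < 17724 → P i := stepQ 17723 Q17723 (allL N17723 (tt N20725 (iv F68806)) (tt N13867 F59393) (tt N17653 (iv F61360)) (tt N13856 (iv D28045)) (tt N17166 F59394) (tt N20697 (iv F68696)) (tt N19834 (iv F65722)))
theorem Q17725 : ∀ i, i < 17725 → P i := stepQ 17724 Q17724 (allL N17724 (tt N16138 F59395) (tt N15995 F59396) (tt N18894 F62824) (tt N20724 (iv F68803)) (tt N14097 F59397) (tt N16136 F59398) (tt N13857 (iv D28046)))
theorem Q17726 : ∀ i, i < 17726 → P i := stepQ 17725 Q17725 (allL N17725 (tt N17730 (iv F59416)) (tt N13858 (iv D28047)) (tt N13860 F59399) (tt N17056 (iv F59401)) (tt N14098 F59400) (tt N17728 (iv F59411)) (tt N17194 (iv F59402)))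
theorem Q17727 : ∀ i, i < 17727 → P i := stepQ 17726 Q17726 (allL N17726 (tt N19382 F64228) (tt N17056 F59403) (tt N15537 F59405) (tt N13858 (iv D28048)) (tt N15540 F59404) (tt N20726 D31079) (tt N20432 (iv F67781)))
theorem Q17728 : ∀ i, i < 17728 → P i := stepQ 17727 Q17727 (allL N17727 (tt N19381 (iv F64224)) (tt N19391 (iv F64263)) (tt N13859 F59406) (tt N20726 (iv F68812)) (tt N14099 F59407) (tt N13858 (iv D28049)) (tt N17529 F59408))
theorem Q17729 : ∀ i, i < 17729 → P i := stepQ 17728 Q17728 (allL N17728 (tt N13860 (iv D28050)) (tt N15786 F59409) (tt N17730 (iv F59418)) (tt N20346 (iv F67458)) (tt N14101 F59410) (tt N17725 F59411) (tt N17893 (iv F59966)))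
theorem Q17730 : ∀ i, i < 17730 → P i := stepQ 17729 Q17729 (allL N17729 (tt N20346 (iv F67456)) (tt N13861 F59412) (tt N17197 F59414) (tt N13860 (iv D28051)) (tt N17204 F59413) (tt N20345 (iv F67453)) (tt N17195 (iv F59415)))
theorem Q17731 : ∀ i, i < 17731 → P i := stepQ 17730 Q17730 (allL N17730 (tt N17725 F59416) (tt N13873 F59417) (tt N17728 F59418) (tt N20345 (iv F67455)) (tt N14066 F59419) (tt N13860 (iv D28052)) (tt N14065 (iv F59420)))
theorem Q17732 : ∀ i, i < 17732 → P i := stepQ 17731 Q17731 (allL N17731 (tt N17893 (iv F59961)) (tt N17763 (iv F59521)) (tt N17194 F59421) (tt N17195 F59422) (tt N14102 F59423) (tt N17194 F59424) (tt N13860 (iv D28053)))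
theorem Q17733 : ∀ i, i < 17733 → P i := stepQ 17732 Q17732 (allL N17732 (tt N13862 F59425) (tt N20119 (iv F66713)) (tt N13861 (iv D28054)) (tt N17623 F59426) (tt N20727 D31080) (tt N13875 F59427) (tt N17758 (iv F59508)))
theorem Q17734 : ∀ i, i < 17734 → P i := stepQ 17733 Q17733 (allL N17733 (tt N13863 F59428) (tt N17204 F59429) (tt N20727 (iv F68817)) (tt N14104 F59430) (tt N13861 (iv D28055)) (tt N13876 F59431) (tt N17759 (iv F59512)))
theorem Q17735 : ∀ i, i < 17735 → P i := stepQ 17734 Q17734 (allL N17734 (tt N16128 F59432) (tt N13862 (iv D28056)) (tt N17716 (iv F59433)) (tt N18212 (iv F60898)) (tt N20728 D31081) (tt N18321 (iv F61200)) (tt N20729 D31082))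
theorem Q17736 : ∀ i, i < 17736 → P i := stepQ 17735 Q17735 (allL N17735 (tt N20727 (iv F68815)) (tt N20728 (iv F68821)) (tt N13863 F59435) (tt N19114 (iv F63384)) (tt N13862 (iv D28057)) (tt N13880 F59436) (tt N18211 (iv F60896)))
theorem Q17737 : ∀ i, i < 17737 → P i := stepQ 17736 Q17736 (allL N17736 (tt N17759 (iv F59509)) (tt N16013 (iv F59439)) (tt N18211 (iv F60894)) (tt N14108 F59437) (tt N13864 F59438) (tt N17749 (iv F59489)) (tt N13863 (iv D28058)))
theorem Q17738 : ∀ i, i < 17738 → P i := stepQ 17737 Q17737 (allL N17737 (tt N16020 (iv F59442)) (tt N13864 (iv D28059)) (tt N20730 D31083) (tt N13865 F59440) (tt N16013 F59441) (tt N16012 (iv F59443)) (tt N19526 (iv F64740)))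
theorem Q17739 : ∀ i, i < 17739 → P i := stepQ 17738 Q17738 (allL N17738 (tt N13867 F59444) (tt N20690 (iv F68664)) (tt N20545 (iv F68140)) (tt N13866 (iv D28060)) (tt N17178 F59445) (tt N15299 F59446) (tt N18920 (iv F62898)))
theorem Q17740 : ∀ i, i < 17740 → P i := stepQ 17739 Q17739 (allL N17739 (tt N20545 (iv F68139)) (tt N17671 F61361) (tt N13867 (iv D28061)) (tt N20460 (iv F67874)) (tt N17179 F59447) (tt N17343 (iv F59448)) (tt N18922 (iv F62904)))
theorem Q17741 : ∀ i, i < 17741 → P i := stepQ 17740 Q17740 (allL N17740 (tt N15299 F59449) (tt N18865 (iv F62742)) (tt N17343 F59450) (tt N13868 F59451) (tt N17180 F59452) (tt N13867 (iv D28062)) (tt N15294 F59453))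
theorem Q17742 : ∀ i, i < 17742 → P i := stepQ 17741 Q17741 (allL N17741 (tt N14616 F59454) (tt N14198 F59455) (tt N13874 F59456) (tt N17297 F59457) (tt N14110 F59458) (tt N18441 (iv F61601)) (tt N13869 (iv D28063)))
theorem Q17743 : ∀ i, i < 17743 → P i := stepQ 17742 Q17742 (allL N17742 (tt N14618 F59459) (tt N17296 F59460) (tt N17311 F59461) (tt N14111 F59462) (tt N13870 (iv D28064)) (tt N20731 D31084) (tt N20496 (iv F67985)))
theorem Q17744 : ∀ i, i < 17744 → P i := stepQ 17743 Q17743 (allL N17743 (tt N14624 F59463) (tt N19465 F64515) (tt N17312 F59464) (tt N13871 F59465) (tt N20731 (iv F68835)) (tt N13870 (iv D28065)) (tt N18458 (iv F61648)))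
theorem Q17745 : ∀ i, i < 17745 → P i := stepQ 17744 Q17744 (allL N17744 (tt N14625 F59466) (tt N18252 (iv F61004)) (tt N17313 F59467) (tt N13872 F59468) (tt N20496 (iv F67984)) (tt N17620 F59469) (tt N13870 (iv D28066)))
theorem Q17746 : ∀ i, i < 17746 → P i := stepQ 17745 Q17745 (allL N17745 (tt N17746 (iv F59474)) (tt N14050 F59470) (tt N18442 (iv F61603)) (tt N17280 F59471) (tt N14046 F59472) (tt N17278 F59473) (tt N13873 (iv D28067)))
theorem Q17747 : ∀ i, i < 17747 → P i := stepQ 17746 Q17746 (allL N17746 (tt N17745 F59474) (tt N17529 F59475) (tt N18441 (iv F61599)) (tt N17151 F59476) (tt N14119 F59477) (tt N13874 (iv D28068)) (tt N17150 F59478))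
theorem Q17748 : ∀ i, i < 17748 → P i := stepQ 17747 Q17747 (allL N17747 (tt N13880 F59479) (tt N14627 F59480) (tt N13876 F59481) (tt N20732 D31085) (tt N13875 (iv D28069)) (tt N20727 (iv F68819)) (tt N20733 D31086))
theorem Q17749 : ∀ i, i < 17749 → P i := stepQ 17748 Q17748 (allL N17748 (tt N13881 F59482) (tt N20142 (iv F66804)) (tt N13877 F59483) (tt N14417 F59484) (tt N20733 (iv F68847)) (tt N14421 F59485) (tt N13875 (iv D28070)))
theorem Q17750 : ∀ i, i < 17750 → P i := stepQ 17749 Q17749 (allL N17749 (tt N13882 F59486) (tt N19598 (iv F64994)) (tt N20733 (iv F68845)) (tt N14121 F59487) (tt N13877 F59488) (tt N17736 F59489) (tt N13876 (iv D28071)))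
theorem Q17751 : ∀ i, i < 17751 → P i := stepQ 17750 Q17750 (allL N17750 (tt N15646 (iv F59493)) (tt N13877 (iv D28072)) (tt N20483 (iv F67936)) (tt N13878 F59490) (tt N19598 (iv F64997)) (tt N15280 F59491) (tt N15638 F59492))
theorem Q17752 : ∀ i, i < 17752 → P i := stepQ 17751 Q17751 (allL N17751 (tt N13879 (iv D28073)) (tt N19803 F65623) (tt N13909 F59494) (tt N18757 (iv F62539)) (tt N19805 (iv F65626)) (tt N19168 (iv F63537)) (tt N20734 D31087))
theorem Q17753 : ∀ i, i < 17753 → P i := stepQ 17752 Q17752 (allL N17752 (tt N19805 (iv F65624)) (tt N13880 F59495) (tt N13910 F59496) (tt N15155 (iv F59497)) (tt N13879 (iv D28074)) (tt N19147 F63491) (tt N20735 D31088))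
theorem Q17754 : ∀ i, i < 17754 → P i := stepQ 17753 Q17753 (allL N17753 (tt N19168 (iv F63534)) (tt N18321 (iv F61199)) (tt N13911 F59498) (tt N18758 (iv F62544)) (tt N19147 (iv F63490)) (tt N13879 (iv D28075)) (tt N19145 F63482))
theorem Q17755 : ∀ i, i < 17755 → P i := stepQ 17754 Q17754 (allL N17754 (tt N20734 (iv F68849)) (tt N20736 D31089) (tt N13912 F59499) (tt N18759 (iv F62547)) (tt N20735 (iv F68856)) (tt N20737 D31090) (tt N13879 (iv D28076)))
theorem Q17756 : ∀ i, i < 17756 → P i := stepQ 17755 Q17755 (allL N17755 (tt N20732 (iv F68837)) (tt N15155 F59500) (tt N15157 (iv F59501)) (tt N13880 (iv D28077)) (tt N18034 (iv F60395)) (tt N19114 F63386) (tt N20738 D31091))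
theorem Q17757 : ∀ i, i < 17757 → P i := stepQ 17756 Q17756 (allL N17756 (tt N20733 (iv F68843)) (tt N20739 D31092) (tt N13882 F59502) (tt N20738 (iv F68868)) (tt N13881 F59503) (tt N20740 D31093) (tt N13880 (iv D28078)))
theorem Q17758 : ∀ i, i < 17758 → P i := stepQ 17757 Q17757 (allL N17757 (tt N17757 F63062) (tt N13881 (iv D28079)) (tt N17757 F59504) (tt N18760 (iv F62548)) (tt N20739 (iv F68872)) (tt N20741 D31094) (tt N20736 (iv F68859)))
theorem Q17759 : ∀ i, i < 17759 → P i := stepQ 17758 Q17758 (allL N17758 (tt N14421 F59505) (tt N19139 (iv F63468)) (tt N13883 F59506) (tt N14420 F59507) (tt N20740 (iv F68879)) (tt N13881 (iv D28080)) (tt N17732 F59508))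
theorem Q17760 : ∀ i, i < 17760 → P i := stepQ 17759 Q17759 (allL N17759 (tt N17736 F59509) (tt N19491 (iv F64616)) (tt N20740 (iv F68877)) (tt N14128 F59510) (tt N13883 F59511) (tt N13882 (iv D28081)) (tt N17733 F59512))
theorem Q17761 : ∀ i, i < 17761 → P i := stepQ 17760 Q17760 (allL N17760 (tt N20742 D31095) (tt N13883 (iv D28082)) (tt N20743 D31096) (tt N13884 F59513) (tt N19491 (iv F64617)) (tt N17760 F59514) (tt N20435 (iv F67791)))
theorem Q17762 : ∀ i, i < 17762 → P i := stepQ 17761 Q17761 (allL N17761 (tt N13884 (iv D28083)) (tt N17546 (iv F59517)) (tt N20607 (iv F68383)) (tt N20742 (iv F68886)) (tt N14129 F59515) (tt N17761 F59516) (tt N19988 (iv F66279)))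
theorem Q17763 : ∀ i, i < 17763 → P i := stepQ 17762 Q17762 (allL N17762 (tt N20607 (iv F68382)) (tt N13885 F59518) (tt N13884 (iv D28084)) (tt N20536 F68113) (tt N14130 F59519) (tt N17762 F59520) (tt N20744 D31097))
theorem Q17764 : ∀ i, i < 17764 → P i := stepQ 17763 Q17763 (allL N17763 (tt N19988 (iv F66277)) (tt N17731 F59521) (tt N20744 (iv F68893)) (tt N20435 (iv F67789)) (tt N14131 F59522) (tt N19988 (iv F66278)) (tt N13884 (iv D28085)))
theorem Q17765 : ∀ i, i < 17765 → P i := stepQ 17764 Q17764 (allL N17764 (tt N14938 F59523) (tt N20536 (iv F68110)) (tt N17230 (iv F59526)) (tt N13885 (iv D28086)) (tt N14935 F59524) (tt N17341 F59525) (tt N14934 F59527))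
theorem Q17766 : ∀ i, i < 17766 → P i := stepQ 17765 Q17765 (allL N17765 (tt N14928 F59528) (tt N19989 (iv F66281)) (tt N13886 F59529) (tt N14934 F59530) (tt N14132 F59531) (tt N15918 F59532) (tt N13885 (iv D28087)))
theorem Q17767 : ∀ i, i < 17767 → P i := stepQ 17766 Q17766 (allL N17766 (tt N19504 (iv F64660)) (tt N15873 F59534) (tt N19479 (iv F64565)) (tt N20199 (iv F66991)) (tt N14134 F59533) (tt N13887 (iv D28088)) (tt N15559 (iv F59535)))
theorem Q17768 : ∀ i, i < 17768 → P i := stepQ 17767 Q17767 (allL N17767 (tt N13891 F59536) (tt N19181 (iv F63574)) (tt N13888 (iv D28089)) (tt N15971 F59537) (tt N19434 (iv F64434)) (tt N20745 D31098) (tt N20746 D31099))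
theorem Q17769 : ∀ i, i < 17769 → P i := stepQ 17768 Q17768 (allL N17768 (tt N13892 F59538) (tt N19748 (iv F65459)) (tt N19434 F64435) (tt N13908 F59539) (tt N13888 (iv D28090)) (tt N17788 (iv F59585)) (tt N13906 (iv F59540)))
theorem Q17770 : ∀ i, i < 17770 → P i := stepQ 17769 Q17769 (allL N17769 (tt N13893 F59541) (tt N20747 D31100) (tt N20745 (iv F68897)) (tt N13889 F59542) (tt N17788 (iv F59584)) (tt N13888 (iv D28091)) (tt N17777 (iv F59563)))
theorem Q17771 : ∀ i, i < 17771 → P i := stepQ 17770 Q17770 (allL N17770 (tt N13894 F59543) (tt N19265 (iv F63834)) (tt N20746 (iv F68901)) (tt N13890 F59544) (tt N13906 F59545) (tt N13905 F59546) (tt N13888 (iv D28092)))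
theorem Q17772 : ∀ i, i < 17772 → P i := stepQ 17771 Q17771 (allL N17771 (tt N15875 F59550) (tt N13889 (iv D28093)) (tt N15883 F59547) (tt N20747 (iv F68907)) (tt N14135 F59548) (tt N15873 F59549) (tt N19554 (iv F64850)))
theorem Q17773 : ∀ i, i < 17773 → P i := stepQ 17772 Q17772 (allL N17772 (tt N15971 F59551) (tt N17811 (iv F59646)) (tt N15967 F59552) (tt N13891 (iv D28094)) (tt N20748 D31101) (tt N20749 D31102) (tt N20750 D31103))
theorem Q17774 : ∀ i, i < 17774 → P i := stepQ 17773 Q17773 (allL N17773 (tt N19434 (iv F64433)) (tt N17812 (iv F59648)) (tt N13892 F59553) (tt N20751 D31104) (tt N13891 (iv D28095)) (tt N17793 F59598) (tt N20752 D31105))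
theorem Q17775 : ∀ i, i < 17775 → P i := stepQ 17774 Q17774 (allL N17774 (tt N20745 (iv F68895)) (tt N20753 D31106) (tt N13893 F59554) (tt N20749 (iv F68914)) (tt N17793 (iv F59597)) (tt N13891 (iv D28096)) (tt N17791 F59593))
theorem Q17776 : ∀ i, i < 17776 → P i := stepQ 17775 Q17775 (allL N17775 (tt N20746 (iv F68900)) (tt N15657 F64397) (tt N13894 F59555) (tt N20750 (iv F68917)) (tt N20752 (iv F68926)) (tt N19635 (iv F65131)) (tt N13891 (iv D28097)))
theorem Q17777 : ∀ i, i < 17777 → P i := stepQ 17776 Q17776 (allL N17776 (tt N13906 F59556) (tt N19497 (iv F64642)) (tt N20752 (iv F68924)) (tt N13902 F59557) (tt N13894 F59558) (tt N13901 (iv F59559)) (tt N13892 (iv D28098)))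
theorem Q17778 : ∀ i, i < 17778 → P i := stepQ 17777 Q17777 (allL N17777 (tt N13905 F59560) (tt N19844 (iv F65759)) (tt N19635 F65132) (tt N13895 F59561) (tt N13901 F59562) (tt N13894 (iv D28099)) (tt N17769 F59563))
theorem Q17779 : ∀ i, i < 17779 → P i := stepQ 17778 Q17778 (allL N17778 (tt N20202 (iv F67003)) (tt N13895 (iv D28100)) (tt N19931 (iv F66062)) (tt N19844 F65761) (tt N14136 F59564) (tt N19669 (iv F65235)) (tt N20754 D31107))
theorem Q17780 : ∀ i, i < 17780 → P i := stepQ 17779 Q17779 (allL N17779 (tt N13897 F59565) (tt N19713 (iv F65353)) (tt N19710 F65346) (tt N17255 F59566) (tt N13896 (iv D28101)) (tt N20755 D31108) (tt N20756 D31109))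
theorem Q17781 : ∀ i, i < 17781 → P i := stepQ 17780 Q17780 (allL N17780 (tt N13898 F59567) (tt N20524 (iv F68084)) (tt N20701 (iv F68717)) (tt N17803 (iv F59618)) (tt N20755 (iv F68938)) (tt N13896 (iv D28102)) (tt N17785 (iv F59576)))
theorem Q17782 : ∀ i, i < 17782 → P i := stepQ 17781 Q17781 (allL N17781 (tt N13899 F59568) (tt N20502 F68001) (tt N19031 F63209) (tt N17804 (iv F59622)) (tt N20756 (iv F68943)) (tt N17784 (iv F59574)) (tt N13896 (iv D28103)))
theorem Q17783 : ∀ i, i < 17783 → P i := stepQ 17782 Q17782 (allL N17782 (tt N20755 (iv F68935)) (tt N17782 F59569) (tt N20702 (iv F68721)) (tt N17258 F59570) (tt N13898 F59571) (tt N13897 (iv D28104)) (tt N19330 (iv F64075)))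
theorem Q17784 : ∀ i, i < 17784 → P i := stepQ 17783 Q17783 (allL N17783 (tt N20756 (iv F68940)) (tt N19688 (iv F65274)) (tt N19007 F63158) (tt N17259 F59572) (tt N13899 F59573) (tt N19005 (iv F63159)) (tt N13897 (iv D28105)))
theorem Q17785 : ∀ i, i < 17785 → P i := stepQ 17784 Q17784 (allL N17784 (tt N17785 (iv F59575)) (tt N20757 D31110) (tt N20704 (iv F68729)) (tt N17805 (iv F59625)) (tt N19330 (iv F64074)) (tt N17781 F59574) (tt N13898 (iv D28106)))
theorem Q17786 : ∀ i, i < 17786 → P i := stepQ 17785 Q17785 (allL N17785 (tt N17784 F59575) (tt N19780 (iv F65559)) (tt N19006 (iv F63161)) (tt N17806 (iv F59630)) (tt N19005 F63160) (tt N13899 (iv D28107)) (tt N17780 F59576))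
theorem Q17787 : ∀ i, i < 17787 → P i := stepQ 17786 Q17786 (allL N17786 (tt N19271 (iv F63849)) (tt N15639 (iv F59579)) (tt N19243 (iv F63752)) (tt N20203 (iv F67008)) (tt N14144 F59577) (tt N15799 F59578) (tt N13900 (iv D28108)))
theorem Q17788 : ∀ i, i < 17788 → P i := stepQ 17787 Q17787 (allL N17787 (tt N13904 F59580) (tt N19044 (iv F63239)) (tt N13901 (iv D28109)) (tt N15746 F59581) (tt N19635 (iv F65130)) (tt N20752 F68927) (tt N20758 D31111))
theorem Q17789 : ∀ i, i < 17789 → P i := stepQ 17788 Q17788 (allL N17788 (tt N13907 F59582) (tt N20759 D31112) (tt N20758 (iv F68952)) (tt N13903 F59583) (tt N17769 F59584) (tt N17768 F59585) (tt N13901 (iv D28110)))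
theorem Q17790 : ∀ i, i < 17790 → P i := stepQ 17789 Q17789 (allL N17789 (tt N15642 (iv F59589)) (tt N13903 (iv D28111)) (tt N15649 F59586) (tt N20759 (iv F68957)) (tt N14145 F59587) (tt N19327 (iv F64064)) (tt N15639 F59588))
theorem Q17791 : ∀ i, i < 17791 → P i := stepQ 17790 Q17790 (allL N17790 (tt N15746 F59590) (tt N17824 (iv F59699)) (tt N15742 F59591) (tt N13904 (iv D28112)) (tt N20760 D31113) (tt N20761 D31114) (tt N20762 D31115))
theorem Q17792 : ∀ i, i < 17792 → P i := stepQ 17791 Q17791 (allL N17791 (tt N19635 (iv F65129)) (tt N17825 (iv F59701)) (tt N13905 F59592) (tt N20763 D31116) (tt N13904 (iv D28113)) (tt N20746 (iv F68904)) (tt N17774 (iv F59593)))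
theorem Q17793 : ∀ i, i < 17793 → P i := stepQ 17792 Q17792 (allL N17792 (tt N20752 (iv F68922)) (tt N15887 F59595) (tt N13906 F59594) (tt N20761 (iv F68965)) (tt N20746 (iv F68903)) (tt N13904 (iv D28114)) (tt N19434 (iv F64436)))
theorem Q17794 : ∀ i, i < 17794 → P i := stepQ 17793 Q17793 (allL N17793 (tt N20758 (iv F68950)) (tt N20764 D31117) (tt N13907 F59596) (tt N20762 (iv F68969)) (tt N17774 F59597) (tt N17773 (iv F59598)) (tt N13904 (iv D28115)))
theorem Q17795 : ∀ i, i < 17795 → P i := stepQ 17794 Q17794 (allL N17794 (tt N20198 (iv F66986)) (tt N13908 (iv D28116)) (tt N19991 (iv F66291)) (tt N19748 F65461) (tt N14133 F59599) (tt N20765 D31118) (tt N19763 (iv F65516)))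
theorem Q17796 : ∀ i, i < 17796 → P i := stepQ 17795 Q17795 (allL N17795 (tt N13910 F59600) (tt N19808 (iv F65638)) (tt N19805 F65629) (tt N17331 F59601) (tt N13909 (iv D28117)) (tt N20766 D31119) (tt N20767 D31120))
theorem Q17797 : ∀ i, i < 17797 → P i := stepQ 17796 Q17796 (allL N17796 (tt N13911 F59602) (tt N20444 F67817) (tt N19168 F63538) (tt N17818 (iv F59671)) (tt N20766 (iv F68986)) (tt N13909 (iv D28118)) (tt N17801 (iv F59611)))
theorem Q17798 : ∀ i, i < 17798 → P i := stepQ 17797 Q17797 (allL N17797 (tt N13912 F59603) (tt N20465 (iv F67895)) (tt N20734 (iv F68850)) (tt N17819 (iv F59675)) (tt N20767 (iv F68991)) (tt N17800 (iv F59609)) (tt N13909 (iv D28119)))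
theorem Q17799 : ∀ i, i < 17799 → P i := stepQ 17798 Q17798 (allL N17798 (tt N20766 (iv F68983)) (tt N19781 (iv F65553)) (tt N19147 (iv F63488)) (tt N17334 F59604) (tt N13911 F59605) (tt N13910 (iv D28120)) (tt N19144 (iv F63485)))
theorem Q17800 : ∀ i, i < 17800 → P i := stepQ 17799 Q17799 (allL N17799 (tt N20767 (iv F68988)) (tt N17799 F59606) (tt N20735 (iv F68854)) (tt N17335 F59607) (tt N13912 F59608) (tt N19556 (iv F64856)) (tt N13910 (iv D28121)))
theorem Q17801 : ∀ i, i < 17801 → P i := stepQ 17800 Q17800 (allL N17800 (tt N17801 (iv F59610)) (tt N19685 F65560) (tt N19145 (iv F63483)) (tt N17820 (iv F59678)) (tt N19144 F63484) (tt N17797 F59609) (tt N13911 (iv D28122)))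
theorem Q17802 : ∀ i, i < 17802 → P i := stepQ 17801 Q17801 (allL N17801 (tt N17800 F59610) (tt N20768 D31121) (tt N20737 (iv F68862)) (tt N17821 (iv F59683)) (tt N19556 (iv F64855)) (tt N13912 (iv D28123)) (tt N17796 F59611))
theorem Q17803 : ∀ i, i < 17803 → P i := stepQ 17802 Q17802 (allL N17802 (tt N17211 F59612) (tt N13913 (iv D28124)) (tt N17323 F59613) (tt N17209 F59614) (tt N17351 F59615) (tt N20769 D31122) (tt N20770 D31123))
theorem Q17804 : ∀ i, i < 17804 → P i := stepQ 17803 Q17803 (allL N17803 (tt N13914 F59616) (tt N20771 D31124) (tt N16174 F59617) (tt N17780 F59618) (tt N17352 F59619) (tt N13913 (iv D28125)) (tt N17806 (iv F59632)))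
theorem Q17805 : ∀ i, i < 17805 → P i := stepQ 17804 Q17804 (allL N17804 (tt N13915 F59620) (tt N20772 D31125) (tt N16175 F59621) (tt N17781 F59622) (tt N17353 F59623) (tt N17805 (iv F59627)) (tt N13913 (iv D28126)))
theorem Q17806 : ∀ i, i < 17806 → P i := stepQ 17805 Q17805 (allL N17805 (tt N17806 (iv F59628)) (tt N18847 (iv F62704)) (tt N16180 F59624) (tt N17784 F59625) (tt N17354 F59626) (tt N17804 F59627) (tt N13914 (iv D28127)))
theorem Q17807 : ∀ i, i < 17807 → P i := stepQ 17806 Q17806 (allL N17806 (tt N17805 F59628) (tt N19875 F65864) (tt N16181 F59629) (tt N17785 F59630) (tt N17355 F59631) (tt N13915 (iv D28128)) (tt N17803 F59632))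
theorem Q17808 : ∀ i, i < 17808 → P i := stepQ 17807 Q17807 (allL N17807 (tt N13918 F59633) (tt N15733 F59634) (tt N13916 (iv D28129)) (tt N20773 D31126) (tt N15734 (iv F59635)) (tt N20774 D31127) (tt N17826 F61427))
theorem Q17809 : ∀ i, i < 17809 → P i := stepQ 17808 Q17808 (allL N17808 (tt N13919 F59636) (tt N15735 F59637) (tt N15734 F59638) (tt N17357 F59639) (tt N13916 (iv D28130)) (tt N20775 D31128) (tt N17827 (iv F61421)))
theorem Q17810 : ∀ i, i < 17810 → P i := stepQ 17809 Q17809 (allL N17809 (tt N13920 F59640) (tt N20776 D31129) (tt N20774 (iv F69019)) (tt N13917 F59641) (tt N20775 (iv F69025)) (tt N13916 (iv D28131)) (tt N13925 (iv F61390)))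
theorem Q17811 : ∀ i, i < 17811 → P i := stepQ 17810 Q17810 (allL N17810 (tt N20777 D31130) (tt N13917 (iv D28133)) (tt N20778 D31131) (tt N20776 (iv F69027)) (tt N17359 F59644) (tt N18883 (iv F62799)) (tt N18938 (iv F62959)))
theorem Q17812 : ∀ i, i < 17812 → P i := stepQ 17811 Q17811 (allL N17811 (tt N20773 (iv F69014)) (tt N17772 F59646) (tt N20773 (iv F69016)) (tt N13918 (iv D28135)) (tt N20779 D31132) (tt N20780 D31133) (tt N20781 D31134))
theorem Q17813 : ∀ i, i < 17813 → P i := stepQ 17812 Q17812 (allL N17812 (tt N15734 F59647) (tt N17773 F59648) (tt N13919 F59649) (tt N19077 (iv F63309)) (tt N13918 (iv D28136)) (tt N20782 D31135) (tt N19623 (iv F65091)))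
theorem Q17814 : ∀ i, i < 17814 → P i := stepQ 17813 Q17813 (allL N17813 (tt N20774 (iv F69017)) (tt N20783 D31136) (tt N13920 F59650) (tt N20780 (iv F69032)) (tt N20782 (iv F69037)) (tt N13918 (iv D28137)) (tt N13926 F61386))
theorem Q17815 : ∀ i, i < 17815 → P i := stepQ 17814 Q17814 (allL N17814 (tt N17826 (iv F61426)) (tt N19344 (iv F64379)) (tt N13921 F59651) (tt N20781 (iv F69034)) (tt N19623 (iv F65090)) (tt N17822 F61425) (tt N13918 (iv D28138)))
theorem Q17816 : ∀ i, i < 17816 → P i := stepQ 17815 Q17815 (allL N17815 (tt N20775 (iv F69022)) (tt N17815 F59652) (tt N20782 (iv F69036)) (tt N17364 F59653) (tt N13920 F59654) (tt N13919 (iv D28139)) (tt N13927 F61387))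
theorem Q17817 : ∀ i, i < 17817 → P i := stepQ 17816 Q17816 (allL N17816 (tt N17827 F61420) (tt N19868 (iv F65837)) (tt N19623 (iv F65088)) (tt N17365 F59655) (tt N13921 F59656) (tt N17823 (iv F61419)) (tt N13919 (iv D28140)))
theorem Q17818 : ∀ i, i < 17818 → P i := stepQ 17817 Q17817 (allL N17817 (tt N17287 F59665) (tt N13922 (iv D28145)) (tt N17247 F59666) (tt N17285 F59667) (tt N17379 F59668) (tt N20784 D31137) (tt N20785 D31138))
theorem Q17819 : ∀ i, i < 17819 → P i := stepQ 17818 Q17818 (allL N17818 (tt N13923 F59669) (tt N20786 D31139) (tt N16159 F59670) (tt N17796 F59671) (tt N17380 F59672) (tt N13922 (iv D28146)) (tt N17821 (iv F59685)))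
theorem Q17820 : ∀ i, i < 17820 → P i := stepQ 17819 Q17819 (allL N17819 (tt N13924 F59673) (tt N20787 D31140) (tt N16160 F59674) (tt N17797 F59675) (tt N17381 F59676) (tt N17820 (iv F59680)) (tt N13922 (iv D28147)))
theorem Q17821 : ∀ i, i < 17821 → P i := stepQ 17820 Q17820 (allL N17820 (tt N17821 (iv F59681)) (tt N19855 F65806) (tt N16165 F59677) (tt N17800 F59678) (tt N17382 F59679) (tt N17819 F59680) (tt N13923 (iv D28148)))
theorem Q17822 : ∀ i, i < 17822 → P i := stepQ 17821 Q17821 (allL N17821 (tt N17820 F59681) (tt N18902 (iv F62852)) (tt N16166 F59682) (tt N17801 F59683) (tt N17383 F59684) (tt N13924 (iv D28149)) (tt N17818 F59685))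
theorem Q17823 : ∀ i, i < 17823 → P i := stepQ 17822 Q17822 (allL N17822 (tt N13926 F59686) (tt N15958 F59687) (tt N13925 (iv D28150)) (tt N20788 D31141) (tt N15959 (iv F59688)) (tt N17814 (iv F61425)) (tt N20774 (iv F69021)))
theorem Q17824 : ∀ i, i < 17824 → P i := stepQ 17823 Q17823 (allL N17823 (tt N13927 F59689) (tt N15960 F59690) (tt N15959 F59691) (tt N17385 F59692) (tt N13925 (iv D28151)) (tt N17816 F61419) (tt N20775 (iv F69026)))
theorem Q17825 : ∀ i, i < 17825 → P i := stepQ 17824 Q17824 (allL N17824 (tt N20788 (iv F69062)) (tt N17790 F59699) (tt N20788 (iv F69065)) (tt N13926 (iv D28156)) (tt N20789 D31142) (tt N20790 D31143) (tt N20780 F69033))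
theorem Q17826 : ∀ i, i < 17826 → P i := stepQ 17825 Q17825 (allL N17825 (tt N15959 F59700) (tt N17791 F59701) (tt N13927 F59702) (tt N19211 (iv F63656)) (tt N13926 (iv D28157)) (tt N19421 (iv F64353)) (tt N20782 (iv F69038)))
theorem Q17827 : ∀ i, i < 17827 → P i := stepQ 17826 Q17826 (allL N17826 (tt N17814 F61426) (tt N19563 (iv F64878)) (tt N13928 F59703) (tt N20790 (iv F69069)) (tt N19421 (iv F64352)) (tt N13926 (iv D28158)) (tt N17807 (iv F61427)))
theorem Q17828 : ∀ i, i < 17828 → P i := stepQ 17827 Q17827 (allL N17827 (tt N17816 (iv F61420)) (tt N19885 (iv F65890)) (tt N19421 (iv F64350)) (tt N17389 F59705) (tt N13928 F59706) (tt N13927 (iv D28160)) (tt N17808 F61421))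
theorem Q17829 : ∀ i, i < 17829 → P i := stepQ 17828 Q17828 (allL N17828 (tt N17454 F59718) (tt N13930 (iv D28166)) (tt N17829 (iv F59722)) (tt N14017 F59719) (tt N20671 (iv F68596)) (tt N17858 (iv F59834)) (tt N14015 F59720))
theorem Q17830 : ∀ i, i < 17830 → P i := stepQ 17829 Q17829 (allL N17829 (tt N17479 F59721) (tt N13933 (iv D28167)) (tt N17828 F59722) (tt N13997 F59723) (tt N20646 (iv F68512)) (tt N13996 F59724) (tt N17870 (iv F59874)))
theorem Q17831 : ∀ i, i < 17831 → P i := stepQ 17830 Q17830 (allL N17830 (tt N16668 F59725) (tt N17082 F59726) (tt N16667 F59727) (tt N20632 (iv F68459)) (tt N13936 F59728) (tt N13935 (iv D28168)) (tt N16674 F59729))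
theorem Q17832 : ∀ i, i < 17832 → P i := stepQ 17831 Q17831 (allL N17831 (tt N17925 (iv F60080)) (tt N16298 F59730) (tt N13948 F59731) (tt N16297 F59732) (tt N20637 (iv F68476)) (tt N13943 (iv D28169)) (tt N17914 (iv F60043)))
theorem Q17833 : ∀ i, i < 17833 → P i := stepQ 17832 Q17832 (allL N17832 (tt N14714 F59733) (tt N13946 (iv D28170)) (tt N14733 F59734) (tt N17850 (iv F59809)) (tt N20641 (iv F68489)) (tt N17839 (iv F59764)) (tt N16356 F59735))
theorem Q17834 : ∀ i, i < 17834 → P i := stepQ 17833 Q17833 (allL N17833 (tt N14981 F59736) (tt N13950 F59737) (tt N14932 F59738) (tt N16866 F59739) (tt N13947 (iv D28171)) (tt N14930 F59740) (tt N13992 F59741))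
theorem Q17835 : ∀ i, i < 17835 → P i := stepQ 17834 Q17834 (allL N17834 (tt N14146 F59742) (tt N13948 (iv D28172)) (tt N15021 (iv F59746)) (tt N15022 F59743) (tt N20642 (iv F68493)) (tt N13952 F59744) (tt N15021 F59745))
theorem Q17836 : ∀ i, i < 17836 → P i := stepQ 17835 Q17835 (allL N17835 (tt N16306 F59747) (tt N17901 (iv F59989)) (tt N17914 F60044) (tt N17944 (iv F60156)) (tt N20643 (iv F68499)) (tt N16304 F59748) (tt N13948 (iv D28173)))
theorem Q17837 : ∀ i, i < 17837 → P i := stepQ 17836 Q17836 (allL N17836 (tt N13952 (iv D28174)) (tt N14711 F59749) (tt N17837 (iv F59755)) (tt N16642 F59750) (tt N20644 (iv F68503)) (tt N14146 F59751) (tt N17559 (iv F59752)))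
theorem Q17838 : ∀ i, i < 17838 → P i := stepQ 17837 Q17837 (allL N17837 (tt N17559 F59753) (tt N16354 F59754) (tt N17836 F59755) (tt N18571 (iv F62032)) (tt N20645 (iv F68509)) (tt N17929 (iv F60100)) (tt N13952 (iv D28175)))
theorem Q17839 : ∀ i, i < 17839 → P i := stepQ 17838 Q17838 (allL N17838 (tt N13993 F59756) (tt N13957 (iv D28176)) (tt N13995 (iv F59761)) (tt N13958 F59757) (tt N13997 F59758) (tt N13980 F59759) (tt N14918 F59760))
theorem Q17840 : ∀ i, i < 17840 → P i := stepQ 17839 Q17839 (allL N17839 (tt N13958 (iv D28177)) (tt N13994 F59762) (tt N18531 (iv F61885)) (tt N13993 F59763) (tt N20647 (iv F68517)) (tt N17832 F59764) (tt N16357 F59765))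
theorem Q17841 : ∀ i, i < 17841 → P i := stepQ 17840 Q17840 (allL N17840 (tt N16650 F59766) (tt N17167 F59767) (tt N16649 F59768) (tt N20659 (iv F68549)) (tt N13960 F59769) (tt N16656 F59770) (tt N13959 (iv D28178)))
theorem Q17842 : ∀ i, i < 17842 → P i := stepQ 17841 Q17841 (allL N17841 (tt N17924 (iv F60075)) (tt N16451 F59771) (tt N13969 F59772) (tt N16450 F59773) (tt N20663 (iv F68563)) (tt N17892 (iv F59959)) (tt N13965 (iv D28179)))
theorem Q17843 : ∀ i, i < 17843 → P i := stepQ 17842 Q17842 (allL N17842 (tt N14733 F59774) (tt N13967 (iv D28180)) (tt N14714 F59775) (tt N17852 (iv F59815)) (tt N20666 (iv F68572)) (tt N16496 F59776) (tt N17849 (iv F59806)))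
theorem Q17844 : ∀ i, i < 17844 → P i := stepQ 17843 Q17843 (allL N17843 (tt N14932 F59777) (tt N13971 F59778) (tt N14981 F59779) (tt N16857 F59780) (tt N13968 (iv D28181)) (tt N14011 F59781) (tt N14978 F59782))
theorem Q17845 : ∀ i, i < 17845 → P i := stepQ 17844 Q17844 (allL N17844 (tt N14137 F59783) (tt N13969 (iv D28182)) (tt N15009 (iv F59787)) (tt N15010 F59784) (tt N20667 (iv F68576)) (tt N15009 (iv F59786)) (tt N13973 F59785))
theorem Q17846 : ∀ i, i < 17846 → P i := stepQ 17845 Q17845 (allL N17845 (tt N16455 F59788) (tt N17923 (iv F60073)) (tt N17892 F59960) (tt N17934 (iv F60114)) (tt N20668 (iv F68582)) (tt N13969 (iv D28183)) (tt N16453 F59789))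
theorem Q17847 : ∀ i, i < 17847 → P i := stepQ 17846 Q17846 (allL N17846 (tt N13973 (iv D28184)) (tt N14730 F59790) (tt N17847 (iv F59796)) (tt N16637 F59791) (tt N20669 (iv F68586)) (tt N17558 F59793) (tt N14137 F59792))
theorem Q17848 : ∀ i, i < 17848 → P i := stepQ 17847 Q17847 (allL N17847 (tt N17558 F59794) (tt N16494 F59795) (tt N17846 F59796) (tt N18557 (iv F61985)) (tt N20670 (iv F68592)) (tt N13973 (iv D28185)) (tt N17926 (iv F60088)))
theorem Q17849 : ∀ i, i < 17849 → P i := stepQ 17848 Q17848 (allL N17848 (tt N14012 F59797) (tt N13977 (iv D28186)) (tt N14014 F59798) (tt N13978 F59799) (tt N14017 F59800) (tt N14966 F59801) (tt N13984 F59802))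
theorem Q17850 : ∀ i, i < 17850 → P i := stepQ 17849 Q17849 (allL N17849 (tt N13978 (iv D28187)) (tt N14013 F59803) (tt N18529 (iv F61878)) (tt N14012 F59804) (tt N20672 (iv F68601)) (tt N16497 F59805) (tt N17842 F59806))
theorem Q17851 : ∀ i, i < 17851 → P i := stepQ 17850 Q17850 (allL N17850 (tt N13980 (iv D28188)) (tt N14183 F59807) (tt N13997 F59808) (tt N17832 F59809) (tt N13995 F59810) (tt N13993 F59811) (tt N18586 (iv F62086)))
theorem Q17852 : ∀ i, i < 17852 → P i := stepQ 17851 Q17851 (allL N17851 (tt N18586 (iv F62081)) (tt N19980 (iv F66246)) (tt N17861 (iv F59840)) (tt N18529 (iv F61879)) (tt N13998 F59812) (tt N17855 (iv F59826)) (tt N13980 (iv D28189)))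
theorem Q17853 : ∀ i, i < 17853 → P i := stepQ 17852 Q17852 (allL N17852 (tt N13984 (iv D28190)) (tt N14163 F59813) (tt N14017 F59814) (tt N17842 F59815) (tt N14014 F59816) (tt N18587 (iv F62090)) (tt N14012 F59817))
theorem Q17854 : ∀ i, i < 17854 → P i := stepQ 17853 Q17853 (allL N17853 (tt N18587 (iv F62092)) (tt N20017 (iv F66387)) (tt N17873 (iv F59880)) (tt N18531 (iv F61886)) (tt N14016 F59818) (tt N13984 (iv D28191)) (tt N17867 (iv F59866)))
theorem Q17855 : ∀ i, i < 17855 → P i := stepQ 17854 Q17854 (allL N17854 (tt N13991 F59819) (tt N16942 F59820) (tt N17886 (iv F59934)) (tt N18124 (iv F60639)) (tt N13990 (iv D28192)) (tt N14972 F59821) (tt N13999 F59822))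
theorem Q17856 : ∀ i, i < 17856 → P i := stepQ 17855 Q17855 (allL N17855 (tt N14918 F59823) (tt N17951 (iv F60188)) (tt N13998 F59824) (tt N16357 F59825) (tt N17861 (iv F59841)) (tt N17851 F59826) (tt N13993 (iv D28193)))
theorem Q17857 : ∀ i, i < 17857 → P i := stepQ 17856 Q17856 (allL N17856 (tt N14191 F59827) (tt N20647 (iv F68515)) (tt N18440 (iv F61595)) (tt N17478 F59828) (tt N13994 (iv D28194)) (tt N14186 F59829) (tt N17950 (iv F60185)))
theorem Q17858 : ∀ i, i < 17858 → P i := stepQ 17857 Q17857 (allL N17857 (tt N13996 F59830) (tt N17477 F59831) (tt N20590 (iv F68306)) (tt N13995 (iv D28195)) (tt N20791 D31144) (tt N17479 F59832) (tt N18538 (iv F61920)))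
theorem Q17859 : ∀ i, i < 17859 → P i := stepQ 17858 Q17858 (allL N17858 (tt N20590 (iv F68304)) (tt N17500 F59833) (tt N13996 (iv D28196)) (tt N17499 (iv F59835)) (tt N19591 (iv F64971)) (tt N17828 F59834) (tt N18534 (iv F61901)))
theorem Q17860 : ∀ i, i < 17860 → P i := stepQ 17859 Q17859 (allL N17859 (tt N20791 (iv F69071)) (tt N13999 F59836) (tt N19591 (iv F64969)) (tt N18123 (iv F60634)) (tt N13996 (iv D28197)) (tt N20646 (iv F68513)) (tt N20792 D31145))
theorem Q17861 : ∀ i, i < 17861 → P i := stepQ 17860 Q17860 (allL N17860 (tt N18538 (iv F61916)) (tt N16742 F59837) (tt N18534 (iv F61898)) (tt N13998 F59838) (tt N20792 (iv F69076)) (tt N20594 (iv F68321)) (tt N13996 (iv D28198)))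
theorem Q17862 : ∀ i, i < 17862 → P i := stepQ 17861 Q17861 (allL N17861 (tt N17504 F59839) (tt N16678 F59843) (tt N17851 F59840) (tt N20594 (iv F68320)) (tt N17855 F59841) (tt N13998 (iv D28199)) (tt N16679 F59842))
theorem Q17863 : ∀ i, i < 17863 → P i := stepQ 17862 Q17862 (allL N17862 (tt N14004 F59844) (tt N17576 (iv F59849)) (tt N14782 F59845) (tt N16281 F59846) (tt N14000 F59847) (tt N13999 (iv D28200)) (tt N16307 F59848))
theorem Q17864 : ∀ i, i < 17864 → P i := stepQ 17863 Q17863 (allL N17863 (tt N17899 (iv F59987)) (tt N19410 F64314) (tt N20793 D31146) (tt N14002 (iv D28201)) (tt N17894 (iv F59969)) (tt N20794 D31147) (tt N20197 (iv F66985)))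
theorem Q17865 : ∀ i, i < 17865 → P i := stepQ 17864 Q17864 (allL N17864 (tt N14782 F59850) (tt N16941 F59851) (tt N14004 F59852) (tt N20794 (iv F69081)) (tt N14003 F59853) (tt N14002 (iv D28202)) (tt N17054 F59854))
theorem Q17866 : ∀ i, i < 17866 → P i := stepQ 17865 Q17865 (allL N17865 (tt N17492 F59855) (tt N14004 (iv D28203)) (tt N18594 (iv F62110)) (tt N18125 (iv F60645)) (tt N14005 F59856) (tt N17490 F59857) (tt N16950 F59858))
theorem Q17867 : ∀ i, i < 17867 → P i := stepQ 17866 Q17866 (allL N17866 (tt N14010 F59859) (tt N16957 F59860) (tt N17909 (iv F60022)) (tt N18176 (iv F60795)) (tt N14009 (iv D28204)) (tt N14018 F59861) (tt N14924 F59862))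
theorem Q17868 : ∀ i, i < 17868 → P i := stepQ 17867 Q17867 (allL N17867 (tt N14966 F59863) (tt N17941 (iv F60146)) (tt N14016 F59864) (tt N16497 F59865) (tt N17873 (iv F59881)) (tt N14012 (iv D28205)) (tt N17853 F59866))
theorem Q17869 : ∀ i, i < 17869 → P i := stepQ 17868 Q17868 (allL N17868 (tt N14171 F59867) (tt N20672 (iv F68599)) (tt N18378 (iv F61445)) (tt N17453 F59868) (tt N14013 (iv D28206)) (tt N17940 (iv F60143)) (tt N14165 F59869))
theorem Q17870 : ∀ i, i < 17870 → P i := stepQ 17869 Q17869 (allL N17869 (tt N14015 F59870) (tt N17452 F59871) (tt N20594 (iv F68319)) (tt N14014 (iv D28207)) (tt N20795 D31148) (tt N18534 (iv F61900)) (tt N17454 F59872))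
theorem Q17871 : ∀ i, i < 17871 → P i := stepQ 17870 Q17870 (allL N17870 (tt N20594 (iv F68317)) (tt N17505 F59873) (tt N14015 (iv D28208)) (tt N17504 (iv F59875)) (tt N19376 (iv F64207)) (tt N18538 (iv F61919)) (tt N17829 F59874))
theorem Q17872 : ∀ i, i < 17872 → P i := stepQ 17871 Q17871 (allL N17871 (tt N20795 (iv F69084)) (tt N14018 F59876) (tt N19376 (iv F64205)) (tt N18175 (iv F60790)) (tt N14015 (iv D28209)) (tt N20796 D31149) (tt N20671 (iv F68598)))
theorem Q17873 : ∀ i, i < 17873 → P i := stepQ 17872 Q17872 (allL N17872 (tt N18534 (iv F61897)) (tt N16740 F59877) (tt N18538 (iv F61917)) (tt N14016 F59878) (tt N20796 (iv F69089)) (tt N14015 (iv D28210)) (tt N20590 (iv F68308)))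
theorem Q17874 : ∀ i, i < 17874 → P i := stepQ 17873 Q17873 (allL N17873 (tt N17499 F59879) (tt N16660 (iv F59883)) (tt N17853 F59880) (tt N20590 (iv F68307)) (tt N17867 F59881) (tt N16661 F59882) (tt N14016 (iv D28211)))
theorem Q17875 : ∀ i, i < 17875 → P i := stepQ 17874 Q17874 (allL N17874 (tt N14023 F59884) (tt N17604 (iv F59889)) (tt N14816 F59885) (tt N16436 F59886) (tt N14019 F59887) (tt N16456 F59888) (tt N14018 (iv D28212)))
theorem Q17876 : ∀ i, i < 17876 → P i := stepQ 17875 Q17875 (allL N17875 (tt N17921 (iv F60071)) (tt N19616 F65060) (tt N20797 D31150) (tt N14021 (iv D28213)) (tt N17916 (iv F60053)) (tt N20180 (iv F66928)) (tt N20798 D31151))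
theorem Q17877 : ∀ i, i < 17877 → P i := stepQ 17876 Q17876 (allL N17876 (tt N14816 F59890) (tt N16956 F59891) (tt N14023 F59892) (tt N20798 (iv F69094)) (tt N14022 F59893) (tt N17143 F59894) (tt N14021 (iv D28214)))
theorem Q17878 : ∀ i, i < 17878 → P i := stepQ 17877 Q17877 (allL N17877 (tt N17483 F59895) (tt N14023 (iv D28215)) (tt N18583 (iv F62068)) (tt N18177 (iv F60801)) (tt N14024 F59896) (tt N16965 F59897) (tt N17481 F59898))
theorem Q17879 : ∀ i, i < 17879 → P i := stepQ 17878 Q17878 (allL N17878 (tt N14034 F59899) (tt N18352 (iv F61311)) (tt N14027 (iv D28216)) (tt N17640 F59902) (tt N16872 F59900) (tt N16683 F59901) (tt N20109 (iv F66672)))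
theorem Q17880 : ∀ i, i < 17880 → P i := stepQ 17879 Q17879 (allL N17879 (tt N17230 F59903) (tt N19933 (iv F66073)) (tt N14938 F59904) (tt N14499 F59905) (tt N14033 F59906) (tt N14032 (iv D28217)) (tt N14742 F59907))
theorem Q17881 : ∀ i, i < 17881 → P i := stepQ 17880 Q17880 (allL N17880 (tt N17640 F59908) (tt N17966 (iv F60231)) (tt N17628 F59909) (tt N14034 (iv D28218)) (tt N18082 (iv F60527)) (tt N16685 F59910) (tt N20799 D31152))
theorem Q17882 : ∀ i, i < 17882 → P i := stepQ 17881 Q17881 (allL N17881 (tt N20109 (iv F66669)) (tt N18786 F62588) (tt N14035 F59911) (tt N20799 (iv F69099)) (tt N16874 F59912) (tt N20104 (iv F66652)) (tt N14034 (iv D28219)))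
theorem Q17883 : ∀ i, i < 17883 → P i := stepQ 17882 Q17882 (allL N17882 (tt N16927 F59913) (tt N14035 (iv D28220)) (tt N20800 D31153) (tt N14036 F59914) (tt N16875 F59915) (tt N16976 F59916) (tt N16680 F59917))
theorem Q17884 : ∀ i, i < 17884 → P i := stepQ 17883 Q17883 (allL N17883 (tt N14040 F59918) (tt N16225 F59919) (tt N14039 F59920) (tt N17408 F59921) (tt N20689 (iv F68662)) (tt N16558 F59922) (tt N14038 (iv D28221)))
theorem Q17885 : ∀ i, i < 17885 → P i := stepQ 17884 Q17884 (allL N17884 (tt N16301 F59923) (tt N14043 (iv D28222)) (tt N16304 F59924) (tt N16434 F59925) (tt N20606 (iv F68379)) (tt N17914 (iv F60042)) (tt N16438 F59926))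
theorem Q17886 : ∀ i, i < 17886 → P i := stepQ 17885 Q17885 (allL N17885 (tt N14052 F59927) (tt N15727 F59928) (tt N14050 F59929) (tt N20801 D31154) (tt N14049 (iv D28223)) (tt N14538 F59930) (tt N14069 F59931))
theorem Q17887 : ∀ i, i < 17887 → P i := stepQ 17886 Q17886 (allL N17886 (tt N16828 F59932) (tt N17047 F59933) (tt N17854 F59934) (tt N20802 D31155) (tt N14051 (iv D28224)) (tt N17054 F59935) (tt N14075 F59936))
theorem Q17888 : ∀ i, i < 17888 → P i := stepQ 17887 Q17887 (allL N17887 (tt N20801 (iv F69104)) (tt N17648 F59937) (tt N17718 (iv F61370)) (tt N14052 (iv D28225)) (tt N20802 (iv F69112)) (tt N20803 D31156) (tt N14076 F59938))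
theorem Q17889 : ∀ i, i < 17889 → P i := stepQ 17888 Q17888 (allL N17888 (tt N14538 F59939) (tt N16120 F59940) (tt N14054 F59941) (tt N20803 (iv F69119)) (tt N14053 F59942) (tt N14052 (iv D28226)) (tt N14548 F59943))
theorem Q17890 : ∀ i, i < 17890 → P i := stepQ 17889 Q17889 (allL N17889 (tt N14055 (iv D28227)) (tt N16255 F59944) (tt N14096 F59945) (tt N17412 F59946) (tt N20696 (iv F68691)) (tt N14095 F59947) (tt N16593 F59948))
theorem Q17891 : ∀ i, i < 17891 → P i := stepQ 17890 Q17890 (allL N17890 (tt N14793 F59949) (tt N14058 F59950) (tt N16836 F59951) (tt N17220 F59952) (tt N14056 (iv D28228)) (tt N18542 (iv F61938)) (tt N19920 (iv F66018)))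
theorem Q17892 : ∀ i, i < 17892 → P i := stepQ 17891 Q17891 (allL N17891 (tt N14806 F59953) (tt N17191 (iv F59956)) (tt N20089 (iv F66592)) (tt N20698 (iv F68701)) (tt N14059 F59954) (tt N17219 F59955) (tt N14058 (iv D28229)))
theorem Q17893 : ∀ i, i < 17893 → P i := stepQ 17892 Q17892 (allL N17892 (tt N14133 F59957) (tt N14061 F59958) (tt N17845 (iv F59960)) (tt N14060 (iv D28230)) (tt N20198 (iv F66988)) (tt N17841 F59959) (tt N17907 (iv F60014)))
theorem Q17894 : ∀ i, i < 17894 → P i := stepQ 17893 Q17893 (allL N17893 (tt N17731 F59961) (tt N15703 F59962) (tt N14065 F59963) (tt N17436 F59964) (tt N14064 (iv D28231)) (tt N14065 F59965) (tt N17728 F59966))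
theorem Q17895 : ∀ i, i < 17895 → P i := stepQ 17894 Q17894 (allL N17894 (tt N14076 F59967) (tt N15725 F59968) (tt N18797 (iv F62610)) (tt N14069 (iv D28232)) (tt N17863 F59969) (tt N18358 (iv F61331)) (tt N20801 (iv F69109)))
theorem Q17896 : ∀ i, i < 17896 → P i := stepQ 17895 Q17895 (allL N17895 (tt N14073 F59970) (tt N14483 F59971) (tt N14138 F59972) (tt N20804 D31157) (tt N14071 (iv D28233)) (tt N14560 F59973) (tt N14662 F59974))
theorem Q17897 : ∀ i, i < 17897 → P i := stepQ 17896 Q17896 (allL N17896 (tt N17228 F59975) (tt N14075 F59976) (tt N15917 F59977) (tt N20805 D31158) (tt N14072 (iv D28234)) (tt N14785 F59978) (tt N15914 F59979))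
theorem Q17898 : ∀ i, i < 17898 → P i := stepQ 17897 Q17897 (allL N17897 (tt N20804 (iv F69122)) (tt N14076 F59980) (tt N20806 D31159) (tt N14073 (iv D28235)) (tt N20805 (iv F69131)) (tt N14558 F59981) (tt N20807 D31160))
theorem Q17899 : ∀ i, i < 17899 → P i := stepQ 17898 Q17898 (allL N17898 (tt N14662 F59982) (tt N17652 F59983) (tt N14142 F59984) (tt N20807 (iv F69143)) (tt N14074 F59985) (tt N14661 F59986) (tt N14073 (iv D28236)))
theorem Q17900 : ∀ i, i < 17900 → P i := stepQ 17899 Q17899 (allL N17899 (tt N17863 F59987) (tt N20805 (iv F69129)) (tt N20808 D31161) (tt N14075 (iv D28237)) (tt N14076 F59988) (tt N18357 F61329) (tt N20802 (iv F69114)))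
theorem Q17901 : ∀ i, i < 17901 → P i := stepQ 17900 Q17900 (allL N17900 (tt N18797 (iv F62608)) (tt N17717 (iv F61372)) (tt N14076 (iv D28238)) (tt N18796 F62605) (tt N20808 (iv F69147)) (tt N18359 (iv F61332)) (tt N17718 F61371))
theorem Q17902 : ∀ i, i < 17902 → P i := stepQ 17901 Q17901 (allL N17901 (tt N18609 (iv F62165)) (tt N17835 F59989) (tt N14080 F59990) (tt N18605 (iv F62154)) (tt N20711 (iv F68761)) (tt N14079 (iv D28239)) (tt N18609 (iv F62169)))
theorem Q17903 : ∀ i, i < 17903 → P i := stepQ 17902 Q17902 (allL N17902 (tt N14091 F59991) (tt N18414 (iv F61529)) (tt N14084 (iv D28240)) (tt N17712 F59994) (tt N16879 F59992) (tt N20117 (iv F66706)) (tt N16689 F59993))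
theorem Q17904 : ∀ i, i < 17904 → P i := stepQ 17903 Q17903 (allL N17903 (tt N17306 F59995) (tt N19992 (iv F66296)) (tt N14986 F59996) (tt N14450 F59997) (tt N14090 F59998) (tt N14763 F59999) (tt N14089 (iv D28241)))
theorem Q17905 : ∀ i, i < 17905 → P i := stepQ 17904 Q17904 (allL N17904 (tt N17712 F60000) (tt N17969 (iv F60240)) (tt N17700 F60001) (tt N14091 (iv D28242)) (tt N18136 (iv F60689)) (tt N20809 D31162) (tt N16691 F60002))
theorem Q17906 : ∀ i, i < 17906 → P i := stepQ 17905 Q17905 (allL N17905 (tt N20117 (iv F66703)) (tt N18837 F62680) (tt N14092 F60003) (tt N20809 (iv F69152)) (tt N16881 F60004) (tt N14091 (iv D28243)) (tt N20112 (iv F66686)))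
theorem Q17907 : ∀ i, i < 17907 → P i := stepQ 17906 Q17906 (allL N17906 (tt N16915 F60005) (tt N14092 (iv D28244)) (tt N20810 D31163) (tt N14093 F60006) (tt N16882 F60007) (tt N16681 F60008) (tt N17000 F60009))
theorem Q17908 : ∀ i, i < 17908 → P i := stepQ 17907 Q17907 (allL N17907 (tt N16299 F60010) (tt N14100 (iv D28245)) (tt N16453 F60011) (tt N16279 F60012) (tt N20605 (iv F68373)) (tt N16283 F60013) (tt N17892 F60014))
theorem Q17909 : ∀ i, i < 17909 → P i := stepQ 17908 Q17908 (allL N17908 (tt N14106 F60015) (tt N15953 F60016) (tt N14104 F60017) (tt N20811 D31164) (tt N14103 (iv D28246)) (tt N14120 F60018) (tt N14589 F60019))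
theorem Q17910 : ∀ i, i < 17910 → P i := stepQ 17909 Q17909 (allL N17909 (tt N16802 F60020) (tt N17137 F60021) (tt N17866 F60022) (tt N20812 D31165) (tt N14105 (iv D28247)) (tt N14126 F60023) (tt N17143 F60024))
theorem Q17911 : ∀ i, i < 17911 → P i := stepQ 17910 Q17910 (allL N17910 (tt N20811 (iv F69157)) (tt N17649 (iv F61365)) (tt N17646 F61367) (tt N14106 (iv D28248)) (tt N20812 (iv F69165)) (tt N14127 F60026) (tt N20813 D31166))
theorem Q17912 : ∀ i, i < 17912 → P i := stepQ 17911 Q17911 (allL N17911 (tt N14589 F60027) (tt N16044 F60028) (tt N14108 F60029) (tt N20813 (iv F69172)) (tt N14107 F60030) (tt N14598 F60031) (tt N14106 (iv D28249)))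
theorem Q17913 : ∀ i, i < 17913 → P i := stepQ 17912 Q17912 (allL N17912 (tt N14825 F60032) (tt N14111 F60033) (tt N16843 F60034) (tt N17296 F60035) (tt N14109 (iv D28250)) (tt N19981 (iv F66253)) (tt N18550 (iv F61964)))
theorem Q17914 : ∀ i, i < 17914 → P i := stepQ 17913 Q17913 (allL N17913 (tt N14838 F60036) (tt N17267 (iv F60039)) (tt N20097 (iv F66625)) (tt N20731 (iv F68834)) (tt N14112 F60037) (tt N14111 (iv D28251)) (tt N17295 F60038))
theorem Q17915 : ∀ i, i < 17915 → P i := stepQ 17914 Q17914 (allL N17914 (tt N14136 F60040) (tt N14114 F60041) (tt N17835 (iv F60044)) (tt N14113 (iv D28252)) (tt N20202 (iv F67005)) (tt N17884 F60042) (tt N17831 F60043))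
theorem Q17916 : ∀ i, i < 17916 → P i := stepQ 17915 Q17915 (allL N17915 (tt N17661 F60045) (tt N15933 F60046) (tt N14118 F60047) (tt N17461 F60048) (tt N14117 (iv D28253)) (tt N17659 F60049) (tt N14118 F60050))
theorem Q17917 : ∀ i, i < 17917 → P i := stepQ 17916 Q17916 (allL N17916 (tt N14127 F60051) (tt N15952 F60052) (tt N18746 (iv F62525)) (tt N14120 (iv D28254)) (tt N17875 F60053) (tt N20811 (iv F69161)) (tt N18420 (iv F61549)))
theorem Q17918 : ∀ i, i < 17918 → P i := stepQ 17917 Q17917 (allL N17917 (tt N14124 F60054) (tt N14532 F60055) (tt N14147 F60056) (tt N20814 D31167) (tt N14122 (iv D28255)) (tt N14694 F60057) (tt N14614 F60058))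
theorem Q17919 : ∀ i, i < 17919 → P i := stepQ 17918 Q17918 (allL N17918 (tt N17304 F60059) (tt N14126 F60060) (tt N15687 F60061) (tt N20815 D31168) (tt N14123 (iv D28256)) (tt N15684 F60062) (tt N14822 F60063))
theorem Q17920 : ∀ i, i < 17920 → P i := stepQ 17919 Q17919 (allL N17919 (tt N20814 (iv F69175)) (tt N14127 F60064) (tt N20816 D31169) (tt N14124 (iv D28257)) (tt N20815 (iv F69184)) (tt N20817 D31170) (tt N14610 F60065))
theorem Q17921 : ∀ i, i < 17921 → P i := stepQ 17920 Q17920 (allL N17920 (tt N14694 F60066) (tt N17722 F60067) (tt N14150 F60068) (tt N20817 (iv F69196)) (tt N14125 F60069) (tt N14124 (iv D28258)) (tt N14693 F60070))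
theorem Q17922 : ∀ i, i < 17922 → P i := stepQ 17921 Q17921 (allL N17921 (tt N17875 F60071) (tt N20815 (iv F69182)) (tt N20818 D31171) (tt N14126 (iv D28259)) (tt N14127 F60072) (tt N20812 (iv F69166)) (tt N18419 F61547))
theorem Q17923 : ∀ i, i < 17923 → P i := stepQ 17922 Q17922 (allL N17922 (tt N18746 (iv F62523)) (tt N17645 F61369) (tt N14127 (iv D28260)) (tt N18745 F62520) (tt N20818 (iv F69200)) (tt N17646 (iv F61368)) (tt N18421 (iv F61550)))
theorem Q17924 : ∀ i, i < 17924 → P i := stepQ 17923 Q17923 (allL N17923 (tt N18604 (iv F62146)) (tt N17845 F60073) (tt N14131 F60074) (tt N18603 (iv F62144)) (tt N20744 (iv F68894)) (tt N18604 (iv F62149)) (tt N14130 (iv D28261)))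
theorem Q17925 : ∀ i, i < 17925 → P i := stepQ 17924 Q17924 (allL N17924 (tt N17841 F60075) (tt N16328 F60076) (tt N14161 F60077) (tt N14134 F60078) (tt N20765 (iv F68981)) (tt N14133 (iv D28262)) (tt N16283 F60079))
theorem Q17926 : ∀ i, i < 17926 → P i := stepQ 17925 Q17925 (allL N17925 (tt N17831 F60080) (tt N16326 F60081) (tt N14182 F60082) (tt N14144 F60083) (tt N20754 (iv F68933)) (tt N16438 F60084) (tt N14136 (iv D28263)))
theorem Q17927 : ∀ i, i < 17927 → P i := stepQ 17926 Q17926 (allL N17926 (tt N15009 F60085) (tt N14755 F60086) (tt N14137 (iv D28264)) (tt N15008 F60087) (tt N20819 D31172) (tt N14137 (iv F60089)) (tt N17847 F60088))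
theorem Q17928 : ∀ i, i < 17928 → P i := stepQ 17927 Q17927 (allL N17927 (tt N20667 (iv F68574)) (tt N14138 F60090) (tt N20819 (iv F69205)) (tt N17485 F60091) (tt N14137 (iv D28265)) (tt N20819 (iv F69207)) (tt N20669 (iv F68587)))
theorem Q17929 : ∀ i, i < 17929 → P i := stepQ 17928 Q17928 (allL N17928 (tt N14141 F60092) (tt N18289 F61104) (tt N14560 F60093) (tt N16715 F60094) (tt N14139 F60095) (tt N14138 (iv D28266)) (tt N16718 F60096))
theorem Q17930 : ∀ i, i < 17930 → P i := stepQ 17929 Q17929 (allL N17929 (tt N15021 F60097) (tt N14776 F60098) (tt N14146 (iv D28267)) (tt N15020 F60099) (tt N20820 D31173) (tt N17837 F60100) (tt N14146 (iv F60101)))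
theorem Q17931 : ∀ i, i < 17931 → P i := stepQ 17930 Q17930 (allL N17930 (tt N20642 (iv F68491)) (tt N14147 F60102) (tt N20820 (iv F69211)) (tt N17494 F60103) (tt N14146 (iv D28268)) (tt N20644 (iv F68504)) (tt N20820 (iv F69214)))
theorem Q17932 : ∀ i, i < 17932 → P i := stepQ 17931 Q17931 (allL N17931 (tt N14151 F60104) (tt N18346 (iv F61289)) (tt N14614 F60105) (tt N16721 F60106) (tt N14149 F60107) (tt N16724 F60108) (tt N14147 (iv D28269)))
theorem Q17933 : ∀ i, i < 17933 → P i := stepQ 17932 Q17932 (allL N17932 (tt N20164 (iv F66874)) (tt N20821 D31174) (tt N20220 (iv F67079)) (tt N14156 F60109) (tt N18087 (iv F60540)) (tt N18084 (iv F60532)) (tt N14155 (iv D28270)))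
theorem Q17934 : ∀ i, i < 17934 → P i := stepQ 17933 Q17933 (allL N17933 (tt N19948 (iv F66126)) (tt N14156 (iv D28271)) (tt N16342 F60110) (tt N20821 (iv F69215)) (tt N14157 F60111) (tt N19947 (iv F66125)) (tt N16325 F60112))
theorem Q17935 : ∀ i, i < 17935 → P i := stepQ 17934 Q17934 (allL N17934 (tt N14162 F60113) (tt N18603 F62145) (tt N17944 (iv F60155)) (tt N17845 F60114) (tt N14933 F60115) (tt N14159 (iv D28272)) (tt N14926 F60116))
theorem Q17936 : ∀ i, i < 17936 → P i := stepQ 17935 Q17935 (allL N17935 (tt N17613 F60117) (tt N14165 F60118) (tt N20765 (iv F68980)) (tt N15851 F60119) (tt N14161 (iv D28273)) (tt N19991 (iv F66294)) (tt N17611 F60120))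
theorem Q17937 : ∀ i, i < 17937 → P i := stepQ 17936 Q17936 (allL N17936 (tt N14168 F60121) (tt N15654 F60122) (tt N14165 F60123) (tt N19756 (iv F65491)) (tt N14164 (iv D28274)) (tt N14562 F60124) (tt N18378 (iv F61447)))
theorem Q17938 : ∀ i, i < 17938 → P i := stepQ 17937 Q17937 (allL N17937 (tt N14170 F60125) (tt N16602 (iv F60130)) (tt N14562 F60126) (tt N14990 F60127) (tt N14166 F60128) (tt N14165 (iv D28275)) (tt N14989 F60129))
theorem Q17939 : ∀ i, i < 17939 → P i := stepQ 17938 Q17938 (allL N17938 (tt N17294 F60131) (tt N14787 F60132) (tt N17293 F60133) (tt N19753 (iv F65479)) (tt N14167 (iv D28276)) (tt N14788 F60134) (tt N16787 F60135))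
theorem Q17940 : ∀ i, i < 17940 → P i := stepQ 17939 Q17939 (allL N17939 (tt N18378 (iv F61443)) (tt N16854 F60136) (tt N14171 F60137) (tt N19758 (iv F65498)) (tt N14169 F60138) (tt N18112 (iv F60596)) (tt N14168 (iv D28277)))
theorem Q17941 : ∀ i, i < 17941 → P i := stepQ 17940 Q17940 (allL N17940 (tt N14989 F60139) (tt N17508 (iv F60144)) (tt N14563 F60140) (tt N14988 F60141) (tt N14172 F60142) (tt N17868 F60143) (tt N14170 (iv D28278)))
theorem Q17942 : ∀ i, i < 17942 → P i := stepQ 17941 Q17941 (allL N17941 (tt N17517 F60145) (tt N17867 F60146) (tt N20087 (iv F66582)) (tt N17516 F60147) (tt N16660 F60148) (tt N14173 (iv D28279)) (tt N17517 F60149))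
theorem Q17943 : ∀ i, i < 17943 → P i := stepQ 17942 Q17942 (allL N17942 (tt N20181 (iv F66930)) (tt N20822 D31175) (tt N20227 (iv F67093)) (tt N14177 F60150) (tt N18140 (iv F60698)) (tt N14176 (iv D28280)) (tt N18138 (iv F60694)))
theorem Q17944 : ∀ i, i < 17944 → P i := stepQ 17943 Q17943 (allL N17943 (tt N20007 (iv F66352)) (tt N14177 (iv D28281)) (tt N16482 F60151) (tt N20822 (iv F69218)) (tt N14178 F60152) (tt N16469 F60153) (tt N20006 (iv F66351)))
theorem Q17945 : ∀ i, i < 17945 → P i := stepQ 17944 Q17944 (allL N17944 (tt N14184 F60154) (tt N18605 (iv F62152)) (tt N17934 F60155) (tt N17835 F60156) (tt N14980 F60157) (tt N14974 F60158) (tt N14180 (iv D28282)))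
theorem Q17946 : ∀ i, i < 17946 → P i := stepQ 17945 Q17945 (allL N17945 (tt N17585 F60159) (tt N14186 F60160) (tt N20754 (iv F68932)) (tt N15617 F60161) (tt N14182 (iv D28283)) (tt N17583 F60162) (tt N19931 (iv F66065)))
theorem Q17947 : ∀ i, i < 17947 → P i := stepQ 17946 Q17946 (allL N17946 (tt N14189 F60163) (tt N15886 F60164) (tt N14186 F60165) (tt N19848 (iv F65774)) (tt N14185 (iv D28284)) (tt N18440 (iv F61597)) (tt N14612 F60166))
theorem Q17948 : ∀ i, i < 17948 → P i := stepQ 17947 Q17947 (allL N17947 (tt N14192 F60167) (tt N16625 (iv F60172)) (tt N14612 F60168) (tt N14942 F60169) (tt N14187 F60170) (tt N14941 F60171) (tt N14186 (iv D28285)))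
theorem Q17949 : ∀ i, i < 17949 → P i := stepQ 17948 Q17948 (allL N17948 (tt N17218 F60173) (tt N14820 F60174) (tt N17217 F60175) (tt N19846 (iv F65766)) (tt N14188 (iv D28286)) (tt N16813 F60176) (tt N14821 F60177))
theorem Q17950 : ∀ i, i < 17950 → P i := stepQ 17949 Q17949 (allL N17949 (tt N18440 (iv F61593)) (tt N16863 F60178) (tt N14191 F60179) (tt N19850 (iv F65782)) (tt N14190 F60180) (tt N14189 (iv D28287)) (tt N18166 (iv F60759)))
theorem Q17951 : ∀ i, i < 17951 → P i := stepQ 17950 Q17950 (allL N17950 (tt N14941 F60181) (tt N17512 (iv F60186)) (tt N14613 F60182) (tt N14940 F60183) (tt N14193 F60184) (tt N14192 (iv D28288)) (tt N17856 F60185))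
theorem Q17952 : ∀ i, i < 17952 → P i := stepQ 17951 Q17951 (allL N17951 (tt N17519 F60187) (tt N17855 F60188) (tt N20095 (iv F66615)) (tt N17518 F60189) (tt N16678 F60190) (tt N17519 F60191) (tt N14194 (iv D28289)))
theorem Q17953 : ∀ i, i < 17953 → P i := stepQ 17952 Q17952 (allL N17952 (tt N18619 (iv F62198)) (tt N17019 F60192) (tt N15024 F60193) (tt N14695 F60194) (tt N14195 (iv D28290)) (tt N15024 F60195) (tt N20823 D31176))
theorem Q17954 : ∀ i, i < 17954 → P i := stepQ 17953 Q17953 (allL N17953 (tt N15827 F60196) (tt N17221 (iv F60199)) (tt N15025 F60197) (tt N14196 F60198) (tt N20823 (iv F69225)) (tt N18309 (iv F61167)) (tt N14195 (iv D28291)))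
theorem Q17955 : ∀ i, i < 17955 → P i := stepQ 17954 Q17954 (allL N17954 (tt N18634 (iv F62237)) (tt N17111 F60200) (tt N15028 F60201) (tt N14697 F60202) (tt N14197 (iv D28292)) (tt N20824 D31177) (tt N15028 F60203))
theorem Q17956 : ∀ i, i < 17956 → P i := stepQ 17955 Q17955 (allL N17955 (tt N15587 F60204) (tt N17297 (iv F60207)) (tt N15029 F60205) (tt N14198 F60206) (tt N20824 (iv F69231)) (tt N14197 (iv D28293)) (tt N18252 (iv F61007)))
theorem Q17957 : ∀ i, i < 17957 → P i := stepQ 17956 Q17956 (allL N17956 (tt N18003 (iv F60325)) (tt N20106 (iv F66658)) (tt N14223 F60208) (tt N15037 F60209) (tt N14199 (iv D28294)) (tt N14223 F60210) (tt N20825 D31178))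
theorem Q17958 : ∀ i, i < 17958 → P i := stepQ 17957 Q17957 (allL N17957 (tt N17988 (iv F60286)) (tt N16018 F60300) (tt N14224 F60211) (tt N14200 F60212) (tt N20825 (iv F69235)) (tt N17985 (iv F60282)) (tt N14199 (iv D28295)))
theorem Q17959 : ∀ i, i < 17959 → P i := stepQ 17958 Q17958 (allL N17958 (tt N19718 (iv F65367)) (tt N14200 (iv D28296)) (tt N19705 (iv F65327)) (tt N16018 (iv F60301)) (tt N15039 F60213) (tt N16016 F60302) (tt N20108 (iv F66667)))
theorem Q17960 : ∀ i, i < 17960 → P i := stepQ 17959 Q17959 (allL N17959 (tt N15189 F60214) (tt N19705 (iv F65326)) (tt N14201 (iv D28297)) (tt N19710 (iv F65342)) (tt N15040 F60215) (tt N15367 F60216) (tt N14202 F60217))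
theorem Q17961 : ∀ i, i < 17961 → P i := stepQ 17960 Q17960 (allL N17960 (tt N19007 (iv F63154)) (tt N16711 F60218) (tt N20756 (iv F68941)) (tt N14202 (iv D28298)) (tt N19031 (iv F63207)) (tt N19000 (iv F63145)) (tt N19710 F65345))
theorem Q17962 : ∀ i, i < 17962 → P i := stepQ 17961 Q17961 (allL N17961 (tt N18007 (iv F60334)) (tt N20114 (iv F66692)) (tt N14229 F60219) (tt N15049 F60220) (tt N14203 (iv D28299)) (tt N20826 D31179) (tt N14229 F60221))
theorem Q17963 : ∀ i, i < 17963 → P i := stepQ 17962 Q17962 (allL N17962 (tt N17996 (iv F60312)) (tt N16095 (iv F60434)) (tt N14230 F60222) (tt N14204 F60223) (tt N20826 (iv F69239)) (tt N14203 (iv D28300)) (tt N17993 (iv F60308)))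
theorem Q17964 : ∀ i, i < 17964 → P i := stepQ 17963 Q17963 (allL N17963 (tt N19813 (iv F65653)) (tt N14204 (iv D28301)) (tt N19800 (iv F65613)) (tt N16095 F60435) (tt N15051 F60224) (tt N20116 (iv F66701)) (tt N16092 (iv F60436)))
theorem Q17965 : ∀ i, i < 17965 → P i := stepQ 17964 Q17964 (allL N17964 (tt N15155 F60225) (tt N19800 (iv F65612)) (tt N14205 (iv D28302)) (tt N19805 (iv F65625)) (tt N15052 F60226) (tt N14206 F60227) (tt N15470 F60228))
theorem Q17966 : ∀ i, i < 17966 → P i := stepQ 17965 Q17965 (allL N17965 (tt N19147 (iv F63487)) (tt N16702 F60229) (tt N20766 (iv F68984)) (tt N14206 (iv D28303)) (tt N19168 (iv F63536)) (tt N19805 F65628) (tt N19139 (iv F63469)))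
theorem Q17967 : ∀ i, i < 17967 → P i := stepQ 17966 Q17966 (allL N17966 (tt N14302 F60230) (tt N17880 F60231) (tt N20827 D31180) (tt N14209 (iv D28304)) (tt N20828 D31181) (tt N14215 F60232) (tt N18011 (iv F60346)))
theorem Q17968 : ∀ i, i < 17968 → P i := stepQ 17967 Q17967 (allL N17967 (tt N14210 (iv D28305)) (tt N14218 (iv F60236)) (tt N19123 (iv F63418)) (tt N17967 F60233) (tt N15071 F60234) (tt N17967 F60235) (tt N18008 (iv F60340)))
theorem Q17969 : ∀ i, i < 17969 → P i := stepQ 17968 Q17968 (allL N17968 (tt N19123 (iv F63416)) (tt N20100 (iv F66635)) (tt N14210 (iv D28306)) (tt N18223 F63095) (tt N15072 F60237) (tt N17968 F60238) (tt N18009 (iv F60343)))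
theorem Q17970 : ∀ i, i < 17970 → P i := stepQ 17969 Q17969 (allL N17969 (tt N14357 F60239) (tt N17904 F60240) (tt N20829 D31182) (tt N14211 (iv D28307)) (tt N20830 D31183) (tt N18017 (iv F60358)) (tt N14219 F60241))
theorem Q17971 : ∀ i, i < 17971 → P i := stepQ 17970 Q17970 (allL N17970 (tt N14212 (iv D28308)) (tt N14214 F60242) (tt N18984 (iv F63099)) (tt N17970 F60243) (tt N15074 F60244) (tt N18014 (iv F60352)) (tt N17970 F60245))
theorem Q17972 : ∀ i, i < 17972 → P i := stepQ 17971 Q17971 (allL N17971 (tt N18984 (iv F63097)) (tt N20101 (iv F66637)) (tt N14212 (iv D28309)) (tt N18198 (iv F62488)) (tt N15075 F60246) (tt N18015 (iv F60355)) (tt N17971 F60247))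
theorem Q17973 : ∀ i, i < 17973 → P i := stepQ 17972 Q17972 (allL N17972 (tt N14215 F60248) (tt N14443 F60249) (tt N20623 (iv F68442)) (tt N14213 (iv D28310)) (tt N20621 (iv F68433)) (tt N14302 F60250) (tt N20831 D31184))
theorem Q17974 : ∀ i, i < 17974 → P i := stepQ 17973 Q17973 (allL N17973 (tt N14216 F60251) (tt N20832 D31185) (tt N14214 F60252) (tt N20831 (iv F69263)) (tt N15079 F60253) (tt N14239 F60254) (tt N14213 (iv D28311)))
theorem Q17975 : ∀ i, i < 17975 → P i := stepQ 17974 Q17974 (allL N17974 (tt N20623 (iv F68440)) (tt N20105 (iv F66654)) (tt N14215 (iv D28312)) (tt N20623 (iv F68443)) (tt N19520 (iv F64720)) (tt N20827 (iv F69243)) (tt N19519 F64716))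
theorem Q17976 : ∀ i, i < 17976 → P i := stepQ 17975 Q17975 (allL N17975 (tt N20621 (iv F68430)) (tt N14223 F60255) (tt N19520 (iv F64718)) (tt N15080 F60256) (tt N14215 (iv D28313)) (tt N20828 (iv F69250)) (tt N19510 (iv F64685)))
theorem Q17977 : ∀ i, i < 17977 → P i := stepQ 17976 Q17976 (allL N17976 (tt N20831 (iv F69261)) (tt N19512 (iv F64692)) (tt N19519 (iv F64714)) (tt N14216 F60257) (tt N19510 F64684) (tt N14240 F60258) (tt N14215 (iv D28314)))
theorem Q17978 : ∀ i, i < 17978 → P i := stepQ 17977 Q17977 (allL N17977 (tt N20833 D31186) (tt N14216 (iv D28315)) (tt N17983 (iv F60273)) (tt N19512 (iv F64694)) (tt N15082 F60259) (tt N14263 F60260) (tt N14225 F60261))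
theorem Q17979 : ∀ i, i < 17979 → P i := stepQ 17978 Q17978 (allL N17978 (tt N14219 F60262) (tt N14493 F60263) (tt N20650 (iv F68532)) (tt N14217 (iv D28316)) (tt N20648 (iv F68523)) (tt N20834 D31187) (tt N14357 F60264))
theorem Q17980 : ∀ i, i < 17980 → P i := stepQ 17979 Q17979 (allL N17979 (tt N14220 F60265) (tt N20835 D31188) (tt N14218 F60266) (tt N20834 (iv F69273)) (tt N15084 F60267) (tt N14217 (iv D28317)) (tt N14243 F60268))
theorem Q17981 : ∀ i, i < 17981 → P i := stepQ 17980 Q17980 (allL N17980 (tt N20650 (iv F68530)) (tt N20113 (iv F66688)) (tt N14219 (iv D28318)) (tt N20650 (iv F68533)) (tt N19291 (iv F63919)) (tt N19290 F63915) (tt N20829 (iv F69253)))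
theorem Q17982 : ∀ i, i < 17982 → P i := stepQ 17981 Q17981 (allL N17981 (tt N20648 (iv F68520)) (tt N14229 F60269) (tt N19291 (iv F63917)) (tt N15085 F60270) (tt N14219 (iv D28319)) (tt N19278 (iv F63878)) (tt N20830 (iv F69260)))
theorem Q17983 : ∀ i, i < 17983 → P i := stepQ 17982 Q17982 (allL N17982 (tt N20834 (iv F69271)) (tt N19280 (iv F63885)) (tt N19290 (iv F63914)) (tt N14220 F60271) (tt N19278 F63877) (tt N14219 (iv D28320)) (tt N14244 F60272))
theorem Q17984 : ∀ i, i < 17984 → P i := stepQ 17983 Q17983 (allL N17983 (tt N20836 D31189) (tt N14220 (iv D28321)) (tt N17977 F60273) (tt N19280 (iv F63887)) (tt N15087 F60274) (tt N14231 F60275) (tt N14283 F60276))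
theorem Q17985 : ∀ i, i < 17985 → P i := stepQ 17984 Q17984 (allL N17984 (tt N14223 F60277) (tt N17628 F60278) (tt N18003 (iv F60326)) (tt N15088 F60279) (tt N14221 (iv D28322)) (tt N18003 (iv F60328)) (tt N20837 D31190))
theorem Q17986 : ∀ i, i < 17986 → P i := stepQ 17985 Q17985 (allL N17985 (tt N14224 F60280) (tt N19677 (iv F65252)) (tt N17988 (iv F60287)) (tt N14222 F60281) (tt N20837 (iv F69284)) (tt N17957 F60282) (tt N14221 (iv D28323)))
theorem Q17987 : ∀ i, i < 17987 → P i := stepQ 17986 Q17986 (allL N17986 (tt N20837 (iv F69282)) (tt N19513 (iv F64697)) (tt N20825 (iv F69233)) (tt N15092 F60283) (tt N14224 F60284) (tt N20838 D31191) (tt N14223 (iv D28324)))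
theorem Q17988 : ∀ i, i < 17988 → P i := stepQ 17987 Q17987 (allL N17987 (tt N20839 D31192) (tt N14224 (iv D28325)) (tt N16008 (iv F60299)) (tt N14225 F60285) (tt N19513 (iv F64700)) (tt N16006 F60298) (tt N19512 F64696))
theorem Q17989 : ∀ i, i < 17989 → P i := stepQ 17988 Q17988 (allL N17988 (tt N17957 F60286) (tt N19865 (iv F65828)) (tt N17985 F60287) (tt N14226 F60288) (tt N20838 (iv F69289)) (tt N14224 (iv D28326)) (tt N14234 F60289))
theorem Q17990 : ∀ i, i < 17990 → P i := stepQ 17989 Q17989 (allL N17989 (tt N14225 (iv D28327)) (tt N20840 D31193) (tt N18075 (iv F60502)) (tt N20839 (iv F69292)) (tt N15095 F60290) (tt N18047 F60429) (tt N20833 (iv F69270)))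
theorem Q17991 : ∀ i, i < 17991 → P i := stepQ 17990 Q17990 (allL N17990 (tt N18047 (iv F60426)) (tt N15165 F60296) (tt N18076 (iv F60506)) (tt N16006 (iv F60297)) (tt N15096 F60291) (tt N14225 (iv D28328)) (tt N18046 F60425))
theorem Q17992 : ∀ i, i < 17992 → P i := stepQ 17991 Q17991 (allL N17991 (tt N15167 F60294) (tt N14226 (iv D28329)) (tt N15487 F60292) (tt N19865 (iv F65830)) (tt N15097 F60293) (tt N15165 (iv F60295)) (tt N18767 (iv F62557)))
theorem Q17993 : ∀ i, i < 17993 → P i := stepQ 17992 Q17992 (allL N17992 (tt N14229 F60303) (tt N17700 F60304) (tt N18007 (iv F60335)) (tt N15098 F60305) (tt N14227 (iv D28330)) (tt N20841 D31194) (tt N18007 (iv F60337)))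
theorem Q17994 : ∀ i, i < 17994 → P i := stepQ 17993 Q17993 (allL N17993 (tt N14230 F60306) (tt N19771 (iv F65532)) (tt N17996 (iv F60313)) (tt N14228 F60307) (tt N20841 (iv F69297)) (tt N14227 (iv D28331)) (tt N17962 F60308))
theorem Q17995 : ∀ i, i < 17995 → P i := stepQ 17994 Q17994 (allL N17994 (tt N20841 (iv F69295)) (tt N19281 (iv F63890)) (tt N20826 (iv F69237)) (tt N15102 F60309) (tt N14230 F60310) (tt N14229 (iv D28332)) (tt N20842 D31195))
theorem Q17996 : ∀ i, i < 17996 → P i := stepQ 17995 Q17995 (allL N17995 (tt N20843 D31196) (tt N14230 (iv D28333)) (tt N16085 F60433) (tt N14231 F60311) (tt N19281 (iv F63893)) (tt N19280 F63889) (tt N16082 (iv F60432)))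
theorem Q17997 : ∀ i, i < 17997 → P i := stepQ 17996 Q17996 (allL N17996 (tt N17962 F60312) (tt N19884 (iv F65887)) (tt N17993 F60313) (tt N14232 F60314) (tt N20842 (iv F69302)) (tt N14236 F60315) (tt N14230 (iv D28334)))
theorem Q17998 : ∀ i, i < 17998 → P i := stepQ 17997 Q17997 (allL N17997 (tt N14231 (iv D28335)) (tt N20844 D31197) (tt N18046 (iv F60423)) (tt N20843 (iv F69305)) (tt N15105 F60316) (tt N20836 (iv F69280)) (tt N18076 (iv F60508)))
theorem Q17999 : ∀ i, i < 17999 → P i := stepQ 17998 Q17998 (allL N17998 (tt N18076 (iv F60505)) (tt N15199 (iv F60431)) (tt N18047 (iv F60427)) (tt N16082 F60430) (tt N15106 F60317) (tt N18075 (iv F60504)) (tt N14231 (iv D28336)))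
theorem Q18000 : ∀ i, i < 18000 → P i := stepQ 17999 Q17999 (allL N17999 (tt N15202 (iv F60438)) (tt N14232 (iv D28337)) (tt N15383 F60318) (tt N19884 (iv F65889)) (tt N15107 F60319) (tt N18816 (iv F62639)) (tt N15199 F60437))
theorem Q18001 : ∀ i, i < 18001 → P i := stepQ 18000 Q18000 (allL N18000 (tt N18617 (iv F62191)) (tt N14234 F60320) (tt N20828 (iv F69248)) (tt N14233 (iv D28338)) (tt N20827 F69245) (tt N19520 (iv F64721)) (tt N20845 D31198))
theorem Q18002 : ∀ i, i < 18002 → P i := stepQ 18001 Q18001 (allL N18001 (tt N17560 F60321) (tt N15033 F60322) (tt N15034 F60323) (tt N19520 (iv F64719)) (tt N17560 F60324) (tt N14233 (iv D28339)) (tt N19518 F64712))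
theorem Q18003 : ∀ i, i < 18003 → P i := stepQ 18002 Q18002 (allL N18002 (tt N18618 (iv F62196)) (tt N18767 (iv F62558)) (tt N20619 (iv F68420)) (tt N20845 (iv F69309)) (tt N18618 (iv F62197)) (tt N20619 (iv F68423)) (tt N14233 (iv D28340)))
theorem Q18004 : ∀ i, i < 18004 → P i := stepQ 18003 Q18003 (allL N18003 (tt N17956 F60325) (tt N20827 (iv F69242)) (tt N17984 F60326) (tt N14297 F60327) (tt N14234 (iv D28341)) (tt N17984 F60328) (tt N20838 (iv F69290)))
theorem Q18005 : ∀ i, i < 18005 → P i := stepQ 18004 Q18004 (allL N18004 (tt N18632 (iv F62230)) (tt N14236 F60329) (tt N20830 (iv F69258)) (tt N14235 (iv D28342)) (tt N20829 F69255) (tt N20846 D31199) (tt N19291 F63920))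
theorem Q18006 : ∀ i, i < 18006 → P i := stepQ 18005 Q18005 (allL N18005 (tt N18633 (iv F62235)) (tt N18816 F62640) (tt N20620 (iv F68426)) (tt N20846 (iv F69312)) (tt N18633 (iv F62236)) (tt N14235 (iv D28343)) (tt N20620 (iv F68429)))
theorem Q18007 : ∀ i, i < 18007 → P i := stepQ 18006 Q18006 (allL N18006 (tt N17561 F60330) (tt N15045 F60331) (tt N15046 F60332) (tt N19291 (iv F63918)) (tt N17561 F60333) (tt N19289 F63912) (tt N14235 (iv D28344)))
theorem Q18008 : ∀ i, i < 18008 → P i := stepQ 18007 Q18007 (allL N18007 (tt N17961 F60334) (tt N20829 (iv F69252)) (tt N17992 F60335) (tt N14352 F60336) (tt N14236 (iv D28345)) (tt N20842 (iv F69303)) (tt N17992 F60337))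
theorem Q18009 : ∀ i, i < 18009 → P i := stepQ 18008 Q18008 (allL N18008 (tt N14238 (iv D28346)) (tt N18014 (iv F60349)) (tt N20847 D31200) (tt N18008 F60338) (tt N15135 F60339) (tt N14238 F60341) (tt N17967 F60340))
theorem Q18010 : ∀ i, i < 18010 → P i := stepQ 18009 Q18009 (allL N18009 (tt N20847 (iv F69314)) (tt N20848 D31201) (tt N14238 (iv D28347)) (tt N20849 D31202) (tt N15136 F60342) (tt N20847 (iv F69316)) (tt N17968 F60343))
theorem Q18011 : ∀ i, i < 18011 → P i := stepQ 18010 Q18010 (allL N18010 (tt N18785 (iv F62583)) (tt N14239 (iv D28348)) (tt N20848 (iv F69319)) (tt N20850 D31203) (tt N15137 F60344) (tt N20851 D31204) (tt N18786 (iv F62587)))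
theorem Q18012 : ∀ i, i < 18012 → P i := stepQ 18011 Q18011 (allL N18011 (tt N14240 F60345) (tt N20850 (iv F69329)) (tt N20852 D31205) (tt N14239 (iv D28349)) (tt N20853 D31206) (tt N20831 (iv F69264)) (tt N17966 F60346))
theorem Q18013 : ∀ i, i < 18013 → P i := stepQ 18012 Q18012 (allL N18012 (tt N20852 (iv F69333)) (tt N19425 (iv F64412)) (tt N14240 (iv D28350)) (tt N20852 (iv F69335)) (tt N19424 F64411) (tt N19519 (iv F64715)) (tt N18089 F60546))
theorem Q18014 : ∀ i, i < 18014 → P i := stepQ 18013 Q18013 (allL N18013 (tt N20853 (iv F69337)) (tt N14261 F60347) (tt N19424 (iv F64407)) (tt N15140 F60348) (tt N14240 (iv D28351)) (tt N19510 (iv F64682)) (tt N18093 (iv F60559)))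
theorem Q18015 : ∀ i, i < 18015 → P i := stepQ 18014 Q18014 (allL N18014 (tt N14242 (iv D28352)) (tt N18008 F60349) (tt N20854 D31207) (tt N18014 F60350) (tt N15142 F60351) (tt N17970 F60352) (tt N14242 F60353))
theorem Q18016 : ∀ i, i < 18016 → P i := stepQ 18015 Q18015 (allL N18015 (tt N20854 (iv F69341)) (tt N20855 D31208) (tt N14242 (iv D28353)) (tt N20856 D31209) (tt N15143 F60354) (tt N17971 F60355) (tt N20854 (iv F69344)))
theorem Q18017 : ∀ i, i < 18017 → P i := stepQ 18016 Q18016 (allL N18016 (tt N18836 (iv F62675)) (tt N14243 (iv D28354)) (tt N20855 (iv F69346)) (tt N20857 D31210) (tt N15144 F60356) (tt N18837 (iv F62679)) (tt N20858 D31211))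
theorem Q18018 : ∀ i, i < 18018 → P i := stepQ 18017 Q18017 (allL N18017 (tt N14244 F60357) (tt N20857 (iv F69356)) (tt N20859 D31212) (tt N14243 (iv D28355)) (tt N20860 D31213) (tt N17969 F60358) (tt N20834 (iv F69274)))
theorem Q18019 : ∀ i, i < 18019 → P i := stepQ 18018 Q18018 (allL N18018 (tt N20859 (iv F69360)) (tt N19626 (iv F65100)) (tt N14244 (iv D28356)) (tt N20859 (iv F69362)) (tt N19292 (iv F63927)) (tt N18143 F60708) (tt N19290 F63916))
theorem Q18020 : ∀ i, i < 18020 → P i := stepQ 18019 Q18019 (allL N18019 (tt N20860 (iv F69364)) (tt N14281 F60359) (tt N19292 (iv F63925)) (tt N15147 F60360) (tt N14244 (iv D28357)) (tt N18147 (iv F60721)) (tt N19278 (iv F63875)))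
theorem Q18021 : ∀ i, i < 18021 → P i := stepQ 18020 Q18020 (allL N18020 (tt N18082 (iv F60525)) (tt N18354 (iv F61319)) (tt N14245 (iv D28358)) (tt N18078 (iv F60513)) (tt N17640 F60361) (tt N20861 D31214) (tt N20862 D31215))
theorem Q18022 : ∀ i, i < 18022 → P i := stepQ 18021 Q18021 (allL N18021 (tt N18616 (iv F62189)) (tt N14640 F60362) (tt N20861 (iv F69370)) (tt N14246 F60363) (tt N17568 F60364) (tt N14245 (iv D28359)) (tt N20863 D31216))
theorem Q18023 : ∀ i, i < 18023 → P i := stepQ 18022 Q18022 (allL N18022 (tt N19097 (iv F63349)) (tt N20864 D31217) (tt N20862 (iv F69373)) (tt N14247 F60365) (tt N17641 F60366) (tt N19525 F64736) (tt N14245 (iv D28360)))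
theorem Q18024 : ∀ i, i < 18024 → P i := stepQ 18023 Q18023 (allL N18023 (tt N18025 (iv F60371)) (tt N20865 D31218) (tt N14248 F60367) (tt N20863 (iv F69377)) (tt N15148 F60368) (tt N15431 F60369) (tt N14246 (iv D28361)))
theorem Q18025 : ∀ i, i < 18025 → P i := stepQ 18024 Q18024 (allL N18024 (tt N20866 D31219) (tt N14247 (iv D28362)) (tt N18207 (iv F60883)) (tt N20864 (iv F69380)) (tt N15149 F60370) (tt N20867 D31220) (tt N18254 (iv F61015)))
theorem Q18026 : ∀ i, i < 18026 → P i := stepQ 18025 Q18025 (allL N18025 (tt N18023 F60371) (tt N19522 (iv F64728)) (tt N14249 F60372) (tt N19525 (iv F64734)) (tt N15150 F60373) (tt N14247 (iv D28363)) (tt N15033 F60374))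
theorem Q18027 : ∀ i, i < 18027 → P i := stepQ 18026 Q18026 (allL N18026 (tt N15052 F60375) (tt N18034 (iv F60394)) (tt N14252 (iv D28364)) (tt N18033 F60393) (tt N15155 F60376) (tt N15053 F60377) (tt N18645 (iv F62266)))
theorem Q18028 : ∀ i, i < 18028 → P i := stepQ 18027 Q18027 (allL N18027 (tt N20868 D31221) (tt N14253 (iv D28365)) (tt N18034 F60397) (tt N19485 (iv F64594)) (tt N15157 F60378) (tt N19113 F63380) (tt N19483 (iv F64587)))
theorem Q18029 : ∀ i, i < 18029 → P i := stepQ 18028 Q18028 (allL N18028 (tt N14254 F60379) (tt N19485 (iv F64592)) (tt N18117 (iv F60618)) (tt N14253 (iv D28366)) (tt N20869 D31222) (tt N18045 (iv F60422)) (tt N14258 F60380))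
theorem Q18030 : ∀ i, i < 18030 → P i := stepQ 18029 Q18029 (allL N18029 (tt N18117 (iv F60616)) (tt N14474 F60381) (tt N14254 (iv D28367)) (tt N18116 (iv F60615)) (tt N18342 (iv F61272)) (tt N20870 D31223) (tt N14260 F60382))
theorem Q18031 : ∀ i, i < 18031 → P i := stepQ 18030 Q18030 (allL N18030 (tt N20869 (iv F69396)) (tt N14461 F60383) (tt N18342 (iv F61270)) (tt N15160 F60384) (tt N14254 (iv D28368)) (tt N20871 D31224) (tt N14261 F60385))
theorem Q18032 : ∀ i, i < 18032 → P i := stepQ 18031 Q18031 (allL N18031 (tt N18045 (iv F60420)) (tt N14464 F60386) (tt N20870 (iv F69401)) (tt N14255 F60387) (tt N20871 (iv F69408)) (tt N14254 (iv D28369)) (tt N18040 (iv F60413)))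
theorem Q18033 : ∀ i, i < 18033 → P i := stepQ 18032 Q18032 (allL N18032 (tt N20872 D31225) (tt N14255 (iv D28370)) (tt N18187 (iv F60835)) (tt N14464 F60388) (tt N15162 F60389) (tt N14457 F60390) (tt N20873 D31226))
theorem Q18034 : ∀ i, i < 18034 → P i := stepQ 18033 Q18033 (allL N18033 (tt N18641 (iv F62254)) (tt N14256 (iv D28371)) (tt N14257 F60391) (tt N18026 (iv F60393)) (tt N15163 F60392) (tt N18643 (iv F62258)) (tt N20874 D31227))
theorem Q18035 : ∀ i, i < 18035 → P i := stepQ 18034 Q18034 (allL N18034 (tt N19095 (iv F63344)) (tt N18026 F60394) (tt N18027 (iv F60397)) (tt N14256 (iv D28372)) (tt N17755 F60395) (tt N15443 F60396) (tt N19092 (iv F63341)))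
theorem Q18036 : ∀ i, i < 18036 → P i := stepQ 18035 Q18035 (allL N18035 (tt N14257 (iv D28373)) (tt N15096 (iv F60400)) (tt N18641 F62256) (tt N20875 D31228) (tt N15165 F60398) (tt N15097 F60399) (tt N20876 D31229))
theorem Q18037 : ∀ i, i < 18037 → P i := stepQ 18036 Q18036 (allL N18036 (tt N20875 (iv F69424)) (tt N14258 F60401) (tt N15062 F60402) (tt N14257 (iv D28374)) (tt N20486 (iv F67945)) (tt N15064 (iv F60403)) (tt N19393 (iv F64272)))
theorem Q18038 : ∀ i, i < 18038 → P i := stepQ 18037 Q18037 (allL N18037 (tt N15097 F60404) (tt N20877 D31230) (tt N18643 (iv F62260)) (tt N15064 F60405) (tt N15167 F60406) (tt N14257 (iv D28375)) (tt N19064 (iv F63279)))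
theorem Q18039 : ∀ i, i < 18039 → P i := stepQ 18038 Q18038 (allL N18038 (tt N20876 (iv F69430)) (tt N19483 (iv F64584)) (tt N20874 (iv F69420)) (tt N19393 F64273) (tt N15168 F60407) (tt N18686 (iv F62351)) (tt N14257 (iv D28376)))
theorem Q18040 : ∀ i, i < 18040 → P i := stepQ 18039 Q18039 (allL N18039 (tt N14261 F60408) (tt N20486 (iv F67943)) (tt N16868 F60409) (tt N15169 F60410) (tt N14258 (iv D28377)) (tt N18502 (iv F61793)) (tt N20869 (iv F69399)))
theorem Q18041 : ∀ i, i < 18041 → P i := stepQ 18040 Q18040 (allL N18040 (tt N14262 F60411) (tt N20878 D31231) (tt N18128 (iv F60660)) (tt N14259 F60412) (tt N18502 (iv F61792)) (tt N14258 (iv D28378)) (tt N18031 F60413))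
theorem Q18042 : ∀ i, i < 18042 → P i := stepQ 18041 Q18041 (allL N18041 (tt N19301 F63955) (tt N14259 (iv D28379)) (tt N15205 F60414) (tt N20878 (iv F69440)) (tt N15171 F60415) (tt N20877 (iv F69438)) (tt N20879 D31232))
theorem Q18043 : ∀ i, i < 18043 → P i := stepQ 18042 Q18042 (allL N18042 (tt N18128 (iv F60658)) (tt N20880 D31233) (tt N14262 F60416) (tt N18126 (iv F60651)) (tt N18501 (iv F61788)) (tt N14260 (iv D28380)) (tt N20881 D31234))
theorem Q18044 : ∀ i, i < 18044 → P i := stepQ 18043 Q18043 (allL N18043 (tt N18502 (iv F61791)) (tt N19498 (iv F64646)) (tt N18501 F61790) (tt N15175 F60417) (tt N14262 F60418) (tt N14261 (iv D28381)) (tt N20882 D31235))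
theorem Q18045 : ∀ i, i < 18045 → P i := stepQ 18044 Q18044 (allL N18044 (tt N19668 (iv F65229)) (tt N14262 (iv D28382)) (tt N19499 (iv F64651)) (tt N14263 F60419) (tt N19498 F64649) (tt N19512 (iv F64695)) (tt N19594 (iv F64980)))
theorem Q18046 : ∀ i, i < 18046 → P i := stepQ 18045 Q18045 (allL N18045 (tt N18031 F60420) (tt N20390 (iv F67619)) (tt N20881 (iv F69452)) (tt N14264 F60421) (tt N20882 (iv F69457)) (tt N18028 F60422) (tt N14262 (iv D28383)))
theorem Q18047 : ∀ i, i < 18047 → P i := stepQ 18046 Q18046 (allL N18046 (tt N14263 (iv D28384)) (tt N20883 D31236) (tt N17997 F60423) (tt N19668 (iv F65231)) (tt N15178 F60424) (tt N20833 (iv F69269)) (tt N17990 (iv F60425)))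
theorem Q18048 : ∀ i, i < 18048 → P i := stepQ 18047 Q18047 (allL N18047 (tt N17990 F60426) (tt N18720 (iv F62442)) (tt N17998 F60427) (tt N19594 (iv F64979)) (tt N15179 F60428) (tt N17989 (iv F60429)) (tt N14263 (iv D28385)))
theorem Q18049 : ∀ i, i < 18049 → P i := stepQ 18048 Q18048 (allL N18048 (tt N18723 (iv F62457)) (tt N14264 (iv D28386)) (tt N19034 (iv F63217)) (tt N20390 (iv F67621)) (tt N15180 F60439) (tt N20884 D31237) (tt N18720 F62443))
theorem Q18050 : ∀ i, i < 18050 → P i := stepQ 18049 Q18049 (allL N18049 (tt N18136 (iv F60687)) (tt N18416 (iv F61537)) (tt N14265 (iv D28387)) (tt N18132 (iv F60675)) (tt N17712 F60440) (tt N20885 D31238) (tt N20886 D31239))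
theorem Q18051 : ∀ i, i < 18051 → P i := stepQ 18050 Q18050 (allL N18050 (tt N18950 (iv F62994)) (tt N20887 D31240) (tt N20885 (iv F69466)) (tt N14266 F60441) (tt N17713 F60442) (tt N14265 (iv D28388)) (tt N19297 F63942))
theorem Q18052 : ∀ i, i < 18052 → P i := stepQ 18051 Q18051 (allL N18051 (tt N18631 (iv F62228)) (tt N14670 F60443) (tt N20886 (iv F69471)) (tt N14267 F60444) (tt N17596 F60445) (tt N20888 D31241) (tt N14265 (iv D28389)))
theorem Q18053 : ∀ i, i < 18053 → P i := stepQ 18052 Q18052 (allL N18052 (tt N20889 D31242) (tt N14266 (iv D28390)) (tt N18232 (iv F60945)) (tt N20887 (iv F69474)) (tt N15182 F60446) (tt N18311 (iv F61175)) (tt N20890 D31243))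
theorem Q18054 : ∀ i, i < 18054 → P i := stepQ 18053 Q18053 (allL N18053 (tt N18054 (iv F60450)) (tt N19294 (iv F63934)) (tt N14268 F60447) (tt N19297 (iv F63940)) (tt N15183 F60448) (tt N15045 F60449) (tt N14266 (iv D28391)))
theorem Q18055 : ∀ i, i < 18055 → P i := stepQ 18054 Q18054 (allL N18054 (tt N18053 F60450) (tt N20891 D31244) (tt N14269 F60451) (tt N20888 (iv F69477)) (tt N15184 F60452) (tt N14267 (iv D28392)) (tt N15322 F60453))
theorem Q18056 : ∀ i, i < 18056 → P i := stepQ 18055 Q18055 (allL N18055 (tt N15040 F60454) (tt N18063 (iv F60473)) (tt N14272 (iv D28393)) (tt N18062 F60472) (tt N15189 F60455) (tt N18630 (iv F62227)) (tt N15041 F60456))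
theorem Q18057 : ∀ i, i < 18057 → P i := stepQ 18056 Q18056 (allL N18056 (tt N20892 D31245) (tt N14273 (iv D28394)) (tt N18063 F60476) (tt N19251 (iv F63784)) (tt N15191 F60457) (tt N19249 F63777) (tt N18974 F63044))
theorem Q18058 : ∀ i, i < 18058 → P i := stepQ 18057 Q18057 (allL N18057 (tt N14274 F60458) (tt N19251 (iv F63782)) (tt N18171 (iv F60780)) (tt N14273 (iv D28395)) (tt N20893 D31246) (tt N14278 F60459) (tt N18074 (iv F60501)))
theorem Q18059 : ∀ i, i < 18059 → P i := stepQ 18058 Q18058 (allL N18058 (tt N18171 (iv F60778)) (tt N14523 F60460) (tt N14274 (iv D28396)) (tt N18170 (iv F60777)) (tt N18285 (iv F61089)) (tt N14280 F60461) (tt N20894 D31247))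
theorem Q18060 : ∀ i, i < 18060 → P i := stepQ 18059 Q18059 (allL N18059 (tt N20893 (iv F69494)) (tt N14510 F60462) (tt N18285 (iv F61087)) (tt N15194 F60463) (tt N14274 (iv D28397)) (tt N14281 F60464) (tt N20895 D31248))
theorem Q18061 : ∀ i, i < 18061 → P i := stepQ 18060 Q18060 (allL N18060 (tt N18074 (iv F60499)) (tt N14513 F60465) (tt N20894 (iv F69499)) (tt N14275 F60466) (tt N20895 (iv F69506)) (tt N18069 (iv F60492)) (tt N14274 (iv D28398)))
theorem Q18062 : ∀ i, i < 18062 → P i := stepQ 18061 Q18061 (allL N18061 (tt N20896 D31249) (tt N14275 (iv D28399)) (tt N18212 (iv F60897)) (tt N14513 F60467) (tt N15196 F60468) (tt N20897 D31250) (tt N14506 F60469))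
theorem Q18063 : ∀ i, i < 18063 → P i := stepQ 18062 Q18062 (allL N18062 (tt N18626 (iv F62215)) (tt N14276 (iv D28400)) (tt N14277 F60470) (tt N18055 (iv F60472)) (tt N15197 F60471) (tt N20898 D31251) (tt N18628 (iv F62220)))
theorem Q18064 : ∀ i, i < 18064 → P i := stepQ 18063 Q18063 (allL N18063 (tt N18955 (iv F63006)) (tt N18055 F60473) (tt N18056 (iv F60476)) (tt N14276 (iv D28401)) (tt N17687 F60474) (tt N18952 (iv F63002)) (tt N15339 F60475))
theorem Q18065 : ∀ i, i < 18065 → P i := stepQ 18064 Q18064 (allL N18064 (tt N14277 (iv D28402)) (tt N15106 (iv F60478)) (tt N18626 F62217) (tt N20899 D31252) (tt N15199 F60477) (tt N20900 D31253) (tt N15107 (iv F60479)))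
theorem Q18066 : ∀ i, i < 18066 → P i := stepQ 18065 Q18065 (allL N18065 (tt N20899 (iv F69522)) (tt N14278 F60480) (tt N15057 F60481) (tt N14277 (iv D28403)) (tt N20428 (iv F67762)) (tt N19248 F63770) (tt N15059 (iv F60482)))
theorem Q18067 : ∀ i, i < 18067 → P i := stepQ 18066 Q18066 (allL N18066 (tt N20900 (iv F69528)) (tt N19249 (iv F63774)) (tt N20898 (iv F69518)) (tt N19248 (iv F63772)) (tt N15201 F60483) (tt N14277 (iv D28404)) (tt N18697 (iv F62367)))
theorem Q18068 : ∀ i, i < 18068 → P i := stepQ 18067 Q18067 (allL N18067 (tt N15107 F60484) (tt N20901 D31254) (tt N18628 (iv F62221)) (tt N15059 F60485) (tt N15202 F60486) (tt N19201 (iv F63626)) (tt N14277 (iv D28405)))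
theorem Q18069 : ∀ i, i < 18069 → P i := stepQ 18068 Q18068 (allL N18068 (tt N14281 F60487) (tt N20428 (iv F67760)) (tt N16859 F60488) (tt N15203 F60489) (tt N14278 (iv D28406)) (tt N20893 (iv F69497)) (tt N18475 (iv F61687)))
theorem Q18070 : ∀ i, i < 18070 → P i := stepQ 18069 Q18069 (allL N18069 (tt N14282 F60490) (tt N20902 D31255) (tt N18180 (iv F60816)) (tt N14279 F60491) (tt N18475 (iv F61686)) (tt N18060 F60492) (tt N14278 (iv D28407)))
theorem Q18071 : ∀ i, i < 18071 → P i := stepQ 18070 Q18070 (allL N18070 (tt N19529 F64751) (tt N14279 (iv D28408)) (tt N15171 F60493) (tt N20902 (iv F69538)) (tt N15205 F60494) (tt N20903 D31256) (tt N20901 (iv F69536)))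
theorem Q18072 : ∀ i, i < 18072 → P i := stepQ 18071 Q18071 (allL N18071 (tt N18180 (iv F60814)) (tt N20904 D31257) (tt N14282 F60495) (tt N18178 (iv F60807)) (tt N18474 (iv F61682)) (tt N20905 D31258) (tt N14280 (iv D28409)))
theorem Q18073 : ∀ i, i < 18073 → P i := stepQ 18072 Q18072 (allL N18072 (tt N18475 (iv F61685)) (tt N19266 (iv F63838)) (tt N18474 F61684) (tt N15209 F60496) (tt N14282 F60497) (tt N20906 D31259) (tt N14281 (iv D28410)))
theorem Q18074 : ∀ i, i < 18074 → P i := stepQ 18073 Q18073 (allL N18073 (tt N19762 (iv F65509)) (tt N14282 (iv D28411)) (tt N19267 (iv F63843)) (tt N14283 F60498) (tt N19266 F63841) (tt N19379 (iv F64214)) (tt N19280 (iv F63888)))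
theorem Q18075 : ∀ i, i < 18075 → P i := stepQ 18074 Q18074 (allL N18074 (tt N18060 F60499) (tt N20427 (iv F67756)) (tt N20905 (iv F69550)) (tt N14284 F60500) (tt N20906 (iv F69555)) (tt N14282 (iv D28412)) (tt N18057 F60501))
theorem Q18076 : ∀ i, i < 18076 → P i := stepQ 18075 Q18075 (allL N18075 (tt N14283 (iv D28413)) (tt N20907 D31260) (tt N17989 F60502) (tt N19762 (iv F65511)) (tt N15212 F60503) (tt N17998 F60504) (tt N20836 (iv F69281)))
theorem Q18077 : ∀ i, i < 18077 → P i := stepQ 18076 Q18076 (allL N18076 (tt N17998 F60505) (tt N18731 (iv F62489)) (tt N17990 F60506) (tt N19379 (iv F64215)) (tt N15213 F60507) (tt N14283 (iv D28414)) (tt N17997 F60508))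
theorem Q18078 : ∀ i, i < 18078 → P i := stepQ 18077 Q18077 (allL N18077 (tt N18733 (iv F62495)) (tt N14284 (iv D28415)) (tt N19171 (iv F63547)) (tt N20427 (iv F67758)) (tt N15214 F60509) (tt N18731 F62491) (tt N20908 D31261))
theorem Q18079 : ∀ i, i < 18079 → P i := stepQ 18078 Q18078 (allL N18078 (tt N14288 F60510) (tt N14541 F60511) (tt N14285 (iv D28416)) (tt N18020 F60513) (tt N14539 F60512) (tt N18473 (iv F61680)) (tt N19489 (iv F64610)))
theorem Q18080 : ∀ i, i < 18080 → P i := stepQ 18079 Q18079 (allL N18079 (tt N18092 (iv F60554)) (tt N19754 F65486) (tt N15092 F60514) (tt N14287 F60515) (tt N15091 F60516) (tt N14300 F60517) (tt N14286 (iv D28417)))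
theorem Q18081 : ∀ i, i < 18081 → P i := stepQ 18080 Q18080 (allL N18080 (tt N14566 F60518) (tt N14287 (iv D28418)) (tt N16560 F60519) (tt N19754 (iv F65483)) (tt N14702 F60520) (tt N18292 (iv F61116)) (tt N14293 F60521))
theorem Q18082 : ∀ i, i < 18082 → P i := stepQ 18081 Q18081 (allL N18081 (tt N18716 (iv F62431)) (tt N14288 (iv D28419)) (tt N15080 F60522) (tt N20828 (iv F69249)) (tt N15070 F60523) (tt N15080 F60524) (tt N18724 (iv F62461)))
theorem Q18083 : ∀ i, i < 18083 → P i := stepQ 18082 Q18082 (allL N18082 (tt N18020 F60525) (tt N20828 (iv F69247)) (tt N17618 F60526) (tt N14288 (iv D28420)) (tt N17880 F60527) (tt N20106 (iv F66661)) (tt N20909 D31262))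
theorem Q18084 : ∀ i, i < 18084 → P i := stepQ 18083 Q18083 (allL N18083 (tt N19489 (iv F64608)) (tt N20910 D31263) (tt N14291 F60528) (tt N20909 (iv F69566)) (tt N20214 (iv F67061)) (tt N20911 D31264) (tt N14288 (iv D28421)))
theorem Q18085 : ∀ i, i < 18085 → P i := stepQ 18084 Q18084 (allL N18084 (tt N16778 F60529) (tt N20912 D31265) (tt N20214 (iv F67059)) (tt N14703 F60530) (tt N14291 F60531) (tt N17932 F60532) (tt N14289 (iv D28422)))
theorem Q18086 : ∀ i, i < 18086 → P i := stepQ 18085 Q18085 (allL N18085 (tt N18087 (iv F60538)) (tt N17624 (iv F60535)) (tt N20222 (iv F67083)) (tt N14292 F60533) (tt N20164 (iv F66877)) (tt N15800 F60534) (tt N14290 (iv D28423)))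
theorem Q18087 : ∀ i, i < 18087 → P i := stepQ 18086 Q18086 (allL N18086 (tt N16058 (iv F60537)) (tt N14291 (iv D28424)) (tt N19968 (iv F66205)) (tt N14293 F60536) (tt N20912 (iv F69574)) (tt N20058 (iv F66495)) (tt N19754 (iv F65485)))
theorem Q18088 : ∀ i, i < 18088 → P i := stepQ 18087 Q18087 (allL N18087 (tt N18085 F60538) (tt N18496 (iv F61772)) (tt N20911 (iv F69569)) (tt N14294 F60539) (tt N17932 F60540) (tt N14291 (iv D28425)) (tt N14643 F60541))
theorem Q18089 : ∀ i, i < 18089 → P i := stepQ 18088 Q18088 (allL N18088 (tt N14300 F60542) (tt N15726 F60543) (tt N18621 (iv F62209)) (tt N14296 F60544) (tt N18620 (iv F62206)) (tt N18092 (iv F60557)) (tt N14295 (iv D28426)))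
theorem Q18090 : ∀ i, i < 18090 → P i := stepQ 18089 Q18089 (allL N18089 (tt N20827 (iv F69241)) (tt N14297 (iv D28427)) (tt N14302 F60545) (tt N20827 (iv F69244)) (tt N18617 F62195) (tt N20623 (iv F68444)) (tt N18012 (iv F60546)))
theorem Q18091 : ∀ i, i < 18091 → P i := stepQ 18090 Q18090 (allL N18090 (tt N18621 (iv F62208)) (tt N20913 D31266) (tt N14300 F60547) (tt N20838 (iv F69288)) (tt N15094 F60548) (tt N15092 F60549) (tt N14297 (iv D28428)))
theorem Q18092 : ∀ i, i < 18092 → P i := stepQ 18091 Q18091 (allL N18091 (tt N18620 (iv F62203)) (tt N18272 (iv F61059)) (tt N15094 F60550) (tt N14708 F60551) (tt N14300 F60552) (tt N15091 F60553) (tt N14298 (iv D28429)))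
theorem Q18093 : ∀ i, i < 18093 → P i := stepQ 18092 Q18092 (allL N18092 (tt N18079 F60554) (tt N19239 (iv F63738)) (tt N18676 (iv F62337)) (tt N14301 F60555) (tt N15112 F60556) (tt N18088 F60557) (tt N14299 (iv D28430)))
theorem Q18094 : ∀ i, i < 18094 → P i := stepQ 18093 Q18093 (allL N18093 (tt N20828 (iv F69246)) (tt N14303 F60558) (tt N18617 F62194) (tt N18716 (iv F62434)) (tt N14302 (iv D28431)) (tt N20621 (iv F68434)) (tt N18013 F60559))
theorem Q18095 : ∀ i, i < 18095 → P i := stepQ 18094 Q18094 (allL N18094 (tt N14307 F60560) (tt N20914 D31267) (tt N18098 (iv F60569)) (tt N18478 (iv F61697)) (tt N18483 (iv F61718)) (tt N17567 F60561) (tt N14304 (iv D28432)))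
theorem Q18096 : ∀ i, i < 18096 → P i := stepQ 18095 Q18095 (allL N18095 (tt N18478 (iv F61695)) (tt N18770 (iv F63957)) (tt N15605 F60562) (tt N14307 F60563) (tt N15604 F60564) (tt N15844 F60565) (tt N14305 (iv D28433)))
theorem Q18097 : ∀ i, i < 18097 → P i := stepQ 18096 Q18096 (allL N18096 (tt N18483 (iv F61716)) (tt N20915 D31268) (tt N20624 (iv F68445)) (tt N18471 (iv F61676)) (tt N14307 F60566) (tt N20916 D31269) (tt N14306 (iv D28434)))
theorem Q18098 : ∀ i, i < 18098 → P i := stepQ 18097 Q18097 (allL N18097 (tt N18769 (iv F63961)) (tt N14307 (iv D28435)) (tt N20917 D31270) (tt N18770 F63960) (tt N20915 (iv F69582)) (tt N20918 D31271) (tt N14311 F60567))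
theorem Q18099 : ∀ i, i < 18099 → P i := stepQ 18098 Q18098 (allL N18098 (tt N17567 F60568) (tt N19102 (iv F63364)) (tt N18094 F60569) (tt N15844 F60570) (tt N20916 (iv F69587)) (tt N14307 (iv D28436)) (tt N14653 F60571))
theorem Q18100 : ∀ i, i < 18100 → P i := stepQ 18099 Q18099 (allL N18099 (tt N18771 F63959) (tt N14308 (iv D28437)) (tt N20919 D31272) (tt N14311 F60572) (tt N18743 (iv F62515)) (tt N20920 D31273) (tt N18770 (iv F63958)))
theorem Q18101 : ∀ i, i < 18101 → P i := stepQ 18100 Q18100 (allL N18100 (tt N18259 (iv F61025)) (tt N20921 D31274) (tt N15031 F60573) (tt N14310 F60574) (tt N18470 (iv F61672)) (tt N18241 (iv F60976)) (tt N14309 (iv D28438)))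
theorem Q18102 : ∀ i, i < 18102 → P i := stepQ 18101 Q18101 (allL N18101 (tt N20922 D31275) (tt N14310 (iv D28439)) (tt N20923 D31276) (tt N20921 (iv F69597)) (tt N14311 F60575) (tt N20924 D31277) (tt N20915 (iv F69583)))
theorem Q18103 : ∀ i, i < 18103 → P i := stepQ 18102 Q18102 (allL N18102 (tt N14311 (iv D28440)) (tt N20925 D31278) (tt N20926 D31279) (tt N18771 (iv F63963)) (tt N20922 (iv F69598)) (tt N20927 D31280) (tt N18769 F63962))
theorem Q18104 : ∀ i, i < 18104 → P i := stepQ 18103 Q18103 (allL N18103 (tt N20926 (iv F69605)) (tt N14314 F60576) (tt N14311 (iv D28441)) (tt N20923 (iv F69601)) (tt N20923 (iv F69600)) (tt N20928 D31281) (tt N20917 (iv F69589)))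
theorem Q18105 : ∀ i, i < 18105 → P i := stepQ 18104 Q18104 (allL N18104 (tt N20927 (iv F69606)) (tt N18245 (iv F60980)) (tt N20928 (iv F69608)) (tt N20920 (iv F69594)) (tt N20924 (iv F69602)) (tt N14311 (iv D28442)) (tt N20929 D31282))
theorem Q18106 : ∀ i, i < 18106 → P i := stepQ 18105 Q18105 (allL N18105 (tt N14312 (iv D28443)) (tt N16835 (iv F60579)) (tt N20930 D31283) (tt N14709 F60577) (tt N14313 F60578) (tt N20098 (iv F66630)) (tt N20191 (iv F66962)))
theorem Q18107 : ∀ i, i < 18107 → P i := stepQ 18106 Q18106 (allL N18106 (tt N20930 (iv F69613)) (tt N20923 (iv F69599)) (tt N14312 (iv D28444)) (tt N14314 F60581) (tt N14314 F60580) (tt N20099 (iv F66633)) (tt N20631 (iv F68455)))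
theorem Q18108 : ∀ i, i < 18108 → P i := stepQ 18107 Q18107 (allL N18107 (tt N19500 (iv F64655)) (tt N14313 (iv D28445)) (tt N20662 (iv F68558)) (tt N14316 F60582) (tt N16835 F60583) (tt N19749 (iv F65465)) (tt N15862 (iv F60584)))
theorem Q18109 : ∀ i, i < 18109 → P i := stepQ 18108 Q18108 (allL N18108 (tt N14314 F60585) (tt N20664 (iv F68565)) (tt N14313 (iv D28446)) (tt N20930 (iv F69614)) (tt N20930 (iv F69615)) (tt N20931 D31284) (tt N20633 (iv F68463)))
theorem Q18110 : ∀ i, i < 18110 → P i := stepQ 18109 Q18109 (allL N18109 (tt N14315 F60586) (tt N20932 D31285) (tt N20931 (iv F69617)) (tt N14318 F60587) (tt N20098 (iv F66629)) (tt N14313 (iv D28447)) (tt N17574 F60588))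
theorem Q18111 : ∀ i, i < 18111 → P i := stepQ 18110 Q18110 (allL N18110 (tt N20931 (iv F69616)) (tt N20091 (iv F66598)) (tt N14315 F60589) (tt N20099 (iv F66634)) (tt N20099 (iv F66632)) (tt N14314 (iv D28448)) (tt N20933 D31286))
theorem Q18112 : ∀ i, i < 18112 → P i := stepQ 18111 Q18111 (allL N18111 (tt N17574 F60590) (tt N19369 (iv F64176)) (tt N20933 (iv F69625)) (tt N14320 F60591) (tt N20094 (iv F66611)) (tt N17572 F60592) (tt N14315 (iv D28449)))
theorem Q18113 : ∀ i, i < 18113 → P i := stepQ 18112 Q18112 (allL N18112 (tt N14563 F60593) (tt N14318 (iv D28450)) (tt N14989 F60594) (tt N20932 (iv F69620)) (tt N14710 F60595) (tt N17939 F60596) (tt N14562 F60597))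
theorem Q18114 : ∀ i, i < 18114 → P i := stepQ 18113 Q18113 (allL N18113 (tt N16643 F60598) (tt N20644 (iv F68501)) (tt N14320 F60599) (tt N16667 F60600) (tt N14711 F60601) (tt N17575 F60602) (tt N14319 (iv D28451)))
theorem Q18115 : ∀ i, i < 18115 → P i := stepQ 18114 Q18114 (allL N18114 (tt N15062 F60603) (tt N19832 (iv F65714)) (tt N20875 (iv F69426)) (tt N14321 (iv D28452)) (tt N16367 F60604) (tt N15063 F60605) (tt N16118 F60606))
theorem Q18116 : ∀ i, i < 18116 → P i := stepQ 18115 Q18115 (allL N18115 (tt N16625 F60607) (tt N18131 (iv F60670)) (tt N18349 F61303) (tt N16596 F60608) (tt N14712 F60609) (tt N14322 (iv D28453)) (tt N16595 F60610))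
theorem Q18117 : ∀ i, i < 18117 → P i := stepQ 18116 Q18116 (allL N18116 (tt N14324 F60611) (tt N14770 F60612) (tt N14323 (iv D28454)) (tt N18029 F60615) (tt N14772 F60613) (tt N18129 (iv F60666)) (tt N14332 F60614))
theorem Q18118 : ∀ i, i < 18118 → P i := stepQ 18117 Q18117 (allL N18117 (tt N18029 F60616) (tt N16812 F60617) (tt N18028 F60618) (tt N14324 (iv D28455)) (tt N20213 (iv F67057)) (tt N20881 (iv F69454)) (tt N14335 F60619))
theorem Q18119 : ∀ i, i < 18119 → P i := stepQ 18118 Q18118 (allL N18118 (tt N18129 (iv F60663)) (tt N20205 (iv F67016)) (tt N14325 F60620) (tt N20881 (iv F69453)) (tt N16864 F60621) (tt N14324 (iv D28456)) (tt N18126 (iv F60653)))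
theorem Q18120 : ∀ i, i < 18120 → P i := stepQ 18119 Q18119 (allL N18119 (tt N16423 F60625) (tt N14325 (iv D28457)) (tt N16422 (iv F60626)) (tt N14326 F60622) (tt N16426 F60623) (tt N16670 F60624) (tt N20612 (iv F68407)))
theorem Q18121 : ∀ i, i < 18121 → P i := stepQ 18120 Q18120 (allL N18120 (tt N19252 (iv F63785)) (tt N14328 F60627) (tt N20934 D31287) (tt N14327 (iv D28458)) (tt N14383 F60628) (tt N19247 (iv F63767)) (tt N15597 F60629))
theorem Q18122 : ∀ i, i < 18122 → P i := stepQ 18121 Q18121 (allL N18121 (tt N19485 (iv F64591)) (tt N20935 D31288) (tt N14328 (iv D28459)) (tt N20868 (iv F69392)) (tt N20936 D31289) (tt N15834 F60630) (tt N19481 (iv F64576)))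
theorem Q18123 : ∀ i, i < 18123 → P i := stepQ 18122 Q18122 (allL N18122 (tt N19486 (iv F64596)) (tt N14383 F60631) (tt N20936 (iv F69633)) (tt N14382 F60632) (tt N14328 (iv D28460)) (tt N15835 F60633) (tt N19482 (iv F64582)))
theorem Q18124 : ∀ i, i < 18124 → P i := stepQ 18123 Q18123 (allL N18123 (tt N20641 (iv F68487)) (tt N14329 (iv D28461)) (tt N20666 (iv F68571)) (tt N17859 F60634) (tt N14714 F60635) (tt N17589 F60636) (tt N20937 D31290))
theorem Q18125 : ∀ i, i < 18125 → P i := stepQ 18124 Q18124 (allL N18124 (tt N14331 F60637) (tt N15771 (iv F60642)) (tt N16303 F60638) (tt N17854 F60639) (tt N14715 F60640) (tt N15774 F60641) (tt N14329 (iv D28462)))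
theorem Q18126 : ∀ i, i < 18126 → P i := stepQ 18125 Q18125 (allL N18125 (tt N16569 F60643) (tt N14330 (iv D28463)) (tt N15307 F60644) (tt N17865 F60645) (tt N14716 F60646) (tt N14334 F60647) (tt N15321 F60648))
theorem Q18127 : ∀ i, i < 18127 → P i := stepQ 18126 Q18126 (allL N18126 (tt N14336 F60649) (tt N19982 F66257) (tt N14333 F60650) (tt N18042 F60651) (tt N16371 F60652) (tt N14332 (iv D28464)) (tt N18118 F60653))
theorem Q18128 : ∀ i, i < 18128 → P i := stepQ 18127 Q18127 (allL N18127 (tt N16570 F60654) (tt N17541 F60655) (tt N15300 F60656) (tt N20597 (iv F68333)) (tt N14717 F60657) (tt N18949 (iv F62991)) (tt N14334 (iv D28465)))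
theorem Q18129 : ∀ i, i < 18129 → P i := stepQ 18128 Q18128 (allL N18128 (tt N18042 F60658) (tt N14671 F60659) (tt N18040 F60660) (tt N14336 F60661) (tt N14672 F60662) (tt N14335 (iv D28466)) (tt N20870 (iv F69404)))
theorem Q18130 : ∀ i, i < 18130 → P i := stepQ 18129 Q18129 (allL N18129 (tt N18118 F60663) (tt N19371 (iv F64183)) (tt N14338 F60664) (tt N20870 (iv F69402)) (tt N16467 F60665) (tt N18116 F60666) (tt N14336 (iv D28467)))
theorem Q18131 : ∀ i, i < 18131 → P i := stepQ 18130 Q18130 (allL N18130 (tt N18130 F60667) (tt N14338 (iv D28468)) (tt N19372 (iv F64189)) (tt N14339 F60668) (tt N20211 (iv F67047)) (tt N20057 (iv F66491)) (tt N19372 (iv F64191)))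
theorem Q18132 : ∀ i, i < 18132 → P i := stepQ 18131 Q18131 (allL N18131 (tt N18131 F60669) (tt N18115 F60670) (tt N19373 (iv F64194)) (tt N20057 (iv F66489)) (tt N14719 F60671) (tt N14339 (iv D28469)) (tt N19373 (iv F64196)))
theorem Q18133 : ∀ i, i < 18133 → P i := stepQ 18132 Q18132 (allL N18132 (tt N14343 F60672) (tt N14592 F60673) (tt N14340 (iv D28470)) (tt N18049 F60675) (tt N14590 F60674) (tt N19245 (iv F63760)) (tt N18504 (iv F61798)))
theorem Q18134 : ∀ i, i < 18134 → P i := stepQ 18133 Q18133 (allL N18133 (tt N18146 (iv F60716)) (tt N19851 (iv F65783)) (tt N15102 F60676) (tt N14342 F60677) (tt N15101 F60678) (tt N14341 (iv D28471)) (tt N14354 F60679))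
theorem Q18135 : ∀ i, i < 18135 → P i := stepQ 18134 Q18134 (allL N18134 (tt N14617 F60680) (tt N14342 (iv D28472)) (tt N16595 F60681) (tt N19851 (iv F65785)) (tt N14721 F60682) (tt N14347 F60683) (tt N18349 (iv F61302)))
theorem Q18136 : ∀ i, i < 18136 → P i := stepQ 18135 Q18135 (allL N18135 (tt N18727 (iv F62468)) (tt N14343 (iv D28473)) (tt N15085 F60684) (tt N20830 (iv F69259)) (tt N15073 F60685) (tt N18735 (iv F62500)) (tt N15085 F60686))
theorem Q18137 : ∀ i, i < 18137 → P i := stepQ 18136 Q18136 (allL N18136 (tt N18049 F60687) (tt N20830 (iv F69257)) (tt N17622 F60688) (tt N14343 (iv D28474)) (tt N17904 F60689) (tt N20938 D31291) (tt N20114 (iv F66695)))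
theorem Q18138 : ∀ i, i < 18138 → P i := stepQ 18137 Q18137 (allL N18137 (tt N19245 (iv F63758)) (tt N20939 D31292) (tt N14345 F60690) (tt N20938 (iv F69644)) (tt N20217 (iv F67071)) (tt N14343 (iv D28475)) (tt N20940 D31293))
theorem Q18139 : ∀ i, i < 18139 → P i := stepQ 18138 Q18138 (allL N18138 (tt N16804 F60691) (tt N20941 D31294) (tt N20217 (iv F67069)) (tt N14722 F60692) (tt N14345 F60693) (tt N14344 (iv D28476)) (tt N17942 F60694))
theorem Q18140 : ∀ i, i < 18140 → P i := stepQ 18139 Q18139 (allL N18139 (tt N16135 (iv F60696)) (tt N14345 (iv D28477)) (tt N20010 (iv F66364)) (tt N14347 F60695) (tt N20941 (iv F69652)) (tt N19851 (iv F65787)) (tt N20075 (iv F66548)))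
theorem Q18141 : ∀ i, i < 18141 → P i := stepQ 18140 Q18140 (allL N18140 (tt N18141 (iv F60700)) (tt N18522 (iv F61854)) (tt N20940 (iv F69647)) (tt N14348 F60697) (tt N17942 F60698) (tt N14673 F60699) (tt N14345 (iv D28478)))
theorem Q18142 : ∀ i, i < 18142 → P i := stepQ 18141 Q18141 (allL N18141 (tt N18140 F60700) (tt N17620 F60703) (tt N20229 (iv F67097)) (tt N14349 F60701) (tt N20181 (iv F66933)) (tt N14346 (iv D28479)) (tt N15554 F60702))
theorem Q18143 : ∀ i, i < 18143 → P i := stepQ 18142 Q18142 (allL N18142 (tt N14354 F60704) (tt N15950 F60705) (tt N18636 (iv F62248)) (tt N14351 F60706) (tt N18635 (iv F62245)) (tt N14350 (iv D28480)) (tt N18146 (iv F60719)))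
theorem Q18144 : ∀ i, i < 18144 → P i := stepQ 18143 Q18143 (allL N18143 (tt N20829 (iv F69251)) (tt N14352 (iv D28481)) (tt N14357 F60707) (tt N20829 (iv F69254)) (tt N18632 F62234) (tt N18018 (iv F60708)) (tt N20650 (iv F68534)))
theorem Q18145 : ∀ i, i < 18145 → P i := stepQ 18144 Q18144 (allL N18144 (tt N18636 (iv F62247)) (tt N20942 D31295) (tt N14354 F60709) (tt N20842 (iv F69301)) (tt N15104 F60710) (tt N14352 (iv D28482)) (tt N15102 F60711))
theorem Q18146 : ∀ i, i < 18146 → P i := stepQ 18145 Q18145 (allL N18145 (tt N18635 (iv F62242)) (tt N18329 (iv F61218)) (tt N15104 F60712) (tt N14727 F60713) (tt N14354 F60714) (tt N14353 (iv D28483)) (tt N15101 F60715))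
theorem Q18147 : ∀ i, i < 18147 → P i := stepQ 18146 Q18146 (allL N18146 (tt N18133 F60716) (tt N19473 (iv F64545)) (tt N18687 (iv F62353)) (tt N14356 F60717) (tt N15124 F60718) (tt N14355 (iv D28484)) (tt N18142 F60719))
theorem Q18148 : ∀ i, i < 18148 → P i := stepQ 18147 Q18147 (allL N18147 (tt N20830 (iv F69256)) (tt N14358 F60720) (tt N18632 F62233) (tt N18727 (iv F62471)) (tt N14357 (iv D28485)) (tt N18019 F60721) (tt N20648 (iv F68524)))
theorem Q18149 : ∀ i, i < 18149 → P i := stepQ 18148 Q18148 (allL N18148 (tt N14362 F60722) (tt N20943 D31296) (tt N18152 (iv F60731)) (tt N18506 (iv F61806)) (tt N18511 (iv F61827)) (tt N14359 (iv D28486)) (tt N17595 F60723))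
theorem Q18150 : ∀ i, i < 18150 → P i := stepQ 18149 Q18149 (allL N18149 (tt N18506 (iv F61804)) (tt N18821 F62653) (tt N15607 F60724) (tt N14362 F60725) (tt N15841 F60726) (tt N14360 (iv D28487)) (tt N15610 F60727))
theorem Q18151 : ∀ i, i < 18151 → P i := stepQ 18150 Q18150 (allL N18150 (tt N18511 (iv F61825)) (tt N20944 D31297) (tt N20651 (iv F68535)) (tt N18499 (iv F61785)) (tt N14362 F60728) (tt N14361 (iv D28488)) (tt N20945 D31298))
theorem Q18152 : ∀ i, i < 18152 → P i := stepQ 18151 Q18151 (allL N18151 (tt N18820 (iv F62655)) (tt N14362 (iv D28489)) (tt N20946 D31299) (tt N18821 F62654) (tt N20944 (iv F69660)) (tt N14366 F60729) (tt N20947 D31300))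
theorem Q18153 : ∀ i, i < 18153 → P i := stepQ 18152 Q18152 (allL N18152 (tt N17595 F60730) (tt N18962 (iv F63024)) (tt N18148 F60731) (tt N15610 F60732) (tt N20945 (iv F69665)) (tt N14684 F60733) (tt N14362 (iv D28490)))
theorem Q18154 : ∀ i, i < 18154 → P i := stepQ 18153 Q18153 (allL N18153 (tt N18822 F62650) (tt N14363 (iv D28491)) (tt N20948 D31301) (tt N14366 F60734) (tt N18794 (iv F62600)) (tt N18821 (iv F62652)) (tt N20949 D31302))
theorem Q18155 : ∀ i, i < 18155 → P i := stepQ 18154 Q18154 (allL N18154 (tt N18316 (iv F61186)) (tt N20950 D31303) (tt N15032 F60735) (tt N14365 F60736) (tt N18498 (iv F61781)) (tt N14364 (iv D28492)) (tt N18300 (iv F61145)))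
theorem Q18156 : ∀ i, i < 18156 → P i := stepQ 18155 Q18155 (allL N18155 (tt N20951 D31304) (tt N14365 (iv D28493)) (tt N20952 D31305) (tt N20950 (iv F69675)) (tt N14366 F60737) (tt N20944 (iv F69661)) (tt N20953 D31306))
theorem Q18157 : ∀ i, i < 18157 → P i := stepQ 18156 Q18156 (allL N18156 (tt N14366 (iv D28494)) (tt N20954 D31307) (tt N20955 D31308) (tt N18822 (iv F62651)) (tt N20951 (iv F69676)) (tt N18820 F62656) (tt N20956 D31309))
theorem Q18158 : ∀ i, i < 18158 → P i := stepQ 18157 Q18157 (allL N18157 (tt N20955 (iv F69683)) (tt N14369 F60738) (tt N14366 (iv D28495)) (tt N20952 (iv F69679)) (tt N20952 (iv F69678)) (tt N20946 (iv F69667)) (tt N20957 D31310))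
theorem Q18159 : ∀ i, i < 18159 → P i := stepQ 18158 Q18158 (allL N18158 (tt N20956 (iv F69684)) (tt N18304 (iv F61149)) (tt N20957 (iv F69686)) (tt N20949 (iv F69672)) (tt N20953 (iv F69680)) (tt N20958 D31311) (tt N14366 (iv D28496)))
theorem Q18160 : ∀ i, i < 18160 → P i := stepQ 18159 Q18159 (allL N18159 (tt N14367 (iv D28497)) (tt N16842 F60739) (tt N20959 D31312) (tt N14728 F60740) (tt N14368 F60741) (tt N20174 (iv F66906)) (tt N20090 (iv F66597)))
theorem Q18161 : ∀ i, i < 18161 → P i := stepQ 18160 Q18160 (allL N18160 (tt N20959 (iv F69691)) (tt N20952 (iv F69677)) (tt N14367 (iv D28498)) (tt N14369 F60743) (tt N14369 F60742) (tt N20658 (iv F68545)) (tt N20091 (iv F66600)))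
theorem Q18162 : ∀ i, i < 18162 → P i := stepQ 18161 Q18161 (allL N18161 (tt N19264 (iv F63830)) (tt N14368 (iv D28499)) (tt N20636 (iv F68471)) (tt N14371 F60744) (tt N16842 F60745) (tt N15628 (iv F60746)) (tt N19845 (iv F65765)))
theorem Q18163 : ∀ i, i < 18163 → P i := stepQ 18162 Q18162 (allL N18162 (tt N14369 F60747) (tt N20638 (iv F68478)) (tt N14368 (iv D28500)) (tt N20959 (iv F69692)) (tt N20959 (iv F69693)) (tt N20660 (iv F68553)) (tt N20960 D31313))
theorem Q18164 : ∀ i, i < 18164 → P i := stepQ 18163 Q18163 (allL N18163 (tt N14370 F60748) (tt N20961 D31314) (tt N20960 (iv F69695)) (tt N14373 F60749) (tt N20090 (iv F66596)) (tt N17602 F60750) (tt N14368 (iv D28501)))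
theorem Q18165 : ∀ i, i < 18165 → P i := stepQ 18164 Q18164 (allL N18164 (tt N20960 (iv F69694)) (tt N20099 (iv F66631)) (tt N14370 F60751) (tt N20091 (iv F66601)) (tt N20091 (iv F66599)) (tt N20962 D31315) (tt N14369 (iv D28502)))
theorem Q18166 : ∀ i, i < 18166 → P i := stepQ 18165 Q18165 (allL N18165 (tt N17602 F60752) (tt N19584 F64940) (tt N20962 (iv F69703)) (tt N14375 F60753) (tt N20086 (iv F66578)) (tt N14370 (iv D28503)) (tt N17600 F60754))
theorem Q18167 : ∀ i, i < 18167 → P i := stepQ 18166 Q18166 (allL N18166 (tt N14613 F60755) (tt N14373 (iv D28504)) (tt N14941 F60756) (tt N20961 (iv F69698)) (tt N14729 F60757) (tt N14612 F60758) (tt N17949 F60759))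
theorem Q18168 : ∀ i, i < 18168 → P i := stepQ 18167 Q18167 (allL N18167 (tt N16638 F60760) (tt N20669 (iv F68584)) (tt N14375 F60761) (tt N16649 F60762) (tt N14730 F60763) (tt N14374 (iv D28505)) (tt N17603 F60764))
theorem Q18169 : ∀ i, i < 18169 → P i := stepQ 18168 Q18168 (allL N18168 (tt N15057 F60765) (tt N19735 (iv F65418)) (tt N20899 (iv F69524)) (tt N14376 (iv D28506)) (tt N16501 F60766) (tt N16043 F60767) (tt N15058 F60768))
theorem Q18170 : ∀ i, i < 18170 → P i := stepQ 18169 Q18169 (allL N18169 (tt N16602 F60769) (tt N18183 (iv F60826)) (tt N18292 F61118) (tt N16561 F60770) (tt N14731 F60771) (tt N16560 F60772) (tt N14377 (iv D28507)))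
theorem Q18171 : ∀ i, i < 18171 → P i := stepQ 18170 Q18170 (allL N18170 (tt N14379 F60773) (tt N14749 F60774) (tt N14378 (iv D28508)) (tt N18058 F60777) (tt N14751 F60775) (tt N14387 F60776) (tt N18181 (iv F60822)))
theorem Q18172 : ∀ i, i < 18172 → P i := stepQ 18171 Q18171 (allL N18171 (tt N18058 F60778) (tt N16786 F60779) (tt N18057 F60780) (tt N14379 (iv D28509)) (tt N20212 (iv F67053)) (tt N14390 F60781) (tt N20905 (iv F69552)))
theorem Q18173 : ∀ i, i < 18173 → P i := stepQ 18172 Q18172 (allL N18172 (tt N18181 (iv F60819)) (tt N20201 (iv F66999)) (tt N14380 F60782) (tt N20905 (iv F69551)) (tt N16855 F60783) (tt N18178 (iv F60809)) (tt N14379 (iv D28510)))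
theorem Q18174 : ∀ i, i < 18174 → P i := stepQ 18173 Q18173 (allL N18173 (tt N16268 (iv F60787)) (tt N14380 (iv D28511)) (tt N16267 (iv F60788)) (tt N14381 F60784) (tt N16271 F60785) (tt N20609 (iv F68394)) (tt N16652 F60786))
theorem Q18175 : ∀ i, i < 18175 → P i := stepQ 18174 Q18174 (allL N18174 (tt N19251 (iv F63781)) (tt N20963 D31316) (tt N14383 (iv D28512)) (tt N20892 (iv F69490)) (tt N20934 (iv F69627)) (tt N19246 (iv F63762)) (tt N15596 F60789))
theorem Q18176 : ∀ i, i < 18176 → P i := stepQ 18175 Q18175 (allL N18175 (tt N20666 (iv F68570)) (tt N14384 (iv D28513)) (tt N20641 (iv F68488)) (tt N17871 F60790) (tt N14733 F60791) (tt N20964 D31317) (tt N17617 F60792))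
theorem Q18177 : ∀ i, i < 18177 → P i := stepQ 18176 Q18176 (allL N18176 (tt N14385 F60793) (tt N15996 (iv F60798)) (tt N16285 F60794) (tt N17866 F60795) (tt N14734 F60796) (tt N14384 (iv D28514)) (tt N15999 F60797))
theorem Q18178 : ∀ i, i < 18178 → P i := stepQ 18177 Q18177 (allL N18177 (tt N16535 F60799) (tt N14386 (iv D28515)) (tt N15254 F60800) (tt N17877 F60801) (tt N14735 F60802) (tt N15268 F60803) (tt N14389 F60804))
theorem Q18179 : ∀ i, i < 18179 → P i := stepQ 18178 Q18178 (allL N18178 (tt N14391 F60805) (tt N19921 (iv F66022)) (tt N14388 F60806) (tt N18071 F60807) (tt N16321 F60808) (tt N18172 F60809) (tt N14387 (iv D28516)))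
theorem Q18180 : ∀ i, i < 18180 → P i := stepQ 18179 Q18179 (allL N18179 (tt N16534 F60810) (tt N17537 F60811) (tt N15247 F60812) (tt N20595 (iv F68324)) (tt N14736 F60813) (tt N14389 (iv D28517)) (tt N18895 (iv F62828)))
theorem Q18181 : ∀ i, i < 18181 → P i := stepQ 18180 Q18180 (allL N18180 (tt N18071 F60814) (tt N14642 F60815) (tt N18069 F60816) (tt N14391 F60817) (tt N14644 F60818) (tt N20894 (iv F69502)) (tt N14390 (iv D28518)))
theorem Q18182 : ∀ i, i < 18182 → P i := stepQ 18181 Q18181 (allL N18181 (tt N18172 F60819) (tt N19586 (iv F64947)) (tt N14393 F60820) (tt N20894 (iv F69500)) (tt N16323 F60821) (tt N14391 (iv D28519)) (tt N18170 F60822))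
theorem Q18183 : ∀ i, i < 18183 → P i := stepQ 18182 Q18182 (allL N18182 (tt N18182 F60823) (tt N14393 (iv D28520)) (tt N19587 (iv F64953)) (tt N14394 F60824) (tt N20210 (iv F67041)) (tt N19587 (iv F64955)) (tt N20037 (iv F66441)))
theorem Q18184 : ∀ i, i < 18184 → P i := stepQ 18183 Q18183 (allL N18183 (tt N18183 F60825) (tt N18169 F60826) (tt N19588 (iv F64958)) (tt N20037 (iv F66439)) (tt N14738 F60827) (tt N19588 (iv F64960)) (tt N14394 (iv D28521)))
theorem Q18185 : ∀ i, i < 18185 → P i := stepQ 18184 Q18184 (allL N18184 (tt N14397 F60828) (tt N20965 D31318) (tt N14396 (iv D28522)) (tt N20966 D31319) (tt N15331 F60829) (tt N18996 (iv F63136)) (tt N15358 F60830))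
theorem Q18186 : ∀ i, i < 18186 → P i := stepQ 18185 Q18185 (allL N18185 (tt N20966 (iv F69716)) (tt N14399 F60831) (tt N20967 D31320) (tt N14397 (iv D28523)) (tt N20968 D31321) (tt N18999 (iv F63142)) (tt N18987 (iv F63110)))
theorem Q18187 : ∀ i, i < 18187 → P i := stepQ 18186 Q18186 (allL N18186 (tt N20707 (iv F68741)) (tt N20968 (iv F69719)) (tt N17667 F60832) (tt N15338 F60833) (tt N14399 (iv D28524)) (tt N17666 F60834) (tt N20700 (iv F68715)))
theorem Q18188 : ∀ i, i < 18188 → P i := stepQ 18187 Q18187 (allL N18187 (tt N19724 (iv F65385)) (tt N14400 (iv D28525)) (tt N18032 F60835) (tt N17665 F60836) (tt N15340 F60837) (tt N18256 (iv F61018)) (tt N20969 D31322))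
theorem Q18189 : ∀ i, i < 18189 → P i := stepQ 18188 Q18188 (allL N18188 (tt N14404 F60838) (tt N20970 D31323) (tt N18188 F60839) (tt N18235 (iv F60956)) (tt N18191 (iv F60849)) (tt N18191 (iv F60850)) (tt N14401 (iv D28526)))
theorem Q18190 : ∀ i, i < 18190 → P i := stepQ 18189 Q18189 (allL N18189 (tt N14443 F60840) (tt N14405 F60841) (tt N17019 F60843) (tt N14402 (iv D28527)) (tt N18236 (iv F60960)) (tt N14441 F60842) (tt N18240 (iv F60972)))
theorem Q18191 : ∀ i, i < 18191 → P i := stepQ 18190 Q18190 (allL N18190 (tt N18191 (iv F60847)) (tt N20971 D31324) (tt N18190 F60844) (tt N18240 (iv F60971)) (tt N14404 F60845) (tt N14404 F60846) (tt N14402 (iv D28528)))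
theorem Q18192 : ∀ i, i < 18192 → P i := stepQ 18191 Q18191 (allL N18191 (tt N18190 F60847) (tt N20403 (iv F67670)) (tt N18191 F60848) (tt N18238 (iv F60965)) (tt N18188 F60849) (tt N18188 F60850) (tt N14403 (iv D28529)))
theorem Q18193 : ∀ i, i < 18193 → P i := stepQ 18192 Q18192 (allL N18192 (tt N20972 D31325) (tt N14404 (iv D28530)) (tt N20973 D31326) (tt N18239 (iv F60967)) (tt N20971 (iv F69730)) (tt N20974 D31327) (tt N14407 F60851))
theorem Q18194 : ∀ i, i < 18194 → P i := stepQ 18193 Q18193 (allL N18193 (tt N18253 (iv F61008)) (tt N20975 D31328) (tt N17023 F60852) (tt N14406 F60853) (tt N18241 (iv F60975)) (tt N18470 (iv F61673)) (tt N14405 (iv D28531)))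
theorem Q18195 : ∀ i, i < 18195 → P i := stepQ 18194 Q18194 (allL N18194 (tt N20976 D31329) (tt N14406 (iv D28532)) (tt N20977 D31330) (tt N20975 (iv F69736)) (tt N14407 F60854) (tt N20978 D31331) (tt N20971 (iv F69731)))
theorem Q18196 : ∀ i, i < 18196 → P i := stepQ 18195 Q18195 (allL N18195 (tt N14407 (iv D28533)) (tt N20979 D31332) (tt N20980 D31333) (tt N18243 (iv F60978)) (tt N20976 (iv F69739)) (tt N20981 D31334) (tt N20972 (iv F69733)))
theorem Q18197 : ∀ i, i < 18197 → P i := stepQ 18196 Q18196 (allL N18196 (tt N20980 (iv F69745)) (tt N14409 F60855) (tt N14407 (iv D28534)) (tt N19998 (iv F66321)) (tt N20977 (iv F69741)) (tt N20982 D31335) (tt N20973 (iv F69735)))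
theorem Q18198 : ∀ i, i < 18198 → P i := stepQ 18197 Q18197 (allL N18197 (tt N20981 (iv F69748)) (tt N20920 (iv F69593)) (tt N20982 (iv F69751)) (tt N18245 (iv F60981)) (tt N20978 (iv F69743)) (tt N14407 (iv D28535)) (tt N20983 D31336))
theorem Q18199 : ∀ i, i < 18199 → P i := stepQ 18198 Q18198 (allL N18198 (tt N15349 F60856) (tt N20977 (iv F69740)) (tt N14408 (iv D28536)) (tt N17971 F62488) (tt N14409 F60857) (tt N20856 (iv F69353)) (tt N18198 F60858))
theorem Q18200 : ∀ i, i < 18200 → P i := stepQ 18199 Q18199 (allL N18199 (tt N15350 F60859) (tt N18203 (iv F60872)) (tt N20856 (iv F69355)) (tt N15350 F60860) (tt N14410 F60861) (tt N14408 (iv D28537)) (tt N15350 F60862))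
theorem Q18201 : ∀ i, i < 18201 → P i := stepQ 18200 Q18200 (allL N18200 (tt N15351 F60863) (tt N19998 (iv F66319)) (tt N18989 (iv F63116)) (tt N14409 (iv D28538)) (tt N18665 (iv F62487)) (tt N16130 (iv F61244)) (tt N18200 F60864))
theorem Q18202 : ∀ i, i < 18202 → P i := stepQ 18201 Q18201 (allL N18201 (tt N15352 F60865) (tt N16124 (iv F61241)) (tt N14410 F60866) (tt N16130 F61242) (tt N20856 (iv F69352)) (tt N14409 (iv D28539)) (tt N15352 F60867))
theorem Q18203 : ∀ i, i < 18203 → P i := stepQ 18202 Q18202 (allL N18202 (tt N15152 F60868) (tt N14410 (iv D28540)) (tt N20984 D31337) (tt N14412 F60869) (tt N18203 (iv F60874)) (tt N14411 F60870) (tt N15329 F60871))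
theorem Q18204 : ∀ i, i < 18204 → P i := stepQ 18203 Q18203 (allL N18203 (tt N14411 (iv D28541)) (tt N18199 F60872) (tt N20985 D31338) (tt N14413 F60873) (tt N18202 F60874) (tt N15152 F60875) (tt N18958 (iv F63016)))
theorem Q18205 : ∀ i, i < 18205 → P i := stepQ 18204 Q18204 (allL N18204 (tt N20985 (iv F69760)) (tt N20919 (iv F69591)) (tt N14411 (iv D28542)) (tt N20986 D31339) (tt N18742 (iv F62513)) (tt N20984 (iv F69758)) (tt N18959 (iv F63020)))
theorem Q18206 : ∀ i, i < 18206 → P i := stepQ 18205 Q18205 (allL N18205 (tt N15328 F60876) (tt N19219 (iv F63677)) (tt N14412 (iv D28543)) (tt N20255 (iv F67155)) (tt N15358 F60877) (tt N14414 F60878) (tt N15331 F60879))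
theorem Q18207 : ∀ i, i < 18207 → P i := stepQ 18206 Q18206 (allL N18206 (tt N14414 F60880) (tt N20987 D31340) (tt N14413 (iv D28544)) (tt N20254 (iv F67149)) (tt N15359 F60881) (tt N15328 F60882) (tt N18965 (iv F63029)))
theorem Q18208 : ∀ i, i < 18208 → P i := stepQ 18207 Q18207 (allL N18207 (tt N20988 D31341) (tt N14415 (iv D28545)) (tt N18024 F60883) (tt N20256 (iv F67157)) (tt N15389 F60884) (tt N20989 D31342) (tt N18969 (iv F63036)))
theorem Q18209 : ∀ i, i < 18209 → P i := stepQ 18208 Q18208 (allL N18208 (tt N15530 F60885) (tt N20990 D31343) (tt N14416 F60886) (tt N16928 F60887) (tt N15390 F60888) (tt N14415 (iv D28546)) (tt N15528 F60889))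
theorem Q18210 : ∀ i, i < 18210 → P i := stepQ 18209 Q18209 (allL N18209 (tt N14419 F60890) (tt N20991 D31344) (tt N14418 (iv D28547)) (tt N20992 D31345) (tt N15436 F60891) (tt N15462 F60892) (tt N19135 (iv F63460)))
theorem Q18211 : ∀ i, i < 18211 → P i := stepQ 18210 Q18210 (allL N18210 (tt N20992 (iv F69783)) (tt N14421 F60893) (tt N20993 D31346) (tt N14419 (iv D28548)) (tt N20994 D31347) (tt N19126 (iv F63428)) (tt N19138 (iv F63466)))
theorem Q18212 : ∀ i, i < 18212 → P i := stepQ 18211 Q18211 (allL N18211 (tt N20740 (iv F68875)) (tt N20994 (iv F69786)) (tt N17736 F60894) (tt N15442 F60895) (tt N14421 (iv D28549)) (tt N20733 (iv F68848)) (tt N17735 F60896))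
theorem Q18213 : ∀ i, i < 18213 → P i := stepQ 18212 Q18212 (allL N18212 (tt N19817 F65666) (tt N14422 (iv D28550)) (tt N18061 F60897) (tt N17734 F60898) (tt N15444 F60899) (tt N20995 D31348) (tt N18313 (iv F61180)))
theorem Q18214 : ∀ i, i < 18214 → P i := stepQ 18213 Q18213 (allL N18213 (tt N14425 F60900) (tt N20996 D31349) (tt N18213 F60901) (tt N18294 (iv F61125)) (tt N18217 (iv F60912)) (tt N14423 (iv D28551)) (tt N18217 (iv F60913)))
theorem Q18215 : ∀ i, i < 18215 → P i := stepQ 18214 Q18214 (allL N18214 (tt N14493 F60902) (tt N14427 F60903) (tt N17111 F60905) (tt N14424 (iv D28552)) (tt N18295 (iv F61129)) (tt N18298 (iv F61137)) (tt N14490 F60904))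
theorem Q18216 : ∀ i, i < 18216 → P i := stepQ 18215 Q18215 (allL N18215 (tt N18217 (iv F60910)) (tt N20997 D31350) (tt N18215 F60906) (tt N18298 (iv F61136)) (tt N14425 F60907) (tt N14424 (iv D28553)) (tt N14425 F60908))
theorem Q18217 : ∀ i, i < 18217 → P i := stepQ 18216 Q18216 (allL N18216 (tt N20998 D31351) (tt N14425 (iv D28554)) (tt N20999 D31352) (tt N18297 (iv F61133)) (tt N20997 (iv F69797)) (tt N14429 F60909) (tt N21000 D31353))
theorem Q18218 : ∀ i, i < 18218 → P i := stepQ 18217 Q18217 (allL N18217 (tt N18215 F60910) (tt N20341 (iv F67443)) (tt N18217 F60911) (tt N18299 (iv F61140)) (tt N18213 F60912) (tt N14426 (iv D28555)) (tt N18213 F60913))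
theorem Q18219 : ∀ i, i < 18219 → P i := stepQ 18218 Q18218 (allL N18218 (tt N18310 (iv F61169)) (tt N21001 D31354) (tt N17116 F60914) (tt N14428 F60915) (tt N18300 (iv F61144)) (tt N14427 (iv D28556)) (tt N18498 (iv F61782)))
theorem Q18220 : ∀ i, i < 18220 → P i := stepQ 18219 Q18219 (allL N18219 (tt N21002 D31355) (tt N14428 (iv D28557)) (tt N21003 D31356) (tt N21001 (iv F69803)) (tt N14429 F60916) (tt N20997 (iv F69798)) (tt N21004 D31357))
theorem Q18221 : ∀ i, i < 18221 → P i := stepQ 18220 Q18220 (allL N18220 (tt N14429 (iv D28558)) (tt N21005 D31358) (tt N21006 D31359) (tt N18302 (iv F61147)) (tt N21002 (iv F69806)) (tt N20998 (iv F69800)) (tt N21007 D31360))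
theorem Q18222 : ∀ i, i < 18222 → P i := stepQ 18221 Q18221 (allL N18221 (tt N21006 (iv F69812)) (tt N14431 F60917) (tt N14429 (iv D28559)) (tt N19939 (iv F66098)) (tt N21003 (iv F69808)) (tt N20999 (iv F69802)) (tt N21008 D31361))
theorem Q18223 : ∀ i, i < 18223 → P i := stepQ 18222 Q18222 (allL N18222 (tt N21007 (iv F69815)) (tt N20949 (iv F69671)) (tt N21008 (iv F69818)) (tt N18304 (iv F61150)) (tt N21004 (iv F69810)) (tt N21009 D31362) (tt N14429 (iv D28560)))
theorem Q18224 : ∀ i, i < 18224 → P i := stepQ 18223 Q18223 (allL N18223 (tt N15453 F60918) (tt N21003 (iv F69807)) (tt N14430 (iv D28561)) (tt N17968 (iv F63095)) (tt N14431 F60919) (tt N18223 F60920) (tt N20849 (iv F69327)))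
theorem Q18225 : ∀ i, i < 18225 → P i := stepQ 18224 Q18224 (allL N18224 (tt N15454 F60921) (tt N18228 (iv F60934)) (tt N20849 (iv F69328)) (tt N15454 F60922) (tt N14432 F60923) (tt N15454 F60924) (tt N14430 (iv D28562)))
theorem Q18226 : ∀ i, i < 18226 → P i := stepQ 18225 Q18225 (allL N18225 (tt N15455 F60925) (tt N19939 (iv F66096)) (tt N19128 (iv F63435)) (tt N14431 (iv D28563)) (tt N18663 F63094) (tt N18225 F60926) (tt N16052 (iv F63093)))
theorem Q18227 : ∀ i, i < 18227 → P i := stepQ 18226 Q18226 (allL N18226 (tt N15456 F60927) (tt N16047 F63096) (tt N14432 F60928) (tt N16052 (iv F63087)) (tt N20849 (iv F69325)) (tt N15456 F60929) (tt N14431 (iv D28564)))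
theorem Q18228 : ∀ i, i < 18228 → P i := stepQ 18227 Q18227 (allL N18227 (tt N15186 F60930) (tt N14432 (iv D28565)) (tt N21010 D31363) (tt N14434 F60931) (tt N18228 (iv F60936)) (tt N15434 F60932) (tt N14433 F60933))
theorem Q18229 : ∀ i, i < 18229 → P i := stepQ 18228 Q18228 (allL N18228 (tt N14433 (iv D28566)) (tt N18224 F60934) (tt N21011 D31364) (tt N14435 F60935) (tt N18227 F60936) (tt N19099 (iv F63356)) (tt N15186 F60937))
theorem Q18230 : ∀ i, i < 18230 → P i := stepQ 18229 Q18229 (allL N18229 (tt N21011 (iv F69827)) (tt N20948 (iv F69669)) (tt N14433 (iv D28567)) (tt N21012 D31365) (tt N18793 (iv F62598)) (tt N19100 (iv F63360)) (tt N21010 (iv F69826)))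
theorem Q18231 : ∀ i, i < 18231 → P i := stepQ 18230 Q18230 (allL N18230 (tt N15432 F60938) (tt N19085 (iv F63325)) (tt N14434 (iv D28568)) (tt N20243 (iv F67127)) (tt N15462 F60939) (tt N15436 F60940) (tt N14436 F60941))
theorem Q18232 : ∀ i, i < 18232 → P i := stepQ 18231 Q18231 (allL N18231 (tt N14436 F60942) (tt N21013 D31366) (tt N14435 (iv D28569)) (tt N20242 (iv F67124)) (tt N15463 F60943) (tt N19105 (iv F63369)) (tt N15432 F60944))
theorem Q18233 : ∀ i, i < 18233 → P i := stepQ 18232 Q18232 (allL N18232 (tt N21014 D31367) (tt N14437 (iv D28570)) (tt N18052 F60945) (tt N20244 (iv F67129)) (tt N15493 F60946) (tt N19109 (iv F63375)) (tt N21015 D31368))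
theorem Q18234 : ∀ i, i < 18234 → P i := stepQ 18233 Q18233 (allL N18233 (tt N15427 F60947) (tt N21016 D31369) (tt N14438 F60948) (tt N16916 F60949) (tt N15494 F60950) (tt N15425 F60951) (tt N14437 (iv D28571)))
theorem Q18235 : ∀ i, i < 18235 → P i := stepQ 18234 Q18234 (allL N18234 (tt N17639 F60952) (tt N19234 (iv F63721)) (tt N18305 (iv F61151)) (tt N14440 F60953) (tt N18307 (iv F61158)) (tt N14439 (iv D28572)) (tt N18250 (iv F60997)))
theorem Q18236 : ∀ i, i < 18236 → P i := stepQ 18235 Q18235 (allL N18235 (tt N14444 F60954) (tt N21017 D31370) (tt N17020 F60955) (tt N18188 F60956) (tt N20603 (iv F68366)) (tt N18238 (iv F60966)) (tt N14441 (iv D28573)))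
theorem Q18237 : ∀ i, i < 18237 → P i := stepQ 18236 Q18236 (allL N18236 (tt N17562 F60957) (tt N14445 F60958) (tt N17520 F60959) (tt N14442 (iv D28574)) (tt N18189 F60960) (tt N17522 F60961) (tt N21018 D31371))
theorem Q18238 : ∀ i, i < 18238 → P i := stepQ 18237 Q18237 (allL N18237 (tt N20603 (iv F68364)) (tt N19580 F64932) (tt N17031 F60962) (tt N21018 (iv F69854)) (tt N14444 F60963) (tt N21018 (iv F69856)) (tt N14442 (iv D28575)))
theorem Q18239 : ∀ i, i < 18239 → P i := stepQ 18238 Q18238 (allL N18238 (tt N18240 (iv F60969)) (tt N17140 F67391) (tt N17032 F60964) (tt N18191 F60965) (tt N20622 (iv F68437)) (tt N18235 F60966) (tt N14443 (iv D28576)))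
theorem Q18240 : ∀ i, i < 18240 → P i := stepQ 18239 Q18239 (allL N18239 (tt N19577 (iv F64921)) (tt N14444 (iv D28577)) (tt N19576 F64920) (tt N18192 F60967) (tt N19580 (iv F64930)) (tt N21019 D31372) (tt N14447 F60968))
theorem Q18241 : ∀ i, i < 18241 → P i := stepQ 18240 Q18240 (allL N18240 (tt N18238 F60969) (tt N20420 (iv F67733)) (tt N17034 F60970) (tt N18190 F60971) (tt N21018 (iv F69855)) (tt N14444 (iv D28578)) (tt N18189 F60972))
theorem Q18242 : ∀ i, i < 18242 → P i := stepQ 18241 Q18241 (allL N18241 (tt N14459 F60973) (tt N21020 D31373) (tt N18535 (iv F61903)) (tt N14446 F60974) (tt N18193 F60975) (tt N18100 F60976) (tt N14445 (iv D28579)))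
theorem Q18243 : ∀ i, i < 18243 → P i := stepQ 18242 Q18242 (allL N18242 (tt N18521 (iv F61851)) (tt N14446 (iv D28580)) (tt N18520 F61850) (tt N21020 (iv F69858)) (tt N14447 F60977) (tt N21021 D31374) (tt N19580 (iv F64931)))
theorem Q18244 : ∀ i, i < 18244 → P i := stepQ 18243 Q18243 (allL N18243 (tt N14447 (iv D28581)) (tt N21022 D31375) (tt N18519 F61845) (tt N18195 F60978) (tt N18521 (iv F61852)) (tt N21023 D31376) (tt N19577 (iv F64923)))
theorem Q18245 : ∀ i, i < 18245 → P i := stepQ 18244 Q18244 (allL N18244 (tt N18519 (iv F61841)) (tt N14450 F60979) (tt N14447 (iv D28582)) (tt N19992 (iv F66298)) (tt N18520 (iv F61847)) (tt N21024 D31377) (tt N19576 (iv F64919)))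
theorem Q18246 : ∀ i, i < 18246 → P i := stepQ 18245 Q18245 (allL N18245 (tt N21023 (iv F69865)) (tt N18104 F60980) (tt N21024 (iv F69871)) (tt N18197 F60981) (tt N21021 (iv F69862)) (tt N14447 (iv D28583)) (tt N21025 D31378))
theorem Q18247 : ∀ i, i < 18247 → P i := stepQ 18246 Q18246 (allL N18246 (tt N14448 (iv D28584)) (tt N20264 (iv F67179)) (tt N18293 (iv F61120)) (tt N14740 F60982) (tt N14449 F60983) (tt N21026 D31379) (tt N17638 F60984))
theorem Q18248 : ∀ i, i < 18248 → P i := stepQ 18247 Q18247 (allL N18247 (tt N21026 (iv F69880)) (tt N16675 F60985) (tt N14500 F60986) (tt N14742 F60987) (tt N14451 F60988) (tt N14448 (iv D28585)) (tt N14499 F60989))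
theorem Q18249 : ∀ i, i < 18249 → P i := stepQ 18248 Q18248 (allL N18248 (tt N20430 (iv F67769)) (tt N14449 (iv D28586)) (tt N21027 D31380) (tt N14452 F60990) (tt N20264 (iv F67181)) (tt N20429 (iv F67768)) (tt N20261 F67173))
theorem Q18250 : ∀ i, i < 18250 → P i := stepQ 18249 Q18249 (allL N18249 (tt N14450 F60991) (tt N17289 (iv F60994)) (tt N14449 (iv D28587)) (tt N17306 F60992) (tt N18293 (iv F61122)) (tt N21028 D31381) (tt N17368 F60993))
theorem Q18251 : ∀ i, i < 18251 → P i := stepQ 18250 Q18250 (allL N18250 (tt N14451 F60995) (tt N19697 (iv F65304)) (tt N21028 (iv F69888)) (tt N14453 F60996) (tt N21026 (iv F69883)) (tt N14449 (iv D28588)) (tt N18234 F60997))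
theorem Q18252 : ∀ i, i < 18252 → P i := stepQ 18251 Q18251 (allL N18251 (tt N21028 (iv F69887)) (tt N16657 F61002) (tt N14451 F60998) (tt N14763 F60999) (tt N14500 F61000) (tt N14450 (iv D28589)) (tt N14497 F61001))
theorem Q18253 : ∀ i, i < 18253 → P i := stepQ 18252 Q18252 (allL N18252 (tt N15029 F61003) (tt N17744 F61004) (tt N15587 F61005) (tt N14454 (iv D28590)) (tt N20235 (iv F67113)) (tt N15027 F61006) (tt N17955 F61007))
theorem Q18254 : ∀ i, i < 18254 → P i := stepQ 18253 Q18253 (allL N18253 (tt N18193 F61008) (tt N21029 D31382) (tt N17025 F61009) (tt N14456 F61010) (tt N14459 F61011) (tt N15154 F61012) (tt N14455 (iv D28591)))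
theorem Q18255 : ∀ i, i < 18255 → P i := stepQ 18254 Q18254 (allL N18254 (tt N21030 D31383) (tt N14456 (iv D28592)) (tt N18969 (iv F63033)) (tt N21029 (iv F69892)) (tt N14457 F61013) (tt N15162 F61014) (tt N18024 F61015))
theorem Q18256 : ∀ i, i < 18256 → P i := stepQ 18255 Q18255 (allL N18255 (tt N14457 (iv D28593)) (tt N20317 F67345) (tt N21031 D31384) (tt N14462 F61016) (tt N21030 (iv F69897)) (tt N20872 (iv F69413)) (tt N18739 (iv F62509)))
theorem Q18257 : ∀ i, i < 18257 → P i := stepQ 18256 Q18256 (allL N18256 (tt N21031 (iv F69901)) (tt N15362 F61017) (tt N14457 (iv D28594)) (tt N20694 (iv F68684)) (tt N18969 (iv F63034)) (tt N18187 F61018) (tt N15389 F61019))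
theorem Q18258 : ∀ i, i < 18258 → P i := stepQ 18257 Q18257 (allL N18257 (tt N18535 (iv F61902)) (tt N18377 (iv F61441)) (tt N14459 F61020) (tt N14547 F61021) (tt N17025 F61022) (tt N17022 F61023) (tt N14458 (iv D28595)))
theorem Q18259 : ∀ i, i < 18259 → P i := stepQ 18258 Q18258 (allL N18258 (tt N21032 D31385) (tt N14459 (iv D28596)) (tt N21033 D31386) (tt N14460 F61024) (tt N21029 (iv F69893)) (tt N21034 D31387) (tt N20680 (iv F68632)))
theorem Q18260 : ∀ i, i < 18260 → P i := stepQ 18259 Q18259 (allL N18259 (tt N18100 F61025) (tt N15160 (iv F61030)) (tt N17022 F61026) (tt N14461 F61027) (tt N15154 F61028) (tt N14459 (iv D28597)) (tt N17021 F61029))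
theorem Q18261 : ∀ i, i < 18261 → P i := stepQ 18260 Q18260 (allL N18260 (tt N14460 (iv D28598)) (tt N21035 D31388) (tt N21036 D31389) (tt N21032 (iv F69907)) (tt N14462 F61031) (tt N21037 D31390) (tt N20682 (iv F68640)))
theorem Q18262 : ∀ i, i < 18262 → P i := stepQ 18261 Q18261 (allL N18261 (tt N21036 (iv F69914)) (tt N14466 F61032) (tt N14460 (iv D28599)) (tt N21038 D31391) (tt N14463 F61033) (tt N21039 D31392) (tt N19728 (iv F65399)))
theorem Q18263 : ∀ i, i < 18263 → P i := stepQ 18262 Q18262 (allL N18262 (tt N21037 (iv F69919)) (tt N20871 (iv F69405)) (tt N21039 (iv F69925)) (tt N21034 (iv F69909)) (tt N14464 F61034) (tt N14460 (iv D28600)) (tt N21040 D31393))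
theorem Q18264 : ∀ i, i < 18264 → P i := stepQ 18263 Q18263 (allL N18263 (tt N20319 (iv F67346)) (tt N14462 (iv D28601)) (tt N16027 (iv F61046)) (tt N20317 (iv F67342)) (tt N21035 (iv F69911)) (tt N20316 F67339) (tt N16015 F61047))
theorem Q18265 : ∀ i, i < 18265 → P i := stepQ 18264 Q18264 (allL N18264 (tt N14463 F61035) (tt N17686 F61045) (tt N14462 (iv D28602)) (tt N20969 (iv F69724)) (tt N21036 (iv F69916)) (tt N21041 D31394) (tt N17665 (iv F61044)))
theorem Q18266 : ∀ i, i < 18266 → P i := stepQ 18265 Q18265 (allL N18265 (tt N14464 F61036) (tt N21042 D31395) (tt N21041 (iv F69931)) (tt N20872 (iv F69411)) (tt N21037 (iv F69920)) (tt N14462 (iv D28603)) (tt N17645 F61037))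
theorem Q18267 : ∀ i, i < 18267 → P i := stepQ 18266 Q18266 (allL N18266 (tt N20969 (iv F69721)) (tt N14470 F61038) (tt N18740 (iv F62510)) (tt N14463 (iv D28604)) (tt N20989 (iv F69775)) (tt N15389 F61049) (tt N19724 (iv F65384)))
theorem Q18268 : ∀ i, i < 18268 → P i := stepQ 18267 Q18267 (allL N18267 (tt N21041 (iv F69930)) (tt N15388 F61048) (tt N14464 F61039) (tt N15389 (iv F61040)) (tt N21039 (iv F69926)) (tt N14463 (iv D28605)) (tt N20694 (iv F68685)))
theorem Q18269 : ∀ i, i < 18269 → P i := stepQ 18268 Q18268 (allL N18268 (tt N17645 F61050) (tt N21043 D31396) (tt N20694 (iv F68683)) (tt N20873 (iv F69416)) (tt N21040 (iv F69928)) (tt N17644 F61051) (tt N14464 (iv D28606)))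
theorem Q18270 : ∀ i, i < 18270 → P i := stepQ 18269 Q18269 (allL N18269 (tt N20135 (iv F66777)) (tt N14465 (iv D28607)) (tt N21044 D31397) (tt N14748 F61052) (tt N14468 F61053) (tt N17029 (iv F61054)) (tt N20340 (iv F67440)))
theorem Q18271 : ∀ i, i < 18271 → P i := stepQ 18270 Q18270 (allL N18270 (tt N14466 F61055) (tt N21045 D31398) (tt N14465 (iv D28608)) (tt N21046 D31399) (tt N14469 F61056) (tt N18391 (iv F61481)) (tt N14568 F61057))
theorem Q18272 : ∀ i, i < 18272 → P i := stepQ 18271 Q18271 (allL N18271 (tt N21046 (iv F69940)) (tt N21038 (iv F69923)) (tt N21047 D31400) (tt N14466 (iv D28609)) (tt N21048 D31401) (tt N18554 (iv F61973)) (tt N14569 F61058))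
theorem Q18273 : ∀ i, i < 18273 → P i := stepQ 18272 Q18272 (allL N18272 (tt N18340 (iv F61261)) (tt N18091 F61059) (tt N18339 (iv F61259)) (tt N14750 F61060) (tt N14475 F61061) (tt N20350 (iv F67482)) (tt N14467 (iv D28610)))
theorem Q18274 : ∀ i, i < 18274 → P i := stepQ 18273 Q18273 (allL N18273 (tt N14468 (iv D28611)) (tt N20430 (iv F67770)) (tt N21049 D31402) (tt N14476 F61062) (tt N20135 (iv F66778)) (tt N20165 F66883) (tt N19809 (iv F65643)))
theorem Q18275 : ∀ i, i < 18275 → P i := stepQ 18274 Q18274 (allL N18274 (tt N21049 (iv F69951)) (tt N21050 D31403) (tt N14468 (iv D28612)) (tt N21051 D31404) (tt N21044 (iv F69936)) (tt N21052 D31405) (tt N20591 (iv F68309)))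
theorem Q18276 : ∀ i, i < 18276 → P i := stepQ 18275 Q18275 (allL N18275 (tt N20165 F66882) (tt N18409 (iv F61512)) (tt N21052 (iv F69954)) (tt N14477 F61063) (tt N17029 F61064) (tt N14468 (iv D28613)) (tt N17052 (iv F61065)))
theorem Q18277 : ∀ i, i < 18277 → P i := stepQ 18276 Q18276 (allL N18276 (tt N15361 F61253) (tt N14469 (iv D28614)) (tt N21050 (iv F69952)) (tt N15359 (iv F61252)) (tt N21045 (iv F69939)) (tt N18987 (iv F63109)) (tt N21053 D31406))
theorem Q18278 : ∀ i, i < 18278 → P i := stepQ 18277 Q18277 (allL N18277 (tt N14470 F61066) (tt N15359 F61239) (tt N14629 F61068) (tt N14469 (iv D28615)) (tt N20987 (iv F69766)) (tt N18405 (iv F61504)) (tt N14576 F61067))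
theorem Q18279 : ∀ i, i < 18279 → P i := stepQ 18278 Q18278 (allL N18278 (tt N14629 F61069) (tt N20732 (iv F68838)) (tt N14470 (iv D28616)) (tt N14627 F61070) (tt N21054 D31407) (tt N18337 (iv F61237)) (tt N14578 F61071))
theorem Q18280 : ∀ i, i < 18280 → P i := stepQ 18279 Q18279 (allL N18279 (tt N20987 F69767) (tt N20989 (iv F69777)) (tt N21054 (iv F69963)) (tt N21048 (iv F69948)) (tt N14470 (iv D28617)) (tt N20990 (iv F69780)) (tt N14579 F61072))
theorem Q18281 : ∀ i, i < 18281 → P i := stepQ 18280 Q18280 (allL N18280 (tt N18405 (iv F61502)) (tt N15390 F61073) (tt N18337 (iv F61235)) (tt N14471 F61074) (tt N20990 (iv F69779)) (tt N14470 (iv D28618)) (tt N18335 F61232))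
theorem Q18282 : ∀ i, i < 18282 → P i := stepQ 18281 Q18281 (allL N18281 (tt N19029 (iv F63202)) (tt N14471 (iv D28619)) (tt N20503 (iv F68003)) (tt N15390 F61075) (tt N18553 (iv F61970)) (tt N15388 F61076) (tt N19028 (iv F63201)))
theorem Q18283 : ∀ i, i < 18283 → P i := stepQ 18282 Q18282 (allL N18282 (tt N14472 (iv D28620)) (tt N15058 (iv F61079)) (tt N18329 (iv F61219)) (tt N14478 F61077) (tt N18344 (iv F61282)) (tt N14473 F61078) (tt N18288 (iv F61100)))
theorem Q18284 : ∀ i, i < 18284 → P i := stepQ 18283 Q18283 (allL N18283 (tt N18329 (iv F61217)) (tt N20503 (iv F68002)) (tt N14472 (iv D28621)) (tt N17155 F61081) (tt N18343 (iv F61277)) (tt N14474 F61080) (tt N17148 (iv F61082)))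
theorem Q18285 : ∀ i, i < 18285 → P i := stepQ 18284 Q18284 (allL N18284 (tt N18288 (iv F61098)) (tt N17055 F61083) (tt N17148 F61084) (tt N14480 F61085) (tt N17059 F61086) (tt N18286 (iv F61094)) (tt N14472 (iv D28622)))
theorem Q18286 : ∀ i, i < 18286 → P i := stepQ 18285 Q18285 (allL N18285 (tt N20212 (iv F67050)) (tt N14473 (iv D28623)) (tt N18059 F61087) (tt N14481 F61088) (tt N18058 F61089) (tt N15962 F61090) (tt N18476 (iv F61689)))
theorem Q18287 : ∀ i, i < 18287 → P i := stepQ 18286 Q18286 (allL N18286 (tt N14475 F61091) (tt N20804 (iv F69123)) (tt N14803 F61092) (tt N14483 F61093) (tt N18340 (iv F61263)) (tt N18284 F61094) (tt N14473 (iv D28624)))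
theorem Q18288 : ∀ i, i < 18288 → P i := stepQ 18287 Q18287 (allL N18287 (tt N14803 F61095) (tt N18653 (iv F62287)) (tt N14475 F61096) (tt N14801 F61097) (tt N18339 (iv F61257)) (tt N20409 (iv F67691)) (tt N14474 (iv D28625)))
theorem Q18289 : ∀ i, i < 18289 → P i := stepQ 18288 Q18288 (allL N18288 (tt N18284 F61098) (tt N21055 D31408) (tt N20409 (iv F67688)) (tt N14485 F61099) (tt N20350 (iv F67481)) (tt N14475 (iv D28626)) (tt N18282 F61100))
theorem Q18290 : ∀ i, i < 18290 → P i := stepQ 18289 Q18289 (allL N18289 (tt N18291 (iv F61110)) (tt N17928 (iv F61104)) (tt N14480 F61101) (tt N16765 F61102) (tt N14753 F61103) (tt N18290 (iv F61109)) (tt N14479 (iv D28627)))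
theorem Q18291 : ∀ i, i < 18291 → P i := stepQ 18290 Q18290 (allL N18290 (tt N14484 F61105) (tt N20819 (iv F69204)) (tt N14483 F61106) (tt N16766 F61107) (tt N14755 F61108) (tt N18289 F61109) (tt N14482 (iv D28628)))
theorem Q18292 : ∀ i, i < 18292 → P i := stepQ 18291 Q18291 (allL N18291 (tt N18289 F61110) (tt N19588 (iv F64957)) (tt N14485 F61111) (tt N16767 F61112) (tt N14758 F61113) (tt N14484 (iv D28629)) (tt N15908 F61114))
theorem Q18293 : ∀ i, i < 18293 → P i := stepQ 18292 Q18292 (allL N18292 (tt N18382 (iv F61461)) (tt N14485 (iv D28630)) (tt N18169 (iv F61118)) (tt N21055 (iv F69968)) (tt N14759 F61115) (tt N18080 F61116) (tt N16061 F61117))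
theorem Q18294 : ∀ i, i < 18294 → P i := stepQ 18293 Q18293 (allL N18293 (tt N17711 F61119) (tt N19476 (iv F64555)) (tt N18246 F61120) (tt N14489 F61121) (tt N18249 F61122) (tt N18308 (iv F61163)) (tt N14488 (iv D28631)))
theorem Q18295 : ∀ i, i < 18295 → P i := stepQ 18294 Q18294 (allL N18294 (tt N14492 F61123) (tt N21056 D31409) (tt N17110 F61124) (tt N18213 F61125) (tt N20604 (iv F68369)) (tt N14490 (iv D28632)) (tt N18299 (iv F61141)))
theorem Q18296 : ∀ i, i < 18296 → P i := stepQ 18295 Q18295 (allL N18295 (tt N17590 F61126) (tt N14494 F61127) (tt N17521 F61128) (tt N14491 (iv D28633)) (tt N18214 F61129) (tt N21057 D31410) (tt N17524 F61130))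
theorem Q18297 : ∀ i, i < 18297 → P i := stepQ 18296 Q18296 (allL N18296 (tt N20604 (iv F68367)) (tt N19365 F64168) (tt N17121 F61131) (tt N21057 (iv F69977)) (tt N14492 F61132) (tt N14491 (iv D28634)) (tt N21057 (iv F69979)))
theorem Q18298 : ∀ i, i < 18298 → P i := stepQ 18297 Q18297 (allL N18297 (tt N19362 (iv F64157)) (tt N14492 (iv D28635)) (tt N19361 F64156) (tt N18216 F61133) (tt N19365 (iv F64166)) (tt N14496 F61134) (tt N21058 D31411))
theorem Q18299 : ∀ i, i < 18299 → P i := stepQ 18298 Q18298 (allL N18298 (tt N18299 (iv F61138)) (tt N20373 F67654) (tt N17123 F61135) (tt N18215 F61136) (tt N21057 (iv F69978)) (tt N18214 F61137) (tt N14492 (iv D28636)))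
theorem Q18300 : ∀ i, i < 18300 → P i := stepQ 18299 Q18299 (allL N18299 (tt N18298 F61138) (tt N17051 (iv F67429)) (tt N17124 F61139) (tt N18217 F61140) (tt N20649 (iv F68527)) (tt N14493 (iv D28637)) (tt N18294 F61141))
theorem Q18301 : ∀ i, i < 18301 → P i := stepQ 18300 Q18300 (allL N18300 (tt N14508 F61142) (tt N21059 D31412) (tt N18539 (iv F61922)) (tt N14495 F61143) (tt N18218 F61144) (tt N14494 (iv D28638)) (tt N18154 F61145))
theorem Q18302 : ∀ i, i < 18302 → P i := stepQ 18301 Q18301 (allL N18301 (tt N18495 (iv F61769)) (tt N14495 (iv D28639)) (tt N18494 F61747) (tt N21059 (iv F69981)) (tt N14496 F61146) (tt N19365 (iv F64167)) (tt N21060 D31413))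
theorem Q18303 : ∀ i, i < 18303 → P i := stepQ 18302 Q18302 (allL N18302 (tt N14496 (iv D28640)) (tt N21061 D31414) (tt N18491 F61736) (tt N18220 F61147) (tt N18495 (iv F61770)) (tt N19362 (iv F64159)) (tt N21062 D31415))
theorem Q18304 : ∀ i, i < 18304 → P i := stepQ 18303 Q18303 (allL N18303 (tt N18491 (iv F61732)) (tt N14499 F61148) (tt N14496 (iv D28641)) (tt N19933 (iv F66075)) (tt N18494 (iv F61744)) (tt N19361 (iv F64155)) (tt N21063 D31416))
theorem Q18305 : ∀ i, i < 18305 → P i := stepQ 18304 Q18304 (allL N18304 (tt N21062 (iv F69988)) (tt N18158 F61149) (tt N21063 (iv F69994)) (tt N18222 F61150) (tt N21060 (iv F69985)) (tt N21064 D31417) (tt N14496 (iv D28642)))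
theorem Q18306 : ∀ i, i < 18306 → P i := stepQ 18305 Q18305 (allL N18305 (tt N14497 (iv D28643)) (tt N20275 (iv F67215)) (tt N18234 F61151) (tt N14761 F61152) (tt N14498 F61153) (tt N17710 F61154) (tt N21028 (iv F69891)))
theorem Q18307 : ∀ i, i < 18307 → P i := stepQ 18306 Q18306 (allL N18306 (tt N20488 (iv F67952)) (tt N14498 (iv D28644)) (tt N21065 D31418) (tt N14501 F61155) (tt N20275 (iv F67217)) (tt N20272 (iv F67208)) (tt N20487 F67951))
theorem Q18308 : ∀ i, i < 18308 → P i := stepQ 18307 Q18307 (allL N18307 (tt N14499 F61156) (tt N17213 (iv F61160)) (tt N14498 (iv D28645)) (tt N17230 F61157) (tt N18234 F61158) (tt N17340 F61159) (tt N21026 (iv F69884)))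
theorem Q18309 : ∀ i, i < 18309 → P i := stepQ 18308 Q18308 (allL N18308 (tt N14500 F61161) (tt N19792 (iv F65592)) (tt N21026 (iv F69881)) (tt N14502 F61162) (tt N21028 (iv F69890)) (tt N18293 F61163) (tt N14498 (iv D28646)))
theorem Q18310 : ∀ i, i < 18310 → P i := stepQ 18309 Q18309 (allL N18309 (tt N15025 F61164) (tt N17675 F61165) (tt N15827 F61166) (tt N14503 (iv D28647)) (tt N20234 (iv F67109)) (tt N17953 F61167) (tt N15023 F61168))
theorem Q18311 : ∀ i, i < 18311 → P i := stepQ 18310 Q18310 (allL N18310 (tt N18218 F61169) (tt N21066 D31419) (tt N17115 F61170) (tt N14505 F61171) (tt N14508 F61172) (tt N14504 (iv D28648)) (tt N15188 F61173))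
theorem Q18312 : ∀ i, i < 18312 → P i := stepQ 18311 Q18311 (allL N18311 (tt N21067 D31420) (tt N14505 (iv D28649)) (tt N19109 (iv F63373)) (tt N21066 (iv F70005)) (tt N14506 F61174) (tt N18052 F61175) (tt N15196 F61176))
theorem Q18313 : ∀ i, i < 18313 → P i := stepQ 18312 Q18312 (allL N18312 (tt N14506 (iv D28650)) (tt N20297 F67286) (tt N21068 D31421) (tt N14511 F61177) (tt N21067 (iv F70013)) (tt N18789 (iv F62593)) (tt N20896 (iv F69511)))
theorem Q18314 : ∀ i, i < 18314 → P i := stepQ 18313 Q18313 (allL N18313 (tt N21068 (iv F70017)) (tt N15466 F61178) (tt N14506 (iv D28651)) (tt N20729 (iv F68826)) (tt N19109 (iv F63374)) (tt N15493 F61179) (tt N18212 F61180))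
theorem Q18315 : ∀ i, i < 18315 → P i := stepQ 18314 Q18314 (allL N18314 (tt N18539 (iv F61921)) (tt N18437 (iv F61586)) (tt N14508 F61181) (tt N14599 F61182) (tt N17115 F61183) (tt N14507 (iv D28652)) (tt N17113 F61184))
theorem Q18316 : ∀ i, i < 18316 → P i := stepQ 18315 Q18315 (allL N18315 (tt N21069 D31422) (tt N14508 (iv D28653)) (tt N21070 D31423) (tt N14509 F61185) (tt N21066 (iv F70006)) (tt N20717 (iv F68781)) (tt N21071 D31424))
theorem Q18317 : ∀ i, i < 18317 → P i := stepQ 18316 Q18316 (allL N18316 (tt N18154 F61186) (tt N15194 (iv F61191)) (tt N17113 F61187) (tt N14510 F61188) (tt N15188 F61189) (tt N17112 F61190) (tt N14508 (iv D28654)))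
theorem Q18318 : ∀ i, i < 18318 → P i := stepQ 18317 Q18317 (allL N18317 (tt N14509 (iv D28655)) (tt N21072 D31425) (tt N21073 D31426) (tt N21069 (iv F70023)) (tt N14511 F61192) (tt N20719 (iv F68789)) (tt N21074 D31427))
theorem Q18319 : ∀ i, i < 18319 → P i := stepQ 18318 Q18318 (allL N18318 (tt N21073 (iv F70035)) (tt N14515 F61193) (tt N14509 (iv D28656)) (tt N21075 D31428) (tt N14512 F61194) (tt N19821 (iv F65679)) (tt N21076 D31429))
theorem Q18320 : ∀ i, i < 18320 → P i := stepQ 18319 Q18319 (allL N18319 (tt N21074 (iv F70040)) (tt N20895 (iv F69503)) (tt N21076 (iv F70046)) (tt N21071 (iv F70030)) (tt N14513 F61195) (tt N21077 D31430) (tt N14509 (iv D28657)))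
theorem Q18321 : ∀ i, i < 18321 → P i := stepQ 18320 Q18320 (allL N18320 (tt N20299 (iv F67287)) (tt N14511 (iv D28658)) (tt N16102 (iv F61197)) (tt N20297 (iv F67283)) (tt N21072 (iv F70032)) (tt N16091 F61196) (tt N20296 F67280))
theorem Q18322 : ∀ i, i < 18322 → P i := stepQ 18321 Q18321 (allL N18321 (tt N14512 F61198) (tt N17753 F61199) (tt N14511 (iv D28659)) (tt N20995 (iv F69791)) (tt N21073 (iv F70037)) (tt N17734 F61200) (tt N21078 D31431))
theorem Q18323 : ∀ i, i < 18323 → P i := stepQ 18322 Q18322 (allL N18322 (tt N14513 F61201) (tt N21079 D31432) (tt N21078 (iv F70052)) (tt N20896 (iv F69509)) (tt N21074 (iv F70041)) (tt N17717 F61202) (tt N14511 (iv D28660)))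
theorem Q18324 : ∀ i, i < 18324 → P i := stepQ 18323 Q18323 (allL N18323 (tt N20995 (iv F69788)) (tt N14519 F61203) (tt N18790 (iv F62594)) (tt N14512 (iv D28661)) (tt N21015 (iv F69842)) (tt N19817 (iv F65665)) (tt N15493 F61207))
theorem Q18325 : ∀ i, i < 18325 → P i := stepQ 18324 Q18324 (allL N18324 (tt N21078 (iv F70051)) (tt N15492 F61206) (tt N14513 F61204) (tt N15493 (iv F61205)) (tt N21076 (iv F70047)) (tt N20729 (iv F68827)) (tt N14512 (iv D28662)))
theorem Q18326 : ∀ i, i < 18326 → P i := stepQ 18325 Q18325 (allL N18325 (tt N17717 F61208) (tt N21080 D31433) (tt N20729 (iv F68825)) (tt N20897 (iv F69514)) (tt N21077 (iv F70049)) (tt N14513 (iv D28663)) (tt N17716 F61209))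
theorem Q18327 : ∀ i, i < 18327 → P i := stepQ 18326 Q18326 (allL N18326 (tt N20132 (iv F66763)) (tt N14514 (iv D28664)) (tt N21081 D31434) (tt N14769 F61210) (tt N14517 F61211) (tt N20326 (iv F67374)) (tt N17120 (iv F61212)))
theorem Q18328 : ∀ i, i < 18328 → P i := stepQ 18327 Q18327 (allL N18327 (tt N14515 F61213) (tt N21082 D31435) (tt N14514 (iv D28665)) (tt N21047 (iv F69945)) (tt N14518 F61214) (tt N14619 F61215) (tt N18453 (iv F61636)))
theorem Q18329 : ∀ i, i < 18329 → P i := stepQ 18328 Q18328 (allL N18328 (tt N21047 (iv F69944)) (tt N21075 (iv F70044)) (tt N21046 (iv F69943)) (tt N14515 (iv D28666)) (tt N21083 D31436) (tt N14620 F61216) (tt N18547 (iv F61953)))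
theorem Q18330 : ∀ i, i < 18330 → P i := stepQ 18329 Q18329 (allL N18329 (tt N18283 F61217) (tt N18145 F61218) (tt N18282 F61219) (tt N14771 F61220) (tt N14524 F61221) (tt N14516 (iv D28667)) (tt N20409 (iv F67692)))
theorem Q18331 : ∀ i, i < 18331 → P i := stepQ 18330 Q18330 (allL N18330 (tt N14517 (iv D28668)) (tt N20488 (iv F67953)) (tt N21084 D31437) (tt N14525 F61222) (tt N20132 (iv F66764)) (tt N19715 (iv F65359)) (tt N20182 F66939))
theorem Q18332 : ∀ i, i < 18332 → P i := stepQ 18331 Q18331 (allL N18331 (tt N21084 (iv F70064)) (tt N21085 D31438) (tt N14517 (iv D28669)) (tt N21086 D31439) (tt N21081 (iv F70057)) (tt N20587 (iv F68297)) (tt N21087 D31440))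
theorem Q18333 : ∀ i, i < 18333 → P i := stepQ 18332 Q18332 (allL N18332 (tt N20182 F66938) (tt N18467 (iv F61659)) (tt N21087 (iv F70067)) (tt N14526 F61223) (tt N17120 F61224) (tt N17141 (iv F61225)) (tt N14517 (iv D28670)))
theorem Q18334 : ∀ i, i < 18334 → P i := stepQ 18333 Q18333 (allL N18333 (tt N15465 (iv F63086)) (tt N14518 (iv D28671)) (tt N21085 (iv F70065)) (tt N15463 F63085) (tt N21082 (iv F70060)) (tt N21088 D31441) (tt N19126 (iv F63429)))
theorem Q18335 : ∀ i, i < 18335 → P i := stepQ 18334 Q18334 (allL N18334 (tt N14519 F61226) (tt N15463 (iv F63082)) (tt N14580 F61228) (tt N14518 (iv D28672)) (tt N21013 (iv F69833)) (tt N14578 F61227) (tt N18463 (iv F61653)))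
theorem Q18336 : ∀ i, i < 18336 → P i := stepQ 18335 Q18335 (allL N18335 (tt N14580 F61229) (tt N20699 (iv F68705)) (tt N14519 (iv D28673)) (tt N14577 F61230) (tt N21089 D31442) (tt N14576 F61231) (tt N18280 (iv F61232)))
theorem Q18337 : ∀ i, i < 18337 → P i := stepQ 18336 Q18336 (allL N18336 (tt N21013 F69834) (tt N21015 F69844) (tt N21089 (iv F70076)) (tt N21083 (iv F70061)) (tt N14519 (iv D28674)) (tt N14628 F61233) (tt N21016 (iv F69848)))
theorem Q18338 : ∀ i, i < 18338 → P i := stepQ 18337 Q18337 (allL N18337 (tt N18463 (iv F61650)) (tt N15494 F61234) (tt N18280 F61235) (tt N14520 F61236) (tt N21016 (iv F69847)) (tt N18278 F61237) (tt N14519 (iv D28675)))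
theorem Q18339 : ∀ i, i < 18339 → P i := stepQ 18338 Q18338 (allL N18338 (tt N19166 (iv F63530)) (tt N14520 (iv D28676)) (tt N20445 (iv F67819)) (tt N15494 F61254) (tt N18546 (iv F61949)) (tt N19165 (iv F63528)) (tt N15492 F61255))
theorem Q18340 : ∀ i, i < 18340 → P i := stepQ 18339 Q18339 (allL N18339 (tt N14521 (iv D28677)) (tt N15063 (iv F61260)) (tt N18272 F61259) (tt N14527 F61256) (tt N18287 F61257) (tt N18345 (iv F61285)) (tt N14522 F61258))
theorem Q18341 : ∀ i, i < 18341 → P i := stepQ 18340 Q18340 (allL N18340 (tt N18272 F61261) (tt N20445 (iv F67818)) (tt N14521 (iv D28678)) (tt N17068 F61262) (tt N18286 F61263) (tt N17059 (iv F61265)) (tt N14523 F61264))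
theorem Q18342 : ∀ i, i < 18342 → P i := stepQ 18341 Q18341 (allL N18341 (tt N18345 (iv F61283)) (tt N17144 F61266) (tt N17059 F61267) (tt N14529 F61268) (tt N17148 F61269) (tt N14521 (iv D28679)) (tt N18343 (iv F61278)))
theorem Q18343 : ∀ i, i < 18343 → P i := stepQ 18342 Q18342 (allL N18342 (tt N20213 (iv F67054)) (tt N14522 (iv D28680)) (tt N18030 F61270) (tt N14530 F61271) (tt N18029 F61272) (tt N18503 (iv F61795)) (tt N15737 F61273))
theorem Q18344 : ∀ i, i < 18344 → P i := stepQ 18343 Q18343 (allL N18343 (tt N14524 F61274) (tt N20814 (iv F69176)) (tt N14835 F61275) (tt N14532 F61276) (tt N18283 F61277) (tt N14522 (iv D28681)) (tt N18341 F61278))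
theorem Q18345 : ∀ i, i < 18345 → P i := stepQ 18344 Q18344 (allL N18344 (tt N14835 F61279) (tt N18647 (iv F62272)) (tt N14524 F61280) (tt N14833 F61281) (tt N18282 F61282) (tt N14523 (iv D28682)) (tt N20350 (iv F67483)))
theorem Q18346 : ∀ i, i < 18346 → P i := stepQ 18345 Q18345 (allL N18345 (tt N18341 F61283) (tt N21090 D31443) (tt N20350 (iv F67479)) (tt N14534 F61284) (tt N20409 (iv F67690)) (tt N18339 F61285) (tt N14524 (iv D28683)))
theorem Q18347 : ∀ i, i < 18347 → P i := stepQ 18346 Q18346 (allL N18346 (tt N18348 (iv F61295)) (tt N17931 F61289) (tt N14529 F61286) (tt N16757 F61287) (tt N14774 F61288) (tt N14528 (iv D28684)) (tt N18347 (iv F61294)))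
theorem Q18348 : ∀ i, i < 18348 → P i := stepQ 18347 Q18347 (allL N18347 (tt N14533 F61290) (tt N20820 (iv F69210)) (tt N14532 F61291) (tt N16758 F61292) (tt N14776 F61293) (tt N14531 (iv D28685)) (tt N18346 F61294))
theorem Q18349 : ∀ i, i < 18349 → P i := stepQ 18348 Q18348 (allL N18348 (tt N18346 F61295) (tt N19373 (iv F64193)) (tt N14534 F61296) (tt N16759 F61297) (tt N14779 F61298) (tt N15678 F61299) (tt N14533 (iv D28686)))
theorem Q18350 : ∀ i, i < 18350 → P i := stepQ 18349 Q18349 (allL N18349 (tt N18444 (iv F61611)) (tt N14534 (iv D28687)) (tt N18115 (iv F61303)) (tt N21090 (iv F70081)) (tt N14780 F61300) (tt N16140 F61301) (tt N18134 F61302))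
theorem Q18351 : ∀ i, i < 18351 → P i := stepQ 18350 Q18350 (allL N18350 (tt N20803 (iv F69116)) (tt N14537 (iv D28688)) (tt N21091 D31444) (tt N14538 F61304) (tt N17190 F61305) (tt N20801 (iv F69108)) (tt N14546 F61306))
theorem Q18352 : ∀ i, i < 18352 → P i := stepQ 18351 Q18351 (allL N18351 (tt N20214 (iv F67058)) (tt N21092 D31445) (tt N16778 F61307) (tt N16896 F61308) (tt N19489 (iv F64609)) (tt N16894 F61309) (tt N14539 (iv D28689)))
theorem Q18353 : ∀ i, i < 18353 → P i := stepQ 18352 Q18352 (allL N18352 (tt N14549 F61310) (tt N17878 F61311) (tt N14549 F61312) (tt N14542 (iv F61314)) (tt N14540 (iv D28690)) (tt N14540 (iv F61313)) (tt N18363 (iv F61346)))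
theorem Q18354 : ∀ i, i < 18354 → P i := stepQ 18353 Q18353 (allL N18353 (tt N14550 F61315) (tt N21093 D31446) (tt N14550 F61316) (tt N14543 F61317) (tt N18363 (iv F61345)) (tt N18361 (iv F61340)) (tt N14540 (iv D28691)))
theorem Q18355 : ∀ i, i < 18355 → P i := stepQ 18354 Q18354 (allL N18354 (tt N14551 F61318) (tt N18020 F61319) (tt N14544 F61320) (tt N14541 (iv D28692)) (tt N14542 F61321) (tt N14541 (iv F61322)) (tt N18366 (iv F61356)))
theorem Q18356 : ∀ i, i < 18356 → P i := stepQ 18355 Q18355 (allL N18355 (tt N14552 F61323) (tt N21094 D31447) (tt N14545 F61324) (tt N18366 (iv F61354)) (tt N14543 F61325) (tt N18364 (iv F61350)) (tt N14541 (iv D28693)))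
theorem Q18357 : ∀ i, i < 18357 → P i := stepQ 18356 Q18356 (allL N18356 (tt N21095 D31448) (tt N14543 (iv D28694)) (tt N21096 D31449) (tt N21093 (iv F70093)) (tt N21094 (iv F70095)) (tt N21097 D31450) (tt N21092 (iv F70092)))
theorem Q18358 : ∀ i, i < 18358 → P i := stepQ 18357 Q18357 (allL N18357 (tt N20794 (iv F69079)) (tt N14545 (iv D28695)) (tt N21098 D31451) (tt N14782 F61326) (tt N14546 F61327) (tt N17899 (iv F61329)) (tt N17190 F61328))
theorem Q18359 : ∀ i, i < 18359 → P i := stepQ 18358 Q18358 (allL N18358 (tt N14546 (iv D28696)) (tt N21099 D31452) (tt N21100 D31453) (tt N14548 F61330) (tt N20794 (iv F69082)) (tt N17894 F61331) (tt N20803 (iv F69121)))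
theorem Q18360 : ∀ i, i < 18360 → P i := stepQ 18359 Q18359 (allL N18359 (tt N21100 (iv F70107)) (tt N21096 (iv F70096)) (tt N14546 (iv D28697)) (tt N21101 D31454) (tt N21098 (iv F70099)) (tt N17900 F61332) (tt N21091 (iv F70090)))
theorem Q18361 : ∀ i, i < 18361 → P i := stepQ 18360 Q18360 (allL N18360 (tt N17390 F61333) (tt N14548 (iv D28698)) (tt N15717 F61334) (tt N21099 (iv F70103)) (tt N14783 F61335) (tt N15717 F61336) (tt N17627 F61337))
theorem Q18362 : ∀ i, i < 18362 → P i := stepQ 18361 Q18361 (allL N18361 (tt N18363 (iv F61342)) (tt N21102 D31455) (tt N18363 (iv F61343)) (tt N14553 F61338) (tt N14550 F61339) (tt N18353 F61340) (tt N14549 (iv D28699)))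
theorem Q18363 : ∀ i, i < 18363 → P i := stepQ 18362 Q18362 (allL N18362 (tt N21103 D31456) (tt N14550 (iv D28700)) (tt N21104 D31457) (tt N14554 F61341) (tt N21102 (iv F70123)) (tt N21104 (iv F70418)) (tt N18480 (iv F61705)))
theorem Q18364 : ∀ i, i < 18364 → P i := stepQ 18363 Q18363 (allL N18363 (tt N18361 F61342) (tt N21105 D31459) (tt N18361 F61343) (tt N14555 F61344) (tt N18353 F61345) (tt N14550 (iv D28701)) (tt N18352 F61346))
theorem Q18365 : ∀ i, i < 18365 → P i := stepQ 18364 Q18364 (allL N18364 (tt N18366 (iv F61352)) (tt N21106 D31460) (tt N14556 F61347) (tt N14552 F61348) (tt N14553 F61349) (tt N18355 F61350) (tt N14551 (iv D28702)))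
theorem Q18366 : ∀ i, i < 18366 → P i := stepQ 18365 Q18365 (allL N18365 (tt N21107 D31461) (tt N14552 (iv D28703)) (tt N19350 (iv F64134)) (tt N21106 (iv F70131)) (tt N14554 F61351) (tt N21108 D31462) (tt N18485 (iv F61724)))
theorem Q18367 : ∀ i, i < 18367 → P i := stepQ 18366 Q18366 (allL N18366 (tt N18364 F61352) (tt N21109 D31463) (tt N14557 F61353) (tt N18355 F61354) (tt N14555 F61355) (tt N14552 (iv D28704)) (tt N18354 F61356))
theorem Q18368 : ∀ i, i < 18368 → P i := stepQ 18367 Q18367 (allL N18367 (tt N21110 D31464) (tt N14553 (iv D28705)) (tt N21111 D31465) (tt N21102 (iv F70122)) (tt N21106 (iv F70132)) (tt N21112 D31466) (tt N20914 (iv F69581)))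
theorem Q18369 : ∀ i, i < 18369 → P i := stepQ 18368 Q18368 (allL N18368 (tt N14554 (iv D28706)) (tt N19866 (iv F65832)) (tt N19344 (iv F64124)) (tt N21103 (iv F70124)) (tt N21107 (iv F70134)) (tt N21113 D31467) (tt N18488 (iv F61730)))
theorem Q18370 : ∀ i, i < 18370 → P i := stepQ 18369 Q18369 (allL N18369 (tt N21113 (iv F70147)) (tt N21114 D31468) (tt N19353 (iv F64140)) (tt N21104 (iv F70417)) (tt N21108 (iv F70138)) (tt N14554 (iv D28707)) (tt N21115 D31469))
theorem Q18371 : ∀ i, i < 18371 → P i := stepQ 18370 Q18370 (allL N18370 (tt N21116 D31470) (tt N14555 (iv D28708)) (tt N21117 D31471) (tt N21105 (iv F70128)) (tt N21109 (iv F70140)) (tt N21114 (iv F70152)) (tt N21118 D31472))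
theorem Q18372 : ∀ i, i < 18372 → P i := stepQ 18371 Q18371 (allL N18371 (tt N17208 (iv F61428)) (tt N14556 (iv D28709)) (tt N15485 (iv F61429)) (tt N14785 F61357) (tt N14558 F61358) (tt N20805 (iv F69132)) (tt N15490 F61359))
theorem Q18373 : ∀ i, i < 18373 → P i := stepQ 18372 Q18372 (allL N18372 (tt N21119 D31473) (tt N14557 (iv D28710)) (tt N21120 D31474) (tt N14788 F61430) (tt N14559 F61431) (tt N19753 (iv F65481)) (tt N20323 (iv F67364)))
theorem Q18374 : ∀ i, i < 18374 → P i := stepQ 18373 Q18373 (allL N18373 (tt N14558 (iv D28711)) (tt N17197 (iv F61434)) (tt N20119 (iv F66714)) (tt N14560 F61432) (tt N17208 F61433) (tt N20804 (iv F69125)) (tt N18492 (iv F61740)))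
theorem Q18375 : ∀ i, i < 18375 → P i := stepQ 18374 Q18374 (allL N18374 (tt N20119 (iv F66712)) (tt N21111 (iv F70141)) (tt N14558 (iv D28712)) (tt N19089 (iv F63334)) (tt N15485 F61435) (tt N20806 (iv F69138)) (tt N15491 F61436))
theorem Q18376 : ∀ i, i < 18376 → P i := stepQ 18375 Q18375 (allL N18375 (tt N14559 (iv D28713)) (tt N17704 (iv F61439)) (tt N17702 F61438) (tt N14562 F61437) (tt N21119 (iv F70162)) (tt N19756 (iv F65492)) (tt N20932 (iv F69622)))
theorem Q18377 : ∀ i, i < 18377 → P i := stepQ 18376 Q18376 (allL N18376 (tt N17702 F61440) (tt N21117 (iv F70158)) (tt N14559 (iv D28714)) (tt N20139 (iv F66795)) (tt N21120 (iv F70166)) (tt N19757 (iv F65496)) (tt N21121 D31475))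
theorem Q18378 : ∀ i, i < 18378 → P i := stepQ 18377 Q18377 (allL N18377 (tt N20932 (iv F69619)) (tt N18257 F61441) (tt N21121 (iv F70168)) (tt N14563 F61442) (tt N20323 (iv F67362)) (tt N21122 D31476) (tt N14559 (iv D28715)))
theorem Q18379 : ∀ i, i < 18379 → P i := stepQ 18378 Q18378 (allL N18378 (tt N17939 F61443) (tt N15772 F61444) (tt N17868 F61445) (tt N21122 (iv F70173)) (tt N14792 F61446) (tt N14563 (iv D28716)) (tt N17936 F61447))
theorem Q18380 : ∀ i, i < 18380 → P i := stepQ 18379 Q18379 (allL N18379 (tt N18380 (iv F61451)) (tt N18477 (iv F61691)) (tt N17678 F61448) (tt N19744 (iv F65445)) (tt N14796 F61449) (tt N15546 F61450) (tt N14564 (iv D28717)))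
theorem Q18381 : ∀ i, i < 18381 → P i := stepQ 18380 Q18380 (allL N18380 (tt N18379 F61451) (tt N17399 F61452) (tt N17677 F61453) (tt N19746 (iv F65452)) (tt N14797 F61454) (tt N14565 (iv D28718)) (tt N17673 F61455))
theorem Q18382 : ∀ i, i < 18382 → P i := stepQ 18381 Q18381 (allL N18381 (tt N16560 F61456) (tt N19991 (iv F66290)) (tt N14566 (iv D28719)) (tt N16559 F61459) (tt N14798 F61457) (tt N16602 (iv F61460)) (tt N16060 F61458))
theorem Q18383 : ∀ i, i < 18383 → P i := stepQ 18382 Q18382 (allL N18382 (tt N18292 F61461) (tt N17401 F61462) (tt N16602 F61463) (tt N19755 (iv F65489)) (tt N14799 F61464) (tt N14566 (iv D28720)) (tt N16601 F61465))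
theorem Q18384 : ∀ i, i < 18384 → P i := stepQ 18383 Q18383 (allL N18383 (tt N17235 F61466) (tt N21123 D31477) (tt N14567 (iv D28721)) (tt N19684 (iv F65270)) (tt N14572 F61467) (tt N20439 (iv F67805)) (tt N21124 D31478))
theorem Q18385 : ∀ i, i < 18385 → P i := stepQ 18384 Q18384 (allL N18384 (tt N20698 (iv F68698)) (tt N20340 (iv F67441)) (tt N21124 (iv F70181)) (tt N14806 F61468) (tt N14574 F61469) (tt N20674 (iv F68612)) (tt N14567 (iv D28722)))
theorem Q18386 : ∀ i, i < 18386 → P i := stepQ 18385 Q18385 (allL N18385 (tt N19121 (iv F63407)) (tt N14568 (iv D28723)) (tt N21123 (iv F70177)) (tt N19120 F63406) (tt N14575 F61470) (tt N20138 (iv F66792)) (tt N20252 (iv F67144)))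
theorem Q18387 : ∀ i, i < 18387 → P i := stepQ 18386 Q18386 (allL N18386 (tt N14569 F61471) (tt N19120 (iv F63405)) (tt N18547 (iv F61951)) (tt N14568 (iv D28724)) (tt N20289 (iv F67259)) (tt N17621 F61472) (tt N21046 (iv F69942)))
theorem Q18388 : ∀ i, i < 18388 → P i := stepQ 18387 Q18387 (allL N18387 (tt N18547 (iv F61950)) (tt N21125 D31479) (tt N14569 (iv D28725)) (tt N18453 (iv F61634)) (tt N21126 D31480) (tt N18451 F61629) (tt N21047 (iv F69947)))
theorem Q18389 : ∀ i, i < 18389 → P i := stepQ 18388 Q18388 (allL N18388 (tt N20289 F67261) (tt N19720 (iv F65374)) (tt N21126 (iv F70184)) (tt N14579 F61473) (tt N14569 (iv D28726)) (tt N21127 D31481) (tt N21048 (iv F69950)))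
theorem Q18390 : ∀ i, i < 18390 → P i := stepQ 18389 Q18389 (allL N18389 (tt N17621 F61474) (tt N18717 (iv F62451)) (tt N18451 (iv F61627)) (tt N14570 F61475) (tt N21127 (iv F70188)) (tt N14569 (iv D28727)) (tt N18449 F61624))
theorem Q18391 : ∀ i, i < 18391 → P i := stepQ 18390 Q18390 (allL N18390 (tt N18719 (iv F62453)) (tt N14570 (iv D28728)) (tt N15761 F61476) (tt N18717 F62452) (tt N14581 F61477) (tt N18719 (iv F62454)) (tt N19125 (iv F63427)))
theorem Q18392 : ∀ i, i < 18392 → P i := stepQ 18391 Q18391 (allL N18391 (tt N14839 F61478) (tt N21128 D31482) (tt N14571 F61479) (tt N18449 (iv F61623)) (tt N14582 F61480) (tt N18270 F61481) (tt N14570 (iv D28729)))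
theorem Q18393 : ∀ i, i < 18393 → P i := stepQ 18392 Q18392 (allL N18392 (tt N17024 (iv F61485)) (tt N14571 (iv D28730)) (tt N21129 D31483) (tt N14809 F61482) (tt N14583 F61483) (tt N20324 (iv F67368)) (tt N15765 F61484))
theorem Q18394 : ∀ i, i < 18394 → P i := stepQ 18393 Q18393 (allL N18393 (tt N21130 D31484) (tt N14572 (iv D28731)) (tt N14575 F61486) (tt N18921 (iv F62900)) (tt N21123 (iv F70179)) (tt N20543 (iv F68133)) (tt N21131 D31485))
theorem Q18395 : ∀ i, i < 18395 → P i := stepQ 18394 Q18394 (allL N18394 (tt N17236 F61487) (tt N17336 F62906) (tt N14573 F61488) (tt N18922 (iv F62903)) (tt N20439 (iv F67804)) (tt N14572 (iv D28732)) (tt N20460 (iv F67875)))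
theorem Q18396 : ∀ i, i < 18396 → P i := stepQ 18395 Q18395 (allL N18395 (tt N17237 F61489) (tt N21132 D31486) (tt N14574 F61490) (tt N18923 (iv F62909)) (tt N21124 (iv F70182)) (tt N20459 (iv F67871)) (tt N14572 (iv D28733)))
theorem Q18397 : ∀ i, i < 18397 → P i := stepQ 18396 Q18396 (allL N18396 (tt N17624 F61491) (tt N20678 (iv F68624)) (tt N20460 (iv F67873)) (tt N14584 F61492) (tt N20440 (iv F67808)) (tt N17676 F61493) (tt N14573 (iv D28734)))
theorem Q18398 : ∀ i, i < 18398 → P i := stepQ 18397 Q18397 (allL N18397 (tt N14575 (iv D28735)) (tt N19125 (iv F63424)) (tt N21130 (iv F70196)) (tt N21133 D31487) (tt N19121 F63410) (tt N21134 D31488) (tt N21128 (iv F70191)))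
theorem Q18399 : ∀ i, i < 18399 → P i := stepQ 18398 Q18398 (allL N18398 (tt N21133 (iv F70201)) (tt N14576 F61494) (tt N19810 (iv F65644)) (tt N14575 (iv D28736)) (tt N20288 (iv F67255)) (tt N20287 F67253) (tt N21135 D31489))
theorem Q18400 : ∀ i, i < 18400 → P i := stepQ 18399 Q18399 (allL N18399 (tt N21134 (iv F70204)) (tt N20700 (iv F68711)) (tt N20543 F68134) (tt N20287 (iv F67252)) (tt N20138 F66793) (tt N14575 (iv D28737)) (tt N21136 D31490))
theorem Q18401 : ∀ i, i < 18401 → P i := stepQ 18400 Q18400 (allL N18400 (tt N21128 (iv F70189)) (tt N21053 (iv F69958)) (tt N21131 (iv F70199)) (tt N21135 (iv F70207)) (tt N20252 F67145) (tt N21137 D31491) (tt N14575 (iv D28738)))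
theorem Q18402 : ∀ i, i < 18402 → P i := stepQ 18401 Q18401 (allL N18401 (tt N14579 F61495) (tt N20288 F67256) (tt N14628 F61496) (tt N20289 (iv F67258)) (tt N14576 (iv D28739)) (tt N21089 (iv F70078)) (tt N20987 F69768))
theorem Q18403 : ∀ i, i < 18403 → P i := stepQ 18402 Q18402 (allL N18402 (tt N21138 D31492) (tt N14578 (iv D28740)) (tt N19716 (iv F65361)) (tt N14626 F61497) (tt N20308 (iv F67314)) (tt N21139 D31493) (tt N20307 F67312))
theorem Q18404 : ∀ i, i < 18404 → P i := stepQ 18403 Q18403 (allL N18403 (tt N14628 F61498) (tt N20308 F67315) (tt N14579 F61499) (tt N20309 (iv F67317)) (tt N14578 (iv D28741)) (tt N21013 F69835) (tt N21054 (iv F69966)))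
theorem Q18405 : ∀ i, i < 18405 → P i := stepQ 18404 Q18404 (allL N18404 (tt N21089 (iv F70074)) (tt N19124 F63422) (tt N21013 (iv F69832)) (tt N21127 (iv F70187)) (tt N14580 F61500) (tt N14579 (iv D28742)) (tt N21140 D31494))
theorem Q18406 : ∀ i, i < 18406 → P i := stepQ 18405 Q18405 (allL N18405 (tt N18280 F61502) (tt N19122 (iv F63412)) (tt N18463 (iv F61651)) (tt N14582 F61503) (tt N21140 (iv F70220)) (tt N18277 F61504) (tt N14580 (iv D28744)))
theorem Q18407 : ∀ i, i < 18407 → P i := stepQ 18406 Q18406 (allL N18406 (tt N20252 (iv F67143)) (tt N14582 (iv D28746)) (tt N21141 D31495) (tt N19122 (iv F63414)) (tt N21128 (iv F70190)) (tt N21142 D31496) (tt N19121 F63409))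
theorem Q18408 : ∀ i, i < 18408 → P i := stepQ 18407 Q18407 (allL N18407 (tt N14583 (iv D28747)) (tt N17022 F61507) (tt N21143 D31497) (tt N14585 F61508) (tt N17024 F61509) (tt N19462 (iv F64503)) (tt N15766 F61510))
theorem Q18409 : ∀ i, i < 18409 → P i := stepQ 18408 Q18408 (allL N18408 (tt N21143 (iv F70229)) (tt N21141 (iv F70222)) (tt N14583 (iv D28748)) (tt N21144 D31498) (tt N21129 (iv F70193)) (tt N21145 D31499) (tt N15767 F61511))
theorem Q18410 : ∀ i, i < 18410 → P i := stepQ 18409 Q18409 (allL N18409 (tt N19462 (iv F64501)) (tt N18275 F61512) (tt N21145 (iv F70239)) (tt N14587 F61513) (tt N20324 (iv F67367)) (tt N14583 (iv D28749)) (tt N19459 (iv F64497)))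
theorem Q18411 : ∀ i, i < 18411 → P i := stepQ 18410 Q18410 (allL N18410 (tt N14586 F61514) (tt N17515 F61515) (tt N14585 (iv D28750)) (tt N20155 F66847) (tt N14812 F61516) (tt N19464 (iv F64512)) (tt N15769 F61517))
theorem Q18412 : ∀ i, i < 18412 → P i := stepQ 18411 Q18411 (allL N18411 (tt N19464 (iv F64509)) (tt N16724 F61518) (tt N14587 F61519) (tt N16723 F61520) (tt N14814 F61521) (tt N14586 (iv D28751)) (tt N19463 (iv F64508)))
theorem Q18413 : ∀ i, i < 18413 → P i := stepQ 18412 Q18412 (allL N18412 (tt N20813 (iv F69169)) (tt N14588 (iv D28752)) (tt N21146 D31500) (tt N14589 F61522) (tt N17265 F61523) (tt N14597 F61524) (tt N20811 (iv F69162)))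
theorem Q18414 : ∀ i, i < 18414 → P i := stepQ 18413 Q18413 (allL N18413 (tt N20217 (iv F67068)) (tt N21147 D31501) (tt N16804 F61525) (tt N16907 F61526) (tt N19245 (iv F63759)) (tt N14590 (iv D28753)) (tt N16905 F61527))
theorem Q18415 : ∀ i, i < 18415 → P i := stepQ 18414 Q18414 (allL N18414 (tt N14600 F61528) (tt N17902 F61529) (tt N14600 F61530) (tt N14594 (iv F61532)) (tt N14591 (iv D28754)) (tt N18425 (iv F61564)) (tt N14591 (iv F61531)))
theorem Q18416 : ∀ i, i < 18416 → P i := stepQ 18415 Q18415 (allL N18415 (tt N14601 F61533) (tt N21148 D31502) (tt N14601 F61534) (tt N14593 F61535) (tt N18425 (iv F61563)) (tt N14591 (iv D28755)) (tt N18423 (iv F61558)))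
theorem Q18417 : ∀ i, i < 18417 → P i := stepQ 18416 Q18416 (allL N18416 (tt N14602 F61536) (tt N18049 F61537) (tt N14596 F61538) (tt N14592 (iv D28756)) (tt N14594 F61539) (tt N18428 (iv F61574)) (tt N14592 (iv F61540)))
theorem Q18418 : ∀ i, i < 18418 → P i := stepQ 18417 Q18417 (allL N18417 (tt N14603 F61541) (tt N21149 D31503) (tt N14595 F61542) (tt N18428 (iv F61572)) (tt N14593 F61543) (tt N14592 (iv D28757)) (tt N18426 (iv F61568)))
theorem Q18419 : ∀ i, i < 18419 → P i := stepQ 18418 Q18418 (allL N18418 (tt N21096 F70112) (tt N14593 (iv D28758)) (tt N21095 (iv F70113)) (tt N21148 (iv F70249)) (tt N21149 (iv F70251)) (tt N21147 (iv F70247)) (tt N21150 D31504))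
theorem Q18420 : ∀ i, i < 18420 → P i := stepQ 18419 Q18419 (allL N18419 (tt N20798 (iv F69092)) (tt N14595 (iv D28759)) (tt N21151 D31505) (tt N14816 F61544) (tt N14597 F61545) (tt N17265 F61546) (tt N17921 (iv F61547)))
theorem Q18421 : ∀ i, i < 18421 → P i := stepQ 18420 Q18420 (allL N18420 (tt N14597 (iv D28760)) (tt N21152 D31506) (tt N21153 D31507) (tt N14598 F61548) (tt N20798 (iv F69095)) (tt N20813 (iv F69174)) (tt N17916 F61549))
theorem Q18422 : ∀ i, i < 18422 → P i := stepQ 18421 Q18421 (allL N18421 (tt N21153 (iv F70261)) (tt N21095 F70114) (tt N14597 (iv D28761)) (tt N21154 D31508) (tt N21151 (iv F70253)) (tt N21146 (iv F70244)) (tt N17922 F61550))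
theorem Q18423 : ∀ i, i < 18423 → P i := stepQ 18422 Q18422 (allL N18422 (tt N17394 F61551) (tt N14598 (iv D28762)) (tt N15943 F61552) (tt N21152 (iv F70257)) (tt N14817 F61553) (tt N17699 F61554) (tt N15943 F61555))
theorem Q18424 : ∀ i, i < 18424 → P i := stepQ 18423 Q18423 (allL N18423 (tt N18425 (iv F61560)) (tt N21155 D31509) (tt N18425 (iv F61561)) (tt N14606 F61556) (tt N14601 F61557) (tt N14600 (iv D28763)) (tt N18415 F61558))
theorem Q18425 : ∀ i, i < 18425 → P i := stepQ 18424 Q18424 (allL N18424 (tt N21156 D31510) (tt N14601 (iv D28764)) (tt N21157 D31511) (tt N14604 F61559) (tt N21155 (iv F70272)) (tt N18507 (iv F61810)) (tt N21157 (iv F70479)))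
theorem Q18426 : ∀ i, i < 18426 → P i := stepQ 18425 Q18425 (allL N18425 (tt N18423 F61560) (tt N21158 D31513) (tt N18423 F61561) (tt N14605 F61562) (tt N18415 F61563) (tt N18414 F61564) (tt N14601 (iv D28765)))
theorem Q18427 : ∀ i, i < 18427 → P i := stepQ 18426 Q18426 (allL N18426 (tt N18428 (iv F61570)) (tt N21159 D31514) (tt N14608 F61565) (tt N14603 F61566) (tt N14606 F61567) (tt N14602 (iv D28766)) (tt N18417 F61568))
theorem Q18428 : ∀ i, i < 18428 → P i := stepQ 18427 Q18427 (allL N18427 (tt N21160 D31515) (tt N14603 (iv D28767)) (tt N19568 (iv F64893)) (tt N21159 (iv F70280)) (tt N14604 F61569) (tt N18512 (iv F61830)) (tt N21161 D31516))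
theorem Q18429 : ∀ i, i < 18429 → P i := stepQ 18428 Q18428 (allL N18428 (tt N18426 F61570) (tt N21162 D31517) (tt N14607 F61571) (tt N18417 F61572) (tt N14605 F61573) (tt N18416 F61574) (tt N14603 (iv D28768)))
theorem Q18430 : ∀ i, i < 18430 → P i := stepQ 18429 Q18429 (allL N18429 (tt N14604 (iv D28769)) (tt N19883 (iv F65883)) (tt N19563 (iv F64879)) (tt N21156 (iv F70273)) (tt N21160 (iv F70283)) (tt N18515 (iv F61839)) (tt N21163 D31518))
theorem Q18431 : ∀ i, i < 18431 → P i := stepQ 18430 Q18430 (allL N18430 (tt N21163 (iv F70290)) (tt N21164 D31519) (tt N19569 (iv F64898)) (tt N21157 (iv F70478)) (tt N21161 (iv F70287)) (tt N21165 D31520) (tt N14604 (iv D28770)))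
theorem Q18432 : ∀ i, i < 18432 → P i := stepQ 18431 Q18431 (allL N18431 (tt N21166 D31521) (tt N14605 (iv D28771)) (tt N21167 D31522) (tt N21158 (iv F70277)) (tt N21162 (iv F70289)) (tt N21168 D31523) (tt N21164 (iv F70296)))
theorem Q18433 : ∀ i, i < 18433 → P i := stepQ 18432 Q18432 (allL N18432 (tt N21169 D31524) (tt N14606 (iv D28772)) (tt N21170 D31525) (tt N21155 (iv F70271)) (tt N21159 (iv F70281)) (tt N20943 (iv F69659)) (tt N21171 D31526))
theorem Q18434 : ∀ i, i < 18434 → P i := stepQ 18433 Q18433 (allL N18433 (tt N21172 D31527) (tt N14607 (iv D28773)) (tt N21173 D31528) (tt N14821 F61575) (tt N14609 F61576) (tt N20393 (iv F67631)) (tt N19846 (iv F65768)))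
theorem Q18435 : ∀ i, i < 18435 → P i := stepQ 18434 Q18434 (allL N18434 (tt N17284 (iv F61580)) (tt N14608 (iv D28774)) (tt N15381 (iv F61581)) (tt N14822 F61577) (tt N14610 F61578) (tt N15386 F61579) (tt N20815 (iv F69186)))
theorem Q18436 : ∀ i, i < 18436 → P i := stepQ 18435 Q18435 (allL N18435 (tt N14609 (iv D28775)) (tt N17632 (iv F61584)) (tt N17630 F61583) (tt N14612 F61582) (tt N21172 (iv F70314)) (tt N20961 (iv F69699)) (tt N19848 (iv F65775)))
theorem Q18437 : ∀ i, i < 18437 → P i := stepQ 18436 Q18436 (allL N18436 (tt N17630 F61585) (tt N21167 (iv F70302)) (tt N14609 (iv D28776)) (tt N20143 (iv F66808)) (tt N21173 (iv F70318)) (tt N21174 D31529) (tt N19849 (iv F65780)))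
theorem Q18438 : ∀ i, i < 18438 → P i := stepQ 18437 Q18437 (allL N18437 (tt N20961 (iv F69697)) (tt N18314 F61586) (tt N21174 (iv F70320)) (tt N14613 F61587) (tt N20393 (iv F67630)) (tt N14609 (iv D28777)) (tt N21175 D31530))
theorem Q18439 : ∀ i, i < 18439 → P i := stepQ 18438 Q18438 (allL N18438 (tt N14610 (iv D28778)) (tt N17273 (iv F61590)) (tt N20126 (iv F66742)) (tt N14614 F61588) (tt N17284 F61589) (tt N18523 (iv F61859)) (tt N20814 (iv F69179)))
theorem Q18440 : ∀ i, i < 18440 → P i := stepQ 18439 Q18439 (allL N18439 (tt N20126 (iv F66740)) (tt N21170 (iv F70305)) (tt N14610 (iv D28779)) (tt N19223 (iv F63689)) (tt N15381 F61591) (tt N15387 F61592) (tt N20816 (iv F69191)))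
theorem Q18441 : ∀ i, i < 18441 → P i := stepQ 18440 Q18440 (allL N18440 (tt N17949 F61593) (tt N15997 F61594) (tt N17856 F61595) (tt N21175 (iv F70325)) (tt N14810 F61596) (tt N17946 F61597) (tt N14613 (iv D28780)))
theorem Q18442 : ∀ i, i < 18442 → P i := stepQ 18441 Q18441 (allL N18441 (tt N18442 (iv F61602)) (tt N17417 F61598) (tt N17746 F61599) (tt N19839 (iv F65737)) (tt N14828 F61600) (tt N17741 F61601) (tt N14615 (iv D28781)))
theorem Q18443 : ∀ i, i < 18443 → P i := stepQ 18442 Q18442 (allL N18442 (tt N18441 F61602) (tt N18505 (iv F61800)) (tt N17745 F61603) (tt N19840 (iv F65741)) (tt N14829 F61604) (tt N14616 (iv D28782)) (tt N15785 F61605))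
theorem Q18444 : ∀ i, i < 18444 → P i := stepQ 18443 Q18443 (allL N18443 (tt N16595 F61606) (tt N19931 (iv F66061)) (tt N14617 (iv D28783)) (tt N16594 F61609) (tt N14830 F61607) (tt N16139 F61608) (tt N16625 (iv F61610)))
theorem Q18445 : ∀ i, i < 18445 → P i := stepQ 18444 Q18444 (allL N18444 (tt N18349 F61611) (tt N17419 F61612) (tt N16625 F61613) (tt N19852 (iv F65790)) (tt N14831 F61614) (tt N16624 F61615) (tt N14617 (iv D28784)))
theorem Q18446 : ∀ i, i < 18446 → P i := stepQ 18445 Q18445 (allL N18445 (tt N17311 F61616) (tt N21176 D31531) (tt N14618 (iv D28785)) (tt N19778 (iv F65550)) (tt N14623 F61617) (tt N21177 D31532) (tt N20497 (iv F67988)))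
theorem Q18447 : ∀ i, i < 18447 → P i := stepQ 18446 Q18446 (allL N18446 (tt N20731 (iv F68831)) (tt N20326 (iv F67372)) (tt N21177 (iv F70333)) (tt N14838 F61618) (tt N14624 F61619) (tt N14618 (iv D28786)) (tt N20673 (iv F68608)))
theorem Q18448 : ∀ i, i < 18448 → P i := stepQ 18447 Q18447 (allL N18447 (tt N18982 (iv F63073)) (tt N14619 (iv D28787)) (tt N21176 (iv F70329)) (tt N18981 (iv F63072)) (tt N14626 F61620) (tt N20240 (iv F67119)) (tt N20142 (iv F66805)))
theorem Q18449 : ∀ i, i < 18449 → P i := stepQ 18448 Q18448 (allL N18448 (tt N14620 F61621) (tt N18981 F63071) (tt N18554 (iv F61972)) (tt N14619 (iv D28788)) (tt N20309 (iv F67318)) (tt N21047 (iv F69946)) (tt N17625 F61622))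
theorem Q18450 : ∀ i, i < 18450 → P i := stepQ 18449 Q18449 (allL N18449 (tt N18554 (iv F61971)) (tt N21178 D31533) (tt N14620 (iv D28789)) (tt N18391 F61623) (tt N21179 D31534) (tt N21046 (iv F69941)) (tt N18389 (iv F61624)))
theorem Q18451 : ∀ i, i < 18451 → P i := stepQ 18450 Q18450 (allL N18450 (tt N20309 F67320) (tt N19814 (iv F65657)) (tt N21179 (iv F70339)) (tt N14628 F61625) (tt N14620 (iv D28790)) (tt N21083 (iv F70062)) (tt N21180 D31535))
theorem Q18452 : ∀ i, i < 18452 → P i := stepQ 18451 Q18451 (allL N18451 (tt N17625 F61626) (tt N18728 (iv F62475)) (tt N18389 F61627) (tt N14621 F61628) (tt N21180 (iv F70346)) (tt N18387 (iv F61629)) (tt N14620 (iv D28791)))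
theorem Q18453 : ∀ i, i < 18453 → P i := stepQ 18452 Q18452 (allL N18452 (tt N18730 (iv F62482)) (tt N14621 (iv D28792)) (tt N15986 F61630) (tt N18728 F62478) (tt N14630 F61631) (tt N18986 (iv F63107)) (tt N18730 (iv F62485)))
theorem Q18454 : ∀ i, i < 18454 → P i := stepQ 18453 Q18453 (allL N18453 (tt N14808 F61632) (tt N21181 D31536) (tt N14622 F61633) (tt N18387 F61634) (tt N14631 F61635) (tt N14621 (iv D28793)) (tt N18327 F61636))
theorem Q18455 : ∀ i, i < 18455 → P i := stepQ 18454 Q18454 (allL N18454 (tt N17114 (iv F61640)) (tt N14622 (iv D28794)) (tt N21182 D31537) (tt N14807 F61637) (tt N14632 F61638) (tt N15990 F61639) (tt N20394 (iv F67636)))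
theorem Q18456 : ∀ i, i < 18456 → P i := stepQ 18455 Q18455 (allL N18455 (tt N21183 D31538) (tt N14623 (iv D28795)) (tt N14626 F61641) (tt N18866 (iv F62747)) (tt N21176 (iv F70331)) (tt N21184 D31539) (tt N20484 (iv F67939)))
theorem Q18457 : ∀ i, i < 18457 → P i := stepQ 18456 Q18456 (allL N18456 (tt N17312 F61642) (tt N21185 D31540) (tt N14624 F61643) (tt N18867 (iv F62750)) (tt N21177 (iv F70334)) (tt N14623 (iv D28796)) (tt N20518 (iv F68062)))
theorem Q18458 : ∀ i, i < 18458 → P i := stepQ 18457 Q18457 (allL N18457 (tt N17313 F61644) (tt N17261 F62756) (tt N14625 F61645) (tt N18868 (iv F62753)) (tt N20497 (iv F67987)) (tt N20517 (iv F68059)) (tt N14623 (iv D28797)))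
theorem Q18459 : ∀ i, i < 18459 → P i := stepQ 18458 Q18458 (allL N18458 (tt N17620 F61646) (tt N20715 (iv F68772)) (tt N20517 (iv F68057)) (tt N14633 F61647) (tt N20498 (iv F67991)) (tt N14625 (iv D28798)) (tt N17743 F61648))
theorem Q18460 : ∀ i, i < 18460 → P i := stepQ 18459 Q18459 (allL N18459 (tt N14626 (iv D28799)) (tt N18986 (iv F63105)) (tt N21183 (iv F70356)) (tt N21138 (iv F70213)) (tt N18982 F63076) (tt N21181 (iv F70351)) (tt N21186 D31541))
theorem Q18461 : ∀ i, i < 18461 → P i := stepQ 18460 Q18460 (allL N18460 (tt N21181 (iv F70348)) (tt N21088 (iv F70071)) (tt N21184 (iv F70359)) (tt N21139 (iv F70217)) (tt N20240 F67120) (tt N14626 (iv D28800)) (tt N21187 D31542))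
theorem Q18462 : ∀ i, i < 18462 → P i := stepQ 18461 Q18461 (allL N18461 (tt N21186 (iv F70361)) (tt N20733 (iv F68844)) (tt N20484 F67940) (tt N20307 (iv F67311)) (tt N20142 F66806) (tt N21188 D31543) (tt N14626 (iv D28801)))
theorem Q18463 : ∀ i, i < 18463 → P i := stepQ 18462 Q18462 (allL N18462 (tt N21054 (iv F69961)) (tt N18985 F63103) (tt N20987 (iv F69765)) (tt N21180 (iv F70345)) (tt N14629 F61649) (tt N21189 D31544) (tt N14628 (iv D28802)))
theorem Q18464 : ∀ i, i < 18464 → P i := stepQ 18463 Q18463 (allL N18463 (tt N18337 F61650) (tt N18983 (iv F63078)) (tt N18405 F61651) (tt N14631 F61652) (tt N21189 (iv F70370)) (tt N14629 (iv D28803)) (tt N18334 F61653))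
theorem Q18465 : ∀ i, i < 18465 → P i := stepQ 18464 Q18464 (allL N18464 (tt N20240 (iv F67118)) (tt N14631 (iv D28804)) (tt N21190 D31545) (tt N18983 (iv F63080)) (tt N21181 (iv F70350)) (tt N18982 F63075) (tt N21191 D31546))
theorem Q18466 : ∀ i, i < 18466 → P i := stepQ 18465 Q18465 (allL N18465 (tt N14632 (iv D28805)) (tt N17113 F61654) (tt N21192 D31547) (tt N14634 F61655) (tt N17114 F61656) (tt N15991 F61657) (tt N19662 (iv F65209)))
theorem Q18467 : ∀ i, i < 18467 → P i := stepQ 18466 Q18466 (allL N18466 (tt N21192 (iv F70379)) (tt N21190 (iv F70372)) (tt N14632 (iv D28806)) (tt N21193 D31548) (tt N21182 (iv F70353)) (tt N15992 F61658) (tt N21194 D31549))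
theorem Q18468 : ∀ i, i < 18468 → P i := stepQ 18467 Q18467 (allL N18467 (tt N19662 (iv F65207)) (tt N18332 F61659) (tt N21194 (iv F70389)) (tt N14636 F61660) (tt N20394 (iv F67635)) (tt N19659 (iv F65201)) (tt N14632 (iv D28807)))
theorem Q18469 : ∀ i, i < 18469 → P i := stepQ 18468 Q18468 (allL N18468 (tt N14635 F61661) (tt N17511 F61662) (tt N14634 (iv D28808)) (tt N20160 F66863) (tt N14840 F61663) (tt N15994 F61664) (tt N19664 (iv F65218)))
theorem Q18470 : ∀ i, i < 18470 → P i := stepQ 18469 Q18469 (allL N18469 (tt N19664 (iv F65215)) (tt N16718 F61665) (tt N14636 F61666) (tt N16717 F61667) (tt N14842 F61668) (tt N19663 (iv F65214)) (tt N14635 (iv D28809)))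
theorem Q18471 : ∀ i, i < 18471 → P i := stepQ 18470 Q18470 (allL N18470 (tt N15154 F61669) (tt N21195 D31550) (tt N17018 F61670) (tt N15153 F61671) (tt N18100 F61672) (tt N18193 F61673) (tt N14638 (iv D28810)))
theorem Q18472 : ∀ i, i < 18472 → P i := stepQ 18471 Q18471 (allL N18471 (tt N14652 F61674) (tt N21196 D31551) (tt N14642 F61675) (tt N18096 F61676) (tt N14641 F61677) (tt N18484 (iv F61721)) (tt N14639 (iv D28811)))
theorem Q18473 : ∀ i, i < 18473 → P i := stepQ 18472 Q18472 (allL N18472 (tt N20878 (iv F69439)) (tt N14641 (iv D28812)) (tt N21197 D31552) (tt N19301 (iv F63953)) (tt N21196 (iv F70396)) (tt N21198 D31553) (tt N21195 (iv F70393)))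
theorem Q18474 : ∀ i, i < 18474 → P i := stepQ 18473 Q18473 (allL N18473 (tt N16893 F61678) (tt N20861 (iv F69369)) (tt N14643 (iv D28813)) (tt N20861 (iv F69371)) (tt N16889 F61679) (tt N18078 F61680) (tt N20911 (iv F69571)))
theorem Q18475 : ∀ i, i < 18475 → P i := stepQ 18474 Q18474 (allL N18474 (tt N14644 (iv D28814)) (tt N19235 (iv F63728)) (tt N18072 (iv F61684)) (tt N14645 F61681) (tt N18071 F61682) (tt N21199 D31554) (tt N15962 F61683))
theorem Q18476 : ∀ i, i < 18476 → P i := stepQ 18475 Q18475 (allL N18475 (tt N18072 F61685) (tt N21197 (iv F70398)) (tt N14644 (iv D28815)) (tt N18819 (iv F62645)) (tt N18069 F61686) (tt N20895 (iv F69507)) (tt N18068 F61687))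
theorem Q18477 : ∀ i, i < 18477 → P i := stepQ 18476 Q18476 (allL N18476 (tt N21199 (iv F70403)) (tt N18493 (iv F61741)) (tt N20895 (iv F69504)) (tt N14646 F61688) (tt N20894 (iv F69501)) (tt N14644 (iv D28816)) (tt N18285 F61689))
theorem Q18478 : ∀ i, i < 18478 → P i := stepQ 18477 Q18477 (allL N18477 (tt N14646 F61690) (tt N18379 F61691) (tt N15953 F61692) (tt N21199 (iv F70406)) (tt N16322 F61693) (tt N14645 (iv D28817)) (tt N16860 F61694))
theorem Q18479 : ∀ i, i < 18479 → P i := stepQ 18478 Q18478 (allL N18478 (tt N18095 F61695) (tt N21200 D31555) (tt N16914 F61696) (tt N18094 F61697) (tt N14649 F61698) (tt N16913 F61699) (tt N14647 (iv D28818)))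
theorem Q18480 : ∀ i, i < 18480 → P i := stepQ 18479 Q18479 (allL N18479 (tt N18481 (iv F61706)) (tt N19100 (iv F63358)) (tt N15608 F61700) (tt N14654 F61701) (tt N15844 F61702) (tt N15604 F61703) (tt N14648 (iv D28819)))
theorem Q18481 : ∀ i, i < 18481 → P i := stepQ 18480 Q18480 (allL N18480 (tt N20883 (iv F69459)) (tt N14649 (iv D28820)) (tt N21201 D31556) (tt N14655 F61704) (tt N21200 (iv F70411)) (tt N21202 D31557) (tt N18362 F61705))
theorem Q18482 : ∀ i, i < 18482 → P i := stepQ 18481 Q18481 (allL N18481 (tt N18479 F61706) (tt N21203 D31558) (tt N15606 F61707) (tt N14656 F61708) (tt N16913 F61709) (tt N14649 (iv D28821)) (tt N15603 F61710))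
theorem Q18483 : ∀ i, i < 18483 → P i := stepQ 18482 Q18482 (allL N18482 (tt N17566 F61711) (tt N14651 F61712) (tt N14650 (iv D28822)) (tt N14651 F61713) (tt N14653 F61714) (tt N14650 F61715) (tt N20916 (iv F69588)))
theorem Q18484 : ∀ i, i < 18484 → P i := stepQ 18483 Q18483 (allL N18483 (tt N18096 F61716) (tt N21204 D31559) (tt N20916 (iv F69585)) (tt N14652 F61717) (tt N18094 F61718) (tt N20624 (iv F68448)) (tt N14650 (iv D28823)))
theorem Q18485 : ∀ i, i < 18485 → P i := stepQ 18484 Q18484 (allL N18484 (tt N18486 (iv F61725)) (tt N19136 (iv F63461)) (tt N14657 F61719) (tt N20916 (iv F69586)) (tt N14654 F61720) (tt N18471 F61721) (tt N14651 (iv D28824)))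
theorem Q18486 : ∀ i, i < 18486 → P i := stepQ 18485 Q18485 (allL N18485 (tt N21205 D31560) (tt N14652 (iv D28825)) (tt N15659 F61722) (tt N21204 (iv F70425)) (tt N14655 F61723) (tt N21206 D31561) (tt N18365 F61724))
theorem Q18487 : ∀ i, i < 18487 → P i := stepQ 18486 Q18486 (allL N18486 (tt N18484 F61725) (tt N21207 D31562) (tt N14658 F61726) (tt N20624 (iv F68446)) (tt N14656 F61727) (tt N14652 (iv D28826)) (tt N16528 F61728))
theorem Q18488 : ∀ i, i < 18488 → P i := stepQ 18487 Q18487 (allL N18487 (tt N21208 D31563) (tt N14654 (iv D28827)) (tt N19137 (iv F63464)) (tt N19100 F63362) (tt N19136 F63462) (tt N21012 (iv F69831)) (tt N19102 (iv F63365)))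
theorem Q18489 : ∀ i, i < 18489 → P i := stepQ 18488 Q18488 (allL N18488 (tt N14655 (iv D28828)) (tt N19668 F65232) (tt N15657 F61729) (tt N20883 (iv F69460)) (tt N21205 (iv F70429)) (tt N21115 (iv F70155)) (tt N18368 F61730))
theorem Q18490 : ∀ i, i < 18490 → P i := stepQ 18489 Q18489 (allL N18489 (tt N21115 (iv F70153)) (tt N21209 D31564) (tt N15660 F61731) (tt N21202 (iv F70421)) (tt N21206 (iv F70432)) (tt N14655 (iv D28829)) (tt N21113 (iv F70150)))
theorem Q18491 : ∀ i, i < 18491 → P i := stepQ 18490 Q18490 (allL N18490 (tt N21210 D31565) (tt N14656 (iv D28830)) (tt N21211 D31566) (tt N21203 (iv F70422)) (tt N21207 (iv F70435)) (tt N21209 (iv F70439)) (tt N21212 D31567))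
theorem Q18492 : ∀ i, i < 18492 → P i := stepQ 18491 Q18491 (allL N18491 (tt N18303 F61732) (tt N14658 (iv D28831)) (tt N18302 (iv F61736)) (tt N16325 F61733) (tt N14660 F61734) (tt N15666 F61735) (tt N20821 (iv F69217)))
theorem Q18493 : ∀ i, i < 18493 → P i := stepQ 18492 Q18492 (allL N18492 (tt N14659 (iv D28832)) (tt N20437 (iv F67795)) (tt N16702 F61737) (tt N14661 F61738) (tt N15913 F61739) (tt N20807 (iv F69145)) (tt N18373 F61740))
theorem Q18494 : ∀ i, i < 18494 → P i := stepQ 18493 Q18493 (allL N18493 (tt N20807 (iv F69140)) (tt N18476 F61741) (tt N19173 (iv F63551)) (tt N14662 F61742) (tt N19172 (iv F63550)) (tt N14659 (iv D28833)) (tt N20804 (iv F69126)))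
theorem Q18495 : ∀ i, i < 18495 → P i := stepQ 18494 Q18494 (allL N18494 (tt N14660 (iv D28834)) (tt N17639 (iv F61746)) (tt N18301 (iv F61747)) (tt N14663 F61743) (tt N18303 F61744) (tt N15667 F61745) (tt N19369 (iv F64175)))
theorem Q18496 : ∀ i, i < 18496 → P i := stepQ 18495 Q18495 (allL N18495 (tt N18301 F61769) (tt N21211 (iv F70441)) (tt N14660 (iv D28835)) (tt N21213 D31568) (tt N18302 F61770) (tt N15668 F61771) (tt N21214 D31569))
theorem Q18497 : ∀ i, i < 18497 → P i := stepQ 18496 Q18496 (allL N18496 (tt N19369 (iv F64173)) (tt N18087 F61772) (tt N21214 (iv F70448)) (tt N14665 F61773) (tt N20821 (iv F69216)) (tt N19366 (iv F64171)) (tt N14660 (iv D28836)))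
theorem Q18498 : ∀ i, i < 18498 → P i := stepQ 18497 Q18497 (allL N18497 (tt N18581 (iv F62059)) (tt N15631 F61774) (tt N20513 (iv F68041)) (tt N14664 (iv D28837)) (tt N14888 F61775) (tt N15673 F61776) (tt N14887 F61777))
theorem Q18499 : ∀ i, i < 18499 → P i := stepQ 18498 Q18498 (allL N18498 (tt N15188 F61778) (tt N21215 D31570) (tt N17108 F61779) (tt N15187 F61780) (tt N18154 F61781) (tt N14667 (iv D28838)) (tt N18218 F61782))
theorem Q18500 : ∀ i, i < 18500 → P i := stepQ 18499 Q18499 (allL N18499 (tt N14680 F61783) (tt N21216 D31571) (tt N14671 F61784) (tt N18150 F61785) (tt N14669 F61786) (tt N14668 (iv D28839)) (tt N18514 (iv F61837)))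
theorem Q18501 : ∀ i, i < 18501 → P i := stepQ 18500 Q18500 (allL N18500 (tt N20902 (iv F69537)) (tt N14669 (iv D28840)) (tt N21217 D31572) (tt N19529 (iv F64748)) (tt N21216 (iv F70456)) (tt N21215 (iv F70453)) (tt N21218 D31573))
theorem Q18502 : ∀ i, i < 18502 → P i := stepQ 18501 Q18501 (allL N18501 (tt N14672 (iv D28841)) (tt N19469 F64532) (tt N18043 (iv F61790)) (tt N14674 F61787) (tt N18042 F61788) (tt N15737 F61789) (tt N21219 D31574))
theorem Q18503 : ∀ i, i < 18503 → P i := stepQ 18502 Q18502 (allL N18502 (tt N18043 F61791) (tt N21217 (iv F70460)) (tt N14672 (iv D28842)) (tt N18768 (iv F62560)) (tt N18040 F61792) (tt N18039 F61793) (tt N20871 (iv F69409)))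
theorem Q18504 : ∀ i, i < 18504 → P i := stepQ 18503 Q18503 (allL N18503 (tt N21219 (iv F70465)) (tt N18524 (iv F61860)) (tt N20871 (iv F69406)) (tt N14675 F61794) (tt N20870 (iv F69403)) (tt N18342 F61795) (tt N14672 (iv D28843)))
theorem Q18505 : ∀ i, i < 18505 → P i := stepQ 18504 Q18504 (allL N18504 (tt N16904 F61796) (tt N20886 (iv F69470)) (tt N14673 (iv D28844)) (tt N20886 (iv F69472)) (tt N16900 F61797) (tt N20940 (iv F69649)) (tt N18132 F61798))
theorem Q18506 : ∀ i, i < 18506 → P i := stepQ 18505 Q18505 (allL N18505 (tt N14675 F61799) (tt N18442 F61800) (tt N15727 F61801) (tt N21219 (iv F70468)) (tt N16372 F61802) (tt N16869 F61803) (tt N14674 (iv D28845)))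
theorem Q18507 : ∀ i, i < 18507 → P i := stepQ 18506 Q18506 (allL N18506 (tt N18149 F61804) (tt N21220 D31575) (tt N16926 F61805) (tt N18148 F61806) (tt N14677 F61807) (tt N14676 (iv D28846)) (tt N16925 F61808))
theorem Q18508 : ∀ i, i < 18508 → P i := stepQ 18507 Q18507 (allL N18507 (tt N20907 (iv F69557)) (tt N14677 (iv D28847)) (tt N21221 D31576) (tt N14682 F61809) (tt N21220 (iv F70473)) (tt N18424 F61810) (tt N21222 D31577))
theorem Q18509 : ∀ i, i < 18509 → P i := stepQ 18508 Q18508 (allL N18508 (tt N18509 (iv F61815)) (tt N21223 D31578) (tt N15843 F61811) (tt N14683 F61812) (tt N16925 F61813) (tt N15842 F61814) (tt N14677 (iv D28848)))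
theorem Q18510 : ∀ i, i < 18510 → P i := stepQ 18509 Q18509 (allL N18509 (tt N18508 F61815) (tt N18959 (iv F63017)) (tt N15609 F61816) (tt N14685 F61817) (tt N15610 F61818) (tt N14678 (iv D28849)) (tt N15841 F61819))
theorem Q18511 : ∀ i, i < 18511 → P i := stepQ 18510 Q18510 (allL N18510 (tt N17594 F61820) (tt N14681 F61821) (tt N14679 (iv D28850)) (tt N14681 F61822) (tt N14684 F61823) (tt N20945 (iv F69666)) (tt N14679 (iv F61824)))
theorem Q18512 : ∀ i, i < 18512 → P i := stepQ 18511 Q18511 (allL N18511 (tt N18150 F61825) (tt N21224 D31579) (tt N20945 (iv F69663)) (tt N14680 F61826) (tt N18148 F61827) (tt N14679 (iv D28851)) (tt N20651 (iv F68538)))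
theorem Q18513 : ∀ i, i < 18513 → P i := stepQ 18512 Q18512 (allL N18512 (tt N21225 D31580) (tt N14680 (iv D28852)) (tt N15889 F61828) (tt N21224 (iv F70487)) (tt N14682 F61829) (tt N18427 F61830) (tt N21226 D31581))
theorem Q18514 : ∀ i, i < 18514 → P i := stepQ 18513 Q18513 (allL N18513 (tt N18514 (iv F61834)) (tt N21227 D31582) (tt N14686 F61831) (tt N20651 (iv F68536)) (tt N14683 F61832) (tt N16563 F61833) (tt N14680 (iv D28853)))
theorem Q18515 : ∀ i, i < 18515 → P i := stepQ 18514 Q18514 (allL N18514 (tt N18513 F61834) (tt N18997 (iv F63137)) (tt N14687 F61835) (tt N20945 (iv F69664)) (tt N14685 F61836) (tt N14681 (iv D28854)) (tt N18499 F61837))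
theorem Q18516 : ∀ i, i < 18516 → P i := stepQ 18515 Q18515 (allL N18515 (tt N14682 (iv D28855)) (tt N19762 F65512) (tt N15887 F61838) (tt N20907 (iv F69558)) (tt N21225 (iv F70491)) (tt N18429 F61839) (tt N21165 (iv F70301)))
theorem Q18517 : ∀ i, i < 18517 → P i := stepQ 18516 Q18516 (allL N18516 (tt N21165 (iv F70298)) (tt N21228 D31583) (tt N15891 F61840) (tt N21222 (iv F70483)) (tt N21226 (iv F70494)) (tt N21163 (iv F70293)) (tt N14682 (iv D28856)))
theorem Q18518 : ∀ i, i < 18518 → P i := stepQ 18517 Q18517 (allL N18517 (tt N21229 D31584) (tt N14683 (iv D28857)) (tt N21230 D31585) (tt N21223 (iv F70484)) (tt N21227 (iv F70497)) (tt N21231 D31586) (tt N21228 (iv F70499)))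
theorem Q18519 : ∀ i, i < 18519 → P i := stepQ 18518 Q18518 (allL N18518 (tt N21232 D31587) (tt N14685 (iv D28858)) (tt N18998 (iv F63140)) (tt N18959 F63021) (tt N18997 F63138) (tt N18962 (iv F63025)) (tt N20986 (iv F69764)))
theorem Q18520 : ∀ i, i < 18520 → P i := stepQ 18519 Q18519 (allL N18519 (tt N18244 F61841) (tt N14686 (iv D28859)) (tt N18243 (iv F61845)) (tt N16469 F61842) (tt N14688 F61843) (tt N20822 (iv F69220)) (tt N15896 F61844))
theorem Q18521 : ∀ i, i < 18521 → P i := stepQ 18520 Q18520 (allL N18520 (tt N14688 (iv D28860)) (tt N17711 (iv F61849)) (tt N18242 (iv F61850)) (tt N14690 F61846) (tt N18244 F61847) (tt N19584 (iv F64939)) (tt N15897 F61848))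
theorem Q18522 : ∀ i, i < 18522 → P i := stepQ 18521 Q18521 (allL N18521 (tt N18242 F61851) (tt N21230 (iv F70500)) (tt N14688 (iv D28861)) (tt N21233 D31588) (tt N18243 F61852) (tt N21234 D31589) (tt N15898 F61853))
theorem Q18523 : ∀ i, i < 18523 → P i := stepQ 18522 Q18522 (allL N18522 (tt N19584 (iv F64937)) (tt N18140 F61854) (tt N21234 (iv F70510)) (tt N14692 F61855) (tt N20822 (iv F69219)) (tt N14688 (iv D28862)) (tt N19581 (iv F64935)))
theorem Q18524 : ∀ i, i < 18524 → P i := stepQ 18523 Q18523 (allL N18523 (tt N14689 (iv D28863)) (tt N20495 (iv F67978)) (tt N16711 F61856) (tt N14693 F61857) (tt N15683 F61858) (tt N18438 F61859) (tt N20817 (iv F69198)))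
theorem Q18525 : ∀ i, i < 18525 → P i := stepQ 18524 Q18524 (allL N18524 (tt N20817 (iv F69193)) (tt N18503 F61860) (tt N19036 (iv F63221)) (tt N14694 F61861) (tt N19035 (iv F63220)) (tt N20814 (iv F69178)) (tt N14689 (iv D28864)))
theorem Q18526 : ∀ i, i < 18526 → P i := stepQ 18525 Q18525 (allL N18525 (tt N18568 (iv F62016)) (tt N15865 F61862) (tt N20455 (iv F67855)) (tt N14691 (iv D28865)) (tt N14856 F61863) (tt N14855 F61864) (tt N15903 F61865))
theorem Q18527 : ∀ i, i < 18527 → P i := stepQ 18526 Q18526 (allL N18526 (tt N16452 F61866) (tt N18542 (iv F61936)) (tt N16694 F61867) (tt N20823 (iv F69224)) (tt N14696 F61868) (tt N16909 F61869) (tt N14695 (iv D28866)))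
theorem Q18528 : ∀ i, i < 18528 → P i := stepQ 18527 Q18527 (allL N18527 (tt N16302 F61870) (tt N18550 (iv F61962)) (tt N16695 F61871) (tt N20824 (iv F69230)) (tt N14698 F61872) (tt N14697 (iv D28867)) (tt N16911 F61873))
theorem Q18529 : ∀ i, i < 18529 → P i := stepQ 18528 Q18528 (allL N18528 (tt N16555 F61874) (tt N14703 (iv D28868)) (tt N19965 (iv F66195)) (tt N20912 (iv F69573)) (tt N14704 F61875) (tt N19963 (iv F66188)) (tt N18698 (iv F62370)))
theorem Q18530 : ∀ i, i < 18530 → P i := stepQ 18529 Q18529 (allL N18529 (tt N16356 F61876) (tt N16420 F61877) (tt N17849 F61878) (tt N17851 F61879) (tt N20937 (iv F69640)) (tt N16357 F61880) (tt N14714 (iv D28869)))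
theorem Q18531 : ∀ i, i < 18531 → P i := stepQ 18530 Q18530 (allL N18530 (tt N16591 F61881) (tt N14722 (iv D28870)) (tt N19956 (iv F66158)) (tt N20941 (iv F69651)) (tt N14723 F61882) (tt N18705 (iv F62395)) (tt N19949 (iv F66134)))
theorem Q18532 : ∀ i, i < 18532 → P i := stepQ 18531 Q18531 (allL N18531 (tt N16496 F61883) (tt N16527 F61884) (tt N17839 F61885) (tt N17853 F61886) (tt N20964 (iv F69712)) (tt N14733 (iv D28871)) (tt N16497 F61887))
theorem Q18533 : ∀ i, i < 18533 → P i := stepQ 18532 Q18532 (allL N18532 (tt N14741 F61888) (tt N21235 D31590) (tt N14740 (iv D28872)) (tt N15918 F61889) (tt N14743 F61890) (tt N14934 (iv F61892)) (tt N15916 F61891))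
theorem Q18534 : ∀ i, i < 18534 → P i := stepQ 18533 Q18533 (allL N18533 (tt N14742 F61893) (tt N19537 (iv F64788)) (tt N14934 F61894) (tt N21026 (iv F69882)) (tt N14744 F61895) (tt N14740 (iv D28873)) (tt N17230 F61896))
theorem Q18535 : ∀ i, i < 18535 → P i := stepQ 18534 Q18534 (allL N18534 (tt N17872 F61897) (tt N14743 (iv D28874)) (tt N17860 F61898) (tt N14936 F61899) (tt N21235 (iv F70515)) (tt N17869 F61900) (tt N17858 F61901))
theorem Q18536 : ∀ i, i < 18536 → P i := stepQ 18535 Q18535 (allL N18535 (tt N18257 F61902) (tt N19698 (iv F65308)) (tt N18241 F61903) (tt N14747 F61904) (tt N17023 F61905) (tt N15031 F61906) (tt N14746 (iv D28875)))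
theorem Q18537 : ∀ i, i < 18537 → P i := stepQ 18536 Q18536 (allL N18536 (tt N14762 F61907) (tt N21236 D31591) (tt N14761 (iv D28876)) (tt N15688 F61908) (tt N14764 F61909) (tt N15686 F61910) (tt N14982 (iv F61911)))
theorem Q18538 : ∀ i, i < 18538 → P i := stepQ 18537 Q18537 (allL N18537 (tt N14763 F61912) (tt N19309 (iv F64000)) (tt N14982 F61913) (tt N21028 (iv F69889)) (tt N14765 F61914) (tt N17306 F61915) (tt N14761 (iv D28877)))
theorem Q18539 : ∀ i, i < 18539 → P i := stepQ 18538 Q18538 (allL N18538 (tt N17860 F61916) (tt N14764 (iv D28878)) (tt N17872 F61917) (tt N14985 F61918) (tt N21236 (iv F70521)) (tt N17870 F61919) (tt N17857 F61920))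
theorem Q18540 : ∀ i, i < 18540 → P i := stepQ 18539 Q18539 (allL N18539 (tt N18314 F61921) (tt N19790 (iv F65582)) (tt N18300 F61922) (tt N14768 F61923) (tt N17116 F61924) (tt N14767 (iv D28879)) (tt N15032 F61925))
theorem Q18541 : ∀ i, i < 18541 → P i := stepQ 18540 Q18540 (allL N18540 (tt N14788 (iv D28880)) (tt N17074 F61926) (tt N17295 (iv F61929)) (tt N21119 (iv F70161)) (tt N14790 F61927) (tt N17294 F61928) (tt N20097 (iv F66627)))
theorem Q18542 : ∀ i, i < 18542 → P i := stepQ 18541 Q18541 (allL N18541 (tt N17295 F61930) (tt N16805 F61931) (tt N14788 (iv D28881)) (tt N20673 (iv F68606)) (tt N14791 F61932) (tt N17293 F61933) (tt N14838 F61934))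
theorem Q18543 : ∀ i, i < 18543 → P i := stepQ 18542 Q18542 (allL N18542 (tt N16836 F61935) (tt N18526 F61936) (tt N14793 (iv D28882)) (tt N20453 (iv F67848)) (tt N14794 F61937) (tt N17890 F61938) (tt N17039 (iv F61939)))
theorem Q18544 : ∀ i, i < 18544 → P i := stepQ 18543 Q18543 (allL N18543 (tt N19920 (iv F66016)) (tt N17038 F61940) (tt N17039 F61941) (tt N19743 (iv F65442)) (tt N14795 F61942) (tt N17039 F61943) (tt N14793 (iv D28883)))
theorem Q18545 : ∀ i, i < 18545 → P i := stepQ 18544 Q18544 (allL N18544 (tt N20187 F66951) (tt N20392 F67628) (tt N21237 D31592) (tt N14805 (iv D28884)) (tt N21175 (iv F70326)) (tt N20452 (iv F67845)) (tt N20393 (iv F67632)))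
theorem Q18546 : ∀ i, i < 18546 → P i := stepQ 18545 Q18545 (allL N18545 (tt N17219 F61944) (tt N16779 F61945) (tt N14821 F61946) (tt N20674 (iv F68611)) (tt N14811 F61947) (tt N14806 (iv D28885)) (tt N17217 F61948))
theorem Q18547 : ∀ i, i < 18547 → P i := stepQ 18546 Q18546 (allL N18546 (tt N20806 (iv F69134)) (tt N14808 (iv D28886)) (tt N20804 (iv F69127)) (tt N20120 (iv F66720)) (tt N18338 F61949) (tt N20119 F66717) (tt N19173 F63553))
theorem Q18548 : ∀ i, i < 18548 → P i := stepQ 18547 Q18547 (allL N18547 (tt N18387 F61950) (tt N20120 (iv F66718)) (tt N18386 F61951) (tt N14808 (iv D28887)) (tt N20238 (iv F67115)) (tt N17625 F61952) (tt N18328 F61953))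
theorem Q18549 : ∀ i, i < 18549 → P i := stepQ 18548 Q18548 (allL N18548 (tt N14813 F61954) (tt N17519 F61955) (tt N19980 (iv F66247)) (tt N14812 (iv D28888)) (tt N18595 (iv F62115)) (tt N19980 (iv F66250)) (tt N16416 F61956))
theorem Q18550 : ∀ i, i < 18550 → P i := stepQ 18549 Q18549 (allL N18549 (tt N14821 (iv D28889)) (tt N17160 F61957) (tt N17219 F61958) (tt N21172 (iv F70313)) (tt N14823 F61959) (tt N20089 (iv F66593)) (tt N17218 F61960))
theorem Q18551 : ∀ i, i < 18551 → P i := stepQ 18550 Q18550 (allL N18550 (tt N16843 F61961) (tt N18527 F61962) (tt N14825 (iv D28890)) (tt N20511 (iv F68034)) (tt N14826 F61963) (tt N17128 F61965) (tt N17912 F61964))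
theorem Q18552 : ∀ i, i < 18552 → P i := stepQ 18551 Q18551 (allL N18551 (tt N19981 (iv F66251)) (tt N17127 F61966) (tt N17128 F61967) (tt N19836 (iv F65727)) (tt N14827 F61968) (tt N14825 (iv D28891)) (tt N17128 F61969))
theorem Q18553 : ∀ i, i < 18553 → P i := stepQ 18552 Q18552 (allL N18552 (tt N20170 F66895) (tt N20322 F67360) (tt N21238 D31593) (tt N14837 (iv D28892)) (tt N21122 (iv F70174)) (tt N20323 (iv F67363)) (tt N20510 (iv F68031)))
theorem Q18554 : ∀ i, i < 18554 → P i := stepQ 18553 Q18553 (allL N18553 (tt N20816 (iv F69187)) (tt N14839 (iv D28893)) (tt N20814 (iv F69180)) (tt N20127 (iv F66748)) (tt N18281 F61970) (tt N19036 F63223) (tt N20126 F66745))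
theorem Q18555 : ∀ i, i < 18555 → P i := stepQ 18554 Q18554 (allL N18554 (tt N18449 F61971) (tt N20127 (iv F66746)) (tt N18448 F61972) (tt N14839 (iv D28894)) (tt N20250 (iv F67140)) (tt N18271 F61973) (tt N17621 F61974))
theorem Q18556 : ∀ i, i < 18556 → P i := stepQ 18555 Q18555 (allL N18555 (tt N14841 F61975) (tt N17517 F61976) (tt N20017 (iv F66388)) (tt N14840 (iv D28895)) (tt N18584 (iv F62073)) (tt N16523 F61977) (tt N20017 (iv F66391)))
theorem Q18557 : ∀ i, i < 18557 → P i := stepQ 18556 Q18556 (allL N18556 (tt N16821 F61978) (tt N17168 F61979) (tt N14847 (iv D28896)) (tt N21239 D31594) (tt N14849 F61980) (tt N16819 F61981) (tt N14859 F61982))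
theorem Q18558 : ∀ i, i < 18558 → P i := stepQ 18557 Q18557 (allL N18557 (tt N15007 F61983) (tt N14850 (iv D28897)) (tt N14916 F61984) (tt N17847 F61985) (tt N14852 F61986) (tt N14915 F61987) (tt N15008 F61988))
theorem Q18559 : ∀ i, i < 18559 → P i := stepQ 18558 Q18558 (allL N18558 (tt N20085 (iv F66573)) (tt N14853 F61989) (tt N16224 F61992) (tt N14852 (iv D28898)) (tt N21240 D31595) (tt N16232 F61990) (tt N16223 F61991))
theorem Q18560 : ∀ i, i < 18560 → P i := stepQ 18559 Q18559 (allL N18559 (tt N14855 F61993) (tt N21240 (iv F70533)) (tt N20051 F66479) (tt N19585 (iv F64943)) (tt N14853 (iv D28899)) (tt N18568 (iv F62020)) (tt N14864 F61994))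
theorem Q18561 : ∀ i, i < 18561 → P i := stepQ 18560 Q18560 (allL N18560 (tt N20051 F66478) (tt N16959 F61995) (tt N14855 F61996) (tt N21241 D31596) (tt N14854 (iv D28900)) (tt N20455 (iv F67857)) (tt N14868 F61997))
theorem Q18562 : ∀ i, i < 18562 → P i := stepQ 18561 Q18561 (allL N18561 (tt N20163 (iv F66872)) (tt N16618 F61998) (tt N21242 D31597) (tt N14859 (iv D28901)) (tt N20059 (iv F66498)) (tt N20193 F66971) (tt N21239 (iv F70531)))
theorem Q18563 : ∀ i, i < 18563 → P i := stepQ 18562 Q18562 (allL N18562 (tt N20184 (iv F66940)) (tt N19142 (iv F63475)) (tt N14860 (iv D28902)) (tt N21243 D31598) (tt N20312 (iv F67328)) (tt N16988 F61999) (tt N20218 (iv F67073)))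
theorem Q18564 : ∀ i, i < 18564 → P i := stepQ 18563 Q18563 (allL N18563 (tt N14868 F62000) (tt N16515 F62001) (tt N14864 F62002) (tt N21244 D31599) (tt N14863 (iv D28903)) (tt N17227 F62003) (tt N20051 (iv F66477)))
theorem Q18565 : ∀ i, i < 18565 → P i := stepQ 18564 Q18564 (allL N18564 (tt N16946 F62004) (tt N14868 F62005) (tt N14875 F62006) (tt N21245 D31600) (tt N14866 (iv D28904)) (tt N17468 F62007) (tt N20377 (iv F67571)))
theorem Q18566 : ∀ i, i < 18566 → P i := stepQ 18565 Q18565 (allL N18565 (tt N17171 F62008) (tt N17307 F62009) (tt N16862 F62010) (tt N21246 D31601) (tt N14867 (iv D28905)) (tt N17168 F62011) (tt N16944 F62012))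
theorem Q18567 : ∀ i, i < 18567 → P i := stepQ 18566 Q18566 (allL N18566 (tt N21244 (iv F70546)) (tt N21245 (iv F70551)) (tt N21247 D31602) (tt N14868 (iv D28906)) (tt N21246 (iv F70557)) (tt N21248 D31603) (tt N21241 (iv F70540)))
theorem Q18568 : ∀ i, i < 18568 → P i := stepQ 18567 Q18567 (allL N18567 (tt N17227 F62013) (tt N19997 (iv F66315)) (tt N14870 F62014) (tt N21248 (iv F70564)) (tt N14869 F62015) (tt N14868 (iv D28907)) (tt N20064 (iv F66516)))
theorem Q18569 : ∀ i, i < 18569 → P i := stepQ 18568 Q18568 (allL N18568 (tt N18525 F62016) (tt N17605 F62017) (tt N20064 (iv F66513)) (tt N17606 F62018) (tt N14871 F62019) (tt N18559 F62020) (tt N14870 (iv D28908)))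
theorem Q18570 : ∀ i, i < 18570 → P i := stepQ 18569 Q18569 (allL N18569 (tt N16961 F62021) (tt N14897 F62022) (tt N14873 F62023) (tt N21249 D31604) (tt N14872 (iv D28909)) (tt N20424 (iv F67743)) (tt N17443 F62024))
theorem Q18571 : ∀ i, i < 18571 → P i := stepQ 18570 Q18570 (allL N18570 (tt N16796 F62025) (tt N17083 F62026) (tt N14880 (iv D28910)) (tt N21250 D31605) (tt N14881 F62027) (tt N14890 F62028) (tt N16793 F62029))
theorem Q18572 : ∀ i, i < 18572 → P i := stepQ 18571 Q18571 (allL N18571 (tt N15019 F62030) (tt N14882 (iv D28911)) (tt N14963 F62031) (tt N17837 F62032) (tt N14884 F62033) (tt N15020 F62034) (tt N14962 F62035))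
theorem Q18573 : ∀ i, i < 18573 → P i := stepQ 18572 Q18572 (allL N18572 (tt N20093 (iv F66606)) (tt N14885 F62036) (tt N16254 F62039) (tt N14884 (iv D28912)) (tt N21251 D31606) (tt N16253 F62037) (tt N16261 F62038))
theorem Q18574 : ∀ i, i < 18574 → P i := stepQ 18573 Q18573 (allL N18573 (tt N14887 F62040) (tt N21251 (iv F70576)) (tt N20031 F66429) (tt N19370 (iv F64179)) (tt N14885 (iv D28913)) (tt N14895 F62041) (tt N18581 (iv F62063)))
theorem Q18575 : ∀ i, i < 18575 → P i := stepQ 18574 Q18574 (allL N18574 (tt N20031 (iv F66428)) (tt N16944 F62042) (tt N14887 F62043) (tt N21252 D31607) (tt N14886 (iv D28914)) (tt N14897 F62044) (tt N20513 (iv F68044)))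
theorem Q18576 : ∀ i, i < 18576 → P i := stepQ 18575 Q18575 (allL N18575 (tt N20162 (iv F66870)) (tt N16635 F62045) (tt N21253 D31608) (tt N14890 (iv D28915)) (tt N20076 (iv F66550)) (tt N21250 (iv F70573)) (tt N20175 F66911))
theorem Q18577 : ∀ i, i < 18577 → P i := stepQ 18576 Q18576 (allL N18576 (tt N20167 (iv F66884)) (tt N19004 (iv F63152)) (tt N14891 (iv D28916)) (tt N21254 D31609) (tt N20293 (iv F67274)) (tt N20215 (iv F67062)) (tt N17013 F62046))
theorem Q18578 : ∀ i, i < 18578 → P i := stepQ 18577 Q18577 (allL N18577 (tt N14897 F62047) (tt N16405 F62048) (tt N14895 F62049) (tt N21255 D31610) (tt N14894 (iv D28917)) (tt N20031 (iv F66427)) (tt N17303 F62050))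
theorem Q18579 : ∀ i, i < 18579 → P i := stepQ 18578 Q18578 (allL N18578 (tt N17087 F62051) (tt N17231 F62052) (tt N16853 F62053) (tt N21256 D31611) (tt N14896 (iv D28918)) (tt N16959 F62054) (tt N17083 F62055))
theorem Q18580 : ∀ i, i < 18580 → P i := stepQ 18579 Q18579 (allL N18579 (tt N21255 (iv F70589)) (tt N21249 (iv F70567)) (tt N21257 D31612) (tt N14897 (iv D28919)) (tt N21256 (iv F70595)) (tt N21252 (iv F70583)) (tt N21258 D31613))
theorem Q18581 : ∀ i, i < 18581 → P i := stepQ 18580 Q18580 (allL N18580 (tt N17303 F62056) (tt N19938 (iv F66092)) (tt N14899 F62057) (tt N21258 (iv F70602)) (tt N14898 F62058) (tt N20067 (iv F66525)) (tt N14897 (iv D28920)))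
theorem Q18582 : ∀ i, i < 18582 → P i := stepQ 18581 Q18581 (allL N18581 (tt N18497 F62059) (tt N17577 F62060) (tt N20067 (iv F66523)) (tt N17578 F62061) (tt N14900 F62062) (tt N14899 (iv D28921)) (tt N18573 F62063))
theorem Q18583 : ∀ i, i < 18583 → P i := stepQ 18582 Q18582 (allL N18582 (tt N15011 F62064) (tt N18593 (iv F62105)) (tt N18599 (iv F62128)) (tt N19890 (iv F65902)) (tt N15005 F62065) (tt N14902 (iv D28922)) (tt N15011 F62066))
theorem Q18584 : ∀ i, i < 18584 → P i := stepQ 18583 Q18583 (allL N18583 (tt N16965 F62067) (tt N20134 (iv F66772)) (tt N17877 F62068) (tt N18895 (iv F62829)) (tt N14911 (iv D28923)) (tt N17483 F62069) (tt N20595 (iv F68326)))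
theorem Q18585 : ∀ i, i < 18585 → P i := stepQ 18584 Q18584 (allL N18584 (tt N14913 F62070) (tt N20087 (iv F66581)) (tt N17488 F62071) (tt N16846 F62072) (tt N18555 F62073) (tt N14912 (iv D28924)) (tt N17488 F62074))
theorem Q18586 : ∀ i, i < 18586 → P i := stepQ 18585 Q18585 (allL N18585 (tt N18585 F62075) (tt N14917 (iv D28925)) (tt N14920 F62076) (tt N16355 F62077) (tt N17498 F62078) (tt N14920 F62079) (tt N16623 F62080))
theorem Q18587 : ∀ i, i < 18587 → P i := stepQ 18586 Q18586 (allL N18586 (tt N17851 F62081) (tt N14975 F62082) (tt N17504 F62083) (tt N16356 F62084) (tt N14985 F62085) (tt N14918 (iv D28926)) (tt N17850 F62086))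
theorem Q18588 : ∀ i, i < 18588 → P i := stepQ 18587 Q18587 (allL N18587 (tt N17853 F62092) (tt N14927 (iv D28927)) (tt N17499 F62087) (tt N16496 F62088) (tt N14936 F62089) (tt N17852 F62090) (tt N14966 F62091))
theorem Q18589 : ∀ i, i < 18589 → P i := stepQ 18588 Q18588 (allL N18588 (tt N19990 (iv F66284)) (tt N14934 F62093) (tt N19536 (iv F64782)) (tt N19989 (iv F66282)) (tt N14931 (iv D28928)) (tt N19535 (iv F64780)) (tt N21259 D31614))
theorem Q18590 : ∀ i, i < 18590 → P i := stepQ 18589 Q18589 (allL N18589 (tt N16751 F62094) (tt N20592 (iv F68311)) (tt N16750 F62095) (tt N14933 F62096) (tt N21259 (iv F70607)) (tt N17451 F62097) (tt N14931 (iv D28929)))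
theorem Q18591 : ∀ i, i < 18591 → P i := stepQ 18590 Q18590 (allL N18590 (tt N18602 (iv F62135)) (tt N14933 (iv D28930)) (tt N18593 (iv F62106)) (tt N20592 (iv F68313)) (tt N18603 (iv F62141)) (tt N18602 (iv F62138)) (tt N14937 F62098))
theorem Q18592 : ∀ i, i < 18592 → P i := stepQ 18591 Q18591 (allL N18591 (tt N20206 (iv F67024)) (tt N20594 (iv F68318)) (tt N19759 (iv F65501)) (tt N16678 F62099) (tt N19760 (iv F65506)) (tt N20206 F67023) (tt N14939 (iv D28931)))
theorem Q18593 : ∀ i, i < 18593 → P i := stepQ 18592 Q18592 (allL N18592 (tt N18592 F62100) (tt N14946 (iv D28932)) (tt N16847 F62101) (tt N14947 F62102) (tt N20037 (iv F66440)) (tt N16847 F62103) (tt N20210 (iv F67043)))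
theorem Q18594 : ∀ i, i < 18594 → P i := stepQ 18593 Q18593 (allL N18593 (tt N14997 F62104) (tt N18582 F62105) (tt N18590 F62106) (tt N19891 (iv F65908)) (tt N15000 F62107) (tt N14997 F62108) (tt N14950 (iv D28933)))
theorem Q18595 : ∀ i, i < 18595 → P i := stepQ 18594 Q18594 (allL N18594 (tt N16950 F62109) (tt N20137 (iv F66786)) (tt N17865 F62110) (tt N18949 (iv F62993)) (tt N14958 (iv D28934)) (tt N20597 (iv F68334)) (tt N17492 F62111))
theorem Q18596 : ∀ i, i < 18596 → P i := stepQ 18595 Q18595 (allL N18595 (tt N14960 F62112) (tt N20095 (iv F66614)) (tt N17497 F62113) (tt N16844 F62114) (tt N18548 F62115) (tt N17497 F62116) (tt N14959 (iv D28935)))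
theorem Q18597 : ∀ i, i < 18597 → P i := stepQ 18596 Q18596 (allL N18596 (tt N18596 F62117) (tt N14965 (iv D28936)) (tt N14968 F62118) (tt N16495 F62119) (tt N17503 F62120) (tt N16600 F62121) (tt N14968 F62122))
theorem Q18598 : ∀ i, i < 18598 → P i := stepQ 18597 Q18597 (allL N18597 (tt N19930 (iv F66055)) (tt N14982 F62123) (tt N19308 (iv F63994)) (tt N19929 (iv F66053)) (tt N14979 (iv D28937)) (tt N21260 D31615) (tt N19306 F63989))
theorem Q18599 : ∀ i, i < 18599 → P i := stepQ 18598 Q18598 (allL N18598 (tt N16748 F62124) (tt N20588 (iv F68299)) (tt N16747 F62125) (tt N14980 F62126) (tt N21260 (iv F70612)) (tt N14979 (iv D28938)) (tt N17476 F62127))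
theorem Q18600 : ∀ i, i < 18600 → P i := stepQ 18599 Q18599 (allL N18599 (tt N18608 (iv F62160)) (tt N14980 (iv D28939)) (tt N18582 F62128) (tt N20588 (iv F68301)) (tt N18605 (iv F62155)) (tt N14984 F62129) (tt N18608 (iv F62164)))
theorem Q18601 : ∀ i, i < 18601 → P i := stepQ 18600 Q18600 (allL N18600 (tt N20208 (iv F67032)) (tt N20590 (iv F68305)) (tt N19665 (iv F65221)) (tt N16660 F62130) (tt N19666 (iv F65226)) (tt N14987 (iv D28940)) (tt N20208 (iv F67033)))
theorem Q18602 : ∀ i, i < 18602 → P i := stepQ 18601 Q18601 (allL N18601 (tt N18601 F62131) (tt N14994 (iv D28941)) (tt N16845 F62132) (tt N14995 F62133) (tt N20057 (iv F66490)) (tt N20211 (iv F67048)) (tt N16845 F62134))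
theorem Q18603 : ∀ i, i < 18603 → P i := stepQ 18602 Q18602 (allL N18602 (tt N18590 F62135) (tt N15006 F62136) (tt N14997 (iv D28942)) (tt N20022 (iv F66405)) (tt N15001 F62137) (tt N18590 F62138) (tt N17554 F62139))
theorem Q18604 : ∀ i, i < 18604 → P i := stepQ 18603 Q18603 (allL N18603 (tt N15001 F62140) (tt N17934 (iv F62145)) (tt N15000 (iv D28943)) (tt N17923 F62144) (tt N18590 F62141) (tt N15001 F62142) (tt N15017 F62143))
theorem Q18605 : ∀ i, i < 18605 → P i := stepQ 18604 Q18604 (allL N18604 (tt N17923 F62146) (tt N15009 F62147) (tt N16451 F62148) (tt N15001 (iv D28944)) (tt N21261 D31616) (tt N17923 F62149) (tt N17556 F62150))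
theorem Q18606 : ∀ i, i < 18606 → P i := stepQ 18605 Q18605 (allL N18605 (tt N15014 F62151) (tt N17944 F62152) (tt N15005 F62153) (tt N17901 F62154) (tt N18599 F62155) (tt N15004 (iv D28945)) (tt N15014 F62156))
theorem Q18607 : ∀ i, i < 18607 → P i := stepQ 18606 Q18606 (allL N18606 (tt N16223 F62157) (tt N20022 (iv F66403)) (tt N16222 F62158) (tt N15006 (iv D28946)) (tt N21262 D31617) (tt N17484 F62159) (tt N20085 (iv F66577)))
theorem Q18608 : ∀ i, i < 18608 → P i := stepQ 18607 Q18607 (allL N18607 (tt N20819 (iv F69203)) (tt N21261 (iv F70615)) (tt N20667 F68579) (tt N21262 (iv F70621)) (tt N15009 (iv D28947)) (tt N20667 F68578) (tt N20608 F68388))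
theorem Q18609 : ∀ i, i < 18609 → P i := stepQ 18608 Q18608 (allL N18608 (tt N18599 F62160) (tt N15018 F62161) (tt N15011 (iv D28948)) (tt N20042 (iv F66455)) (tt N15014 F62162) (tt N17555 F62163) (tt N18599 F62164))
theorem Q18610 : ∀ i, i < 18610 → P i := stepQ 18609 Q18609 (allL N18609 (tt N17901 F62165) (tt N15021 F62166) (tt N16298 F62167) (tt N15014 (iv D28949)) (tt N21263 D31618) (tt N17557 F62168) (tt N17901 F62169))
theorem Q18611 : ∀ i, i < 18611 → P i := stepQ 18610 Q18610 (allL N18610 (tt N16253 F62170) (tt N20042 (iv F66453)) (tt N16252 F62171) (tt N15018 (iv D28950)) (tt N21264 D31619) (tt N20093 (iv F66610)) (tt N17493 F62172))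
theorem Q18612 : ∀ i, i < 18612 → P i := stepQ 18611 Q18611 (allL N18611 (tt N20820 (iv F69209)) (tt N21263 (iv F70624)) (tt N20642 F68496) (tt N21264 (iv F70630)) (tt N15021 (iv D28951)) (tt N20611 F68401) (tt N20642 (iv F68495)))
theorem Q18613 : ∀ i, i < 18613 → P i := stepQ 18612 Q18612 (allL N18612 (tt N20234 (iv F67106)) (tt N15858 (iv F62175)) (tt N20823 (iv F69223)) (tt N15845 F62173) (tt N15025 F62174) (tt N19514 (iv F64703)) (tt N15024 (iv D28952)))
theorem Q18614 : ∀ i, i < 18614 → P i := stepQ 18613 Q18613 (allL N18613 (tt N16030 (iv F62180)) (tt N15025 (iv D28953)) (tt N17223 F62176) (tt N15026 F62177) (tt N15858 F62178) (tt N15712 F62179) (tt N19698 (iv F65311)))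
theorem Q18615 : ∀ i, i < 18615 → P i := stepQ 18614 Q18614 (allL N18614 (tt N20235 (iv F67110)) (tt N15624 (iv F62183)) (tt N20824 (iv F69229)) (tt N15611 F62181) (tt N15029 F62182) (tt N15028 (iv D28954)) (tt N19282 (iv F63896)))
theorem Q18616 : ∀ i, i < 18616 → P i := stepQ 18615 Q18615 (allL N18615 (tt N16107 (iv F62188)) (tt N15029 (iv D28955)) (tt N17299 F62184) (tt N15030 F62185) (tt N15624 F62186) (tt N19790 (iv F65585)) (tt N15938 F62187))
theorem Q18617 : ∀ i, i < 18617 → P i := stepQ 18616 Q18616 (allL N18616 (tt N18021 F62189) (tt N19520 F64722) (tt N20106 (iv F66659)) (tt N15033 (iv D28956)) (tt N20105 F66657) (tt N17618 F62190) (tt N19525 (iv F64735)))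
theorem Q18618 : ∀ i, i < 18618 → P i := stepQ 18617 Q18617 (allL N18617 (tt N18000 F62191) (tt N15035 F62192) (tt N18093 (iv F62194)) (tt N15034 (iv D28957)) (tt N18089 (iv F62195)) (tt N17564 F62193) (tt N19424 (iv F64410)))
theorem Q18619 : ∀ i, i < 18619 → P i := stepQ 18618 Q18618 (allL N18618 (tt N18002 F62196) (tt N18686 (iv F62348)) (tt N19518 (iv F64711)) (tt N19424 (iv F64408)) (tt N18002 F62197) (tt N19518 (iv F64710)) (tt N15034 (iv D28958)))
theorem Q18620 : ∀ i, i < 18620 → P i := stepQ 18619 Q18619 (allL N18619 (tt N17952 F62198) (tt N15036 (iv D28959)) (tt N16908 F62199) (tt N16264 F62200) (tt N15531 F62201) (tt N16908 F62202) (tt N19514 (iv F64704)))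
theorem Q18621 : ∀ i, i < 18621 → P i := stepQ 18620 Q18620 (allL N18620 (tt N18091 F62203) (tt N19411 (iv F64316)) (tt N15038 F62204) (tt N15114 F62205) (tt N18088 F62206) (tt N15112 F62207) (tt N15036 (iv D28960)))
theorem Q18622 : ∀ i, i < 18622 → P i := stepQ 18621 Q18621 (allL N18621 (tt N18090 F62208) (tt N21265 D31620) (tt N18088 F62209) (tt N20825 (iv F69234)) (tt N15038 F62210) (tt N18676 (iv F62339)) (tt N15037 (iv D28961)))
theorem Q18623 : ∀ i, i < 18623 → P i := stepQ 18622 Q18622 (allL N18622 (tt N21266 D31621) (tt N15038 (iv D28962)) (tt N21267 D31622) (tt N15039 F62211) (tt N21265 (iv F70633)) (tt N21268 D31623) (tt N20223 (iv F67087)))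
theorem Q18624 : ∀ i, i < 18624 → P i := stepQ 18623 Q18623 (allL N18623 (tt N15039 (iv D28963)) (tt N21011 (iv F69828)) (tt N19721 (iv F65377)) (tt N21266 (iv F70635)) (tt N19718 (iv F65370)) (tt N19717 F65366) (tt N20224 (iv F67088)))
theorem Q18625 : ∀ i, i < 18625 → P i := stepQ 18624 Q18624 (allL N18624 (tt N19721 (iv F65376)) (tt N15040 F62212) (tt N15039 (iv D28964)) (tt N21269 D31624) (tt N19705 (iv F65329)) (tt N19704 F65324) (tt N16933 F62213))
theorem Q18626 : ∀ i, i < 18626 → P i := stepQ 18625 Q18625 (allL N18625 (tt N19717 (iv F65364)) (tt N18679 (iv F62343)) (tt N19704 (iv F65323)) (tt N21268 (iv F70636)) (tt N16016 F62214) (tt N15039 (iv D28965)) (tt N21270 D31625))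
theorem Q18627 : ∀ i, i < 18627 → P i := stepQ 18626 Q18626 (allL N18626 (tt N18062 F62215) (tt N21269 (iv F70639)) (tt N18064 (iv F62217)) (tt N15040 (iv D28966)) (tt N18808 (iv F62625)) (tt N19175 (iv F63555)) (tt N15042 F62216))
theorem Q18628 : ∀ i, i < 18628 → P i := stepQ 18627 Q18627 (allL N18627 (tt N21271 D31626) (tt N15041 (iv D28967)) (tt N19167 (iv F63532)) (tt N18978 (iv F63056)) (tt N19009 (iv F63164)) (tt N21272 D31627) (tt N18976 (iv F63052)))
theorem Q18629 : ∀ i, i < 18629 → P i := stepQ 18628 Q18628 (allL N18628 (tt N15042 F62218) (tt N18978 (iv F63054)) (tt N18067 F62221) (tt N15041 (iv D28968)) (tt N18810 (iv F62632)) (tt N15512 F62219) (tt N18062 F62220))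
theorem Q18630 : ∀ i, i < 18630 → P i := stepQ 18629 Q18629 (allL N18629 (tt N15512 F62222) (tt N15335 (iv F62224)) (tt N18697 (iv F62365)) (tt N15043 F62223) (tt N19032 (iv F63212)) (tt N15042 (iv D28969)) (tt N20898 (iv F69521)))
theorem Q18631 : ∀ i, i < 18631 → P i := stepQ 18630 Q18630 (allL N18630 (tt N15495 F62225) (tt N21273 D31628) (tt N15044 F62226) (tt N20898 (iv F69519)) (tt N18795 (iv F62603)) (tt N18055 F62227) (tt N15043 (iv D28970)))
theorem Q18632 : ∀ i, i < 18632 → P i := stepQ 18631 Q18631 (allL N18631 (tt N18051 F62228) (tt N19291 (iv F63922)) (tt N20114 (iv F66693)) (tt N15045 (iv D28971)) (tt N20113 F66691) (tt N19297 (iv F63941)) (tt N17622 F62229))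
theorem Q18633 : ∀ i, i < 18633 → P i := stepQ 18632 Q18632 (allL N18632 (tt N18004 F62230) (tt N15047 F62231) (tt N18147 (iv F62233)) (tt N15046 (iv D28972)) (tt N18143 (iv F62234)) (tt N19292 (iv F63928)) (tt N17592 F62232))
theorem Q18634 : ∀ i, i < 18634 → P i := stepQ 18633 Q18633 (allL N18633 (tt N18005 F62235) (tt N18697 (iv F62364)) (tt N19289 F63910) (tt N19292 (iv F63926)) (tt N18005 F62236) (tt N15046 (iv D28973)) (tt N19289 F63911))
theorem Q18635 : ∀ i, i < 18635 → P i := stepQ 18634 Q18634 (allL N18634 (tt N17954 F62237) (tt N15048 (iv D28974)) (tt N16910 F62238) (tt N16421 F62239) (tt N15775 F62240) (tt N19282 (iv F63895)) (tt N16910 F62241))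
theorem Q18636 : ∀ i, i < 18636 → P i := stepQ 18635 Q18635 (allL N18635 (tt N18145 F62242) (tt N19615 (iv F65052)) (tt N15050 F62243) (tt N15126 F62244) (tt N18142 F62245) (tt N15048 (iv D28975)) (tt N15124 F62246))
theorem Q18637 : ∀ i, i < 18637 → P i := stepQ 18636 Q18636 (allL N18636 (tt N18144 F62247) (tt N21274 D31629) (tt N18142 F62248) (tt N20826 (iv F69238)) (tt N15050 F62249) (tt N15049 (iv D28976)) (tt N18687 (iv F62355)))
theorem Q18638 : ∀ i, i < 18638 → P i := stepQ 18637 Q18637 (allL N18637 (tt N21275 D31630) (tt N15050 (iv D28977)) (tt N21276 D31631) (tt N15051 F62250) (tt N21274 (iv F70658)) (tt N20230 (iv F67101)) (tt N21277 D31632))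
theorem Q18639 : ∀ i, i < 18639 → P i := stepQ 18638 Q18638 (allL N18638 (tt N15051 (iv D28978)) (tt N20985 (iv F69761)) (tt N19816 (iv F65662)) (tt N21275 (iv F70660)) (tt N19813 (iv F65656)) (tt N20231 (iv F67102)) (tt N19811 F65649))
theorem Q18640 : ∀ i, i < 18640 → P i := stepQ 18639 Q18639 (allL N18639 (tt N19816 (iv F65661)) (tt N15052 F62251) (tt N15051 (iv D28979)) (tt N21278 D31633) (tt N19800 (iv F65615)) (tt N16921 F62252) (tt N19798 F65607))
theorem Q18641 : ∀ i, i < 18641 → P i := stepQ 18640 Q18640 (allL N18640 (tt N19811 (iv F65647)) (tt N18690 (iv F62359)) (tt N19798 (iv F65606)) (tt N21277 (iv F70661)) (tt N16092 F62253) (tt N21279 D31634) (tt N15051 (iv D28980)))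
theorem Q18642 : ∀ i, i < 18642 → P i := stepQ 18641 Q18641 (allL N18641 (tt N18033 F62254) (tt N21278 (iv F70664)) (tt N18035 (iv F62256)) (tt N15052 (iv D28981)) (tt N18757 (iv F62540)) (tt N15054 F62255) (tt N19038 (iv F63226)))
theorem Q18643 : ∀ i, i < 18643 → P i := stepQ 18642 Q18642 (allL N18642 (tt N21280 D31635) (tt N15053 (iv D28982)) (tt N19030 (iv F63204)) (tt N19117 (iv F63392)) (tt N19148 (iv F63492)) (tt N19115 (iv F63388)) (tt N21281 D31636))
theorem Q18644 : ∀ i, i < 18644 → P i := stepQ 18643 Q18643 (allL N18643 (tt N15054 F62257) (tt N19117 (iv F63390)) (tt N18037 F62260) (tt N15053 (iv D28983)) (tt N18758 (iv F62545)) (tt N18033 F62258) (tt N15408 F62259))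
theorem Q18645 : ∀ i, i < 18645 → P i := stepQ 18644 Q18644 (allL N18644 (tt N15408 F62261) (tt N15440 (iv F62263)) (tt N18686 (iv F62349)) (tt N15055 F62262) (tt N19169 (iv F63542)) (tt N20874 (iv F69423)) (tt N15054 (iv D28984)))
theorem Q18646 : ∀ i, i < 18646 → P i := stepQ 18645 Q18645 (allL N18645 (tt N15391 F62264) (tt N21282 D31637) (tt N15056 F62265) (tt N20874 (iv F69421)) (tt N18744 (iv F62518)) (tt N15055 (iv D28985)) (tt N18026 F62266))
theorem Q18647 : ∀ i, i < 18647 → P i := stepQ 18646 Q18646 (allL N18646 (tt N15059 F62267) (tt N15104 F62268) (tt N15058 (iv D28986)) (tt N15107 F62269) (tt N20942 (iv F69655)) (tt N15964 F62270) (tt N20899 (iv F69526)))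
theorem Q18648 : ∀ i, i < 18648 → P i := stepQ 18647 Q18647 (allL N18647 (tt N15060 F62271) (tt N18344 F62272) (tt N20942 (iv F69654)) (tt N16188 F62273) (tt N15058 (iv D28987)) (tt N15965 F62274) (tt N16501 F62275))
theorem Q18649 : ∀ i, i < 18649 → P i := stepQ 18648 Q18648 (allL N18648 (tt N21218 (iv F70462)) (tt N15059 (iv D28988)) (tt N20921 (iv F69596)) (tt N20901 (iv F69534)) (tt N21283 D31638) (tt N21284 D31639) (tt N20902 (iv F69539)))
theorem Q18650 : ∀ i, i < 18650 → P i := stepQ 18649 Q18649 (allL N18649 (tt N20942 F69657) (tt N21283 (iv F70682)) (tt N15060 F62276) (tt N21285 D31640) (tt N15059 (iv D28989)) (tt N21286 D31641) (tt N20428 (iv F67763)))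
theorem Q18651 : ∀ i, i < 18651 → P i := stepQ 18650 Q18650 (allL N18650 (tt N15964 F62277) (tt N21287 D31642) (tt N15061 F62278) (tt N19201 (iv F63625)) (tt N21286 (iv F70690)) (tt N15059 (iv D28990)) (tt N19714 (iv F65356)))
theorem Q18652 : ∀ i, i < 18652 → P i := stepQ 18651 Q18651 (allL N18651 (tt N15965 F62279) (tt N19695 F65298) (tt N21286 (iv F70689)) (tt N16190 F62280) (tt N15061 F62281) (tt N15060 (iv D28991)) (tt N19712 (iv F65349)))
theorem Q18653 : ∀ i, i < 18653 → P i := stepQ 18652 Q18652 (allL N18652 (tt N15064 F62282) (tt N15094 F62283) (tt N15063 (iv D28992)) (tt N15097 F62284) (tt N20913 (iv F69577)) (tt N20875 (iv F69428)) (tt N15739 F62285))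
theorem Q18654 : ∀ i, i < 18654 → P i := stepQ 18653 Q18653 (allL N18653 (tt N15065 F62286) (tt N18287 F62287) (tt N20913 (iv F69576)) (tt N16191 F62288) (tt N15063 (iv D28993)) (tt N16367 F62289) (tt N15740 F62290))
theorem Q18655 : ∀ i, i < 18655 → P i := stepQ 18654 Q18654 (allL N18654 (tt N21198 (iv F70400)) (tt N15064 (iv D28994)) (tt N20950 (iv F69674)) (tt N20877 (iv F69436)) (tt N21288 D31643) (tt N20878 (iv F69441)) (tt N21289 D31644))
theorem Q18656 : ∀ i, i < 18656 → P i := stepQ 18655 Q18655 (allL N18655 (tt N20913 F69579) (tt N21288 (iv F70694)) (tt N15065 F62291) (tt N21290 D31645) (tt N15064 (iv D28995)) (tt N20486 (iv F67946)) (tt N21291 D31646))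
theorem Q18657 : ∀ i, i < 18657 → P i := stepQ 18656 Q18656 (allL N18656 (tt N15739 F62292) (tt N21292 D31647) (tt N15066 F62293) (tt N19064 (iv F63278)) (tt N21291 (iv F70702)) (tt N19807 (iv F65636)) (tt N15064 (iv D28996)))
theorem Q18658 : ∀ i, i < 18658 → P i := stepQ 18657 Q18657 (allL N18657 (tt N15740 F62294) (tt N19789 (iv F65581)) (tt N21291 (iv F70701)) (tt N16193 F62295) (tt N15066 F62296) (tt N19806 (iv F65632)) (tt N15065 (iv D28997)))
theorem Q18659 : ∀ i, i < 18659 → P i := stepQ 18658 Q18658 (allL N18658 (tt N15068 (iv D28998)) (tt N15077 (iv F62300)) (tt N21293 D31648) (tt N15071 F62297) (tt N18658 F62298) (tt N18658 F62299) (tt N18712 (iv F62420)))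
theorem Q18660 : ∀ i, i < 18660 → P i := stepQ 18659 Q18659 (allL N18659 (tt N21293 (iv F70706)) (tt N18659 F62301) (tt N15068 (iv D28999)) (tt N21294 D31649) (tt N18659 F62302) (tt N18659 F62303) (tt N18713 (iv F62423)))
theorem Q18661 : ∀ i, i < 18661 → P i := stepQ 18660 Q18660 (allL N18660 (tt N15069 (iv D29000)) (tt N15076 F62304) (tt N21295 D31650) (tt N15074 F62305) (tt N18660 F62306) (tt N18714 (iv F62427)) (tt N18660 F62307))
theorem Q18662 : ∀ i, i < 18662 → P i := stepQ 18661 Q18661 (allL N18661 (tt N21295 (iv F70713)) (tt N18661 F62308) (tt N15069 (iv D29001)) (tt N21296 D31651) (tt N18661 F62309) (tt N18715 (iv F62430)) (tt N18661 F62310))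
theorem Q18663 : ∀ i, i < 18663 → P i := stepQ 18662 Q18662 (allL N18662 (tt N15072 F62311) (tt N21133 (iv F70202)) (tt N15071 (iv D29002)) (tt N19125 (iv F63425)) (tt N19123 F63419) (tt N18662 F62312) (tt N18717 (iv F62439)))
theorem Q18664 : ∀ i, i < 18664 → P i := stepQ 18663 Q18663 (allL N18663 (tt N19125 (iv F63423)) (tt N19699 (iv F65312)) (tt N21297 D31652) (tt N15072 (iv D29003)) (tt N18225 (iv F63094)) (tt N18663 F62313) (tt N18719 (iv F62441)))
theorem Q18665 : ∀ i, i < 18665 → P i := stepQ 18664 Q18664 (allL N18664 (tt N15075 F62314) (tt N21138 (iv F70211)) (tt N15074 (iv D29004)) (tt N18986 (iv F63106)) (tt N18984 F63100) (tt N18728 (iv F62476)) (tt N18664 F62315))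
theorem Q18666 : ∀ i, i < 18666 → P i := stepQ 18665 Q18665 (allL N18665 (tt N18986 (iv F63104)) (tt N19793 (iv F65595)) (tt N21298 D31653) (tt N15075 (iv D29005)) (tt N18200 F62487) (tt N18730 (iv F62484)) (tt N18665 F62316))
theorem Q18667 : ∀ i, i < 18667 → P i := stepQ 18666 Q18666 (allL N18666 (tt N15080 F62317) (tt N17522 F62318) (tt N18716 (iv F62433)) (tt N20621 (iv F68432)) (tt N15078 (iv D29006)) (tt N18716 (iv F62435)) (tt N18726 (iv F62467)))
theorem Q18668 : ∀ i, i < 18668 → P i := stepQ 18667 Q18667 (allL N18667 (tt N19716 F65363) (tt N15079 (iv D29007)) (tt N21138 (iv F70212)) (tt N18725 (iv F62463)) (tt N20832 (iv F69266)) (tt N21299 D31654) (tt N20970 (iv F69728)))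
theorem Q18669 : ∀ i, i < 18669 → P i := stepQ 18668 Q18668 (allL N18668 (tt N18726 (iv F62464)) (tt N19511 (iv F64687)) (tt N18724 (iv F62460)) (tt N19510 F64683) (tt N15081 F62319) (tt N15140 (iv F62320)) (tt N15080 (iv D29008)))
theorem Q18670 : ∀ i, i < 18670 → P i := stepQ 18669 Q18669 (allL N18669 (tt N20461 (iv F67876)) (tt N15081 (iv D29009)) (tt N20387 (iv F67612)) (tt N15082 F62321) (tt N19511 F64690) (tt N15176 F62322) (tt N15093 F62323))
theorem Q18671 : ∀ i, i < 18671 → P i := stepQ 18670 Q18670 (allL N18670 (tt N15082 (iv D29010)) (tt N20321 F67355) (tt N18675 (iv F62333)) (tt N20461 (iv F67879)) (tt N20833 (iv F69268)) (tt N15178 F62324) (tt N15095 F62325))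
theorem Q18672 : ∀ i, i < 18672 → P i := stepQ 18671 Q18671 (allL N18671 (tt N15085 F62326) (tt N17524 F62327) (tt N18727 (iv F62470)) (tt N20648 (iv F68522)) (tt N15083 (iv D29011)) (tt N18737 (iv F62505)) (tt N18727 (iv F62473)))
theorem Q18673 : ∀ i, i < 18673 → P i := stepQ 18672 Q18672 (allL N18672 (tt N19810 F65646) (tt N15084 (iv D29012)) (tt N21133 (iv F70203)) (tt N18736 (iv F62502)) (tt N20835 (iv F69276)) (tt N20996 (iv F69795)) (tt N21300 D31655))
theorem Q18674 : ∀ i, i < 18674 → P i := stepQ 18673 Q18673 (allL N18673 (tt N18737 (iv F62503)) (tt N19279 (iv F63880)) (tt N18735 (iv F62499)) (tt N19278 F63876) (tt N15086 F62328) (tt N15085 (iv D29013)) (tt N15147 (iv F62329)))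
theorem Q18675 : ∀ i, i < 18675 → P i := stepQ 18674 Q18674 (allL N18674 (tt N20519 (iv F68063)) (tt N15086 (iv D29014)) (tt N20426 (iv F67755)) (tt N15087 F62330) (tt N19279 F63883) (tt N15103 F62331) (tt N15210 F62332))
theorem Q18676 : ∀ i, i < 18676 → P i := stepQ 18675 Q18675 (allL N18675 (tt N15087 (iv D29015)) (tt N20301 (iv F67296)) (tt N18670 F62333) (tt N20519 (iv F68065)) (tt N20836 (iv F69279)) (tt N15105 F62334) (tt N15212 F62335))
theorem Q18677 : ∀ i, i < 18677 → P i := stepQ 18676 Q18676 (allL N18676 (tt N15092 F62336) (tt N21301 D31656) (tt N18092 F62337) (tt N20837 (iv F69283)) (tt N15089 F62338) (tt N18621 F62339) (tt N15088 (iv D29016)))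
theorem Q18678 : ∀ i, i < 18678 → P i := stepQ 18677 Q18677 (allL N18677 (tt N19849 (iv F65778)) (tt N15089 (iv D29017)) (tt N19848 (iv F65776)) (tt N15090 F62340) (tt N21301 (iv F70736)) (tt N21302 D31657) (tt N17630 F62341))
theorem Q18679 : ∀ i, i < 18679 → P i := stepQ 18678 Q18678 (allL N18678 (tt N15090 (iv D29018)) (tt N21201 (iv F70413)) (tt N16989 F62342) (tt N19849 (iv F65779)) (tt N20314 (iv F67335)) (tt N21303 D31658) (tt N20143 (iv F66810)))
theorem Q18680 : ∀ i, i < 18680 → P i := stepQ 18679 Q18679 (allL N18679 (tt N21303 (iv F70745)) (tt N18625 F62343) (tt N16990 F62344) (tt N21302 (iv F70742)) (tt N19675 F65248) (tt N15090 (iv D29019)) (tt N20259 (iv F67166)))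
theorem Q18681 : ∀ i, i < 18681 → P i := stepQ 18680 Q18680 (allL N18680 (tt N19752 F65478) (tt N15091 (iv D29020)) (tt N19964 F66193) (tt N18698 (iv F62368)) (tt N19754 (iv F65484)) (tt N21304 D31659) (tt N20912 (iv F69575)))
theorem Q18682 : ∀ i, i < 18682 → P i := stepQ 18681 Q18681 (allL N18681 (tt N21305 D31660) (tt N15092 (iv D29021)) (tt N19962 (iv F66184)) (tt N19513 (iv F64699)) (tt N15093 F62345) (tt N21306 D31661) (tt N19511 (iv F64691)))
theorem Q18683 : ∀ i, i < 18683 → P i := stepQ 18682 Q18682 (allL N18682 (tt N15093 (iv D29022)) (tt N21307 D31662) (tt N20463 (iv F67887)) (tt N15095 F62346) (tt N21305 (iv F70756)) (tt N18782 F62581) (tt N20461 F67881))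
theorem Q18684 : ∀ i, i < 18684 → P i := stepQ 18683 Q18683 (allL N18683 (tt N20463 (iv F67886)) (tt N19964 (iv F66191)) (tt N15093 (iv D29023)) (tt N19961 (iv F66179)) (tt N19962 (iv F66182)) (tt N21308 D31663) (tt N20387 (iv F67611)))
theorem Q18685 : ∀ i, i < 18685 → P i := stepQ 18684 Q18684 (allL N18684 (tt N18782 (iv F62579)) (tt N20875 (iv F69425)) (tt N21308 (iv F70764)) (tt N15096 F62347) (tt N21306 (iv F70760)) (tt N15093 (iv D29024)) (tt N18780 F62578))
theorem Q18686 : ∀ i, i < 18686 → P i := stepQ 18685 Q18685 (allL N18685 (tt N21309 D31664) (tt N15095 (iv D29025)) (tt N21310 D31665) (tt N21307 (iv F70762)) (tt N20840 (iv F69294)) (tt N21311 D31666) (tt N20320 (iv F67356)))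
theorem Q18687 : ∀ i, i < 18687 → P i := stepQ 18686 Q18686 (allL N18686 (tt N19064 (iv F63277)) (tt N18618 F62348) (tt N18644 F62349) (tt N15739 F62350) (tt N18767 (iv F62556)) (tt N18038 F62351) (tt N15097 (iv D29026)))
theorem Q18688 : ∀ i, i < 18688 → P i := stepQ 18687 Q18687 (allL N18687 (tt N15102 F62352) (tt N21312 D31667) (tt N18146 F62353) (tt N20841 (iv F69296)) (tt N15099 F62354) (tt N15098 (iv D29027)) (tt N18636 F62355))
theorem Q18689 : ∀ i, i < 18689 → P i := stepQ 18688 Q18688 (allL N18688 (tt N19757 (iv F65494)) (tt N15099 (iv D29028)) (tt N19756 (iv F65493)) (tt N15100 F62356) (tt N21312 (iv F70777)) (tt N17702 F62357) (tt N21313 D31668))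
theorem Q18690 : ∀ i, i < 18690 → P i := stepQ 18689 Q18689 (allL N18689 (tt N15100 (iv D29029)) (tt N21221 (iv F70475)) (tt N17014 F62358) (tt N19757 (iv F65495)) (tt N20294 (iv F67276)) (tt N20139 (iv F66797)) (tt N21314 D31669))
theorem Q18691 : ∀ i, i < 18691 → P i := stepQ 18690 Q18690 (allL N18690 (tt N21314 (iv F70786)) (tt N18640 F62359) (tt N17015 F62360) (tt N21313 (iv F70783)) (tt N19769 F65528) (tt N20247 (iv F67137)) (tt N15100 (iv D29030)))
theorem Q18692 : ∀ i, i < 18692 → P i := stepQ 18691 Q18691 (allL N18691 (tt N19847 F65773) (tt N15101 (iv D29031)) (tt N19954 F66152) (tt N18705 (iv F62393)) (tt N19851 (iv F65786)) (tt N20941 (iv F69653)) (tt N21315 D31670))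
theorem Q18693 : ∀ i, i < 18693 → P i := stepQ 18692 Q18692 (allL N18692 (tt N21316 D31671) (tt N15102 (iv D29032)) (tt N20009 (iv F66362)) (tt N19281 (iv F63892)) (tt N15103 F62361) (tt N19279 (iv F63884)) (tt N21317 D31672))
theorem Q18694 : ∀ i, i < 18694 → P i := stepQ 18693 Q18693 (allL N18693 (tt N15103 (iv D29033)) (tt N21318 D31673) (tt N20520 (iv F68070)) (tt N15105 F62362) (tt N21316 (iv F70797)) (tt N20519 F68067) (tt N18833 (iv F62673)))
theorem Q18695 : ∀ i, i < 18695 → P i := stepQ 18694 Q18694 (allL N18694 (tt N20520 (iv F68069)) (tt N19954 (iv F66150)) (tt N15103 (iv D29034)) (tt N19953 (iv F66148)) (tt N20009 (iv F66360)) (tt N20426 (iv F67753)) (tt N21319 D31674))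
theorem Q18696 : ∀ i, i < 18696 → P i := stepQ 18695 Q18695 (allL N18695 (tt N18833 (iv F62671)) (tt N20899 (iv F69523)) (tt N21319 (iv F70805)) (tt N15106 F62363) (tt N21317 (iv F70801)) (tt N18831 (iv F62670)) (tt N15103 (iv D29035)))
theorem Q18697 : ∀ i, i < 18697 → P i := stepQ 18696 Q18696 (allL N18696 (tt N21320 D31675) (tt N15105 (iv D29036)) (tt N21321 D31676) (tt N21318 (iv F70803)) (tt N20844 (iv F69307)) (tt N20300 (iv F67297)) (tt N21322 D31677))
theorem Q18698 : ∀ i, i < 18698 → P i := stepQ 18697 Q18697 (allL N18697 (tt N19201 (iv F63624)) (tt N18633 F62364) (tt N18629 F62365) (tt N15964 F62366) (tt N18816 (iv F62638)) (tt N15107 (iv D29037)) (tt N18066 F62367))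
theorem Q18699 : ∀ i, i < 18699 → P i := stepQ 18698 Q18698 (allL N18698 (tt N17101 (iv F62371)) (tt N15108 (iv D29038)) (tt N19974 (iv F66226)) (tt N18680 F62368) (tt N17414 F62369) (tt N19970 (iv F66214)) (tt N18528 F62370))
theorem Q18700 : ∀ i, i < 18700 → P i := stepQ 18699 Q18699 (allL N18699 (tt N17246 F62372) (tt N19974 (iv F66225)) (tt N15109 (iv D29039)) (tt N21323 D31678) (tt N16508 F62373) (tt N15567 F62374) (tt N16506 F62375))
theorem Q18701 : ∀ i, i < 18701 → P i := stepQ 18700 Q18700 (allL N18700 (tt N16083 F62376) (tt N15111 F62377) (tt N21324 D31679) (tt N15110 (iv D29040)) (tt N15690 F62378) (tt N15571 F62379) (tt N19276 (iv F63868)))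
theorem Q18702 : ∀ i, i < 18702 → P i := stepQ 18701 Q18701 (allL N18701 (tt N21325 D31680) (tt N15112 (iv D29041)) (tt N19560 (iv F64871)) (tt N15113 F62380) (tt N19239 (iv F63740)) (tt N19339 (iv F64115)) (tt N17338 F62381))
theorem Q18703 : ∀ i, i < 18703 → P i := stepQ 18702 Q18702 (allL N18702 (tt N15113 (iv D29042)) (tt N17294 F62382) (tt N17292 (iv F62386)) (tt N21325 (iv F70831)) (tt N16336 F62383) (tt N17077 F62384) (tt N16334 F62385))
theorem Q18704 : ∀ i, i < 18704 → P i := stepQ 18703 Q18703 (allL N18703 (tt N17292 F62387) (tt N15117 F62388) (tt N15113 (iv D29043)) (tt N21326 D31681) (tt N17465 F62389) (tt N19936 (iv F66086)) (tt N17339 F62390))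
theorem Q18705 : ∀ i, i < 18705 → P i := stepQ 18704 Q18704 (allL N18704 (tt N15221 F62391) (tt N21326 (iv F70836)) (tt N18846 (iv F62702)) (tt N15117 (iv D29044)) (tt N21327 D31682) (tt N20044 (iv F66459)) (tt N18704 F62392))
theorem Q18706 : ∀ i, i < 18706 → P i := stepQ 18705 Q18705 (allL N18705 (tt N17181 (iv F62396)) (tt N15120 (iv D29045)) (tt N19959 (iv F66167)) (tt N18691 F62393) (tt N17428 F62394) (tt N18530 F62395) (tt N19951 (iv F66142)))
theorem Q18707 : ∀ i, i < 18707 → P i := stepQ 18706 Q18706 (allL N18706 (tt N17321 F62397) (tt N19959 (iv F66166)) (tt N15121 (iv D29046)) (tt N21328 D31683) (tt N16387 F62398) (tt N16386 F62399) (tt N15806 F62400))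
theorem Q18708 : ∀ i, i < 18708 → P i := stepQ 18707 Q18707 (allL N18707 (tt N16007 F62401) (tt N15123 F62402) (tt N21329 D31684) (tt N15122 (iv D29047)) (tt N15920 F62403) (tt N19509 (iv F64680)) (tt N15810 F62404))
theorem Q18709 : ∀ i, i < 18709 → P i := stepQ 18708 Q18708 (allL N18708 (tt N21330 D31685) (tt N15124 (iv D29048)) (tt N19340 (iv F64117)) (tt N15125 F62405) (tt N19473 (iv F64547)) (tt N17366 F62406) (tt N19336 (iv F64102)))
theorem Q18710 : ∀ i, i < 18710 → P i := stepQ 18709 Q18709 (allL N18709 (tt N15125 (iv D29049)) (tt N17218 F62407) (tt N17216 (iv F62411)) (tt N21330 (iv F70856)) (tt N16478 F62408) (tt N16477 F62409) (tt N17163 F62410))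
theorem Q18711 : ∀ i, i < 18711 → P i := stepQ 18710 Q18710 (allL N18710 (tt N17216 F62412) (tt N15129 F62413) (tt N15125 (iv D29050)) (tt N21331 D31686) (tt N17440 F62414) (tt N17367 F62415) (tt N19995 (iv F66309)))
theorem Q18712 : ∀ i, i < 18712 → P i := stepQ 18711 Q18711 (allL N18711 (tt N15274 F62416) (tt N21331 (iv F70861)) (tt N18901 (iv F62849)) (tt N15129 (iv D29051)) (tt N21332 D31687) (tt N18711 F62417) (tt N20024 (iv F66410)))
theorem Q18713 : ∀ i, i < 18713 → P i := stepQ 18712 Q18712 (allL N18712 (tt N15132 (iv D29052)) (tt N18714 (iv F62424)) (tt N21333 D31688) (tt N15135 F62418) (tt N18712 F62419) (tt N15132 F62421) (tt N18658 F62420))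
theorem Q18714 : ∀ i, i < 18714 → P i := stepQ 18713 Q18713 (allL N18713 (tt N21333 (iv F70870)) (tt N21295 (iv F70714)) (tt N15132 (iv D29053)) (tt N21334 D31689) (tt N18713 F62422) (tt N21333 (iv F70872)) (tt N18659 F62423))
theorem Q18715 : ∀ i, i < 18715 → P i := stepQ 18714 Q18714 (allL N18714 (tt N15133 (iv D29054)) (tt N18712 F62424) (tt N21335 D31690) (tt N15142 F62425) (tt N18714 F62426) (tt N18660 F62427) (tt N15133 F62428))
theorem Q18716 : ∀ i, i < 18716 → P i := stepQ 18715 Q18715 (allL N18715 (tt N21335 (iv F70876)) (tt N21293 (iv F70707)) (tt N15133 (iv D29055)) (tt N21336 D31691) (tt N18715 F62429) (tt N18661 F62430) (tt N21335 (iv F70879)))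
theorem Q18717 : ∀ i, i < 18717 → P i := stepQ 18716 Q18716 (allL N18716 (tt N18081 F62431) (tt N17021 F62432) (tt N18666 F62433) (tt N18093 F62434) (tt N15134 (iv D29056)) (tt N18666 F62435) (tt N15140 F62436))
theorem Q18718 : ∀ i, i < 18718 → P i := stepQ 18717 Q18717 (allL N18717 (tt N15136 F62437) (tt N18389 F62451) (tt N15135 (iv D29057)) (tt N18390 (iv F62452)) (tt N20847 (iv F69315)) (tt N15136 F62438) (tt N18662 F62439))
theorem Q18719 : ∀ i, i < 18719 → P i := stepQ 18718 Q18718 (allL N18718 (tt N21337 D31692) (tt N15136 (iv D29058)) (tt N15137 F62440) (tt N16050 F62445) (tt N20848 (iv F69320)) (tt N16049 (iv F62447)) (tt N21338 D31693))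
theorem Q18720 : ∀ i, i < 18720 → P i := stepQ 18719 Q18719 (allL N18719 (tt N18390 F62453) (tt N16050 (iv F62446)) (tt N19444 (iv F64455)) (tt N15136 (iv D29059)) (tt N16052 (iv F62455)) (tt N18390 F62454) (tt N18663 F62441))
theorem Q18721 : ∀ i, i < 18721 → P i := stepQ 18720 Q18720 (allL N18720 (tt N15137 (iv D29060)) (tt N18047 F62442) (tt N21337 (iv F70883)) (tt N17104 (iv F62448)) (tt N18785 (iv F62584)) (tt N20033 (iv F66432)) (tt N18048 (iv F62443)))
theorem Q18722 : ∀ i, i < 18722 → P i := stepQ 18721 Q18721 (allL N18721 (tt N17104 F62450) (tt N15138 F62444) (tt N17103 (iv F62449)) (tt N15137 (iv D29061)) (tt N21339 D31694) (tt N20027 (iv F66418)) (tt N21340 D31695))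
theorem Q18723 : ∀ i, i < 18723 → P i := stepQ 18722 Q18722 (allL N18722 (tt N20033 (iv F66430)) (tt N21299 (iv F70730)) (tt N16049 F62456) (tt N20027 (iv F66419)) (tt N20851 (iv F69331)) (tt N15137 (iv D29062)) (tt N20884 (iv F69465)))
theorem Q18724 : ∀ i, i < 18724 → P i := stepQ 18723 Q18723 (allL N18723 (tt N18048 F62457) (tt N16874 F62458) (tt N21338 (iv F70890)) (tt N21340 (iv F70899)) (tt N18786 (iv F62586)) (tt N21341 D31696) (tt N15137 (iv D29063)))
theorem Q18725 : ∀ i, i < 18725 → P i := stepQ 18724 Q18724 (allL N18724 (tt N15140 F62459) (tt N21339 (iv F70893)) (tt N18668 F62460) (tt N20853 (iv F69339)) (tt N15138 (iv D29064)) (tt N18726 (iv F62466)) (tt N18081 F62461))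
theorem Q18726 : ∀ i, i < 18726 → P i := stepQ 18725 Q18725 (allL N18725 (tt N19670 F65238) (tt N15139 (iv D29065)) (tt N15172 F62462) (tt N18667 F62463) (tt N21342 D31697) (tt N21343 D31698) (tt N21017 (iv F69850)))
theorem Q18727 : ∀ i, i < 18727 → P i := stepQ 18726 Q18726 (allL N18726 (tt N18668 F62464) (tt N21342 (iv F70905)) (tt N15140 F62465) (tt N21344 D31699) (tt N15139 (iv D29066)) (tt N18724 F62466) (tt N18666 F62467))
theorem Q18728 : ∀ i, i < 18728 → P i := stepQ 18727 Q18727 (allL N18727 (tt N18135 F62468) (tt N17112 F62469) (tt N18671 F62470) (tt N18147 F62471) (tt N15141 (iv D29067)) (tt N15147 F62472) (tt N18671 F62473))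
theorem Q18729 : ∀ i, i < 18729 → P i := stepQ 18728 Q18728 (allL N18728 (tt N15143 F62474) (tt N18451 F62475) (tt N15142 (iv D29068)) (tt N18452 (iv F62478)) (tt N20854 (iv F69342)) (tt N18664 F62476) (tt N15143 F62477))
theorem Q18730 : ∀ i, i < 18730 → P i := stepQ 18729 Q18729 (allL N18729 (tt N21345 D31700) (tt N15143 (iv D29069)) (tt N15144 F62479) (tt N16127 (iv F62481)) (tt N20855 (iv F69347)) (tt N21346 D31701) (tt N16125 F62480))
theorem Q18731 : ∀ i, i < 18731 → P i := stepQ 18730 Q18730 (allL N18730 (tt N18452 F62482) (tt N16127 F62483) (tt N19646 (iv F65155)) (tt N15143 (iv D29070)) (tt N16130 (iv F62486)) (tt N18665 F62484) (tt N18452 F62485))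
theorem Q18732 : ∀ i, i < 18732 → P i := stepQ 18731 Q18731 (allL N18731 (tt N15144 (iv D29071)) (tt N18076 F62489) (tt N21345 (iv F70917)) (tt N17184 (iv F62490)) (tt N18836 (iv F62676)) (tt N18077 (iv F62491)) (tt N20053 (iv F66482)))
theorem Q18733 : ∀ i, i < 18733 → P i := stepQ 18732 Q18732 (allL N18732 (tt N17184 F62492) (tt N15145 F62493) (tt N17183 F62494) (tt N15144 (iv D29072)) (tt N21347 D31702) (tt N21348 D31703) (tt N20047 (iv F66468)))
theorem Q18734 : ∀ i, i < 18734 → P i := stepQ 18733 Q18733 (allL N18733 (tt N18077 F62495) (tt N16881 F62496) (tt N21346 (iv F70924)) (tt N21348 (iv F70933)) (tt N18837 (iv F62678)) (tt N15144 (iv D29073)) (tt N21349 D31704))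
theorem Q18735 : ∀ i, i < 18735 → P i := stepQ 18734 Q18734 (allL N18734 (tt N20053 (iv F66480)) (tt N21300 (iv F70733)) (tt N16125 F62497) (tt N20047 (iv F66469)) (tt N20858 (iv F69358)) (tt N20908 (iv F69563)) (tt N15144 (iv D29074)))
theorem Q18736 : ∀ i, i < 18736 → P i := stepQ 18735 Q18735 (allL N18735 (tt N15147 F62498) (tt N21347 (iv F70927)) (tt N18673 F62499) (tt N20860 (iv F69366)) (tt N15145 (iv D29075)) (tt N18135 F62500) (tt N18737 (iv F62506)))
theorem Q18737 : ∀ i, i < 18737 → P i := stepQ 18736 Q18736 (allL N18736 (tt N19764 F65518) (tt N15146 (iv D29076)) (tt N15206 F62501) (tt N18672 F62502) (tt N21350 D31705) (tt N21056 (iv F69973)) (tt N21351 D31706))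
theorem Q18738 : ∀ i, i < 18738 → P i := stepQ 18737 Q18737 (allL N18737 (tt N18673 F62503) (tt N21350 (iv F70939)) (tt N15147 F62504) (tt N21352 D31707) (tt N15146 (iv D29077)) (tt N18671 F62505) (tt N18735 F62506))
theorem Q18739 : ∀ i, i < 18739 → P i := stepQ 18738 Q18738 (allL N18738 (tt N21353 D31708) (tt N15148 (iv D29078)) (tt N20891 (iv F69485)) (tt N17570 F62507) (tt N20865 (iv F69383)) (tt N21354 D31709) (tt N20236 (iv F67114)))
theorem Q18740 : ∀ i, i < 18740 → P i := stepQ 18739 Q18739 (allL N18739 (tt N15149 (iv D29079)) (tt N19678 F65257) (tt N19037 (iv F63224)) (tt N17644 F62508) (tt N20866 (iv F69385)) (tt N20873 (iv F69418)) (tt N18255 F62509))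
theorem Q18741 : ∀ i, i < 18741 → P i := stepQ 18740 Q18740 (allL N18740 (tt N20873 (iv F69415)) (tt N18745 (iv F62521)) (tt N18266 F62510) (tt N17645 F62511) (tt N20867 (iv F69388)) (tt N15149 (iv D29080)) (tt N20872 F69414))
theorem Q18742 : ∀ i, i < 18742 → P i := stepQ 18741 Q18741 (allL N18741 (tt N18747 (iv F62526)) (tt N15150 (iv D29081)) (tt N19164 (iv F63522)) (tt N17646 F62512) (tt N19522 (iv F64731)) (tt N18745 (iv F62522)) (tt N19521 F64726))
theorem Q18743 : ∀ i, i < 18743 → P i := stepQ 18742 Q18742 (allL N18742 (tt N20984 (iv F69756)) (tt N21355 D31710) (tt N15152 (iv D29082)) (tt N21356 D31711) (tt N18204 F62513) (tt N20985 (iv F69763)) (tt N15330 F62514))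
theorem Q18744 : ∀ i, i < 18744 → P i := stepQ 18743 Q18743 (allL N18743 (tt N20879 (iv F69442)) (tt N15153 (iv D29083)) (tt N21355 (iv F70957)) (tt N21195 (iv F70391)) (tt N18099 F62515) (tt N21357 D31712) (tt N19301 (iv F63954)))
theorem Q18745 : ∀ i, i < 18745 → P i := stepQ 18744 Q18744 (allL N18744 (tt N15470 F62516) (tt N21358 D31713) (tt N15156 F62517) (tt N20735 (iv F68855)) (tt N18645 F62518) (tt N15467 F62519) (tt N15155 (iv D29084)))
theorem Q18746 : ∀ i, i < 18746 → P i := stepQ 18745 Q18745 (allL N18745 (tt N15157 (iv D29085)) (tt N18740 F62521) (tt N20732 (iv F68839)) (tt N17922 (iv F62520)) (tt N20868 (iv F69393)) (tt N18741 F62522) (tt N21154 (iv F70269)))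
theorem Q18747 : ∀ i, i < 18747 → P i := stepQ 18746 Q18746 (allL N18746 (tt N17922 F62523) (tt N15158 F62524) (tt N17916 F62525) (tt N15157 (iv D29086)) (tt N20797 (iv F69090)) (tt N20685 (iv F68647)) (tt N21153 (iv F70263)))
theorem Q18748 : ∀ i, i < 18748 → P i := stepQ 18747 Q18747 (allL N18747 (tt N18741 F62526) (tt N18788 (iv F62591)) (tt N19114 (iv F63383)) (tt N20685 (iv F68646)) (tt N19113 (iv F63381)) (tt N15157 (iv D29087)) (tt N19112 F63382))
theorem Q18749 : ∀ i, i < 18749 → P i := stepQ 18748 Q18748 (allL N18748 (tt N21154 (iv F70266)) (tt N15168 F62527) (tt N20738 (iv F68867)) (tt N21153 (iv F70264)) (tt N19483 F64588) (tt N19521 (iv F64725)) (tt N15157 (iv D29088)))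
theorem Q18750 : ∀ i, i < 18750 → P i := stepQ 18749 Q18749 (allL N18749 (tt N15160 F62528) (tt N20797 F69091) (tt N18858 (iv F62730)) (tt N20869 (iv F69398)) (tt N15158 (iv D29089)) (tt N18779 (iv F62576)) (tt N15169 F62529))
theorem Q18751 : ∀ i, i < 18751 → P i := stepQ 18750 Q18750 (allL N18750 (tt N21129 (iv F70192)) (tt N15159 (iv D29090)) (tt N17024 F62530) (tt N18855 (iv F62720)) (tt N21143 (iv F70231)) (tt N21359 D31714) (tt N21360 D31715))
theorem Q18752 : ∀ i, i < 18752 → P i := stepQ 18751 Q18751 (allL N18751 (tt N18858 (iv F62729)) (tt N21143 (iv F70230)) (tt N15160 F62531) (tt N20194 (iv F66975)) (tt N15159 (iv D29091)) (tt N21361 D31716) (tt N15173 F62532))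
theorem Q18753 : ∀ i, i < 18753 → P i := stepQ 18752 Q18752 (allL N18752 (tt N18777 (iv F62569)) (tt N21362 D31717) (tt N15161 F62533) (tt N15260 F62534) (tt N21361 (iv F70979)) (tt N15159 (iv D29092)) (tt N15256 F62535))
theorem Q18754 : ∀ i, i < 18754 → P i := stepQ 18753 Q18753 (allL N18753 (tt N18779 (iv F62574)) (tt N21034 (iv F69908)) (tt N21361 (iv F70978)) (tt N20871 (iv F69407)) (tt N15161 F62536) (tt N15160 (iv D29093)) (tt N18768 (iv F62562)))
theorem Q18755 : ∀ i, i < 18755 → P i := stepQ 18754 Q18754 (allL N18754 (tt N21363 D31718) (tt N15161 (iv D29094)) (tt N21364 D31719) (tt N15162 F62537) (tt N21034 (iv F69910)) (tt N21029 (iv F69894)) (tt N20925 (iv F69604)))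
theorem Q18756 : ∀ i, i < 18756 → P i := stepQ 18755 Q18755 (allL N18755 (tt N15162 (iv D29095)) (tt N21365 D31720) (tt N18977 (iv F63053)) (tt N21363 (iv F70982)) (tt N20872 (iv F69412)) (tt N21030 (iv F69898)) (tt N20867 (iv F69389)))
theorem Q18757 : ∀ i, i < 18757 → P i := stepQ 18756 Q18756 (allL N18756 (tt N20867 (iv F69387)) (tt N18771 (iv F62564)) (tt N18978 (iv F63055)) (tt N20925 (iv F69603)) (tt N20873 (iv F69417)) (tt N20866 (iv F69386)) (tt N15162 (iv D29096)))
theorem Q18758 : ∀ i, i < 18758 → P i := stepQ 18757 Q18757 (allL N18757 (tt N15163 (iv D29097)) (tt N21345 (iv F70916)) (tt N15165 F62538) (tt N17751 F62539) (tt N18641 F62540) (tt N15487 F62541) (tt N21366 D31721))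
theorem Q18759 : ∀ i, i < 18759 → P i := stepQ 18758 Q18758 (allL N18758 (tt N15487 F62542) (tt N20995 (iv F69789)) (tt N15167 F62543) (tt N17753 F62544) (tt N18643 F62545) (tt N15163 (iv D29098)) (tt N19065 (iv F63282)))
theorem Q18760 : ∀ i, i < 18760 → P i := stepQ 18759 Q18759 (allL N18759 (tt N21366 (iv F70989)) (tt N21367 D31722) (tt N15168 F62546) (tt N17754 F62547) (tt N20874 (iv F69422)) (tt N19169 (iv F63543)) (tt N15163 (iv D29099)))
theorem Q18761 : ∀ i, i < 18761 → P i := stepQ 18760 Q18760 (allL N18760 (tt N18760 F63061) (tt N15164 (iv D29100)) (tt N21358 (iv F70968)) (tt N17757 F62548) (tt N19091 (iv F63338)) (tt N21358 (iv F70971)) (tt N21367 (iv F70995)))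
theorem Q18762 : ∀ i, i < 18762 → P i := stepQ 18761 Q18761 (allL N18761 (tt N15168 F62549) (tt N21103 F70126) (tt N21366 (iv F70990)) (tt N19866 (iv F65834)) (tt N20876 (iv F69433)) (tt N18766 (iv F62554)) (tt N15165 (iv D29101)))
theorem Q18763 : ∀ i, i < 18763 → P i := stepQ 18762 Q18762 (allL N18762 (tt N19864 (iv F65824)) (tt N15169 F62550) (tt N19404 (iv F64302)) (tt N20486 (iv F67944)) (tt N15166 (iv D29102)) (tt N21290 (iv F70699)) (tt N21368 D31723))
theorem Q18764 : ∀ i, i < 18764 → P i := stepQ 18763 Q18763 (allL N18763 (tt N19865 (iv F65827)) (tt N20929 F69612) (tt N19860 (iv F65819)) (tt N15167 F62551) (tt N21290 (iv F70698)) (tt N15166 (iv D29103)) (tt N21369 D31724))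
theorem Q18765 : ∀ i, i < 18765 → P i := stepQ 18764 Q18764 (allL N18764 (tt N19866 (iv F65831)) (tt N21153 F70265) (tt N19861 (iv F65822)) (tt N15168 F62552) (tt N21368 (iv F70997)) (tt N21370 D31725) (tt N15166 (iv D29104)))
theorem Q18766 : ∀ i, i < 18766 → P i := stepQ 18765 Q18765 (allL N18765 (tt N21371 D31726) (tt N15167 (iv D29105)) (tt N20903 (iv F69542)) (tt N20929 (iv F69610)) (tt N20877 (iv F69437)) (tt N15171 F62553) (tt N20920 (iv F69595)))
theorem Q18767 : ∀ i, i < 18767 → P i := stepQ 18766 Q18766 (allL N18766 (tt N18767 (iv F62555)) (tt N20983 (iv F69754)) (tt N19065 (iv F63281)) (tt N21369 (iv F71000)) (tt N19064 F63280) (tt N18761 F62554) (tt N15167 (iv D29106)))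
theorem Q18768 : ∀ i, i < 18768 → P i := stepQ 18767 Q18767 (allL N18767 (tt N18766 F62555) (tt N18002 F62558) (tt N19169 (iv F63541)) (tt N21370 (iv F71005)) (tt N18686 F62556) (tt N15168 (iv D29107)) (tt N17991 F62557))
theorem Q18769 : ∀ i, i < 18769 → P i := stepQ 18768 Q18768 (allL N18768 (tt N15175 F62559) (tt N21372 D31727) (tt N18880 (iv F62792)) (tt N18502 F62560) (tt N15170 F62561) (tt N15169 (iv D29108)) (tt N18753 F62562))
theorem Q18770 : ∀ i, i < 18770 → P i := stepQ 18769 Q18769 (allL N18769 (tt N18097 F63961) (tt N15170 (iv D29109)) (tt N21373 D31728) (tt N15171 F62563) (tt N21372 (iv F71013)) (tt N20929 (iv F69611)) (tt N18102 (iv F63962)))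
theorem Q18771 : ∀ i, i < 18771 → P i := stepQ 18770 Q18770 (allL N18770 (tt N15171 (iv D29110)) (tt N18095 F63957) (tt N19529 (iv F64747)) (tt N18097 (iv F63960)) (tt N19301 (iv F63956)) (tt N21371 (iv F71011)) (tt N18099 F63958))
theorem Q18772 : ∀ i, i < 18772 → P i := stepQ 18771 Q18771 (allL N18771 (tt N18099 (iv F63959)) (tt N18756 F62564) (tt N20901 (iv F69533)) (tt N18102 F63963) (tt N20879 (iv F69445)) (tt N21374 D31729) (tt N15171 (iv D29111)))
theorem Q18773 : ∀ i, i < 18773 → P i := stepQ 18772 Q18772 (allL N18772 (tt N20480 (iv F67930)) (tt N15173 F62565) (tt N21342 (iv F70906)) (tt N17198 F62566) (tt N15172 (iv D29112)) (tt N21375 D31730) (tt N21376 D31731))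
theorem Q18774 : ∀ i, i < 18774 → P i := stepQ 18773 Q18773 (allL N18773 (tt N20481 (iv F67933)) (tt N21377 D31732) (tt N21343 (iv F70908)) (tt N18871 (iv F62763)) (tt N21375 (iv F71023)) (tt N15172 (iv D29113)) (tt N20542 F68132))
theorem Q18775 : ∀ i, i < 18775 → P i := stepQ 18774 Q18774 (allL N18774 (tt N20482 (iv F67934)) (tt N21360 (iv F70975)) (tt N21017 F69851) (tt N18872 (iv F62764)) (tt N21376 (iv F71026)) (tt N21378 D31733) (tt N15172 (iv D29114)))
theorem Q18776 : ∀ i, i < 18776 → P i := stepQ 18775 Q18775 (allL N18775 (tt N18880 (iv F62791)) (tt N21379 D31734) (tt N15175 F62567) (tt N20189 (iv F66955)) (tt N15174 F62568) (tt N15173 (iv D29115)) (tt N21380 D31735))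
theorem Q18777 : ∀ i, i < 18777 → P i := stepQ 18776 Q18776 (allL N18776 (tt N21377 (iv F71031)) (tt N15174 (iv D29116)) (tt N18899 (iv F62839)) (tt N18874 (iv F62770)) (tt N21379 (iv F71034)) (tt N21377 (iv F71029)) (tt N18892 (iv F62818)))
theorem Q18778 : ∀ i, i < 18778 → P i := stepQ 18777 Q18777 (allL N18777 (tt N18752 F62569) (tt N21381 D31736) (tt N15177 F62570) (tt N15236 F62571) (tt N21380 (iv F71037)) (tt N15234 F62572) (tt N15174 (iv D29117)))
theorem Q18779 : ∀ i, i < 18779 → P i := stepQ 18778 Q18778 (allL N18778 (tt N21382 D31737) (tt N15175 (iv D29118)) (tt N21383 D31738) (tt N19498 F64648) (tt N15176 F62573) (tt N19511 (iv F64689)) (tt N21384 D31739))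
theorem Q18780 : ∀ i, i < 18780 → P i := stepQ 18779 Q18779 (allL N18779 (tt N18753 F62574) (tt N21385 D31740) (tt N21380 (iv F71036)) (tt N20882 (iv F69456)) (tt N15177 F62575) (tt N18749 F62576) (tt N15175 (iv D29119)))
theorem Q18781 : ∀ i, i < 18781 → P i := stepQ 18780 Q18780 (allL N18780 (tt N15176 (iv D29120)) (tt N21386 D31741) (tt N20462 (iv F67883)) (tt N15178 F62577) (tt N21382 (iv F71041)) (tt N20461 F67880) (tt N18684 (iv F62578)))
theorem Q18782 : ∀ i, i < 18782 → P i := stepQ 18781 Q18781 (allL N18781 (tt N20462 (iv F67882)) (tt N18899 F62841) (tt N15176 (iv D29121)) (tt N18900 (iv F62843)) (tt N21383 (iv F71046)) (tt N20387 (iv F67610)) (tt N21387 D31742))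
theorem Q18783 : ∀ i, i < 18783 → P i := stepQ 18782 Q18782 (allL N18782 (tt N18684 F62579) (tt N21388 D31743) (tt N21387 (iv F71061)) (tt N15179 F62580) (tt N21384 (iv F71053)) (tt N18682 (iv F62581)) (tt N15176 (iv D29122)))
theorem Q18784 : ∀ i, i < 18784 → P i := stepQ 18783 Q18783 (allL N18783 (tt N21389 D31744) (tt N15177 (iv D29123)) (tt N21390 D31745) (tt N15180 F62582) (tt N21385 (iv F71055)) (tt N21391 D31746) (tt N21388 (iv F71067)))
theorem Q18785 : ∀ i, i < 18785 → P i := stepQ 18784 Q18784 (allL N18784 (tt N21200 (iv F70409)) (tt N15178 (iv D29124)) (tt N21392 D31747) (tt N21386 (iv F71057)) (tt N20883 (iv F69461)) (tt N21393 D31748) (tt N21394 D31749))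
theorem Q18786 : ∀ i, i < 18786 → P i := stepQ 18785 Q18785 (allL N18785 (tt N18010 F62583) (tt N15179 (iv D29125)) (tt N21269 (iv F70641)) (tt N21388 (iv F71066)) (tt N18720 F62584) (tt N21395 D31750) (tt N15180 F62585))
theorem Q18787 : ∀ i, i < 18787 → P i := stepQ 18786 Q18786 (allL N18786 (tt N15180 (iv D29126)) (tt N17881 (iv F62588)) (tt N21396 D31751) (tt N21389 (iv F71068)) (tt N18723 F62586) (tt N21397 D31752) (tt N18010 F62587))
theorem Q18788 : ∀ i, i < 18788 → P i := stepQ 18787 Q18787 (allL N18787 (tt N21396 (iv F71087)) (tt N15181 F62589) (tt N15180 (iv D29127)) (tt N16933 (iv F62590)) (tt N19034 (iv F63218)) (tt N21398 D31753) (tt N21269 (iv F70640)))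
theorem Q18789 : ∀ i, i < 18789 → P i := stepQ 18788 Q18788 (allL N18788 (tt N21397 (iv F71092)) (tt N18747 F62591) (tt N21398 (iv F71095)) (tt N21391 (iv F71072)) (tt N20884 (iv F69464)) (tt N15180 (iv D29128)) (tt N20851 (iv F69332)))
theorem Q18790 : ∀ i, i < 18790 → P i := stepQ 18789 Q18789 (allL N18789 (tt N15182 (iv D29129)) (tt N19772 F65537) (tt N19174 (iv F63554)) (tt N17716 F62592) (tt N20889 (iv F69480)) (tt N18312 F62593) (tt N20897 (iv F69516)))
theorem Q18791 : ∀ i, i < 18791 → P i := stepQ 18790 Q18790 (allL N18790 (tt N20897 (iv F69513)) (tt N18796 (iv F62606)) (tt N18323 F62594) (tt N17717 F62595) (tt N20890 (iv F69483)) (tt N20896 (iv F69512)) (tt N15182 (iv D29130)))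
theorem Q18792 : ∀ i, i < 18792 → P i := stepQ 18791 Q18791 (allL N18791 (tt N18799 (iv F62612)) (tt N15183 (iv D29131)) (tt N19027 (iv F63194)) (tt N17718 F62596) (tt N19294 (iv F63937)) (tt N19293 F63932) (tt N18796 (iv F62607)))
theorem Q18793 : ∀ i, i < 18793 → P i := stepQ 18792 Q18792 (allL N18792 (tt N21399 D31754) (tt N15184 (iv D29132)) (tt N20865 (iv F69382)) (tt N17598 F62597) (tt N20891 (iv F69486)) (tt N20248 (iv F67139)) (tt N21400 D31755))
theorem Q18794 : ∀ i, i < 18794 → P i := stepQ 18793 Q18793 (allL N18793 (tt N21010 (iv F69823)) (tt N21371 (iv F71007)) (tt N15186 (iv D29133)) (tt N21401 D31756) (tt N18229 F62598) (tt N15435 F62599) (tt N21011 (iv F69830)))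
theorem Q18795 : ∀ i, i < 18795 → P i := stepQ 18794 Q18794 (allL N18794 (tt N20903 (iv F69540)) (tt N15187 (iv D29134)) (tt N21371 (iv F71008)) (tt N21215 (iv F70451)) (tt N18153 F62600) (tt N19529 (iv F64750)) (tt N21402 D31757))
theorem Q18796 : ∀ i, i < 18796 → P i := stepQ 18795 Q18795 (allL N18795 (tt N15367 F62601) (tt N21403 D31758) (tt N15190 F62602) (tt N20702 (iv F68722)) (tt N18630 F62603) (tt N15189 (iv D29135)) (tt N15363 F62604))
theorem Q18797 : ∀ i, i < 18797 → P i := stepQ 18796 Q18796 (allL N18796 (tt N15191 (iv D29136)) (tt N18790 F62606) (tt N20699 (iv F68706)) (tt N17900 (iv F62605)) (tt N20892 (iv F69491)) (tt N21101 (iv F70119)) (tt N18791 F62607))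
theorem Q18798 : ∀ i, i < 18798 → P i := stepQ 18797 Q18797 (allL N18797 (tt N17900 F62608) (tt N15192 F62609) (tt N17894 F62610) (tt N15191 (iv D29137)) (tt N20793 (iv F69077)) (tt N21100 (iv F70108)) (tt N20722 (iv F68796)))
theorem Q18799 : ∀ i, i < 18799 → P i := stepQ 18798 Q18798 (allL N18798 (tt N21101 (iv F70117)) (tt N15201 F62611) (tt N20705 (iv F68734)) (tt N21100 (iv F70110)) (tt N19249 (iv F63778)) (tt N15191 (iv D29138)) (tt N19293 (iv F63931)))
theorem Q18800 : ∀ i, i < 18800 → P i := stepQ 18799 Q18799 (allL N18799 (tt N18791 F62612) (tt N18839 (iv F62683)) (tt N18975 (iv F63047)) (tt N20722 (iv F68795)) (tt N18974 (iv F63045)) (tt N18973 F63046) (tt N15191 (iv D29139)))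
theorem Q18801 : ∀ i, i < 18801 → P i := stepQ 18800 Q18800 (allL N18800 (tt N15194 F62613) (tt N20793 F69078) (tt N18913 (iv F62883)) (tt N20893 (iv F69496)) (tt N15192 (iv D29140)) (tt N15203 F62614) (tt N18830 (iv F62668)))
theorem Q18802 : ∀ i, i < 18802 → P i := stepQ 18801 Q18801 (allL N18801 (tt N21182 (iv F70352)) (tt N15193 (iv D29141)) (tt N17114 F62615) (tt N18910 (iv F62873)) (tt N21192 (iv F70381)) (tt N21404 D31759) (tt N21405 D31760))
theorem Q18803 : ∀ i, i < 18803 → P i := stepQ 18802 Q18802 (allL N18802 (tt N18913 (iv F62882)) (tt N21192 (iv F70380)) (tt N15194 F62616) (tt N20177 (iv F66919)) (tt N15193 (iv D29142)) (tt N15207 F62617) (tt N21406 D31761))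
theorem Q18804 : ∀ i, i < 18804 → P i := stepQ 18803 Q18803 (allL N18803 (tt N18828 (iv F62661)) (tt N21407 D31762) (tt N15195 F62618) (tt N15313 F62619) (tt N21406 (iv F71124)) (tt N15309 F62620) (tt N15193 (iv D29143)))
theorem Q18805 : ∀ i, i < 18805 → P i := stepQ 18804 Q18804 (allL N18804 (tt N18830 (iv F62666)) (tt N21071 (iv F70029)) (tt N21406 (iv F71123)) (tt N20895 (iv F69505)) (tt N15195 F62621) (tt N18819 (iv F62647)) (tt N15194 (iv D29144)))
theorem Q18806 : ∀ i, i < 18806 → P i := stepQ 18805 Q18805 (allL N18805 (tt N21408 D31763) (tt N15195 (iv D29145)) (tt N21409 D31764) (tt N15196 F62622) (tt N21071 (iv F70031)) (tt N20954 (iv F69682)) (tt N21066 (iv F70008)))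
theorem Q18807 : ∀ i, i < 18807 → P i := stepQ 18806 Q18806 (allL N18806 (tt N15196 (iv D29146)) (tt N21410 D31765) (tt N19116 (iv F63389)) (tt N21408 (iv F71127)) (tt N20896 (iv F69510)) (tt N20890 F69484) (tt N21067 (iv F70015)))
theorem Q18808 : ∀ i, i < 18808 → P i := stepQ 18807 Q18807 (allL N18807 (tt N20890 (iv F69482)) (tt N18822 (iv F62649)) (tt N19117 (iv F63391)) (tt N20954 (iv F69681)) (tt N20897 (iv F69515)) (tt N15196 (iv D29147)) (tt N20889 F69481))
theorem Q18809 : ∀ i, i < 18809 → P i := stepQ 18808 Q18808 (allL N18808 (tt N15197 (iv D29148)) (tt N21337 (iv F70882)) (tt N15199 F62623) (tt N17683 F62624) (tt N18626 F62625) (tt N21411 D31766) (tt N15383 (iv F62626)))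
theorem Q18810 : ∀ i, i < 18810 → P i := stepQ 18809 Q18809 (allL N18809 (tt N21411 (iv F71134)) (tt N21412 D31767) (tt N15201 F62627) (tt N17685 F62628) (tt N20898 (iv F69520)) (tt N15197 (iv D29149)) (tt N19032 (iv F63213)))
theorem Q18811 : ∀ i, i < 18811 → P i := stepQ 18810 Q18810 (allL N18810 (tt N15383 F62629) (tt N20969 (iv F69722)) (tt N15202 F62630) (tt N17686 F62631) (tt N18628 F62632) (tt N19202 (iv F63631)) (tt N15197 (iv D29150)))
theorem Q18812 : ∀ i, i < 18812 → P i := stepQ 18811 Q18811 (allL N18811 (tt N18811 F62999) (tt N15198 (iv D29151)) (tt N21403 (iv F71113)) (tt N17689 F62633) (tt N18951 (iv F62998)) (tt N21412 (iv F71140)) (tt N21403 (iv F71116)))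
theorem Q18813 : ∀ i, i < 18813 → P i := stepQ 18812 Q18812 (allL N18812 (tt N15201 F62634) (tt N21156 F70275) (tt N21411 (iv F71135)) (tt N19883 (iv F65885)) (tt N20900 (iv F69531)) (tt N15199 (iv D29152)) (tt N18818 (iv F62643)))
theorem Q18814 : ∀ i, i < 18814 → P i := stepQ 18813 Q18813 (allL N18813 (tt N19882 (iv F65879)) (tt N15203 F62635) (tt N19609 (iv F65039)) (tt N20428 (iv F67761)) (tt N15200 (iv D29153)) (tt N21413 D31768) (tt N21285 (iv F70687)))
theorem Q18815 : ∀ i, i < 18815 → P i := stepQ 18814 Q18814 (allL N18814 (tt N19883 (iv F65882)) (tt N21100 (iv F70111)) (tt N19878 (iv F65874)) (tt N15201 F62636) (tt N21413 (iv F71142)) (tt N15200 (iv D29154)) (tt N21414 D31769))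
theorem Q18816 : ∀ i, i < 18816 → P i := stepQ 18815 Q18815 (allL N18815 (tt N19884 (iv F65886)) (tt N20958 F69690) (tt N19879 (iv F65877)) (tt N15202 F62637) (tt N21285 (iv F70686)) (tt N21415 D31770) (tt N15200 (iv D29155)))
theorem Q18817 : ∀ i, i < 18817 → P i := stepQ 18816 Q18816 (allL N18816 (tt N18818 (iv F62642)) (tt N18005 (iv F62640)) (tt N19032 (iv F63211)) (tt N21414 (iv F71145)) (tt N18697 F62638) (tt N17999 F62639) (tt N15201 (iv D29156)))
theorem Q18818 : ∀ i, i < 18818 → P i := stepQ 18817 Q18817 (allL N18817 (tt N21355 (iv F70956)) (tt N15202 (iv D29157)) (tt N20879 (iv F69444)) (tt N20958 (iv F69688)) (tt N20901 (iv F69535)) (tt N20949 (iv F69673)) (tt N15205 F62641))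
theorem Q18819 : ∀ i, i < 18819 → P i := stepQ 18818 Q18818 (allL N18818 (tt N18816 F62642) (tt N21009 (iv F69821)) (tt N19202 (iv F63629)) (tt N21415 (iv F71150)) (tt N19201 F63627) (tt N15202 (iv D29158)) (tt N18812 F62643))
theorem Q18820 : ∀ i, i < 18820 → P i := stepQ 18819 Q18819 (allL N18819 (tt N15209 F62644) (tt N21416 D31771) (tt N18935 (iv F62952)) (tt N18475 F62645) (tt N15204 F62646) (tt N18804 F62647) (tt N15203 (iv D29159)))
theorem Q18821 : ∀ i, i < 18821 → P i := stepQ 18820 Q18820 (allL N18820 (tt N18151 F62655) (tt N15204 (iv D29160)) (tt N21417 D31772) (tt N15205 F62648) (tt N21416 (iv F71153)) (tt N18156 (iv F62656)) (tt N20958 (iv F69689)))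
theorem Q18822 : ∀ i, i < 18822 → P i := stepQ 18821 Q18821 (allL N18821 (tt N15205 (iv D29161)) (tt N18149 (iv F62653)) (tt N19301 (iv F63952)) (tt N18151 (iv F62654)) (tt N19529 (iv F64749)) (tt N18153 F62652) (tt N21355 (iv F70959)))
theorem Q18823 : ∀ i, i < 18823 → P i := stepQ 18822 Q18822 (allL N18822 (tt N18153 (iv F62650)) (tt N18807 F62649) (tt N20877 (iv F69435)) (tt N18156 F62651) (tt N20903 (iv F69543)) (tt N15205 (iv D29162)) (tt N21418 D31773))
theorem Q18824 : ∀ i, i < 18824 → P i := stepQ 18823 Q18823 (allL N18823 (tt N20538 (iv F68118)) (tt N15207 F62657) (tt N21350 (iv F70940)) (tt N17274 F62658) (tt N15206 (iv D29163)) (tt N21419 D31774) (tt N21420 D31775))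
theorem Q18825 : ∀ i, i < 18825 → P i := stepQ 18824 Q18824 (allL N18824 (tt N20539 (iv F68121)) (tt N21404 (iv F71118)) (tt N21056 F69974) (tt N18926 (iv F62916)) (tt N21419 (iv F71165)) (tt N15206 (iv D29164)) (tt N21421 D31776))
theorem Q18826 : ∀ i, i < 18826 → P i := stepQ 18825 Q18825 (allL N18825 (tt N20540 (iv F68125)) (tt N21422 D31777) (tt N21351 (iv F70942)) (tt N18927 (iv F62917)) (tt N21420 (iv F71167)) (tt N20485 F68124) (tt N15206 (iv D29165)))
theorem Q18827 : ∀ i, i < 18827 → P i := stepQ 18826 Q18826 (allL N18826 (tt N18935 (iv F62951)) (tt N21423 D31778) (tt N15209 F62659) (tt N20172 (iv F66899)) (tt N15208 F62660) (tt N21424 D31779) (tt N15207 (iv D29166)))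
theorem Q18828 : ∀ i, i < 18828 → P i := stepQ 18827 Q18827 (allL N18827 (tt N21422 F71174) (tt N15208 (iv D29167)) (tt N18844 (iv F62929)) (tt N18929 (iv F62923)) (tt N21423 (iv F71175)) (tt N18842 F62931) (tt N21422 (iv F71173)))
theorem Q18829 : ∀ i, i < 18829 → P i := stepQ 18828 Q18828 (allL N18828 (tt N18803 F62661) (tt N21425 D31780) (tt N15211 F62662) (tt N15289 F62663) (tt N21424 (iv F71178)) (tt N15208 (iv D29168)) (tt N15287 F62664))
theorem Q18830 : ∀ i, i < 18830 → P i := stepQ 18829 Q18829 (allL N18829 (tt N21426 D31781) (tt N15209 (iv D29169)) (tt N21427 D31782) (tt N19266 F63840) (tt N15210 F62665) (tt N21428 D31783) (tt N19279 (iv F63882)))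
theorem Q18831 : ∀ i, i < 18831 → P i := stepQ 18830 Q18830 (allL N18830 (tt N18804 F62666) (tt N21429 D31784) (tt N21424 (iv F71177)) (tt N20906 (iv F69554)) (tt N15211 F62667) (tt N15209 (iv D29170)) (tt N18800 F62668))
theorem Q18832 : ∀ i, i < 18832 → P i := stepQ 18831 Q18831 (allL N18831 (tt N15210 (iv D29171)) (tt N21430 D31785) (tt N20521 (iv F68075)) (tt N15212 F62669) (tt N21426 (iv F71183)) (tt N18695 F62670) (tt N20519 F68068))
theorem Q18833 : ∀ i, i < 18833 → P i := stepQ 18832 Q18832 (allL N18832 (tt N20521 (iv F68074)) (tt N18844 F62930) (tt N15210 (iv D29172)) (tt N18845 (iv F62932)) (tt N21427 (iv F71188)) (tt N21431 D31786) (tt N20426 (iv F67754)))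
theorem Q18834 : ∀ i, i < 18834 → P i := stepQ 18833 Q18833 (allL N18833 (tt N18695 F62671) (tt N21432 D31787) (tt N21431 (iv F71203)) (tt N15213 F62672) (tt N21428 (iv F71195)) (tt N15210 (iv D29173)) (tt N18693 F62673))
theorem Q18835 : ∀ i, i < 18835 → P i := stepQ 18834 Q18834 (allL N18834 (tt N21433 D31788) (tt N15211 (iv D29174)) (tt N21434 D31789) (tt N15214 F62674) (tt N21429 (iv F71197)) (tt N21432 (iv F71209)) (tt N21435 D31790))
theorem Q18836 : ∀ i, i < 18836 → P i := stepQ 18835 Q18835 (allL N18835 (tt N21220 (iv F70471)) (tt N15212 (iv D29175)) (tt N21436 D31791) (tt N21430 (iv F71199)) (tt N20907 (iv F69559)) (tt N21437 D31792) (tt N21438 D31793))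
theorem Q18837 : ∀ i, i < 18837 → P i := stepQ 18836 Q18836 (allL N18836 (tt N18016 F62675) (tt N15213 (iv D29176)) (tt N21278 (iv F70666)) (tt N21432 (iv F71208)) (tt N18731 F62676) (tt N15214 F62677) (tt N21439 D31794))
theorem Q18838 : ∀ i, i < 18838 → P i := stepQ 18837 Q18837 (allL N18837 (tt N15214 (iv D29177)) (tt N17905 (iv F62680)) (tt N21440 D31795) (tt N21433 (iv F71210)) (tt N18733 F62678) (tt N18016 F62679) (tt N21441 D31796))
theorem Q18839 : ∀ i, i < 18839 → P i := stepQ 18838 Q18838 (allL N18838 (tt N21440 (iv F71229)) (tt N15215 F62681) (tt N15214 (iv D29178)) (tt N16921 (iv F62682)) (tt N19171 (iv F63548)) (tt N21278 (iv F70665)) (tt N21442 D31797))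
theorem Q18840 : ∀ i, i < 18840 → P i := stepQ 18839 Q18839 (allL N18839 (tt N21441 (iv F71234)) (tt N18799 F62683) (tt N21442 (iv F71237)) (tt N21435 (iv F71214)) (tt N20908 (iv F69562)) (tt N20858 (iv F69359)) (tt N15214 (iv D29179)))
theorem Q18841 : ∀ i, i < 18841 → P i := stepQ 18840 Q18840 (allL N18840 (tt N20253 (iv F67146)) (tt N15353 F62684) (tt N15217 (iv D29180)) (tt N21142 (iv F70226)) (tt N16968 F62685) (tt N19122 (iv F63415)) (tt N16726 F62686))
theorem Q18842 : ∀ i, i < 18842 → P i := stepQ 18841 Q18841 (allL N18841 (tt N20281 (iv F67234)) (tt N15221 F62687) (tt N21443 D31798) (tt N15218 (iv D29181)) (tt N17251 F62688) (tt N20278 (iv F67227)) (tt N16735 F62689))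
theorem Q18843 : ∀ i, i < 18843 → P i := stepQ 18842 Q18842 (allL N18842 (tt N18846 (iv F62700)) (tt N21444 D31799) (tt N15221 (iv D29182)) (tt N15316 F62691) (tt N21445 D31800) (tt N18827 (iv F62931)) (tt N18842 F62690))
theorem Q18844 : ∀ i, i < 18844 → P i := stepQ 18843 Q18843 (allL N18843 (tt N21327 (iv F70840)) (tt N17251 F62692) (tt N21445 (iv F71247)) (tt N17253 F62693) (tt N15221 (iv D29183)) (tt N21446 D31801) (tt N18843 F62694))
theorem Q18845 : ∀ i, i < 18845 → P i := stepQ 18844 Q18844 (allL N18844 (tt N20044 (iv F66457)) (tt N18832 (iv F62930)) (tt N18827 F62929) (tt N15222 F62695) (tt N21446 (iv F71253)) (tt N15221 (iv D29184)) (tt N20044 (iv F66460)))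
theorem Q18846 : ∀ i, i < 18846 → P i := stepQ 18845 Q18845 (allL N18845 (tt N17316 (iv F62699)) (tt N15222 (iv D29185)) (tt N17240 F62696) (tt N18832 F62932) (tt N17429 F62697) (tt N20277 (iv F67223)) (tt N17182 F62698))
theorem Q18847 : ∀ i, i < 18847 → P i := stepQ 18846 Q18846 (allL N18846 (tt N18842 F62700) (tt N17260 F62701) (tt N18704 F62702) (tt N15223 (iv D29186)) (tt N19329 (iv F64070)) (tt N21422 (iv F71172)) (tt N18846 F62703))
theorem Q18848 : ∀ i, i < 18848 → P i := stepQ 18847 Q18847 (allL N18847 (tt N18944 (iv F62975)) (tt N17805 F62704) (tt N15224 F62705) (tt N20757 (iv F68946)) (tt N15223 (iv D29187)) (tt N21447 D31802) (tt N18847 F62706))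
theorem Q18849 : ∀ i, i < 18849 → P i := stepQ 18848 Q18848 (allL N18848 (tt N18929 F62928) (tt N18927 (iv F62925)) (tt N15225 F62707) (tt N21422 (iv F71171)) (tt N21447 (iv F71257)) (tt N15223 (iv D29188)) (tt N18929 (iv F62924)))
theorem Q18850 : ∀ i, i < 18850 → P i := stepQ 18849 Q18849 (allL N18849 (tt N18945 (iv F62978)) (tt N21448 D31803) (tt N21447 (iv F71255)) (tt N16210 F62708) (tt N15225 F62709) (tt N15224 (iv D29189)) (tt N18945 (iv F62981)))
theorem Q18851 : ∀ i, i < 18851 → P i := stepQ 18850 Q18850 (allL N18850 (tt N18854 (iv F62717)) (tt N15225 (iv D29190)) (tt N21449 D31804) (tt N15226 F62710) (tt N21448 (iv F71259)) (tt N15238 F62711) (tt N16567 (iv F62712)))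
theorem Q18852 : ∀ i, i < 18852 → P i := stepQ 18851 Q18851 (allL N18851 (tt N20040 (iv F66448)) (tt N21450 D31805) (tt N15228 (iv D29191)) (tt N21451 D31806) (tt N21452 D31807) (tt N18888 F62810) (tt N20578 (iv F68264)))
theorem Q18853 : ∀ i, i < 18853 → P i := stepQ 18852 Q18852 (allL N18852 (tt N20038 (iv F66442)) (tt N15232 F62713) (tt N21452 (iv F71274)) (tt N16212 F62714) (tt N15228 (iv D29192)) (tt N21453 D31808) (tt N20383 (iv F67596)))
theorem Q18854 : ∀ i, i < 18854 → P i := stepQ 18853 Q18853 (allL N18853 (tt N20041 (iv F66450)) (tt N18878 (iv F62783)) (tt N18888 (iv F62808)) (tt N15229 F62715) (tt N21453 (iv F71277)) (tt N15228 (iv D29193)) (tt N15238 F62716))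
theorem Q18855 : ∀ i, i < 18855 → P i := stepQ 18854 Q18854 (allL N18854 (tt N18850 F62717) (tt N15246 F62718) (tt N20578 (iv F68262)) (tt N15230 F62719) (tt N20383 (iv F67595)) (tt N18863 (iv F62740)) (tt N15228 (iv D29194)))
theorem Q18856 : ∀ i, i < 18856 → P i := stepQ 18855 Q18855 (allL N18855 (tt N21454 D31809) (tt N15231 (iv D29195)) (tt N21450 (iv F71266)) (tt N18750 F62720) (tt N21455 D31810) (tt N21450 (iv F71267)) (tt N21456 D31811))
theorem Q18857 : ∀ i, i < 18857 → P i := stepQ 18856 Q18856 (allL N18856 (tt N15235 F62721) (tt N21455 (iv F71280)) (tt N15232 F62722) (tt N16825 (iv F62724)) (tt N15231 (iv D29196)) (tt N18884 (iv F62803)) (tt N15249 F62723))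
theorem Q18858 : ∀ i, i < 18858 → P i := stepQ 18857 Q18857 (allL N18857 (tt N19613 (iv F65048)) (tt N15234 F62725) (tt N15952 F62728) (tt N15233 (iv D29197)) (tt N21457 D31812) (tt N15947 F62726) (tt N17376 F62727))
theorem Q18859 : ∀ i, i < 18859 → P i := stepQ 18858 Q18858 (allL N18858 (tt N18751 F62729) (tt N21457 (iv F71285)) (tt N18749 F62730) (tt N19422 (iv F64400)) (tt N15234 (iv D29198)) (tt N21380 (iv F71038)) (tt N15255 F62731))
theorem Q18860 : ∀ i, i < 18860 → P i := stepQ 18859 Q18859 (allL N18859 (tt N16825 F62732) (tt N19887 (iv F65894)) (tt N16823 F62733) (tt N15235 (iv D29199)) (tt N19422 (iv F64401)) (tt N20190 (iv F66959)) (tt N15257 F62734))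
theorem Q18861 : ∀ i, i < 18861 → P i := stepQ 18860 Q18860 (allL N18860 (tt N18884 (iv F62800)) (tt N21458 D31813) (tt N15237 F62735) (tt N20190 (iv F66958)) (tt N15236 F62736) (tt N15235 (iv D29200)) (tt N18873 (iv F62769)))
theorem Q18862 : ∀ i, i < 18862 → P i := stepQ 18861 Q18861 (allL N18861 (tt N18916 (iv F62970)) (tt N15236 (iv D29201)) (tt N18887 (iv F62806)) (tt N21381 (iv F71039)) (tt N21458 (iv F71289)) (tt N20575 (iv F68250)) (tt N18886 F62805))
theorem Q18863 : ∀ i, i < 18863 → P i := stepQ 18862 Q18862 (allL N18862 (tt N21459 D31814) (tt N15237 (iv D29202)) (tt N21460 D31815) (tt N16214 F62737) (tt N15238 F62738) (tt N21448 (iv F71260)) (tt N21453 (iv F71278)))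
theorem Q18864 : ∀ i, i < 18864 → P i := stepQ 18863 Q18863 (allL N18863 (tt N15238 (iv D29203)) (tt N19740 (iv F65434)) (tt N21461 D31816) (tt N15239 F62739) (tt N21459 (iv F71292)) (tt N18854 F62740) (tt N20041 (iv F66452)))
theorem Q18865 : ∀ i, i < 18865 → P i := stepQ 18864 Q18864 (allL N18864 (tt N21461 (iv F71296)) (tt N18887 F62807) (tt N15238 (iv D29204)) (tt N21462 D31817) (tt N21460 (iv F71295)) (tt N21449 (iv F71264)) (tt N18888 (iv F62809)))
theorem Q18866 : ∀ i, i < 18866 → P i := stepQ 18865 Q18865 (allL N18865 (tt N15246 F62741) (tt N17740 F62742) (tt N17371 F62743) (tt N15242 F62744) (tt N19872 (iv F65849)) (tt N17670 F62745) (tt N15241 (iv D29205)))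
theorem Q18867 : ∀ i, i < 18867 → P i := stepQ 18866 Q18866 (allL N18866 (tt N20527 (iv F68091)) (tt N15243 (iv D29206)) (tt N15248 F62746) (tt N18455 F62747) (tt N19873 (iv F65854)) (tt N21463 D31818) (tt N20556 (iv F68178)))
theorem Q18868 : ∀ i, i < 18868 → P i := stepQ 18867 Q18867 (allL N18867 (tt N17370 F62748) (tt N20020 (iv F66399)) (tt N15245 F62749) (tt N18456 F62750) (tt N19874 (iv F65858)) (tt N15243 (iv D29207)) (tt N20571 (iv F68234)))
theorem Q18869 : ∀ i, i < 18869 → P i := stepQ 18868 Q18868 (allL N18868 (tt N17371 F62751) (tt N17355 (iv F62755)) (tt N15246 F62752) (tt N18457 F62753) (tt N19875 (iv F65862)) (tt N17671 F62754) (tt N15243 (iv D29208)))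
theorem Q18870 : ∀ i, i < 18870 → P i := stepQ 18869 Q18869 (allL N18869 (tt N17099 F62757) (tt N21464 D31819) (tt N19874 (iv F65856)) (tt N16219 F62758) (tt N15245 F62759) (tt N15244 (iv D29209)) (tt N17097 F62760))
theorem Q18871 : ∀ i, i < 18871 → P i := stepQ 18870 Q18870 (allL N18870 (tt N18877 (iv F62776)) (tt N15245 (iv D29210)) (tt N18876 F62775) (tt N15247 F62761) (tt N21464 (iv F71303)) (tt N15252 F62762) (tt N18893 (iv F62821)))
theorem Q18872 : ∀ i, i < 18872 → P i := stepQ 18871 Q18871 (allL N18871 (tt N20554 (iv F68173)) (tt N18903 F62858) (tt N21463 (iv F71300)) (tt N18773 F62763) (tt N20443 F67815) (tt N15248 (iv D29211)) (tt N20581 (iv F68273)))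
theorem Q18873 : ∀ i, i < 18873 → P i := stepQ 18872 Q18872 (allL N18872 (tt N20555 (iv F68175)) (tt N21456 (iv F71282)) (tt N20556 F68179) (tt N18774 F62764) (tt N20448 (iv F67830)) (tt N21465 D31820) (tt N15248 (iv D29212)))
theorem Q18874 : ∀ i, i < 18874 → P i := stepQ 18873 Q18873 (allL N18873 (tt N15258 F62765) (tt N21466 D31821) (tt N15251 F62766) (tt N16815 F62767) (tt N15250 F62768) (tt N15249 (iv D29213)) (tt N18860 F62769))
theorem Q18875 : ∀ i, i < 18875 → P i := stepQ 18874 Q18874 (allL N18874 (tt N18903 (iv F62855)) (tt N15250 (iv D29214)) (tt N15264 F62781) (tt N18776 F62770) (tt N21466 (iv F71309)) (tt N18903 (iv F62857)) (tt N15263 (iv F62782)))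
theorem Q18876 : ∀ i, i < 18876 → P i := stepQ 18875 Q18875 (allL N18875 (tt N21467 D31822) (tt N15251 (iv D29215)) (tt N21468 D31823) (tt N16221 F62771) (tt N15252 F62772) (tt N21464 (iv F71304)) (tt N21469 D31824))
theorem Q18877 : ∀ i, i < 18877 → P i := stepQ 18876 Q18876 (allL N18876 (tt N15252 (iv D29216)) (tt N16532 F62773) (tt N18870 (iv F62775)) (tt N15253 F62774) (tt N21467 (iv F71314)) (tt N18877 (iv F62777)) (tt N21470 D31825))
theorem Q18878 : ∀ i, i < 18878 → P i := stepQ 18877 Q18877 (allL N18877 (tt N18870 F62776) (tt N15264 (iv F62779)) (tt N15252 (iv D29217)) (tt N15266 F62778) (tt N21468 (iv F71319)) (tt N18876 F62777) (tt N15265 (iv F62780)))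
theorem Q18879 : ∀ i, i < 18879 → P i := stepQ 18878 Q18878 (allL N18878 (tt N21470 (iv F71327)) (tt N18853 F62783) (tt N15265 F62784) (tt N15254 F62785) (tt N21469 (iv F71325)) (tt N15265 F62786) (tt N15252 (iv D29218)))
theorem Q18880 : ∀ i, i < 18880 → P i := stepQ 18879 Q18879 (allL N18879 (tt N15254 F62787) (tt N20689 (iv F68660)) (tt N16535 F62788) (tt N21470 (iv F71329)) (tt N16225 F62789) (tt N15267 F62790) (tt N15253 (iv D29219)))
theorem Q18881 : ∀ i, i < 18881 → P i := stepQ 18880 Q18880 (allL N18880 (tt N18775 F62791) (tt N21471 D31826) (tt N18768 F62792) (tt N19412 (iv F64322)) (tt N15256 F62793) (tt N15255 (iv D29220)) (tt N21361 (iv F70980)))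
theorem Q18882 : ∀ i, i < 18882 → P i := stepQ 18881 Q18881 (allL N18881 (tt N21472 D31827) (tt N15256 (iv D29221)) (tt N21473 D31828) (tt N15259 F62794) (tt N21471 (iv F71331)) (tt N20561 (iv F68194)) (tt N21474 D31829))
theorem Q18883 : ∀ i, i < 18883 → P i := stepQ 18882 Q18882 (allL N18882 (tt N16815 F62795) (tt N21475 D31830) (tt N16814 F62796) (tt N15258 F62797) (tt N19412 (iv F64320)) (tt N15257 (iv D29222)) (tt N20196 (iv F66982)))
theorem Q18884 : ∀ i, i < 18884 → P i := stepQ 18883 Q18883 (allL N18883 (tt N21476 D31831) (tt N15258 (iv D29223)) (tt N21477 D31832) (tt N21475 (iv F71336)) (tt N15259 F62798) (tt N17810 F62799) (tt N21478 D31833))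
theorem Q18885 : ∀ i, i < 18885 → P i := stepQ 18884 Q18884 (allL N18884 (tt N18860 F62800) (tt N21479 D31834) (tt N15262 F62801) (tt N20196 (iv F66981)) (tt N15260 F62802) (tt N18856 F62803) (tt N15258 (iv D29224)))
theorem Q18886 : ∀ i, i < 18886 → P i := stepQ 18885 Q18885 (allL N18885 (tt N15259 (iv D29225)) (tt N21480 D31835) (tt N20549 F68157) (tt N21472 (iv F71332)) (tt N21476 (iv F71338)) (tt N20562 (iv F68196)) (tt N18942 (iv F62969)))
theorem Q18887 : ∀ i, i < 18887 → P i := stepQ 18886 Q18886 (allL N18886 (tt N20549 (iv F68153)) (tt N15263 F62804) (tt N15259 (iv D29226)) (tt N21481 D31836) (tt N21477 (iv F71343)) (tt N20563 (iv F68199)) (tt N18861 (iv F62805)))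
theorem Q18888 : ∀ i, i < 18888 → P i := stepQ 18887 Q18887 (allL N18887 (tt N18942 (iv F62967)) (tt N18864 (iv F62807)) (tt N18861 F62806) (tt N21474 (iv F71335)) (tt N21478 (iv F71347)) (tt N18940 (iv F62964)) (tt N15259 (iv D29227)))
theorem Q18889 : ∀ i, i < 18889 → P i := stepQ 18888 Q18888 (allL N18888 (tt N21482 D31837) (tt N15260 (iv D29228)) (tt N18853 F62808) (tt N21362 (iv F70981)) (tt N21479 (iv F71350)) (tt N18851 (iv F62810)) (tt N18864 F62809))
theorem Q18890 : ∀ i, i < 18890 → P i := stepQ 18889 Q18889 (allL N18889 (tt N18902 (iv F62851)) (tt N21477 (iv F71342)) (tt N15261 (iv D29229)) (tt N21483 D31838) (tt N15263 F62811) (tt N18889 F62812) (tt N21466 F71311))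
theorem Q18891 : ∀ i, i < 18891 → P i := stepQ 18890 Q18890 (allL N18890 (tt N18904 (iv F62859)) (tt N21468 (iv F71317)) (tt N21466 F71310) (tt N16226 F62813) (tt N15264 F62814) (tt N18904 (iv F62862)) (tt N15261 (iv D29230)))
theorem Q18892 : ∀ i, i < 18892 → P i := stepQ 18891 Q18891 (allL N18891 (tt N21484 D31839) (tt N15262 (iv D29231)) (tt N21469 (iv F71323)) (tt N16227 F62815) (tt N15265 F62816) (tt N21469 (iv F71326)) (tt N21468 F71321))
theorem Q18893 : ∀ i, i < 18893 → P i := stepQ 18892 Q18892 (allL N18892 (tt N18901 (iv F62847)) (tt N21481 (iv F71356)) (tt N15274 F62819) (tt N15263 (iv D29232)) (tt N21485 D31840) (tt N18892 F62817) (tt N18776 F62818))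
theorem Q18894 : ∀ i, i < 18894 → P i := stepQ 18893 Q18893 (allL N18893 (tt N15265 (iv D29233)) (tt N21486 D31841) (tt N21470 (iv F71328)) (tt N15267 F62820) (tt N21484 (iv F71365)) (tt N21470 (iv F71330)) (tt N18870 F62821))
theorem Q18895 : ∀ i, i < 18895 → P i := stepQ 18894 Q18894 (allL N18894 (tt N19835 (iv F65723)) (tt N15267 (iv D29234)) (tt N17724 (iv F62824)) (tt N21486 (iv F71371)) (tt N16233 F62822) (tt N19833 (iv F65719)) (tt N17669 F62823))
theorem Q18896 : ∀ i, i < 18896 → P i := stepQ 18895 Q18895 (allL N18895 (tt N15268 F62825) (tt N19663 (iv F65211)) (tt N15267 (iv D29235)) (tt N18583 F62829) (tt N16234 F62826) (tt N16535 F62827) (tt N18179 F62828))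
theorem Q18897 : ∀ i, i < 18897 → P i := stepQ 18896 Q18896 (allL N18896 (tt N20241 (iv F67121)) (tt N15457 F62830) (tt N15270 (iv D29236)) (tt N21191 (iv F70376)) (tt N16993 F62831) (tt N16730 F62832) (tt N18983 (iv F63081)))
theorem Q18898 : ∀ i, i < 18898 → P i := stepQ 18897 Q18897 (allL N18897 (tt N20270 (iv F67197)) (tt N15274 F62833) (tt N21487 D31842) (tt N15271 (iv D29237)) (tt N17328 F62834) (tt N16738 F62835) (tt N20267 (iv F67191)))
theorem Q18899 : ∀ i, i < 18899 → P i := stepQ 18898 Q18898 (allL N18898 (tt N21332 (iv F70865)) (tt N17328 F62836) (tt N21485 (iv F71368)) (tt N17329 F62837) (tt N15274 (iv D29238)) (tt N18898 F62838) (tt N21488 D31843))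
theorem Q18900 : ∀ i, i < 18900 → P i := stepQ 18899 Q18899 (allL N18899 (tt N20024 (iv F66407)) (tt N18781 (iv F62841)) (tt N18776 F62839) (tt N15275 F62840) (tt N21488 (iv F71378)) (tt N20024 (iv F66409)) (tt N15274 (iv D29239)))
theorem Q18901 : ∀ i, i < 18901 → P i := stepQ 18900 Q18900 (allL N18900 (tt N17239 (iv F62846)) (tt N15275 (iv D29240)) (tt N17315 F62842) (tt N18781 F62843) (tt N17415 F62844) (tt N17102 F62845) (tt N20266 (iv F67187)))
theorem Q18902 : ∀ i, i < 18902 → P i := stepQ 18901 Q18901 (allL N18901 (tt N18892 F62847) (tt N17337 F62848) (tt N18711 F62849) (tt N15276 (iv D29241)) (tt N19555 (iv F64851)) (tt N18901 F62850) (tt N21377 (iv F71030)))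
theorem Q18903 : ∀ i, i < 18903 → P i := stepQ 18902 Q18902 (allL N18902 (tt N18889 F62851) (tt N17821 F62852) (tt N15277 F62853) (tt N20768 (iv F68994)) (tt N15276 (iv D29242)) (tt N18902 F62854) (tt N21489 D31844))
theorem Q18904 : ∀ i, i < 18904 → P i := stepQ 18903 Q18903 (allL N18903 (tt N18874 F62855) (tt N18871 (iv F62858)) (tt N15278 F62856) (tt N21377 (iv F71028)) (tt N21489 (iv F71383)) (tt N18874 F62857) (tt N15276 (iv D29243)))
theorem Q18905 : ∀ i, i < 18905 → P i := stepQ 18904 Q18904 (allL N18904 (tt N18890 F62859) (tt N21490 D31845) (tt N21489 (iv F71381)) (tt N16240 F62860) (tt N15278 F62861) (tt N18890 F62862) (tt N15277 (iv D29244)))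
theorem Q18906 : ∀ i, i < 18906 → P i := stepQ 18905 Q18905 (allL N18905 (tt N18908 (iv F62868)) (tt N15278 (iv D29245)) (tt N21491 D31846) (tt N15279 F62863) (tt N21490 (iv F71387)) (tt N16532 F62864) (tt N15291 F62865))
theorem Q18907 : ∀ i, i < 18907 → P i := stepQ 18906 Q18906 (allL N18906 (tt N20020 (iv F66398)) (tt N21492 D31847) (tt N15281 (iv D29246)) (tt N21493 D31848) (tt N21494 D31849) (tt N20553 F68172) (tt N18943 F62974))
theorem Q18908 : ∀ i, i < 18908 → P i := stepQ 18907 Q18907 (allL N18907 (tt N20018 (iv F66392)) (tt N15285 F62866) (tt N21494 (iv F71402)) (tt N16242 F62867) (tt N15281 (iv D29247)) (tt N20425 (iv F67748)) (tt N21495 D31850))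
theorem Q18909 : ∀ i, i < 18909 → P i := stepQ 18908 Q18908 (allL N18908 (tt N18905 F62868) (tt N15298 F62869) (tt N20553 (iv F68170)) (tt N15282 F62870) (tt N20425 (iv F67747)) (tt N15281 (iv D29248)) (tt N18918 (iv F62893)))
theorem Q18910 : ∀ i, i < 18910 → P i := stepQ 18909 Q18909 (allL N18909 (tt N20021 (iv F66400)) (tt N18933 (iv F62943)) (tt N18943 (iv F62972)) (tt N15283 F62871) (tt N21495 (iv F71405)) (tt N15291 F62872) (tt N15281 (iv D29249)))
theorem Q18911 : ∀ i, i < 18911 → P i := stepQ 18910 Q18910 (allL N18910 (tt N21496 D31851) (tt N15284 (iv D29250)) (tt N21492 (iv F71394)) (tt N18801 F62873) (tt N21497 D31852) (tt N21498 D31853) (tt N21492 (iv F71396)))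
theorem Q18912 : ∀ i, i < 18912 → P i := stepQ 18911 Q18911 (allL N18911 (tt N15288 F62874) (tt N21497 (iv F71408)) (tt N15285 F62875) (tt N16799 (iv F62877)) (tt N15284 (iv D29251)) (tt N15302 F62876) (tt N18939 (iv F62963)))
theorem Q18913 : ∀ i, i < 18913 → P i := stepQ 18912 Q18912 (allL N18912 (tt N19409 (iv F64307)) (tt N15287 F62878) (tt N15725 F62881) (tt N15286 (iv D29252)) (tt N21499 D31854) (tt N17349 F62879) (tt N15720 F62880))
theorem Q18914 : ∀ i, i < 18914 → P i := stepQ 18913 Q18913 (allL N18913 (tt N18802 F62882) (tt N21499 (iv F71413)) (tt N18800 F62883) (tt N19624 (iv F65093)) (tt N15287 (iv D29253)) (tt N15308 F62884) (tt N21424 (iv F71179)))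
theorem Q18915 : ∀ i, i < 18915 → P i := stepQ 18914 Q18914 (allL N18914 (tt N16799 F62885) (tt N19870 (iv F65842)) (tt N16797 F62886) (tt N15288 (iv D29254)) (tt N19624 (iv F65094)) (tt N15310 F62887) (tt N20173 (iv F66903)))
theorem Q18916 : ∀ i, i < 18916 → P i := stepQ 18915 Q18915 (allL N18915 (tt N18939 (iv F62960)) (tt N21500 D31855) (tt N15290 F62888) (tt N20173 (iv F66902)) (tt N15289 F62889) (tt N18928 (iv F62922)) (tt N15288 (iv D29255)))
theorem Q18917 : ∀ i, i < 18917 → P i := stepQ 18916 Q18916 (allL N18916 (tt N18861 F62970) (tt N15289 (iv D29256)) (tt N18942 (iv F62968)) (tt N21425 (iv F71180)) (tt N21500 (iv F71417)) (tt N18941 F62966) (tt N20549 (iv F68156)))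
theorem Q18918 : ∀ i, i < 18918 → P i := stepQ 18917 Q18917 (allL N18917 (tt N21501 D31856) (tt N15290 (iv D29257)) (tt N21502 D31857) (tt N16244 F62890) (tt N15291 F62891) (tt N21495 (iv F71406)) (tt N21490 (iv F71389)))
theorem Q18919 : ∀ i, i < 18919 → P i := stepQ 18918 Q18918 (allL N18918 (tt N15291 (iv D29258)) (tt N19834 (iv F65721)) (tt N21503 D31858) (tt N15292 F62892) (tt N21501 (iv F71421)) (tt N20021 (iv F66402)) (tt N18908 F62893))
theorem Q18920 : ∀ i, i < 18920 → P i := stepQ 18919 Q18919 (allL N18919 (tt N21503 (iv F71425)) (tt N18942 F62971) (tt N15291 (iv D29259)) (tt N21504 D31859) (tt N21502 (iv F71424)) (tt N18943 (iv F62973)) (tt N21491 (iv F71393)))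
theorem Q18921 : ∀ i, i < 18921 → P i := stepQ 18920 Q18920 (allL N18920 (tt N15298 F62894) (tt N17672 F62895) (tt N17342 F62896) (tt N15295 F62897) (tt N19853 (iv F65795)) (tt N15294 (iv D29260)) (tt N17738 F62898))
theorem Q18922 : ∀ i, i < 18922 → P i := stepQ 18921 Q18921 (allL N18921 (tt N20469 (iv F67904)) (tt N15296 (iv D29261)) (tt N15301 F62899) (tt N18393 F62900) (tt N19854 (iv F65800)) (tt N20582 (iv F68275)) (tt N21505 D31860))
theorem Q18923 : ∀ i, i < 18923 → P i := stepQ 18922 Q18922 (allL N18922 (tt N17342 F62901) (tt N17382 (iv F62905)) (tt N15298 F62902) (tt N18394 F62903) (tt N19855 (iv F65804)) (tt N15296 (iv D29262)) (tt N17739 F62904))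
theorem Q18924 : ∀ i, i < 18924 → P i := stepQ 18923 Q18923 (allL N18923 (tt N17343 F62907) (tt N20040 (iv F66449)) (tt N15299 F62908) (tt N18395 F62909) (tt N19856 (iv F65810)) (tt N20545 (iv F68143)) (tt N15296 (iv D29263)))
theorem Q18925 : ∀ i, i < 18925 → P i := stepQ 18924 Q18924 (allL N18924 (tt N17180 F62910) (tt N21506 D31861) (tt N19856 (iv F65808)) (tt N16249 F62911) (tt N15299 F62912) (tt N17178 (iv F62913)) (tt N15297 (iv D29264)))
theorem Q18926 : ∀ i, i < 18926 → P i := stepQ 18925 Q18925 (allL N18925 (tt N18932 (iv F62938)) (tt N15299 (iv D29265)) (tt N18931 F62937) (tt N15300 F62914) (tt N21506 (iv F71433)) (tt N18947 (iv F62985)) (tt N15305 F62915))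
theorem Q18927 : ∀ i, i < 18927 → P i := stepQ 18926 Q18926 (allL N18926 (tt N20579 (iv F68265)) (tt N21498 (iv F71410)) (tt N20582 F68276) (tt N18824 F62916) (tt N20506 (iv F68016)) (tt N15301 (iv D29266)) (tt N21507 D31862))
theorem Q18928 : ∀ i, i < 18928 → P i := stepQ 18927 Q18927 (allL N18927 (tt N20580 (iv F68269)) (tt N18848 F62925) (tt N21505 (iv F71430)) (tt N18825 F62917) (tt N20501 F67999) (tt N20557 (iv F68181)) (tt N15301 (iv D29267)))
theorem Q18929 : ∀ i, i < 18929 → P i := stepQ 18928 Q18928 (allL N18928 (tt N15311 F62918) (tt N21508 D31863) (tt N15304 F62919) (tt N16789 F62920) (tt N15303 F62921) (tt N18915 F62922) (tt N15302 (iv D29268)))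
theorem Q18930 : ∀ i, i < 18930 → P i := stepQ 18929 Q18929 (allL N18929 (tt N18848 (iv F62928)) (tt N15303 (iv D29269)) (tt N15317 (iv F62926)) (tt N18827 F62923) (tt N21508 (iv F71439)) (tt N15316 (iv F62927)) (tt N18848 F62924))
theorem Q18931 : ∀ i, i < 18931 → P i := stepQ 18930 Q18930 (allL N18930 (tt N21509 D31864) (tt N15304 (iv D29270)) (tt N21510 D31865) (tt N16251 F62933) (tt N15305 F62934) (tt N21511 D31866) (tt N21506 (iv F71434)))
theorem Q18932 : ∀ i, i < 18932 → P i := stepQ 18931 Q18931 (allL N18931 (tt N15305 (iv D29271)) (tt N16567 F62935) (tt N18925 (iv F62937)) (tt N15306 F62936) (tt N21509 (iv F71446)) (tt N21512 D31867) (tt N18932 (iv F62940)))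
theorem Q18933 : ∀ i, i < 18933 → P i := stepQ 18932 Q18932 (allL N18932 (tt N18925 F62938) (tt N15317 F62939) (tt N15305 (iv D29272)) (tt N15319 F62941) (tt N21510 (iv F71451)) (tt N15318 (iv F62942)) (tt N18931 F62940))
theorem Q18934 : ∀ i, i < 18934 → P i := stepQ 18933 Q18933 (allL N18933 (tt N21512 (iv F71459)) (tt N18909 F62943) (tt N15318 F62944) (tt N15307 F62945) (tt N21511 (iv F71457)) (tt N15305 (iv D29273)) (tt N15318 F62946))
theorem Q18935 : ∀ i, i < 18935 → P i := stepQ 18934 Q18934 (allL N18934 (tt N15307 F62947) (tt N20696 (iv F68689)) (tt N16569 F62948) (tt N21512 (iv F71461)) (tt N16255 F62949) (tt N15306 (iv D29274)) (tt N15320 F62950))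
theorem Q18936 : ∀ i, i < 18936 → P i := stepQ 18935 Q18935 (allL N18935 (tt N18826 F62951) (tt N21513 D31868) (tt N18819 F62952) (tt N19617 (iv F65063)) (tt N15309 F62953) (tt N21406 (iv F71125)) (tt N15308 (iv D29275)))
theorem Q18937 : ∀ i, i < 18937 → P i := stepQ 18936 Q18936 (allL N18936 (tt N21514 D31869) (tt N15309 (iv D29276)) (tt N21515 D31870) (tt N15312 F62954) (tt N21513 (iv F71463)) (tt N21516 D31871) (tt N20561 (iv F68195)))
theorem Q18938 : ∀ i, i < 18938 → P i := stepQ 18937 Q18937 (allL N18937 (tt N16789 F62955) (tt N21517 D31872) (tt N16788 F62956) (tt N15311 F62957) (tt N19617 (iv F65061)) (tt N20179 (iv F66926)) (tt N15310 (iv D29277)))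
theorem Q18939 : ∀ i, i < 18939 → P i := stepQ 18938 Q18938 (allL N18938 (tt N21518 D31873) (tt N15311 (iv D29278)) (tt N21519 D31874) (tt N21517 (iv F71471)) (tt N15312 F62958) (tt N21520 D31875) (tt N17810 F62959))
theorem Q18940 : ∀ i, i < 18940 → P i := stepQ 18939 Q18939 (allL N18939 (tt N18915 F62960) (tt N21521 D31876) (tt N15315 F62961) (tt N20179 (iv F66925)) (tt N15313 F62962) (tt N15311 (iv D29279)) (tt N18911 F62963))
theorem Q18941 : ∀ i, i < 18941 → P i := stepQ 18940 Q18940 (allL N18940 (tt N15312 (iv D29280)) (tt N21522 D31877) (tt N20575 F68251) (tt N21514 (iv F71464)) (tt N21518 (iv F71473)) (tt N18887 F62964) (tt N20562 (iv F68197)))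
theorem Q18942 : ∀ i, i < 18942 → P i := stepQ 18941 Q18941 (allL N18941 (tt N20575 (iv F68247)) (tt N15316 F62965) (tt N15312 (iv D29281)) (tt N21444 (iv F71244)) (tt N21519 (iv F71479)) (tt N18916 (iv F62966)) (tt N20563 (iv F68200)))
theorem Q18943 : ∀ i, i < 18943 → P i := stepQ 18942 Q18942 (allL N18942 (tt N18887 F62967) (tt N18919 (iv F62971)) (tt N18916 F62968) (tt N21516 (iv F71469)) (tt N21520 (iv F71484)) (tt N15312 (iv D29282)) (tt N18885 F62969))
theorem Q18944 : ∀ i, i < 18944 → P i := stepQ 18943 Q18943 (allL N18943 (tt N21523 D31878) (tt N15313 (iv D29283)) (tt N18909 F62972) (tt N21407 (iv F71126)) (tt N21521 (iv F71488)) (tt N18919 F62973) (tt N18906 (iv F62974)))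
theorem Q18945 : ∀ i, i < 18945 → P i := stepQ 18944 Q18944 (allL N18944 (tt N18847 F62975) (tt N21519 (iv F71478)) (tt N15314 (iv D29284)) (tt N21524 D31879) (tt N15316 F62976) (tt N21508 F71442) (tt N18944 F62977))
theorem Q18946 : ∀ i, i < 18946 → P i := stepQ 18945 Q18945 (allL N18945 (tt N18849 F62978) (tt N21510 (iv F71449)) (tt N21508 F71441) (tt N16256 F62979) (tt N15317 F62980) (tt N15314 (iv D29285)) (tt N18849 F62981))
theorem Q18947 : ∀ i, i < 18947 → P i := stepQ 18946 Q18946 (allL N18946 (tt N21525 D31880) (tt N15315 (iv D29286)) (tt N21511 (iv F71455)) (tt N16257 F62982) (tt N15318 F62983) (tt N21510 F71453) (tt N21511 (iv F71458)))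
theorem Q18948 : ∀ i, i < 18948 → P i := stepQ 18947 Q18947 (allL N18947 (tt N15318 (iv D29287)) (tt N21526 D31881) (tt N21512 (iv F71460)) (tt N15320 F62984) (tt N21525 (iv F71501)) (tt N18925 F62985) (tt N21512 (iv F71462)))
theorem Q18949 : ∀ i, i < 18949 → P i := stepQ 18948 Q18948 (allL N18948 (tt N19741 (iv F65436)) (tt N15320 (iv D29288)) (tt N17655 (iv F62988)) (tt N21526 (iv F71503)) (tt N16262 F62986) (tt N17654 F62987) (tt N19739 (iv F65433)))
theorem Q18950 : ∀ i, i < 18950 → P i := stepQ 18949 Q18949 (allL N18949 (tt N15321 F62989) (tt N19463 (iv F64505)) (tt N15320 (iv D29289)) (tt N18594 F62993) (tt N16263 F62990) (tt N18127 F62991) (tt N16569 F62992))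
theorem Q18951 : ∀ i, i < 18951 → P i := stepQ 18950 Q18950 (allL N18950 (tt N18050 F62994) (tt N16982 F62995) (tt N20938 (iv F69643)) (tt N15322 (iv D29290)) (tt N20712 (iv F68764)) (tt N17622 F62996) (tt N20888 (iv F69479)))
theorem Q18952 : ∀ i, i < 18952 → P i := stepQ 18951 Q18951 (allL N18951 (tt N18951 F62997) (tt N15323 (iv D29291)) (tt N21273 (iv F70655)) (tt N21527 D31882) (tt N18811 F62998) (tt N21528 D31883) (tt N21273 (iv F70656)))
theorem Q18953 : ∀ i, i < 18953 → P i := stepQ 18952 Q18952 (allL N18952 (tt N15324 F63001) (tt N21527 (iv F71506)) (tt N19249 (iv F63775)) (tt N15323 (iv D29292)) (tt N20705 (iv F68736)) (tt N18063 F63002) (tt N15335 F63003))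
theorem Q18954 : ∀ i, i < 18954 → P i := stepQ 18953 Q18953 (allL N18953 (tt N19249 (iv F63773)) (tt N21529 D31884) (tt N15324 (iv D29293)) (tt N19246 (iv F63764)) (tt N21101 F70121) (tt N20892 (iv F69492)) (tt N15337 F63004))
theorem Q18955 : ∀ i, i < 18955 → P i := stepQ 18954 Q18954 (allL N18954 (tt N20705 (iv F68733)) (tt N20287 (iv F67251)) (tt N21101 (iv F70118)) (tt N20700 (iv F68713)) (tt N15324 (iv D29294)) (tt N20699 F68709) (tt N15338 F63005))
theorem Q18956 : ∀ i, i < 18956 → P i := stepQ 18955 Q18955 (allL N18955 (tt N18063 F63006) (tt N21089 (iv F70075)) (tt N20892 (iv F69489)) (tt N15325 F63007) (tt N20699 (iv F68707)) (tt N15324 (iv D29295)) (tt N18971 (iv F63041)))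
theorem Q18957 : ∀ i, i < 18957 → P i := stepQ 18956 Q18956 (allL N18956 (tt N21127 (iv F70185)) (tt N15325 (iv D29296)) (tt N19096 (iv F63347)) (tt N21089 (iv F70077)) (tt N17621 F63008) (tt N20289 (iv F67260)) (tt N20250 (iv F67141)))
theorem Q18958 : ∀ i, i < 18958 → P i := stepQ 18957 Q18957 (allL N18957 (tt N15443 F63009) (tt N15425 F63010) (tt N19522 (iv F64729)) (tt N15326 (iv D29297)) (tt N19164 (iv F63523)) (tt N19095 (iv F63346)) (tt N15440 F63011))
theorem Q18959 : ∀ i, i < 18959 → P i := stepQ 18958 Q18958 (allL N18958 (tt N15327 (iv D29298)) (tt N15332 F63012) (tt N21530 D31885) (tt N15332 F63013) (tt N15329 F63014) (tt N15329 F63015) (tt N18203 F63016))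
theorem Q18960 : ∀ i, i < 18960 → P i := stepQ 18959 Q18959 (allL N18959 (tt N21530 (iv F71517)) (tt N18509 F63017) (tt N15327 (iv D29299)) (tt N18518 (iv F63021)) (tt N15330 F63018) (tt N15330 F63019) (tt N18204 F63020))
theorem Q18961 : ∀ i, i < 18961 → P i := stepQ 18960 Q18960 (allL N18960 (tt N20255 (iv F67154)) (tt N20283 (iv F67243)) (tt N18967 F67151) (tt N15328 (iv D29300)) (tt N18966 (iv F67152)) (tt N20254 (iv F67150)) (tt N15333 F63022))
theorem Q18962 : ∀ i, i < 18962 → P i := stepQ 18961 Q18961 (allL N18961 (tt N15330 F63023) (tt N21531 D31886) (tt N15329 (iv D29301)) (tt N21532 D31887) (tt N21530 (iv F71518)) (tt N21530 (iv F71519)) (tt N20984 (iv F69759)))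
theorem Q18963 : ∀ i, i < 18963 → P i := stepQ 18962 Q18962 (allL N18962 (tt N21532 (iv F71525)) (tt N18152 F63024) (tt N21533 D31888) (tt N15330 (iv D29302)) (tt N21534 D31889) (tt N18518 F63025) (tt N21356 (iv F70962)))
theorem Q18964 : ∀ i, i < 18964 → P i := stepQ 18963 Q18963 (allL N18963 (tt N21535 D31890) (tt N15331 (iv D29303)) (tt N20965 (iv F69714)) (tt N21536 D31891) (tt N20965 (iv F69715)) (tt N21537 D31892) (tt N21535 F71534))
theorem Q18965 : ∀ i, i < 18965 → P i := stepQ 18964 Q18964 (allL N18964 (tt N15333 F63026) (tt N21536 (iv F71535)) (tt N21538 D31893) (tt N15331 (iv D29304)) (tt N21539 D31894) (tt N21540 D31895) (tt N20255 (iv F67156)))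
theorem Q18966 : ∀ i, i < 18966 → P i := stepQ 18965 Q18965 (allL N18965 (tt N15334 F63027) (tt N21541 D31896) (tt N15332 F63028) (tt N21540 (iv F71547)) (tt N18996 (iv F63135)) (tt N15331 (iv D29305)) (tt N18206 F63029))
theorem Q18967 : ∀ i, i < 18967 → P i := stepQ 18966 Q18966 (allL N18966 (tt N21538 (iv F71537)) (tt N21542 D31897) (tt N15333 (iv D29306)) (tt N21543 D31898) (tt N18960 F67152) (tt N21544 D31899) (tt N18967 (iv F67153)))
theorem Q18968 : ∀ i, i < 18968 → P i := stepQ 18967 Q18967 (allL N18967 (tt N21539 (iv F71541)) (tt N15338 F63030) (tt N18960 (iv F67151)) (tt N20968 (iv F69720)) (tt N15333 (iv D29307)) (tt N21545 D31900) (tt N18966 F67153))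
theorem Q18969 : ∀ i, i < 18969 → P i := stepQ 18968 Q18968 (allL N18968 (tt N21540 (iv F71545)) (tt N21546 D31901) (tt N21544 (iv F71567)) (tt N15334 F63031) (tt N21545 (iv F71573)) (tt N15333 (iv D29308)) (tt N16931 (iv F63032)))
theorem Q18970 : ∀ i, i < 18970 → P i := stepQ 18969 Q18969 (allL N18969 (tt N20258 (iv F67163)) (tt N15334 (iv D29309)) (tt N18254 F63033) (tt N21546 (iv F71577)) (tt N18256 F63034) (tt N15340 F63035) (tt N18207 F63036))
theorem Q18971 : ∀ i, i < 18971 → P i := stepQ 18970 Q18970 (allL N18970 (tt N15338 F63037) (tt N19032 (iv F63210)) (tt N19293 (iv F63930)) (tt N20707 (iv F68743)) (tt N15335 (iv D29310)) (tt N19027 F63197) (tt N20705 (iv F68737)))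
theorem Q18972 : ∀ i, i < 18972 → P i := stepQ 18971 Q18971 (allL N18971 (tt N15339 F63038) (tt N15528 F63039) (tt N19294 (iv F63935)) (tt N15336 F63040) (tt N19027 (iv F63195)) (tt N15335 (iv D29311)) (tt N18955 F63041))
theorem Q18973 : ∀ i, i < 18973 → P i := stepQ 18972 Q18972 (allL N18972 (tt N21547 D31902) (tt N15337 (iv D29312)) (tt N21542 (iv F71554)) (tt N19283 (iv F63897)) (tt N21548 D31903) (tt N21300 (iv F70735)) (tt N21549 D31904))
theorem Q18974 : ∀ i, i < 18974 → P i := stepQ 18973 Q18973 (allL N18973 (tt N19293 (iv F63929)) (tt N21548 (iv F71582)) (tt N15338 F63042) (tt N21091 (iv F70087)) (tt N15337 (iv D29313)) (tt N18799 (iv F63046)) (tt N21101 (iv F70120)))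
theorem Q18975 : ∀ i, i < 18975 → P i := stepQ 18974 Q18974 (allL N18974 (tt N19294 (iv F63933)) (tt N20908 (iv F69560)) (tt N15339 F63043) (tt N19285 (iv F63902)) (tt N18799 F63045) (tt N15337 (iv D29314)) (tt N18056 (iv F63044)))
theorem Q18976 : ∀ i, i < 18976 → P i := stepQ 18975 Q18975 (allL N18975 (tt N19027 F63196) (tt N21550 D31905) (tt N18799 F63047) (tt N17666 F63048) (tt N15339 F63049) (tt N15338 (iv D29315)) (tt N17687 (iv F63050)))
theorem Q18977 : ∀ i, i < 18977 → P i := stepQ 18976 Q18976 (allL N18976 (tt N21551 D31906) (tt N15339 (iv D29316)) (tt N21552 D31907) (tt N15340 F63051) (tt N21550 (iv F71591)) (tt N21546 (iv F71578)) (tt N18627 F63052))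
theorem Q18978 : ∀ i, i < 18978 → P i := stepQ 18977 Q18977 (allL N18977 (tt N15340 (iv D29317)) (tt N19722 (iv F65387)) (tt N18755 F63053) (tt N21551 (iv F71593)) (tt N19724 F65386) (tt N20258 (iv F67162)) (tt N20989 (iv F69776)))
theorem Q18979 : ∀ i, i < 18979 → P i := stepQ 18978 Q18978 (allL N18978 (tt N20989 (iv F69773)) (tt N18628 F63054) (tt N18756 F63055) (tt N18627 F63056) (tt N20969 (iv F69725)) (tt N20988 (iv F69772)) (tt N15340 (iv D29318)))
theorem Q18980 : ∀ i, i < 18980 → P i := stepQ 18979 Q18979 (allL N18979 (tt N16730 F63057) (tt N18979 F63058) (tt N15343 (iv D29319)) (tt N21553 D31908) (tt N16995 F63059) (tt N20241 (iv F67123)) (tt N15347 F63060))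
theorem Q18981 : ∀ i, i < 18981 → P i := stepQ 18980 Q18980 (allL N18980 (tt N16997 F63063) (tt N15349 F63064) (tt N15345 (iv D29320)) (tt N21554 D31909) (tt N15347 F63065) (tt N20304 (iv F67307)) (tt N16995 F63066))
theorem Q18982 : ∀ i, i < 18982 → P i := stepQ 18981 Q18981 (allL N18981 (tt N15347 F63067) (tt N18448 (iv F63071)) (tt N15346 (iv D29321)) (tt N18447 F63072) (tt N16997 F63068) (tt N16917 F63069) (tt N16730 F63070))
theorem Q18983 : ∀ i, i < 18983 → P i := stepQ 18982 Q18982 (allL N18982 (tt N18447 F63073) (tt N15351 F63074) (tt N20530 (iv F68095)) (tt N15347 (iv D29322)) (tt N18459 (iv F63076)) (tt N18464 (iv F63075)) (tt N21553 (iv F71603)))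
theorem Q18984 : ∀ i, i < 18984 → P i := stepQ 18983 Q18983 (allL N18983 (tt N16917 F63077) (tt N18463 F63078) (tt N15348 F63079) (tt N18464 F63080) (tt N20304 (iv F67306)) (tt N15347 (iv D29323)) (tt N18896 F63081))
theorem Q18985 : ∀ i, i < 18985 → P i := stepQ 18984 Q18984 (allL N18984 (tt N17971 F63097) (tt N21554 (iv F71606)) (tt N17970 F63099) (tt N15349 (iv D29324)) (tt N18664 (iv F63100)) (tt N20854 (iv F69343)) (tt N18984 F63098))
theorem Q18986 : ∀ i, i < 18986 → P i := stepQ 18985 Q18985 (allL N18985 (tt N20856 (iv F69350)) (tt N18462 (iv F63103)) (tt N15350 F63101) (tt N20854 F69345) (tt N15352 F63102) (tt N15349 (iv D29325)) (tt N20856 (iv F69354)))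
theorem Q18987 : ∀ i, i < 18987 → P i := stepQ 18986 Q18986 (allL N18986 (tt N18665 F63104) (tt N18459 F63105) (tt N19619 F65070) (tt N18664 F63106) (tt N15351 (iv D29326)) (tt N18452 F63107) (tt N18986 F63108))
theorem Q18988 : ∀ i, i < 18988 → P i := stepQ 18987 Q18987 (allL N18987 (tt N18995 (iv F63131)) (tt N21142 (iv F70225)) (tt N21555 D31910) (tt N15353 (iv D29327)) (tt N21543 (iv F71562)) (tt N18276 F63109) (tt N18185 F63110))
theorem Q18989 : ∀ i, i < 18989 → P i := stepQ 18988 Q18988 (allL N18988 (tt N19571 (iv F64904)) (tt N15354 (iv D29328)) (tt N15373 F63111) (tt N16486 (iv F63113)) (tt N21556 D31911) (tt N16517 (iv F63112)) (tt N21557 D31912))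
theorem Q18990 : ∀ i, i < 18990 → P i := stepQ 18989 Q18989 (allL N18989 (tt N15988 F63114) (tt N16486 F63115) (tt N18200 F63116) (tt N15354 (iv D29329)) (tt N21298 (iv F70727)) (tt N15979 (iv F63118)) (tt N18989 F63117))
theorem Q18991 : ∀ i, i < 18991 → P i := stepQ 18990 Q18990 (allL N18990 (tt N19215 (iv F63665)) (tt N21556 (iv F71616)) (tt N15355 F63119) (tt N21558 D31913) (tt N15354 (iv D29330)) (tt N21559 D31914) (tt N18990 F63120))
theorem Q18992 : ∀ i, i < 18992 → P i := stepQ 18991 Q18991 (allL N18991 (tt N15983 F63121) (tt N15974 (iv F63125)) (tt N15356 F63122) (tt N15979 F63123) (tt N21559 (iv F71626)) (tt N15354 (iv D29331)) (tt N15983 F63124))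
theorem Q18993 : ∀ i, i < 18993 → P i := stepQ 18992 Q18992 (allL N18992 (tt N19216 (iv F63668)) (tt N21560 D31915) (tt N21559 (iv F71625)) (tt N19216 (iv F63669)) (tt N15356 F63126) (tt N15355 (iv D29332)) (tt N19216 (iv F63671)))
theorem Q18994 : ∀ i, i < 18994 → P i := stepQ 18993 Q18993 (allL N18993 (tt N19015 (iv F63172)) (tt N15356 (iv D29333)) (tt N21561 D31916) (tt N15357 F63127) (tt N21560 (iv F71629)) (tt N15377 F63128) (tt N19010 (iv F63166)))
theorem Q18995 : ∀ i, i < 18995 → P i := stepQ 18994 Q18994 (allL N18994 (tt N19004 (iv F63151)) (tt N15358 F63129) (tt N15357 (iv D29334)) (tt N21562 D31917) (tt N19219 (iv F63678)) (tt N15379 F63130) (tt N19001 F63147))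
theorem Q18996 : ∀ i, i < 18996 → P i := stepQ 18995 Q18995 (allL N18995 (tt N18987 F63131) (tt N21562 (iv F71635)) (tt N21534 (iv F71530)) (tt N15358 (iv D29335)) (tt N21533 F71528) (tt N15361 F63132) (tt N20966 (iv F69717)))
theorem Q18997 : ∀ i, i < 18997 → P i := stepQ 18996 Q18996 (allL N18996 (tt N15362 F63133) (tt N21135 (iv F70206)) (tt N15360 F63134) (tt N21053 (iv F69959)) (tt N18965 F63135) (tt N18184 F63136) (tt N15359 (iv D29336)))
theorem Q18998 : ∀ i, i < 18998 → P i := stepQ 18997 Q18997 (allL N18997 (tt N21050 F69953) (tt N18514 F63137) (tt N15361 (iv D29337)) (tt N21534 (iv F71531)) (tt N18518 (iv F63138)) (tt N21534 (iv F71532)) (tt N21563 D31918))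
theorem Q18999 : ∀ i, i < 18999 → P i := stepQ 18998 Q18998 (allL N18998 (tt N21045 (iv F69938)) (tt N15387 F63139) (tt N18518 F63140) (tt N20129 (iv F66752)) (tt N15361 (iv D29338)) (tt N21533 (iv F71527)) (tt N21564 D31919))
theorem Q19000 : ∀ i, i < 19000 → P i := stepQ 18999 Q18999 (allL N18999 (tt N21053 (iv F69957)) (tt N20694 (iv F68682)) (tt N21563 (iv F71638)) (tt N15362 F63141) (tt N21564 (iv F71643)) (tt N18185 F63142) (tt N15361 (iv D29339)))
theorem Q19001 : ∀ i, i < 19001 → P i := stepQ 19000 Q19000 (allL N19000 (tt N15365 F63143) (tt N17690 F63144) (tt N19330 (iv F64073)) (tt N15363 (iv D29340)) (tt N20704 (iv F68731)) (tt N17960 F63145) (tt N20702 (iv F68724)))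
theorem Q19002 : ∀ i, i < 19002 → P i := stepQ 19001 Q19001 (allL N19001 (tt N15364 (iv D29341)) (tt N21565 D31920) (tt N15368 F63146) (tt N21566 D31921) (tt N19197 (iv F63616)) (tt N21567 D31922) (tt N18994 (iv F63147)))
theorem Q19003 : ∀ i, i < 19003 → P i := stepQ 19002 Q19002 (allL N19002 (tt N21566 (iv F71649)) (tt N15365 F63148) (tt N21568 D31923) (tt N15364 (iv D29342)) (tt N21569 D31924) (tt N21570 D31925) (tt N21571 D31926))
theorem Q19004 : ∀ i, i < 19004 → P i := stepQ 19003 Q19003 (allL N19003 (tt N21567 (iv F71651)) (tt N21572 D31927) (tt N15370 F63149) (tt N21570 (iv F71655)) (tt N19200 (iv F63622)) (tt N15364 (iv D29343)) (tt N15379 F63150))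
theorem Q19005 : ∀ i, i < 19005 → P i := stepQ 19004 Q19004 (allL N19004 (tt N18994 F63151) (tt N18576 F63152) (tt N15371 F63153) (tt N21571 (iv F71659)) (tt N19191 (iv F63597)) (tt N19025 (iv F63192)) (tt N15364 (iv D29344)))
theorem Q19006 : ∀ i, i < 19006 → P i := stepQ 19005 Q19005 (allL N19005 (tt N19330 (iv F64072)) (tt N21573 D31928) (tt N15365 (iv D29345)) (tt N19320 (iv F64044)) (tt N17785 (iv F63160)) (tt N17783 F63159) (tt N20755 (iv F68939)))
theorem Q19007 : ∀ i, i < 19007 → P i := stepQ 19006 Q19006 (allL N19006 (tt N20704 (iv F68728)) (tt N21569 (iv F71654)) (tt N17785 F63161) (tt N19202 (iv F63630)) (tt N15365 (iv D29346)) (tt N17686 (iv F63162)) (tt N20701 (iv F68719)))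
theorem Q19008 : ∀ i, i < 19008 → P i := stepQ 19007 Q19007 (allL N19007 (tt N17960 F63154) (tt N21036 (iv F69915)) (tt N17783 (iv F63158)) (tt N15366 F63155) (tt N17686 (iv F63156)) (tt N15365 (iv D29347)) (tt N17684 (iv F63157)))
theorem Q19009 : ∀ i, i < 19009 → P i := stepQ 19008 Q19008 (allL N19008 (tt N20702 (iv F68720)) (tt N19702 F65321) (tt N20755 (iv F68936)) (tt N15367 F63163) (tt N20701 (iv F68718)) (tt N19710 (iv F65344)) (tt N15365 (iv D29348)))
theorem Q19010 : ∀ i, i < 19010 → P i := stepQ 19009 Q19009 (allL N19009 (tt N21038 (iv F69922)) (tt N15366 (iv D29349)) (tt N19090 (iv F63336)) (tt N21036 F69918) (tt N18627 F63164) (tt N21572 (iv F71662)) (tt N21550 (iv F71592)))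
theorem Q19011 : ∀ i, i < 19011 → P i := stepQ 19010 Q19010 (allL N19010 (tt N15369 F63165) (tt N19194 (iv F63603)) (tt N21574 D31929) (tt N15368 (iv D29350)) (tt N21575 D31930) (tt N21576 D31931) (tt N18993 F63166))
theorem Q19012 : ∀ i, i < 19012 → P i := stepQ 19011 Q19011 (allL N19011 (tt N15370 F63167) (tt N21577 D31932) (tt N21567 (iv F71652)) (tt N21576 (iv F71674)) (tt N19198 (iv F63618)) (tt N15368 (iv D29351)) (tt N15378 F63168))
theorem Q19013 : ∀ i, i < 19013 → P i := stepQ 19012 Q19012 (allL N19012 (tt N21574 (iv F71668)) (tt N19345 (iv F64125)) (tt N15369 (iv D29352)) (tt N19351 (iv F64136)) (tt N21578 D31933) (tt N19080 F63317) (tt N19567 (iv F64889)))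
theorem Q19014 : ∀ i, i < 19014 → P i := stepQ 19013 Q19013 (allL N19013 (tt N21575 (iv F71671)) (tt N15372 F63169) (tt N21578 (iv F71676)) (tt N19193 (iv F63601)) (tt N15369 (iv D29353)) (tt N21579 D31934) (tt N21580 D31935))
theorem Q19015 : ∀ i, i < 19015 → P i := stepQ 19014 Q19014 (allL N19014 (tt N21576 (iv F71673)) (tt N19059 (iv F63267)) (tt N19080 (iv F63314)) (tt N15370 F63170) (tt N21579 (iv F71677)) (tt N15369 (iv D29354)) (tt N15377 F63171))
theorem Q19016 : ∀ i, i < 19016 → P i := stepQ 19015 Q19015 (allL N19015 (tt N18993 F63172) (tt N15399 F63173) (tt N19567 F64890) (tt N15371 F63174) (tt N21580 (iv F71681)) (tt N19022 (iv F63190)) (tt N15369 (iv D29355)))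
theorem Q19017 : ∀ i, i < 19017 → P i := stepQ 19016 Q19016 (allL N19016 (tt N19570 (iv F64901)) (tt N15374 F63175) (tt N21556 (iv F71617)) (tt N15478 F63176) (tt N15373 (iv D29356)) (tt N15516 F63177) (tt N21581 D31936))
theorem Q19018 : ∀ i, i < 19018 → P i := stepQ 19017 Q19017 (allL N19017 (tt N19572 (iv F64907)) (tt N15412 F63178) (tt N21557 (iv F71620)) (tt N15987 F63179) (tt N21581 (iv F71684)) (tt N15985 F63180) (tt N15373 (iv D29357)))
theorem Q19019 : ∀ i, i < 19019 → P i := stepQ 19018 Q19018 (allL N19018 (tt N19354 (iv F64143)) (tt N15478 F63181) (tt N21582 D31937) (tt N15374 (iv D29358)) (tt N15477 F63182) (tt N21583 D31938) (tt N15413 F63183))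
theorem Q19020 : ∀ i, i < 19020 → P i := stepQ 19019 Q19019 (allL N19019 (tt N19076 (iv F63305)) (tt N21584 D31939) (tt N15376 F63184) (tt N21583 (iv F71690)) (tt N15375 F63185) (tt N15374 (iv D29359)) (tt N15757 F63186))
theorem Q19021 : ∀ i, i < 19021 → P i := stepQ 19020 Q19020 (allL N19020 (tt N19157 (iv F64388)) (tt N15375 (iv D29360)) (tt N19079 (iv F63312)) (tt N15764 F63187) (tt N21584 (iv F71694)) (tt N19621 (iv F65079)) (tt N19078 F63311))
theorem Q19022 : ∀ i, i < 19022 → P i := stepQ 19021 Q19021 (allL N19021 (tt N21585 D31940) (tt N15376 (iv D29361)) (tt N21586 D31941) (tt N19217 (iv F63672)) (tt N15377 F63188) (tt N21560 (iv F71630)) (tt N21579 (iv F71678)))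
theorem Q19023 : ∀ i, i < 19023 → P i := stepQ 19022 Q19022 (allL N19022 (tt N15377 (iv D29362)) (tt N21587 D31942) (tt N21588 D31943) (tt N15378 F63189) (tt N21585 (iv F71696)) (tt N19015 F63190) (tt N21576 (iv F71675)))
theorem Q19024 : ∀ i, i < 19024 → P i := stepQ 19023 Q19023 (allL N19023 (tt N21588 (iv F71700)) (tt N19079 F63313) (tt N15377 (iv D29363)) (tt N19360 (iv F64152)) (tt N21586 (iv F71698)) (tt N21561 (iv F71633)) (tt N19080 (iv F63316)))
theorem Q19025 : ∀ i, i < 19025 → P i := stepQ 19024 Q19024 (allL N19024 (tt N21589 D31944) (tt N15378 (iv D29364)) (tt N21590 D31945) (tt N21587 (iv F71699)) (tt N19220 (iv F63681)) (tt N19055 (iv F63258)) (tt N21591 D31946))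
theorem Q19026 : ∀ i, i < 19026 → P i := stepQ 19025 Q19025 (allL N19025 (tt N15379 F63191) (tt N21592 D31947) (tt N15378 (iv D29365)) (tt N21593 D31948) (tt N19221 (iv F63684)) (tt N19004 F63192) (tt N21567 (iv F71653)))
theorem Q19027 : ∀ i, i < 19027 → P i := stepQ 19026 Q19026 (allL N19026 (tt N21593 (iv F71714)) (tt N15381 F63193) (tt N21159 (iv F70279)) (tt N15379 (iv D29366)) (tt N21170 (iv F70306)) (tt N21562 (iv F71636)) (tt N21570 (iv F71656)))
theorem Q19028 : ∀ i, i < 19028 → P i := stepQ 19027 Q19027 (allL N19027 (tt N18975 (iv F63196)) (tt N15380 (iv D29367)) (tt N18791 F63194) (tt N20692 (iv F68676)) (tt N18971 F63195) (tt N18970 (iv F63197)) (tt N20699 (iv F68708)))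
theorem Q19029 : ∀ i, i < 19029 → P i := stepQ 19028 Q19028 (allL N19028 (tt N15381 F63198) (tt N20692 (iv F68674)) (tt N17284 F63199) (tt N15380 (iv D29368)) (tt N20126 (iv F66743)) (tt N15384 F63200) (tt N18281 F63201))
theorem Q19030 : ∀ i, i < 19030 → P i := stepQ 19029 Q19029 (allL N19029 (tt N18281 F63202) (tt N21594 D31949) (tt N20815 (iv F69183)) (tt N15382 F63203) (tt N20816 (iv F69190)) (tt N19033 (iv F63216)) (tt N15381 (iv D29369)))
theorem Q19031 : ∀ i, i < 19031 → P i := stepQ 19030 Q19030 (allL N19030 (tt N21595 D31950) (tt N15382 (iv D29370)) (tt N18642 F63204) (tt N21594 (iv F71719)) (tt N19224 (iv F63692)) (tt N21596 D31951) (tt N21572 (iv F71663)))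
theorem Q19032 : ∀ i, i < 19032 → P i := stepQ 19031 Q19031 (allL N19031 (tt N17686 F63205) (tt N15384 F63206) (tt N17781 (iv F63209)) (tt N15383 (iv D29371)) (tt N17960 F63207) (tt N20704 (iv F68732)) (tt N17683 F63208))
theorem Q19033 : ∀ i, i < 19033 → P i := stepQ 19032 Q19032 (allL N19032 (tt N19202 (iv F63628)) (tt N18970 F63210) (tt N18816 F63211) (tt N20704 (iv F68730)) (tt N18629 F63212) (tt N15383 (iv D29372)) (tt N18809 F63213))
theorem Q19034 : ∀ i, i < 19034 → P i := stepQ 19033 Q19033 (allL N19033 (tt N15388 F63214) (tt N19729 F65404) (tt N19374 (iv F64198)) (tt N15385 F63215) (tt N19732 (iv F65409)) (tt N19029 F63216) (tt N15384 (iv D29373)))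
theorem Q19035 : ∀ i, i < 19035 → P i := stepQ 19034 Q19034 (allL N19034 (tt N21338 (iv F70888)) (tt N15385 (iv D29374)) (tt N18048 F63217) (tt N19729 (iv F65405)) (tt N18787 F63218) (tt N19726 F65406) (tt N21337 F70887))
theorem Q19036 : ∀ i, i < 19036 → P i := stepQ 19035 Q19035 (allL N19035 (tt N19374 (iv F64197)) (tt N20870 (iv F69400)) (tt N15388 F63219) (tt N19371 (iv F64185)) (tt N18524 F63220) (tt N20503 (iv F68005)) (tt N15386 (iv D29375)))
theorem Q19037 : ∀ i, i < 19037 → P i := stepQ 19036 Q19036 (allL N19036 (tt N19732 F65411) (tt N21039 (iv F69924)) (tt N18524 F63221) (tt N20130 (iv F66756)) (tt N15388 F63222) (tt N18553 (iv F63223)) (tt N15387 (iv D29376)))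
theorem Q19038 : ∀ i, i < 19038 → P i := stepQ 19037 Q19037 (allL N19037 (tt N15389 (iv D29377)) (tt N21597 D31952) (tt N18739 F63224) (tt N21041 (iv F69932)) (tt N20988 (iv F69770)) (tt N20969 F69726) (tt N21031 (iv F69906)))
theorem Q19039 : ∀ i, i < 19039 → P i := stepQ 19038 Q19038 (allL N19038 (tt N20874 (iv F69419)) (tt N20311 (iv F67325)) (tt N20876 (iv F69431)) (tt N15391 (iv D29378)) (tt N21366 (iv F70992)) (tt N15408 F63225) (tt N18641 F63226))
theorem Q19040 : ∀ i, i < 19040 → P i := stepQ 19039 Q19039 (allL N19039 (tt N19039 F63227) (tt N15393 F63228) (tt N21598 D31953) (tt N15392 (iv D29379)) (tt N21599 D31954) (tt N19176 (iv F63559)) (tt N19176 (iv F63560)))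
theorem Q19041 : ∀ i, i < 19041 → P i := stepQ 19040 Q19040 (allL N19040 (tt N15396 F63229) (tt N21600 D31955) (tt N15393 (iv D29380)) (tt N15977 F63230) (tt N21601 D31956) (tt N19451 F64480) (tt N15975 (iv F63231)))
theorem Q19042 : ∀ i, i < 19042 → P i := stepQ 19041 Q19041 (allL N19041 (tt N15397 F63232) (tt N21599 (iv F71734)) (tt N21601 (iv F71739)) (tt N19178 (iv F63565)) (tt N15393 (iv D29381)) (tt N21602 D31957) (tt N21603 D31958))
theorem Q19043 : ∀ i, i < 19043 → P i := stepQ 19042 Q19042 (allL N19042 (tt N15398 F63233) (tt N19179 (iv F63567)) (tt N19451 (iv F64478)) (tt N15394 F63234) (tt N21602 (iv F71743)) (tt N15393 (iv D29382)) (tt N19052 (iv F63256)))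
theorem Q19044 : ∀ i, i < 19044 → P i := stepQ 19043 Q19043 (allL N19043 (tt N15399 F63235) (tt N19180 (iv F63571)) (tt N15975 F63236) (tt N15395 F63237) (tt N21603 (iv F71746)) (tt N19051 (iv F63253)) (tt N15393 (iv D29383)))
theorem Q19045 : ∀ i, i < 19045 → P i := stepQ 19044 Q19044 (allL N19044 (tt N15977 F63238) (tt N17787 F63239) (tt N16145 F63240) (tt N15396 (iv D29384)) (tt N15970 (iv F63241)) (tt N19645 (iv F65153)) (tt N15968 (iv F63242)))
theorem Q19046 : ∀ i, i < 19046 → P i := stepQ 19045 Q19045 (allL N19045 (tt N21601 (iv F71738)) (tt N19435 (iv F64437)) (tt N15397 F63243) (tt N21604 D31959) (tt N15396 (iv D29385)) (tt N21605 D31960) (tt N21606 D31961))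
theorem Q19047 : ∀ i, i < 19047 → P i := stepQ 19046 Q19046 (allL N19046 (tt N19451 F64479) (tt N21607 D31962) (tt N15398 F63244) (tt N19645 (iv F65151)) (tt N21605 (iv F71751)) (tt N15396 (iv D29386)) (tt N19644 (iv F65149)))
theorem Q19048 : ∀ i, i < 19048 → P i := stepQ 19047 Q19047 (allL N19047 (tt N15975 F63245) (tt N19571 (iv F64905)) (tt N15399 F63246) (tt N15968 F63247) (tt N21606 (iv F71755)) (tt N21608 D31963) (tt N15396 (iv D29387)))
theorem Q19049 : ∀ i, i < 19049 → P i := stepQ 19048 Q19048 (allL N19048 (tt N21602 (iv F71742)) (tt N21609 D31964) (tt N21605 (iv F71750)) (tt N19185 (iv F63583)) (tt N15398 F63248) (tt N15397 (iv D29388)) (tt N21610 D31965))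
theorem Q19050 : ∀ i, i < 19050 → P i := stepQ 19049 Q19049 (allL N19049 (tt N21603 (iv F71744)) (tt N21580 (iv F71680)) (tt N21606 (iv F71753)) (tt N19186 (iv F63585)) (tt N15399 F63249) (tt N21611 D31966) (tt N15397 (iv D29389)))
theorem Q19051 : ∀ i, i < 19051 → P i := stepQ 19050 Q19050 (allL N19050 (tt N19058 (iv F63264)) (tt N15398 (iv D29390)) (tt N19057 (iv F63266)) (tt N15400 F63250) (tt N21609 (iv F71762)) (tt N15404 F63251) (tt N19084 (iv F63323)))
theorem Q19052 : ∀ i, i < 19052 → P i := stepQ 19051 Q19051 (allL N19051 (tt N19052 (iv F63254)) (tt N21612 D31967) (tt N19644 (iv F65147)) (tt N15401 F63252) (tt N21610 (iv F71764)) (tt N19043 F63253) (tt N15398 (iv D29391)))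
theorem Q19053 : ∀ i, i < 19053 → P i := stepQ 19052 Q19052 (allL N19052 (tt N19051 F63254) (tt N21613 D31968) (tt N21608 (iv F71759)) (tt N15402 F63255) (tt N21611 (iv F71767)) (tt N15399 (iv D29392)) (tt N19042 F63256))
theorem Q19054 : ∀ i, i < 19054 → P i := stepQ 19053 Q19053 (allL N19053 (tt N19085 (iv F63324)) (tt N20312 (iv F67326)) (tt N15400 (iv D29393)) (tt N21614 D31969) (tt N19142 (iv F63477)) (tt N15406 F63257) (tt N19087 (iv F63330)))
theorem Q19055 : ∀ i, i < 19055 → P i := stepQ 19054 Q19054 (allL N19054 (tt N21615 D31970) (tt N15401 (iv D29394)) (tt N21616 D31971) (tt N21612 (iv F71770)) (tt N19190 (iv F63594)) (tt N19190 (iv F63595)) (tt N19086 (iv F63328)))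
theorem Q19056 : ∀ i, i < 19056 → P i := stepQ 19055 Q19055 (allL N19055 (tt N21617 D31972) (tt N15402 (iv D29395)) (tt N20221 (iv F67082)) (tt N21613 (iv F71771)) (tt N19192 (iv F63599)) (tt N19024 F63258) (tt N19192 (iv F63600)))
theorem Q19057 : ∀ i, i < 19057 → P i := stepQ 19056 Q19056 (allL N19056 (tt N21618 D31973) (tt N15403 (iv D29396)) (tt N21619 D31974) (tt N19152 (iv F63500)) (tt N15404 F63259) (tt N21609 (iv F71763)) (tt N21620 D31975))
theorem Q19058 : ∀ i, i < 19058 → P i := stepQ 19057 Q19057 (allL N19057 (tt N15404 (iv D29397)) (tt N19149 (iv F63494)) (tt N19050 F63266) (tt N15405 F63260) (tt N21618 (iv F71784)) (tt N19058 (iv F63265)) (tt N21621 D31976))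
theorem Q19059 : ∀ i, i < 19059 → P i := stepQ 19058 Q19058 (allL N19058 (tt N19050 F63264) (tt N15420 F63261) (tt N15404 (iv D29398)) (tt N15422 (iv F63262)) (tt N21619 (iv F71788)) (tt N19057 F63265) (tt N15421 (iv F63263)))
theorem Q19060 : ∀ i, i < 19060 → P i := stepQ 19059 Q19059 (allL N19059 (tt N21621 (iv F71795)) (tt N19014 F63267) (tt N15421 F63268) (tt N15407 F63269) (tt N21620 (iv F71793)) (tt N15421 F63270) (tt N15404 (iv D29399)))
theorem Q19061 : ∀ i, i < 19061 → P i := stepQ 19060 Q19060 (allL N19060 (tt N15406 F63271) (tt N21622 D31977) (tt N15405 (iv D29400)) (tt N21623 D31978) (tt N19140 (iv F63471)) (tt N19085 (iv F63326)) (tt N21624 D31979))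
theorem Q19062 : ∀ i, i < 19062 → P i := stepQ 19061 Q19061 (allL N19061 (tt N15407 F63272) (tt N21625 D31980) (tt N21624 (iv F71803)) (tt N21621 (iv F71797)) (tt N19150 (iv F63497)) (tt N15423 F63273) (tt N15405 (iv D29401)))
theorem Q19063 : ∀ i, i < 19063 → P i := stepQ 19062 Q19062 (allL N19062 (tt N21623 (iv F71801)) (tt N15408 F63274) (tt N21614 (iv F71774)) (tt N15406 (iv D29402)) (tt N21626 D31981) (tt N21614 (iv F71773)) (tt N21627 D31982))
theorem Q19064 : ∀ i, i < 19064 → P i := stepQ 19063 Q19063 (allL N19063 (tt N21624 (iv F71802)) (tt N21281 (iv F70676)) (tt N15407 F63275) (tt N21627 (iv F71811)) (tt N19143 (iv F63479)) (tt N15424 (iv F63276)) (tt N15406 (iv D29403)))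
theorem Q19065 : ∀ i, i < 19065 → P i := stepQ 19064 Q19064 (allL N19064 (tt N18686 F63277) (tt N21628 D31983) (tt N15408 (iv D29404)) (tt N18656 F63278) (tt N18766 (iv F63280)) (tt N20876 (iv F69434)) (tt N18037 F63279))
theorem Q19066 : ∀ i, i < 19066 → P i := stepQ 19065 Q19065 (allL N19065 (tt N19169 (iv F63539)) (tt N21626 (iv F71809)) (tt N18766 F63281) (tt N19145 (iv F63481)) (tt N15408 (iv D29405)) (tt N21366 (iv F70993)) (tt N18758 F63282))
theorem Q19067 : ∀ i, i < 19067 → P i := stepQ 19066 Q19066 (allL N19066 (tt N21629 D31984) (tt N15409 (iv D29406)) (tt N21294 (iv F70712)) (tt N19414 (iv F64326)) (tt N21630 D31985) (tt N19066 F63288) (tt N19453 (iv F64483)))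
theorem Q19068 : ∀ i, i < 19068 → P i := stepQ 19067 Q19067 (allL N19067 (tt N15410 F63283) (tt N21630 (iv F71819)) (tt N19067 F63284) (tt N21631 D31986) (tt N15409 (iv D29407)) (tt N21632 D31987) (tt N19206 F64367))
theorem Q19069 : ∀ i, i < 19069 → P i := stepQ 19068 Q19068 (allL N19068 (tt N15411 F63285) (tt N19068 F63287) (tt N19068 F63286) (tt N19416 (iv F64331)) (tt N21632 (iv F71830)) (tt N15409 (iv D29408)) (tt N15513 (iv F64363)))
theorem Q19070 : ∀ i, i < 19070 → P i := stepQ 19069 Q19069 (allL N19069 (tt N21631 (iv F71822)) (tt N15413 F63291) (tt N21633 D31988) (tt N15410 (iv D29410)) (tt N19417 (iv F64335)) (tt N21634 D31989) (tt N21635 D31990))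
theorem Q19071 : ∀ i, i < 19071 → P i := stepQ 19070 Q19070 (allL N19070 (tt N21632 (iv F71827)) (tt N21636 D31991) (tt N19070 F63292) (tt N21634 (iv F71835)) (tt N15411 F63293) (tt N15410 (iv D29411)) (tt N15514 F64357))
theorem Q19072 : ∀ i, i < 19072 → P i := stepQ 19071 Q19071 (allL N19071 (tt N19206 (iv F64368)) (tt N21581 (iv F71682)) (tt N19071 F63294) (tt N21635 (iv F71839)) (tt N15412 F63295) (tt N19204 F64369) (tt N15410 (iv D29412)))
theorem Q19073 : ∀ i, i < 19073 → P i := stepQ 19072 Q19072 (allL N19072 (tt N21637 D31992) (tt N15411 (iv D29413)) (tt N21638 D31993) (tt N19419 (iv F64338)) (tt N21636 (iv F71841)) (tt N15415 F63296) (tt N15518 F64356))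
theorem Q19074 : ∀ i, i < 19074 → P i := stepQ 19073 Q19073 (allL N19073 (tt N19448 (iv F64469)) (tt N21639 D31994) (tt N15413 (iv D29416)) (tt N19648 (iv F65165)) (tt N16410 F63302) (tt N21640 D31995) (tt N21582 (iv F71688)))
theorem Q19075 : ∀ i, i < 19075 → P i := stepQ 19074 Q19074 (allL N19074 (tt N19449 (iv F64472)) (tt N21641 D31996) (tt N21640 (iv F71852)) (tt N15414 F63303) (tt N19420 (iv F64347)) (tt N15413 (iv D29417)) (tt N21642 D31997))
theorem Q19076 : ∀ i, i < 19076 → P i := stepQ 19075 Q19075 (allL N19075 (tt N21633 (iv F71832)) (tt N15414 (iv D29418)) (tt N21631 F71826) (tt N21641 (iv F71856)) (tt N15415 F63304) (tt N21636 (iv F71842)) (tt N21643 D31998))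
theorem Q19077 : ∀ i, i < 19077 → P i := stepQ 19076 Q19076 (allL N19076 (tt N19019 F63305) (tt N21644 D31999) (tt N15418 F63306) (tt N21642 (iv F71860)) (tt N15416 F63307) (tt N15662 F63308) (tt N15414 (iv D29419)))
theorem Q19078 : ∀ i, i < 19078 → P i := stepQ 19077 Q19077 (allL N19077 (tt N15415 (iv D29420)) (tt N20751 (iv F68919)) (tt N19417 (iv F64387)) (tt N17812 F63309) (tt N21633 (iv F71833)) (tt N21637 (iv F71845)) (tt N19213 (iv F64392)))
theorem Q19079 : ∀ i, i < 19079 → P i := stepQ 19078 Q19078 (allL N19078 (tt N19417 F64385) (tt N15419 F63310) (tt N15415 (iv D29421)) (tt N19415 (iv F64382)) (tt N21631 (iv F71824)) (tt N21638 (iv F71848)) (tt N19020 (iv F63311)))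
theorem Q19080 : ∀ i, i < 19080 → P i := stepQ 19079 Q19079 (allL N19079 (tt N19213 F64389) (tt N19023 (iv F63313)) (tt N19020 F63312) (tt N19421 (iv F64351)) (tt N21643 (iv F71864)) (tt N19211 (iv F64391)) (tt N15415 (iv D29422)))
theorem Q19081 : ∀ i, i < 19081 → P i := stepQ 19080 Q19080 (allL N19080 (tt N21645 D32000) (tt N15416 (iv D29423)) (tt N19014 F63314) (tt N15665 F63315) (tt N21644 (iv F71867)) (tt N19012 (iv F63317)) (tt N19023 F63316))
theorem Q19082 : ∀ i, i < 19082 → P i := stepQ 19081 Q19081 (allL N19081 (tt N19129 (iv F63438)) (tt N21631 (iv F71823)) (tt N15417 (iv D29424)) (tt N21630 (iv F71820)) (tt N15419 F63318) (tt N19081 F63319) (tt N19450 F64477))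
theorem Q19083 : ∀ i, i < 19083 → P i := stepQ 19082 Q19082 (allL N19082 (tt N19131 (iv F63446)) (tt N21619 (iv F71787)) (tt N19450 F64476) (tt N19131 (iv F63447)) (tt N15420 F63320) (tt N19131 (iv F63449)) (tt N15417 (iv D29425)))
theorem Q19084 : ∀ i, i < 19084 → P i := stepQ 19083 Q19083 (allL N19083 (tt N21646 D32001) (tt N15418 (iv D29426)) (tt N21620 (iv F71792)) (tt N19158 (iv F63513)) (tt N15421 F63321) (tt N21620 (iv F71794)) (tt N21619 F71790))
theorem Q19085 : ∀ i, i < 19085 → P i := stepQ 19084 Q19084 (allL N19084 (tt N15421 (iv D29427)) (tt N21647 D32002) (tt N21621 (iv F71796)) (tt N15423 F63322) (tt N21646 (iv F71874)) (tt N21621 (iv F71798)) (tt N19050 F63323))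
theorem Q19086 : ∀ i, i < 19086 → P i := stepQ 19085 Q19085 (allL N19085 (tt N19053 F63324) (tt N18230 F63325) (tt N15422 (iv D29428)) (tt N21648 D32003) (tt N19133 (iv F63453)) (tt N19060 F63326) (tt N15424 F63327))
theorem Q19087 : ∀ i, i < 19087 → P i := stepQ 19086 Q19086 (allL N19086 (tt N21649 D32004) (tt N15423 (iv D29429)) (tt N21650 D32005) (tt N21647 (iv F71876)) (tt N19161 (iv F63517)) (tt N21651 D32006) (tt N19054 F63328))
theorem Q19088 : ∀ i, i < 19088 → P i := stepQ 19087 Q19087 (allL N19087 (tt N15424 F63329) (tt N21652 D32007) (tt N15423 (iv D29430)) (tt N21653 D32008) (tt N19162 (iv F63519)) (tt N21624 (iv F71804)) (tt N19053 F63330))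
theorem Q19089 : ∀ i, i < 19089 → P i := stepQ 19088 Q19088 (allL N19088 (tt N21653 (iv F71895)) (tt N15426 F63331) (tt N21654 D32009) (tt N15424 (iv D29431)) (tt N21655 D32010) (tt N21627 F71812) (tt N21648 (iv F71882)))
theorem Q19090 : ∀ i, i < 19090 → P i := stepQ 19089 Q19089 (allL N19089 (tt N16697 F63332) (tt N21655 (iv F71903)) (tt N16696 F63333) (tt N18374 F63334) (tt N15426 (iv D29432)) (tt N20124 (iv F66734)) (tt N16700 F63335))
theorem Q19091 : ∀ i, i < 19091 → P i := stepQ 19090 Q19090 (allL N19090 (tt N21656 D32011) (tt N15427 (iv D29433)) (tt N19009 F63336) (tt N20246 (iv F67133)) (tt N19167 (iv F63533)) (tt N21281 F70678) (tt N21657 D32012))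
theorem Q19092 : ∀ i, i < 19092 → P i := stepQ 19091 Q19091 (allL N19091 (tt N19091 F63337) (tt N15428 (iv D29434)) (tt N21282 (iv F70680)) (tt N21658 D32013) (tt N18760 F63338) (tt N21282 (iv F70681)) (tt N21659 D32014))
theorem Q19093 : ∀ i, i < 19093 → P i := stepQ 19092 Q19092 (allL N19092 (tt N15429 F63339) (tt N21658 (iv F71917)) (tt N19483 (iv F64585)) (tt N15428 (iv D29435)) (tt N20738 (iv F68869)) (tt N15440 F63340) (tt N18034 F63341))
theorem Q19094 : ∀ i, i < 19094 → P i := stepQ 19093 Q19093 (allL N19093 (tt N19483 (iv F64583)) (tt N21660 D32015) (tt N15429 (iv D29436)) (tt N19481 (iv F64577)) (tt N21154 F70270) (tt N15441 F63342) (tt N20868 (iv F69395)))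
theorem Q19095 : ∀ i, i < 19095 → P i := stepQ 19094 Q19094 (allL N19094 (tt N20738 (iv F68866)) (tt N20307 (iv F67310)) (tt N21154 (iv F70267)) (tt N20733 (iv F68846)) (tt N15429 (iv D29437)) (tt N15442 F63343) (tt N20732 F68842))
theorem Q19096 : ∀ i, i < 19096 → P i := stepQ 19095 Q19095 (allL N19095 (tt N18034 F63344) (tt N21054 (iv F69962)) (tt N20868 (iv F69391)) (tt N15430 F63345) (tt N20732 (iv F68840)) (tt N18957 F63346) (tt N15429 (iv D29438)))
theorem Q19097 : ∀ i, i < 19097 → P i := stepQ 19096 Q19096 (allL N19096 (tt N21180 (iv F70342)) (tt N15430 (iv D29439)) (tt N18956 F63347) (tt N21054 (iv F69964)) (tt N17625 F63348) (tt N20238 (iv F67116)) (tt N20309 (iv F67319)))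
theorem Q19098 : ∀ i, i < 19098 → P i := stepQ 19097 Q19097 (allL N19097 (tt N18022 F63349) (tt N17007 F63350) (tt N20909 (iv F69565)) (tt N15431 (iv D29440)) (tt N20675 (iv F68616)) (tt N20863 (iv F69379)) (tt N17618 F63351))
theorem Q19099 : ∀ i, i < 19099 → P i := stepQ 19098 Q19098 (allL N19098 (tt N20243 (iv F67126)) (tt N20303 (iv F67302)) (tt N19107 (iv F71953)) (tt N15432 (iv D29441)) (tt N19106 (iv F71952)) (tt N15438 F63352) (tt N20242 F67125))
theorem Q19100 : ∀ i, i < 19100 → P i := stepQ 19099 Q19099 (allL N19099 (tt N15433 (iv D29442)) (tt N15437 F63353) (tt N21661 D32018) (tt N15437 F63354) (tt N15434 F63355) (tt N18228 F63356) (tt N15434 F63357))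
theorem Q19101 : ∀ i, i < 19101 → P i := stepQ 19100 Q19100 (allL N19100 (tt N21661 (iv F71930)) (tt N18479 F63358) (tt N15433 (iv D29443)) (tt N18487 (iv F63362)) (tt N15435 F63359) (tt N18229 F63360) (tt N15435 F63361))
theorem Q19102 : ∀ i, i < 19102 → P i := stepQ 19101 Q19101 (allL N19101 (tt N15435 F63363) (tt N21662 D32019) (tt N15434 (iv D29444)) (tt N21663 D32020) (tt N21661 (iv F71931)) (tt N21010 (iv F69825)) (tt N21661 (iv F71933)))
theorem Q19103 : ∀ i, i < 19103 → P i := stepQ 19102 Q19102 (allL N19102 (tt N21663 (iv F71938)) (tt N18098 F63364) (tt N21664 D32021) (tt N15435 (iv D29445)) (tt N21665 D32022) (tt N21401 (iv F71106)) (tt N18487 F63365))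
theorem Q19104 : ∀ i, i < 19104 → P i := stepQ 19103 Q19103 (allL N19103 (tt N21622 (iv F71799)) (tt N15436 (iv D29446)) (tt N20991 (iv F69781)) (tt N21666 D32023) (tt N20991 (iv F69782)) (tt N21622 (iv F71800)) (tt N21667 D32024))
theorem Q19105 : ∀ i, i < 19105 → P i := stepQ 19104 Q19104 (allL N19104 (tt N15438 F63366) (tt N21666 (iv F71946)) (tt N21668 D32025) (tt N15436 (iv D29447)) (tt N21669 D32026) (tt N20243 F67128) (tt N21670 D32027))
theorem Q19106 : ∀ i, i < 19106 → P i := stepQ 19105 Q19105 (allL N19105 (tt N15439 F63367) (tt N21671 D32028) (tt N15437 F63368) (tt N21670 (iv F71961)) (tt N19135 (iv F63459)) (tt N18231 F63369) (tt N15436 (iv D29448)))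
theorem Q19107 : ∀ i, i < 19107 → P i := stepQ 19106 Q19106 (allL N19106 (tt N21668 (iv F71948)) (tt N21672 D32029) (tt N15438 (iv D29449)) (tt N21673 D32030) (tt N19098 F71952) (tt N19107 (iv F71954)) (tt N21674 D32031))
theorem Q19108 : ∀ i, i < 19108 → P i := stepQ 19107 Q19107 (allL N19107 (tt N21669 (iv F71955)) (tt N15442 F63370) (tt N19098 F71953) (tt N20994 (iv F69787)) (tt N15438 (iv D29450)) (tt N19106 F71954) (tt N21675 D32032))
theorem Q19109 : ∀ i, i < 19109 → P i := stepQ 19108 Q19108 (allL N19108 (tt N21670 (iv F71959)) (tt N21656 (iv F71909)) (tt N21674 (iv F71981)) (tt N15439 F63371) (tt N21675 (iv F71987)) (tt N16919 (iv F63372)) (tt N15438 (iv D29451)))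
theorem Q19110 : ∀ i, i < 19110 → P i := stepQ 19109 Q19109 (allL N19109 (tt N20246 (iv F67135)) (tt N15439 (iv D29452)) (tt N18311 F63373) (tt N21656 (iv F71906)) (tt N18313 F63374) (tt N18232 F63375) (tt N15444 F63376))
theorem Q19111 : ∀ i, i < 19111 → P i := stepQ 19110 Q19110 (allL N19110 (tt N15442 F63377) (tt N19169 (iv F63540)) (tt N19521 (iv F64724)) (tt N20740 (iv F68878)) (tt N15440 (iv D29453)) (tt N20738 (iv F68870)) (tt N19164 F63525))
theorem Q19112 : ∀ i, i < 19112 → P i := stepQ 19111 Q19111 (allL N19111 (tt N21676 D32033) (tt N15441 (iv D29454)) (tt N21672 (iv F71968)) (tt N19515 (iv F64705)) (tt N21677 D32034) (tt N21678 D32035) (tt N21299 F70732))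
theorem Q19113 : ∀ i, i < 19113 → P i := stepQ 19112 Q19112 (allL N19112 (tt N19521 (iv F64723)) (tt N21677 (iv F71991)) (tt N15442 F63378) (tt N21146 (iv F70242)) (tt N15441 (iv D29455)) (tt N21154 (iv F70268)) (tt N18747 (iv F63382)))
theorem Q19114 : ∀ i, i < 19114 → P i := stepQ 19113 Q19113 (allL N19113 (tt N19522 (iv F64727)) (tt N20884 (iv F69462)) (tt N15443 F63379) (tt N19255 (iv F63796)) (tt N18747 F63381) (tt N18027 (iv F63380)) (tt N15441 (iv D29456)))
theorem Q19115 : ∀ i, i < 19115 → P i := stepQ 19114 Q19114 (allL N19114 (tt N19164 (iv F63524)) (tt N21679 D32036) (tt N18747 F63383) (tt N17735 F63384) (tt N15443 F63385) (tt N17755 (iv F63386)) (tt N15442 (iv D29457)))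
theorem Q19116 : ∀ i, i < 19116 → P i := stepQ 19115 Q19115 (allL N19115 (tt N21657 (iv F71910)) (tt N15443 (iv D29458)) (tt N21596 (iv F71728)) (tt N15444 F63387) (tt N21679 (iv F72001)) (tt N18642 F63388) (tt N21656 F71908))
theorem Q19117 : ∀ i, i < 19117 → P i := stepQ 19116 Q19116 (allL N19116 (tt N15444 (iv D29459)) (tt N19815 F65668) (tt N18806 F63389) (tt N21657 (iv F71913)) (tt N19817 (iv F65667)) (tt N21015 (iv F69843)) (tt N20246 (iv F67134)))
theorem Q19118 : ∀ i, i < 19118 → P i := stepQ 19117 Q19117 (allL N19117 (tt N21015 (iv F69840)) (tt N18643 F63390) (tt N18807 F63391) (tt N18642 F63392) (tt N20995 (iv F69792)) (tt N15444 (iv D29460)) (tt N21014 F69839))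
theorem Q19119 : ∀ i, i < 19119 → P i := stepQ 19118 Q19118 (allL N19118 (tt N16726 F63393) (tt N19118 F63394) (tt N15447 (iv D29461)) (tt N21680 D32037) (tt N16970 F63395) (tt N15451 F63396) (tt N20253 (iv F67148)))
theorem Q19120 : ∀ i, i < 19120 → P i := stepQ 19119 Q19119 (allL N19119 (tt N16972 F63397) (tt N15453 F63398) (tt N15449 (iv D29462)) (tt N21681 D32038) (tt N15451 F63399) (tt N16970 F63400) (tt N20284 (iv F67248)))
theorem Q19121 : ∀ i, i < 19121 → P i := stepQ 19120 Q19120 (allL N19120 (tt N15451 F63401) (tt N18386 F63405) (tt N15450 (iv D29463)) (tt N18385 (iv F63406)) (tt N16972 F63402) (tt N16726 F63403) (tt N16929 F63404))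
theorem Q19122 : ∀ i, i < 19122 → P i := stepQ 19121 Q19121 (allL N19121 (tt N18385 F63407) (tt N15455 F63408) (tt N20472 (iv F67908)) (tt N15451 (iv D29464)) (tt N18397 (iv F63410)) (tt N21680 (iv F72006)) (tt N18406 (iv F63409)))
theorem Q19123 : ∀ i, i < 19123 → P i := stepQ 19122 Q19122 (allL N19122 (tt N16929 F63411) (tt N18405 F63412) (tt N15452 F63413) (tt N18406 F63414) (tt N20284 (iv F67247)) (tt N18840 F63415) (tt N15451 (iv D29465)))
theorem Q19124 : ∀ i, i < 19124 → P i := stepQ 19123 Q19123 (allL N19123 (tt N17968 F63416) (tt N21681 (iv F72009)) (tt N17967 F63418) (tt N15453 (iv D29466)) (tt N18662 (iv F63419)) (tt N19123 F63417) (tt N20847 (iv F69317)))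
theorem Q19125 : ∀ i, i < 19125 → P i := stepQ 19124 Q19124 (allL N19124 (tt N20849 (iv F69323)) (tt N18404 (iv F63422)) (tt N15454 F63420) (tt N20847 F69318) (tt N15456 F63421) (tt N20849 (iv F69326)) (tt N15453 (iv D29467)))
theorem Q19126 : ∀ i, i < 19126 → P i := stepQ 19125 Q19125 (allL N19125 (tt N18663 F63423) (tt N18397 F63424) (tt N19414 F64384) (tt N18662 F63425) (tt N15455 (iv D29468)) (tt N19125 F63426) (tt N18390 F63427))
theorem Q19127 : ∀ i, i < 19127 → P i := stepQ 19126 Q19126 (allL N19126 (tt N19134 (iv F63455)) (tt N21191 (iv F70375)) (tt N21682 D32039) (tt N15457 (iv D29469)) (tt N21673 (iv F71976)) (tt N18210 F63428) (tt N18333 F63429))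
theorem Q19128 : ∀ i, i < 19128 → P i := stepQ 19127 Q19127 (allL N19127 (tt N19355 (iv F64146)) (tt N15458 (iv D29470)) (tt N15477 F63430) (tt N16346 (iv F63432)) (tt N21582 (iv F71687)) (tt N21683 D32040) (tt N16410 (iv F63431)))
theorem Q19129 : ∀ i, i < 19129 → P i := stepQ 19128 Q19128 (allL N19128 (tt N15763 F63433) (tt N16346 F63434) (tt N18225 F63435) (tt N15458 (iv D29471)) (tt N21297 (iv F70722)) (tt N19128 F63436) (tt N15753 F63437))
theorem Q19130 : ∀ i, i < 19130 → P i := stepQ 19129 Q19129 (allL N19129 (tt N19081 F63438) (tt N21582 (iv F71686)) (tt N15459 F63439) (tt N21684 D32041) (tt N15458 (iv D29472)) (tt N19129 F63440) (tt N21685 D32042))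
theorem Q19131 : ∀ i, i < 19131 → P i := stepQ 19130 Q19130 (allL N19130 (tt N15758 F63441) (tt N15748 (iv F63445)) (tt N15460 F63442) (tt N15753 F63443) (tt N21685 (iv F72029)) (tt N15758 F63444) (tt N15458 (iv D29473)))
theorem Q19132 : ∀ i, i < 19132 → P i := stepQ 19131 Q19131 (allL N19131 (tt N19082 F63446) (tt N21686 D32043) (tt N21685 (iv F72028)) (tt N19082 F63447) (tt N15460 F63448) (tt N19082 F63449) (tt N15459 (iv D29474)))
theorem Q19133 : ∀ i, i < 19133 → P i := stepQ 19132 Q19132 (allL N19132 (tt N19153 (iv F63501)) (tt N15460 (iv D29475)) (tt N21687 D32044) (tt N15461 F63450) (tt N21686 (iv F72032)) (tt N19149 (iv F63495)) (tt N15481 F63451))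
theorem Q19134 : ∀ i, i < 19134 → P i := stepQ 19133 Q19133 (allL N19133 (tt N19142 (iv F63474)) (tt N15462 F63452) (tt N15461 (iv D29476)) (tt N21688 D32045) (tt N19085 F63453) (tt N19140 (iv F63472)) (tt N15483 F63454))
theorem Q19135 : ∀ i, i < 19135 → P i := stepQ 19134 Q19134 (allL N19134 (tt N19126 F63455) (tt N21688 (iv F72039)) (tt N21665 (iv F71943)) (tt N15462 (iv D29477)) (tt N21664 F71941) (tt N20992 (iv F69784)) (tt N15465 F63456))
theorem Q19136 : ∀ i, i < 19136 → P i := stepQ 19135 Q19135 (allL N19135 (tt N15466 F63457) (tt N21139 (iv F70216)) (tt N15464 F63458) (tt N21088 (iv F70072)) (tt N19105 F63459) (tt N15463 (iv D29478)) (tt N18209 F63460))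
theorem Q19137 : ∀ i, i < 19137 → P i := stepQ 19136 Q19136 (allL N19136 (tt N21085 F70066) (tt N18484 F63461) (tt N15465 (iv D29479)) (tt N21665 (iv F71944)) (tt N18487 (iv F63462)) (tt N21689 D32046) (tt N21665 (iv F71945)))
theorem Q19138 : ∀ i, i < 19138 → P i := stepQ 19137 Q19137 (allL N19137 (tt N21082 (iv F70059)) (tt N15491 F63463) (tt N18487 F63464) (tt N20122 (iv F66724)) (tt N15465 (iv D29480)) (tt N21690 D32047) (tt N21664 (iv F71940)))
theorem Q19139 : ∀ i, i < 19139 → P i := stepQ 19138 Q19138 (allL N19138 (tt N21088 (iv F70070)) (tt N20729 (iv F68824)) (tt N21689 (iv F72042)) (tt N15466 F63465) (tt N21690 (iv F72047)) (tt N15465 (iv D29481)) (tt N18210 F63466))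
theorem Q19140 : ∀ i, i < 19140 → P i := stepQ 19139 Q19139 (allL N19139 (tt N15469 F63467) (tt N17758 F63468) (tt N19556 (iv F64854)) (tt N15467 (iv D29482)) (tt N20737 (iv F68864)) (tt N20735 (iv F68857)) (tt N17965 F63469))
theorem Q19141 : ∀ i, i < 19141 → P i := stepQ 19140 Q19140 (allL N19140 (tt N15468 (iv D29483)) (tt N21691 D32048) (tt N15472 F63470) (tt N21692 D32049) (tt N19060 F63471) (tt N19133 F63472) (tt N21693 D32050))
theorem Q19142 : ∀ i, i < 19142 → P i := stepQ 19141 Q19141 (allL N19141 (tt N21692 (iv F72053)) (tt N15469 F63473) (tt N21694 D32051) (tt N15468 (iv D29484)) (tt N21695 D32052) (tt N21696 D32053) (tt N21697 D32054))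
theorem Q19143 : ∀ i, i < 19143 → P i := stepQ 19142 Q19142 (allL N19142 (tt N19133 F63474) (tt N18562 F63475) (tt N15474 F63476) (tt N21696 (iv F72063)) (tt N19053 F63477) (tt N15468 (iv D29485)) (tt N19162 (iv F63520)))
theorem Q19144 : ∀ i, i < 19144 → P i := stepQ 19143 Q19143 (allL N19143 (tt N21693 (iv F72055)) (tt N21698 D32055) (tt N15475 F63478) (tt N21697 (iv F72064)) (tt N19063 F63479) (tt N15483 F63480) (tt N15468 (iv D29486)))
theorem Q19145 : ∀ i, i < 19145 → P i := stepQ 19144 Q19144 (allL N19144 (tt N19556 (iv F64853)) (tt N21699 D32056) (tt N15469 (iv D29487)) (tt N19547 (iv F64828)) (tt N17800 (iv F63484)) (tt N20767 (iv F68992)) (tt N17798 F63485))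
theorem Q19146 : ∀ i, i < 19146 → P i := stepQ 19145 Q19145 (allL N19145 (tt N20737 (iv F68861)) (tt N21695 (iv F72059)) (tt N17800 F63483) (tt N19065 F63481) (tt N15469 (iv D29488)) (tt N20734 (iv F68852)) (tt N17753 (iv F63482)))
theorem Q19147 : ∀ i, i < 19147 → P i := stepQ 19146 Q19146 (allL N19146 (tt N20735 (iv F68853)) (tt N19797 F65604) (tt N20767 (iv F68989)) (tt N15470 F63486) (tt N20734 (iv F68851)) (tt N15469 (iv D29489)) (tt N19805 (iv F65627)))
theorem Q19148 : ∀ i, i < 19148 → P i := stepQ 19147 Q19147 (allL N19147 (tt N17965 F63487) (tt N21073 (iv F70036)) (tt N17798 F63488) (tt N15471 F63489) (tt N17753 F63490) (tt N17752 (iv F63491)) (tt N15469 (iv D29490)))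
theorem Q19149 : ∀ i, i < 19149 → P i := stepQ 19148 Q19148 (allL N19148 (tt N21075 (iv F70043)) (tt N15471 (iv D29491)) (tt N19224 (iv F63691)) (tt N21073 (iv F70039)) (tt N18642 F63492) (tt N21679 (iv F72002)) (tt N21698 (iv F72069)))
theorem Q19150 : ∀ i, i < 19150 → P i := stepQ 19149 Q19149 (allL N19149 (tt N15473 F63493) (tt N19057 F63494) (tt N21607 (iv F71756)) (tt N15472 (iv D29492)) (tt N21700 D32057) (tt N19132 F63495) (tt N21701 D32058))
theorem Q19151 : ∀ i, i < 19151 → P i := stepQ 19150 Q19150 (allL N19150 (tt N15475 F63496) (tt N21617 (iv F71782)) (tt N21693 (iv F72056)) (tt N21701 (iv F72079)) (tt N19061 F63497) (tt N15482 F63498) (tt N15472 (iv D29493)))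
theorem Q19152 : ∀ i, i < 19152 → P i := stepQ 19151 Q19151 (allL N19151 (tt N21607 F71757) (tt N19564 (iv F64882)) (tt N15473 (iv D29494)) (tt N19349 (iv F64376)) (tt N21702 D32059) (tt N19348 F64394) (tt N19214 F63664))
theorem Q19153 : ∀ i, i < 19153 → P i := stepQ 19152 Q19152 (allL N19152 (tt N21700 (iv F72074)) (tt N15476 F63499) (tt N21702 (iv F72081)) (tt N19056 F63500) (tt N15473 (iv D29495)) (tt N21703 D32060) (tt N21704 D32061))
theorem Q19154 : ∀ i, i < 19154 → P i := stepQ 19153 Q19153 (allL N19153 (tt N19132 F63501) (tt N15502 F63502) (tt N19348 (iv F64393)) (tt N15474 F63503) (tt N21703 (iv F72085)) (tt N15473 (iv D29496)) (tt N19159 (iv F63516)))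
theorem Q19155 : ∀ i, i < 19155 → P i := stepQ 19154 Q19154 (allL N19154 (tt N21701 (iv F72078)) (tt N19196 (iv F63611)) (tt N19214 (iv F63661)) (tt N15475 F63504) (tt N21704 (iv F72087)) (tt N15481 F63505) (tt N15473 (iv D29497)))
theorem Q19156 : ∀ i, i < 19156 → P i := stepQ 19155 Q19155 (allL N19155 (tt N19356 (iv F64148)) (tt N15515 F63506) (tt N21683 (iv F72020)) (tt N15762 F63507) (tt N21583 (iv F71691)) (tt N15477 (iv D29498)) (tt N15760 F63508))
theorem Q19157 : ∀ i, i < 19157 → P i := stepQ 19156 Q19156 (allL N19156 (tt N19210 (iv F63652)) (tt N21635 (iv F71838)) (tt N15480 F63509) (tt N21581 (iv F71683)) (tt N15479 F63510) (tt N15982 F63511) (tt N15478 (iv D29499)))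
theorem Q19158 : ∀ i, i < 19158 → P i := stepQ 19157 Q19157 (allL N19157 (tt N19020 F64388) (tt N15479 (iv D29500)) (tt N19213 (iv F63659)) (tt N15989 F63512) (tt N21635 (iv F71840)) (tt N19212 F63658) (tt N19417 (iv F64336)))
theorem Q19159 : ∀ i, i < 19159 → P i := stepQ 19158 Q19158 (allL N19158 (tt N21705 D32062) (tt N15480 (iv D29501)) (tt N21706 D32063) (tt N19083 F63513) (tt N15481 F63514) (tt N21704 (iv F72088)) (tt N21686 (iv F72033)))
theorem Q19160 : ∀ i, i < 19160 → P i := stepQ 19159 Q19159 (allL N19159 (tt N15481 (iv D29502)) (tt N21707 D32064) (tt N21708 D32065) (tt N15482 F63515) (tt N21705 (iv F72090)) (tt N21701 (iv F72080)) (tt N19153 F63516))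
theorem Q19161 : ∀ i, i < 19161 → P i := stepQ 19160 Q19160 (allL N19160 (tt N21708 (iv F72094)) (tt N19213 F63660) (tt N15481 (iv D29503)) (tt N19575 (iv F64914)) (tt N21706 (iv F72092)) (tt N19214 (iv F63663)) (tt N21687 (iv F72037)))
theorem Q19162 : ∀ i, i < 19162 → P i := stepQ 19161 Q19161 (allL N19161 (tt N21651 (iv F71888)) (tt N15482 (iv D29504)) (tt N21709 D32066) (tt N21707 (iv F72093)) (tt N19086 F63517) (tt N21649 (iv F71885)) (tt N19190 (iv F63596)))
theorem Q19163 : ∀ i, i < 19163 → P i := stepQ 19162 Q19162 (allL N19162 (tt N15483 F63518) (tt N21710 D32067) (tt N15482 (iv D29505)) (tt N21711 D32068) (tt N19087 F63519) (tt N21693 (iv F72058)) (tt N19142 F63520))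
theorem Q19164 : ∀ i, i < 19164 → P i := stepQ 19163 Q19163 (allL N19163 (tt N21711 (iv F72107)) (tt N15485 F63521) (tt N21106 (iv F70130)) (tt N15483 (iv D29506)) (tt N21111 (iv F70142)) (tt N21697 (iv F72065)) (tt N21688 (iv F72040)))
theorem Q19165 : ∀ i, i < 19165 → P i := stepQ 19164 Q19164 (allL N19164 (tt N19114 F63524) (tt N15484 (iv D29507)) (tt N18741 F63522) (tt N20727 (iv F68818)) (tt N18957 F63523) (tt N20732 (iv F68841)) (tt N19110 (iv F63525)))
theorem Q19166 : ∀ i, i < 19166 → P i := stepQ 19165 Q19165 (allL N19165 (tt N15485 F63526) (tt N20727 (iv F68816)) (tt N17208 F63527) (tt N15484 (iv D29508)) (tt N20119 (iv F66715)) (tt N18338 F63528) (tt N15488 F63529))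
theorem Q19167 : ∀ i, i < 19167 → P i := stepQ 19166 Q19166 (allL N19166 (tt N18338 F63530) (tt N21712 D32069) (tt N20805 (iv F69130)) (tt N15486 F63531) (tt N20806 (iv F69137)) (tt N15485 (iv D29509)) (tt N19170 (iv F63546)))
theorem Q19168 : ∀ i, i < 19168 → P i := stepQ 19167 Q19167 (allL N19167 (tt N21713 D32070) (tt N15486 (iv D29510)) (tt N18627 F63532) (tt N21712 (iv F72112)) (tt N19090 F63533) (tt N21698 (iv F72068)) (tt N21552 (iv F71599)))
theorem Q19169 : ∀ i, i < 19169 → P i := stepQ 19168 Q19168 (allL N19168 (tt N17753 F63534) (tt N15488 F63535) (tt N17796 (iv F63538)) (tt N15487 (iv D29511)) (tt N17965 F63536) (tt N17751 F63537) (tt N20737 (iv F68865)))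
theorem Q19170 : ∀ i, i < 19170 → P i := stepQ 19169 Q19169 (allL N19169 (tt N19065 F63539) (tt N19110 F63540) (tt N18767 F63541) (tt N20737 (iv F68863)) (tt N18644 F63542) (tt N18759 F63543) (tt N15487 (iv D29512)))
theorem Q19171 : ∀ i, i < 19171 → P i := stepQ 19170 Q19170 (allL N19170 (tt N15492 F63544) (tt N19822 F65683) (tt N19589 (iv F64962)) (tt N15489 F63545) (tt N19825 (iv F65692)) (tt N15488 (iv D29513)) (tt N19166 F63546))
theorem Q19172 : ∀ i, i < 19172 → P i := stepQ 19171 Q19171 (allL N19171 (tt N21346 (iv F70922)) (tt N15489 (iv D29514)) (tt N18077 F63547) (tt N19822 (iv F65684)) (tt N18838 F63548) (tt N21345 (iv F70921)) (tt N19820 F65685))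
theorem Q19173 : ∀ i, i < 19173 → P i := stepQ 19172 Q19172 (allL N19172 (tt N19589 (iv F64961)) (tt N20894 (iv F69498)) (tt N15492 F63549) (tt N19586 (iv F64949)) (tt N18493 F63550) (tt N15490 (iv D29515)) (tt N20445 (iv F67821)))
theorem Q19174 : ∀ i, i < 19174 → P i := stepQ 19173 Q19173 (allL N19173 (tt N19825 F65694) (tt N21076 (iv F70045)) (tt N18493 F63551) (tt N20123 (iv F66728)) (tt N15492 F63552) (tt N15491 (iv D29516)) (tt N18546 (iv F63553)))
theorem Q19175 : ∀ i, i < 19175 → P i := stepQ 19174 Q19174 (allL N19174 (tt N15493 (iv D29517)) (tt N21714 D32071) (tt N18789 F63554) (tt N21078 (iv F70053)) (tt N21014 (iv F69837)) (tt N21068 (iv F70021)) (tt N20995 (iv F69793)))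
theorem Q19176 : ∀ i, i < 19176 → P i := stepQ 19175 Q19175 (allL N19175 (tt N20898 (iv F69517)) (tt N20291 (iv F67266)) (tt N20900 (iv F69529)) (tt N15495 (iv D29518)) (tt N21411 (iv F71137)) (tt N18626 F63555) (tt N15512 F63556))
theorem Q19177 : ∀ i, i < 19177 → P i := stepQ 19176 Q19176 (allL N19176 (tt N19176 F63557) (tt N15497 F63558) (tt N21715 D32072) (tt N15496 (iv D29519)) (tt N21716 D32073) (tt N19039 F63559) (tt N19039 F63560))
theorem Q19178 : ∀ i, i < 19178 → P i := stepQ 19177 Q19177 (allL N19177 (tt N15500 F63561) (tt N21717 D32074) (tt N15497 (iv D29520)) (tt N15751 F63562) (tt N21718 D32075) (tt N15750 (iv F63563)) (tt N19651 F65176))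
theorem Q19179 : ∀ i, i < 19179 → P i := stepQ 19178 Q19178 (allL N19178 (tt N15501 F63564) (tt N21716 (iv F72126)) (tt N21718 (iv F72135)) (tt N19041 F63565) (tt N15497 (iv D29521)) (tt N21719 D32076) (tt N21720 D32077))
theorem Q19180 : ∀ i, i < 19180 → P i := stepQ 19179 Q19179 (allL N19179 (tt N15502 F63566) (tt N19042 F63567) (tt N15750 F63568) (tt N15498 F63569) (tt N21719 (iv F72142)) (tt N15497 (iv D29522)) (tt N19189 (iv F63593)))
theorem Q19181 : ∀ i, i < 19181 → P i := stepQ 19180 Q19180 (allL N19180 (tt N15503 F63570) (tt N19043 F63571) (tt N19651 (iv F65173)) (tt N15499 F63572) (tt N21720 (iv F72146)) (tt N19187 (iv F63588)) (tt N15497 (iv D29523)))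
theorem Q19182 : ∀ i, i < 19182 → P i := stepQ 19181 Q19181 (allL N19181 (tt N15751 F63573) (tt N17767 F63574) (tt N16068 F63575) (tt N15500 (iv D29524)) (tt N15744 (iv F63576)) (tt N15743 (iv F63577)) (tt N19446 (iv F64466)))
theorem Q19183 : ∀ i, i < 19183 → P i := stepQ 19182 Q19182 (allL N19182 (tt N21718 (iv F72134)) (tt N19636 (iv F65133)) (tt N15501 F63578) (tt N21721 D32078) (tt N15500 (iv D29525)) (tt N21722 D32079) (tt N21723 D32080))
theorem Q19184 : ∀ i, i < 19184 → P i := stepQ 19183 Q19183 (allL N19183 (tt N15750 F63579) (tt N19355 F64386) (tt N15502 F63580) (tt N15743 F63581) (tt N21722 (iv F72153)) (tt N15500 (iv D29526)) (tt N21724 D32081))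
theorem Q19185 : ∀ i, i < 19185 → P i := stepQ 19184 Q19184 (allL N19184 (tt N19651 F65175) (tt N21574 (iv F71669)) (tt N15503 F63582) (tt N19446 (iv F64464)) (tt N21723 (iv F72155)) (tt N19443 (iv F64453)) (tt N15500 (iv D29527)))
theorem Q19186 : ∀ i, i < 19186 → P i := stepQ 19185 Q19185 (allL N19185 (tt N21719 (iv F72138)) (tt N21703 (iv F72083)) (tt N21722 (iv F72151)) (tt N19048 F63583) (tt N15502 F63584) (tt N15501 (iv D29528)) (tt N21725 D32082))
theorem Q19187 : ∀ i, i < 19187 → P i := stepQ 19186 Q19186 (allL N19186 (tt N21720 (iv F72143)) (tt N21726 D32083) (tt N21723 (iv F72154)) (tt N19049 F63585) (tt N15503 F63586) (tt N21727 D32084) (tt N15501 (iv D29529)))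
theorem Q19188 : ∀ i, i < 19188 → P i := stepQ 19187 Q19187 (allL N19187 (tt N19189 (iv F63591)) (tt N21728 D32085) (tt N21724 (iv F72158)) (tt N15504 F63587) (tt N21725 (iv F72162)) (tt N19180 F63588) (tt N15502 (iv D29530)))
theorem Q19189 : ∀ i, i < 19189 → P i := stepQ 19188 Q19188 (allL N19188 (tt N19195 F63606) (tt N15503 (iv D29531)) (tt N19194 F63610) (tt N15505 F63589) (tt N21726 (iv F72165)) (tt N19218 (iv F63675)) (tt N15508 F63590))
theorem Q19190 : ∀ i, i < 19190 → P i := stepQ 19189 Q19189 (allL N19189 (tt N19187 F63591) (tt N21729 D32086) (tt N19443 (iv F64451)) (tt N15506 F63592) (tt N21727 (iv F72169)) (tt N15503 (iv D29532)) (tt N19179 F63593))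
theorem Q19191 : ∀ i, i < 19191 → P i := stepQ 19190 Q19190 (allL N19190 (tt N21577 (iv F71778)) (tt N15504 (iv D29533)) (tt N20228 (iv F67096)) (tt N21728 (iv F72172)) (tt N19054 F63594) (tt N19054 F63595) (tt N19161 F63596))
theorem Q19192 : ∀ i, i < 19192 → P i := stepQ 19191 Q19191 (allL N19191 (tt N19219 (iv F63676)) (tt N20293 (iv F67272)) (tt N15505 (iv D29534)) (tt N21730 D32087) (tt N19004 F63597) (tt N19221 (iv F63685)) (tt N15510 F63598))
theorem Q19193 : ∀ i, i < 19193 → P i := stepQ 19192 Q19192 (allL N19192 (tt N21625 (iv F71805)) (tt N15506 (iv D29535)) (tt N21731 D32088) (tt N21729 (iv F72176)) (tt N19055 F63599) (tt N19220 (iv F63682)) (tt N19055 F63600))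
theorem Q19194 : ∀ i, i < 19194 → P i := stepQ 19193 Q19193 (allL N19193 (tt N21732 D32089) (tt N15507 (iv D29536)) (tt N21733 D32090) (tt N19013 F63601) (tt N15508 F63602) (tt N21734 D32091) (tt N21726 (iv F72166)))
theorem Q19195 : ∀ i, i < 19195 → P i := stepQ 19194 Q19194 (allL N19194 (tt N15508 (iv D29537)) (tt N19010 F63603) (tt N19188 (iv F63610)) (tt N15509 F63604) (tt N21732 (iv F72185)) (tt N21735 D32092) (tt N19195 F63609))
theorem Q19196 : ∀ i, i < 19196 → P i := stepQ 19195 Q19195 (allL N19195 (tt N19188 (iv F63606)) (tt N15523 F63605) (tt N15508 (iv D29538)) (tt N15525 (iv F63607)) (tt N21733 (iv F72189)) (tt N15524 (iv F63608)) (tt N19194 (iv F63609)))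
theorem Q19197 : ∀ i, i < 19197 → P i := stepQ 19196 Q19196 (allL N19196 (tt N21735 (iv F72198)) (tt N19154 F63611) (tt N15524 F63612) (tt N15511 F63613) (tt N21734 (iv F72196)) (tt N15508 (iv D29539)) (tt N15524 F63614))
theorem Q19198 : ∀ i, i < 19198 → P i := stepQ 19197 Q19197 (allL N19197 (tt N15510 F63615) (tt N21535 (iv F71533)) (tt N15509 (iv D29540)) (tt N21736 D32093) (tt N19001 F63616) (tt N21737 D32094) (tt N19219 (iv F63680)))
theorem Q19199 : ∀ i, i < 19199 → P i := stepQ 19198 Q19198 (allL N19198 (tt N15511 F63617) (tt N21615 F71781) (tt N21737 (iv F72204)) (tt N21735 (iv F72200)) (tt N19011 F63618) (tt N15509 (iv D29541)) (tt N15526 F63619))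
theorem Q19200 : ∀ i, i < 19200 → P i := stepQ 19199 Q19199 (allL N19199 (tt N21736 (iv F72202)) (tt N15512 F63620) (tt N21730 (iv F72179)) (tt N15510 (iv D29542)) (tt N21738 D32095) (tt N21739 D32096) (tt N21730 (iv F72178)))
theorem Q19201 : ∀ i, i < 19201 → P i := stepQ 19200 Q19200 (allL N19200 (tt N21737 (iv F72203)) (tt N21272 (iv F70651)) (tt N15511 F63621) (tt N21739 (iv F72211)) (tt N19003 F63622) (tt N15510 (iv D29543)) (tt N15527 (iv F63623)))
theorem Q19202 : ∀ i, i < 19202 → P i := stepQ 19201 Q19201 (allL N19201 (tt N18697 F63624) (tt N21740 D32097) (tt N15512 (iv D29544)) (tt N18650 F63625) (tt N18818 (iv F63627)) (tt N18067 F63626) (tt N20900 (iv F69532)))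
theorem Q19203 : ∀ i, i < 19203 → P i := stepQ 19202 Q19202 (allL N19202 (tt N19032 F63628) (tt N21738 (iv F72207)) (tt N18818 F63629) (tt N19006 F63630) (tt N15512 (iv D29545)) (tt N18810 F63631) (tt N21411 (iv F71138)))
theorem Q19204 : ∀ i, i < 19204 → P i := stepQ 19203 Q19203 (allL N19203 (tt N21741 D32098) (tt N15513 (iv D29546)) (tt N21296 (iv F70719)) (tt N19619 (iv F65067)) (tt N21742 D32099) (tt N19653 (iv F65181)) (tt N19203 F64370))
theorem Q19205 : ∀ i, i < 19205 → P i := stepQ 19204 Q19204 (allL N19204 (tt N15514 F63632) (tt N21742 (iv F72223)) (tt N19204 F63633) (tt N21743 D32100) (tt N15513 (iv D29547)) (tt N19071 (iv F64369)) (tt N21632 (iv F71831)))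
theorem Q19206 : ∀ i, i < 19206 → P i := stepQ 19205 Q19205 (allL N19205 (tt N21743 (iv F72226)) (tt N15516 F63638) (tt N21744 D32101) (tt N15514 (iv D29550)) (tt N19621 (iv F65078)) (tt N21584 (iv F71695)) (tt N21634 (iv F71836)))
theorem Q19207 : ∀ i, i < 19207 → P i := stepQ 19206 Q19206 (allL N19206 (tt N19071 F64368) (tt N21583 (iv F71689)) (tt N19206 F63639) (tt N21584 (iv F71693)) (tt N15515 F63640) (tt N15514 (iv D29551)) (tt N19067 (iv F64367)))
theorem Q19208 : ∀ i, i < 19208 → P i := stepQ 19207 Q19207 (allL N19207 (tt N19648 (iv F65164)) (tt N21745 D32102) (tt N15516 (iv D29556)) (tt N19448 (iv F64471)) (tt N16517 F63649) (tt N21556 (iv F71618)) (tt N21746 D32103))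
theorem Q19209 : ∀ i, i < 19209 → P i := stepQ 19208 Q19208 (allL N19208 (tt N19649 (iv F65167)) (tt N21747 D32104) (tt N21746 (iv F72237)) (tt N15517 F63650) (tt N19622 (iv F65084)) (tt N21748 D32105) (tt N15516 (iv D29557)))
theorem Q19210 : ∀ i, i < 19210 → P i := stepQ 19209 Q19209 (allL N19209 (tt N21744 (iv F72231)) (tt N15517 (iv D29558)) (tt N21743 F72230) (tt N21747 (iv F72241)) (tt N15518 F63651) (tt N21749 D32106) (tt N21636 (iv F71843)))
theorem Q19211 : ∀ i, i < 19211 → P i := stepQ 19210 Q19210 (allL N19210 (tt N19156 F63652) (tt N21750 D32107) (tt N15521 F63653) (tt N21748 (iv F72245)) (tt N15519 F63654) (tt N15517 (iv D29559)) (tt N15892 F63655))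
theorem Q19212 : ∀ i, i < 19212 → P i := stepQ 19211 Q19211 (allL N19211 (tt N15518 (iv D29560)) (tt N20763 (iv F68971)) (tt N19621 F65080) (tt N17825 F63656) (tt N21744 (iv F72232)) (tt N19079 F64391) (tt N21637 (iv F71846)))
theorem Q19213 : ∀ i, i < 19213 → P i := stepQ 19212 Q19212 (allL N19212 (tt N19621 (iv F65076)) (tt N15522 F63657) (tt N15518 (iv D29561)) (tt N19620 F65075) (tt N21743 (iv F72228)) (tt N19157 (iv F63658)) (tt N21638 (iv F71849)))
theorem Q19214 : ∀ i, i < 19214 → P i := stepQ 19213 Q19213 (allL N19213 (tt N19079 (iv F64389)) (tt N19160 (iv F63660)) (tt N19157 F63659) (tt N19623 (iv F65089)) (tt N21749 (iv F72250)) (tt N15518 (iv D29562)) (tt N19077 F64392))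
theorem Q19215 : ∀ i, i < 19215 → P i := stepQ 19214 Q19214 (allL N19214 (tt N21751 D32108) (tt N15519 (iv D29563)) (tt N19154 F63661) (tt N15895 F63662) (tt N21750 (iv F72254)) (tt N19160 F63663) (tt N19151 (iv F63664)))
theorem Q19216 : ∀ i, i < 19216 → P i := stepQ 19215 Q19215 (allL N19215 (tt N18990 F63665) (tt N21743 (iv F72227)) (tt N15520 (iv D29564)) (tt N21742 (iv F72224)) (tt N15522 F63666) (tt N19650 F65172) (tt N19215 F63667))
theorem Q19217 : ∀ i, i < 19217 → P i := stepQ 19216 Q19216 (allL N19216 (tt N18992 F63668) (tt N21733 (iv F72188)) (tt N19650 F65171) (tt N18992 F63669) (tt N15523 F63670) (tt N15520 (iv D29565)) (tt N18992 F63671))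
theorem Q19218 : ∀ i, i < 19218 → P i := stepQ 19217 Q19217 (allL N19217 (tt N21752 D32109) (tt N15521 (iv D29566)) (tt N21734 (iv F72194)) (tt N19021 F63672) (tt N15524 F63673) (tt N21733 (iv F72192)) (tt N21734 (iv F72197)))
theorem Q19219 : ∀ i, i < 19219 → P i := stepQ 19218 Q19218 (allL N19218 (tt N15524 (iv D29567)) (tt N21753 D32110) (tt N21735 (iv F72199)) (tt N15526 F63674) (tt N21752 (iv F72263)) (tt N19188 F63675) (tt N21735 (iv F72201)))
theorem Q19220 : ∀ i, i < 19220 → P i := stepQ 19219 Q19219 (allL N19219 (tt N19191 F63676) (tt N18205 F63677) (tt N15525 (iv D29568)) (tt N21754 D32111) (tt N18994 F63678) (tt N15527 F63679) (tt N19197 F63680))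
theorem Q19221 : ∀ i, i < 19221 → P i := stepQ 19220 Q19220 (allL N19220 (tt N21591 (iv F71707)) (tt N15526 (iv D29569)) (tt N21755 D32112) (tt N21753 (iv F72265)) (tt N19024 F63681) (tt N19192 F63682) (tt N21589 F71704))
theorem Q19222 : ∀ i, i < 19222 → P i := stepQ 19221 Q19221 (allL N19221 (tt N15527 F63683) (tt N21756 D32113) (tt N15526 (iv D29570)) (tt N21757 D32114) (tt N19025 F63684) (tt N19191 F63685) (tt N21737 (iv F72206)))
theorem Q19223 : ∀ i, i < 19223 → P i := stepQ 19222 Q19222 (allL N19222 (tt N21757 (iv F72279)) (tt N15529 F63686) (tt N21758 D32115) (tt N15527 (iv D29571)) (tt N21759 D32116) (tt N21754 (iv F72270)) (tt N21739 F72213))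
theorem Q19224 : ∀ i, i < 19224 → P i := stepQ 19223 Q19223 (allL N19223 (tt N16706 F63687) (tt N21759 (iv F72287)) (tt N16705 F63688) (tt N18439 F63689) (tt N15529 (iv D29572)) (tt N16709 F63690) (tt N20131 (iv F66762)))
theorem Q19225 : ∀ i, i < 19225 → P i := stepQ 19224 Q19224 (allL N19224 (tt N21546 (iv F71575)) (tt N15530 (iv D29573)) (tt N19148 F63691) (tt N20258 (iv F67161)) (tt N19030 F63692) (tt N21551 (iv F71594)) (tt N21272 F70653))
theorem Q19226 : ∀ i, i < 19226 → P i := stepQ 19225 Q19225 (allL N19225 (tt N15532 (iv D29574)) (tt N17676 (iv F63695)) (tt N19600 (iv F65005)) (tt N15534 F63693) (tt N20431 (iv F67774)) (tt N19237 (iv F63734)) (tt N15539 F63694))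
theorem Q19227 : ∀ i, i < 19227 → P i := stepQ 19226 Q19226 (allL N19226 (tt N19600 (iv F65004)) (tt N16785 F63696) (tt N15532 (iv D29575)) (tt N15550 (iv F63698)) (tt N20432 (iv F67780)) (tt N15549 F63699) (tt N15540 F63697))
theorem Q19228 : ∀ i, i < 19228 → P i := stepQ 19227 Q19227 (allL N19227 (tt N19237 (iv F63732)) (tt N15937 F63700) (tt N15549 F63701) (tt N15536 F63702) (tt N20433 (iv F67786)) (tt N15532 (iv D29576)) (tt N19235 (iv F63727)))
theorem Q19229 : ∀ i, i < 19229 → P i := stepQ 19228 Q19228 (allL N19228 (tt N15535 F63703) (tt N17658 F63704) (tt N15534 (iv D29577)) (tt N19236 (iv F63731)) (tt N16265 F63705) (tt N15936 F63706) (tt N15547 F63707))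
theorem Q19230 : ∀ i, i < 19230 → P i := stepQ 19229 Q19229 (allL N19229 (tt N19236 (iv F63729)) (tt N15571 F63708) (tt N19235 (iv F63725)) (tt N15535 (iv D29578)) (tt N21760 D32117) (tt N15935 F63709) (tt N15549 F63710))
theorem Q19231 : ∀ i, i < 19231 → P i := stepQ 19230 Q19230 (allL N19230 (tt N15537 (iv D29579)) (tt N20360 (iv F67522)) (tt N19382 F64229) (tt N16267 F63711) (tt N15539 F63712) (tt N20904 F69548) (tt N20431 (iv F67775)))
theorem Q19232 : ∀ i, i < 19232 → P i := stepQ 19231 Q19231 (allL N19231 (tt N20904 (iv F69544)) (tt N19334 (iv F64090)) (tt N20726 (iv F68811)) (tt N16269 F63713) (tt N15541 F63714) (tt N15537 (iv D29580)) (tt N21761 D32118))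
theorem Q19233 : ∀ i, i < 19233 → P i := stepQ 19232 Q19232 (allL N19232 (tt N15538 (iv D29581)) (tt N19738 (iv F65428)) (tt N21762 D32119) (tt N15543 F63715) (tt N17210 F63716) (tt N20437 (iv F67798)) (tt N16042 F63717))
theorem Q19234 : ∀ i, i < 19234 → P i := stepQ 19233 Q19233 (allL N19233 (tt N21762 (iv F72302)) (tt N16938 F63718) (tt N15538 (iv D29582)) (tt N21376 (iv F71025)) (tt N17212 F63719) (tt N21763 D32120) (tt N17198 F63720))
theorem Q19235 : ∀ i, i < 19235 → P i := stepQ 19234 Q19234 (allL N19234 (tt N20437 (iv F67794)) (tt N18234 F63721) (tt N21763 (iv F72305)) (tt N15545 F63722) (tt N17213 F63723) (tt N15538 (iv D29583)) (tt N19696 (iv F65303)))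
theorem Q19236 : ∀ i, i < 19236 → P i := stepQ 19235 Q19235 (allL N19235 (tt N15541 F63724) (tt N18474 F63728) (tt N19229 F63725) (tt N15548 F63726) (tt N20904 (iv F69546)) (tt N15539 (iv D29584)) (tt N19227 F63727))
theorem Q19237 : ∀ i, i < 19237 → P i := stepQ 19236 Q19236 (allL N19236 (tt N19229 F63729) (tt N20691 (iv F68668)) (tt N15541 F63730) (tt N19228 F63731) (tt N20726 (iv F68813)) (tt N15540 (iv D29585)) (tt N19241 (iv F63748)))
theorem Q19238 : ∀ i, i < 19238 → P i := stepQ 19237 Q19237 (allL N19237 (tt N19227 F63732) (tt N17631 (iv F63735)) (tt N19241 (iv F63747)) (tt N15551 F63733) (tt N21761 (iv F72300)) (tt N19225 F63734) (tt N15541 (iv D29586)))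
theorem Q19239 : ∀ i, i < 19239 → P i := stepQ 19238 Q19238 (allL N19238 (tt N19336 (iv F64097)) (tt N17065 F63736) (tt N15542 (iv D29587)) (tt N17163 (iv F63737)) (tt N19559 (iv F64869)) (tt N19333 (iv F64085)) (tt N21330 (iv F70859)))
theorem Q19240 : ∀ i, i < 19240 → P i := stepQ 19239 Q19239 (allL N19239 (tt N19340 (iv F64116)) (tt N18092 F63738) (tt N21330 (iv F70855)) (tt N15553 F63739) (tt N18701 F63740) (tt N15653 F63741) (tt N15542 (iv D29588)))
theorem Q19241 : ∀ i, i < 19241 → P i := stepQ 19240 Q19240 (allL N19240 (tt N17141 F63742) (tt N15554 F63743) (tt N21764 D32121) (tt N15544 (iv D29589)) (tt N17139 F63744) (tt N20182 (iv F66937)) (tt N17438 F63745))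
theorem Q19242 : ∀ i, i < 19242 → P i := stepQ 19241 Q19241 (allL N19241 (tt N15549 F63746) (tt N20407 F67682) (tt N19237 F63747) (tt N15547 (iv D29590)) (tt N20410 (iv F67695)) (tt N19600 F65009) (tt N19236 F63748))
theorem Q19243 : ∀ i, i < 19243 → P i := stepQ 19242 Q19242 (allL N19242 (tt N20410 (iv F67693)) (tt N15557 F63749) (tt N20433 (iv F67784)) (tt N16278 F63750) (tt N15549 (iv D29591)) (tt N20432 (iv F67782)) (tt N21760 (iv F72295)))
theorem Q19244 : ∀ i, i < 19244 → P i := stepQ 19243 Q19243 (allL N19243 (tt N15581 F63751) (tt N15550 (iv D29592)) (tt N17786 F63752) (tt N16785 F63753) (tt N16279 F63754) (tt N15559 F63755) (tt N16833 F63756))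
theorem Q19245 : ∀ i, i < 19245 → P i := stepQ 19244 Q19244 (allL N19244 (tt N19325 (iv F64056)) (tt N15560 F63757) (tt N21765 D32122) (tt N15552 (iv D29593)) (tt N19552 (iv F64841)) (tt N19322 (iv F64052)) (tt N19550 F64834))
theorem Q19246 : ∀ i, i < 19246 → P i := stepQ 19245 Q19245 (allL N19245 (tt N18137 F63758) (tt N21766 D32123) (tt N15554 (iv D29594)) (tt N20885 (iv F69467)) (tt N18413 F63759) (tt N18132 F63760) (tt N20229 (iv F67099)))
theorem Q19247 : ∀ i, i < 19247 → P i := stepQ 19246 Q19246 (allL N19246 (tt N15556 F63761) (tt N21166 (iv F70310)) (tt N15555 (iv D29595)) (tt N18953 F63764) (tt N21767 D32124) (tt N18174 F63762) (tt N15589 F63763))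
theorem Q19248 : ∀ i, i < 19248 → P i := stepQ 19247 Q19247 (allL N19247 (tt N15557 F63765) (tt N19528 (iv F64743)) (tt N21767 (iv F72317)) (tt N16280 F63766) (tt N15555 (iv D29596)) (tt N18120 F63767) (tt N15590 F63768))
theorem Q19249 : ∀ i, i < 19249 → P i := stepQ 19248 Q19248 (allL N19248 (tt N19714 (iv F65355)) (tt N15556 (iv D29597)) (tt N15937 F63769) (tt N18066 F63772) (tt N21768 D32125) (tt N18065 (iv F63770)) (tt N15964 (iv F63771)))
theorem Q19250 : ∀ i, i < 19250 → P i := stepQ 19249 Q19249 (allL N19249 (tt N18953 F63773) (tt N18066 F63774) (tt N18952 F63775) (tt N15556 (iv D29598)) (tt N18798 F63778) (tt N18056 (iv F63777)) (tt N15594 F63776))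
theorem Q19251 : ∀ i, i < 19251 → P i := stepQ 19250 Q19250 (allL N19250 (tt N21767 (iv F72316)) (tt N21768 (iv F72321)) (tt N15557 F63779) (tt N21769 D32126) (tt N15556 (iv D29599)) (tt N21770 D32127) (tt N15595 F63780))
theorem Q19252 : ∀ i, i < 19252 → P i := stepQ 19251 Q19251 (allL N19251 (tt N18174 F63781) (tt N18057 F63782) (tt N15558 F63783) (tt N18056 F63784) (tt N21770 (iv F72336)) (tt N15556 (iv D29600)) (tt N19285 (iv F63903)))
theorem Q19253 : ∀ i, i < 19253 → P i := stepQ 19252 Q19252 (allL N19252 (tt N18120 F63785) (tt N21771 D32128) (tt N21770 (iv F72334)) (tt N16282 F63786) (tt N15558 F63787) (tt N15557 (iv D29601)) (tt N19286 (iv F63907)))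
theorem Q19254 : ∀ i, i < 19254 → P i := stepQ 19253 Q19253 (allL N19253 (tt N20200 (iv F66994)) (tt N15558 (iv D29602)) (tt N16786 F63788) (tt N15559 F63789) (tt N21771 (iv F72340)) (tt N16785 F63790) (tt N20199 (iv F66992)))
theorem Q19255 : ∀ i, i < 19255 → P i := stepQ 19254 Q19254 (allL N19254 (tt N15559 (iv D29603)) (tt N17579 (iv F63793)) (tt N19488 (iv F64603)) (tt N20200 (iv F66996)) (tt N16284 F63791) (tt N15581 F63792) (tt N19504 (iv F64664)))
theorem Q19256 : ∀ i, i < 19256 → P i := stepQ 19255 Q19255 (allL N19255 (tt N15834 F63794) (tt N21772 D32129) (tt N15560 (iv D29604)) (tt N19113 F63796) (tt N21773 D32130) (tt N19485 (iv F64595)) (tt N15829 F63795))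
theorem Q19257 : ∀ i, i < 19257 → P i := stepQ 19256 Q19256 (allL N19256 (tt N15835 F63797) (tt N19552 (iv F64839)) (tt N21773 (iv F72348)) (tt N16285 F63798) (tt N15560 (iv D29605)) (tt N19486 (iv F64599)) (tt N15830 F63799))
theorem Q19258 : ∀ i, i < 19258 → P i := stepQ 19257 Q19257 (allL N19257 (tt N15562 F63800) (tt N17544 F63801) (tt N15561 (iv D29606)) (tt N21774 D32131) (tt N16288 F63802) (tt N15580 F63803) (tt N19257 F63804))
theorem Q19259 : ∀ i, i < 19259 → P i := stepQ 19258 Q19258 (allL N19258 (tt N21774 (iv F72350)) (tt N17691 F63805) (tt N20757 (iv F68945)) (tt N15562 (iv D29607)) (tt N17692 F63806) (tt N17279 (iv F63808)) (tt N19258 F63807))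
theorem Q19260 : ∀ i, i < 19260 → P i := stepQ 19259 Q19259 (allL N19259 (tt N15580 F63809) (tt N17278 F63810) (tt N15563 F63811) (tt N17279 F63812) (tt N16289 F63813) (tt N15562 (iv D29608)) (tt N15580 F63814))
theorem Q19261 : ∀ i, i < 19261 → P i := stepQ 19260 Q19260 (allL N19260 (tt N15564 (iv D29609)) (tt N16747 F63815) (tt N17447 F63816) (tt N16291 F63817) (tt N15566 F63818) (tt N17446 F63819) (tt N15572 F63820))
theorem Q19262 : ∀ i, i < 19262 → P i := stepQ 19261 Q19261 (allL N19261 (tt N15619 F63821) (tt N15566 (iv D29610)) (tt N21260 (iv F70610)) (tt N15569 F63822) (tt N16747 F63823) (tt N19308 (iv F63997)) (tt N15616 F63824))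
theorem Q19263 : ∀ i, i < 19263 → P i := stepQ 19262 Q19262 (allL N19262 (tt N15567 F63825) (tt N20479 (iv F67927)) (tt N15566 (iv D29611)) (tt N21427 (iv F71190)) (tt N17447 F63826) (tt N17246 F63827) (tt N15575 F63828))
theorem Q19264 : ∀ i, i < 19264 → P i := stepQ 19263 Q19263 (allL N19263 (tt N21427 (iv F71187)) (tt N20162 (iv F66871)) (tt N21426 (iv F71185)) (tt N15567 (iv D29612)) (tt N20521 (iv F68077)) (tt N21323 (iv F70822)) (tt N15577 F63829))
theorem Q19265 : ∀ i, i < 19265 → P i := stepQ 19264 Q19264 (allL N19264 (tt N18161 F63830) (tt N20213 (iv F67055)) (tt N21775 D32132) (tt N15568 (iv D29613)) (tt N16812 F63831) (tt N19316 (iv F64031)) (tt N16809 F63832))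
theorem Q19266 : ∀ i, i < 19266 → P i := stepQ 19265 Q19265 (allL N19265 (tt N15571 F63833) (tt N17770 F63834) (tt N21776 D32133) (tt N15570 (iv D29614)) (tt N16084 F63835) (tt N16083 F63836) (tt N15582 F63837))
theorem Q19267 : ∀ i, i < 19267 → P i := stepQ 19266 Q19266 (allL N19266 (tt N21776 (iv F72361)) (tt N18072 F63838) (tt N15571 (iv D29615)) (tt N18829 (iv F63840)) (tt N18073 (iv F63841)) (tt N21324 (iv F70828)) (tt N15584 F63839))
theorem Q19268 : ∀ i, i < 19268 → P i := stepQ 19267 Q19267 (allL N19267 (tt N16084 F63842) (tt N21760 (iv F72291)) (tt N18073 F63843) (tt N15691 F63844) (tt N15571 (iv D29616)) (tt N15690 F63845) (tt N15585 F63846))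
theorem Q19269 : ∀ i, i < 19269 → P i := stepQ 19268 Q19268 (allL N19268 (tt N15577 F63847) (tt N20381 (iv F67588)) (tt N19279 (iv F63881)) (tt N15575 (iv D29617)) (tt N20426 (iv F67752)) (tt N20009 (iv F66361)) (tt N21427 (iv F71189)))
theorem Q19270 : ∀ i, i < 19270 → P i := stepQ 19269 Q19269 (allL N19269 (tt N19279 (iv F63879)) (tt N21777 D32134) (tt N15577 (iv D29618)) (tt N19274 (iv F63862)) (tt N20519 (iv F68066)) (tt N21316 (iv F70798)) (tt N21426 (iv F71184)))
theorem Q19271 : ∀ i, i < 19271 → P i := stepQ 19270 Q19270 (allL N19270 (tt N20009 (iv F66358)) (tt N20463 F67890) (tt N21316 (iv F70796)) (tt N15578 F63848) (tt N20520 (iv F68072)) (tt N15577 (iv D29619)) (tt N20468 (iv F67903)))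
theorem Q19272 : ∀ i, i < 19272 → P i := stepQ 19271 Q19271 (allL N19271 (tt N17786 F63849) (tt N15580 (iv D29620)) (tt N15581 F63850) (tt N16841 (iv F63853)) (tt N16297 F63851) (tt N19488 (iv F64605)) (tt N16840 F63852))
theorem Q19273 : ∀ i, i < 19273 → P i := stepQ 19272 Q19272 (allL N19272 (tt N17279 F63854) (tt N16841 F63855) (tt N20171 (iv F66896)) (tt N15580 (iv D29621)) (tt N21778 D32135) (tt N21774 (iv F72354)) (tt N17279 F63856))
theorem Q19274 : ∀ i, i < 19274 → P i := stepQ 19273 Q19273 (allL N19273 (tt N16785 F63857) (tt N15582 F63858) (tt N16784 F63860) (tt N15581 (iv D29622)) (tt N21779 D32136) (tt N20200 (iv F66997)) (tt N16831 F63859))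
theorem Q19275 : ∀ i, i < 19275 → P i := stepQ 19274 Q19274 (allL N19274 (tt N15584 F63861) (tt N21780 D32137) (tt N15582 (iv D29623)) (tt N19269 F63862) (tt N21781 D32138) (tt N21782 D32139) (tt N21776 (iv F72366)))
theorem Q19276 : ∀ i, i < 19276 → P i := stepQ 19275 Q19275 (allL N19275 (tt N15585 F63863) (tt N21779 (iv F72376)) (tt N21781 (iv F72385)) (tt N16086 F63864) (tt N15582 (iv D29624)) (tt N19380 (iv F64219)) (tt N16084 F63865))
theorem Q19277 : ∀ i, i < 19277 → P i := stepQ 19276 Q19276 (allL N19276 (tt N15586 F63866) (tt N21783 D32140) (tt N21782 (iv F72390)) (tt N15583 F63867) (tt N19380 (iv F64218)) (tt N15582 (iv D29625)) (tt N18700 F63868))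
theorem Q19278 : ∀ i, i < 19278 → P i := stepQ 19277 Q19277 (allL N19277 (tt N17551 F63869) (tt N15583 (iv D29626)) (tt N17542 F63870) (tt N21783 (iv F72395)) (tt N16300 F63871) (tt N17579 F63872) (tt N15924 F63873))
theorem Q19279 : ∀ i, i < 19279 → P i := stepQ 19278 Q19278 (allL N19278 (tt N21352 (iv F70945)) (tt N15584 (iv D29627)) (tt N15593 F63874) (tt N18673 (iv F63876)) (tt N17982 (iv F63877)) (tt N17981 F63878) (tt N18019 F63875))
theorem Q19280 : ∀ i, i < 19280 → P i := stepQ 19279 Q19279 (allL N19279 (tt N19269 F63879) (tt N18673 F63880) (tt N19268 F63881) (tt N15584 (iv D29628)) (tt N18674 (iv F63883)) (tt N18692 F63884) (tt N18829 F63882))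
theorem Q19281 : ∀ i, i < 19281 → P i := stepQ 19280 Q19280 (allL N19280 (tt N21781 (iv F72384)) (tt N17982 F63885) (tt N15585 F63886) (tt N17983 F63887) (tt N15584 (iv D29629)) (tt N17995 (iv F63889)) (tt N18073 F63888))
theorem Q19282 : ∀ i, i < 19282 → P i := stepQ 19281 Q19281 (allL N19281 (tt N21782 (iv F72389)) (tt N17994 F63890) (tt N15586 F63891) (tt N18692 F63892) (tt N17995 F63893) (tt N15584 (iv D29630)) (tt N19761 (iv F65508)))
theorem Q19283 : ∀ i, i < 19283 → P i := stepQ 19282 Q19282 (allL N19282 (tt N20824 (iv F69227)) (tt N19604 (iv F65021)) (tt N20235 (iv F67111)) (tt N16302 F63894) (tt N15587 (iv D29631)) (tt N18634 F63895) (tt N18614 F63896))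
theorem Q19284 : ∀ i, i < 19284 → P i := stepQ 19283 Q19283 (allL N19283 (tt N21784 D32141) (tt N15589 (iv D29632)) (tt N20485 (iv F67941)) (tt N18972 F63897) (tt N21785 D32142) (tt N21351 (iv F70944)) (tt N21786 D32143))
theorem Q19285 : ∀ i, i < 19285 → P i := stepQ 19284 Q19284 (allL N19284 (tt N15595 F63898) (tt N21785 (iv F72403)) (tt N15590 F63899) (tt N20434 (iv F67788)) (tt N15589 (iv D29633)) (tt N21787 D32144) (tt N21767 (iv F72320)))
theorem Q19286 : ∀ i, i < 19286 → P i := stepQ 19285 Q19285 (allL N19285 (tt N15596 F63900) (tt N21788 D32145) (tt N15591 F63901) (tt N18974 F63902) (tt N21787 (iv F72410)) (tt N15589 (iv D29634)) (tt N19251 F63903))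
theorem Q19287 : ∀ i, i < 19287 → P i := stepQ 19286 Q19286 (allL N19286 (tt N15597 F63904) (tt N19325 (iv F64057)) (tt N21787 (iv F72409)) (tt N16303 F63905) (tt N15591 F63906) (tt N15590 (iv D29635)) (tt N19252 F63907))
theorem Q19288 : ∀ i, i < 19288 → P i := stepQ 19287 Q19287 (allL N19287 (tt N19552 (iv F64838)) (tt N15591 (iv D29636)) (tt N21789 D32146) (tt N15592 F63908) (tt N19325 (iv F64059)) (tt N19324 F64055) (tt N19548 (iv F64830)))
theorem Q19289 : ∀ i, i < 19289 → P i := stepQ 19288 Q19288 (allL N19288 (tt N15593 (iv D29637)) (tt N20723 (iv F68797)) (tt N21352 (iv F70946)) (tt N20620 (iv F68427)) (tt N21790 D32147) (tt N17592 (iv F63923)) (tt N20846 (iv F69313)))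
theorem Q19290 : ∀ i, i < 19290 → P i := stepQ 19289 Q19289 (allL N19289 (tt N20620 (iv F68424)) (tt N15594 F63909) (tt N18633 (iv F63910)) (tt N15593 (iv D29638)) (tt N20620 (iv F68428)) (tt N18006 (iv F63912)) (tt N18633 (iv F63911)))
theorem Q19291 : ∀ i, i < 19291 → P i := stepQ 19290 Q19290 (allL N19290 (tt N21790 (iv F72421)) (tt N15595 F63913) (tt N17982 F63914) (tt N21790 (iv F72424)) (tt N15593 (iv D29639)) (tt N17980 (iv F63915)) (tt N18018 (iv F63916)))
theorem Q19292 : ∀ i, i < 19292 → P i := stepQ 19291 Q19291 (allL N19291 (tt N17592 F63921) (tt N18631 F63922) (tt N17981 F63917) (tt N18006 F63918) (tt N17980 F63919) (tt N15593 (iv D29640)) (tt N18004 (iv F63920)))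
theorem Q19293 : ∀ i, i < 19293 → P i := stepQ 19292 Q19292 (allL N19292 (tt N20846 (iv F69311)) (tt N15964 F63924) (tt N18019 F63925) (tt N18633 F63926) (tt N18018 F63927) (tt N18632 F63928) (tt N15593 (iv D29641)))
theorem Q19294 : ∀ i, i < 19294 → P i := stepQ 19293 Q19293 (allL N19293 (tt N18973 F63929) (tt N20620 (iv F68425)) (tt N18970 F63930) (tt N20723 (iv F68798)) (tt N15594 (iv D29642)) (tt N18791 (iv F63932)) (tt N18798 F63931))
theorem Q19295 : ∀ i, i < 19295 → P i := stepQ 19294 Q19294 (allL N19294 (tt N18974 F63933) (tt N18053 F63934) (tt N18971 F63935) (tt N15596 F63936) (tt N18791 F63937) (tt N15594 (iv D29643)) (tt N20892 (iv F69493)))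
theorem Q19296 : ∀ i, i < 19296 → P i := stepQ 19295 Q19295 (allL N19295 (tt N20434 (iv F67787)) (tt N21790 (iv F72422)) (tt N20344 F67449) (tt N15595 (iv D29644)) (tt N20723 (iv F68799)) (tt N20721 F68794) (tt N21769 (iv F72330)))
theorem Q19297 : ∀ i, i < 19297 → P i := stepQ 19296 Q19296 (allL N19296 (tt N21787 (iv F72408)) (tt N20718 F68787) (tt N15597 F63938) (tt N20721 (iv F68792)) (tt N15596 F63939) (tt N15595 (iv D29645)) (tt N20934 (iv F69628)))
theorem Q19298 : ∀ i, i < 19298 → P i := stepQ 19297 Q19297 (allL N19297 (tt N20888 (iv F69476)) (tt N15596 (iv D29646)) (tt N21791 D32148) (tt N18053 F63940) (tt N20718 (iv F68785)) (tt N18631 F63941) (tt N18050 (iv F63942)))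
theorem Q19299 : ∀ i, i < 19299 → P i := stepQ 19298 Q19298 (allL N19298 (tt N15598 (iv D29647)) (tt N16023 F63947) (tt N21792 D32149) (tt N15599 F63943) (tt N16098 F63944) (tt N17668 F63945) (tt N16096 (iv F63946)))
theorem Q19300 : ∀ i, i < 19300 → P i := stepQ 19299 Q19299 (allL N19299 (tt N21792 (iv F72432)) (tt N21791 (iv F72427)) (tt N15598 (iv D29648)) (tt N21793 D32150) (tt N19777 (iv F65547)) (tt N19775 F65542) (tt N21794 D32151))
theorem Q19301 : ∀ i, i < 19301 → P i := stepQ 19300 Q19300 (allL N19300 (tt N16096 F63948) (tt N19482 (iv F64579)) (tt N21794 (iv F72440)) (tt N15600 F63949) (tt N16089 F63950) (tt N16088 F63951) (tt N15598 (iv D29649)))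
theorem Q19302 : ∀ i, i < 19302 → P i := stepQ 19301 Q19301 (allL N19301 (tt N18041 (iv F63955)) (tt N15604 (iv D29650)) (tt N18821 F63952) (tt N18472 F63953) (tt N18770 F63956) (tt N20948 (iv F69670)) (tt N18743 F63954))
theorem Q19303 : ∀ i, i < 19303 → P i := stepQ 19302 Q19302 (allL N19302 (tt N15612 (iv D29651)) (tt N16258 F63964) (tt N17476 F63965) (tt N16312 F63966) (tt N15616 F63967) (tt N17435 F63969) (tt N16747 F63968))
theorem Q19304 : ∀ i, i < 19304 → P i := stepQ 19303 Q19303 (allL N19303 (tt N17435 F63970) (tt N19665 (iv F65220)) (tt N17477 F63971) (tt N16314 F63972) (tt N15618 F63973) (tt N15612 (iv D29652)) (tt N17433 F63974))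
theorem Q19305 : ∀ i, i < 19305 → P i := stepQ 19304 Q19304 (allL N19304 (tt N15613 (iv D29653)) (tt N17433 F63975) (tt N16574 F63976) (tt N16316 F63977) (tt N15620 F63978) (tt N15614 F63979) (tt N16466 F63980))
theorem Q19306 : ∀ i, i < 19306 → P i := stepQ 19305 Q19305 (allL N19305 (tt N15617 F63981) (tt N20598 (iv F68337)) (tt N15616 (iv D29654)) (tt N17585 (iv F63984)) (tt N17476 F63982) (tt N17584 F63983) (tt N21260 (iv F70613)))
theorem Q19307 : ∀ i, i < 19307 → P i := stepQ 19306 Q19306 (allL N19306 (tt N17584 F63985) (tt N20791 (iv F69072)) (tt N15618 F63986) (tt N17583 F63987) (tt N17477 F63988) (tt N15617 (iv D29655)) (tt N18597 (iv F63989)))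
theorem Q19308 : ∀ i, i < 19308 → P i := stepQ 19307 Q19307 (allL N19307 (tt N21260 (iv F70609)) (tt N16594 F63990) (tt N15619 F63991) (tt N19931 (iv F66063)) (tt N16748 F63992) (tt N19930 F66060) (tt N15617 (iv D29656)))
theorem Q19309 : ∀ i, i < 19309 → P i := stepQ 19308 Q19308 (allL N19308 (tt N17186 F63993) (tt N15620 (iv F63998)) (tt N18597 F63994) (tt N15629 F63995) (tt N17433 F63996) (tt N19261 F63997) (tt N15618 (iv D29657)))
theorem Q19310 : ∀ i, i < 19310 → P i := stepQ 19309 Q19309 (allL N19309 (tt N15621 F63999) (tt N18537 F64000) (tt N15620 (iv D29658)) (tt N21795 D32152) (tt N16574 F64001) (tt N15622 F64002) (tt N19314 (iv F64022)))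
theorem Q19311 : ∀ i, i < 19311 → P i := stepQ 19310 Q19310 (allL N19310 (tt N21795 (iv F72443)) (tt N17116 F64003) (tt N21796 D32153) (tt N15621 (iv D29659)) (tt N19790 (iv F65584)) (tt N15624 F64004) (tt N19789 (iv F65580)))
theorem Q19312 : ∀ i, i < 19312 → P i := stepQ 19311 Q19311 (allL N19311 (tt N15624 F64005) (tt N17281 F64006) (tt N19319 (iv F64041)) (tt N15622 (iv D29660)) (tt N16107 F64007) (tt N21795 (iv F72446)) (tt N16105 F64008))
theorem Q19313 : ∀ i, i < 19313 → P i := stepQ 19312 Q19312 (allL N19312 (tt N19319 (iv F64039)) (tt N17298 (iv F64011)) (tt N15624 (iv D29661)) (tt N17466 F64010) (tt N17299 F64009) (tt N21796 (iv F72449)) (tt N17308 (iv F64012)))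
theorem Q19314 : ∀ i, i < 19314 → P i := stepQ 19313 Q19313 (allL N19313 (tt N16105 F64013) (tt N15940 (iv F64017)) (tt N17308 F64014) (tt N15625 F64015) (tt N15938 F64016) (tt N21797 D32154) (tt N15624 (iv D29662)))
theorem Q19315 : ∀ i, i < 19315 → P i := stepQ 19314 Q19314 (allL N19314 (tt N16573 F64018) (tt N16761 F64019) (tt N15626 F64020) (tt N21797 (iv F72455)) (tt N16499 F64021) (tt N15625 (iv D29663)) (tt N19309 F64022))
theorem Q19316 : ∀ i, i < 19316 → P i := stepQ 19315 Q19315 (allL N19315 (tt N16003 F64023) (tt N15626 (iv D29664)) (tt N20600 (iv F68348)) (tt N15637 F64024) (tt N17432 F64025) (tt N16001 F64026) (tt N16003 F64027))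
theorem Q19317 : ∀ i, i < 19317 → P i := stepQ 19316 Q19316 (allL N19316 (tt N15628 F64028) (tt N16143 F64029) (tt N21798 D32155) (tt N15627 (iv D29665)) (tt N16839 F64030) (tt N19264 F64031) (tt N16147 F64032))
theorem Q19318 : ∀ i, i < 19318 → P i := stepQ 19317 Q19317 (allL N19317 (tt N21798 (iv F72458)) (tt N21778 (iv F72371)) (tt N15628 (iv D29666)) (tt N20637 (iv F68475)) (tt N16841 F64033) (tt N20636 F68472) (tt N16837 F64034))
theorem Q19319 : ∀ i, i < 19319 → P i := stepQ 19318 Q19318 (allL N19318 (tt N20377 (iv F67572)) (tt N17234 F64038) (tt N15631 (iv D29667)) (tt N21799 D32156) (tt N17393 F64035) (tt N15633 F64036) (tt N16946 F64037))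
theorem Q19320 : ∀ i, i < 19320 → P i := stepQ 19319 Q19319 (allL N19319 (tt N19312 F64039) (tt N17252 F64040) (tt N19311 F64041) (tt N15633 (iv D29668)) (tt N19788 (iv F65577)) (tt N21799 (iv F72467)) (tt N19786 F65570))
theorem Q19321 : ∀ i, i < 19321 → P i := stepQ 19320 Q19320 (allL N19320 (tt N15643 F64042) (tt N20497 (iv F67986)) (tt N15638 (iv D29669)) (tt N19005 F64044) (tt N17261 (iv F64045)) (tt N17259 F64043) (tt N20483 (iv F67938)))
theorem Q19322 : ∀ i, i < 19322 → P i := stepQ 19321 Q19321 (allL N19321 (tt N15644 F64046) (tt N17461 F64047) (tt N17261 F64048) (tt N15933 F64049) (tt N15638 (iv D29670)) (tt N15930 F64050) (tt N19598 (iv F64998)))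
theorem Q19323 : ∀ i, i < 19323 → P i := stepQ 19322 Q19322 (allL N19322 (tt N15640 F64051) (tt N20203 F67010) (tt N19994 (iv F66305)) (tt N15639 (iv D29671)) (tt N21800 D32157) (tt N19244 F64052) (tt N20759 (iv F68959)))
theorem Q19324 : ∀ i, i < 19324 → P i := stepQ 19323 Q19323 (allL N19323 (tt N19994 (iv F66304)) (tt N21327 (iv F70841)) (tt N15640 (iv D29672)) (tt N19993 F66303) (tt N21326 (iv F70837)) (tt N21801 D32158) (tt N20570 (iv F68228)))
theorem Q19325 : ∀ i, i < 19325 → P i := stepQ 19324 Q19324 (allL N19324 (tt N21800 (iv F72469)) (tt N15644 F64053) (tt N21326 (iv F70839)) (tt N16327 F64054) (tt N15640 (iv D29673)) (tt N19287 (iv F64055)) (tt N19551 (iv F64837)))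
theorem Q19326 : ∀ i, i < 19326 → P i := stepQ 19325 Q19325 (allL N19325 (tt N19244 F64056) (tt N19286 F64057) (tt N21801 (iv F72478)) (tt N15641 F64058) (tt N19287 F64059) (tt N15640 (iv D29674)) (tt N21802 D32159))
theorem Q19327 : ∀ i, i < 19327 → P i := stepQ 19326 Q19326 (allL N19326 (tt N20759 F68960) (tt N21803 D32160) (tt N20570 (iv F68229)) (tt N15642 F64060) (tt N19551 (iv F64836)) (tt N19550 F64833) (tt N15640 (iv D29675)))
theorem Q19328 : ∀ i, i < 19328 → P i := stepQ 19327 Q19327 (allL N19327 (tt N16470 F64061) (tt N20765 (iv F68979)) (tt N15654 F64062) (tt N21802 (iv F72484)) (tt N16328 F64063) (tt N17789 F64064) (tt N15641 (iv D29676)))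
theorem Q19329 : ∀ i, i < 19329 → P i := stepQ 19328 Q19328 (allL N19328 (tt N19328 F64065) (tt N15642 (iv D29677)) (tt N15704 F64066) (tt N21803 (iv F72489)) (tt N16329 F64067) (tt N15704 F64068) (tt N15647 F64069))
theorem Q19330 : ∀ i, i < 19330 → P i := stepQ 19329 Q19329 (allL N19329 (tt N21445 (iv F71246)) (tt N15643 (iv D29678)) (tt N21327 (iv F70842)) (tt N20710 F68758) (tt N18846 F64070) (tt N21804 D32161) (tt N19329 F64071))
theorem Q19331 : ∀ i, i < 19331 → P i := stepQ 19330 Q19330 (allL N19330 (tt N19005 F64072) (tt N20710 (iv F68756)) (tt N19000 F64073) (tt N15643 (iv D29679)) (tt N17784 F64074) (tt N20756 (iv F68944)) (tt N17782 F64075))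
theorem Q19332 : ∀ i, i < 19332 → P i := stepQ 19331 Q19331 (allL N19331 (tt N17259 F64076) (tt N21805 D32162) (tt N15645 F64077) (tt N20756 (iv F68942)) (tt N17257 F64078) (tt N15643 (iv D29680)) (tt N17255 F64079))
theorem Q19333 : ∀ i, i < 19333 → P i := stepQ 19332 Q19332 (allL N19332 (tt N19332 F64080) (tt N15646 (iv D29681)) (tt N19332 F64081) (tt N15647 F64082) (tt N19599 (iv F65002)) (tt N15707 F64083) (tt N21803 (iv F72491)))
theorem Q19334 : ∀ i, i < 19334 → P i := stepQ 19333 Q19333 (allL N19333 (tt N15650 F64084) (tt N19468 (iv F64525)) (tt N15648 (iv D29682)) (tt N16473 (iv F64086)) (tt N15882 F64087) (tt N19238 F64085) (tt N17366 F64088))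
theorem Q19335 : ∀ i, i < 19335 → P i := stepQ 19334 Q19334 (allL N19334 (tt N15651 F64089) (tt N19231 F64090) (tt N15882 F64091) (tt N16331 F64092) (tt N15648 (iv D29683)) (tt N17338 F64093) (tt N19472 (iv F64543)))
theorem Q19336 : ∀ i, i < 19336 → P i := stepQ 19335 Q19335 (allL N19335 (tt N15653 F64094) (tt N20348 (iv F67467)) (tt N17366 F64095) (tt N15649 F64096) (tt N19472 (iv F64542)) (tt N19340 (iv F64119)) (tt N15648 (iv D29684)))
theorem Q19337 : ∀ i, i < 19337 → P i := stepQ 19336 Q19336 (allL N19336 (tt N19238 F64097) (tt N15948 F64098) (tt N15652 F64099) (tt N16476 F64100) (tt N15884 F64101) (tt N15650 (iv D29685)) (tt N18708 F64102))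
theorem Q19338 : ∀ i, i < 19338 → P i := stepQ 19337 Q19337 (allL N19337 (tt N17366 F64103) (tt N19657 (iv F65193)) (tt N15653 F64104) (tt N16477 F64105) (tt N15885 F64106) (tt N21330 (iv F70858)) (tt N15650 (iv D29686)))
theorem Q19339 : ∀ i, i < 19339 → P i := stepQ 19338 Q19338 (allL N19338 (tt N17338 F64107) (tt N19457 (iv F64490)) (tt N15884 F64108) (tt N16334 F64109) (tt N15652 F64110) (tt N15651 (iv D29687)) (tt N21325 (iv F70834)))
theorem Q19340 : ∀ i, i < 19340 → P i := stepQ 19339 Q19339 (allL N19339 (tt N19472 (iv F64540)) (tt N15723 F64111) (tt N15885 F64112) (tt N16335 F64113) (tt N15653 F64114) (tt N18701 F64115) (tt N15651 (iv D29688)))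
theorem Q19341 : ∀ i, i < 19341 → P i := stepQ 19340 Q19340 (allL N19340 (tt N19239 F64116) (tt N19756 (iv F65490)) (tt N18708 F64117) (tt N15654 F64118) (tt N21325 (iv F70832)) (tt N19335 F64119) (tt N15652 (iv D29689)))
theorem Q19342 : ∀ i, i < 19342 → P i := stepQ 19341 Q19341 (allL N19341 (tt N15658 F64120) (tt N20750 F68918) (tt N21806 D32163) (tt N15657 (iv D29691)) (tt N21807 D32164) (tt N21806 F72502) (tt N21808 D32165))
theorem Q19343 : ∀ i, i < 19343 → P i := stepQ 19342 Q19342 (allL N19342 (tt N15659 F64121) (tt N20752 (iv F68923)) (tt N21205 (iv F70428)) (tt N21687 F72038) (tt N15657 (iv D29692)) (tt N21809 D32166) (tt N19575 (iv F64916)))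
theorem Q19344 : ∀ i, i < 19344 → P i := stepQ 19343 Q19343 (allL N19343 (tt N15660 F64122) (tt N15978 (iv F64142)) (tt N21115 (iv F70154)) (tt N21806 (iv F72500)) (tt N21809 (iv F72510)) (tt N15657 (iv D29693)) (tt N19353 (iv F64141)))
theorem Q19345 : ∀ i, i < 19345 → P i := stepQ 19344 Q19344 (allL N19344 (tt N15661 F64123) (tt N17814 F64379) (tt N18368 F64124) (tt N21808 (iv F72506)) (tt N19575 (iv F64915)) (tt N19352 (iv F64138)) (tt N15657 (iv D29694)))
theorem Q19346 : ∀ i, i < 19346 → P i := stepQ 19345 Q19345 (allL N19345 (tt N21806 (iv F72499)) (tt N19012 F64125) (tt N15658 (iv D29695)) (tt N15660 F64127) (tt N21810 D32167) (tt N15658 (iv F64126)) (tt N21811 D32168))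
theorem Q19347 : ∀ i, i < 19347 → P i := stepQ 19346 Q19346 (allL N19346 (tt N21807 (iv F72503)) (tt N15662 F64128) (tt N21810 (iv F72513)) (tt N21812 D32169) (tt N15658 (iv D29696)) (tt N21810 (iv F72515)) (tt N21813 D32170))
theorem Q19348 : ∀ i, i < 19348 → P i := stepQ 19347 Q19347 (allL N19347 (tt N21808 (iv F72504)) (tt N15749 F64129) (tt N21811 (iv F72517)) (tt N15661 F64130) (tt N21813 (iv F72525)) (tt N21814 D32171) (tt N15658 (iv D29697)))
theorem Q19349 : ∀ i, i < 19349 → P i := stepQ 19348 Q19348 (allL N19348 (tt N21687 (iv F72034)) (tt N15663 F64131) (tt N19153 F64393) (tt N15659 (iv D29698)) (tt N21812 (iv F72521)) (tt N19151 (iv F64394)) (tt N21708 (iv F72095)))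
theorem Q19350 : ∀ i, i < 19350 → P i := stepQ 19349 Q19349 (allL N19349 (tt N21809 (iv F72507)) (tt N15891 F64375) (tt N21206 (iv F70431)) (tt N19151 F64376) (tt N15660 F64132) (tt N15659 (iv D29699)) (tt N15895 (iv F64374)))
theorem Q19351 : ∀ i, i < 19351 → P i := stepQ 19350 Q19350 (allL N19350 (tt N19575 (iv F64913)) (tt N15752 F64133) (tt N18365 F64134) (tt N21708 (iv F72096)) (tt N15661 F64135) (tt N19573 (iv F64911)) (tt N15659 (iv D29700)))
theorem Q19352 : ∀ i, i < 19352 → P i := stepQ 19351 Q19351 (allL N19351 (tt N21815 D32172) (tt N15660 (iv D29701)) (tt N21226 (iv F70493)) (tt N19012 F64136) (tt N15891 (iv F64395)) (tt N15665 F64137) (tt N15889 F64380))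
theorem Q19353 : ∀ i, i < 19353 → P i := stepQ 19352 Q19352 (allL N19352 (tt N19353 (iv F64139)) (tt N15894 (iv F64378)) (tt N21113 (iv F70148)) (tt N21811 (iv F72518)) (tt N15895 F64377) (tt N19344 F64138) (tt N15660 (iv D29702)))
theorem Q19354 : ∀ i, i < 19354 → P i := stepQ 19353 Q19353 (allL N19353 (tt N19352 F64139) (tt N19569 (iv F64897)) (tt N18369 F64140) (tt N21814 (iv F72528)) (tt N19573 (iv F64910)) (tt N15661 (iv D29703)) (tt N19343 F64141))
theorem Q19355 : ∀ i, i < 19355 → P i := stepQ 19354 Q19354 (allL N19354 (tt N19018 F64143) (tt N21812 (iv F72520)) (tt N21816 D32173) (tt N15662 (iv D29704)) (tt N15663 F64144) (tt N21642 (iv F71862)) (tt N15756 F64145))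
theorem Q19356 : ∀ i, i < 19356 → P i := stepQ 19355 Q19355 (allL N19355 (tt N19127 F64146) (tt N19183 (iv F64386)) (tt N15663 (iv D29705)) (tt N19428 F64423) (tt N21816 (iv F72537)) (tt N21817 D32174) (tt N15759 F64147))
theorem Q19357 : ∀ i, i < 19357 → P i := stepQ 19356 Q19356 (allL N19356 (tt N19155 F64148) (tt N21818 D32175) (tt N21817 (iv F72542)) (tt N15664 F64149) (tt N21642 (iv F71861)) (tt N15663 (iv D29706)) (tt N19420 (iv F64348)))
theorem Q19358 : ∀ i, i < 19358 → P i := stepQ 19357 Q19357 (allL N19357 (tt N19569 (iv F64896)) (tt N15664 (iv D29707)) (tt N21163 (iv F70291)) (tt N21818 (iv F72546)) (tt N15665 F64150) (tt N15891 F64396) (tt N19563 (iv F64881)))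
theorem Q19359 : ∀ i, i < 19359 → P i := stepQ 19358 Q19358 (allL N19358 (tt N15665 (iv D29708)) (tt N19573 (iv F64909)) (tt N21161 (iv F70286)) (tt N21645 (iv F71871)) (tt N19569 (iv F64899)) (tt N21815 (iv F72533)) (tt N19568 (iv F64895)))
theorem Q19360 : ∀ i, i < 19360 → P i := stepQ 19359 Q19359 (allL N19359 (tt N21161 (iv F70285)) (tt N15668 F64151) (tt N15665 (iv D29709)) (tt N21819 D32176) (tt N21163 (iv F70292)) (tt N21226 (iv F70495)) (tt N21160 F70284))
theorem Q19361 : ∀ i, i < 19361 → P i := stepQ 19360 Q19360 (allL N19360 (tt N19568 (iv F64891)) (tt N19421 (iv F64349)) (tt N21160 (iv F70282)) (tt N19023 F64152) (tt N19563 (iv F64880)) (tt N19562 (iv F64876)) (tt N15665 (iv D29710)))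
theorem Q19362 : ∀ i, i < 19362 → P i := stepQ 19361 Q19361 (allL N19361 (tt N15666 (iv D29711)) (tt N20330 (iv F67392)) (tt N18297 (iv F64156)) (tt N16350 F64153) (tt N15667 F64154) (tt N18303 F64155) (tt N21820 D32177))
theorem Q19363 : ∀ i, i < 19363 → P i := stepQ 19362 Q19362 (allL N19362 (tt N18297 F64157) (tt N21163 (iv F70294)) (tt N15666 (iv D29712)) (tt N20998 (iv F69799)) (tt N15668 F64158) (tt N18302 F64159) (tt N21064 (iv F70002)))
theorem Q19364 : ∀ i, i < 19364 → P i := stepQ 19363 Q19363 (allL N19363 (tt N21820 (iv F72549)) (tt N16823 F64160) (tt N21064 (iv F69999)) (tt N16351 F64161) (tt N15669 F64162) (tt N21063 (iv F69997)) (tt N15666 (iv D29713)))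
theorem Q19365 : ∀ i, i < 19365 → P i := stepQ 19364 Q19364 (allL N19364 (tt N20327 (iv F67376)) (tt N15667 (iv D29714)) (tt N20396 (iv F67640)) (tt N15670 F64163) (tt N20330 (iv F67394)) (tt N17636 F64164) (tt N19751 (iv F65473)))
theorem Q19366 : ∀ i, i < 19366 → P i := stepQ 19365 Q19365 (allL N19365 (tt N15668 F64165) (tt N18296 (iv F64168)) (tt N15667 (iv D29715)) (tt N21821 D32178) (tt N18297 F64166) (tt N18301 F64167) (tt N21822 D32179))
theorem Q19367 : ∀ i, i < 19367 → P i := stepQ 19366 Q19366 (allL N19366 (tt N15669 F64169) (tt N20058 (iv F66493)) (tt N21822 (iv F72560)) (tt N15672 F64170) (tt N21820 (iv F72552)) (tt N18496 F64171) (tt N15667 (iv D29716)))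
theorem Q19368 : ∀ i, i < 19368 → P i := stepQ 19367 Q19367 (allL N19367 (tt N21821 (iv F72554)) (tt N21819 (iv F72548)) (tt N21258 (iv F70601)) (tt N15668 (iv D29717)) (tt N21823 D32180) (tt N21213 (iv F70446)) (tt N21257 F70599))
theorem Q19369 : ∀ i, i < 19369 → P i := stepQ 19368 Q19368 (allL N19368 (tt N21822 (iv F72559)) (tt N21824 D32181) (tt N15669 F64172) (tt N21257 (iv F70598)) (tt N21064 (iv F70001)) (tt N21060 (iv F69986)) (tt N15668 (iv D29718)))
theorem Q19370 : ∀ i, i < 19370 → P i := stepQ 19369 Q19369 (allL N19369 (tt N18496 F64173) (tt N18111 F64176) (tt N21060 (iv F69984)) (tt N15675 F64174) (tt N21063 (iv F69996)) (tt N15669 (iv D29719)) (tt N18494 F64175))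
theorem Q19371 : ∀ i, i < 19371 → P i := stepQ 19370 Q19370 (allL N19370 (tt N15773 F64177) (tt N20645 (iv F68507)) (tt N15675 F64178) (tt N18573 F64179) (tt N16354 F64180) (tt N15674 (iv D29720)) (tt N17578 F64181))
theorem Q19372 : ∀ i, i < 19372 → P i := stepQ 19371 Q19371 (allL N19371 (tt N15684 F64182) (tt N18129 F64183) (tt N15681 F64184) (tt N19035 F64185) (tt N16564 F64186) (tt N17304 F64187) (tt N15679 (iv D29721)))
theorem Q19373 : ∀ i, i < 19373 → P i := stepQ 19372 Q19372 (allL N19372 (tt N19372 F64188) (tt N15681 (iv D29722)) (tt N18130 F64189) (tt N15682 F64190) (tt N20207 (iv F67028)) (tt N20156 (iv F66852)) (tt N18130 F64191))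
theorem Q19374 : ∀ i, i < 19374 → P i := stepQ 19373 Q19373 (allL N19373 (tt N19373 F64192) (tt N18348 F64193) (tt N18131 F64194) (tt N20156 (iv F66850)) (tt N16355 F64195) (tt N15682 (iv D29723)) (tt N18131 F64196))
theorem Q19375 : ∀ i, i < 19375 → P i := stepQ 19374 Q19374 (allL N19374 (tt N19035 F64197) (tt N21825 D32182) (tt N19033 F64198) (tt N15684 F64199) (tt N20817 (iv F69197)) (tt N20815 (iv F69185)) (tt N15683 (iv D29724)))
theorem Q19376 : ∀ i, i < 19376 → P i := stepQ 19375 Q19375 (allL N19375 (tt N17129 F64204) (tt N15684 (iv D29725)) (tt N17138 F64200) (tt N21825 (iv F72570)) (tt N17418 F64201) (tt N17137 F64202) (tt N17305 F64203))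
theorem Q19377 : ∀ i, i < 19377 → P i := stepQ 19376 Q19376 (allL N19376 (tt N21826 D32183) (tt N15687 (iv D29726)) (tt N17871 F64205) (tt N15689 F64206) (tt N17870 F64207) (tt N21236 (iv F70522)) (tt N20646 (iv F68514)))
theorem Q19378 : ∀ i, i < 19378 → P i := stepQ 19377 Q19377 (allL N19377 (tt N20937 (iv F69636)) (tt N15688 (iv D29727)) (tt N17617 F64208) (tt N21236 (iv F70520)) (tt N16356 F64209) (tt N15689 F64210) (tt N20641 (iv F68490)))
theorem Q19379 : ∀ i, i < 19379 → P i := stepQ 19378 Q19378 (allL N19378 (tt N15689 (iv D29728)) (tt N20601 F68357) (tt N19593 (iv F64975)) (tt N21826 (iv F72577)) (tt N16357 F64211) (tt N20937 (iv F69641)) (tt N20647 (iv F68519)))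
theorem Q19380 : ∀ i, i < 19380 → P i := stepQ 19379 Q19379 (allL N19379 (tt N16082 F64212) (tt N17184 F64213) (tt N15690 (iv D29729)) (tt N18076 F64215) (tt N21324 (iv F70827)) (tt N18073 F64214) (tt N20843 (iv F69306)))
theorem Q19381 : ∀ i, i < 19381 → P i := stepQ 19380 Q19380 (allL N19380 (tt N16085 F64216) (tt N20665 F68569) (tt N20843 (iv F69304)) (tt N15692 F64217) (tt N19276 F64218) (tt N19275 F64219) (tt N15690 (iv D29730)))
theorem Q19382 : ∀ i, i < 19382 → P i := stepQ 19381 Q19381 (allL N19381 (tt N17727 F64224) (tt N15691 (iv D29731)) (tt N17526 F64220) (tt N21760 (iv F72293)) (tt N16266 F64221) (tt N15695 F64222) (tt N16278 F64223))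
theorem Q19383 : ∀ i, i < 19383 → P i := stepQ 19382 Q19382 (allL N19382 (tt N17726 (iv F64228)) (tt N15693 (iv D29732)) (tt N19230 (iv F64229)) (tt N15695 F64225) (tt N15935 F64226) (tt N21760 (iv F72294)) (tt N17528 F64227))
theorem Q19384 : ∀ i, i < 19384 → P i := stepQ 19383 Q19383 (allL N19383 (tt N17545 (iv F64231)) (tt N15694 (iv D29733)) (tt N21827 D32184) (tt N15696 F64230) (tt N19597 (iv F64991)) (tt N21828 D32185) (tt N20665 (iv F68568)))
theorem Q19385 : ∀ i, i < 19385 → P i := stepQ 19384 Q19384 (allL N19384 (tt N17546 F64232) (tt N15823 F64233) (tt N17543 F64234) (tt N21828 (iv F72585)) (tt N16358 F64235) (tt N15696 (iv D29734)) (tt N17607 F64236))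
theorem Q19386 : ∀ i, i < 19386 → P i := stepQ 19385 Q19385 (allL N19385 (tt N15701 F64237) (tt N17681 F64238) (tt N17333 F64239) (tt N15698 F64240) (tt N17682 F64241) (tt N19387 (iv F64249)) (tt N15697 (iv D29735)))
theorem Q19387 : ∀ i, i < 19387 → P i := stepQ 19386 Q19386 (allL N19386 (tt N19466 (iv F64517)) (tt N15700 (iv D29736)) (tt N19465 F64516) (tt N15702 F64242) (tt N17532 F64243) (tt N15706 F64244) (tt N19477 (iv F64561)))
theorem Q19388 : ∀ i, i < 19388 → P i := stepQ 19387 Q19387 (allL N19387 (tt N15878 F64245) (tt N17436 (iv F64250)) (tt N17336 F64246) (tt N15703 F64247) (tt N15872 F64248) (tt N19385 F64249) (tt N15700 (iv D29737)))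
theorem Q19389 : ∀ i, i < 19389 → P i := stepQ 19388 Q19388 (allL N19388 (tt N19388 F64251) (tt N15701 (iv D29738)) (tt N19388 F64252) (tt N15704 F64253) (tt N19558 (iv F64864)) (tt N21803 (iv F72490)) (tt N15707 F64254))
theorem Q19390 : ∀ i, i < 19390 → P i := stepQ 19389 Q19389 (allL N19389 (tt N17657 (iv F64258)) (tt N15705 (iv D29739)) (tt N19467 (iv F64522)) (tt N15925 F64255) (tt N15706 F64256) (tt N17532 F64257) (tt N21829 D32186))
theorem Q19391 : ∀ i, i < 19391 → P i := stepQ 19390 Q19390 (allL N19390 (tt N19470 (iv F64533)) (tt N15810 F64259) (tt N19469 (iv F64529)) (tt N15710 F64260) (tt N21829 (iv F72592)) (tt N15788 (iv F64261)) (tt N15706 (iv D29740)))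
theorem Q19392 : ∀ i, i < 19392 → P i := stepQ 19391 Q19391 (allL N19391 (tt N15710 F64262) (tt N17727 F64263) (tt N15778 F64264) (tt N19470 (iv F64535)) (tt N16360 F64265) (tt N15786 F64266) (tt N15708 (iv D29741)))
theorem Q19393 : ∀ i, i < 19393 → P i := stepQ 19392 Q19392 (allL N19392 (tt N19471 (iv F64536)) (tt N15711 F64267) (tt N15788 F64269) (tt N15709 (iv D29742)) (tt N20492 (iv F67971)) (tt N19469 (iv F64531)) (tt N15776 F64268))
theorem Q19394 : ∀ i, i < 19394 → P i := stepQ 19393 Q19393 (allL N19393 (tt N19807 (iv F65635)) (tt N15796 F64270) (tt N15711 (iv D29743)) (tt N18038 (iv F64273)) (tt N21830 D32187) (tt N15739 F64271) (tt N18036 F64272))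
theorem Q19395 : ∀ i, i < 19395 → P i := stepQ 19394 Q19394 (allL N19394 (tt N19806 F65633) (tt N20492 (iv F67968)) (tt N21830 (iv F72595)) (tt N16361 F64274) (tt N15711 (iv D29744)) (tt N15740 F64275) (tt N17263 F64276))
theorem Q19396 : ∀ i, i < 19396 → P i := stepQ 19395 Q19395 (allL N19395 (tt N16029 F64277) (tt N15714 F64278) (tt N17232 F64279) (tt N15859 F64280) (tt N15712 (iv D29745)) (tt N15858 F64281) (tt N21831 D32188))
theorem Q19397 : ∀ i, i < 19397 → P i := stepQ 19396 Q19396 (allL N19396 (tt N16031 F64282) (tt N20429 (iv F67764)) (tt N17233 F64283) (tt N15713 F64284) (tt N21831 (iv F72603)) (tt N19697 (iv F65306)) (tt N15712 (iv D29746)))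
theorem Q19398 : ∀ i, i < 19398 → P i := stepQ 19397 Q19397 (allL N19397 (tt N15722 F64285) (tt N19514 (iv F64701)) (tt N20551 (iv F68162)) (tt N16192 F64286) (tt N15715 F64287) (tt N15714 (iv D29747)) (tt N19411 (iv F64319)))
theorem Q19399 : ∀ i, i < 19399 → P i := stepQ 19398 Q19398 (allL N19398 (tt N15723 F64288) (tt N16937 (iv F64291)) (tt N20552 (iv F68167)) (tt N16363 F64289) (tt N15716 F64290) (tt N19410 (iv F64313)) (tt N15714 (iv D29748)))
theorem Q19400 : ∀ i, i < 19400 → P i := stepQ 19399 Q19399 (allL N19399 (tt N16936 (iv F64294)) (tt N15716 (iv D29749)) (tt N20569 (iv F68221)) (tt N15717 F64292) (tt N16937 F64293) (tt N21099 (iv F70105)) (tt N20429 (iv F67767)))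
theorem Q19401 : ∀ i, i < 19401 → P i := stepQ 19400 Q19400 (allL N19400 (tt N15718 (iv D29750)) (tt N21130 (iv F70195)) (tt N15728 F64295) (tt N20546 (iv F68145)) (tt N20565 (iv F68208)) (tt N21832 D32189) (tt N19608 (iv F65035)))
theorem Q19402 : ∀ i, i < 19402 → P i := stepQ 19401 Q19401 (allL N19401 (tt N20565 (iv F68205)) (tt N15719 F64296) (tt N15729 F64297) (tt N20558 (iv F68185)) (tt N15718 (iv D29751)) (tt N21833 D32190) (tt N19654 (iv F65185)))
theorem Q19403 : ∀ i, i < 19403 → P i := stepQ 19402 Q19402 (allL N19402 (tt N21832 (iv F72604)) (tt N21834 D32191) (tt N15730 F64298) (tt N20547 (iv F68148)) (tt N21833 (iv F72608)) (tt N15718 (iv D29752)) (tt N15944 F64398))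
theorem Q19404 : ∀ i, i < 19404 → P i := stepQ 19403 Q19403 (allL N19403 (tt N19608 (iv F65032)) (tt N19656 (iv F65190)) (tt N15731 F64299) (tt N20548 (iv F68151)) (tt N19654 (iv F65184)) (tt N19606 (iv F65028)) (tt N15718 (iv D29753)))
theorem Q19405 : ∀ i, i < 19405 → P i := stepQ 19404 Q19404 (allL N19404 (tt N16162 F64300) (tt N20558 (iv F68183)) (tt N18762 F64302) (tt N15719 (iv D29754)) (tt N16158 F64301) (tt N21835 D32192) (tt N21836 D32193))
theorem Q19406 : ∀ i, i < 19406 → P i := stepQ 19405 Q19405 (allL N19405 (tt N20551 (iv F68160)) (tt N21837 D32194) (tt N15722 F64303) (tt N21835 (iv F72614)) (tt N15720 F64304) (tt N15719 (iv D29755)) (tt N21499 (iv F71416)))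
theorem Q19407 : ∀ i, i < 19407 → P i := stepQ 19406 Q19406 (allL N19406 (tt N20552 (iv F68165)) (tt N19661 (iv F65204)) (tt N15723 F64305) (tt N21836 (iv F72618)) (tt N15721 F64306) (tt N21838 D32195) (tt N15719 (iv D29756)))
theorem Q19408 : ∀ i, i < 19408 → P i := stepQ 19407 Q19407 (allL N19407 (tt N21481 (iv F71355)) (tt N15720 (iv D29757)) (tt N21839 D32196) (tt N20549 (iv F68154)) (tt N21837 (iv F72621)) (tt N21834 (iv F72610)) (tt N21425 (iv F71181)))
theorem Q19409 : ∀ i, i < 19409 → P i := stepQ 19408 Q19408 (allL N19408 (tt N21840 D32197) (tt N15721 (iv D29758)) (tt N19657 (iv F65194)) (tt N20550 (iv F68158)) (tt N19661 (iv F65206)) (tt N21405 (iv F71122)) (tt N19656 F65192))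
theorem Q19410 : ∀ i, i < 19410 → P i := stepQ 19409 Q19409 (allL N19409 (tt N18912 F64307) (tt N21841 D32198) (tt N15726 F64308) (tt N17350 F64309) (tt N21838 (iv F72624)) (tt N15721 (iv D29759)) (tt N17348 F64310))
theorem Q19411 : ∀ i, i < 19411 → P i := stepQ 19410 Q19410 (allL N19410 (tt N19411 (iv F64315)) (tt N17863 (iv F64314)) (tt N21499 (iv F71414)) (tt N16369 F64311) (tt N15725 F64312) (tt N19398 F64313) (tt N15722 (iv D29760)))
theorem Q19412 : ∀ i, i < 19412 → P i := stepQ 19411 Q19411 (allL N19411 (tt N19410 F64315) (tt N18620 F64316) (tt N21838 (iv F72623)) (tt N16370 F64317) (tt N15726 F64318) (tt N15723 (iv D29761)) (tt N19397 F64319))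
theorem Q19413 : ∀ i, i < 19413 → P i := stepQ 19412 Q19412 (allL N19412 (tt N20189 (iv F66953)) (tt N21839 (iv F72627)) (tt N15724 (iv D29762)) (tt N18880 F64322) (tt N18882 F64320) (tt N15735 F64321) (tt N21842 D32199))
theorem Q19414 : ∀ i, i < 19414 → P i := stepQ 19413 Q19413 (allL N19413 (tt N19423 (iv F64402)) (tt N20801 (iv F69105)) (tt N21842 (iv F72635)) (tt N15727 F64323) (tt N16827 F64324) (tt N16826 F64325) (tt N15724 (iv D29763)))
theorem Q19415 : ∀ i, i < 19415 → P i := stepQ 19414 Q19414 (allL N19414 (tt N21297 (iv F70720)) (tt N15728 (iv D29764)) (tt N19125 (iv F64384)) (tt N19066 F64326) (tt N15763 F64383) (tt N19414 F64327) (tt N15761 F64371))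
theorem Q19416 : ∀ i, i < 19416 → P i := stepQ 19415 Q19415 (allL N19415 (tt N15729 F64328) (tt N15763 (iv F64381)) (tt N20565 (iv F68207)) (tt N19078 F64382) (tt N15728 (iv D29765)) (tt N21843 D32200) (tt N15764 F64372))
theorem Q19417 : ∀ i, i < 19417 → P i := stepQ 19416 Q19416 (allL N19416 (tt N15730 F64329) (tt N19416 F64330) (tt N21832 (iv F72605)) (tt N19068 F64331) (tt N21843 (iv F72642)) (tt N15728 (iv D29766)) (tt N15954 (iv F64360)))
theorem Q19418 : ∀ i, i < 19418 → P i := stepQ 19417 Q19417 (allL N19417 (tt N19078 (iv F64385)) (tt N15732 F64334) (tt N19077 F64387) (tt N15729 (iv D29768)) (tt N19069 F64335) (tt N21844 D32201) (tt N19157 F64336))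
theorem Q19419 : ∀ i, i < 19419 → P i := stepQ 19418 Q19418 (allL N19418 (tt N21843 (iv F72639)) (tt N20774 (iv F69018)) (tt N21833 (iv F72607)) (tt N21844 (iv F72646)) (tt N15730 F64337) (tt N15729 (iv D29769)) (tt N15955 (iv F64373)))
theorem Q19420 : ∀ i, i < 19420 → P i := stepQ 19419 Q19419 (allL N19419 (tt N20782 (iv F69035)) (tt N15730 (iv D29770)) (tt N20775 (iv F69023)) (tt N19072 F64338) (tt N20774 (iv F69020)) (tt N15734 F64339) (tt N15959 F64354))
theorem Q19421 : ∀ i, i < 19421 → P i := stepQ 19420 Q19420 (allL N19420 (tt N15760 F64345) (tt N20773 (iv F69015)) (tt N19628 (iv F65108)) (tt N15733 F64346) (tt N19074 F64347) (tt N15732 (iv D29773)) (tt N19356 F64348))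
theorem Q19422 : ∀ i, i < 19422 → P i := stepQ 19421 Q19421 (allL N19421 (tt N19623 (iv F65086)) (tt N19360 F64349) (tt N17827 F64350) (tt N19079 F64351) (tt N17826 F64352) (tt N17825 F64353) (tt N15734 (iv D29774)))
theorem Q19423 : ∀ i, i < 19423 → P i := stepQ 19422 Q19422 (allL N19422 (tt N20194 (iv F66972)) (tt N21845 D32202) (tt N15736 F64399) (tt N18858 F64400) (tt N18859 F64401) (tt N21846 D32203) (tt N15735 (iv D29775)))
theorem Q19424 : ∀ i, i < 19424 → P i := stepQ 19423 Q19423 (allL N19423 (tt N19413 F64402) (tt N17572 F64403) (tt N21846 (iv F72654)) (tt N15738 F64404) (tt N16817 F64405) (tt N15736 (iv D29776)) (tt N16816 F64406))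
theorem Q19425 : ∀ i, i < 19425 → P i := stepQ 19424 Q19424 (allL N19424 (tt N20845 (iv F69308)) (tt N15739 (iv D29777)) (tt N18013 F64407) (tt N18618 F64408) (tt N18012 (iv F64411)) (tt N15831 F64409) (tt N18617 F64410))
theorem Q19426 : ∀ i, i < 19426 → P i := stepQ 19425 Q19425 (allL N19425 (tt N21291 (iv F70700)) (tt N18012 F64412) (tt N15740 F64413) (tt N21847 D32204) (tt N15739 (iv D29778)) (tt N21830 (iv F72597)) (tt N20913 (iv F69578)))
theorem Q19427 : ∀ i, i < 19427 → P i := stepQ 19426 Q19426 (allL N19426 (tt N15741 (iv D29779)) (tt N21297 (iv F70721)) (tt N16345 F64414) (tt N19652 (iv F65179)) (tt N16346 (iv F64416)) (tt N20003 (iv F66339)) (tt N16408 F64415))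
theorem Q19428 : ∀ i, i < 19428 → P i := stepQ 19427 Q19427 (allL N19427 (tt N19652 (iv F65177)) (tt N15742 F64417) (tt N19622 (iv F65082)) (tt N15741 (iv D29780)) (tt N21746 (iv F72238)) (tt N21848 D32205) (tt N16517 F64418))
theorem Q19429 : ∀ i, i < 19429 → P i := stepQ 19428 Q19428 (allL N19428 (tt N16346 F64419) (tt N15743 F64420) (tt N16337 F64421) (tt N19355 (iv F64423)) (tt N15741 (iv D29781)) (tt N19630 (iv F65118)) (tt N16382 F64422))
theorem Q19430 : ∀ i, i < 19430 → P i := stepQ 19429 Q19429 (allL N19429 (tt N20003 (iv F66335)) (tt N20758 (iv F68951)) (tt N16518 F64424) (tt N21848 (iv F72663)) (tt N19630 (iv F65117)) (tt N15741 (iv D29782)) (tt N19629 F65115))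
theorem Q19431 : ∀ i, i < 19431 → P i := stepQ 19430 Q19430 (allL N19430 (tt N15747 F64425) (tt N21746 F72239) (tt N20760 (iv F68962)) (tt N21722 (iv F72152)) (tt N15742 (iv D29783)) (tt N21721 F72149) (tt N21849 D32206))
theorem Q19432 : ∀ i, i < 19432 → P i := stepQ 19431 Q19431 (allL N19431 (tt N15748 F64426) (tt N21850 D32207) (tt N20761 (iv F68964)) (tt N15744 F64427) (tt N21721 (iv F72148)) (tt N15742 (iv D29784)) (tt N19442 (iv F64450)))
theorem Q19433 : ∀ i, i < 19433 → P i := stepQ 19432 Q19432 (allL N19432 (tt N15749 F64428) (tt N19632 (iv F65121)) (tt N20762 (iv F68968)) (tt N15745 F64429) (tt N21849 (iv F72667)) (tt N19441 (iv F64447)) (tt N15742 (iv D29785)))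
theorem Q19434 : ∀ i, i < 19434 → P i := stepQ 19433 Q19433 (allL N19433 (tt N15752 F64430) (tt N19634 (iv F65126)) (tt N16069 F64431) (tt N21724 (iv F72159)) (tt N15745 F64432) (tt N19445 (iv F64460)) (tt N15743 (iv D29786)))
theorem Q19435 : ∀ i, i < 19435 → P i := stepQ 19434 Q19434 (allL N19434 (tt N17773 F64433) (tt N15744 (iv D29787)) (tt N17768 (iv F64435)) (tt N21850 (iv F72670)) (tt N17767 F64434) (tt N20758 (iv F68955)) (tt N17792 F64436))
theorem Q19436 : ∀ i, i < 19436 → P i := stepQ 19435 Q19435 (allL N19435 (tt N20760 (iv F68961)) (tt N19045 F64437) (tt N15747 F64438) (tt N21851 D32208) (tt N15746 (iv D29788)) (tt N21852 D32209) (tt N21853 D32210))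
theorem Q19437 : ∀ i, i < 19437 → P i := stepQ 19436 Q19436 (allL N19436 (tt N20761 (iv F68963)) (tt N21687 (iv F72035)) (tt N15748 F64439) (tt N20752 (iv F68925)) (tt N21852 (iv F72676)) (tt N15746 (iv D29789)) (tt N20751 F68921))
theorem Q19438 : ∀ i, i < 19438 → P i := stepQ 19437 Q19437 (allL N19437 (tt N20762 (iv F68967)) (tt N21848 (iv F72665)) (tt N15749 F64440) (tt N20758 (iv F68953)) (tt N21853 (iv F72678)) (tt N21850 (iv F72671)) (tt N15746 (iv D29790)))
theorem Q19439 : ∀ i, i < 19439 → P i := stepQ 19438 Q19438 (allL N19438 (tt N21722 (iv F72150)) (tt N15756 F64441) (tt N21719 (iv F72140)) (tt N15747 (iv D29791)) (tt N15750 F64442) (tt N21718 (iv F72137)) (tt N21854 D32211))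
theorem Q19440 : ∀ i, i < 19440 → P i := stepQ 19439 Q19439 (allL N19439 (tt N21721 (iv F72147)) (tt N21685 (iv F72027)) (tt N21852 (iv F72675)) (tt N21718 (iv F72136)) (tt N15748 F64443) (tt N15747 (iv D29792)) (tt N21639 F71851))
theorem Q19441 : ∀ i, i < 19441 → P i := stepQ 19440 Q19440 (allL N19440 (tt N21849 (iv F72666)) (tt N21813 (iv F72524)) (tt N21853 (iv F72677)) (tt N21854 (iv F72680)) (tt N15749 F64444) (tt N21855 D32212) (tt N15747 (iv D29793)))
theorem Q19442 : ∀ i, i < 19442 → P i := stepQ 19441 Q19441 (allL N19441 (tt N19442 (iv F64448)) (tt N16410 F64445) (tt N20751 (iv F68920)) (tt N15754 F64446) (tt N21639 (iv F71850)) (tt N19432 F64447) (tt N15748 (iv D29794)))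
theorem Q19443 : ∀ i, i < 19443 → P i := stepQ 19442 Q19442 (allL N19442 (tt N19441 F64448) (tt N21856 D32213) (tt N21850 F72672) (tt N15755 F64449) (tt N21855 (iv F72685)) (tt N15749 (iv D29795)) (tt N19431 F64450))
theorem Q19444 : ∀ i, i < 19444 → P i := stepQ 19443 Q19443 (allL N19443 (tt N21724 (iv F72156)) (tt N21708 F72097) (tt N19189 F64451) (tt N15752 F64452) (tt N21854 (iv F72681)) (tt N19184 F64453) (tt N15750 (iv D29796)))
theorem Q19445 : ∀ i, i < 19445 → P i := stepQ 19444 Q19444 (allL N19444 (tt N15761 F64454) (tt N15751 (iv D29797)) (tt N18719 F64455) (tt N21717 (iv F72131)) (tt N15753 F64456) (tt N15761 F64457) (tt N21297 (iv F70724)))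
theorem Q19446 : ∀ i, i < 19446 → P i := stepQ 19445 Q19445 (allL N19445 (tt N19446 (iv F64462)) (tt N16408 (iv F64461)) (tt N16072 F64458) (tt N19651 (iv F65174)) (tt N15754 F64459) (tt N19433 F64460) (tt N15751 (iv D29798)))
theorem Q19447 : ∀ i, i < 19447 → P i := stepQ 19446 Q19446 (allL N19446 (tt N19445 F64462) (tt N21815 (iv F72530)) (tt N16073 F64463) (tt N19184 F64464) (tt N15755 F64465) (tt N15752 (iv D29799)) (tt N19181 F64466))
theorem Q19448 : ∀ i, i < 19448 → P i := stepQ 19447 Q19447 (allL N19447 (tt N15891 (iv F64468)) (tt N15755 (iv D29800)) (tt N21165 (iv F70300)) (tt N21856 (iv F72689)) (tt N21815 (iv F72532)) (tt N19569 (iv F64900)) (tt N15887 F64467))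
theorem Q19449 : ∀ i, i < 19449 → P i := stepQ 19448 Q19448 (allL N19448 (tt N19073 F64469) (tt N21857 D32214) (tt N15756 (iv D29801)) (tt N19207 F64471) (tt N15759 F64470) (tt N21858 D32215) (tt N21816 (iv F72538)))
theorem Q19450 : ∀ i, i < 19450 → P i := stepQ 19449 Q19449 (allL N19449 (tt N19074 F64472) (tt N21859 D32216) (tt N21858 (iv F72697)) (tt N15757 F64473) (tt N15760 F64474) (tt N15756 (iv D29802)) (tt N21583 (iv F71692)))
theorem Q19451 : ∀ i, i < 19451 → P i := stepQ 19450 Q19450 (allL N19450 (tt N21685 (iv F72026)) (tt N15757 (iv D29803)) (tt N19082 (iv F64476)) (tt N21859 (iv F72701)) (tt N15758 F64475) (tt N21685 (iv F72030)) (tt N19081 (iv F64477)))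
theorem Q19452 : ∀ i, i < 19452 → P i := stepQ 19451 Q19451 (allL N19451 (tt N19046 (iv F64479)) (tt N15759 (iv D29804)) (tt N19042 F64478) (tt N19647 (iv F65160)) (tt N21857 (iv F72693)) (tt N19040 (iv F64480)) (tt N21608 (iv F71761)))
theorem Q19453 : ∀ i, i < 19453 → P i := stepQ 19452 Q19452 (allL N19452 (tt N19628 (iv F65106)) (tt N21741 (iv F72217)) (tt N15760 F64481) (tt N19627 F65104) (tt N21858 (iv F72699)) (tt N15759 (iv D29805)) (tt N21683 (iv F72022)))
theorem Q19454 : ∀ i, i < 19454 → P i := stepQ 19453 Q19453 (allL N19453 (tt N21717 (iv F72130)) (tt N15760 (iv D29806)) (tt N21334 (iv F70875)) (tt N15761 F64482) (tt N21859 (iv F72702)) (tt N21717 (iv F72132)) (tt N19066 F64483))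
theorem Q19455 : ∀ i, i < 19455 → P i := stepQ 19454 Q19454 (allL N19454 (tt N19654 (iv F65182)) (tt N15767 F64484) (tt N15764 (iv D29807)) (tt N20567 (iv F68214)) (tt N19608 (iv F65034)) (tt N19607 F65031) (tt N20565 F68209))
theorem Q19456 : ∀ i, i < 19456 → P i := stepQ 19455 Q19455 (allL N19455 (tt N15765 (iv D29808)) (tt N17020 (iv F64488)) (tt N21360 (iv F70976)) (tt N16413 F64485) (tt N15766 F64486) (tt N21860 D32217) (tt N17024 F64487))
theorem Q19457 : ∀ i, i < 19457 → P i := stepQ 19456 Q19456 (allL N19456 (tt N21360 (iv F70974)) (tt N19608 F65036) (tt N15765 (iv D29809)) (tt N21861 D32218) (tt N15767 F64489) (tt N19612 (iv F65047)) (tt N21129 (iv F70194)))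
theorem Q19458 : ∀ i, i < 19458 → P i := stepQ 19457 Q19457 (allL N19457 (tt N21860 (iv F72704)) (tt N19338 F64490) (tt N19612 (iv F65045)) (tt N16414 F64491) (tt N15768 F64492) (tt N15765 (iv D29810)) (tt N20322 (iv F67359)))
theorem Q19459 : ∀ i, i < 19459 → P i := stepQ 19458 Q19458 (allL N19458 (tt N15767 F64493) (tt N21376 (iv F71024)) (tt N15766 (iv D29811)) (tt N16938 F64494) (tt N21360 (iv F70977)) (tt N21862 D32219) (tt N21143 (iv F70232)))
theorem Q19460 : ∀ i, i < 19460 → P i := stepQ 19459 Q19459 (allL N19459 (tt N15768 F64495) (tt N20687 (iv F68652)) (tt N21862 (iv F72714)) (tt N15770 F64496) (tt N21860 (iv F72707)) (tt N15766 (iv D29812)) (tt N18409 F64497))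
theorem Q19461 : ∀ i, i < 19461 → P i := stepQ 19460 Q19460 (allL N19460 (tt N16938 F64498) (tt N20567 F68216) (tt N16937 F64499) (tt N15767 (iv D29813)) (tt N20569 (iv F68222)) (tt N21863 D32220) (tt N21144 (iv F70237)))
theorem Q19462 : ∀ i, i < 19462 → P i := stepQ 19461 Q19461 (allL N19461 (tt N21862 (iv F72713)) (tt N19610 (iv F65040)) (tt N15768 F64500) (tt N21863 (iv F72719)) (tt N19612 (iv F65046)) (tt N15767 (iv D29814)) (tt N21864 D32221))
theorem Q19463 : ∀ i, i < 19463 → P i := stepQ 19462 Q19462 (allL N19462 (tt N18409 F64501) (tt N21122 (iv F70172)) (tt N21864 (iv F72721)) (tt N15772 F64502) (tt N20322 (iv F67358)) (tt N18407 F64503) (tt N15768 (iv D29815)))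
theorem Q19464 : ∀ i, i < 19464 → P i := stepQ 19463 Q19463 (allL N19463 (tt N15771 F64504) (tt N18949 F64505) (tt N15770 F64506) (tt N20137 (iv F66788)) (tt N16417 F64507) (tt N15769 (iv D29816)) (tt N18411 F64508))
theorem Q19465 : ∀ i, i < 19465 → P i := stepQ 19464 Q19464 (allL N19464 (tt N18411 F64509) (tt N20937 (iv F69637)) (tt N15772 F64510) (tt N20136 (iv F66782)) (tt N16420 F64511) (tt N18410 F64512) (tt N15771 (iv D29817)))
theorem Q19466 : ∀ i, i < 19466 → P i := stepQ 19465 Q19465 (allL N19465 (tt N15776 (iv D29818)) (tt N17743 (iv F64515)) (tt N19386 (iv F64516)) (tt N15778 F64513) (tt N20490 (iv F67959)) (tt N15780 F64514) (tt N19471 (iv F64538)))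
theorem Q19467 : ∀ i, i < 19467 → P i := stepQ 19466 Q19466 (allL N19466 (tt N19386 F64517) (tt N16811 F64518) (tt N15776 (iv D29819)) (tt N15789 (iv F64521)) (tt N20491 (iv F67965)) (tt N15781 F64519) (tt N15788 F64520))
theorem Q19468 : ∀ i, i < 19468 → P i := stepQ 19467 Q19467 (allL N19467 (tt N15779 (iv D29820)) (tt N20379 (iv F67580)) (tt N19389 F64522) (tt N16422 F64523) (tt N15780 F64524) (tt N20490 (iv F67960)) (tt N20880 (iv F69450)))
theorem Q19469 : ∀ i, i < 19469 → P i := stepQ 19468 Q19468 (allL N19468 (tt N20880 (iv F69446)) (tt N19333 F64525) (tt N20691 (iv F68669)) (tt N16424 F64526) (tt N15782 F64527) (tt N21865 D32222) (tt N15779 (iv D29821)))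
theorem Q19470 : ∀ i, i < 19470 → P i := stepQ 19469 Q19469 (allL N19469 (tt N15782 F64528) (tt N18501 (iv F64532)) (tt N19390 F64529) (tt N15787 F64530) (tt N20880 (iv F69448)) (tt N19392 F64531) (tt N15780 (iv D29822)))
theorem Q19471 : ∀ i, i < 19471 → P i := stepQ 19470 Q19470 (allL N19470 (tt N19390 F64533) (tt N20726 (iv F68810)) (tt N15782 F64534) (tt N19391 F64535) (tt N20691 (iv F68671)) (tt N19477 (iv F64560)) (tt N15781 (iv D29823)))
theorem Q19472 : ∀ i, i < 19472 → P i := stepQ 19471 Q19471 (allL N19471 (tt N19392 F64536) (tt N17703 (iv F64539)) (tt N19477 (iv F64559)) (tt N15790 F64537) (tt N21865 (iv F72728)) (tt N15782 (iv D29824)) (tt N19465 F64538))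
theorem Q19473 : ∀ i, i < 19473 → P i := stepQ 19472 Q19472 (allL N19472 (tt N19339 F64540) (tt N17064 F64541) (tt N15783 (iv D29825)) (tt N17077 (iv F64544)) (tt N19335 F64542) (tt N21325 (iv F70833)) (tt N19334 F64543))
theorem Q19474 : ∀ i, i < 19474 → P i := stepQ 19473 Q19473 (allL N19473 (tt N19560 (iv F64870)) (tt N18146 F64545) (tt N21325 (iv F70830)) (tt N15791 F64546) (tt N18708 F64547) (tt N15783 (iv D29826)) (tt N15884 F64548))
theorem Q19475 : ∀ i, i < 19475 → P i := stepQ 19474 Q19474 (allL N19474 (tt N15784 (iv D29827)) (tt N19831 (iv F65710)) (tt N21866 D32223) (tt N15792 F64549) (tt N17286 F64550) (tt N16119 F64551) (tt N20495 (iv F67981)))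
theorem Q19476 : ∀ i, i < 19476 → P i := stepQ 19475 Q19475 (allL N19475 (tt N21866 (iv F72730)) (tt N16953 F64552) (tt N15784 (iv D29828)) (tt N21419 (iv F71164)) (tt N17288 F64553) (tt N17274 F64554) (tt N21867 D32224))
theorem Q19477 : ∀ i, i < 19477 → P i := stepQ 19476 Q19476 (allL N19476 (tt N20495 (iv F67977)) (tt N18293 F64555) (tt N21867 (iv F72734)) (tt N15794 F64556) (tt N17289 F64557) (tt N19791 F65590) (tt N15784 (iv D29829)))
theorem Q19478 : ∀ i, i < 19478 → P i := stepQ 19477 Q19477 (allL N19477 (tt N15788 F64558) (tt N20346 F67461) (tt N19471 F64559) (tt N15786 (iv D29830)) (tt N20352 (iv F67492)) (tt N19470 F64560) (tt N19386 F64561))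
theorem Q19479 : ∀ i, i < 19479 → P i := stepQ 19478 Q19478 (allL N19478 (tt N20352 (iv F67490)) (tt N15797 F64562) (tt N20492 (iv F67969)) (tt N16433 F64563) (tt N15788 (iv D29831)) (tt N21829 (iv F72593)) (tt N20491 F67967))
theorem Q19480 : ∀ i, i < 19480 → P i := stepQ 19479 Q19479 (allL N19479 (tt N15821 F64564) (tt N15789 (iv D29832)) (tt N17766 F64565) (tt N16811 F64566) (tt N16434 F64567) (tt N16840 F64568) (tt N15799 F64569))
theorem Q19481 : ∀ i, i < 19481 → P i := stepQ 19480 Q19480 (allL N19480 (tt N17052 F64570) (tt N15800 F64571) (tt N21868 D32225) (tt N15793 (iv D29833)) (tt N17049 F64572) (tt N17463 F64573) (tt N20165 (iv F66881)))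
theorem Q19482 : ∀ i, i < 19482 → P i := stepQ 19481 Q19481 (allL N19481 (tt N15796 F64574) (tt N21116 (iv F70157)) (tt N15795 (iv D29834)) (tt N19093 F64577) (tt N21869 D32226) (tt N15829 F64575) (tt N18121 F64576))
theorem Q19483 : ∀ i, i < 19483 → P i := stepQ 19482 Q19482 (allL N19482 (tt N15797 F64578) (tt N19300 F64579) (tt N21869 (iv F72740)) (tt N16435 F64580) (tt N15795 (iv D29835)) (tt N15830 F64581) (tt N18122 F64582))
theorem Q19484 : ∀ i, i < 19484 → P i := stepQ 19483 Q19483 (allL N19483 (tt N19093 F64583) (tt N18038 F64584) (tt N19092 F64585) (tt N15796 (iv D29836)) (tt N18748 (iv F64588)) (tt N15832 F64586) (tt N18027 F64587))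
theorem Q19485 : ∀ i, i < 19485 → P i := stepQ 19484 Q19484 (allL N19484 (tt N21869 (iv F72739)) (tt N21830 (iv F72594)) (tt N15797 F64589) (tt N21870 D32227) (tt N15796 (iv D29837)) (tt N15833 F64590) (tt N21871 D32228))
theorem Q19486 : ∀ i, i < 19486 → P i := stepQ 19485 Q19485 (allL N19485 (tt N18121 F64591) (tt N18028 F64592) (tt N15798 F64593) (tt N18027 F64594) (tt N21871 (iv F72754)) (tt N19255 F64595) (tt N15796 (iv D29838)))
theorem Q19487 : ∀ i, i < 19487 → P i := stepQ 19486 Q19486 (allL N19486 (tt N18122 F64596) (tt N21775 (iv F72360)) (tt N21871 (iv F72752)) (tt N16437 F64597) (tt N15798 F64598) (tt N19256 F64599) (tt N15797 (iv D29839)))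
theorem Q19488 : ∀ i, i < 19488 → P i := stepQ 19487 Q19487 (allL N19487 (tt N20204 (iv F67011)) (tt N15798 (iv D29840)) (tt N16812 F64600) (tt N15799 F64601) (tt N21775 (iv F72358)) (tt N20203 (iv F67009)) (tt N16811 F64602))
theorem Q19489 : ∀ i, i < 19489 → P i := stepQ 19488 Q19488 (allL N19488 (tt N15799 (iv D29841)) (tt N17607 (iv F64607)) (tt N19254 F64603) (tt N20204 (iv F67013)) (tt N16439 F64604) (tt N19271 F64605) (tt N15821 F64606))
theorem Q19490 : ∀ i, i < 19490 → P i := stepQ 19489 Q19489 (allL N19489 (tt N18083 F64608) (tt N21872 D32229) (tt N15800 (iv D29842)) (tt N20862 (iv F69374)) (tt N18351 F64609) (tt N20222 (iv F67085)) (tt N18078 F64610))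
theorem Q19491 : ∀ i, i < 19491 → P i := stepQ 19490 Q19490 (allL N19490 (tt N15802 F64611) (tt N17549 F64612) (tt N15801 (iv D29843)) (tt N21873 D32230) (tt N16442 F64613) (tt N19490 F64614) (tt N15820 F64615))
theorem Q19492 : ∀ i, i < 19492 → P i := stepQ 19491 Q19491 (allL N19491 (tt N21873 (iv F72758)) (tt N17759 F64616) (tt N20768 (iv F68993)) (tt N15802 (iv D29844)) (tt N17760 F64617) (tt N19491 F64618) (tt N17203 (iv F64619)))
theorem Q19493 : ∀ i, i < 19493 → P i := stepQ 19492 Q19492 (allL N19492 (tt N15820 F64620) (tt N17202 F64621) (tt N15803 F64622) (tt N17203 F64623) (tt N16443 F64624) (tt N15820 F64625) (tt N15802 (iv D29845)))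
theorem Q19494 : ∀ i, i < 19494 → P i := stepQ 19493 Q19493 (allL N19493 (tt N15804 (iv D29846)) (tt N16750 F64626) (tt N17472 F64627) (tt N16444 F64628) (tt N15805 F64629) (tt N15812 F64630) (tt N17471 F64631))
theorem Q19495 : ∀ i, i < 19495 → P i := stepQ 19494 Q19494 (allL N19494 (tt N15852 F64632) (tt N15805 (iv D29847)) (tt N21259 (iv F70605)) (tt N15808 F64633) (tt N16750 F64634) (tt N15850 F64635) (tt N19536 (iv F64785)))
theorem Q19496 : ∀ i, i < 19496 → P i := stepQ 19495 Q19495 (allL N19495 (tt N15806 F64636) (tt N20537 (iv F68115)) (tt N15805 (iv D29848)) (tt N21383 (iv F71048)) (tt N17472 F64637) (tt N15815 F64638) (tt N17321 F64639))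
theorem Q19497 : ∀ i, i < 19497 → P i := stepQ 19496 Q19496 (allL N19496 (tt N21383 (iv F71045)) (tt N20163 (iv F66873)) (tt N21382 (iv F71043)) (tt N15806 (iv D29849)) (tt N20462 (iv F67885)) (tt N15817 F64640) (tt N21328 (iv F70848)))
theorem Q19498 : ∀ i, i < 19498 → P i := stepQ 19497 Q19497 (allL N19497 (tt N15810 F64641) (tt N17776 F64642) (tt N21874 D32231) (tt N15809 (iv D29850)) (tt N16009 F64643) (tt N15822 F64644) (tt N16007 F64645))
theorem Q19499 : ∀ i, i < 19499 → P i := stepQ 19498 Q19498 (allL N19498 (tt N21874 (iv F72764)) (tt N18043 F64646) (tt N15810 (iv D29851)) (tt N18778 (iv F64648)) (tt N18044 (iv F64649)) (tt N15824 F64647) (tt N21329 (iv F70853)))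
theorem Q19500 : ∀ i, i < 19500 → P i := stepQ 19499 Q19499 (allL N19499 (tt N16009 F64650) (tt N21829 (iv F72589)) (tt N18044 F64651) (tt N15922 F64652) (tt N15810 (iv D29852)) (tt N15825 F64653) (tt N15920 F64654))
theorem Q19501 : ∀ i, i < 19501 → P i := stepQ 19500 Q19500 (allL N19500 (tt N18107 F64655) (tt N20212 (iv F67051)) (tt N21771 (iv F72338)) (tt N15811 (iv D29853)) (tt N16786 F64656) (tt N16783 F64657) (tt N19543 (iv F64815)))
theorem Q19502 : ∀ i, i < 19502 → P i := stepQ 19501 Q19501 (allL N19501 (tt N15817 F64658) (tt N20388 (iv F67614)) (tt N19511 (iv F64688)) (tt N15815 (iv D29854)) (tt N20387 (iv F67609)) (tt N21383 (iv F71047)) (tt N19962 (iv F66183)))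
theorem Q19503 : ∀ i, i < 19503 → P i := stepQ 19502 Q19502 (allL N19502 (tt N19511 (iv F64686)) (tt N21875 D32232) (tt N15817 (iv D29855)) (tt N19507 (iv F64674)) (tt N20461 (iv F67878)) (tt N21382 (iv F71042)) (tt N21305 (iv F70757)))
theorem Q19504 : ∀ i, i < 19504 → P i := stepQ 19503 Q19503 (allL N19503 (tt N19962 (iv F66180)) (tt N20520 F68073) (tt N21305 (iv F70755)) (tt N15818 F64659) (tt N20463 (iv F67889)) (tt N20525 (iv F68087)) (tt N15817 (iv D29856)))
theorem Q19505 : ∀ i, i < 19505 → P i := stepQ 19504 Q19504 (allL N19504 (tt N17766 F64660) (tt N15820 (iv D29857)) (tt N15821 F64661) (tt N16834 (iv F64665)) (tt N16450 F64662) (tt N16833 F64663) (tt N19254 F64664))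
theorem Q19506 : ∀ i, i < 19506 → P i := stepQ 19505 Q19505 (allL N19505 (tt N17203 F64666) (tt N16834 F64667) (tt N20188 (iv F66952)) (tt N15820 (iv D29858)) (tt N21876 D32233) (tt N17203 F64668) (tt N21873 (iv F72763)))
theorem Q19507 : ∀ i, i < 19507 → P i := stepQ 19506 Q19506 (allL N19506 (tt N16811 F64669) (tt N15822 F64670) (tt N16810 F64672) (tt N15821 (iv D29859)) (tt N21877 D32234) (tt N16838 F64671) (tt N20204 (iv F67014)))
theorem Q19508 : ∀ i, i < 19508 → P i := stepQ 19507 Q19507 (allL N19507 (tt N15824 F64673) (tt N21878 D32235) (tt N15822 (iv D29860)) (tt N19502 F64674) (tt N21879 D32236) (tt N21874 (iv F72768)) (tt N21880 D32237))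
theorem Q19509 : ∀ i, i < 19509 → P i := stepQ 19508 Q19508 (allL N19508 (tt N15825 F64675) (tt N21877 (iv F72779)) (tt N21879 (iv F72788)) (tt N16010 F64676) (tt N15822 (iv D29861)) (tt N16009 F64677) (tt N19595 (iv F64984)))
theorem Q19510 : ∀ i, i < 19510 → P i := stepQ 19509 Q19509 (allL N19509 (tt N15826 F64678) (tt N21828 (iv F72584)) (tt N21880 (iv F72793)) (tt N15823 F64679) (tt N19595 (iv F64983)) (tt N18707 F64680) (tt N15822 (iv D29862)))
theorem Q19511 : ∀ i, i < 19511 → P i := stepQ 19510 Q19510 (allL N19510 (tt N21344 (iv F70911)) (tt N15824 (iv D29863)) (tt N15831 F64681) (tt N18668 (iv F64683)) (tt N17976 (iv F64684)) (tt N18013 F64682) (tt N17975 F64685))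
theorem Q19512 : ∀ i, i < 19512 → P i := stepQ 19511 Q19511 (allL N19511 (tt N19502 F64686) (tt N18668 F64687) (tt N19501 F64688) (tt N15824 (iv D29864)) (tt N18669 (iv F64690)) (tt N18778 F64689) (tt N18681 F64691))
theorem Q19513 : ∀ i, i < 19513 → P i := stepQ 19512 Q19512 (allL N19512 (tt N21879 (iv F72787)) (tt N17976 F64692) (tt N15825 F64693) (tt N17977 F64694) (tt N15824 (iv D29865)) (tt N18044 F64695) (tt N17987 (iv F64696)))
theorem Q19514 : ∀ i, i < 19514 → P i := stepQ 19513 Q19513 (allL N19513 (tt N21880 (iv F72792)) (tt N17986 F64697) (tt N15826 F64698) (tt N18681 F64699) (tt N17987 F64700) (tt N19667 (iv F65228)) (tt N15824 (iv D29866)))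
theorem Q19515 : ∀ i, i < 19515 → P i := stepQ 19514 Q19514 (allL N19514 (tt N20823 (iv F69221)) (tt N19397 F64701) (tt N20234 (iv F67107)) (tt N16452 F64702) (tt N15827 (iv D29867)) (tt N18612 F64703) (tt N18619 F64704))
theorem Q19516 : ∀ i, i < 19516 → P i := stepQ 19515 Q19515 (allL N19515 (tt N21881 D32238) (tt N15829 (iv D29868)) (tt N20542 (iv F68130)) (tt N19111 F64705) (tt N21882 D32239) (tt N21883 D32240) (tt N21343 F70910))
theorem Q19517 : ∀ i, i < 19517 → P i := stepQ 19516 Q19516 (allL N19516 (tt N15833 F64706) (tt N21882 (iv F72801)) (tt N15830 F64707) (tt N20489 (iv F67957)) (tt N15829 (iv D29869)) (tt N21869 (iv F72742)) (tt N21773 (iv F72349)))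
theorem Q19518 : ∀ i, i < 19518 → P i := stepQ 19517 Q19517 (allL N19517 (tt N15831 (iv D29870)) (tt N20686 (iv F68648)) (tt N21344 (iv F70912)) (tt N20619 (iv F68421)) (tt N21884 D32241) (tt N20845 (iv F69310)) (tt N17564 (iv F64708)))
theorem Q19519 : ∀ i, i < 19519 → P i := stepQ 19518 Q19518 (allL N19518 (tt N20619 (iv F68418)) (tt N15832 F64709) (tt N18618 F64711) (tt N15831 (iv D29871)) (tt N20619 (iv F68422)) (tt N18618 F64710) (tt N18001 (iv F64712)))
theorem Q19520 : ∀ i, i < 19520 → P i := stepQ 19519 Q19519 (allL N19519 (tt N21884 (iv F72806)) (tt N15833 F64713) (tt N17976 F64714) (tt N21884 (iv F72809)) (tt N15831 (iv D29872)) (tt N18012 F64715) (tt N17974 (iv F64716)))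
theorem Q19521 : ∀ i, i < 19521 → P i := stepQ 19520 Q19520 (allL N19520 (tt N17564 F64717) (tt N18616 (iv F64722)) (tt N17975 F64718) (tt N18001 F64719) (tt N17974 F64720) (tt N18000 F64721) (tt N15831 (iv D29873)))
theorem Q19522 : ∀ i, i < 19522 → P i := stepQ 19521 Q19521 (allL N19521 (tt N19112 F64723) (tt N20619 (iv F68419)) (tt N19110 F64724) (tt N20686 (iv F68649)) (tt N15832 (iv D29874)) (tt N18748 F64725) (tt N18741 (iv F64726)))
theorem Q19523 : ∀ i, i < 19523 → P i := stepQ 19522 Q19522 (allL N19522 (tt N19113 F64727) (tt N18025 F64728) (tt N18957 F64729) (tt N15834 F64730) (tt N18741 F64731) (tt N20868 (iv F69394)) (tt N15832 (iv D29875)))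
theorem Q19524 : ∀ i, i < 19524 → P i := stepQ 19523 Q19523 (allL N19523 (tt N20489 (iv F67956)) (tt N21884 (iv F72807)) (tt N20406 F67676) (tt N15833 (iv D29876)) (tt N20686 (iv F68650)) (tt N21870 (iv F72748)) (tt N20684 F68645))
theorem Q19525 : ∀ i, i < 19525 → P i := stepQ 19524 Q19524 (allL N19524 (tt N21773 (iv F72347)) (tt N20681 F68638) (tt N15835 F64732) (tt N20684 (iv F68643)) (tt N15834 F64733) (tt N20936 (iv F69635)) (tt N15833 (iv D29877)))
theorem Q19526 : ∀ i, i < 19526 → P i := stepQ 19525 Q19525 (allL N19525 (tt N20863 (iv F69376)) (tt N15834 (iv D29878)) (tt N21885 D32242) (tt N18025 F64734) (tt N20681 (iv F68636)) (tt N18022 (iv F64736)) (tt N18616 F64735))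
theorem Q19527 : ∀ i, i < 19527 → P i := stepQ 19526 Q19526 (allL N19526 (tt N15836 (iv D29879)) (tt N16098 F64737) (tt N21886 D32243) (tt N15837 F64738) (tt N16023 F64739) (tt N16021 F64741) (tt N17737 F64740))
theorem Q19528 : ∀ i, i < 19528 → P i := stepQ 19527 Q19527 (allL N19527 (tt N21886 (iv F72817)) (tt N21885 (iv F72812)) (tt N15836 (iv D29880)) (tt N21887 D32244) (tt N19682 (iv F65264)) (tt N21888 D32245) (tt N19680 F65260))
theorem Q19529 : ∀ i, i < 19529 → P i := stepQ 19528 Q19528 (allL N19528 (tt N16021 F64742) (tt N19247 F64743) (tt N21888 (iv F72825)) (tt N15838 F64744) (tt N16014 F64745) (tt N15836 (iv D29881)) (tt N16012 F64746))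
theorem Q19530 : ∀ i, i < 19530 → P i := stepQ 19529 Q19529 (allL N19529 (tt N18070 (iv F64751)) (tt N15841 (iv D29882)) (tt N18770 F64747) (tt N18500 F64748) (tt N18821 F64749) (tt N18794 F64750) (tt N20919 (iv F69592)))
theorem Q19531 : ∀ i, i < 19531 → P i := stepQ 19530 Q19530 (allL N19530 (tt N15846 (iv D29883)) (tt N16229 F64752) (tt N17451 F64753) (tt N16461 F64754) (tt N15850 F64755) (tt N16750 F64756) (tt N17458 (iv F64757)))
theorem Q19532 : ∀ i, i < 19532 → P i := stepQ 19531 Q19531 (allL N19531 (tt N17458 F64758) (tt N19759 (iv F65500)) (tt N17452 F64759) (tt N16464 F64760) (tt N15853 F64761) (tt N17456 F64762) (tt N15846 (iv D29884)))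
theorem Q19533 : ∀ i, i < 19533 → P i := stepQ 19532 Q19532 (allL N19532 (tt N15847 (iv D29885)) (tt N17456 F64763) (tt N16539 F64764) (tt N16317 F64765) (tt N15854 F64766) (tt N16319 F64767) (tt N15848 F64768))
theorem Q19534 : ∀ i, i < 19534 → P i := stepQ 19533 Q19533 (allL N19533 (tt N15851 F64769) (tt N20596 (iv F68328)) (tt N15850 (iv D29886)) (tt N17613 (iv F64772)) (tt N17451 F64770) (tt N21259 (iv F70608)) (tt N17612 F64771))
theorem Q19535 : ∀ i, i < 19535 → P i := stepQ 19534 Q19534 (allL N19534 (tt N21259 (iv F70604)) (tt N16559 F64773) (tt N15852 F64774) (tt N19991 (iv F66292)) (tt N16751 F64775) (tt N15851 (iv D29887)) (tt N19990 F66289))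
theorem Q19536 : ∀ i, i < 19536 → P i := stepQ 19535 Q19535 (allL N19535 (tt N17612 F64776) (tt N20795 (iv F69085)) (tt N15853 F64777) (tt N17611 F64778) (tt N17452 F64779) (tt N18588 F64780) (tt N15851 (iv D29888)))
theorem Q19537 : ∀ i, i < 19537 → P i := stepQ 19536 Q19536 (allL N19536 (tt N17262 F64781) (tt N15854 F64786) (tt N18588 F64782) (tt N15863 F64783) (tt N17456 F64784) (tt N15853 (iv D29889)) (tt N19494 F64785))
theorem Q19538 : ∀ i, i < 19538 → P i := stepQ 19537 Q19537 (allL N19537 (tt N15855 F64787) (tt N18533 F64788) (tt N15854 (iv D29890)) (tt N21889 D32246) (tt N16539 F64789) (tt N19541 (iv F64805)) (tt N15856 F64790))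
theorem Q19539 : ∀ i, i < 19539 → P i := stepQ 19538 Q19538 (allL N19538 (tt N21889 (iv F72828)) (tt N17023 F64791) (tt N21890 D32247) (tt N15855 (iv D29891)) (tt N19698 (iv F65310)) (tt N19695 (iv F65297)) (tt N15858 F64792))
theorem Q19540 : ∀ i, i < 19540 → P i := stepQ 19539 Q19539 (allL N19539 (tt N15858 F64793) (tt N17205 F64794) (tt N19546 (iv F64824)) (tt N15856 (iv D29892)) (tt N16030 F64795) (tt N16029 F64796) (tt N21889 (iv F72832)))
theorem Q19541 : ∀ i, i < 19541 → P i := stepQ 19540 Q19540 (allL N19540 (tt N19546 (iv F64822)) (tt N17222 (iv F64800)) (tt N15858 (iv D29893)) (tt N17441 F64799) (tt N17223 F64797) (tt N17232 F64798) (tt N21890 (iv F72836)))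
theorem Q19542 : ∀ i, i < 19542 → P i := stepQ 19541 Q19541 (allL N19541 (tt N16538 F64801) (tt N16753 F64802) (tt N15860 F64803) (tt N21831 (iv F72602)) (tt N16362 F64804) (tt N19537 F64805) (tt N15859 (iv D29894)))
theorem Q19543 : ∀ i, i < 19543 → P i := stepQ 19542 Q19542 (allL N19542 (tt N16079 F64806) (tt N15860 (iv D29895)) (tt N20602 (iv F68360)) (tt N15871 F64807) (tt N17460 F64808) (tt N16079 F64809) (tt N16077 F64810))
theorem Q19544 : ∀ i, i < 19544 → P i := stepQ 19543 Q19543 (allL N19543 (tt N15862 F64811) (tt N16066 F64812) (tt N21891 D32248) (tt N15861 (iv D29896)) (tt N16832 F64813) (tt N16070 F64814) (tt N19500 F64815))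
theorem Q19545 : ∀ i, i < 19545 → P i := stepQ 19544 Q19544 (allL N19544 (tt N21891 (iv F72838)) (tt N21876 (iv F72774)) (tt N15862 (iv D29897)) (tt N20663 (iv F68562)) (tt N16834 F64816) (tt N16830 F64817) (tt N20662 F68559))
theorem Q19546 : ∀ i, i < 19546 → P i := stepQ 19545 Q19545 (allL N19545 (tt N20424 (iv F67745)) (tt N17310 F64821) (tt N15865 (iv D29898)) (tt N21892 D32249) (tt N17397 F64818) (tt N16961 F64819) (tt N15867 F64820))
theorem Q19547 : ∀ i, i < 19547 → P i := stepQ 19546 Q19546 (allL N19546 (tt N19540 F64822) (tt N17327 F64823) (tt N19539 F64824) (tt N15867 (iv D29899)) (tt N19693 (iv F65291)) (tt N19692 F65287) (tt N21892 (iv F72849)))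
theorem Q19548 : ∀ i, i < 19548 → P i := stepQ 19547 Q19547 (allL N19547 (tt N15877 F64825) (tt N20439 (iv F67803)) (tt N15872 (iv D29900)) (tt N19144 F64828) (tt N17336 F64826) (tt N20541 (iv F68129)) (tt N17334 F64827))
theorem Q19549 : ∀ i, i < 19549 → P i := stepQ 19548 Q19548 (allL N19548 (tt N15874 F64829) (tt N20199 (iv F66993)) (tt N19935 (iv F66082)) (tt N15873 (iv D29901)) (tt N21802 (iv F72485)) (tt N20747 (iv F68908)) (tt N19287 F64830))
theorem Q19550 : ∀ i, i < 19550 → P i := stepQ 19549 Q19549 (allL N19549 (tt N19935 (iv F66081)) (tt N21332 (iv F70866)) (tt N15874 (iv D29902)) (tt N19934 F66080) (tt N21331 (iv F70862)) (tt N20544 (iv F68137)) (tt N21893 D32250))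
theorem Q19551 : ∀ i, i < 19551 → P i := stepQ 19550 Q19550 (allL N19550 (tt N21802 (iv F72482)) (tt N15878 F64831) (tt N21331 (iv F70864)) (tt N16470 F64832) (tt N15874 (iv D29903)) (tt N19326 (iv F64833)) (tt N19244 (iv F64834)))
theorem Q19552 : ∀ i, i < 19552 → P i := stepQ 19551 Q19551 (allL N19551 (tt N20747 F68909) (tt N21894 D32251) (tt N20544 (iv F68138)) (tt N15875 F64835) (tt N19326 F64836) (tt N15874 (iv D29904)) (tt N19324 F64837))
theorem Q19553 : ∀ i, i < 19553 → P i := stepQ 19552 Q19552 (allL N19552 (tt N19287 F64838) (tt N19256 F64839) (tt N21893 (iv F72851)) (tt N15876 F64840) (tt N19244 F64841) (tt N21800 (iv F72473)) (tt N15874 (iv D29905)))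
theorem Q19554 : ∀ i, i < 19554 → P i := stepQ 19553 Q19553 (allL N19553 (tt N19553 F64842) (tt N15875 (iv D29906)) (tt N15931 F64843) (tt N21894 (iv F72857)) (tt N16471 F64844) (tt N15881 F64845) (tt N15931 F64846))
theorem Q19555 : ∀ i, i < 19555 → P i := stepQ 19554 Q19554 (allL N19554 (tt N16327 F64847) (tt N20754 (iv F68931)) (tt N15886 F64848) (tt N21800 (iv F72472)) (tt N16326 F64849) (tt N15876 (iv D29907)) (tt N17771 F64850))
theorem Q19556 : ∀ i, i < 19556 → P i := stepQ 19555 Q19555 (allL N19555 (tt N21485 (iv F71367)) (tt N15877 (iv D29908)) (tt N21332 (iv F70867)) (tt N20743 F68891) (tt N18901 F64851) (tt N19555 F64852) (tt N21895 D32252))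
theorem Q19557 : ∀ i, i < 19557 → P i := stepQ 19556 Q19556 (allL N19556 (tt N19144 F64853) (tt N20743 (iv F68889)) (tt N19139 F64854) (tt N15877 (iv D29909)) (tt N17801 F64855) (tt N17799 F64856) (tt N20766 (iv F68987)))
theorem Q19558 : ∀ i, i < 19558 → P i := stepQ 19557 Q19557 (allL N19557 (tt N17334 F64857) (tt N21896 D32253) (tt N15880 F64858) (tt N20766 (iv F68985)) (tt N17332 F64859) (tt N17331 (iv F64860)) (tt N15877 (iv D29910)))
theorem Q19559 : ∀ i, i < 19559 → P i := stepQ 19558 Q19558 (allL N19558 (tt N19558 F64861) (tt N15879 (iv D29911)) (tt N19558 F64862) (tt N15881 F64863) (tt N19388 F64864) (tt N21894 (iv F72859)) (tt N15934 F64865))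
theorem Q19560 : ∀ i, i < 19560 → P i := stepQ 19559 Q19559 (allL N19559 (tt N15884 F64866) (tt N20349 (iv F67474)) (tt N17338 F64867) (tt N15883 F64868) (tt N19238 F64869) (tt N15882 (iv D29912)) (tt N19560 (iv F64873)))
theorem Q19561 : ∀ i, i < 19561 → P i := stepQ 19560 Q19560 (allL N19560 (tt N19473 F64870) (tt N19848 F65777) (tt N18701 F64871) (tt N15886 F64872) (tt N21330 (iv F70857)) (tt N15885 (iv D29913)) (tt N19559 F64873))
theorem Q19562 : ∀ i, i < 19562 → P i := stepQ 19561 Q19561 (allL N19561 (tt N15888 F64874) (tt N20761 F68966) (tt N21856 (iv F72688)) (tt N15887 (iv D29914)) (tt N21897 D32254) (tt N21898 D32255) (tt N21856 (iv F72690)))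
theorem Q19563 : ∀ i, i < 19563 → P i := stepQ 19562 Q19562 (allL N19562 (tt N15889 F64875) (tt N20746 F68905) (tt N21225 (iv F70490)) (tt N21561 F71634) (tt N15887 (iv D29915)) (tt N19360 F64876) (tt N21815 (iv F72534)))
theorem Q19564 : ∀ i, i < 19564 → P i := stepQ 19563 Q19563 (allL N19563 (tt N15890 F64877) (tt N17826 F64878) (tt N18429 F64879) (tt N21898 (iv F72871)) (tt N19360 F64880) (tt N15887 (iv D29916)) (tt N19357 F64881))
theorem Q19565 : ∀ i, i < 19565 → P i := stepQ 19564 Q19564 (allL N19564 (tt N21856 (iv F72687)) (tt N19151 F64882) (tt N15888 (iv D29917)) (tt N15891 (iv F64883)) (tt N21899 D32256) (tt N21818 (iv F72547)) (tt N15888 (iv F64884)))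
theorem Q19566 : ∀ i, i < 19566 → P i := stepQ 19565 Q19565 (allL N19565 (tt N21897 (iv F72868)) (tt N15892 F64885) (tt N21899 (iv F72874)) (tt N21900 D32257) (tt N15888 (iv D29918)) (tt N21901 D32258) (tt N21899 (iv F72876)))
theorem Q19567 : ∀ i, i < 19567 → P i := stepQ 19566 Q19566 (allL N19566 (tt N21898 (iv F72869)) (tt N15973 F64886) (tt N21818 (iv F72545)) (tt N15890 F64887) (tt N21901 (iv F72882)) (tt N15888 (iv D29919)) (tt N21902 D32259))
theorem Q19568 : ∀ i, i < 19568 → P i := stepQ 19567 Q19567 (allL N19567 (tt N21561 (iv F71631)) (tt N15893 F64888) (tt N19015 (iv F64890)) (tt N15889 (iv D29920)) (tt N21900 (iv F72878)) (tt N21588 (iv F71701)) (tt N19012 F64889))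
theorem Q19569 : ∀ i, i < 19569 → P i := stepQ 19568 Q19568 (allL N19568 (tt N19360 F64891) (tt N15976 F64892) (tt N18427 F64893) (tt N21588 (iv F71702)) (tt N15890 F64894) (tt N15889 (iv D29921)) (tt N19358 F64895))
theorem Q19570 : ∀ i, i < 19570 → P i := stepQ 19569 Q19569 (allL N19569 (tt N19357 F64896) (tt N19353 F64897) (tt N18430 F64898) (tt N21902 (iv F72886)) (tt N19358 F64899) (tt N19447 F64900) (tt N15890 (iv D29922)))
theorem Q19571 : ∀ i, i < 19571 → P i := stepQ 19570 Q19570 (allL N19570 (tt N19016 F64901) (tt N21900 (iv F72877)) (tt N21903 D32260) (tt N15892 (iv D29923)) (tt N15893 F64902) (tt N15981 F64903) (tt N21748 (iv F72247)))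
theorem Q19572 : ∀ i, i < 19572 → P i := stepQ 19571 Q19571 (allL N19571 (tt N18988 F64904) (tt N19047 F64905) (tt N15893 (iv D29924)) (tt N19629 F65114) (tt N21903 (iv F72891)) (tt N15984 F64906) (tt N21848 (iv F72664)))
theorem Q19573 : ∀ i, i < 19573 → P i := stepQ 19572 Q19572 (allL N19572 (tt N19017 F64907) (tt N21811 (iv F72516)) (tt N21848 (iv F72662)) (tt N15894 F64908) (tt N21748 (iv F72246)) (tt N19622 (iv F65085)) (tt N15893 (iv D29925)))
theorem Q19574 : ∀ i, i < 19574 → P i := stepQ 19573 Q19573 (allL N19573 (tt N15895 (iv D29926)) (tt N19358 F64909) (tt N21108 (iv F70137)) (tt N21751 (iv F72259)) (tt N19353 F64910) (tt N19350 F64911) (tt N21809 (iv F72511)))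
theorem Q19575 : ∀ i, i < 19575 → P i := stepQ 19574 Q19574 (allL N19574 (tt N21108 (iv F70136)) (tt N15898 F64912) (tt N15895 (iv D29927)) (tt N21904 D32261) (tt N21113 (iv F70149)) (tt N21107 (iv F70135)) (tt N21206 (iv F70433)))
theorem Q19576 : ∀ i, i < 19576 → P i := stepQ 19575 Q19575 (allL N19575 (tt N19350 F64913) (tt N19623 (iv F65087)) (tt N21107 (iv F70133)) (tt N19160 F64914) (tt N19344 F64915) (tt N15895 (iv D29928)) (tt N19342 F64916))
theorem Q19577 : ∀ i, i < 19577 → P i := stepQ 19576 Q19576 (allL N19576 (tt N15896 (iv D29929)) (tt N20331 (iv F67399)) (tt N18239 (iv F64920)) (tt N16490 F64917) (tt N15897 F64918) (tt N21905 D32262) (tt N18244 F64919))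
theorem Q19578 : ∀ i, i < 19578 → P i := stepQ 19577 Q19577 (allL N19577 (tt N18239 F64921) (tt N21113 F70151) (tt N15896 (iv D29930)) (tt N20972 (iv F69732)) (tt N15898 F64922) (tt N21025 (iv F69879)) (tt N18243 F64923))
theorem Q19579 : ∀ i, i < 19579 → P i := stepQ 19578 Q19578 (allL N19578 (tt N21905 (iv F72894)) (tt N16797 F64924) (tt N21025 (iv F69876)) (tt N16491 F64925) (tt N15899 F64926) (tt N15896 (iv D29931)) (tt N21024 (iv F69874)))
theorem Q19580 : ∀ i, i < 19580 → P i := stepQ 19579 Q19579 (allL N19579 (tt N20396 (iv F67639)) (tt N15897 (iv D29932)) (tt N20327 (iv F67377)) (tt N15900 F64927) (tt N20331 (iv F67400)) (tt N19843 (iv F65757)) (tt N17708 F64928))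
theorem Q19581 : ∀ i, i < 19581 → P i := stepQ 19580 Q19580 (allL N19580 (tt N15898 F64929) (tt N18237 (iv F64932)) (tt N15897 (iv D29933)) (tt N21906 D32263) (tt N18239 F64930) (tt N21907 D32264) (tt N18242 F64931))
theorem Q19582 : ∀ i, i < 19582 → P i := stepQ 19581 Q19581 (allL N19581 (tt N15899 F64933) (tt N20075 (iv F66545)) (tt N21907 (iv F72905)) (tt N15902 F64934) (tt N21905 (iv F72897)) (tt N15897 (iv D29934)) (tt N18522 F64935))
theorem Q19583 : ∀ i, i < 19583 → P i := stepQ 19582 Q19582 (allL N19582 (tt N21906 (iv F72899)) (tt N21904 (iv F72893)) (tt N21248 (iv F70563)) (tt N15898 (iv D29935)) (tt N21908 D32265) (tt N21247 F70561) (tt N21233 (iv F70508)))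
theorem Q19584 : ∀ i, i < 19584 → P i := stepQ 19583 Q19583 (allL N19583 (tt N21907 (iv F72904)) (tt N21909 D32266) (tt N15899 F64936) (tt N21247 (iv F70560)) (tt N21025 (iv F69878)) (tt N15898 (iv D29936)) (tt N21021 (iv F69863)))
theorem Q19585 : ∀ i, i < 19585 → P i := stepQ 19584 Q19584 (allL N19584 (tt N18522 F64937) (tt N18165 (iv F64940)) (tt N21021 (iv F69861)) (tt N15905 F64938) (tt N21024 (iv F69873)) (tt N18520 F64939) (tt N15899 (iv D29937)))
theorem Q19586 : ∀ i, i < 19586 → P i := stepQ 19585 Q19585 (allL N19585 (tt N15998 F64941) (tt N20670 (iv F68590)) (tt N15905 F64942) (tt N18559 F64943) (tt N16494 F64944) (tt N17606 F64945) (tt N15904 (iv D29938)))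
theorem Q19587 : ∀ i, i < 19587 → P i := stepQ 19586 Q19586 (allL N19586 (tt N15914 F64946) (tt N18181 F64947) (tt N15911 F64948) (tt N19172 F64949) (tt N16529 F64950) (tt N15909 (iv D29939)) (tt N17228 F64951))
theorem Q19588 : ∀ i, i < 19588 → P i := stepQ 19587 Q19587 (allL N19587 (tt N19587 F64952) (tt N15911 (iv D29940)) (tt N18182 F64953) (tt N15912 F64954) (tt N20209 (iv F67037)) (tt N18182 F64955) (tt N20161 (iv F66869)))
theorem Q19589 : ∀ i, i < 19589 → P i := stepQ 19588 Q19588 (allL N19588 (tt N19588 F64956) (tt N18291 F64957) (tt N18183 F64958) (tt N20161 (iv F66866)) (tt N16495 F64959) (tt N18183 F64960) (tt N15912 (iv D29941)))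
theorem Q19590 : ∀ i, i < 19590 → P i := stepQ 19589 Q19589 (allL N19589 (tt N19172 F64961) (tt N21910 D32267) (tt N19170 F64962) (tt N15914 F64963) (tt N20807 (iv F69144)) (tt N15913 (iv D29942)) (tt N20805 (iv F69133)))
theorem Q19591 : ∀ i, i < 19591 → P i := stepQ 19590 Q19590 (allL N19590 (tt N17035 (iv F64968)) (tt N15914 (iv D29943)) (tt N17048 F64964) (tt N21910 (iv F72916)) (tt N17400 F64965) (tt N17229 F64966) (tt N17047 F64967))
theorem Q19592 : ∀ i, i < 19592 → P i := stepQ 19591 Q19591 (allL N19591 (tt N21911 D32268) (tt N15917 (iv D29944)) (tt N17859 F64969) (tt N15919 F64970) (tt N17858 F64971) (tt N20671 (iv F68597)) (tt N21235 (iv F70517)))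
theorem Q19593 : ∀ i, i < 19593 → P i := stepQ 19592 Q19592 (allL N19592 (tt N20964 (iv F69708)) (tt N15918 (iv D29945)) (tt N17589 F64972) (tt N21235 (iv F70514)) (tt N16496 F64973) (tt N20666 (iv F68573)) (tt N15919 F64974))
theorem Q19594 : ∀ i, i < 19594 → P i := stepQ 19593 Q19593 (allL N19593 (tt N15919 (iv D29946)) (tt N20599 F68345) (tt N19378 F64975) (tt N21911 (iv F72923)) (tt N16497 F64976) (tt N20672 (iv F68602)) (tt N20964 (iv F69713)))
theorem Q19595 : ∀ i, i < 19595 → P i := stepQ 19594 Q19594 (allL N19594 (tt N16006 F64977) (tt N17104 F64978) (tt N15920 (iv D29947)) (tt N18047 F64979) (tt N21329 (iv F70852)) (tt N20839 (iv F69293)) (tt N18044 F64980))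
theorem Q19596 : ∀ i, i < 19596 → P i := stepQ 19595 Q19595 (allL N19595 (tt N16008 F64981) (tt N20640 F68486) (tt N20839 (iv F69291)) (tt N15921 F64982) (tt N19509 F64983) (tt N15920 (iv D29948)) (tt N19508 F64984))
theorem Q19597 : ∀ i, i < 19597 → P i := stepQ 19596 Q19596 (allL N19596 (tt N17658 F64985) (tt N15922 (iv D29949)) (tt N17530 F64986) (tt N21829 (iv F72591)) (tt N16359 F64987) (tt N16433 F64988) (tt N15925 F64989))
theorem Q19598 : ∀ i, i < 19598 → P i := stepQ 19597 Q19597 (allL N19597 (tt N17550 (iv F64992)) (tt N15923 (iv D29950)) (tt N21912 D32269) (tt N15924 F64990) (tt N19383 F64991) (tt N20640 (iv F68485)) (tt N21783 (iv F72398)))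
theorem Q19599 : ∀ i, i < 19599 → P i := stepQ 19598 Q19598 (allL N19598 (tt N15929 F64993) (tt N17749 F64994) (tt N17256 F64995) (tt N15927 F64996) (tt N17750 F64997) (tt N15926 (iv D29951)) (tt N19321 F64998))
theorem Q19600 : ∀ i, i < 19600 → P i := stepQ 19599 Q19599 (allL N19599 (tt N19599 F64999) (tt N15929 (iv D29952)) (tt N19599 F65000) (tt N15931 F65001) (tt N19332 F65002) (tt N15934 F65003) (tt N21894 (iv F72860)))
theorem Q19601 : ∀ i, i < 19601 → P i := stepQ 19600 Q19600 (allL N19600 (tt N19226 F65004) (tt N15930 (iv D29953)) (tt N19225 F65005) (tt N15932 F65006) (tt N17528 F65007) (tt N19241 (iv F65009)) (tt N15935 F65008))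
theorem Q19602 : ∀ i, i < 19602 → P i := stepQ 19601 Q19601 (allL N19601 (tt N19712 F65350) (tt N20433 (iv F67783)) (tt N21768 (iv F72322)) (tt N16498 F65010) (tt N15937 (iv D29954)) (tt N17187 F65011) (tt N15965 F65012))
theorem Q19603 : ∀ i, i < 19603 → P i := stepQ 19602 Q19602 (allL N19602 (tt N16106 F65013) (tt N20487 (iv F67947)) (tt N17309 F65014) (tt N15939 F65015) (tt N21797 (iv F72456)) (tt N15938 (iv D29955)) (tt N19792 (iv F65594)))
theorem Q19604 : ∀ i, i < 19604 → P i := stepQ 19603 Q19603 (allL N19603 (tt N15948 F65016) (tt N16952 (iv F65019)) (tt N20576 (iv F68254)) (tt N16500 F65017) (tt N15941 F65018) (tt N15940 (iv D29956)) (tt N19616 (iv F65059)))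
theorem Q19605 : ∀ i, i < 19605 → P i := stepQ 19604 Q19604 (allL N19604 (tt N15949 F65020) (tt N19282 F65021) (tt N20577 (iv F68259)) (tt N16189 F65022) (tt N15942 F65023) (tt N19615 (iv F65055)) (tt N15940 (iv D29957)))
theorem Q19606 : ∀ i, i < 19606 → P i := stepQ 19605 Q19605 (allL N19605 (tt N16951 (iv F65026)) (tt N15941 (iv D29958)) (tt N20586 (iv F68294)) (tt N15943 F65024) (tt N16952 F65025) (tt N20487 (iv F67950)) (tt N21152 (iv F70260)))
theorem Q19607 : ∀ i, i < 19607 → P i := stepQ 19606 Q19606 (allL N19606 (tt N15944 (iv D29959)) (tt N21183 (iv F70355)) (tt N15954 F65027) (tt N20572 (iv F68236)) (tt N20584 (iv F68285)) (tt N19403 F65028) (tt N21832 (iv F72606)))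
theorem Q19608 : ∀ i, i < 19608 → P i := stepQ 19607 Q19607 (allL N19607 (tt N20584 (iv F68282)) (tt N15945 F65029) (tt N15955 F65030) (tt N20583 (iv F68280)) (tt N15944 (iv D29960)) (tt N19454 (iv F65031)) (tt N21833 (iv F72609)))
theorem Q19609 : ∀ i, i < 19609 → P i := stepQ 19608 Q19608 (allL N19608 (tt N19403 F65032) (tt N19456 (iv F65036)) (tt N15956 F65033) (tt N20573 (iv F68242)) (tt N19454 F65034) (tt N15944 (iv D29961)) (tt N19400 F65035))
theorem Q19610 : ∀ i, i < 19610 → P i := stepQ 19609 Q19609 (allL N19609 (tt N16177 F65037) (tt N20583 (iv F68278)) (tt N18813 F65039) (tt N15945 (iv D29962)) (tt N16173 F65038) (tt N21913 D32270) (tt N21914 D32271))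
theorem Q19611 : ∀ i, i < 19611 → P i := stepQ 19610 Q19610 (allL N19610 (tt N20576 (iv F68252)) (tt N19461 F65040) (tt N15948 F65041) (tt N21913 (iv F72934)) (tt N15946 F65042) (tt N15945 (iv D29963)) (tt N21915 D32272))
theorem Q19612 : ∀ i, i < 19612 → P i := stepQ 19611 Q19611 (allL N19611 (tt N20577 (iv F68257)) (tt N21916 D32273) (tt N15949 F65043) (tt N21914 (iv F72938)) (tt N15947 F65044) (tt N21457 (iv F71287)) (tt N15945 (iv D29964)))
theorem Q19613 : ∀ i, i < 19613 → P i := stepQ 19612 Q19612 (allL N19612 (tt N21917 D32274) (tt N15946 (iv D29965)) (tt N19457 F65045) (tt N20574 (iv F68245)) (tt N19461 F65046) (tt N19456 F65047) (tt N21359 (iv F70973)))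
theorem Q19614 : ∀ i, i < 19614 → P i := stepQ 19613 Q19613 (allL N19613 (tt N18857 F65048) (tt N21918 D32275) (tt N15950 F65049) (tt N17378 F65050) (tt N21915 (iv F72943)) (tt N17377 F65051) (tt N15946 (iv D29966)))
theorem Q19615 : ∀ i, i < 19615 → P i := stepQ 19614 Q19614 (allL N19614 (tt N21444 (iv F71243)) (tt N15947 (iv D29967)) (tt N21919 D32276) (tt N20575 (iv F68248)) (tt N21916 (iv F72947)) (tt N21381 (iv F71040)) (tt N21834 (iv F72611)))
theorem Q19616 : ∀ i, i < 19616 → P i := stepQ 19615 Q19615 (allL N19615 (tt N19616 (iv F65056)) (tt N18635 F65052) (tt N21915 (iv F72942)) (tt N16503 F65053) (tt N15950 F65054) (tt N19604 F65055) (tt N15948 (iv D29968)))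
theorem Q19617 : ∀ i, i < 19617 → P i := stepQ 19616 Q19616 (allL N19616 (tt N19615 F65056) (tt N17875 (iv F65060)) (tt N21457 (iv F71286)) (tt N16504 F65057) (tt N15952 F65058) (tt N15949 (iv D29969)) (tt N19603 F65059))
theorem Q19618 : ∀ i, i < 19618 → P i := stepQ 19617 Q19617 (allL N19617 (tt N20172 (iv F66897)) (tt N21919 (iv F72956)) (tt N15951 (iv D29970)) (tt N18935 F65063) (tt N18937 F65061) (tt N21920 D32277) (tt N15960 F65062))
theorem Q19619 : ∀ i, i < 19619 → P i := stepQ 19618 Q19618 (allL N19618 (tt N19625 (iv F65095)) (tt N20811 (iv F69158)) (tt N21920 (iv F72959)) (tt N15953 F65064) (tt N16801 F65065) (tt N15951 (iv D29971)) (tt N16800 F65066))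
theorem Q19620 : ∀ i, i < 19620 → P i := stepQ 19619 Q19619 (allL N19619 (tt N21298 (iv F70725)) (tt N15954 (iv D29972)) (tt N18986 (iv F65070)) (tt N19203 F65067) (tt N15988 (iv F65071)) (tt N15986 F65068) (tt N19619 F65069))
theorem Q19621 : ∀ i, i < 19621 → P i := stepQ 19620 Q19620 (allL N19620 (tt N15955 F65072) (tt N15988 F65073) (tt N20584 (iv F68284)) (tt N19212 (iv F65075)) (tt N15954 (iv D29973)) (tt N15989 F65074) (tt N21843 (iv F72643)))
theorem Q19622 : ∀ i, i < 19622 → P i := stepQ 19621 Q19621 (allL N19621 (tt N19212 F65076) (tt N15957 F65077) (tt N19211 (iv F65080)) (tt N15955 (iv D29974)) (tt N19205 F65078) (tt N19020 F65079) (tt N21844 (iv F72648)))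
theorem Q19623 : ∀ i, i < 19623 → P i := stepQ 19622 Q19622 (allL N19622 (tt N15985 F65081) (tt N20788 (iv F69063)) (tt N19427 F65082) (tt N15958 F65083) (tt N19208 F65084) (tt N19572 F65085) (tt N15957 (iv D29975)))
theorem Q19624 : ∀ i, i < 19624 → P i := stepQ 19623 Q19623 (allL N19623 (tt N19421 F65086) (tt N19575 F65087) (tt N17816 F65088) (tt N19213 F65089) (tt N17814 F65090) (tt N15959 (iv D29976)) (tt N17812 F65091))
theorem Q19625 : ∀ i, i < 19625 → P i := stepQ 19624 Q19624 (allL N19624 (tt N20177 (iv F66916)) (tt N21921 D32278) (tt N15961 F65092) (tt N18913 F65093) (tt N18914 F65094) (tt N15960 (iv D29977)) (tt N21922 D32279))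
theorem Q19626 : ∀ i, i < 19626 → P i := stepQ 19625 Q19625 (allL N19625 (tt N19618 F65095) (tt N17600 F65096) (tt N21922 (iv F72969)) (tt N15963 F65097) (tt N16791 F65098) (tt N16790 F65099) (tt N15961 (iv D29978)))
theorem Q19627 : ∀ i, i < 19627 → P i := stepQ 19626 Q19626 (allL N19626 (tt N21286 (iv F70688)) (tt N18018 F65100) (tt N15965 F65101) (tt N21923 D32280) (tt N15964 (iv D29979)) (tt N20942 (iv F69656)) (tt N21768 (iv F72325)))
theorem Q19628 : ∀ i, i < 19628 → P i := stepQ 19627 Q19627 (allL N19627 (tt N15966 (iv D29980)) (tt N21298 (iv F70726)) (tt N16383 F65102) (tt N19452 (iv F65104)) (tt N16486 (iv F65105)) (tt N16382 F65103) (tt N19944 (iv F66115)))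
theorem Q19629 : ∀ i, i < 19629 → P i := stepQ 19628 Q19628 (allL N19628 (tt N19452 F65106) (tt N15967 F65107) (tt N19420 F65108) (tt N15966 (iv D29981)) (tt N21640 (iv F71853)) (tt N16410 F65109) (tt N21817 (iv F72544)))
theorem Q19630 : ∀ i, i < 19630 → P i := stepQ 19629 Q19629 (allL N19629 (tt N16486 F65110) (tt N15968 F65111) (tt N16409 F65112) (tt N19571 (iv F65114)) (tt N15966 (iv D29982)) (tt N16408 F65113) (tt N19429 (iv F65115)))
theorem Q19631 : ∀ i, i < 19631 → P i := stepQ 19630 Q19630 (allL N19630 (tt N19944 (iv F66112)) (tt N20745 (iv F68896)) (tt N16411 F65116) (tt N21817 (iv F72543)) (tt N19429 F65117) (tt N19428 F65118) (tt N15966 (iv D29983)))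
theorem Q19632 : ∀ i, i < 19632 → P i := stepQ 19631 Q19631 (allL N19631 (tt N15972 F65119) (tt N21640 F71854) (tt N20748 (iv F68911)) (tt N21606 (iv F71754)) (tt N15967 (iv D29984)) (tt N21924 D32281) (tt N21604 F71749))
theorem Q19633 : ∀ i, i < 19633 → P i := stepQ 19632 Q19632 (allL N19632 (tt N15973 F65120) (tt N19432 F65121) (tt N20749 (iv F68913)) (tt N15969 F65122) (tt N21924 (iv F72979)) (tt N15967 (iv D29985)) (tt N19643 (iv F65146)))
theorem Q19634 : ∀ i, i < 19634 → P i := stepQ 19633 Q19633 (allL N19633 (tt N15974 F65123) (tt N21925 D32282) (tt N20750 (iv F68916)) (tt N15970 F65124) (tt N21604 (iv F71748)) (tt N19642 (iv F65142)) (tt N15967 (iv D29986)))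
theorem Q19635 : ∀ i, i < 19635 → P i := stepQ 19634 Q19634 (allL N19634 (tt N15976 F65125) (tt N19433 F65126) (tt N16144 F65127) (tt N21608 (iv F71760)) (tt N15969 F65128) (tt N15968 (iv D29987)) (tt N19647 (iv F65162)))
theorem Q19636 : ∀ i, i < 19636 → P i := stepQ 19635 Q19635 (allL N19635 (tt N17791 F65129) (tt N15970 (iv D29988)) (tt N17777 (iv F65132)) (tt N21925 (iv F72983)) (tt N17787 F65130) (tt N17775 F65131) (tt N20745 (iv F68899)))
theorem Q19637 : ∀ i, i < 19637 → P i := stepQ 19636 Q19636 (allL N19636 (tt N20748 (iv F68910)) (tt N19182 F65133) (tt N15972 F65134) (tt N21926 D32283) (tt N15971 (iv D29989)) (tt N21927 D32284) (tt N21928 D32285))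
theorem Q19638 : ∀ i, i < 19638 → P i := stepQ 19637 Q19637 (allL N19637 (tt N20749 (iv F68912)) (tt N21817 (iv F72541)) (tt N15973 F65135) (tt N20745 (iv F68898)) (tt N21927 (iv F72993)) (tt N15971 (iv D29990)) (tt N21925 (iv F72986)))
theorem Q19639 : ∀ i, i < 19639 → P i := stepQ 19638 Q19638 (allL N19638 (tt N20750 (iv F68915)) (tt N21561 (iv F71632)) (tt N15974 F65136) (tt N20746 (iv F68902)) (tt N21928 (iv F72996)) (tt N20763 (iv F68972)) (tt N15971 (iv D29991)))
theorem Q19640 : ∀ i, i < 19640 → P i := stepQ 19639 Q19639 (allL N19639 (tt N21606 (iv F71752)) (tt N15981 F65137) (tt N21603 (iv F71745)) (tt N15972 (iv D29992)) (tt N15975 F65138) (tt N21929 D32286) (tt N21601 (iv F71741)))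
theorem Q19641 : ∀ i, i < 19641 → P i := stepQ 19640 Q19640 (allL N19640 (tt N21924 (iv F72977)) (tt N21901 (iv F72881)) (tt N21927 (iv F72991)) (tt N21929 (iv F72998)) (tt N15973 F65139) (tt N15972 (iv D29993)) (tt N21930 D32287))
theorem Q19642 : ∀ i, i < 19642 → P i := stepQ 19641 Q19641 (allL N19641 (tt N21604 (iv F71747)) (tt N21559 F71628) (tt N21928 (iv F72995)) (tt N21601 (iv F71740)) (tt N15974 F65140) (tt N21745 (iv F72236)) (tt N15972 (iv D29994)))
theorem Q19643 : ∀ i, i < 19643 → P i := stepQ 19642 Q19642 (allL N19642 (tt N19643 (iv F65143)) (tt N21806 (iv F72501)) (tt N21925 (iv F72982)) (tt N15978 F65141) (tt N21930 (iv F73004)) (tt N19633 F65142) (tt N15973 (iv D29995)))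
theorem Q19644 : ∀ i, i < 19644 → P i := stepQ 19643 Q19643 (allL N19643 (tt N19642 F65143) (tt N16517 F65144) (tt N20763 (iv F68974)) (tt N15980 F65145) (tt N21745 (iv F72235)) (tt N15974 (iv D29996)) (tt N19632 F65146))
theorem Q19645 : ∀ i, i < 19645 → P i := stepQ 19644 Q19644 (allL N19644 (tt N21608 (iv F71758)) (tt N21588 F71703) (tt N19051 F65147) (tt N15976 F65148) (tt N21929 (iv F72999)) (tt N15975 (iv D29997)) (tt N19046 F65149))
theorem Q19646 : ∀ i, i < 19646 → P i := stepQ 19645 Q19645 (allL N19645 (tt N19647 (iv F65158)) (tt N21809 (iv F72508)) (tt N16148 F65150) (tt N19046 F65151) (tt N15978 F65152) (tt N19044 F65153) (tt N15976 (iv D29998)))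
theorem Q19647 : ∀ i, i < 19647 → P i := stepQ 19646 Q19646 (allL N19646 (tt N15986 F65154) (tt N15977 (iv D29999)) (tt N18730 F65155) (tt N21600 (iv F71736)) (tt N15979 F65156) (tt N21298 (iv F70728)) (tt N15986 F65157))
theorem Q19648 : ∀ i, i < 19648 → P i := stepQ 19647 Q19647 (allL N19647 (tt N19645 F65158) (tt N16382 (iv F65163)) (tt N16149 F65159) (tt N19451 F65160) (tt N15980 F65161) (tt N15977 (iv D30000)) (tt N19634 F65162))
theorem Q19649 : ∀ i, i < 19649 → P i := stepQ 19648 Q19648 (allL N19648 (tt N19207 F65164) (tt N21931 D32288) (tt N15981 (iv D30001)) (tt N19073 F65165) (tt N15984 F65166) (tt N21903 (iv F72892)) (tt N21932 D32289))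
theorem Q19650 : ∀ i, i < 19650 → P i := stepQ 19649 Q19649 (allL N19649 (tt N19208 F65167) (tt N21933 D32290) (tt N21932 (iv F73012)) (tt N15982 F65168) (tt N15985 F65169) (tt N21581 (iv F71685)) (tt N15981 (iv D30002)))
theorem Q19651 : ∀ i, i < 19651 → P i := stepQ 19650 Q19650 (allL N19650 (tt N21559 (iv F71624)) (tt N15982 (iv D30003)) (tt N19216 (iv F65171)) (tt N21933 (iv F73016)) (tt N15983 F65170) (tt N19215 (iv F65172)) (tt N21559 (iv F71627)))
theorem Q19652 : ∀ i, i < 19652 → P i := stepQ 19651 Q19651 (allL N19651 (tt N19184 (iv F65175)) (tt N15984 (iv D30004)) (tt N19180 F65173) (tt N19445 F65174) (tt N21931 (iv F73008)) (tt N21724 (iv F72160)) (tt N19177 (iv F65176)))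
theorem Q19653 : ∀ i, i < 19653 → P i := stepQ 19652 Q19652 (allL N19652 (tt N19427 F65177) (tt N21629 (iv F71816)) (tt N15985 F65178) (tt N19426 F65179) (tt N21932 (iv F73014)) (tt N21557 (iv F71622)) (tt N15984 (iv D30005)))
theorem Q19654 : ∀ i, i < 19654 → P i := stepQ 19653 Q19653 (allL N19653 (tt N21600 (iv F71735)) (tt N15985 (iv D30006)) (tt N21336 (iv F70881)) (tt N15986 F65180) (tt N21933 (iv F73017)) (tt N19203 F65181) (tt N21600 (iv F71737)))
theorem Q19655 : ∀ i, i < 19655 → P i := stepQ 19654 Q19654 (allL N19654 (tt N19454 F65182) (tt N15992 F65183) (tt N15989 (iv D30007)) (tt N20585 (iv F68289)) (tt N19403 F65184) (tt N20584 F68286) (tt N19401 F65185))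
theorem Q19656 : ∀ i, i < 19656 → P i := stepQ 19655 Q19655 (allL N19655 (tt N15990 (iv D30008)) (tt N17110 (iv F65189)) (tt N21404 (iv F71119)) (tt N16520 F65186) (tt N15991 F65187) (tt N17114 F65188) (tt N21934 D32291))
theorem Q19657 : ∀ i, i < 19657 → P i := stepQ 19656 Q19656 (allL N19656 (tt N21404 (iv F71117)) (tt N19403 F65190) (tt N15990 (iv D30009)) (tt N21935 D32292) (tt N15992 F65191) (tt N21182 (iv F70354)) (tt N19408 (iv F65192)))
theorem Q19658 : ∀ i, i < 19658 → P i := stepQ 19657 Q19657 (allL N19657 (tt N21934 (iv F73019)) (tt N19337 F65193) (tt N19408 F65194) (tt N16521 F65195) (tt N15993 F65196) (tt N20392 (iv F67627)) (tt N15990 (iv D30010)))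
theorem Q19659 : ∀ i, i < 19659 → P i := stepQ 19658 Q19658 (allL N19658 (tt N15992 F65197) (tt N21419 (iv F71163)) (tt N15991 (iv D30011)) (tt N16953 F65198) (tt N21404 (iv F71120)) (tt N21192 (iv F70382)) (tt N21936 D32293))
theorem Q19660 : ∀ i, i < 19660 → P i := stepQ 19659 Q19659 (allL N19659 (tt N15993 F65199) (tt N20724 (iv F68801)) (tt N21936 (iv F73030)) (tt N15995 F65200) (tt N21934 (iv F73023)) (tt N18467 F65201) (tt N15991 (iv D30012)))
theorem Q19661 : ∀ i, i < 19661 → P i := stepQ 19660 Q19660 (allL N19660 (tt N16953 F65202) (tt N20585 F68292) (tt N16952 F65203) (tt N15992 (iv D30013)) (tt N20586 (iv F68295)) (tt N21193 (iv F70387)) (tt N21937 D32294))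
theorem Q19662 : ∀ i, i < 19662 → P i := stepQ 19661 Q19661 (allL N19661 (tt N21936 (iv F73029)) (tt N19406 F65204) (tt N15993 F65205) (tt N21937 (iv F73038)) (tt N19408 F65206) (tt N21938 D32295) (tt N15992 (iv D30014)))
theorem Q19663 : ∀ i, i < 19663 → P i := stepQ 19662 Q19662 (allL N19662 (tt N18467 F65207) (tt N21175 (iv F70324)) (tt N21938 (iv F73040)) (tt N15997 F65208) (tt N20392 (iv F67626)) (tt N15993 (iv D30015)) (tt N18465 F65209))
theorem Q19664 : ∀ i, i < 19664 → P i := stepQ 19663 Q19663 (allL N19663 (tt N15996 F65210) (tt N18895 F65211) (tt N15995 F65212) (tt N20134 (iv F66774)) (tt N16524 F65213) (tt N18469 F65214) (tt N15994 (iv D30016)))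
theorem Q19665 : ∀ i, i < 19665 → P i := stepQ 19664 Q19664 (allL N19664 (tt N18469 F65215) (tt N20964 (iv F69709)) (tt N15997 F65216) (tt N20133 (iv F66768)) (tt N16527 F65217) (tt N15996 (iv D30017)) (tt N18468 F65218))
theorem Q19666 : ∀ i, i < 19666 → P i := stepQ 19665 Q19665 (allL N19665 (tt N17432 F65219) (tt N19303 F65220) (tt N18600 F65221) (tt N16310 F65222) (tt N16003 F65223) (tt N16000 (iv D30018)) (tt N17432 F65224))
theorem Q19667 : ∀ i, i < 19667 → P i := stepQ 19666 Q19666 (allL N19666 (tt N20600 (iv F68346)) (tt N21911 (iv F72921)) (tt N16003 F65225) (tt N20599 (iv F68342)) (tt N18600 F65226) (tt N16002 (iv D30019)) (tt N20600 (iv F68351)))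
theorem Q19668 : ∀ i, i < 19668 → P i := stepQ 19667 Q19667 (allL N19667 (tt N21329 (iv F70850)) (tt N19864 (iv F65825)) (tt N16007 F65227) (tt N21306 (iv F70759)) (tt N16006 (iv D30020)) (tt N19513 F65228) (tt N21874 (iv F72769)))
theorem Q19669 : ∀ i, i < 19669 → P i := stepQ 19668 Q19668 (allL N19668 (tt N18044 F65229) (tt N18488 (iv F65232)) (tt N16009 F65230) (tt N18046 F65231) (tt N21874 (iv F72767)) (tt N21879 (iv F72790)) (tt N16006 (iv D30021)))
theorem Q19670 : ∀ i, i < 19670 → P i := stepQ 19669 Q19669 (allL N19669 (tt N20606 (iv F68376)) (tt N16010 (iv D30022)) (tt N16305 F65233) (tt N21877 (iv F72781)) (tt N16301 F65234) (tt N17778 F65235) (tt N17580 F65236))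
theorem Q19671 : ∀ i, i < 19671 → P i := stepQ 19670 Q19670 (allL N19670 (tt N18725 (iv F65238)) (tt N16011 (iv D30023)) (tt N17254 F65237) (tt N19716 (iv F65362)) (tt N21939 D32296) (tt N21940 D32297) (tt N21883 (iv F72805)))
theorem Q19672 : ∀ i, i < 19672 → P i := stepQ 19671 Q19671 (allL N19671 (tt N16017 F65239) (tt N21939 (iv F73044)) (tt N16012 F65240) (tt N21941 D32298) (tt N16011 (iv D30024)) (tt N20730 (iv F68830)) (tt N21888 (iv F72827)))
theorem Q19673 : ∀ i, i < 19673 → P i := stepQ 19672 Q19672 (allL N19672 (tt N16018 F65241) (tt N21942 D32299) (tt N16013 F65242) (tt N19718 (iv F65369)) (tt N20730 (iv F68829)) (tt N16011 (iv D30025)) (tt N19683 (iv F65268)))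
theorem Q19674 : ∀ i, i < 19674 → P i := stepQ 19673 Q19673 (allL N19673 (tt N16019 F65243) (tt N21943 D32300) (tt N16014 F65244) (tt N19719 (iv F65373)) (tt N21888 (iv F72826)) (tt N19682 (iv F65265)) (tt N16011 (iv D30026)))
theorem Q19675 : ∀ i, i < 19675 → P i := stepQ 19674 Q19674 (allL N19674 (tt N16015 (iv D30027)) (tt N20461 (iv F67877)) (tt N16024 F65245) (tt N20321 (iv F67353)) (tt N21875 (iv F72771)) (tt N21944 D32301) (tt N20319 (iv F67349)))
theorem Q19676 : ∀ i, i < 19676 → P i := stepQ 19675 Q19675 (allL N19675 (tt N20321 (iv F67351)) (tt N16016 F65246) (tt N17004 F65247) (tt N16015 (iv D30028)) (tt N18679 (iv F65248)) (tt N17003 (iv F65249)) (tt N20317 (iv F67344)))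
theorem Q19677 : ∀ i, i < 19677 → P i := stepQ 19676 Q19676 (allL N19676 (tt N21875 F72772) (tt N16017 F65250) (tt N16025 F65251) (tt N21237 (iv F70524)) (tt N16015 (iv D30029)) (tt N21945 D32302) (tt N21035 (iv F69912)))
theorem Q19678 : ∀ i, i < 19678 → P i := stepQ 19677 Q19677 (allL N19677 (tt N21944 (iv F73068)) (tt N17985 F65252) (tt N16026 F65253) (tt N17003 F65254) (tt N21945 (iv F73075)) (tt N16015 (iv D30030)) (tt N17007 (iv F65255)))
theorem Q19679 : ∀ i, i < 19679 → P i := stepQ 19678 Q19678 (allL N19678 (tt N19719 (iv F65371)) (tt N18739 (iv F65257)) (tt N19706 (iv F65331)) (tt N16019 F65256) (tt N21270 (iv F70644)) (tt N21946 D32303) (tt N16016 (iv D30031)))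
theorem Q19680 : ∀ i, i < 19680 → P i := stepQ 19679 Q19679 (allL N19679 (tt N21941 (iv F73056)) (tt N21237 (iv F70525)) (tt N21493 (iv F71401)) (tt N16017 (iv D30032)) (tt N21268 (iv F70637)) (tt N21265 F70634) (tt N21947 D32304))
theorem Q19681 : ∀ i, i < 19681 → P i := stepQ 19680 Q19680 (allL N19680 (tt N20730 (iv F68828)) (tt N20825 F69236) (tt N16020 F65258) (tt N21265 (iv F70632)) (tt N16018 F65259) (tt N16017 (iv D30033)) (tt N19527 (iv F65260)))
theorem Q19682 : ∀ i, i < 19682 → P i := stepQ 19681 Q19681 (allL N19681 (tt N21888 (iv F72824)) (tt N20682 F68641) (tt N16021 F65261) (tt N21947 (iv F73083)) (tt N16019 F65262) (tt N21886 (iv F72819)) (tt N16017 (iv D30034)))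
theorem Q19683 : ∀ i, i < 19683 → P i := stepQ 19682 Q19682 (allL N19682 (tt N19683 (iv F65266)) (tt N20107 (iv F66662)) (tt N16022 F65263) (tt N20108 (iv F66665)) (tt N19527 F65264) (tt N19673 F65265) (tt N16018 (iv D30035)))
theorem Q19684 : ∀ i, i < 19684 → P i := stepQ 19683 Q19683 (allL N19683 (tt N19682 F65266) (tt N21948 D32305) (tt N16023 F65267) (tt N21946 (iv F73079)) (tt N21886 (iv F72818)) (tt N16019 (iv D30036)) (tt N19672 F65268))
theorem Q19685 : ∀ i, i < 19685 → P i := stepQ 19684 Q19684 (allL N19684 (tt N16025 F65269) (tt N20464 (iv F67892)) (tt N21875 (iv F72770)) (tt N18383 F65270) (tt N16024 (iv D30037)) (tt N21699 F72073) (tt N21949 D32306))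
theorem Q19686 : ∀ i, i < 19686 → P i := stepQ 19685 Q19685 (allL N19685 (tt N16026 F65271) (tt N17800 (iv F65560)) (tt N21944 (iv F73069)) (tt N19855 (iv F65803)) (tt N21699 (iv F72071)) (tt N16024 (iv D30038)) (tt N19690 (iv F65280)))
theorem Q19687 : ∀ i, i < 19687 → P i := stepQ 19686 Q19686 (allL N19686 (tt N16027 F65272) (tt N21950 D32307) (tt N20319 (iv F67347)) (tt N19856 (iv F65809)) (tt N21949 (iv F73090)) (tt N19689 (iv F65277)) (tt N16024 (iv D30039)))
theorem Q19688 : ∀ i, i < 19688 → P i := stepQ 19687 Q19687 (allL N19687 (tt N21699 (iv F72072)) (tt N19867 (iv F65835)) (tt N21945 (iv F73073)) (tt N20457 (iv F67865)) (tt N16026 F65273) (tt N16025 (iv D30040)) (tt N21951 D32308))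
theorem Q19689 : ∀ i, i < 19689 → P i := stepQ 19688 Q19688 (allL N19688 (tt N21949 (iv F73088)) (tt N17783 F65274) (tt N21035 F69913) (tt N20458 (iv F67868)) (tt N16027 F65275) (tt N21952 D32309) (tt N16025 (iv D30041)))
theorem Q19690 : ∀ i, i < 19690 → P i := stepQ 19689 Q19689 (allL N19689 (tt N19690 (iv F65278)) (tt N21953 D32310) (tt N17007 F65276) (tt N19857 (iv F65813)) (tt N21951 (iv F73092)) (tt N19686 F65277) (tt N16026 (iv D30042)))
theorem Q19691 : ∀ i, i < 19691 → P i := stepQ 19690 Q19690 (allL N19690 (tt N19689 F65278) (tt N19783 F65558) (tt N20316 (iv F67338)) (tt N17179 F65279) (tt N21952 (iv F73095)) (tt N16027 (iv D30043)) (tt N19685 F65280))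
theorem Q19692 : ∀ i, i < 19692 → P i := stepQ 19691 Q19691 (allL N19691 (tt N16794 F65281) (tt N16028 (iv D30044)) (tt N16035 F65282) (tt N16793 F65283) (tt N19937 (iv F66089)) (tt N21954 D32311) (tt N21250 (iv F70574)))
theorem Q19693 : ∀ i, i < 19693 → P i := stepQ 19692 Q19692 (allL N19692 (tt N17232 F65284) (tt N19937 (iv F66088)) (tt N16029 F65285) (tt N17443 F65286) (tt N16028 (iv D30045)) (tt N19546 (iv F65287)) (tt N21249 (iv F70569)))
theorem Q19694 : ∀ i, i < 19694 → P i := stepQ 19693 Q19693 (allL N19693 (tt N17223 F65288) (tt N20270 F67201) (tt N16030 F65289) (tt N17225 F65290) (tt N19546 F65291) (tt N16028 (iv D30046)) (tt N20456 (iv F67862)))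
theorem Q19695 : ∀ i, i < 19695 → P i := stepQ 19694 Q19694 (allL N19694 (tt N17233 F65292) (tt N21256 (iv F70594)) (tt N16031 F65293) (tt N17231 F65294) (tt N21249 (iv F70568)) (tt N20454 (iv F67853)) (tt N16028 (iv D30047)))
theorem Q19696 : ∀ i, i < 19696 → P i := stepQ 19695 Q19695 (allL N19695 (tt N21831 (iv F72599)) (tt N18651 (iv F65298)) (tt N21249 (iv F70570)) (tt N16538 F65295) (tt N16031 F65296) (tt N19538 F65297) (tt N16029 (iv D30048)))
theorem Q19697 : ∀ i, i < 19697 → P i := stepQ 19696 Q19696 (allL N19696 (tt N17196 F65299) (tt N16030 (iv D30049)) (tt N21955 D32312) (tt N16032 F65300) (tt N17205 F65301) (tt N16042 F65302) (tt N19234 F65303))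
theorem Q19698 : ∀ i, i < 19698 → P i := stepQ 19697 Q19697 (allL N19697 (tt N19698 (iv F65307)) (tt N18250 F65304) (tt N20456 (iv F67860)) (tt N16033 F65305) (tt N21889 (iv F72830)) (tt N19396 F65306) (tt N16030 (iv D30050)))
theorem Q19699 : ∀ i, i < 19699 → P i := stepQ 19698 Q19698 (allL N19698 (tt N19697 F65307) (tt N18535 F65308) (tt N20454 (iv F67851)) (tt N16034 F65309) (tt N19538 F65310) (tt N16031 (iv D30051)) (tt N18613 F65311))
theorem Q19700 : ∀ i, i < 19700 → P i := stepQ 19699 Q19699 (allL N19699 (tt N16035 (iv D30052)) (tt N18663 F65312) (tt N16794 F65313) (tt N16877 (iv F65314)) (tt N19939 (iv F66097)) (tt N21956 D32313) (tt N21957 D32314))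
theorem Q19701 : ∀ i, i < 19701 → P i := stepQ 19700 Q19700 (allL N19700 (tt N16877 F65315) (tt N16036 F65316) (tt N16876 F65317) (tt N16035 (iv D30053)) (tt N20292 (iv F67270)) (tt N17013 (iv F65318)) (tt N21958 D32315))
theorem Q19702 : ∀ i, i < 19702 → P i := stepQ 19701 Q19701 (allL N19701 (tt N19939 (iv F66095)) (tt N16037 F65319) (tt N19937 F66090) (tt N21006 (iv F69813)) (tt N16035 (iv D30054)) (tt N21959 D32316) (tt N21960 D32317))
theorem Q19703 : ∀ i, i < 19703 → P i := stepQ 19702 Q19702 (allL N19702 (tt N21956 (iv F73107)) (tt N19008 (iv F65321)) (tt N21954 (iv F73099)) (tt N17013 F65320) (tt N21959 (iv F73125)) (tt N16035 (iv D30055)) (tt N21254 (iv F70588)))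
theorem Q19704 : ∀ i, i < 19704 → P i := stepQ 19703 Q19703 (allL N19703 (tt N21957 (iv F73112)) (tt N21961 D32318) (tt N21250 F70575) (tt N21958 (iv F73120)) (tt N21960 (iv F73127)) (tt N21253 (iv F70584)) (tt N16035 (iv D30056)))
theorem Q19705 : ∀ i, i < 19705 → P i := stepQ 19704 Q19704 (allL N19704 (tt N16046 F65322) (tt N20292 (iv F67268)) (tt N18625 F65323) (tt N21962 D32319) (tt N16036 (iv D30057)) (tt N18624 (iv F65324)) (tt N21963 D32320))
theorem Q19706 : ∀ i, i < 19706 → P i := stepQ 19705 Q19705 (allL N19705 (tt N16047 F65325) (tt N17959 F65326) (tt N17958 F65327) (tt N16038 F65328) (tt N18624 F65329) (tt N16036 (iv D30058)) (tt N19725 (iv F65391)))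
theorem Q19707 : ∀ i, i < 19707 → P i := stepQ 19706 Q19706 (allL N19706 (tt N16048 F65330) (tt N21964 D32321) (tt N19678 F65331) (tt N16039 F65332) (tt N21963 (iv F73138)) (tt N19723 (iv F65382)) (tt N16036 (iv D30059)))
theorem Q19708 : ∀ i, i < 19708 → P i := stepQ 19707 Q19707 (allL N19707 (tt N16049 F65333) (tt N21006 (iv F69814)) (tt N20033 (iv F66431)) (tt N16037 (iv D30060)) (tt N21962 (iv F73130)) (tt N21337 (iv F70886)) (tt N21592 (iv F71712)))
theorem Q19709 : ∀ i, i < 19709 → P i := stepQ 19708 Q19708 (allL N19708 (tt N16050 F65334) (tt N17683 (iv F65337)) (tt N16040 F65335) (tt N21337 (iv F70884)) (tt N16038 F65336) (tt N16037 (iv D30061)) (tt N19729 (iv F65403)))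
theorem Q19710 : ∀ i, i < 19710 → P i := stepQ 19709 Q19709 (allL N19709 (tt N16051 F65338) (tt N21593 (iv F71715)) (tt N16041 F65339) (tt N21592 F71713) (tt N16039 F65340) (tt N19727 (iv F65396)) (tt N16037 (iv D30062)))
theorem Q19711 : ∀ i, i < 19711 → P i := stepQ 19710 Q19710 (allL N19710 (tt N17684 F65341) (tt N16038 (iv D30063)) (tt N17779 (iv F65346)) (tt N17959 F65342) (tt N17683 F65343) (tt N19008 F65344) (tt N17960 (iv F65345)))
theorem Q19712 : ∀ i, i < 19712 → P i := stepQ 19711 Q19711 (allL N19711 (tt N21170 F70307) (tt N16039 (iv D30064)) (tt N21169 (iv F70308)) (tt N21964 (iv F73142)) (tt N21593 F71717) (tt N21965 D32322) (tt N21961 (iv F73128)))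
theorem Q19713 : ∀ i, i < 19713 → P i := stepQ 19712 Q19712 (allL N19712 (tt N19601 (iv F65350)) (tt N16041 (iv D30065)) (tt N21966 D32323) (tt N16502 F65347) (tt N16043 F65348) (tt N16501 (iv F65351)) (tt N18651 F65349))
theorem Q19714 : ∀ i, i < 19714 → P i := stepQ 19713 Q19713 (allL N19713 (tt N17198 F65352) (tt N17779 F65353) (tt N16042 (iv D30066)) (tt N20480 (iv F67932)) (tt N17209 F65354) (tt N21955 (iv F73105)) (tt N21762 (iv F72304)))
theorem Q19715 : ∀ i, i < 19715 → P i := stepQ 19714 Q19714 (allL N19714 (tt N19248 F65355) (tt N21169 F70309) (tt N16043 (iv D30067)) (tt N20900 (iv F69530)) (tt N21966 (iv F73148)) (tt N20899 F69527) (tt N18650 F65356))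
theorem Q19716 : ∀ i, i < 19716 → P i := stepQ 19715 Q19715 (allL N19715 (tt N17438 F65357) (tt N20813 (iv F69170)) (tt N21967 D32324) (tt N16044 (iv D30068)) (tt N17142 F65358) (tt N18330 F65359) (tt N17141 F65360))
theorem Q19717 : ∀ i, i < 19717 → P i := stepQ 19716 Q19716 (allL N19716 (tt N18667 (iv F65363)) (tt N16045 (iv D30069)) (tt N18402 F65361) (tt N19670 F65362) (tt N21968 D32325) (tt N21662 (iv F71936)) (tt N21678 (iv F71998)))
theorem Q19718 : ∀ i, i < 19718 → P i := stepQ 19717 Q19717 (allL N19717 (tt N18625 F65364) (tt N21968 (iv F73158)) (tt N16046 F65365) (tt N21969 D32326) (tt N16045 (iv D30070)) (tt N18623 (iv F65366)) (tt N20225 (iv F67091)))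
theorem Q19719 : ∀ i, i < 19719 → P i := stepQ 19718 Q19718 (allL N19718 (tt N17958 F65367) (tt N21010 (iv F69824)) (tt N16047 F65368) (tt N19672 F65369) (tt N18623 F65370) (tt N16045 (iv D30071)) (tt N21946 (iv F73081)))
theorem Q19720 : ∀ i, i < 19720 → P i := stepQ 19719 Q19719 (allL N19719 (tt N19678 F65371) (tt N21970 D32327) (tt N16048 F65372) (tt N19673 F65373) (tt N20225 (iv F67090)) (tt N20108 F66668) (tt N16045 (iv D30072)))
theorem Q19721 : ∀ i, i < 19721 → P i := stepQ 19720 Q19720 (allL N19720 (tt N21962 (iv F73129)) (tt N18388 F65374) (tt N20851 (iv F69330)) (tt N16046 (iv D30073)) (tt N16049 F65375) (tt N20848 F69322) (tt N21398 (iv F71098)))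
theorem Q19722 : ∀ i, i < 19722 → P i := stepQ 19721 Q19721 (allL N19721 (tt N18624 F65376) (tt N20849 (iv F69324)) (tt N18623 F65377) (tt N20848 F69321) (tt N16047 F65378) (tt N16046 (iv D30074)) (tt N20257 (iv F67160)))
theorem Q19723 : ∀ i, i < 19723 → P i := stepQ 19722 Q19722 (allL N19722 (tt N21963 (iv F73134)) (tt N18977 F65387) (tt N20225 (iv F67089)) (tt N21398 (iv F71096)) (tt N16048 F65379) (tt N16933 F65380) (tt N16046 (iv D30075)))
theorem Q19724 : ∀ i, i < 19724 → P i := stepQ 19723 Q19723 (allL N19723 (tt N19725 (iv F65388)) (tt N21008 (iv F69817)) (tt N21946 (iv F73078)) (tt N16053 F65381) (tt N20257 (iv F67159)) (tt N19706 F65382) (tt N16047 (iv D30076)))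
theorem Q19725 : ∀ i, i < 19725 → P i := stepQ 19724 Q19724 (allL N19724 (tt N18187 F65385) (tt N16048 (iv D30077)) (tt N20872 (iv F69410)) (tt N16054 F65383) (tt N18977 (iv F65386)) (tt N21031 (iv F69905)) (tt N18266 F65384))
theorem Q19726 : ∀ i, i < 19726 → P i := stepQ 19725 Q19725 (allL N19725 (tt N19723 F65388) (tt N16712 F65392) (tt N20108 (iv F66664)) (tt N16055 F65389) (tt N16933 F65390) (tt N16048 (iv D30078)) (tt N19705 F65391))
theorem Q19727 : ∀ i, i < 19727 → P i := stepQ 19726 Q19726 (allL N19726 (tt N21592 (iv F71711)) (tt N21596 (iv F71727)) (tt N20884 (iv F69463)) (tt N16051 F65393) (tt N21398 (iv F71097)) (tt N19034 (iv F65406)) (tt N16049 (iv D30079)))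
theorem Q19728 : ∀ i, i < 19728 → P i := stepQ 19727 Q19727 (allL N19727 (tt N19729 (iv F65400)) (tt N21957 (iv F73113)) (tt N16056 F65394) (tt N21338 (iv F70891)) (tt N16053 F65395) (tt N19709 F65396) (tt N16050 (iv D30080)))
theorem Q19729 : ∀ i, i < 19729 → P i := stepQ 19728 Q19728 (allL N19728 (tt N20693 (iv F68678)) (tt N16051 (iv D30081)) (tt N17642 F65397) (tt N21596 (iv F71729)) (tt N16054 F65398) (tt N21594 (iv F71721)) (tt N18261 F65399))
theorem Q19730 : ∀ i, i < 19730 → P i := stepQ 19729 Q19729 (allL N19729 (tt N19727 F65400) (tt N19033 (iv F65404)) (tt N16057 F65401) (tt N19034 F65405) (tt N16055 F65402) (tt N16051 (iv D30082)) (tt N19708 F65403))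
theorem Q19731 : ∀ i, i < 19731 → P i := stepQ 19730 Q19730 (allL N19730 (tt N21960 (iv F73126)) (tt N16053 (iv D30083)) (tt N19941 (iv F66102)) (tt N21008 (iv F69819)) (tt N21957 (iv F73116)) (tt N21971 D32328) (tt N19939 F66099))
theorem Q19732 : ∀ i, i < 19732 → P i := stepQ 19731 Q19731 (allL N19731 (tt N20694 (iv F68681)) (tt N20816 (iv F69188)) (tt N17645 F65407) (tt N21031 (iv F69903)) (tt N21594 (iv F71720)) (tt N16054 (iv D30084)) (tt N21041 (iv F69933)))
theorem Q19733 : ∀ i, i < 19733 → P i := stepQ 19732 Q19732 (allL N19732 (tt N19036 (iv F65411)) (tt N16055 (iv D30085)) (tt N20817 (iv F69195)) (tt N16712 F65408) (tt N19033 F65409) (tt N20816 F69192) (tt N16711 F65410))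
theorem Q19734 : ∀ i, i < 19734 → P i := stepQ 19733 Q19733 (allL N19733 (tt N20912 (iv F69572)) (tt N16056 (iv D30086)) (tt N19972 (iv F66217)) (tt N16555 F65412) (tt N16058 F65413) (tt N19969 (iv F66209)) (tt N19752 (iv F65477)))
theorem Q19735 : ∀ i, i < 19735 → P i := stepQ 19734 Q19734 (allL N19734 (tt N17046 (iv F65417)) (tt N16057 (iv D30087)) (tt N21825 (iv F72569)) (tt N16556 F65414) (tt N16059 F65415) (tt N17647 F65416) (tt N20447 (iv F67827)))
theorem Q19736 : ∀ i, i < 19736 → P i := stepQ 19735 Q19735 (allL N19735 (tt N20058 (iv F66492)) (tt N18168 F65418) (tt N19976 (iv F66232)) (tt N16061 F65419) (tt N19969 (iv F66208)) (tt N16058 (iv D30088)) (tt N21055 (iv F69970)))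
theorem Q19737 : ∀ i, i < 19737 → P i := stepQ 19736 Q19736 (allL N19736 (tt N16059 (iv D30089)) (tt N17052 F65420) (tt N17720 (iv F65424)) (tt N16062 F65421) (tt N17046 F65422) (tt N17648 F65423) (tt N20687 (iv F68655)))
theorem Q19738 : ∀ i, i < 19738 → P i := stepQ 19737 Q19737 (allL N19737 (tt N17720 F65425) (tt N20817 (iv F69194)) (tt N16059 (iv D30090)) (tt N17722 (iv F65427)) (tt N21825 (iv F72571)) (tt N17649 F65426) (tt N19831 (iv F65713)))
theorem Q19739 : ∀ i, i < 19739 → P i := stepQ 19738 Q19738 (allL N19738 (tt N20687 (iv F68651)) (tt N19232 F65428) (tt N19831 (iv F65711)) (tt N16064 F65429) (tt N20447 (iv F67826)) (tt N19830 F65709) (tt N16059 (iv D30091)))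
theorem Q19740 : ∀ i, i < 19740 → P i := stepQ 19739 Q19739 (allL N19739 (tt N16063 F65430) (tt N19835 (iv F65724)) (tt N16062 (iv D30092)) (tt N21972 D32329) (tt N16557 F65431) (tt N17651 F65432) (tt N18948 F65433))
theorem Q19741 : ∀ i, i < 19741 → P i := stepQ 19740 Q19740 (allL N19740 (tt N21972 (iv F73168)) (tt N18863 F65434) (tt N20697 (iv F68697)) (tt N16063 (iv D30093)) (tt N20364 (iv F67535)) (tt N17653 F65435) (tt N21973 D32330))
theorem Q19742 : ∀ i, i < 19742 → P i := stepQ 19741 Q19741 (allL N19741 (tt N18948 F65436) (tt N19833 (iv F65717)) (tt N16064 F65437) (tt N21973 (iv F73173)) (tt N16558 F65438) (tt N20689 (iv F68663)) (tt N16063 (iv D30094)))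
theorem Q19743 : ∀ i, i < 19743 → P i := stepQ 19742 Q19742 (allL N19742 (tt N20453 (iv F67846)) (tt N16832 F65439) (tt N20450 (iv F67836)) (tt N16836 F65440) (tt N16066 F65441) (tt N16065 (iv D30095)) (tt N21974 D32331))
theorem Q19744 : ∀ i, i < 19744 → P i := stepQ 19743 Q19743 (allL N19743 (tt N20360 (iv F67521)) (tt N20332 (iv F67409)) (tt N20359 (iv F67518)) (tt N18543 F65442) (tt N16067 F65443) (tt N20333 (iv F67412)) (tt N16065 (iv D30096)))
theorem Q19745 : ∀ i, i < 19745 → P i := stepQ 19744 Q19744 (allL N19744 (tt N19746 (iv F65450)) (tt N21199 (iv F70404)) (tt N17072 F65444) (tt N18379 F65445) (tt N21974 (iv F73178)) (tt N17070 F65446) (tt N16066 (iv D30097)))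
theorem Q19746 : ∀ i, i < 19746 → P i := stepQ 19745 Q19745 (allL N19745 (tt N17636 F65447) (tt N16067 (iv D30098)) (tt N19843 (iv F65754)) (tt N17634 F65448) (tt N20332 (iv F67407)) (tt N20327 F67381) (tt N16071 F65449))
theorem Q19747 : ∀ i, i < 19747 → P i := stepQ 19746 Q19746 (allL N19746 (tt N19744 F65450) (tt N20328 (iv F67383)) (tt N17224 F65451) (tt N18380 F65452) (tt N20333 (iv F67411)) (tt N16067 (iv D30099)) (tt N17221 F65453))
theorem Q19748 : ∀ i, i < 19748 → P i := stepQ 19747 Q19747 (allL N19747 (tt N17043 (iv F65456)) (tt N16069 (iv D30100)) (tt N19841 (iv F65743)) (tt N17045 F65454) (tt N16071 F65455) (tt N17041 (iv F65457)) (tt N20332 (iv F67408)))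
theorem Q19749 : ∀ i, i < 19749 → P i := stepQ 19748 Q19748 (allL N19748 (tt N16830 F65458) (tt N17768 F65459) (tt N16070 (iv D30101)) (tt N17794 (iv F65461)) (tt N16831 F65460) (tt N21891 (iv F72842)) (tt N21779 (iv F72380)))
theorem Q19750 : ∀ i, i < 19750 → P i := stepQ 19749 Q19749 (allL N19749 (tt N16783 F65462) (tt N19758 (iv F65497)) (tt N21779 (iv F72377)) (tt N16854 F65463) (tt N16784 F65464) (tt N18107 F65465) (tt N16070 (iv D30102)))
theorem Q19751 : ∀ i, i < 19751 → P i := stepQ 19750 Q19750 (allL N19750 (tt N16071 (iv D30103)) (tt N20261 (iv F67170)) (tt N19842 (iv F65748)) (tt N17403 F65466) (tt N17043 F65467) (tt N17040 F65469) (tt N17636 F65468))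
theorem Q19752 : ∀ i, i < 19752 → P i := stepQ 19751 Q19751 (allL N19751 (tt N17040 F65470) (tt N19755 (iv F65487)) (tt N19838 (iv F65733)) (tt N17401 F65471) (tt N17041 F65472) (tt N16071 (iv D30104)) (tt N19364 F65473))
theorem Q19753 : ∀ i, i < 19753 → P i := stepQ 19752 Q19752 (allL N19752 (tt N18680 (iv F65478)) (tt N16072 (iv D30105)) (tt N16398 F65474) (tt N17101 F65475) (tt N16074 F65476) (tt N20335 (iv F67417)) (tt N19733 F65477))
theorem Q19754 : ∀ i, i < 19754 → P i := stepQ 19753 Q19753 (allL N19753 (tt N20510 (iv F68029)) (tt N16073 (iv D30106)) (tt N21975 D32332) (tt N17938 F65479) (tt N16075 F65480) (tt N18372 F65481) (tt N20170 (iv F66894)))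
theorem Q19755 : ∀ i, i < 19755 → P i := stepQ 19754 Q19754 (allL N19754 (tt N16074 (iv D30107)) (tt N18079 (iv F65486)) (tt N16393 F65482) (tt N18080 F65483) (tt N18680 F65484) (tt N21055 (iv F69969)) (tt N18086 F65485))
theorem Q19756 : ∀ i, i < 19756 → P i := stepQ 19755 Q19755 (allL N19755 (tt N21055 (iv F69967)) (tt N19751 F65487) (tt N16403 F65488) (tt N18382 F65489) (tt N20335 (iv F67416)) (tt N16074 (iv D30108)) (tt N20058 (iv F66496)))
theorem Q19757 : ∀ i, i < 19757 → P i := stepQ 19756 Q19756 (allL N19756 (tt N16075 (iv D30109)) (tt N19340 F65490) (tt N18688 F65493) (tt N17936 F65491) (tt N20510 (iv F68030)) (tt N18375 F65492) (tt N21122 (iv F70175)))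
theorem Q19758 : ∀ i, i < 19758 → P i := stepQ 19757 Q19757 (allL N19757 (tt N18688 F65494) (tt N21165 (iv F70299)) (tt N16075 (iv D30110)) (tt N18689 F65495) (tt N21975 (iv F73181)) (tt N18376 F65496) (tt N21976 D32333))
theorem Q19759 : ∀ i, i < 19759 → P i := stepQ 19758 Q19758 (allL N19758 (tt N21122 (iv F70171)) (tt N19749 F65497) (tt N21976 (iv F73186)) (tt N17939 F65498) (tt N20170 (iv F66893)) (tt N20932 (iv F69621)) (tt N16075 (iv D30111)))
theorem Q19760 : ∀ i, i < 19760 → P i := stepQ 19759 Q19759 (allL N19759 (tt N17460 F65499) (tt N19531 F65500) (tt N18591 F65501) (tt N16459 F65502) (tt N16079 F65503) (tt N17460 F65504) (tt N16076 (iv D30112)))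
theorem Q19761 : ∀ i, i < 19761 → P i := stepQ 19760 Q19760 (allL N19760 (tt N20602 (iv F68358)) (tt N21826 (iv F72575)) (tt N16079 F65505) (tt N20601 (iv F68354)) (tt N18591 F65506) (tt N20602 (iv F68363)) (tt N16078 (iv D30113)))
theorem Q19762 : ∀ i, i < 19762 → P i := stepQ 19761 Q19761 (allL N19761 (tt N21324 (iv F70825)) (tt N19882 (iv F65880)) (tt N16083 F65507) (tt N21317 (iv F70800)) (tt N16082 (iv D30114)) (tt N21776 (iv F72365)) (tt N19281 F65508))
theorem Q19763 : ∀ i, i < 19763 → P i := stepQ 19762 Q19762 (allL N19762 (tt N18073 F65509) (tt N18515 (iv F65512)) (tt N16084 F65510) (tt N18075 F65511) (tt N21776 (iv F72364)) (tt N16082 (iv D30115)) (tt N21781 (iv F72387)))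
theorem Q19764 : ∀ i, i < 19764 → P i := stepQ 19763 Q19763 (allL N19763 (tt N20605 (iv F68370)) (tt N16086 (iv D30116)) (tt N16454 F65513) (tt N21779 (iv F72378)) (tt N16299 F65514) (tt N17608 F65515) (tt N17794 F65516))
theorem Q19765 : ∀ i, i < 19765 → P i := stepQ 19764 Q19764 (allL N19764 (tt N18736 (iv F65518)) (tt N16087 (iv D30117)) (tt N17330 F65517) (tt N19810 (iv F65645)) (tt N21977 D32334) (tt N21786 F72407) (tt N21978 D32335))
theorem Q19766 : ∀ i, i < 19766 → P i := stepQ 19765 Q19765 (allL N19765 (tt N16093 F65519) (tt N21977 (iv F73191)) (tt N16088 F65520) (tt N21979 D32336) (tt N16087 (iv D30118)) (tt N21794 (iv F72442)) (tt N20695 (iv F68688)))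
theorem Q19767 : ∀ i, i < 19767 → P i := stepQ 19766 Q19766 (allL N19766 (tt N16094 F65521) (tt N21980 D32337) (tt N16089 F65522) (tt N19812 (iv F65652)) (tt N21794 (iv F72441)) (tt N16087 (iv D30119)) (tt N19777 (iv F65548)))
theorem Q19768 : ∀ i, i < 19768 → P i := stepQ 19767 Q19767 (allL N19767 (tt N16095 F65523) (tt N21981 D32338) (tt N16090 F65524) (tt N19813 (iv F65655)) (tt N20695 (iv F68687)) (tt N19776 (iv F65544)) (tt N16087 (iv D30120)))
theorem Q19769 : ∀ i, i < 19769 → P i := stepQ 19768 Q19768 (allL N19768 (tt N16091 (iv D30121)) (tt N20519 (iv F68064)) (tt N16100 F65525) (tt N20301 (iv F67294)) (tt N21777 (iv F72368)) (tt N20299 F67290) (tt N21982 D32339))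
theorem Q19770 : ∀ i, i < 19770 → P i := stepQ 19769 Q19769 (allL N19769 (tt N20301 (iv F67292)) (tt N16092 F65526) (tt N16979 F65527) (tt N16091 (iv D30122)) (tt N18690 (iv F65528)) (tt N20297 (iv F67285)) (tt N16978 (iv F65529)))
theorem Q19771 : ∀ i, i < 19771 → P i := stepQ 19770 Q19770 (allL N19770 (tt N21777 (iv F72369)) (tt N16093 F65530) (tt N16101 F65531) (tt N21238 (iv F70526)) (tt N16091 (iv D30123)) (tt N21072 (iv F70033)) (tt N21983 D32340))
theorem Q19772 : ∀ i, i < 19772 → P i := stepQ 19771 Q19771 (allL N19771 (tt N21982 (iv F73213)) (tt N17993 F65532) (tt N16103 F65533) (tt N16978 F65534) (tt N21983 (iv F73220)) (tt N16982 (iv F65535)) (tt N16091 (iv D30124)))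
theorem Q19773 : ∀ i, i < 19773 → P i := stepQ 19772 Q19772 (allL N19772 (tt N19812 (iv F65650)) (tt N18789 (iv F65537)) (tt N19799 (iv F65609)) (tt N16094 F65536) (tt N21279 (iv F70669)) (tt N16092 (iv D30125)) (tt N21984 D32341))
theorem Q19774 : ∀ i, i < 19774 → P i := stepQ 19773 Q19773 (allL N19773 (tt N21979 (iv F73201)) (tt N21238 (iv F70527)) (tt N21451 (iv F71273)) (tt N16093 (iv D30126)) (tt N21277 (iv F70662)) (tt N21985 D32342) (tt N21274 F70659))
theorem Q19775 : ∀ i, i < 19775 → P i := stepQ 19774 Q19774 (allL N19774 (tt N21794 (iv F72439)) (tt N20719 F68790) (tt N16096 F65538) (tt N21985 (iv F73228)) (tt N16094 F65539) (tt N16093 (iv D30127)) (tt N21792 (iv F72435)))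
theorem Q19776 : ∀ i, i < 19776 → P i := stepQ 19775 Q19775 (allL N19775 (tt N20695 (iv F68686)) (tt N20826 F69240) (tt N16097 F65540) (tt N21274 (iv F70657)) (tt N16095 F65541) (tt N19299 (iv F65542)) (tt N16093 (iv D30128)))
theorem Q19777 : ∀ i, i < 19777 → P i := stepQ 19776 Q19776 (allL N19776 (tt N19777 (iv F65545)) (tt N21986 D32343) (tt N16098 F65543) (tt N21984 (iv F73224)) (tt N21792 (iv F72433)) (tt N19767 F65544) (tt N16094 (iv D30129)))
theorem Q19778 : ∀ i, i < 19778 → P i := stepQ 19777 Q19777 (allL N19777 (tt N19776 F65545) (tt N20115 (iv F66696)) (tt N16099 F65546) (tt N20116 (iv F66699)) (tt N19299 F65547) (tt N16095 (iv D30130)) (tt N19766 F65548))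
theorem Q19779 : ∀ i, i < 19779 → P i := stepQ 19778 Q19778 (allL N19778 (tt N16101 F65549) (tt N20522 (iv F68079)) (tt N21777 (iv F72367)) (tt N18445 F65550) (tt N16100 (iv D30131)) (tt N21987 D32344) (tt N21573 F71667))
theorem Q19780 : ∀ i, i < 19780 → P i := stepQ 19779 Q19779 (allL N19779 (tt N16102 F65551) (tt N21988 D32345) (tt N20299 (iv F67288)) (tt N19874 (iv F65857)) (tt N21987 (iv F73235)) (tt N16100 (iv D30132)) (tt N19784 (iv F65563)))
theorem Q19781 : ∀ i, i < 19781 → P i := stepQ 19780 Q19780 (allL N19780 (tt N16103 F65552) (tt N17785 F65559) (tt N21982 (iv F73214)) (tt N19875 (iv F65861)) (tt N21573 (iv F71665)) (tt N19783 (iv F65557)) (tt N16100 (iv D30133)))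
theorem Q19782 : ∀ i, i < 19782 → P i := stepQ 19781 Q19781 (allL N19781 (tt N21987 (iv F73233)) (tt N17798 F65553) (tt N21072 F70034) (tt N20515 (iv F68050)) (tt N16102 F65554) (tt N16101 (iv D30134)) (tt N21989 D32346))
theorem Q19783 : ∀ i, i < 19783 → P i := stepQ 19782 Q19782 (allL N19782 (tt N21573 F71666) (tt N19886 (iv F65892)) (tt N21983 (iv F73218)) (tt N20516 (iv F68054)) (tt N16103 F65555) (tt N21990 D32347) (tt N16101 (iv D30135)))
theorem Q19784 : ∀ i, i < 19784 → P i := stepQ 19783 Q19783 (allL N19783 (tt N19784 (iv F65561)) (tt N19690 (iv F65558)) (tt N20296 (iv F67279)) (tt N17098 F65556) (tt N21989 (iv F73237)) (tt N19780 F65557) (tt N16102 (iv D30136)))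
theorem Q19785 : ∀ i, i < 19785 → P i := stepQ 19784 Q19784 (allL N19784 (tt N19783 F65561) (tt N21991 D32348) (tt N16982 F65562) (tt N19876 (iv F65867)) (tt N21990 (iv F73241)) (tt N16103 (iv D30137)) (tt N19779 F65563))
theorem Q19786 : ∀ i, i < 19786 → P i := stepQ 19785 Q19785 (allL N19785 (tt N16820 F65564) (tt N16104 (iv D30138)) (tt N16111 F65565) (tt N16819 F65566) (tt N19996 (iv F66312)) (tt N21239 (iv F70530)) (tt N21992 D32349))
theorem Q19787 : ∀ i, i < 19787 → P i := stepQ 19786 Q19786 (allL N19786 (tt N17308 F65567) (tt N19996 (iv F66311)) (tt N16105 F65568) (tt N17468 F65569) (tt N16104 (iv D30139)) (tt N21245 (iv F70553)) (tt N19319 (iv F65570)))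
theorem Q19788 : ∀ i, i < 19788 → P i := stepQ 19787 Q19787 (allL N19787 (tt N17309 F65571) (tt N21246 (iv F70556)) (tt N16106 F65572) (tt N17307 F65573) (tt N21245 (iv F70552)) (tt N16104 (iv D30140)) (tt N20512 (iv F68039)))
theorem Q19789 : ∀ i, i < 19789 → P i := stepQ 19788 Q19788 (allL N19788 (tt N17299 F65574) (tt N20281 F67238) (tt N16107 F65575) (tt N17301 F65576) (tt N19319 F65577) (tt N20514 (iv F68048)) (tt N16104 (iv D30141)))
theorem Q19790 : ∀ i, i < 19790 → P i := stepQ 19789 Q19789 (allL N19789 (tt N21797 (iv F72452)) (tt N18657 F65581) (tt N21245 (iv F70554)) (tt N16573 F65578) (tt N16106 F65579) (tt N16105 (iv D30142)) (tt N19310 F65580))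
theorem Q19791 : ∀ i, i < 19791 → P i := stepQ 19790 Q19790 (allL N19790 (tt N19792 (iv F65591)) (tt N18539 F65582) (tt N20512 (iv F68037)) (tt N16108 F65583) (tt N19310 F65584) (tt N18615 F65585) (tt N16106 (iv D30143)))
theorem Q19792 : ∀ i, i < 19792 → P i := stepQ 19791 Q19791 (allL N19791 (tt N17272 F65586) (tt N16107 (iv D30144)) (tt N21993 D32350) (tt N16109 F65587) (tt N17281 F65588) (tt N19476 (iv F65590)) (tt N16119 F65589))
theorem Q19793 : ∀ i, i < 19793 → P i := stepQ 19792 Q19792 (allL N19792 (tt N19790 F65591) (tt N18308 F65592) (tt N20514 (iv F68046)) (tt N16110 F65593) (tt N21795 (iv F72445)) (tt N16107 (iv D30145)) (tt N19602 F65594))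
theorem Q19794 : ∀ i, i < 19794 → P i := stepQ 19793 Q19793 (allL N19793 (tt N16111 (iv D30146)) (tt N18665 F65595) (tt N16820 F65596) (tt N16884 (iv F65597)) (tt N19998 (iv F66320)) (tt N21994 D32351) (tt N21995 D32352))
theorem Q19795 : ∀ i, i < 19795 → P i := stepQ 19794 Q19794 (allL N19794 (tt N16884 F65598) (tt N16112 F65599) (tt N16883 F65600) (tt N16111 (iv D30147)) (tt N20313 (iv F67332)) (tt N21996 D32353) (tt N16988 (iv F65601)))
theorem Q19796 : ∀ i, i < 19796 → P i := stepQ 19795 Q19795 (allL N19795 (tt N19998 (iv F66318)) (tt N16113 F65602) (tt N19996 F66313) (tt N20980 (iv F69746)) (tt N16111 (iv D30148)) (tt N21997 D32354) (tt N21998 D32355))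
theorem Q19797 : ∀ i, i < 19797 → P i := stepQ 19796 Q19796 (allL N19796 (tt N21994 (iv F73253)) (tt N21999 D32356) (tt N21239 F70532) (tt N21996 (iv F73266)) (tt N21997 (iv F73270)) (tt N16111 (iv D30149)) (tt N21242 (iv F70541)))
theorem Q19798 : ∀ i, i < 19798 → P i := stepQ 19797 Q19797 (allL N19797 (tt N21995 (iv F73259)) (tt N19146 (iv F65604)) (tt N21992 (iv F73245)) (tt N16988 F65603) (tt N21998 (iv F73273)) (tt N21243 (iv F70545)) (tt N16111 (iv D30150)))
theorem Q19799 : ∀ i, i < 19799 → P i := stepQ 19798 Q19798 (allL N19798 (tt N16122 F65605) (tt N20313 (iv F67330)) (tt N18640 F65606) (tt N22000 D32357) (tt N16112 (iv D30151)) (tt N22001 D32358) (tt N18639 (iv F65607)))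
theorem Q19800 : ∀ i, i < 19800 → P i := stepQ 19799 Q19799 (allL N19799 (tt N16123 F65608) (tt N22002 D32359) (tt N19772 F65609) (tt N16114 F65610) (tt N22001 (iv F73284)) (tt N16112 (iv D30152)) (tt N19819 (iv F65675)))
theorem Q19801 : ∀ i, i < 19801 → P i := stepQ 19800 Q19800 (allL N19800 (tt N16124 F65611) (tt N17964 F65612) (tt N17963 F65613) (tt N16115 F65614) (tt N18639 F65615) (tt N19818 (iv F65671)) (tt N16112 (iv D30153)))
theorem Q19802 : ∀ i, i < 19802 → P i := stepQ 19801 Q19801 (allL N19801 (tt N16125 F65616) (tt N20980 F69747) (tt N20053 (iv F66481)) (tt N16113 (iv D30154)) (tt N22000 (iv F73276)) (tt N21710 F72105) (tt N21345 (iv F70920)))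
theorem Q19803 : ∀ i, i < 19803 → P i := stepQ 19802 Q19802 (allL N19802 (tt N16126 F65617) (tt N21711 (iv F72108)) (tt N16116 F65618) (tt N21710 (iv F72106)) (tt N16114 F65619) (tt N16113 (iv D30155)) (tt N19823 (iv F65689)))
theorem Q19804 : ∀ i, i < 19804 → P i := stepQ 19803 Q19803 (allL N19803 (tt N16127 F65620) (tt N17751 (iv F65623)) (tt N16117 F65621) (tt N21345 (iv F70918)) (tt N16115 F65622) (tt N19822 (iv F65682)) (tt N16113 (iv D30156)))
theorem Q19805 : ∀ i, i < 19805 → P i := stepQ 19804 Q19804 (allL N19804 (tt N21111 F70143) (tt N16114 (iv D30157)) (tt N21110 (iv F70144)) (tt N22002 (iv F73288)) (tt N21711 F72110) (tt N21999 (iv F73274)) (tt N22003 D32360))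
theorem Q19806 : ∀ i, i < 19806 → P i := stepQ 19805 Q19805 (allL N19805 (tt N17752 F65624) (tt N16115 (iv D30158)) (tt N17795 (iv F65629)) (tt N17964 F65625) (tt N17751 F65626) (tt N17965 (iv F65628)) (tt N19146 F65627))
theorem Q19807 : ∀ i, i < 19807 → P i := stepQ 19806 Q19806 (allL N19806 (tt N19394 (iv F65633)) (tt N16116 (iv D30159)) (tt N22004 D32361) (tt N16368 F65630) (tt N16118 F65631) (tt N18657 F65632) (tt N16367 (iv F65634)))
theorem Q19808 : ∀ i, i < 19808 → P i := stepQ 19807 Q19807 (allL N19807 (tt N19393 F65635) (tt N21110 F70145) (tt N16118 (iv D30160)) (tt N20876 (iv F69432)) (tt N22004 (iv F73294)) (tt N18656 F65636) (tt N20875 F69429))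
theorem Q19809 : ∀ i, i < 19809 → P i := stepQ 19808 Q19808 (allL N19808 (tt N17274 F65637) (tt N17795 F65638) (tt N16119 (iv D30161)) (tt N20538 (iv F68120)) (tt N17285 F65639) (tt N21866 (iv F72733)) (tt N21993 (iv F73252)))
theorem Q19810 : ∀ i, i < 19810 → P i := stepQ 19809 Q19809 (allL N19809 (tt N17463 F65640) (tt N20803 (iv F69117)) (tt N22005 D32362) (tt N16120 (iv D30162)) (tt N17053 F65641) (tt N17052 F65642) (tt N18273 F65643))
theorem Q19811 : ∀ i, i < 19811 → P i := stepQ 19810 Q19810 (allL N19810 (tt N18672 (iv F65646)) (tt N16121 (iv D30163)) (tt N18398 F65644) (tt N19764 F65645) (tt N22006 D32363) (tt N21549 (iv F71589)) (tt N21531 (iv F71523)))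
theorem Q19812 : ∀ i, i < 19812 → P i := stepQ 19811 Q19811 (allL N19811 (tt N18640 F65647) (tt N22006 (iv F73304)) (tt N16122 F65648) (tt N22007 D32364) (tt N16121 (iv D30164)) (tt N20232 (iv F67105)) (tt N18638 (iv F65649)))
theorem Q19813 : ∀ i, i < 19813 → P i := stepQ 19812 Q19812 (allL N19812 (tt N19772 F65650) (tt N22008 D32365) (tt N16123 F65651) (tt N19766 F65652) (tt N20232 (iv F67104)) (tt N16121 (iv D30165)) (tt N20116 F66702))
theorem Q19814 : ∀ i, i < 19814 → P i := stepQ 19813 Q19813 (allL N19813 (tt N17963 F65653) (tt N20984 (iv F69757)) (tt N16124 F65654) (tt N19767 F65655) (tt N18638 F65656) (tt N21984 (iv F73226)) (tt N16121 (iv D30166)))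
theorem Q19815 : ∀ i, i < 19815 → P i := stepQ 19814 Q19814 (allL N19814 (tt N22000 (iv F73275)) (tt N18450 F65657) (tt N20858 (iv F69357)) (tt N16122 (iv D30167)) (tt N16125 F65658) (tt N21442 (iv F71240)) (tt N20855 F69349))
theorem Q19816 : ∀ i, i < 19816 → P i := stepQ 19815 Q19815 (allL N19815 (tt N22001 (iv F73280)) (tt N19116 (iv F65668)) (tt N20232 (iv F67103)) (tt N21442 (iv F71238)) (tt N16123 F65659) (tt N16122 (iv D30168)) (tt N16921 F65660))
theorem Q19817 : ∀ i, i < 19817 → P i := stepQ 19816 Q19816 (allL N19816 (tt N18639 F65661) (tt N20856 (iv F69351)) (tt N18638 F65662) (tt N20855 F69348) (tt N16124 F65663) (tt N20245 (iv F67132)) (tt N16122 (iv D30169)))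
theorem Q19818 : ∀ i, i < 19818 → P i := stepQ 19817 Q19817 (allL N19817 (tt N18212 (iv F65666)) (tt N16123 (iv D30170)) (tt N20896 (iv F69508)) (tt N16128 F65664) (tt N19116 F65667) (tt N18323 F65665) (tt N21068 (iv F70022)))
theorem Q19819 : ∀ i, i < 19819 → P i := stepQ 19818 Q19818 (allL N19818 (tt N19819 (iv F65673)) (tt N16703 (iv F65672)) (tt N20116 (iv F66698)) (tt N16129 F65669) (tt N16921 F65670) (tt N19800 F65671) (tt N16123 (iv D30171)))
theorem Q19820 : ∀ i, i < 19820 → P i := stepQ 19819 Q19819 (allL N19819 (tt N19818 F65673) (tt N20982 (iv F69750)) (tt N21984 (iv F73223)) (tt N16131 F65674) (tt N20245 (iv F67131)) (tt N16124 (iv D30172)) (tt N19799 F65675))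
theorem Q19821 : ∀ i, i < 19821 → P i := stepQ 19820 Q19820 (allL N19820 (tt N21710 (iv F72101)) (tt N21552 (iv F71597)) (tt N20908 (iv F69561)) (tt N16126 F65676) (tt N21442 (iv F71239)) (tt N16125 (iv D30173)) (tt N19171 (iv F65685)))
theorem Q19822 : ∀ i, i < 19822 → P i := stepQ 19821 Q19821 (allL N19821 (tt N20728 (iv F68820)) (tt N16126 (iv D30174)) (tt N17714 F65677) (tt N21552 (iv F71600)) (tt N16128 F65678) (tt N18318 F65679) (tt N21712 (iv F72114)))
theorem Q19823 : ∀ i, i < 19823 → P i := stepQ 19822 Q19822 (allL N19822 (tt N19823 (iv F65686)) (tt N19170 (iv F65683)) (tt N16132 F65680) (tt N19171 F65684) (tt N16129 F65681) (tt N19803 F65682) (tt N16126 (iv D30175)))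
theorem Q19824 : ∀ i, i < 19824 → P i := stepQ 19823 Q19823 (allL N19823 (tt N19822 F65686) (tt N21994 (iv F73254)) (tt N16133 F65687) (tt N21346 (iv F70925)) (tt N16131 F65688) (tt N16127 (iv D30176)) (tt N19802 F65689))
theorem Q19825 : ∀ i, i < 19825 → P i := stepQ 19824 Q19824 (allL N19824 (tt N20729 (iv F68823)) (tt N20806 (iv F69135)) (tt N17717 F65690) (tt N21068 (iv F70019)) (tt N21712 (iv F72113)) (tt N21078 (iv F70054)) (tt N16128 (iv D30177)))
theorem Q19826 : ∀ i, i < 19826 → P i := stepQ 19825 Q19825 (allL N19825 (tt N19173 (iv F65694)) (tt N16129 (iv D30178)) (tt N20807 (iv F69142)) (tt N16703 F65691) (tt N19170 F65692) (tt N16702 F65693) (tt N20806 F69139))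
theorem Q19827 : ∀ i, i < 19827 → P i := stepQ 19826 Q19826 (allL N19826 (tt N21997 (iv F73269)) (tt N16131 (iv D30179)) (tt N19999 (iv F66324)) (tt N20982 (iv F69752)) (tt N21994 (iv F73257)) (tt N19998 F66322) (tt N22009 D32366))
theorem Q19828 : ∀ i, i < 19828 → P i := stepQ 19827 Q19827 (allL N19827 (tt N17136 (iv F65698)) (tt N16132 (iv D30180)) (tt N21910 (iv F72915)) (tt N16590 F65695) (tt N16134 F65696) (tt N20505 (iv F68013)) (tt N17719 F65697))
theorem Q19829 : ∀ i, i < 19829 → P i := stepQ 19828 Q19828 (allL N19828 (tt N20941 (iv F69650)) (tt N16133 (iv D30181)) (tt N19957 (iv F66161)) (tt N16591 F65699) (tt N16135 F65700) (tt N19847 (iv F65772)) (tt N19950 (iv F66137)))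
theorem Q19830 : ∀ i, i < 19830 → P i := stepQ 19829 Q19829 (allL N19829 (tt N16134 (iv D30182)) (tt N17141 F65701) (tt N17650 (iv F65705)) (tt N16136 F65702) (tt N17136 F65703) (tt N20724 (iv F68805)) (tt N17649 F65704))
theorem Q19831 : ∀ i, i < 19831 → P i := stepQ 19830 Q19830 (allL N19830 (tt N17650 F65706) (tt N20807 (iv F69141)) (tt N16134 (iv D30183)) (tt N17652 (iv F65708)) (tt N21910 (iv F72917)) (tt N19738 (iv F65709)) (tt N17648 F65707))
theorem Q19832 : ∀ i, i < 19832 → P i := stepQ 19831 Q19831 (allL N19831 (tt N20724 (iv F68800)) (tt N19474 F65710) (tt N19738 F65711) (tt N16138 F65712) (tt N20505 (iv F68012)) (tt N16134 (iv D30184)) (tt N19737 F65713))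
theorem Q19833 : ∀ i, i < 19833 → P i := stepQ 19832 Q19832 (allL N19832 (tt N20075 (iv F66544)) (tt N18114 F65714) (tt N20012 (iv F66368)) (tt N16140 F65715) (tt N19950 (iv F66136)) (tt N21090 (iv F70082)) (tt N16135 (iv D30185)))
theorem Q19834 : ∀ i, i < 19834 → P i := stepQ 19833 Q19833 (allL N19833 (tt N16137 F65716) (tt N19741 F65717) (tt N16136 (iv D30186)) (tt N22010 D32367) (tt N16592 F65718) (tt N18894 F65719) (tt N17721 F65720))
theorem Q19835 : ∀ i, i < 19835 → P i := stepQ 19834 Q19834 (allL N19834 (tt N22010 (iv F73314)) (tt N18918 F65721) (tt N20690 (iv F68665)) (tt N16137 (iv D30187)) (tt N20414 (iv F67710)) (tt N22011 D32368) (tt N17723 F65722))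
theorem Q19836 : ∀ i, i < 19836 → P i := stepQ 19835 Q19835 (allL N19835 (tt N18894 F65723) (tt N19739 F65724) (tt N16138 F65725) (tt N22011 (iv F73321)) (tt N16593 F65726) (tt N16137 (iv D30188)) (tt N20696 (iv F68693)))
theorem Q19837 : ∀ i, i < 19837 → P i := stepQ 19836 Q19836 (allL N19836 (tt N20379 (iv F67579)) (tt N20336 F67424) (tt N20378 F67578) (tt N18551 F65727) (tt N16142 F65728) (tt N16141 (iv D30189)) (tt N20398 (iv F67652)))
theorem Q19838 : ∀ i, i < 19838 → P i := stepQ 19837 Q19837 (allL N19837 (tt N20511 (iv F68032)) (tt N16839 F65729) (tt N20508 (iv F68022)) (tt N16843 F65730) (tt N16143 F65731) (tt N22012 D32369) (tt N16141 (iv D30190)))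
theorem Q19839 : ∀ i, i < 19839 → P i := stepQ 19838 Q19838 (allL N19838 (tt N17708 F65732) (tt N16142 (iv D30191)) (tt N19751 F65733) (tt N17706 F65734) (tt N20336 (iv F67420)) (tt N16146 F65735) (tt N20396 (iv F67644)))
theorem Q19840 : ∀ i, i < 19840 → P i := stepQ 19839 Q19839 (allL N19839 (tt N19840 (iv F65739)) (tt N20397 (iv F67646)) (tt N17300 F65736) (tt N18441 F65737) (tt N20398 (iv F67651)) (tt N17297 F65738) (tt N16142 (iv D30192)))
theorem Q19841 : ∀ i, i < 19841 → P i := stepQ 19840 Q19840 (allL N19840 (tt N19839 F65739) (tt N21219 (iv F70466)) (tt N17158 F65740) (tt N18442 F65741) (tt N22012 (iv F73326)) (tt N16143 (iv D30193)) (tt N17157 F65742))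
theorem Q19842 : ∀ i, i < 19842 → P i := stepQ 19841 Q19841 (allL N19841 (tt N17133 F65746) (tt N16144 (iv D30194)) (tt N19747 F65743) (tt N17135 F65744) (tt N16146 F65745) (tt N20336 (iv F67421)) (tt N17131 (iv F65747)))
theorem Q19843 : ∀ i, i < 19843 → P i := stepQ 19842 Q19842 (allL N19842 (tt N16146 (iv D30195)) (tt N20272 (iv F67205)) (tt N19750 F65748) (tt N17421 F65749) (tt N17133 F65750) (tt N17708 F65751) (tt N17130 (iv F65752)))
theorem Q19844 : ∀ i, i < 19844 → P i := stepQ 19843 Q19843 (allL N19843 (tt N17130 F65753) (tt N19852 (iv F65788)) (tt N19745 F65754) (tt N17419 F65755) (tt N17131 F65756) (tt N19579 F65757) (tt N16146 (iv D30196)))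
theorem Q19845 : ∀ i, i < 19845 → P i := stepQ 19844 Q19844 (allL N19844 (tt N16837 F65758) (tt N17777 F65759) (tt N16147 (iv D30197)) (tt N17778 (iv F65761)) (tt N16838 F65760) (tt N21877 (iv F72782)) (tt N21798 (iv F72462)))
theorem Q19846 : ∀ i, i < 19846 → P i := stepQ 19845 Q19845 (allL N19845 (tt N16809 F65762) (tt N19850 (iv F65781)) (tt N21877 (iv F72780)) (tt N16863 F65763) (tt N16810 F65764) (tt N16147 (iv D30198)) (tt N18161 F65765))
theorem Q19847 : ∀ i, i < 19847 → P i := stepQ 19846 Q19846 (allL N19846 (tt N20452 (iv F67843)) (tt N16148 (iv D30199)) (tt N22013 D32370) (tt N17948 F65766) (tt N16150 F65767) (tt N20187 (iv F66950)) (tt N18433 F65768))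
theorem Q19848 : ∀ i, i < 19848 → P i := stepQ 19847 Q19847 (allL N19847 (tt N18691 (iv F65773)) (tt N16149 (iv D30200)) (tt N16377 F65769) (tt N17181 F65770) (tt N16151 F65771) (tt N19828 F65772) (tt N20400 (iv F67661)))
theorem Q19849 : ∀ i, i < 19849 → P i := stepQ 19848 Q19848 (allL N19848 (tt N16150 (iv D30201)) (tt N19560 (iv F65777)) (tt N18677 F65776) (tt N17946 F65774) (tt N20452 (iv F67844)) (tt N21175 (iv F70327)) (tt N18435 F65775))
theorem Q19850 : ∀ i, i < 19850 → P i := stepQ 19849 Q19849 (allL N19849 (tt N18677 F65778) (tt N21115 F70156) (tt N16150 (iv D30202)) (tt N18678 F65779) (tt N22013 (iv F73329)) (tt N22014 D32371) (tt N18436 F65780))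
theorem Q19851 : ∀ i, i < 19851 → P i := stepQ 19850 Q19850 (allL N19850 (tt N21175 (iv F70323)) (tt N19845 F65781) (tt N22014 (iv F73334)) (tt N17949 F65782) (tt N20187 (iv F66949)) (tt N16150 (iv D30203)) (tt N20961 (iv F69700)))
theorem Q19852 : ∀ i, i < 19852 → P i := stepQ 19851 Q19851 (allL N19851 (tt N16151 (iv D30204)) (tt N18133 F65783) (tt N16509 F65784) (tt N18134 F65785) (tt N18691 F65786) (tt N18139 F65787) (tt N21090 (iv F70083)))
theorem Q19853 : ∀ i, i < 19853 → P i := stepQ 19852 Q19852 (allL N19852 (tt N21090 (iv F70080)) (tt N19843 F65788) (tt N16513 F65789) (tt N18444 F65790) (tt N20400 (iv F67660)) (tt N20075 (iv F66547)) (tt N16151 (iv D30205)))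
theorem Q19854 : ∀ i, i < 19854 → P i := stepQ 19853 Q19853 (allL N19853 (tt N17177 F65791) (tt N17099 F65792) (tt N16155 F65793) (tt N17100 F65794) (tt N18920 F65795) (tt N16152 (iv D30206)) (tt N17178 F65796))
theorem Q19855 : ∀ i, i < 19855 → P i := stepQ 19854 Q19854 (allL N19854 (tt N17247 F65797) (tt N16154 (iv D30207)) (tt N17287 F65798) (tt N17241 F65799) (tt N18921 F65800) (tt N20787 (iv F69059)) (tt N22015 D32372))
theorem Q19856 : ∀ i, i < 19856 → P i := stepQ 19855 Q19855 (allL N19855 (tt N16155 F65801) (tt N17820 (iv F65806)) (tt N17177 F65802) (tt N19685 F65803) (tt N18922 F65804) (tt N16154 (iv D30208)) (tt N17179 F65805))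
theorem Q19857 : ∀ i, i < 19857 → P i := stepQ 19856 Q19856 (allL N19856 (tt N16156 F65807) (tt N22016 D32373) (tt N18924 F65808) (tt N19686 F65809) (tt N18923 F65810) (tt N19857 (iv F65814)) (tt N16154 (iv D30209)))
theorem Q19858 : ∀ i, i < 19858 → P i := stepQ 19857 Q19857 (allL N19857 (tt N17179 F65811) (tt N22017 D32374) (tt N17178 F65812) (tt N19689 F65813) (tt N20545 (iv F68142)) (tt N19856 F65814) (tt N16155 (iv D30210)))
theorem Q19859 : ∀ i, i < 19859 → P i := stepQ 19858 Q19858 (allL N19858 (tt N20564 (iv F68201)) (tt N22018 D32375) (tt N20564 (iv F68202)) (tt N20559 (iv F68188)) (tt N20547 (iv F68149)) (tt N16157 (iv D30211)) (tt N16172 F65817))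
theorem Q19860 : ∀ i, i < 19860 → P i := stepQ 19859 Q19859 (allL N19859 (tt N19877 (iv F65869)) (tt N22019 D32376) (tt N19877 (iv F65870)) (tt N17388 F65815) (tt N20548 (iv F68152)) (tt N17386 (iv F65816)) (tt N16157 (iv D30212)))
theorem Q19861 : ∀ i, i < 19861 → P i := stepQ 19860 Q19860 (allL N19860 (tt N16163 F65818) (tt N22020 D32377) (tt N18763 F65819) (tt N16159 F65820) (tt N21835 (iv F72615)) (tt N16158 (iv D30213)) (tt N19870 (iv F65844)))
theorem Q19862 : ∀ i, i < 19862 → P i := stepQ 19861 Q19861 (allL N19861 (tt N16164 F65821) (tt N22021 D32378) (tt N18764 F65822) (tt N16160 F65823) (tt N21836 (iv F72619)) (tt N19869 (iv F65840)) (tt N16158 (iv D30214)))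
theorem Q19863 : ∀ i, i < 19863 → P i := stepQ 19862 Q19862 (allL N19862 (tt N21477 (iv F71341)) (tt N16159 (iv D30215)) (tt N21476 (iv F71340)) (tt N22020 (iv F73358)) (tt N20549 (iv F68155)) (tt N22018 (iv F73351)) (tt N21500 (iv F71418)))
theorem Q19864 : ∀ i, i < 19864 → P i := stepQ 19863 Q19863 (allL N19863 (tt N22022 D32379) (tt N16160 (iv D30216)) (tt N22023 D32380) (tt N22021 (iv F73360)) (tt N20550 (iv F68159)) (tt N22024 D32381) (tt N22019 (iv F73357)))
theorem Q19865 : ∀ i, i < 19865 → P i := stepQ 19864 Q19864 (allL N19864 (tt N18762 F65824) (tt N19667 F65825) (tt N16162 F65826) (tt N19952 (iv F66143)) (tt N16161 (iv D30217)) (tt N22025 D32382) (tt N22026 D32383))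
theorem Q19866 : ∀ i, i < 19866 → P i := stepQ 19865 Q19865 (allL N19865 (tt N18763 F65827) (tt N17988 F65828) (tt N16163 F65829) (tt N17991 F65830) (tt N22025 (iv F73378)) (tt N16161 (iv D30218)) (tt N21370 (iv F71006)))
theorem Q19867 : ∀ i, i < 19867 → P i := stepQ 19866 Q19866 (allL N19866 (tt N18764 F65831) (tt N18368 F65832) (tt N16164 F65833) (tt N18761 F65834) (tt N22026 (iv F73384)) (tt N21369 (iv F71001)) (tt N16161 (iv D30219)))
theorem Q19868 : ∀ i, i < 19868 → P i := stepQ 19867 Q19867 (allL N19867 (tt N21835 (iv F72612)) (tt N19687 F65835) (tt N22025 (iv F73376)) (tt N20551 (iv F68163)) (tt N16163 F65836) (tt N16162 (iv D30220)) (tt N22027 D32384))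
theorem Q19869 : ∀ i, i < 19869 → P i := stepQ 19868 Q19868 (allL N19868 (tt N21836 (iv F72616)) (tt N17816 F65837) (tt N22026 (iv F73382)) (tt N20552 (iv F68168)) (tt N16164 F65838) (tt N21921 (iv F72966)) (tt N16162 (iv D30221)))
theorem Q19870 : ∀ i, i < 19870 → P i := stepQ 19869 Q19869 (allL N19869 (tt N19870 (iv F65841)) (tt N22028 D32385) (tt N21370 (iv F71004)) (tt N16165 F65839) (tt N22027 (iv F73389)) (tt N19861 F65840) (tt N16163 (iv D30222)))
theorem Q19871 : ∀ i, i < 19871 → P i := stepQ 19870 Q19870 (allL N19870 (tt N19869 F65841) (tt N18914 F65842) (tt N21369 (iv F70999)) (tt N16166 F65843) (tt N21921 (iv F72965)) (tt N16164 (iv D30223)) (tt N19860 F65844))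
theorem Q19872 : ∀ i, i < 19872 → P i := stepQ 19871 Q19871 (allL N19871 (tt N22029 D32386) (tt N16165 (iv D30224)) (tt N20425 F67749) (tt N22028 (iv F73391)) (tt N20553 (iv F68171)) (tt N21494 (iv F71403)) (tt N22017 (iv F73349)))
theorem Q19873 : ∀ i, i < 19873 → P i := stepQ 19872 Q19872 (allL N19872 (tt N17095 F65845) (tt N17180 F65846) (tt N16171 F65847) (tt N17094 F65848) (tt N18865 F65849) (tt N17097 F65850) (tt N16167 (iv D30225)))
theorem Q19874 : ∀ i, i < 19874 → P i := stepQ 19873 Q19873 (allL N19873 (tt N17323 F65851) (tt N16169 (iv D30226)) (tt N17211 F65852) (tt N17317 F65853) (tt N18866 F65854) (tt N22030 D32387) (tt N20771 (iv F69008)))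
theorem Q19875 : ∀ i, i < 19875 → P i := stepQ 19874 Q19874 (allL N19874 (tt N16170 F65855) (tt N22031 D32388) (tt N18869 F65856) (tt N19779 F65857) (tt N18867 F65858) (tt N16169 (iv D30227)) (tt N19876 (iv F65868)))
theorem Q19876 : ∀ i, i < 19876 → P i := stepQ 19875 Q19875 (allL N19875 (tt N16171 F65859) (tt N17806 (iv F65864)) (tt N17095 F65860) (tt N19780 F65861) (tt N18868 F65862) (tt N17098 F65863) (tt N16169 (iv D30228)))
theorem Q19877 : ∀ i, i < 19877 → P i := stepQ 19876 Q19876 (allL N19876 (tt N17098 F65865) (tt N22032 D32389) (tt N17097 F65866) (tt N19784 F65867) (tt N20571 (iv F68233)) (tt N16171 (iv D30229)) (tt N19874 F65868))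
theorem Q19878 : ∀ i, i < 19878 → P i := stepQ 19877 Q19877 (allL N19877 (tt N19859 F65869) (tt N22033 D32390) (tt N19859 F65870) (tt N17363 F65871) (tt N20573 (iv F68243)) (tt N16172 (iv D30230)) (tt N17360 F65872))
theorem Q19879 : ∀ i, i < 19879 → P i := stepQ 19878 Q19878 (allL N19878 (tt N16178 F65873) (tt N22034 D32391) (tt N18814 F65874) (tt N16174 F65875) (tt N21913 (iv F72935)) (tt N16173 (iv D30231)) (tt N19888 (iv F65899)))
theorem Q19880 : ∀ i, i < 19880 → P i := stepQ 19879 Q19879 (allL N19879 (tt N16179 F65876) (tt N22035 D32392) (tt N18815 F65877) (tt N16175 F65878) (tt N21914 (iv F72939)) (tt N19887 (iv F65896)) (tt N16173 (iv D30232)))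
theorem Q19881 : ∀ i, i < 19881 → P i := stepQ 19880 Q19880 (allL N19880 (tt N22036 D32393) (tt N16174 (iv D30233)) (tt N22037 D32394) (tt N22034 (iv F73415)) (tt N20574 (iv F68246)) (tt N22033 (iv F73413)) (tt N22038 D32395))
theorem Q19882 : ∀ i, i < 19882 → P i := stepQ 19881 Q19881 (allL N19881 (tt N21519 (iv F71477)) (tt N16175 (iv D30234)) (tt N21518 F71476) (tt N22035 (iv F73418)) (tt N20575 (iv F68249)) (tt N21458 (iv F71290)) (tt N22018 (iv F73352)))
theorem Q19883 : ∀ i, i < 19883 → P i := stepQ 19882 Q19882 (allL N19882 (tt N18813 F65879) (tt N19761 F65880) (tt N16177 F65881) (tt N20008 (iv F66357)) (tt N16176 (iv D30235)) (tt N22039 D32396) (tt N22040 D32397))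
theorem Q19884 : ∀ i, i < 19884 → P i := stepQ 19883 Q19883 (allL N19883 (tt N18814 F65882) (tt N18429 F65883) (tt N16178 F65884) (tt N18812 F65885) (tt N22039 (iv F73435)) (tt N16176 (iv D30236)) (tt N21415 (iv F71151)))
theorem Q19885 : ∀ i, i < 19885 → P i := stepQ 19884 Q19884 (allL N19884 (tt N18815 F65886) (tt N17996 F65887) (tt N16179 F65888) (tt N17999 F65889) (tt N22040 (iv F73441)) (tt N21414 (iv F71146)) (tt N16176 (iv D30237)))
theorem Q19886 : ∀ i, i < 19886 → P i := stepQ 19885 Q19885 (allL N19885 (tt N21913 (iv F72931)) (tt N17827 F65890) (tt N22039 (iv F73433)) (tt N20576 (iv F68255)) (tt N16178 F65891) (tt N16177 (iv D30238)) (tt N21845 (iv F72652)))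
theorem Q19887 : ∀ i, i < 19887 → P i := stepQ 19886 Q19886 (allL N19886 (tt N21914 (iv F72936)) (tt N19782 F65892) (tt N22040 (iv F73439)) (tt N20577 (iv F68260)) (tt N16179 F65893) (tt N22041 D32398) (tt N16177 (iv D30239)))
theorem Q19888 : ∀ i, i < 19888 → P i := stepQ 19887 Q19887 (allL N19887 (tt N19888 (iv F65897)) (tt N18859 F65894) (tt N21415 (iv F71149)) (tt N16180 F65895) (tt N21845 (iv F72651)) (tt N19879 F65896) (tt N16178 (iv D30240)))
theorem Q19889 : ∀ i, i < 19889 → P i := stepQ 19888 Q19888 (allL N19888 (tt N19887 F65897) (tt N22042 D32399) (tt N21414 (iv F71144)) (tt N16181 F65898) (tt N22041 (iv F73446)) (tt N16179 (iv D30241)) (tt N19878 F65899))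
theorem Q19890 : ∀ i, i < 19890 → P i := stepQ 19889 Q19889 (allL N19889 (tt N22043 D32400) (tt N16181 (iv D30242)) (tt N20383 F67597) (tt N22042 (iv F73448)) (tt N20578 (iv F68263)) (tt N22032 (iv F73410)) (tt N21452 (iv F71275)))
theorem Q19891 : ∀ i, i < 19891 → P i := stepQ 19890 Q19890 (allL N19890 (tt N16183 F65900) (tt N19891 (iv F65906)) (tt N16195 F65901) (tt N18582 F65902) (tt N16198 F65903) (tt N16182 (iv D30243)) (tt N16183 F65904))
theorem Q19892 : ∀ i, i < 19892 → P i := stepQ 19891 Q19891 (allL N19891 (tt N16185 F65905) (tt N19890 F65906) (tt N16200 F65907) (tt N18593 F65908) (tt N16203 F65909) (tt N16185 F65910) (tt N16184 (iv D30244)))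
theorem Q19893 : ∀ i, i < 19893 → P i := stepQ 19892 Q19892 (allL N19892 (tt N16206 F65911) (tt N19893 (iv F65917)) (tt N16293 F65912) (tt N16198 F65913) (tt N16296 F65914) (tt N16197 (iv D30245)) (tt N16206 F65915))
theorem Q19894 : ∀ i, i < 19894 → P i := stepQ 19893 Q19893 (allL N19893 (tt N16236 F65916) (tt N19892 F65917) (tt N16446 F65918) (tt N16203 F65919) (tt N16449 F65920) (tt N16236 F65921) (tt N16202 (iv D30246)))
theorem Q19895 : ∀ i, i < 19895 → P i := stepQ 19894 Q19894 (allL N19894 (tt N16293 F65922) (tt N16312 F65923) (tt N16206 F65924) (tt N16258 F65925) (tt N16287 F65926) (tt N16205 (iv D30247)) (tt N16293 F65927))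
theorem Q19896 : ∀ i, i < 19896 → P i := stepQ 19895 Q19895 (allL N19895 (tt N17093 (iv F65931)) (tt N16210 (iv D30248)) (tt N17092 F65928) (tt N21448 (iv F71258)) (tt N16211 F65929) (tt N16214 F65930) (tt N16565 (iv F65932)))
theorem Q19897 : ∀ i, i < 19897 → P i := stepQ 19896 Q19896 (allL N19896 (tt N20039 (iv F66444)) (tt N19902 (iv F65953)) (tt N16584 F65933) (tt N21453 (iv F71276)) (tt N16213 F65934) (tt N16212 (iv D30249)) (tt N16214 F65935))
theorem Q19898 : ∀ i, i < 19898 → P i := stepQ 19897 Q19897 (allL N19897 (tt N16214 (iv D30250)) (tt N17075 (iv F65938)) (tt N17073 (iv F65939)) (tt N21459 (iv F71291)) (tt N16215 F65936) (tt N17093 F65937) (tt N20039 (iv F66446)))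
theorem Q19899 : ∀ i, i < 19899 → P i := stepQ 19898 Q19898 (allL N19898 (tt N17073 F65940) (tt N16510 F65941) (tt N16214 (iv D30251)) (tt N22044 D32401) (tt N16216 F65942) (tt N17092 F65943) (tt N16584 F65944))
theorem Q19900 : ∀ i, i < 19900 → P i := stepQ 19899 Q19899 (allL N19899 (tt N19904 (iv F65963)) (tt N16219 (iv D30252)) (tt N17485 F65945) (tt N21464 (iv F71302)) (tt N16220 F65946) (tt N16221 F65947) (tt N19905 (iv F65965)))
theorem Q19901 : ∀ i, i < 19901 → P i := stepQ 19900 Q19900 (allL N19900 (tt N16221 (iv D30253)) (tt N16530 F65948) (tt N21262 (iv F70620)) (tt N21467 (iv F71313)) (tt N16222 F65949) (tt N19904 F65962) (tt N22045 D32402))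
theorem Q19902 : ∀ i, i < 19902 → P i := stepQ 19901 Q19901 (allL N19901 (tt N21262 (iv F70619)) (tt N16766 F65950) (tt N16221 (iv D30254)) (tt N20819 (iv F69206)) (tt N16223 F65951) (tt N17485 F65952) (tt N21240 (iv F70537)))
theorem Q19903 : ∀ i, i < 19903 → P i := stepQ 19902 Q19902 (allL N19902 (tt N22045 (iv F73461)) (tt N19896 F65953) (tt N21240 (iv F70534)) (tt N21469 (iv F71324)) (tt N16224 F65954) (tt N16227 F65955) (tt N16221 (iv D30255)))
theorem Q19904 : ∀ i, i < 19904 → P i := stepQ 19903 Q19903 (allL N19903 (tt N16224 F65956) (tt N17408 F65957) (tt N20085 (iv F66575)) (tt N16225 F65958) (tt N22045 (iv F73463)) (tt N16231 F65959) (tt N16222 (iv D30256)))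
theorem Q19905 : ∀ i, i < 19905 → P i := stepQ 19904 Q19904 (allL N19904 (tt N19899 F65963) (tt N16226 (iv D30257)) (tt N20596 (iv F68329)) (tt N21468 (iv F71318)) (tt N16230 F65960) (tt N19900 (iv F65962)) (tt N16227 F65961))
theorem Q19906 : ∀ i, i < 19906 → P i := stepQ 19905 Q19905 (allL N19905 (tt N16227 (iv D30258)) (tt N20386 (iv F67604)) (tt N20084 (iv F66571)) (tt N21484 (iv F71364)) (tt N16231 F65964) (tt N22045 (iv F73464)) (tt N19899 F65965))
theorem Q19907 : ∀ i, i < 19907 → P i := stepQ 19906 Q19906 (allL N19906 (tt N20084 (iv F66569)) (tt N17614 F65966) (tt N16227 (iv D30259)) (tt N17615 (iv F65968)) (tt N16232 F65967) (tt N21240 (iv F70536)) (tt N20596 (iv F68330)))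
theorem Q19908 : ∀ i, i < 19908 → P i := stepQ 19907 Q19907 (allL N19907 (tt N16446 F65969) (tt N16461 F65970) (tt N16236 F65971) (tt N16229 F65972) (tt N16441 F65973) (tt N16446 F65974) (tt N16228 (iv D30260)))
theorem Q19909 : ∀ i, i < 19909 → P i := stepQ 19908 Q19908 (allL N19908 (tt N17176 F65975) (tt N16240 (iv D30261)) (tt N17175 F65976) (tt N21490 (iv F71386)) (tt N16241 F65977) (tt N16530 F65978) (tt N16244 F65979))
theorem Q19910 : ∀ i, i < 19910 → P i := stepQ 19909 Q19909 (allL N19909 (tt N20019 (iv F66394)) (tt N19915 (iv F66000)) (tt N16549 F65980) (tt N21495 (iv F71404)) (tt N16243 F65981) (tt N16244 F65982) (tt N16242 (iv D30262)))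
theorem Q19911 : ∀ i, i < 19911 → P i := stepQ 19910 Q19910 (allL N19910 (tt N16244 (iv D30263)) (tt N17161 (iv F65985)) (tt N17159 (iv F65986)) (tt N21501 (iv F71420)) (tt N16245 F65983) (tt N20019 (iv F66396)) (tt N17176 F65984))
theorem Q19912 : ∀ i, i < 19912 → P i := stepQ 19911 Q19911 (allL N19911 (tt N17159 F65987) (tt N16395 F65988) (tt N16244 (iv D30264)) (tt N22046 D32403) (tt N16246 F65989) (tt N16549 F65990) (tt N17175 F65991))
theorem Q19913 : ∀ i, i < 19913 → P i := stepQ 19912 Q19912 (allL N19912 (tt N19917 (iv F66007)) (tt N16249 (iv D30265)) (tt N17494 F65992) (tt N21506 (iv F71432)) (tt N16250 F65993) (tt N19918 (iv F66012)) (tt N16251 F65994))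
theorem Q19914 : ∀ i, i < 19914 → P i := stepQ 19913 Q19913 (allL N19913 (tt N16251 (iv D30266)) (tt N16565 F65995) (tt N21264 (iv F70629)) (tt N21509 (iv F71445)) (tt N16252 F65996) (tt N22047 D32404) (tt N19917 (iv F66010)))
theorem Q19915 : ∀ i, i < 19915 → P i := stepQ 19914 Q19914 (allL N19914 (tt N21264 (iv F70628)) (tt N16758 F65997) (tt N16251 (iv D30267)) (tt N20820 (iv F69212)) (tt N16253 F65998) (tt N21251 (iv F70579)) (tt N17494 F65999))
theorem Q19916 : ∀ i, i < 19916 → P i := stepQ 19915 Q19915 (allL N19915 (tt N22047 (iv F73471)) (tt N19909 F66000) (tt N21251 (iv F70577)) (tt N21511 (iv F71456)) (tt N16254 F66001) (tt N16251 (iv D30268)) (tt N16257 (iv F66002)))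
theorem Q19917 : ∀ i, i < 19917 → P i := stepQ 19916 Q19916 (allL N19916 (tt N16254 F66003) (tt N17412 F66004) (tt N20093 (iv F66608)) (tt N16255 F66005) (tt N22047 (iv F73473)) (tt N16252 (iv D30269)) (tt N16260 F66006))
theorem Q19918 : ∀ i, i < 19918 → P i := stepQ 19917 Q19917 (allL N19917 (tt N19912 F66007) (tt N16256 (iv D30270)) (tt N20598 (iv F68338)) (tt N21510 (iv F71450)) (tt N16259 F66008) (tt N16257 F66009) (tt N19913 F66010))
theorem Q19919 : ∀ i, i < 19919 → P i := stepQ 19918 Q19918 (allL N19918 (tt N16257 (iv D30271)) (tt N20370 (iv F67552)) (tt N20092 (iv F66604)) (tt N21525 (iv F71500)) (tt N16260 F66011) (tt N19912 F66012) (tt N22047 (iv F73474)))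
theorem Q19920 : ∀ i, i < 19920 → P i := stepQ 19919 Q19919 (allL N19919 (tt N20092 (iv F66602)) (tt N17586 F66013) (tt N16257 (iv D30272)) (tt N17587 (iv F66015)) (tt N16261 F66014) (tt N20598 (iv F68339)) (tt N21251 (iv F70580)))
theorem Q19921 : ∀ i, i < 19921 → P i := stepQ 19920 Q19920 (allL N19920 (tt N18543 F66016) (tt N16267 (iv D30273)) (tt N20201 (iv F67000)) (tt N20360 (iv F67524)) (tt N16270 F66017) (tt N20201 (iv F67002)) (tt N17890 F66018))
theorem Q19922 : ∀ i, i < 19922 → P i := stepQ 19921 Q19921 (allL N19921 (tt N16269 F66019) (tt N18178 F66022) (tt N20609 (iv F68391)) (tt N20904 (iv F69545)) (tt N16272 F66020) (tt N16267 (iv D30274)) (tt N17192 F66021))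
theorem Q19923 : ∀ i, i < 19923 → P i := stepQ 19922 Q19922 (allL N19922 (tt N20609 (iv F68389)) (tt N22048 D32405) (tt N16269 F66023) (tt N17534 F66024) (tt N16274 F66025) (tt N16268 (iv D30275)) (tt N20088 (iv F66589)))
theorem Q19924 : ∀ i, i < 19924 → P i := stepQ 19923 Q19923 (allL N19923 (tt N17192 F66026) (tt N17079 F66027) (tt N20088 (iv F66586)) (tt N21761 (iv F72299)) (tt N16275 F66028) (tt N17191 F66029) (tt N16269 (iv D30276)))
theorem Q19925 : ∀ i, i < 19925 → P i := stepQ 19924 Q19924 (allL N19924 (tt N16274 F66030) (tt N17480 F66031) (tt N16272 F66032) (tt N16654 F66033) (tt N20609 (iv F68393)) (tt N16271 (iv D30277)) (tt N17395 F66034))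
theorem Q19926 : ∀ i, i < 19926 → P i := stepQ 19925 Q19925 (allL N19925 (tt N17474 F66035) (tt N16274 (iv D30278)) (tt N17473 F66036) (tt N17554 F66037) (tt N22048 (iv F73478)) (tt N19925 F66038) (tt N20022 (iv F66404)))
theorem Q19927 : ∀ i, i < 19927 → P i := stepQ 19926 Q19926 (allL N19926 (tt N17608 F66039) (tt N16282 (iv D30279)) (tt N17611 (iv F66041)) (tt N21771 (iv F72339)) (tt N16283 F66040) (tt N20605 (iv F68374)) (tt N20765 (iv F68982)))
theorem Q19928 : ∀ i, i < 19928 → P i := stepQ 19927 Q19927 (allL N19927 (tt N16315 F66042) (tt N16291 (iv D30280)) (tt N16463 F66043) (tt N16747 F66044) (tt N16292 F66045) (tt N16462 F66046) (tt N16312 F66047))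
theorem Q19929 : ∀ i, i < 19929 → P i := stepQ 19928 Q19928 (allL N19928 (tt N17695 F66048) (tt N20637 (iv F68473)) (tt N21263 (iv F70625)) (tt N21778 (iv F72372)) (tt N16298 (iv D30281)) (tt N17693 F66049) (tt N17695 F66050))
theorem Q19930 : ∀ i, i < 19930 → P i := stepQ 19929 Q19929 (allL N19929 (tt N16305 F66051) (tt N17697 F66052) (tt N20606 (iv F68377)) (tt N18597 F66053) (tt N16304 (iv D30282)) (tt N20643 (iv F68500)) (tt N17583 F66054))
theorem Q19931 : ∀ i, i < 19931 → P i := stepQ 19930 Q19930 (allL N19930 (tt N18597 F66055) (tt N16307 F66056) (tt N17186 (iv F66059)) (tt N16305 (iv D30283)) (tt N17434 F66057) (tt N19307 (iv F66060)) (tt N17584 F66058))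
theorem Q19932 : ∀ i, i < 19932 → P i := stepQ 19931 Q19931 (allL N19931 (tt N20643 (iv F68497)) (tt N18443 F66061) (tt N17778 F66062) (tt N19307 F66063) (tt N16306 F66064) (tt N16305 (iv D30284)) (tt N17945 F66065))
theorem Q19933 : ∀ i, i < 19933 → P i := stepQ 19932 Q19932 (allL N19932 (tt N16463 F66066) (tt N16444 F66067) (tt N16315 F66068) (tt N16750 F66069) (tt N16320 F66070) (tt N16461 F66071) (tt N16313 (iv D30285)))
theorem Q19934 : ∀ i, i < 19934 → P i := stepQ 19933 Q19933 (allL N19933 (tt N16325 F66072) (tt N17879 F66073) (tt N16338 F66074) (tt N18303 F66075) (tt N16324 (iv D30286)) (tt N16350 F66076) (tt N19948 (iv F66130)))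
theorem Q19935 : ∀ i, i < 19935 → P i := stepQ 19934 Q19934 (allL N19934 (tt N16332 F66077) (tt N20535 (iv F68106)) (tt N16331 F66078) (tt N19549 (iv F66080)) (tt N16330 (iv D30287)) (tt N17339 F66079) (tt N20366 (iv F67543)))
theorem Q19936 : ∀ i, i < 19936 → P i := stepQ 19935 Q19935 (allL N19935 (tt N19549 F66081) (tt N20450 (iv F67835)) (tt N19548 F66082) (tt N16332 (iv D30288)) (tt N20451 (iv F67841)) (tt N19978 F66239) (tt N21789 (iv F72419)))
theorem Q19937 : ∀ i, i < 19937 → P i := stepQ 19936 Q19936 (allL N19936 (tt N20366 (iv F67539)) (tt N16582 F66083) (tt N16335 F66084) (tt N21789 (iv F72420)) (tt N16333 F66085) (tt N18703 F66086) (tt N16332 (iv D30289)))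
theorem Q19938 : ∀ i, i < 19938 → P i := stepQ 19937 Q19937 (allL N19937 (tt N16340 F66087) (tt N19692 F66088) (tt N19701 (iv F66090)) (tt N16338 (iv D30290)) (tt N19691 F66089) (tt N20526 (iv F68089)) (tt N22049 D32406))
theorem Q19939 : ∀ i, i < 19939 → P i := stepQ 19938 Q19938 (allL N19938 (tt N16342 F66091) (tt N18580 F66092) (tt N19948 (iv F66128)) (tt N22049 (iv F73483)) (tt N16339 F66093) (tt N16627 F66094) (tt N16338 (iv D30291)))
theorem Q19940 : ∀ i, i < 19940 → P i := stepQ 19939 Q19939 (allL N19939 (tt N19701 F66095) (tt N18225 F66096) (tt N16340 (iv D30292)) (tt N18221 F66098) (tt N19699 F66097) (tt N22050 D32407) (tt N19730 (iv F66099)))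
theorem Q19941 : ∀ i, i < 19941 → P i := stepQ 19940 Q19940 (allL N19940 (tt N20526 F68090) (tt N22051 D32408) (tt N22050 (iv F73488)) (tt N16341 F66100) (tt N20175 (iv F66910)) (tt N16340 (iv D30293)) (tt N20076 (iv F66551)))
theorem Q19942 : ∀ i, i < 19942 → P i := stepQ 19941 Q19941 (allL N19941 (tt N22049 (iv F73480)) (tt N16404 F66101) (tt N19730 F66102) (tt N16342 F66103) (tt N20176 (iv F66914)) (tt N22052 D32409) (tt N16340 (iv D30294)))
theorem Q19943 : ∀ i, i < 19943 → P i := stepQ 19942 Q19942 (allL N19942 (tt N19942 F66104) (tt N16341 (iv D30295)) (tt N16348 F66105) (tt N22051 (iv F73493)) (tt N16343 F66106) (tt N16348 F66107) (tt N20074 (iv F66543)))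
theorem Q19944 : ∀ i, i < 19944 → P i := stepQ 19943 Q19943 (allL N19943 (tt N16627 F66108) (tt N17316 F66111) (tt N19947 (iv F66123)) (tt N22052 (iv F73498)) (tt N16344 F66109) (tt N16342 (iv D30296)) (tt N17322 F66110))
theorem Q19945 : ∀ i, i < 19945 → P i := stepQ 19944 Q19944 (allL N19944 (tt N19630 F66112) (tt N19944 F66113) (tt N16347 F66114) (tt N21683 (iv F72021)) (tt N20003 (iv F66338)) (tt N16346 (iv D30297)) (tt N19627 F66115))
theorem Q19946 : ∀ i, i < 19946 → P i := stepQ 19945 Q19945 (allL N19945 (tt N19945 F66118) (tt N16347 (iv D30298)) (tt N19945 F66116) (tt N16348 F66117) (tt N20004 (iv F66342)) (tt N22051 (iv F73494)) (tt N22053 D32410))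
theorem Q19947 : ∀ i, i < 19947 → P i := stepQ 19946 Q19946 (allL N19946 (tt N19946 F66119) (tt N16822 F66120) (tt N20074 (iv F66540)) (tt N22053 (iv F73504)) (tt N16349 F66121) (tt N20074 (iv F66542)) (tt N16348 (iv D30299)))
theorem Q19948 : ∀ i, i < 19948 → P i := stepQ 19947 Q19947 (allL N19947 (tt N16351 F66122) (tt N19963 (iv F66186)) (tt N19943 F66123) (tt N21820 (iv F72551)) (tt N16352 F66124) (tt N17933 F66125) (tt N16350 (iv D30300)))
theorem Q19949 : ∀ i, i < 19949 → P i := stepQ 19948 Q19948 (allL N19948 (tt N17933 F66126) (tt N16668 F66127) (tt N19938 F66128) (tt N21063 (iv F69995)) (tt N16353 F66129) (tt N16351 (iv D30301)) (tt N19933 F66130))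
theorem Q19950 : ∀ i, i < 19950 → P i := stepQ 19949 Q19949 (allL N19949 (tt N16365 F66131) (tt N20006 (iv F66348)) (tt N16374 F66132) (tt N22054 D32411) (tt N16364 (iv D30302)) (tt N17134 F66133) (tt N18530 F66134))
theorem Q19951 : ∀ i, i < 19951 → P i := stepQ 19950 Q19950 (allL N19950 (tt N22054 (iv F73505)) (tt N16367 F66135) (tt N22055 D32412) (tt N16365 (iv D30303)) (tt N19832 F66136) (tt N21315 (iv F70795)) (tt N19828 F66137))
theorem Q19952 : ∀ i, i < 19952 → P i := stepQ 19951 Q19951 (allL N19951 (tt N17134 F66138) (tt N17154 F66139) (tt N16378 F66140) (tt N21315 (iv F70793)) (tt N16366 F66141) (tt N16365 (iv D30304)) (tt N18705 F66142))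
theorem Q19953 : ∀ i, i < 19953 → P i := stepQ 19952 Q19952 (allL N19952 (tt N20486 (iv F67942)) (tt N21306 (iv F70758)) (tt N16367 (iv D30305)) (tt N19864 F66143) (tt N20875 (iv F69427)) (tt N20913 F69580) (tt N22004 (iv F73296)))
theorem Q19954 : ∀ i, i < 19954 → P i := stepQ 19953 Q19953 (allL N19953 (tt N17315 F66144) (tt N16374 F66145) (tt N17239 F66146) (tt N18694 F66148) (tt N16373 (iv D30306)) (tt N17182 F66147) (tt N19977 (iv F66237)))
theorem Q19955 : ∀ i, i < 19955 → P i := stepQ 19954 Q19954 (allL N19954 (tt N16377 F66149) (tt N18694 F66150) (tt N18691 (iv F66152)) (tt N16374 (iv D30307)) (tt N16509 F66151) (tt N22056 D32413) (tt N22057 D32414))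
theorem Q19956 : ∀ i, i < 19956 → P i := stepQ 19955 Q19955 (allL N19955 (tt N16378 F66153) (tt N16589 F66154) (tt N17134 F66155) (tt N22056 (iv F73517)) (tt N16375 F66156) (tt N16374 (iv D30308)) (tt N19960 (iv F66174)))
theorem Q19957 : ∀ i, i < 19957 → P i := stepQ 19956 Q19956 (allL N19956 (tt N16379 F66157) (tt N16394 (iv F66160)) (tt N18530 F66158) (tt N22057 (iv F73522)) (tt N16376 F66159) (tt N19959 (iv F66169)) (tt N16374 (iv D30309)))
theorem Q19958 : ∀ i, i < 19958 → P i := stepQ 19957 Q19957 (allL N19957 (tt N22056 (iv F73514)) (tt N20192 (iv F66965)) (tt N19828 F66161) (tt N16378 F66162) (tt N16512 F66163) (tt N16377 (iv D30310)) (tt N22055 (iv F73512)))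
theorem Q19959 : ∀ i, i < 19959 → P i := stepQ 19958 Q19958 (allL N19958 (tt N22057 (iv F73519)) (tt N20359 (iv F67517)) (tt N20400 (iv F67658)) (tt N16379 F66164) (tt N16513 F66165) (tt N22058 D32415) (tt N16377 (iv D30311)))
theorem Q19960 : ∀ i, i < 19960 → P i := stepQ 19959 Q19959 (allL N19959 (tt N19960 (iv F66170)) (tt N18706 F66166) (tt N18705 F66167) (tt N22055 (iv F73513)) (tt N16380 F66168) (tt N19956 F66169) (tt N16378 (iv D30312)))
theorem Q19961 : ∀ i, i < 19961 → P i := stepQ 19960 Q19960 (allL N19960 (tt N19959 F66170) (tt N17171 F66171) (tt N17181 F66172) (tt N22058 (iv F73528)) (tt N16381 F66173) (tt N16379 (iv D30313)) (tt N19955 F66174))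
theorem Q19962 : ∀ i, i < 19962 → P i := stepQ 19961 Q19961 (allL N19961 (tt N17240 F66175) (tt N16390 F66176) (tt N17316 F66177) (tt N18683 F66179) (tt N16385 (iv D30314)) (tt N20014 (iv F66376)) (tt N17102 F66178))
theorem Q19963 : ∀ i, i < 19963 → P i := stepQ 19962 Q19962 (allL N19962 (tt N19503 F66180) (tt N16393 F66181) (tt N18681 F66184) (tt N16386 (iv D30315)) (tt N18683 F66182) (tt N21328 (iv F70847)) (tt N19501 F66183))
theorem Q19964 : ∀ i, i < 19964 → P i := stepQ 19963 Q19963 (allL N19963 (tt N16396 F66185) (tt N19947 F66186) (tt N16390 F66187) (tt N22059 D32416) (tt N16389 (iv D30316)) (tt N18528 F66188) (tt N17044 F66189))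
theorem Q19965 : ∀ i, i < 19965 → P i := stepQ 19964 Q19964 (allL N19964 (tt N16398 F66190) (tt N18683 F66191) (tt N18680 (iv F66193)) (tt N16390 (iv D30317)) (tt N16393 F66192) (tt N22060 D32417) (tt N22061 D32418))
theorem Q19966 : ∀ i, i < 19966 → P i := stepQ 19965 Q19965 (allL N19965 (tt N16399 F66194) (tt N16511 (iv F66197)) (tt N18528 F66195) (tt N22060 (iv F73539)) (tt N16391 F66196) (tt N16390 (iv D30318)) (tt N19974 (iv F66228)))
theorem Q19967 : ∀ i, i < 19967 → P i := stepQ 19966 Q19966 (allL N19966 (tt N16400 F66198) (tt N16554 F66199) (tt N17044 F66200) (tt N22061 (iv F73544)) (tt N16392 F66201) (tt N19973 (iv F66223)) (tt N16390 (iv D30319)))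
theorem Q19968 : ∀ i, i < 19968 → P i := stepQ 19967 Q19967 (allL N19967 (tt N16403 F66202) (tt N22057 (iv F73520)) (tt N21055 F69971) (tt N16394 F66203) (tt N22060 (iv F73540)) (tt N16393 (iv D30320)) (tt N19976 (iv F66234)))
theorem Q19969 : ∀ i, i < 19969 → P i := stepQ 19968 Q19968 (allL N19968 (tt N16404 F66204) (tt N22046 (iv F73466)) (tt N18086 F66205) (tt N16395 F66206) (tt N22061 (iv F73545)) (tt N19975 (iv F66230)) (tt N16393 (iv D30321)))
theorem Q19970 : ∀ i, i < 19970 → P i := stepQ 19969 Q19969 (allL N19969 (tt N22059 (iv F73531)) (tt N16501 F66207) (tt N22062 D32419) (tt N16396 (iv D30322)) (tt N19735 F66208) (tt N19733 F66209) (tt N21304 (iv F70754)))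
theorem Q19971 : ∀ i, i < 19971 → P i := stepQ 19970 Q19970 (allL N19970 (tt N17044 F66210) (tt N17067 F66211) (tt N16400 F66212) (tt N21304 (iv F70752)) (tt N16397 F66213) (tt N18698 F66214) (tt N16396 (iv D30323)))
theorem Q19972 : ∀ i, i < 19972 → P i := stepQ 19971 Q19971 (allL N19971 (tt N22060 (iv F73536)) (tt N20378 (iv F67574)) (tt N20335 F67418) (tt N16399 F66215) (tt N16403 F66216) (tt N16398 (iv D30324)) (tt N22063 D32420))
theorem Q19973 : ∀ i, i < 19973 → P i := stepQ 19972 Q19972 (allL N19972 (tt N22061 (iv F73541)) (tt N20176 (iv F66912)) (tt N19733 F66217) (tt N16400 F66218) (tt N16404 F66219) (tt N22062 (iv F73548)) (tt N16398 (iv D30325)))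
theorem Q19974 : ∀ i, i < 19974 → P i := stepQ 19973 Q19973 (allL N19973 (tt N19974 (iv F66224)) (tt N17087 F66220) (tt N17101 F66221) (tt N22063 (iv F73554)) (tt N16401 F66222) (tt N19966 F66223) (tt N16399 (iv D30326)))
theorem Q19975 : ∀ i, i < 19975 → P i := stepQ 19974 Q19974 (allL N19974 (tt N19973 F66224) (tt N18699 F66225) (tt N18698 F66226) (tt N22062 (iv F73550)) (tt N16402 F66227) (tt N16400 (iv D30327)) (tt N19965 F66228))
theorem Q19976 : ∀ i, i < 19976 → P i := stepQ 19975 Q19975 (allL N19975 (tt N19976 (iv F66231)) (tt N21255 (iv F70590)) (tt N20058 (iv F66494)) (tt N16405 F66229) (tt N22063 (iv F73555)) (tt N19968 F66230) (tt N16403 (iv D30328)))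
theorem Q19977 : ∀ i, i < 19977 → P i := stepQ 19976 Q19976 (allL N19976 (tt N19975 F66231) (tt N21319 F70808) (tt N19735 F66232) (tt N16406 F66233) (tt N22062 (iv F73547)) (tt N16404 (iv D30329)) (tt N19967 F66234))
theorem Q19978 : ∀ i, i < 19978 → P i := stepQ 19977 Q19977 (allL N19977 (tt N20277 (iv F67220)) (tt N16406 (iv D30330)) (tt N20014 (iv F66374)) (tt N21319 (iv F70806)) (tt N16407 F66235) (tt N17316 F66236) (tt N19953 F66237))
theorem Q19979 : ∀ i, i < 19979 → P i := stepQ 19978 Q19978 (allL N19978 (tt N20544 (iv F68135)) (tt N16411 (iv D30331)) (tt N20747 (iv F68906)) (tt N16412 F66238) (tt N20015 (iv F66379)) (tt N19935 (iv F66239)) (tt N20509 (iv F68028)))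
theorem Q19980 : ∀ i, i < 19980 → P i := stepQ 19979 Q19979 (allL N19979 (tt N16414 F66240) (tt N17037 F66241) (tt N16413 (iv D30332)) (tt N21860 (iv F72706)) (tt N16415 F66242) (tt N16413 (iv F66244)) (tt N17026 F66243))
theorem Q19981 : ∀ i, i < 19981 → P i := stepQ 19980 Q19980 (allL N19980 (tt N17496 F66245) (tt N17851 F66246) (tt N18548 F66247) (tt N16420 F66248) (tt N17497 F66249) (tt N18548 F66250) (tt N16419 (iv D30333)))
theorem Q19982 : ∀ i, i < 19982 → P i := stepQ 19981 Q19981 (allL N19981 (tt N18551 F66251) (tt N16422 (iv D30334)) (tt N20205 (iv F67017)) (tt N20379 F67583) (tt N16425 F66252) (tt N17912 F66253) (tt N20205 (iv F67019)))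
theorem Q19983 : ∀ i, i < 19983 → P i := stepQ 19982 Q19982 (allL N19982 (tt N16424 F66254) (tt N18126 (iv F66257)) (tt N20612 (iv F68404)) (tt N20880 (iv F69447)) (tt N16427 F66255) (tt N17268 F66256) (tt N16422 (iv D30335)))
theorem Q19984 : ∀ i, i < 19984 → P i := stepQ 19983 Q19983 (allL N19983 (tt N20612 (iv F68402)) (tt N22064 D32421) (tt N16424 F66258) (tt N17538 F66259) (tt N16429 F66260) (tt N20096 (iv F66622)) (tt N16423 (iv D30336)))
theorem Q19985 : ∀ i, i < 19985 → P i := stepQ 19984 Q19984 (allL N19984 (tt N17268 F66261) (tt N17165 F66262) (tt N20096 (iv F66619)) (tt N21865 (iv F72727)) (tt N16430 F66263) (tt N16424 (iv D30337)) (tt N17267 F66264))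
theorem Q19986 : ∀ i, i < 19986 → P i := stepQ 19985 Q19985 (allL N19985 (tt N16429 F66265) (tt N17489 F66266) (tt N16427 F66267) (tt N16672 F66268) (tt N20612 (iv F68406)) (tt N17391 F66269) (tt N16426 (iv D30338)))
theorem Q19987 : ∀ i, i < 19987 → P i := stepQ 19986 Q19986 (allL N19986 (tt N17449 F66270) (tt N16429 (iv D30339)) (tt N17448 F66271) (tt N17555 F66272) (tt N22064 (iv F73560)) (tt N20042 (iv F66454)) (tt N19986 F66273))
theorem Q19988 : ∀ i, i < 19988 → P i := stepQ 19987 Q19987 (allL N19987 (tt N17580 F66274) (tt N16437 (iv D30340)) (tt N17583 (iv F66276)) (tt N21775 (iv F72357)) (tt N16438 F66275) (tt N20754 (iv F68934)) (tt N20606 (iv F68381)))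
theorem Q19989 : ∀ i, i < 19989 → P i := stepQ 19988 Q19988 (allL N19988 (tt N17763 F66277) (tt N20663 (iv F68560)) (tt N21261 (iv F70616)) (tt N21876 (iv F72775)) (tt N16451 (iv D30341)) (tt N17763 F66278) (tt N17761 F66279))
theorem Q19990 : ∀ i, i < 19990 → P i := stepQ 19989 Q19989 (allL N19989 (tt N16454 F66280) (tt N17765 F66281) (tt N20605 (iv F68371)) (tt N18588 F66282) (tt N16453 (iv D30342)) (tt N17611 F66283) (tt N20668 (iv F68583)))
theorem Q19991 : ∀ i, i < 19991 → P i := stepQ 19990 Q19990 (allL N19990 (tt N18588 F66284) (tt N16456 F66285) (tt N17262 (iv F66288)) (tt N16454 (iv D30343)) (tt N17457 F66286) (tt N17612 F66287) (tt N19534 (iv F66289)))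
theorem Q19992 : ∀ i, i < 19992 → P i := stepQ 19991 Q19991 (allL N19991 (tt N20668 (iv F68580)) (tt N18381 F66290) (tt N17794 F66291) (tt N19534 F66292) (tt N16455 F66293) (tt N17935 F66294) (tt N16454 (iv D30344)))
theorem Q19993 : ∀ i, i < 19993 → P i := stepQ 19992 Q19992 (allL N19992 (tt N16469 F66295) (tt N17903 F66296) (tt N16479 F66297) (tt N18244 F66298) (tt N16468 (iv D30345)) (tt N20007 (iv F66356)) (tt N16490 F66299))
theorem Q19994 : ∀ i, i < 19994 → P i := stepQ 19993 Q19993 (allL N19993 (tt N16474 F66300) (tt N20477 (iv F67918)) (tt N16473 F66301) (tt N19323 (iv F66303)) (tt N16472 (iv D30346)) (tt N20416 (iv F67721)) (tt N17367 F66302))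
theorem Q19995 : ∀ i, i < 19995 → P i := stepQ 19994 Q19994 (allL N19994 (tt N19323 F66304) (tt N20508 (iv F68021)) (tt N19322 F66305) (tt N16474 (iv D30347)) (tt N20509 (iv F68027)) (tt N21765 (iv F72310)) (tt N20015 F66380))
theorem Q19996 : ∀ i, i < 19996 → P i := stepQ 19995 Q19995 (allL N19995 (tt N20416 (iv F67718)) (tt N16547 F66306) (tt N16476 F66307) (tt N21765 (iv F72312)) (tt N16475 F66308) (tt N16474 (iv D30348)) (tt N18710 F66309))
theorem Q19997 : ∀ i, i < 19997 → P i := stepQ 19996 Q19996 (allL N19996 (tt N16481 F66310) (tt N19786 F66311) (tt N19795 (iv F66313)) (tt N16479 (iv D30349)) (tt N19785 F66312) (tt N22065 D32422) (tt N20467 (iv F67900)))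
theorem Q19998 : ∀ i, i < 19998 → P i := stepQ 19997 Q19997 (allL N19997 (tt N16482 F66314) (tt N18567 F66315) (tt N20007 (iv F66354)) (tt N22065 (iv F73565)) (tt N16480 F66316) (tt N16479 (iv D30350)) (tt N16604 F66317))
theorem Q19999 : ∀ i, i < 19999 → P i := stepQ 19998 Q19998 (allL N19998 (tt N19795 F66318) (tt N18200 F66319) (tt N16481 (iv D30351)) (tt N18196 F66321) (tt N19793 F66320) (tt N19826 (iv F66322)) (tt N22066 D32423))
theorem Q20000 : ∀ i, i < 20000 → P i := stepQ 19999 Q19999 (allL N19999 (tt N22065 (iv F73562)) (tt N16512 F66323) (tt N19826 F66324) (tt N16482 F66325) (tt N20192 (iv F66967)) (tt N16481 (iv D30352)) (tt N22067 D32424))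
theorem Q20001 : ∀ i, i < 20001 → P i := stepQ 20000 Q20000 (allL N20000 (tt N20467 F67901) (tt N22068 D32425) (tt N22066 (iv F73570)) (tt N16483 F66326) (tt N20193 (iv F66970)) (tt N20059 (iv F66499)) (tt N16481 (iv D30353)))
theorem Q20002 : ∀ i, i < 20002 → P i := stepQ 20001 Q20001 (allL N20001 (tt N16604 F66327) (tt N17239 (iv F66330)) (tt N20006 (iv F66349)) (tt N22067 (iv F73576)) (tt N16484 F66328) (tt N17245 F66329) (tt N16482 (iv D30354)))
theorem Q20003 : ∀ i, i < 20003 → P i := stepQ 20002 Q20002 (allL N20002 (tt N20002 F66331) (tt N16483 (iv D30355)) (tt N16488 F66332) (tt N22068 (iv F73581)) (tt N16485 F66333) (tt N20063 (iv F66511)) (tt N16488 F66334))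
theorem Q20004 : ∀ i, i < 20004 → P i := stepQ 20003 Q20003 (allL N20003 (tt N19429 F66335) (tt N20003 F66336) (tt N16487 F66337) (tt N21557 (iv F71621)) (tt N19944 F66338) (tt N19426 F66339) (tt N16486 (iv D30356)))
theorem Q20005 : ∀ i, i < 20005 → P i := stepQ 20004 Q20004 (allL N20004 (tt N20004 F66343) (tt N16487 (iv D30357)) (tt N20004 F66340) (tt N16488 F66341) (tt N19945 F66342) (tt N22069 D32426) (tt N22068 (iv F73583)))
theorem Q20006 : ∀ i, i < 20006 → P i := stepQ 20005 Q20005 (allL N20005 (tt N20005 F66344) (tt N16795 F66345) (tt N20063 (iv F66509)) (tt N22069 (iv F73587)) (tt N16489 F66346) (tt N16488 (iv D30358)) (tt N20063 (iv F66512)))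
theorem Q20007 : ∀ i, i < 20007 → P i := stepQ 20006 Q20006 (allL N20006 (tt N16491 F66347) (tt N19949 F66348) (tt N20001 F66349) (tt N21905 (iv F72896)) (tt N16492 F66350) (tt N16490 (iv D30359)) (tt N17943 F66351))
theorem Q20008 : ∀ i, i < 20008 → P i := stepQ 20007 Q20007 (allL N20007 (tt N17943 F66352) (tt N16650 F66353) (tt N19997 F66354) (tt N21024 (iv F69872)) (tt N16493 F66355) (tt N19992 F66356) (tt N16491 (iv D30360)))
theorem Q20009 : ∀ i, i < 20009 → P i := stepQ 20008 Q20008 (allL N20008 (tt N20428 (iv F67759)) (tt N21317 (iv F70799)) (tt N16501 (iv D30361)) (tt N19882 F66357) (tt N20899 (iv F69525)) (tt N21966 (iv F73149)) (tt N20942 F69658))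
theorem Q20010 : ∀ i, i < 20010 → P i := stepQ 20009 Q20009 (allL N20009 (tt N19270 F66358) (tt N16509 F66359) (tt N18692 F66362) (tt N16506 (iv D30362)) (tt N18694 F66360) (tt N19268 F66361) (tt N21323 (iv F70823)))
theorem Q20011 : ∀ i, i < 20011 → P i := stepQ 20010 Q20010 (allL N20010 (tt N16512 F66363) (tt N22044 (iv F73456)) (tt N18139 F66364) (tt N16510 F66365) (tt N22056 (iv F73518)) (tt N16509 (iv D30363)) (tt N20013 (iv F66373)))
theorem Q20012 : ∀ i, i < 20012 → P i := stepQ 20011 Q20011 (allL N20011 (tt N16513 F66366) (tt N22060 (iv F73537)) (tt N21090 F70084) (tt N16511 F66367) (tt N22057 (iv F73523)) (tt N20012 (iv F66370)) (tt N16509 (iv D30364)))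
theorem Q20013 : ∀ i, i < 20013 → P i := stepQ 20012 Q20012 (allL N20012 (tt N20013 (iv F66371)) (tt N21308 F70767) (tt N19832 F66368) (tt N16514 F66369) (tt N22055 (iv F73511)) (tt N20011 F66370) (tt N16512 (iv D30365)))
theorem Q20014 : ∀ i, i < 20014 → P i := stepQ 20013 Q20013 (allL N20013 (tt N20012 F66371) (tt N21244 (iv F70547)) (tt N20075 (iv F66546)) (tt N16515 F66372) (tt N22058 (iv F73529)) (tt N16513 (iv D30366)) (tt N20010 F66373))
theorem Q20015 : ∀ i, i < 20015 → P i := stepQ 20014 Q20014 (allL N20014 (tt N20266 (iv F67184)) (tt N16514 (iv D30367)) (tt N19977 F66374) (tt N21308 (iv F70765)) (tt N16516 F66375) (tt N19961 F66376) (tt N17239 F66377))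
theorem Q20016 : ∀ i, i < 20016 → P i := stepQ 20015 Q20015 (allL N20015 (tt N20570 (iv F68225)) (tt N16518 (iv D30368)) (tt N20759 (iv F68956)) (tt N16519 F66378) (tt N19978 F66379) (tt N20451 (iv F67842)) (tt N19994 (iv F66380)))
theorem Q20017 : ∀ i, i < 20017 → P i := stepQ 20016 Q20016 (allL N20016 (tt N16521 F66381) (tt N17126 F66382) (tt N16520 (iv D30369)) (tt N21934 (iv F73022)) (tt N16522 F66383) (tt N17117 F66384) (tt N16520 (iv F66385)))
theorem Q20018 : ∀ i, i < 20018 → P i := stepQ 20017 Q20017 (allL N20017 (tt N17487 F66386) (tt N17853 F66387) (tt N18555 F66388) (tt N16527 F66389) (tt N17488 F66390) (tt N16526 (iv D30370)) (tt N18555 F66391))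
theorem Q20019 : ∀ i, i < 20019 → P i := stepQ 20018 Q20018 (allL N20018 (tt N18907 F66392) (tt N21467 (iv F71312)) (tt N22031 (iv F73401)) (tt N16530 (iv D30371)) (tt N16532 F66393) (tt N21490 (iv F71388)) (tt N22070 D32427))
theorem Q20020 : ∀ i, i < 20020 → P i := stepQ 20019 Q20019 (allL N20019 (tt N19909 F66394) (tt N17078 (iv F66397)) (tt N20026 (iv F66414)) (tt N22070 (iv F73590)) (tt N16531 F66395) (tt N19910 F66396) (tt N16530 (iv D30372)))
theorem Q20021 : ∀ i, i < 20021 → P i := stepQ 20020 Q20020 (allL N20020 (tt N18906 F66398) (tt N18867 F66399) (tt N16532 (iv D30373)) (tt N21185 (iv F70360)) (tt N22031 (iv F73403)) (tt N21491 (iv F71392)) (tt N21523 (iv F71496)))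
theorem Q20022 : ∀ i, i < 20022 → P i := stepQ 20021 Q20021 (allL N20021 (tt N18909 F66400) (tt N20688 (iv F68657)) (tt N21523 (iv F71494)) (tt N16533 F66401) (tt N22070 (iv F73591)) (tt N18918 F66402) (tt N16532 (iv D30374)))
theorem Q20023 : ∀ i, i < 20023 → P i := stepQ 20022 Q20022 (allL N20022 (tt N20592 (iv F68310)) (tt N18606 F66403) (tt N16541 (iv D30375)) (tt N18602 F66405) (tt N22071 D32428) (tt N20592 (iv F68314)) (tt N19925 F66404))
theorem Q20024 : ∀ i, i < 20024 → P i := stepQ 20023 Q20023 (allL N20023 (tt N20537 (iv F68114)) (tt N16544 F66406) (tt N22071 (iv F73595)) (tt N22072 D32429) (tt N16541 (iv D30376)) (tt N20537 (iv F68117)) (tt N20535 F68109))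
theorem Q20025 : ∀ i, i < 20025 → P i := stepQ 20024 Q20024 (allL N20024 (tt N18899 F66407) (tt N16546 F66408) (tt N21377 (iv F71027)) (tt N16542 (iv D30377)) (tt N22072 (iv F73600)) (tt N18899 F66409) (tt N18711 F66410))
theorem Q20026 : ∀ i, i < 20026 → P i := stepQ 20025 Q20025 (allL N20025 (tt N16548 F66411) (tt N22072 (iv F73599)) (tt N22073 D32430) (tt N16544 (iv D30378)) (tt N16546 F66412) (tt N20388 (iv F67616)) (tt N22074 D32431))
theorem Q20027 : ∀ i, i < 20027 → P i := stepQ 20026 Q20026 (allL N20026 (tt N16549 F66413) (tt N20366 (iv F67540)) (tt N20019 F66414) (tt N22074 (iv F73609)) (tt N16545 F66415) (tt N17159 F66416) (tt N16544 (iv D30379)))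
theorem Q20028 : ∀ i, i < 20028 → P i := stepQ 20027 Q20027 (allL N20027 (tt N16551 F66417) (tt N21343 (iv F70907)) (tt N16546 (iv D30380)) (tt N18722 F66419) (tt N22073 (iv F73605)) (tt N18721 F66418) (tt N21772 (iv F72345)))
theorem Q20029 : ∀ i, i < 20029 → P i := stepQ 20028 Q20028 (allL N20028 (tt N16552 F66420) (tt N21765 (iv F72313)) (tt N21772 (iv F72342)) (tt N16547 F66421) (tt N22074 (iv F73610)) (tt N17106 F66422) (tt N16546 (iv D30381)))
theorem Q20030 : ∀ i, i < 20030 → P i := stepQ 20029 Q20029 (allL N20029 (tt N22073 (iv F73604)) (tt N22075 D32432) (tt N16548 (iv D30382)) (tt N22076 D32433) (tt N16551 F66423) (tt N20389 (iv F67618)) (tt N22077 D32434))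
theorem Q20031 : ∀ i, i < 20031 → P i := stepQ 20030 Q20030 (allL N20030 (tt N22074 (iv F73607)) (tt N22078 D32435) (tt N22077 (iv F73614)) (tt N16549 F66424) (tt N16552 F66425) (tt N22046 (iv F73468)) (tt N16548 (iv D30383)))
theorem Q20032 : ∀ i, i < 20032 → P i := stepQ 20031 Q20031 (allL N20031 (tt N18574 F66428) (tt N16549 (iv D30384)) (tt N18573 (iv F66429)) (tt N22078 (iv F73618)) (tt N16550 F66426) (tt N18577 F66427) (tt N20067 (iv F66526)))
theorem Q20033 : ∀ i, i < 20033 → P i := stepQ 20032 Q20032 (allL N20032 (tt N20625 F73054) (tt N16551 (iv D30385)) (tt N20068 (iv F66527)) (tt N22079 D32436) (tt N22075 (iv F73612)) (tt N22080 D32437) (tt N20628 (iv F73055)))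
theorem Q20034 : ∀ i, i < 20034 → P i := stepQ 20033 Q20033 (allL N20033 (tt N18722 F66430) (tt N22079 (iv F73622)) (tt N19707 F66431) (tt N16551 (iv D30386)) (tt N21395 (iv F71086)) (tt N18720 F66432) (tt N21341 (iv F70904)))
theorem Q20035 : ∀ i, i < 20035 → P i := stepQ 20034 Q20034 (allL N20034 (tt N21772 F72346) (tt N22081 D32438) (tt N16552 F66433) (tt N21341 (iv F70903)) (tt N22077 (iv F73615)) (tt N21340 (iv F70901)) (tt N16551 (iv D30387)))
theorem Q20036 : ∀ i, i < 20036 → P i := stepQ 20035 Q20035 (allL N20035 (tt N20276 (iv F67219)) (tt N16552 (iv D30388)) (tt N22082 D32439) (tt N16553 F66434) (tt N22078 (iv F73619)) (tt N20376 (iv F67567)) (tt N20071 (iv F66531)))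
theorem Q20037 : ∀ i, i < 20037 → P i := stepQ 20036 Q20036 (allL N20036 (tt N17106 F66435) (tt N22061 (iv F73542)) (tt N21340 (iv F70898)) (tt N16554 F66436) (tt N22046 (iv F73467)) (tt N16552 (iv D30389)) (tt N17103 F66437))
theorem Q20038 : ∀ i, i < 20038 → P i := stepQ 20037 Q20037 (allL N20037 (tt N20037 F66438) (tt N16561 (iv D30390)) (tt N20161 (iv F66865)) (tt N18183 F66439) (tt N18592 F66440) (tt N20161 (iv F66868)) (tt N18182 F66441))
theorem Q20039 : ∀ i, i < 20039 → P i := stepQ 20038 Q20038 (allL N20038 (tt N18852 F66442) (tt N21509 (iv F71444)) (tt N22016 (iv F73342)) (tt N16565 (iv D30391)) (tt N16567 F66443) (tt N22083 D32440) (tt N21448 F71262))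
theorem Q20040 : ∀ i, i < 20040 → P i := stepQ 20039 Q20039 (allL N20039 (tt N19896 F66444) (tt N17164 (iv F66447)) (tt N20046 (iv F66464)) (tt N22083 (iv F73632)) (tt N16566 F66445) (tt N16565 (iv D30392)) (tt N19897 F66446))
theorem Q20041 : ∀ i, i < 20041 → P i := stepQ 20040 Q20040 (allL N20040 (tt N18851 F66448) (tt N18923 F66449) (tt N16567 (iv D30393)) (tt N21132 (iv F70200)) (tt N22016 (iv F73344)) (tt N21482 (iv F71359)) (tt N21449 (iv F71265)))
theorem Q20042 : ∀ i, i < 20042 → P i := stepQ 20041 Q20041 (allL N20041 (tt N18853 F66450) (tt N20725 (iv F68807)) (tt N21482 (iv F71358)) (tt N16568 F66451) (tt N22083 (iv F73633)) (tt N16567 (iv D30394)) (tt N18863 F66452))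
theorem Q20043 : ∀ i, i < 20043 → P i := stepQ 20042 Q20042 (allL N20042 (tt N20588 (iv F68298)) (tt N18610 F66453) (tt N16576 (iv D30395)) (tt N18608 F66455) (tt N22084 D32441) (tt N19986 F66454) (tt N20588 (iv F68302)))
theorem Q20044 : ∀ i, i < 20044 → P i := stepQ 20043 Q20043 (allL N20043 (tt N20479 (iv F67926)) (tt N16579 F66456) (tt N22084 (iv F73637)) (tt N22085 D32442) (tt N16576 (iv D30396)) (tt N20477 (iv F67921)) (tt N20479 (iv F67929)))
theorem Q20045 : ∀ i, i < 20045 → P i := stepQ 20044 Q20044 (allL N20044 (tt N18844 F66457) (tt N16581 F66458) (tt N21422 (iv F71170)) (tt N16577 (iv D30397)) (tt N22085 (iv F73642)) (tt N18704 F66459) (tt N18844 F66460))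
theorem Q20046 : ∀ i, i < 20046 → P i := stepQ 20045 Q20045 (allL N20045 (tt N16583 F66461) (tt N22085 (iv F73641)) (tt N22086 D32443) (tt N16579 (iv D30398)) (tt N16581 F66462) (tt N22087 D32444) (tt N20381 (iv F67591)))
theorem Q20047 : ∀ i, i < 20047 → P i := stepQ 20046 Q20046 (allL N20046 (tt N16584 F66463) (tt N20416 (iv F67719)) (tt N20039 F66464) (tt N22087 (iv F73651)) (tt N16580 F66465) (tt N16579 (iv D30399)) (tt N17073 F66466))
theorem Q20048 : ∀ i, i < 20048 → P i := stepQ 20047 Q20047 (allL N20047 (tt N16586 F66467) (tt N21351 (iv F70941)) (tt N16581 (iv D30400)) (tt N18734 F66469) (tt N22086 (iv F73647)) (tt N21788 (iv F72413)) (tt N18732 F66468))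
theorem Q20049 : ∀ i, i < 20049 → P i := stepQ 20048 Q20048 (allL N20048 (tt N16587 F66470) (tt N21789 (iv F72417)) (tt N21788 F72416) (tt N16582 F66471) (tt N22087 (iv F73652)) (tt N16581 (iv D30401)) (tt N17185 F66472))
theorem Q20050 : ∀ i, i < 20050 → P i := stepQ 20049 Q20049 (allL N20049 (tt N22086 (iv F73646)) (tt N22088 D32445) (tt N16583 (iv D30402)) (tt N22089 D32446) (tt N16586 F66473) (tt N22090 D32447) (tt N20382 (iv F67593)))
theorem Q20051 : ∀ i, i < 20051 → P i := stepQ 20050 Q20050 (allL N20050 (tt N22087 (iv F73649)) (tt N22091 D32448) (tt N22090 (iv F73656)) (tt N16584 F66474) (tt N16587 F66475) (tt N16583 (iv D30403)) (tt N22044 (iv F73459)))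
theorem Q20052 : ∀ i, i < 20052 → P i := stepQ 20051 Q20051 (allL N20051 (tt N18560 (iv F66478)) (tt N16584 (iv D30404)) (tt N18559 (iv F66479)) (tt N22091 (iv F73660)) (tt N16585 F66476) (tt N20064 (iv F66515)) (tt N18563 F66477))
theorem Q20053 : ∀ i, i < 20053 → P i := stepQ 20052 Q20052 (allL N20052 (tt N20652 F72475) (tt N16586 (iv D30405)) (tt N20079 (iv F66556)) (tt N22092 D32449) (tt N22088 (iv F73654)) (tt N20655 (iv F72476)) (tt N22093 D32450))
theorem Q20054 : ∀ i, i < 20054 → P i := stepQ 20053 Q20053 (allL N20053 (tt N18734 F66480) (tt N22092 (iv F73664)) (tt N19801 F66481) (tt N16586 (iv D30406)) (tt N21439 (iv F71228)) (tt N21349 (iv F70938)) (tt N18731 F66482))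
theorem Q20055 : ∀ i, i < 20055 → P i := stepQ 20054 Q20054 (allL N20054 (tt N21788 F72415) (tt N22094 D32451) (tt N16587 F66483) (tt N21349 (iv F70937)) (tt N22090 (iv F73657)) (tt N16586 (iv D30407)) (tt N21348 (iv F70935)))
theorem Q20056 : ∀ i, i < 20056 → P i := stepQ 20055 Q20055 (allL N20055 (tt N20265 (iv F67183)) (tt N16587 (iv D30408)) (tt N22095 D32452) (tt N16588 F66484) (tt N22091 (iv F73661)) (tt N20082 (iv F66564)) (tt N20422 (iv F67737)))
theorem Q20057 : ∀ i, i < 20057 → P i := stepQ 20056 Q20056 (allL N20056 (tt N17185 F66485) (tt N22056 (iv F73515)) (tt N21348 (iv F70932)) (tt N16589 F66486) (tt N22044 (iv F73457)) (tt N17183 F66487) (tt N16587 (iv D30409)))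
theorem Q20058 : ∀ i, i < 20058 → P i := stepQ 20057 Q20057 (allL N20057 (tt N20057 F66488) (tt N16596 (iv D30410)) (tt N20156 (iv F66849)) (tt N18131 F66489) (tt N18601 F66490) (tt N18130 F66491) (tt N20156 (iv F66853)))
theorem Q20059 : ∀ i, i < 20059 → P i := stepQ 20058 Q20058 (allL N20058 (tt N19735 F66492) (tt N19366 F66493) (tt N19975 F66494) (tt N16601 (iv D30411)) (tt N22059 (iv F73533)) (tt N18086 F66495) (tt N19755 F66496))
theorem Q20060 : ∀ i, i < 20060 → P i := stepQ 20059 Q20059 (allL N20059 (tt N22067 (iv F73573)) (tt N16605 F66497) (tt N22096 D32453) (tt N16604 (iv D30412)) (tt N18561 F66498) (tt N20000 F66499) (tt N22065 (iv F73567)))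
theorem Q20061 : ∀ i, i < 20061 → P i := stepQ 20060 Q20060 (allL N20060 (tt N16614 F66500) (tt N22097 D32454) (tt N16605 (iv D30413)) (tt N20072 (iv F66533)) (tt N20072 (iv F66534)) (tt N22098 D32455) (tt N22099 D32456))
theorem Q20062 : ∀ i, i < 20062 → P i := stepQ 20061 Q20061 (allL N20061 (tt N16615 F66501) (tt N22100 D32457) (tt N22098 (iv F73678)) (tt N16606 F66502) (tt N20073 (iv F66537)) (tt N16605 (iv D30414)) (tt N16635 F66503))
theorem Q20063 : ∀ i, i < 20063 → P i := stepQ 20062 Q20062 (allL N20062 (tt N16616 F66504) (tt N22101 D32458) (tt N22099 (iv F73683)) (tt N16607 F66505) (tt N16632 F66506) (tt N16630 F66507) (tt N16605 (iv D30415)))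
theorem Q20064 : ∀ i, i < 20064 → P i := stepQ 20063 Q20063 (allL N20063 (tt N20063 F66508) (tt N16606 (iv D30416)) (tt N20005 F66509) (tt N22100 (iv F73689)) (tt N16608 F66510) (tt N20002 F66511) (tt N20005 F66512))
theorem Q20065 : ∀ i, i < 20065 → P i := stepQ 20064 Q20064 (allL N20064 (tt N20455 (iv F67854)) (tt N16607 (iv D30417)) (tt N18568 F66513) (tt N22101 (iv F73692)) (tt N16609 F66514) (tt N20051 F66515) (tt N18567 F66516))
theorem Q20066 : ∀ i, i < 20066 → P i := stepQ 20065 Q20065 (allL N20065 (tt N20072 (iv F66532)) (tt N22102 D32459) (tt N16611 (iv D30418)) (tt N16614 F66518) (tt N16614 F66517) (tt N20081 F66562) (tt N22103 D32460))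
theorem Q20067 : ∀ i, i < 20067 → P i := stepQ 20066 Q20066 (allL N20066 (tt N16632 F66519) (tt N22104 D32461) (tt N22103 (iv F73701)) (tt N16612 F66520) (tt N16616 F66521) (tt N16628 (iv F66522)) (tt N16611 (iv D30419)))
theorem Q20068 : ∀ i, i < 20068 → P i := stepQ 20067 Q20067 (allL N20067 (tt N20513 (iv F68040)) (tt N16612 (iv D30420)) (tt N18581 F66523) (tt N22104 (iv F73705)) (tt N16613 F66524) (tt N18580 F66525) (tt N20031 F66526))
theorem Q20069 : ∀ i, i < 20069 → P i := stepQ 20068 Q20068 (allL N20068 (tt N22105 D32462) (tt N16614 (iv D30421)) (tt N20032 F66527) (tt N22102 (iv F73698)) (tt N22102 (iv F73699)) (tt N22106 D32463) (tt N22107 D32464))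
theorem Q20070 : ∀ i, i < 20070 → P i := stepQ 20069 Q20069 (allL N20069 (tt N22098 (iv F73677)) (tt N21912 (iv F72928)) (tt N16615 F66528) (tt N20081 (iv F66560)) (tt N20081 (iv F66561)) (tt N16614 (iv D30422)) (tt N20078 (iv F66554)))
theorem Q20071 : ∀ i, i < 20071 → P i := stepQ 20070 Q20070 (allL N20070 (tt N22099 (iv F73682)) (tt N22108 D32465) (tt N16616 F66529) (tt N22103 (iv F73702)) (tt N22103 (iv F73703)) (tt N20083 (iv F66568)) (tt N16614 (iv D30423)))
theorem Q20072 : ∀ i, i < 20072 → P i := stepQ 20071 Q20071 (allL N20071 (tt N20375 (iv F67563)) (tt N16616 (iv D30424)) (tt N22109 D32466) (tt N16617 F66530) (tt N22104 (iv F73706)) (tt N20371 (iv F67557)) (tt N20035 F66531))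
theorem Q20073 : ∀ i, i < 20073 → P i := stepQ 20072 Q20072 (allL N20072 (tt N20065 F66532) (tt N22110 D32467) (tt N16618 (iv D30425)) (tt N20060 F66533) (tt N20060 F66534) (tt N22111 D32468) (tt N20080 F66558))
theorem Q20074 : ∀ i, i < 20074 → P i := stepQ 20073 Q20073 (allL N20073 (tt N16633 F66535) (tt N22112 D32469) (tt N22111 (iv F73726)) (tt N16619 F66536) (tt N20061 F66537) (tt N16618 (iv D30426)) (tt N16628 F66538))
theorem Q20075 : ∀ i, i < 20075 → P i := stepQ 20074 Q20074 (allL N20074 (tt N20074 F66539) (tt N16619 (iv D30427)) (tt N19946 F66540) (tt N22112 (iv F73732)) (tt N16620 F66541) (tt N19946 F66542) (tt N19942 F66543))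
theorem Q20076 : ∀ i, i < 20076 → P i := stepQ 20075 Q20075 (allL N20075 (tt N19832 F66544) (tt N19581 F66545) (tt N20013 F66546) (tt N16624 (iv D30428)) (tt N22054 (iv F73507)) (tt N19852 F66547) (tt N18139 F66548))
theorem Q20077 : ∀ i, i < 20077 → P i := stepQ 20076 Q20076 (allL N20076 (tt N22052 (iv F73495)) (tt N16628 F66549) (tt N22113 D32470) (tt N16627 (iv D30429)) (tt N18575 F66550) (tt N22049 (iv F73485)) (tt N19940 F66551))
theorem Q20078 : ∀ i, i < 20078 → P i := stepQ 20077 Q20077 (allL N20077 (tt N16631 F66552) (tt N22114 D32471) (tt N16628 (iv D30430)) (tt N20083 (iv F66566)) (tt N20083 (iv F66567)) (tt N22103 F73704) (tt N22111 (iv F73729)))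
theorem Q20079 : ∀ i, i < 20079 → P i := stepQ 20078 Q20078 (allL N20078 (tt N20083 (iv F66565)) (tt N22115 D32472) (tt N16630 (iv D30431)) (tt N16631 F66555) (tt N16631 F66553) (tt N22099 (iv F73686)) (tt N20069 F66554))
theorem Q20080 : ∀ i, i < 20080 → P i := stepQ 20079 Q20079 (allL N20079 (tt N22116 D32473) (tt N16631 (iv D30432)) (tt N20052 F66556) (tt N22115 (iv F73742)) (tt N22115 (iv F73743)) (tt N22117 D32474) (tt N22118 D32475))
theorem Q20081 : ∀ i, i < 20081 → P i := stepQ 20080 Q20080 (allL N20080 (tt N22103 (iv F73700)) (tt N22119 D32476) (tt N16632 F66557) (tt N22099 (iv F73684)) (tt N22099 (iv F73685)) (tt N16631 (iv D30433)) (tt N20072 (iv F66558)))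
theorem Q20082 : ∀ i, i < 20082 → P i := stepQ 20081 Q20081 (allL N20081 (tt N22111 (iv F73724)) (tt N21827 (iv F72582)) (tt N16633 F66559) (tt N20069 F66560) (tt N20069 F66561) (tt N20065 (iv F66562)) (tt N16631 (iv D30434)))
theorem Q20083 : ∀ i, i < 20083 → P i := stepQ 20082 Q20082 (allL N20082 (tt N20423 (iv F67738)) (tt N16632 (iv D30435)) (tt N22120 D32477) (tt N16634 F66563) (tt N22101 (iv F73693)) (tt N20055 F66564) (tt N20418 (iv F67726)))
theorem Q20084 : ∀ i, i < 20084 → P i := stepQ 20083 Q20083 (allL N20083 (tt N20078 F66565) (tt N22121 D32478) (tt N16635 (iv D30436)) (tt N20077 F66566) (tt N20077 F66567) (tt N20070 F66568) (tt N22098 (iv F73679)))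
theorem Q20085 : ∀ i, i < 20085 → P i := stepQ 20084 Q20084 (allL N20084 (tt N19906 F66569) (tt N16649 F66570) (tt N19905 F66571) (tt N20669 (iv F68585)) (tt N16647 (iv D30437)) (tt N22122 D32479) (tt N17485 F66572))
theorem Q20086 : ∀ i, i < 20086 → P i := stepQ 20085 Q20085 (allL N20085 (tt N18558 F66573) (tt N16653 F66574) (tt N19903 F66575) (tt N16648 F66576) (tt N22122 (iv F73762)) (tt N16647 (iv D30438)) (tt N18606 F66577))
theorem Q20087 : ∀ i, i < 20087 → P i := stepQ 20086 Q20086 (allL N20086 (tt N20659 (iv F68547)) (tt N21024 (iv F69870)) (tt N22123 D32480) (tt N16650 (iv D30439)) (tt N18165 F66578) (tt N16657 F66579) (tt N20174 (iv F66907)))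
theorem Q20088 : ∀ i, i < 20088 → P i := stepQ 20087 Q20087 (allL N20087 (tt N16660 F66580) (tt N18584 F66581) (tt N17941 F66582) (tt N20208 (iv F67030)) (tt N17517 F66583) (tt N16651 (iv D30440)) (tt N16660 F66584))
theorem Q20089 : ∀ i, i < 20089 → P i := stepQ 20088 Q20088 (allL N20088 (tt N17536 F66585) (tt N22122 (iv F73759)) (tt N19923 F66586) (tt N17535 F66587) (tt N16653 F66588) (tt N16652 (iv D30441)) (tt N19922 F66589))
theorem Q20090 : ∀ i, i < 20090 → P i := stepQ 20089 Q20089 (allL N20089 (tt N17119 F66590) (tt N16656 F66591) (tt N17891 F66592) (tt N22124 D32481) (tt N16655 (iv D30442)) (tt N18549 F66593) (tt N16813 F66594))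
theorem Q20091 : ∀ i, i < 20091 → P i := stepQ 20090 Q20090 (allL N20090 (tt N16657 F66595) (tt N22124 (iv F73769)) (tt N22125 D32482) (tt N16656 (iv D30443)) (tt N18163 F66596) (tt N20659 (iv F68551)) (tt N18159 F66597))
theorem Q20092 : ∀ i, i < 20092 → P i := stepQ 20091 Q20091 (allL N20091 (tt N22125 (iv F73773)) (tt N18110 F66598) (tt N16657 (iv D30444)) (tt N18164 F66601) (tt N18164 F66599) (tt N22123 (iv F73766)) (tt N18160 F66600))
theorem Q20093 : ∀ i, i < 20093 → P i := stepQ 20092 Q20092 (allL N20092 (tt N19919 F66602) (tt N16667 F66603) (tt N19918 F66604) (tt N20644 (iv F68502)) (tt N16665 (iv D30445)) (tt N17494 F66605) (tt N22126 D32483))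
theorem Q20094 : ∀ i, i < 20094 → P i := stepQ 20093 Q20093 (allL N20093 (tt N18572 F66606) (tt N16671 F66607) (tt N19916 F66608) (tt N16666 F66609) (tt N22126 (iv F73781)) (tt N18610 F66610) (tt N16665 (iv D30446)))
theorem Q20095 : ∀ i, i < 20095 → P i := stepQ 20094 Q20094 (allL N20094 (tt N20632 (iv F68457)) (tt N21063 (iv F69993)) (tt N22127 D32484) (tt N16668 (iv D30447)) (tt N18111 F66611) (tt N20191 F66963) (tt N16675 F66612))
theorem Q20096 : ∀ i, i < 20096 → P i := stepQ 20095 Q20095 (allL N20095 (tt N16678 F66613) (tt N18595 F66614) (tt N17951 F66615) (tt N20206 (iv F67021)) (tt N17519 F66616) (tt N16678 F66617) (tt N16669 (iv D30448)))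
theorem Q20097 : ∀ i, i < 20097 → P i := stepQ 20096 Q20096 (allL N20096 (tt N17540 F66618) (tt N22126 (iv F73778)) (tt N19984 F66619) (tt N17539 F66620) (tt N16671 F66621) (tt N19983 F66622) (tt N16670 (iv D30449)))
theorem Q20098 : ∀ i, i < 20098 → P i := stepQ 20097 Q20097 (allL N20097 (tt N17028 F66623) (tt N16674 F66624) (tt N17913 F66625) (tt N22128 D32485) (tt N16673 (iv D30450)) (tt N16787 F66626) (tt N18540 F66627))
theorem Q20099 : ∀ i, i < 20099 → P i := stepQ 20098 Q20098 (allL N20098 (tt N16675 F66628) (tt N22128 (iv F73788)) (tt N22129 D32486) (tt N16674 (iv D30451)) (tt N18109 F66629) (tt N18105 F66630) (tt N20632 (iv F68461)))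
theorem Q20100 : ∀ i, i < 20100 → P i := stepQ 20099 Q20099 (allL N20099 (tt N22129 (iv F73792)) (tt N18164 F66631) (tt N16675 (iv D30452)) (tt N18110 F66634) (tt N18110 F66632) (tt N18106 F66633) (tt N22127 (iv F73785)))
theorem Q20101 : ∀ i, i < 20101 → P i := stepQ 20100 Q20100 (allL N20100 (tt N20292 (iv F67267)) (tt N17968 F66635) (tt N16680 (iv D30453)) (tt N21003 (iv F69809)) (tt N16877 F66636) (tt N20290 (iv F67265)) (tt N20800 (iv F69103)))
theorem Q20102 : ∀ i, i < 20102 → P i := stepQ 20101 Q20101 (allL N20101 (tt N20313 (iv F67329)) (tt N17971 F66637) (tt N16681 (iv D30454)) (tt N20977 (iv F69742)) (tt N16884 F66638) (tt N20810 (iv F69155)) (tt N20310 (iv F67324)))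
theorem Q20103 : ∀ i, i < 20103 → P i := stepQ 20102 Q20102 (allL N20102 (tt N16991 F66639) (tt N16985 F66640) (tt N16888 F66641) (tt N16694 F66642) (tt N16888 F66643) (tt N16888 F66644) (tt N16682 (iv D30455)))
theorem Q20104 : ∀ i, i < 20104 → P i := stepQ 20103 Q20103 (allL N20103 (tt N16685 F66645) (tt N16889 F66646) (tt N17568 F66648) (tt N16683 (iv D30456)) (tt N20861 (iv F69372)) (tt N17640 F66647) (tt N22130 D32487))
theorem Q20105 : ∀ i, i < 20105 → P i := stepQ 20104 Q20104 (allL N20104 (tt N16686 F66649) (tt N21731 (iv F72180)) (tt N16684 F66650) (tt N22130 (iv F73798)) (tt N16890 F66651) (tt N17881 F66652) (tt N16683 (iv D30457)))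
theorem Q20106 : ∀ i, i < 20106 → P i := stepQ 20105 Q20105 (allL N20105 (tt N17568 F66653) (tt N17974 F66654) (tt N16685 (iv D30458)) (tt N17565 F66655) (tt N18616 (iv F66657)) (tt N17628 F66656) (tt N20681 (iv F68637)))
theorem Q20107 : ∀ i, i < 20107 → P i := stepQ 20106 Q20106 (allL N20106 (tt N20861 (iv F69368)) (tt N17956 F66658) (tt N18616 F66659) (tt N16893 F66660) (tt N16685 (iv D30459)) (tt N18082 F66661) (tt N21885 (iv F72815)))
theorem Q20108 : ∀ i, i < 20108 → P i := stepQ 20107 Q20107 (allL N20107 (tt N22130 (iv F73796)) (tt N19682 F66662) (tt N20681 (iv F68634)) (tt N16686 F66663) (tt N21885 (iv F72813)) (tt N20679 (iv F68630)) (tt N16685 (iv D30460)))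
theorem Q20109 : ∀ i, i < 20109 → P i := stepQ 20108 Q20108 (allL N20108 (tt N21946 (iv F73077)) (tt N16686 (iv D30461)) (tt N19725 F66664) (tt N19682 F66665) (tt N16895 F66666) (tt N19719 (iv F66668)) (tt N17958 F66667))
theorem Q20110 : ∀ i, i < 20110 → P i := stepQ 20109 Q20109 (allL N20109 (tt N17881 F66669) (tt N22131 D32488) (tt N16687 F66670) (tt N20679 (iv F68629)) (tt N16896 F66671) (tt N16686 (iv D30462)) (tt N17878 F66672))
theorem Q20111 : ∀ i, i < 20111 → P i := stepQ 20110 Q20110 (allL N20110 (tt N16966 F66673) (tt N17011 F66674) (tt N16898 F66675) (tt N16695 F66676) (tt N16898 F66677) (tt N16688 (iv D30463)) (tt N16898 F66678))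
theorem Q20112 : ∀ i, i < 20112 → P i := stepQ 20111 Q20111 (allL N20111 (tt N16691 F66679) (tt N16900 F66680) (tt N17596 F66682) (tt N16689 (iv D30464)) (tt N20886 (iv F69473)) (tt N22132 D32489) (tt N17712 F66681))
theorem Q20113 : ∀ i, i < 20113 → P i := stepQ 20112 Q20112 (allL N20112 (tt N16692 F66683) (tt N21616 (iv F71775)) (tt N16690 F66684) (tt N22132 (iv F73808)) (tt N16901 F66685) (tt N16689 (iv D30465)) (tt N17905 F66686))
theorem Q20114 : ∀ i, i < 20114 → P i := stepQ 20113 Q20113 (allL N20113 (tt N17596 F66687) (tt N17980 F66688) (tt N16691 (iv D30466)) (tt N17593 F66689) (tt N18631 (iv F66691)) (tt N20718 (iv F68786)) (tt N17700 F66690))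
theorem Q20115 : ∀ i, i < 20115 → P i := stepQ 20114 Q20114 (allL N20114 (tt N20886 (iv F69469)) (tt N17961 F66692) (tt N18631 F66693) (tt N16904 F66694) (tt N16691 (iv D30467)) (tt N21791 (iv F72429)) (tt N18136 F66695))
theorem Q20116 : ∀ i, i < 20116 → P i := stepQ 20115 Q20115 (allL N20115 (tt N22132 (iv F73806)) (tt N19777 F66696) (tt N20718 (iv F68783)) (tt N16692 F66697) (tt N21791 (iv F72428)) (tt N16691 (iv D30468)) (tt N20716 (iv F68779)))
theorem Q20117 : ∀ i, i < 20117 → P i := stepQ 20116 Q20116 (allL N20116 (tt N21984 (iv F73222)) (tt N16692 (iv D30469)) (tt N19818 F66698) (tt N19777 F66699) (tt N16906 F66700) (tt N17963 F66701) (tt N19812 (iv F66702)))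
theorem Q20118 : ∀ i, i < 20118 → P i := stepQ 20117 Q20117 (allL N20117 (tt N17905 F66703) (tt N22133 D32490) (tt N16693 F66704) (tt N20716 (iv F68778)) (tt N16907 F66705) (tt N17902 F66706) (tt N16692 (iv D30470)))
theorem Q20119 : ∀ i, i < 20119 → P i := stepQ 20118 Q20118 (allL N20118 (tt N16882 F66707) (tt N16696 (iv D30471)) (tt N21996 (iv F73265)) (tt N16714 F66708) (tt N16915 F66709) (tt N16883 F66710) (tt N16808 F66711))
theorem Q20120 : ∀ i, i < 20120 → P i := stepQ 20119 Q20119 (allL N20119 (tt N18374 F66712) (tt N17732 F66713) (tt N18373 F66714) (tt N16697 (iv D30472)) (tt N19165 F66715) (tt N18546 (iv F66717)) (tt N16702 F66716))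
theorem Q20121 : ∀ i, i < 20121 → P i := stepQ 20120 Q20120 (allL N20120 (tt N20124 (iv F66731)) (tt N18547 F66718) (tt N16698 F66719) (tt N18546 F66720) (tt N16916 F66721) (tt N16697 (iv D30473)) (tt N20123 (iv F66730)))
theorem Q20122 : ∀ i, i < 20122 → P i := stepQ 20121 Q20121 (allL N20121 (tt N20304 (iv F67304)) (tt N21670 F71964) (tt N16699 (iv D30474)) (tt N21671 (iv F71965)) (tt N16917 F66722) (tt N16997 F66723) (tt N20302 (iv F67301)))
theorem Q20123 : ∀ i, i < 20123 → P i := stepQ 20122 Q20122 (allL N20122 (tt N21674 (iv F71979)) (tt N16700 (iv D30475)) (tt N21670 (iv F71960)) (tt N19137 F66724) (tt N16919 F66725) (tt N21675 (iv F71988)) (tt N21668 F71951))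
theorem Q20124 : ∀ i, i < 20124 → P i := stepQ 20123 Q20123 (allL N20123 (tt N16703 F66726) (tt N22134 D32491) (tt N16701 F66727) (tt N19173 F66728) (tt N16920 F66729) (tt N16700 (iv D30476)) (tt N20120 F66730))
theorem Q20125 : ∀ i, i < 20125 → P i := stepQ 20124 Q20124 (allL N20124 (tt N20120 F66731) (tt N21068 (iv F70018)) (tt N16704 F66732) (tt N20806 (iv F69136)) (tt N16922 F66733) (tt N19089 F66734) (tt N16703 (iv D30477)))
theorem Q20126 : ∀ i, i < 20126 → P i := stepQ 20125 Q20125 (allL N20125 (tt N16875 F66735) (tt N16705 (iv D30478)) (tt N21958 (iv F73119)) (tt N16720 F66736) (tt N16927 F66737) (tt N16782 F66738) (tt N16876 F66739))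
theorem Q20127 : ∀ i, i < 20127 → P i := stepQ 20126 Q20126 (allL N20126 (tt N18439 F66740) (tt N17663 F66741) (tt N18438 F66742) (tt N16706 (iv D30479)) (tt N19028 F66743) (tt N16711 F66744) (tt N18553 (iv F66745)))
theorem Q20128 : ∀ i, i < 20128 → P i := stepQ 20127 Q20127 (allL N20127 (tt N20131 (iv F66759)) (tt N18554 F66746) (tt N16707 F66747) (tt N18553 F66748) (tt N16928 F66749) (tt N20130 (iv F66758)) (tt N16706 (iv D30480)))
theorem Q20129 : ∀ i, i < 20129 → P i := stepQ 20128 Q20128 (allL N20128 (tt N20284 (iv F67245)) (tt N21540 F71550) (tt N16708 (iv D30481)) (tt N21541 (iv F71551)) (tt N16929 F66750) (tt N20282 (iv F67241)) (tt N16972 F66751))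
theorem Q20130 : ∀ i, i < 20130 → P i := stepQ 20129 Q20129 (allL N20129 (tt N21544 (iv F71565)) (tt N16709 (iv D30482)) (tt N21540 (iv F71546)) (tt N18998 F66752) (tt N16931 F66753) (tt N21538 F71540) (tt N21545 (iv F71574)))
theorem Q20131 : ∀ i, i < 20131 → P i := stepQ 20130 Q20130 (allL N20130 (tt N16712 F66754) (tt N22135 D32492) (tt N16710 F66755) (tt N19036 F66756) (tt N16932 F66757) (tt N20127 F66758) (tt N16709 (iv D30483)))
theorem Q20132 : ∀ i, i < 20132 → P i := stepQ 20131 Q20131 (allL N20131 (tt N20127 F66759) (tt N21031 (iv F69902)) (tt N16713 F66760) (tt N20816 (iv F69189)) (tt N16934 F66761) (tt N16712 (iv D30484)) (tt N19223 F66762))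
theorem Q20133 : ∀ i, i < 20133 → P i := stepQ 20132 Q20132 (allL N20132 (tt N18326 F66763) (tt N20159 (iv F66857)) (tt N22136 D32493) (tt N16716 (iv D30485)) (tt N18330 F66764) (tt N17142 F66765) (tt N16807 F66766))
theorem Q20134 : ∀ i, i < 20134 → P i := stepQ 20133 Q20133 (allL N20133 (tt N16717 (iv D30486)) (tt N20796 (iv F69088)) (tt N16958 F66767) (tt N19664 F66768) (tt N16740 F66769) (tt N16957 F66770) (tt N20160 (iv F66862)))
theorem Q20135 : ∀ i, i < 20135 → P i := stepQ 20134 Q20134 (allL N20134 (tt N16957 F66771) (tt N18583 F66772) (tt N16956 F66773) (tt N19663 F66774) (tt N16741 F66775) (tt N16717 (iv D30487)) (tt N16955 F66776))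
theorem Q20136 : ∀ i, i < 20136 → P i := stepQ 20135 Q20135 (allL N20135 (tt N18269 F66777) (tt N20154 (iv F66841)) (tt N22137 D32494) (tt N16722 (iv D30488)) (tt N18273 F66778) (tt N16781 F66779) (tt N17053 F66780))
theorem Q20137 : ∀ i, i < 20137 → P i := stepQ 20136 Q20136 (allL N20136 (tt N16723 (iv D30489)) (tt N20792 (iv F69075)) (tt N16943 F66781) (tt N19464 F66782) (tt N16742 F66783) (tt N20155 (iv F66845)) (tt N16942 (iv F66784)))
theorem Q20138 : ∀ i, i < 20138 → P i := stepQ 20137 Q20137 (allL N20137 (tt N16942 F66785) (tt N18594 F66786) (tt N16941 F66787) (tt N19463 F66788) (tt N16743 F66789) (tt N16940 (iv F66790)) (tt N16723 (iv D30490)))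
theorem Q20139 : ∀ i, i < 20139 → P i := stepQ 20138 Q20138 (allL N20138 (tt N21680 (iv F72004)) (tt N17680 F66791) (tt N22138 D32495) (tt N16726 (iv D30491)) (tt N18399 (iv F66793)) (tt N18385 F66792) (tt N21142 (iv F70228)))
theorem Q20140 : ∀ i, i < 20140 → P i := stepQ 20139 Q20139 (allL N20139 (tt N16728 F66794) (tt N22139 D32496) (tt N16727 (iv D30492)) (tt N18376 F66795) (tt N16980 F66796) (tt N18689 F66797) (tt N20247 (iv F67138)))
theorem Q20141 : ∀ i, i < 20141 → P i := stepQ 20140 Q20140 (allL N20140 (tt N20247 (iv F67136)) (tt N21400 (iv F71100)) (tt N16729 F66798) (tt N20714 (iv F68770)) (tt N16983 F66799) (tt N21314 (iv F70790)) (tt N16728 (iv D30493)))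
theorem Q20142 : ∀ i, i < 20142 → P i := stepQ 20141 Q20141 (allL N20141 (tt N17015 F66800) (tt N20145 (iv F66814)) (tt N21314 (iv F70788)) (tt N16736 F66801) (tt N16984 F66802) (tt N16729 (iv D30494)) (tt N17014 F66803))
theorem Q20143 : ∀ i, i < 20143 → P i := stepQ 20142 Q20142 (allL N20142 (tt N21553 (iv F71601)) (tt N17748 F66804) (tt N22140 D32497) (tt N16730 (iv D30495)) (tt N18461 (iv F66806)) (tt N21191 (iv F70378)) (tt N18447 F66805))
theorem Q20144 : ∀ i, i < 20144 → P i := stepQ 20143 Q20143 (allL N20143 (tt N16732 F66807) (tt N22141 D32498) (tt N16731 (iv D30496)) (tt N18436 F66808) (tt N17005 F66809) (tt N20259 (iv F67165)) (tt N18678 F66810))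
theorem Q20145 : ∀ i, i < 20145 → P i := stepQ 20144 Q20144 (allL N20144 (tt N20259 (iv F67164)) (tt N21354 (iv F70951)) (tt N16733 F66811) (tt N20677 (iv F68622)) (tt N17008 F66812) (tt N16732 (iv D30497)) (tt N21303 (iv F70749)))
theorem Q20146 : ∀ i, i < 20146 → P i := stepQ 20145 Q20145 (allL N20145 (tt N16990 F66813) (tt N20141 F66814) (tt N21303 (iv F70747)) (tt N16739 F66815) (tt N17009 F66816) (tt N16989 F66817) (tt N16733 (iv D30498)))
theorem Q20147 : ∀ i, i < 20147 → P i := stepQ 20146 Q20146 (allL N20146 (tt N16822 F66822) (tt N16734 (iv D30499)) (tt N16773 F66818) (tt N21992 (iv F73246)) (tt N16744 F66819) (tt N16774 F66820) (tt N16819 F66821))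
theorem Q20148 : ∀ i, i < 20148 → P i := stepQ 20147 Q20147 (allL N20147 (tt N16735 F66823) (tt N21992 (iv F73244)) (tt N22142 D32499) (tt N16734 (iv D30500)) (tt N17243 F66824) (tt N17242 F66825) (tt N20281 (iv F67237)))
theorem Q20149 : ∀ i, i < 20149 → P i := stepQ 20148 Q20148 (allL N20148 (tt N22142 (iv F73852)) (tt N22143 D32500) (tt N16735 (iv D30501)) (tt N22144 D32501) (tt N17249 F66826) (tt N17248 F66827) (tt N21443 (iv F71242)))
theorem Q20150 : ∀ i, i < 20150 → P i := stepQ 20149 Q20149 (allL N20149 (tt N16795 F66832) (tt N16737 (iv D30502)) (tt N16768 F66828) (tt N21954 (iv F73100)) (tt N16745 F66829) (tt N16793 F66830) (tt N16769 F66831))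
theorem Q20151 : ∀ i, i < 20151 → P i := stepQ 20150 Q20150 (allL N20150 (tt N16738 F66833) (tt N21954 (iv F73098)) (tt N22145 D32502) (tt N16737 (iv D30503)) (tt N17320 F66834) (tt N20270 (iv F67200)) (tt N17318 F66835))
theorem Q20152 : ∀ i, i < 20152 → P i := stepQ 20151 Q20151 (allL N20151 (tt N22145 (iv F73863)) (tt N22146 D32503) (tt N16738 (iv D30504)) (tt N22147 D32504) (tt N17326 F66836) (tt N21487 (iv F71374)) (tt N17324 F66837))
theorem Q20153 : ∀ i, i < 20153 → P i := stepQ 20152 Q20152 (allL N20152 (tt N16752 (iv D30505)) (tt N21831 (iv F72600)) (tt N21144 (iv F70236)) (tt N16753 F66838) (tt N20429 (iv F67766)) (tt N20264 (iv F67182)) (tt N16937 F66839))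
theorem Q20154 : ∀ i, i < 20154 → P i := stepQ 20153 Q20153 (allL N20153 (tt N21144 (iv F70234)) (tt N20194 (iv F66973)) (tt N16752 (iv D30506)) (tt N21143 (iv F70233)) (tt N20195 (iv F66978)) (tt N22148 D32505) (tt N16938 F66840))
theorem Q20155 : ∀ i, i < 20155 → P i := stepQ 20154 Q20154 (allL N20154 (tt N20264 (iv F67178)) (tt N20135 F66841) (tt N22148 (iv F73874)) (tt N16755 F66842) (tt N20430 (iv F67772)) (tt N16752 (iv D30507)) (tt N20262 (iv F67176)))
theorem Q20156 : ∀ i, i < 20156 → P i := stepQ 20155 Q20155 (allL N20155 (tt N16754 F66843) (tt N20602 (iv F68359)) (tt N16753 (iv D30508)) (tt N18410 (iv F66847)) (tt N16844 F66844) (tt N20136 F66845) (tt N16940 F66846))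
theorem Q20157 : ∀ i, i < 20157 → P i := stepQ 20156 Q20156 (allL N20156 (tt N20156 F66848) (tt N16759 (iv D30509)) (tt N20057 F66849) (tt N19373 F66850) (tt N16845 F66851) (tt N19372 F66852) (tt N20057 F66853))
theorem Q20158 : ∀ i, i < 20158 → P i := stepQ 20157 Q20157 (allL N20157 (tt N16760 (iv D30510)) (tt N21797 (iv F72453)) (tt N21193 (iv F70386)) (tt N16761 F66854) (tt N20487 (iv F67949)) (tt N16952 F66855) (tt N20275 (iv F67218)))
theorem Q20159 : ∀ i, i < 20159 → P i := stepQ 20158 Q20158 (allL N20158 (tt N21193 (iv F70384)) (tt N20177 (iv F66917)) (tt N16760 (iv D30511)) (tt N21192 (iv F70383)) (tt N20178 (iv F66922)) (tt N16953 F66856) (tt N22149 D32506))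
theorem Q20160 : ∀ i, i < 20160 → P i := stepQ 20159 Q20159 (allL N20159 (tt N20275 (iv F67214)) (tt N20132 F66857) (tt N22149 (iv F73877)) (tt N16763 F66858) (tt N20488 (iv F67955)) (tt N20273 (iv F67211)) (tt N16760 (iv D30512)))
theorem Q20161 : ∀ i, i < 20161 → P i := stepQ 20160 Q20160 (allL N20160 (tt N16762 F66859) (tt N20600 (iv F68347)) (tt N16761 (iv D30513)) (tt N18468 (iv F66863)) (tt N16846 F66860) (tt N16955 F66861) (tt N20133 F66862))
theorem Q20162 : ∀ i, i < 20162 → P i := stepQ 20161 Q20161 (allL N20161 (tt N20161 F66864) (tt N16767 (iv D30514)) (tt N20037 F66865) (tt N19588 F66866) (tt N16847 F66867) (tt N20037 F66868) (tt N19587 F66869))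
theorem Q20163 : ∀ i, i < 20163 → P i := stepQ 20162 Q20162 (allL N20162 (tt N18575 F66870) (tt N19263 F66871) (tt N21254 (iv F70587)) (tt N16769 (iv D30515)) (tt N22052 (iv F73499)) (tt N20176 F66915) (tt N21954 (iv F73102)))
theorem Q20164 : ∀ i, i < 20164 → P i := stepQ 20163 Q20163 (allL N20163 (tt N18561 F66872) (tt N19496 F66873) (tt N21243 (iv F70544)) (tt N16774 (iv D30516)) (tt N22067 (iv F73577)) (tt N21992 (iv F73248)) (tt N20192 F66968))
theorem Q20165 : ∀ i, i < 20165 → P i := stepQ 20164 Q20164 (allL N20164 (tt N17932 F66874) (tt N20674 (iv F68610)) (tt N16894 F66875) (tt N16779 F66876) (tt N18085 F66877) (tt N16778 (iv D30517)) (tt N16892 F66878))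
theorem Q20166 : ∀ i, i < 20166 → P i := stepQ 20165 Q20165 (allL N20165 (tt N18275 (iv F66882)) (tt N16780 (iv D30518)) (tt N22150 D32507) (tt N16852 F66879) (tt N16781 F66880) (tt N18273 (iv F66883)) (tt N19480 F66881))
theorem Q20167 : ∀ i, i < 20167 → P i := stepQ 20166 Q20166 (allL N20166 (tt N20325 (iv F67369)) (tt N21091 (iv F70086)) (tt N16781 (iv D30519)) (tt N21548 (iv F71584)) (tt N22150 (iv F73882)) (tt N22137 (iv F73834)) (tt N20339 (iv F67435)))
theorem Q20168 : ∀ i, i < 20168 → P i := stepQ 20167 Q20167 (allL N20167 (tt N18576 F66884) (tt N22151 D32508) (tt N16782 (iv D30520)) (tt N21253 (iv F70585)) (tt N22152 D32509) (tt N21958 (iv F73122)) (tt N20216 (iv F67067)))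
theorem Q20169 : ∀ i, i < 20169 → P i := stepQ 20168 Q20168 (allL N20168 (tt N16976 F66885) (tt N16930 F66886) (tt N22152 (iv F73888)) (tt N16853 F66887) (tt N16782 (iv D30521)) (tt N16927 F66888) (tt N16973 F66889))
theorem Q20170 : ∀ i, i < 20170 → P i := stepQ 20169 Q20169 (allL N20169 (tt N21779 (iv F72375)) (tt N20432 (iv F67778)) (tt N16783 (iv D30522)) (tt N20605 (iv F68372)) (tt N16785 F66890) (tt N21771 (iv F72341)) (tt N16830 F66891))
theorem Q20171 : ∀ i, i < 20171 → P i := stepQ 20170 Q20170 (allL N20170 (tt N18552 (iv F66895)) (tt N16784 (iv D30523)) (tt N21780 (iv F72381)) (tt N16787 F66892) (tt N19758 F66893) (tt N22128 (iv F73790)) (tt N19753 F66894))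
theorem Q20172 : ∀ i, i < 20172 → P i := stepQ 20171 Q20171 (allL N20171 (tt N20499 (iv F67992)) (tt N16789 (iv D30524)) (tt N19272 F66896) (tt N21508 (iv F71438)) (tt N22153 D32510) (tt N21524 (iv F71498)) (tt N20499 (iv F67994)))
theorem Q20173 : ∀ i, i < 20173 → P i := stepQ 20172 Q20172 (allL N20172 (tt N19617 F66897) (tt N22153 (iv F73891)) (tt N16790 F66898) (tt N18826 F66899) (tt N16789 (iv D30525)) (tt N21922 (iv F72972)) (tt N16798 F66900))
theorem Q20174 : ∀ i, i < 20174 → P i := stepQ 20173 Q20173 (allL N20173 (tt N20179 (iv F66923)) (tt N22154 D32511) (tt N16791 F66901) (tt N18915 F66902) (tt N21922 (iv F72971)) (tt N16789 (iv D30526)) (tt N18914 F66903))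
theorem Q20175 : ∀ i, i < 20175 → P i := stepQ 20174 Q20174 (allL N20174 (tt N17599 F66908) (tt N16791 (iv D30527)) (tt N22155 D32512) (tt N16792 F66904) (tt N17600 F66905) (tt N18159 F66906) (tt N20086 F66907))
theorem Q20176 : ∀ i, i < 20176 → P i := stepQ 20175 Q20175 (allL N20175 (tt N21954 (iv F73097)) (tt N22069 (iv F73585)) (tt N21956 (iv F73109)) (tt N16795 F66909) (tt N19940 F66910) (tt N16794 (iv D30528)) (tt N18575 (iv F66911)))
theorem Q20177 : ∀ i, i < 20177 → P i := stepQ 20176 Q20176 (allL N20176 (tt N21250 (iv F70571)) (tt N19972 F66912) (tt N21957 (iv F73114)) (tt N16796 F66913) (tt N19941 F66914) (tt N20162 (iv F66915)) (tt N16794 (iv D30529)))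
theorem Q20178 : ∀ i, i < 20178 → P i := stepQ 20177 Q20177 (allL N20177 (tt N19624 F66916) (tt N20158 F66917) (tt N16800 F66918) (tt N18802 F66919) (tt N16799 F66920) (tt N16798 (iv D30530)) (tt N21920 (iv F72962)))
theorem Q20179 : ∀ i, i < 20179 → P i := stepQ 20178 Q20178 (allL N20178 (tt N20531 (iv F68097)) (tt N16799 (iv D30531)) (tt N17264 F66921) (tt N21497 (iv F71409)) (tt N20158 F66922) (tt N20271 (iv F67204)) (tt N22156 D32513))
theorem Q20180 : ∀ i, i < 20180 → P i := stepQ 20179 Q20179 (allL N20179 (tt N20173 F66923) (tt N22157 D32514) (tt N16801 F66924) (tt N18939 F66925) (tt N21920 (iv F72961)) (tt N18937 F66926) (tt N16799 (iv D30532)))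
theorem Q20181 : ∀ i, i < 20181 → P i := stepQ 20180 Q20180 (allL N20180 (tt N20812 (iv F69163)) (tt N16801 (iv D30533)) (tt N22158 D32515) (tt N16802 F66927) (tt N20811 (iv F69160)) (tt N17875 F66928) (tt N17265 F66929))
theorem Q20182 : ∀ i, i < 20182 → P i := stepQ 20181 Q20181 (allL N20181 (tt N17942 F66930) (tt N20673 (iv F68605)) (tt N16905 F66931) (tt N16805 F66932) (tt N18141 F66933) (tt N16903 F66934) (tt N16804 (iv D30534)))
theorem Q20183 : ∀ i, i < 20183 → P i := stepQ 20182 Q20182 (allL N20182 (tt N18332 (iv F66938)) (tt N16806 (iv D30535)) (tt N22159 D32516) (tt N16861 F66935) (tt N16807 F66936) (tt N19240 F66937) (tt N18330 (iv F66939)))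
theorem Q20184 : ∀ i, i < 20184 → P i := stepQ 20183 Q20183 (allL N20183 (tt N20395 (iv F67637)) (tt N21146 (iv F70241)) (tt N16807 (iv D30536)) (tt N21677 (iv F71993)) (tt N22159 (iv F73914)) (tt N20402 (iv F67667)) (tt N22136 (iv F73831)))
theorem Q20185 : ∀ i, i < 20185 → P i := stepQ 20184 Q20184 (allL N20184 (tt N18562 F66940) (tt N22160 D32517) (tt N16808 (iv D30537)) (tt N21242 (iv F70542)) (tt N22161 D32518) (tt N20219 F67077) (tt N21996 (iv F73268)))
theorem Q20186 : ∀ i, i < 20186 → P i := stepQ 20185 Q20185 (allL N20185 (tt N17000 F66941) (tt N16918 F66942) (tt N22161 (iv F73920)) (tt N16862 F66943) (tt N16808 (iv D30538)) (tt N16998 F66944) (tt N16915 F66945))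
theorem Q20187 : ∀ i, i < 20187 → P i := stepQ 20186 Q20186 (allL N20186 (tt N21877 (iv F72778)) (tt N20491 (iv F67963)) (tt N16809 (iv D30539)) (tt N20606 (iv F68378)) (tt N16811 F66946) (tt N16837 F66947) (tt N21775 (iv F72359)))
theorem Q20188 : ∀ i, i < 20188 → P i := stepQ 20187 Q20187 (allL N20187 (tt N18544 (iv F66951)) (tt N16810 (iv D30540)) (tt N21878 (iv F72784)) (tt N16813 F66948) (tt N19850 F66949) (tt N19846 F66950) (tt N22124 (iv F73772)))
theorem Q20189 : ∀ i, i < 20189 → P i := stepQ 20188 Q20188 (allL N20188 (tt N20441 (iv F67809)) (tt N16815 (iv D30541)) (tt N19505 F66952) (tt N21466 (iv F71308)) (tt N22162 D32519) (tt N20441 (iv F67811)) (tt N21483 (iv F71363)))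
theorem Q20190 : ∀ i, i < 20190 → P i := stepQ 20189 Q20189 (allL N20189 (tt N19412 F66953) (tt N22162 (iv F73923)) (tt N16816 F66954) (tt N18775 F66955) (tt N16815 (iv D30542)) (tt N16824 F66956) (tt N21846 (iv F72657)))
theorem Q20191 : ∀ i, i < 20191 → P i := stepQ 20190 Q20190 (allL N20190 (tt N20196 (iv F66979)) (tt N22163 D32520) (tt N16817 F66957) (tt N18860 F66958) (tt N21846 (iv F72656)) (tt N18859 F66959) (tt N16815 (iv D30543)))
theorem Q20192 : ∀ i, i < 20192 → P i := stepQ 20191 Q20191 (allL N20191 (tt N17571 (iv F66964)) (tt N16817 (iv D30544)) (tt N22164 D32521) (tt N16818 F66960) (tt N17572 F66961) (tt N20094 (iv F66963)) (tt N18105 F66962))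
theorem Q20193 : ∀ i, i < 20193 → P i := stepQ 20192 Q20192 (allL N20192 (tt N21239 (iv F70528)) (tt N19957 F66965) (tt N21994 (iv F73255)) (tt N16821 F66966) (tt N19999 F66967) (tt N16820 (iv D30545)) (tt N20163 (iv F66968)))
theorem Q20194 : ∀ i, i < 20194 → P i := stepQ 20193 Q20193 (allL N20193 (tt N21992 (iv F73243)) (tt N22053 (iv F73502)) (tt N21995 (iv F73261)) (tt N16822 F66969) (tt N20000 F66970) (tt N18561 (iv F66971)) (tt N16820 (iv D30546)))
theorem Q20195 : ∀ i, i < 20195 → P i := stepQ 20194 Q20194 (allL N20194 (tt N19422 F66972) (tt N20153 F66973) (tt N16826 F66974) (tt N18751 F66975) (tt N16825 F66976) (tt N21842 (iv F72638)) (tt N16824 (iv D30547)))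
theorem Q20196 : ∀ i, i < 20196 → P i := stepQ 20195 Q20195 (allL N20195 (tt N20475 F67914) (tt N16825 (iv D30548)) (tt N17188 F66977) (tt N21455 (iv F71281)) (tt N20153 F66978) (tt N22165 D32522) (tt N20260 (iv F67169)))
theorem Q20197 : ∀ i, i < 20197 → P i := stepQ 20196 Q20196 (allL N20196 (tt N20190 F66979) (tt N22166 D32523) (tt N16827 F66980) (tt N18884 F66981) (tt N21842 (iv F72637)) (tt N16825 (iv D30549)) (tt N18882 F66982))
theorem Q20198 : ∀ i, i < 20198 → P i := stepQ 20197 Q20197 (allL N20197 (tt N20802 (iv F69110)) (tt N16827 (iv D30550)) (tt N22167 D32524) (tt N16828 F66983) (tt N20801 (iv F69107)) (tt N17190 F66984) (tt N17863 F66985))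
theorem Q20199 : ∀ i, i < 20199 → P i := stepQ 20198 Q20198 (allL N20198 (tt N17794 F66986) (tt N17194 F66987) (tt N20668 (iv F68581)) (tt N16830 (iv D30551)) (tt N17892 F66988) (tt N20663 (iv F68564)) (tt N20605 (iv F68375)))
theorem Q20200 : ∀ i, i < 20200 → P i := stepQ 20199 Q20199 (allL N20199 (tt N16834 F66989) (tt N19548 F66993) (tt N16832 F66990) (tt N17766 F66991) (tt N21891 (iv F72841)) (tt N16831 (iv D30552)) (tt N19253 F66992))
theorem Q20201 : ∀ i, i < 20201 → P i := stepQ 20200 Q20200 (allL N20200 (tt N19253 F66994) (tt N20635 (iv F68466)) (tt N16835 F66995) (tt N19254 F66996) (tt N20662 (iv F68557)) (tt N19273 F66997) (tt N16834 (iv D30553)))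
theorem Q20202 : ∀ i, i < 20202 → P i := stepQ 20201 Q20201 (allL N20201 (tt N17039 F66998) (tt N18172 F66999) (tt N19920 F67000) (tt N21974 (iv F73177)) (tt N16870 F67001) (tt N19920 F67002) (tt N16836 (iv D30554)))
theorem Q20203 : ∀ i, i < 20203 → P i := stepQ 20202 Q20202 (allL N20202 (tt N17778 F67003) (tt N17270 F67004) (tt N20643 (iv F68498)) (tt N16837 (iv D30555)) (tt N17914 F67005) (tt N20606 (iv F68380)) (tt N20637 (iv F68477)))
theorem Q20204 : ∀ i, i < 20204 → P i := stepQ 20203 Q20203 (allL N20203 (tt N16841 F67006) (tt N19322 (iv F67010)) (tt N16839 F67007) (tt N17786 F67008) (tt N21798 (iv F72460)) (tt N19487 F67009) (tt N16838 (iv D30556)))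
theorem Q20205 : ∀ i, i < 20205 → P i := stepQ 20204 Q20204 (allL N20204 (tt N19487 F67011) (tt N20639 (iv F68480)) (tt N16842 F67012) (tt N19488 F67013) (tt N20636 (iv F68470)) (tt N16841 (iv D30557)) (tt N19506 F67014))
theorem Q20206 : ∀ i, i < 20206 → P i := stepQ 20205 Q20205 (allL N20205 (tt N17128 F67015) (tt N18118 F67016) (tt N19981 F67017) (tt N22012 (iv F73325)) (tt N16871 F67018) (tt N16843 (iv D30558)) (tt N19981 F67019))
theorem Q20207 : ∀ i, i < 20207 → P i := stepQ 20206 Q20206 (allL N20206 (tt N18591 F67024) (tt N16844 (iv D30559)) (tt N17460 F67020) (tt N20095 F67021) (tt N20602 (iv F68362)) (tt N18591 (iv F67023)) (tt N17459 F67022))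
theorem Q20208 : ∀ i, i < 20208 → P i := stepQ 20207 Q20207 (allL N20207 (tt N20207 F67025) (tt N17506 F67026) (tt N20211 (iv F67045)) (tt N17507 F67027) (tt N19372 F67028) (tt N16845 (iv D30560)) (tt N20211 (iv F67049)))
theorem Q20209 : ∀ i, i < 20209 → P i := stepQ 20208 Q20208 (allL N20208 (tt N18600 F67032) (tt N16846 (iv D30561)) (tt N17432 F67029) (tt N20087 F67030) (tt N20600 (iv F68350)) (tt N17431 F67031) (tt N18600 F67033))
theorem Q20210 : ∀ i, i < 20210 → P i := stepQ 20209 Q20209 (allL N20209 (tt N20209 F67034) (tt N17501 F67035) (tt N20210 (iv F67039)) (tt N17502 F67036) (tt N19587 F67037) (tt N20210 (iv F67042)) (tt N16847 (iv D30562)))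
theorem Q20211 : ∀ i, i < 20211 → P i := stepQ 20210 Q20210 (allL N20210 (tt N20210 F67038) (tt N16848 (iv D30563)) (tt N20209 F67039) (tt N16849 F67040) (tt N18182 F67041) (tt N20209 F67042) (tt N18592 F67043))
theorem Q20212 : ∀ i, i < 20212 → P i := stepQ 20211 Q20211 (allL N20211 (tt N20211 F67044) (tt N16850 (iv D30564)) (tt N20207 F67045) (tt N16851 F67046) (tt N18130 F67047) (tt N18601 F67048) (tt N20207 F67049))
theorem Q20213 : ∀ i, i < 20213 → P i := stepQ 20212 Q20212 (allL N20212 (tt N18285 F67050) (tt N19500 F67051) (tt N20893 (iv F69495)) (tt N16860 F67052) (tt N18171 F67053) (tt N16859 (iv D30565)) (tt N21199 (iv F70408)))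
theorem Q20214 : ∀ i, i < 20214 → P i := stepQ 20213 Q20213 (allL N20213 (tt N18342 F67054) (tt N19264 F67055) (tt N20869 (iv F69397)) (tt N16869 F67056) (tt N18117 F67057) (tt N21219 (iv F70470)) (tt N16868 (iv D30566)))
theorem Q20215 : ∀ i, i < 20215 → P i := stepQ 20214 Q20214 (allL N20214 (tt N18351 F67058) (tt N21340 (iv F70897)) (tt N18084 F67059) (tt N16874 F67060) (tt N18083 F67061) (tt N20220 (iv F67081)) (tt N16873 (iv D30567)))
theorem Q20216 : ∀ i, i < 20216 → P i := stepQ 20215 Q20215 (allL N20215 (tt N21958 (iv F73118)) (tt N21338 (iv F70889)) (tt N16875 (iv D30568)) (tt N21957 (iv F73115)) (tt N20800 (iv F69101)) (tt N18576 F67062) (tt N16877 F67063))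
theorem Q20217 : ∀ i, i < 20217 → P i := stepQ 20216 Q20216 (allL N20216 (tt N17013 F67064) (tt N20216 F67065) (tt N16878 F67066) (tt N21956 (iv F73110)) (tt N20290 (iv F67264)) (tt N16877 (iv D30569)) (tt N20167 F67067))
theorem Q20218 : ∀ i, i < 20218 → P i := stepQ 20217 Q20217 (allL N20217 (tt N18413 F67068) (tt N21348 (iv F70931)) (tt N18138 F67069) (tt N16881 F67070) (tt N18137 F67071) (tt N16880 (iv D30570)) (tt N20227 (iv F67095)))
theorem Q20219 : ∀ i, i < 20219 → P i := stepQ 20218 Q20218 (allL N20218 (tt N21996 (iv F73264)) (tt N21346 (iv F70923)) (tt N16882 (iv D30571)) (tt N21994 (iv F73256)) (tt N20810 (iv F69154)) (tt N16884 F67072) (tt N18562 F67073))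
theorem Q20220 : ∀ i, i < 20220 → P i := stepQ 20219 Q20219 (allL N20219 (tt N16988 F67074) (tt N20219 F67075) (tt N16885 F67076) (tt N21995 (iv F73262)) (tt N20310 (iv F67323)) (tt N20184 (iv F67077)) (tt N16884 (iv D30572)))
theorem Q20221 : ∀ i, i < 20221 → P i := stepQ 20220 Q20220 (allL N20220 (tt N16894 F67078) (tt N22168 D32525) (tt N17932 F67079) (tt N16890 F67080) (tt N20911 (iv F69570)) (tt N20214 F67081) (tt N16889 (iv D30573)))
theorem Q20222 : ∀ i, i < 20222 → P i := stepQ 20221 Q20221 (allL N20221 (tt N22169 D32526) (tt N16890 (iv D30574)) (tt N19055 F67082) (tt N22168 (iv F73945)) (tt N21731 (iv F72181)) (tt N21590 (iv F71705)) (tt N21731 (iv F72182)))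
theorem Q20223 : ∀ i, i < 20223 → P i := stepQ 20222 Q20222 (allL N20222 (tt N20911 (iv F69568)) (tt N21887 (iv F72821)) (tt N18085 F67083) (tt N21885 (iv F72816)) (tt N16894 F67084) (tt N19489 F67085) (tt N16893 (iv D30575)))
theorem Q20224 : ∀ i, i < 20224 → P i := stepQ 20223 Q20223 (allL N20223 (tt N22170 D32527) (tt N16894 (iv D30576)) (tt N22171 D32528) (tt N16895 F67086) (tt N21887 (iv F72822)) (tt N22172 D32529) (tt N18622 F67087))
theorem Q20225 : ∀ i, i < 20225 → P i := stepQ 20224 Q20224 (allL N20224 (tt N16895 (iv D30577)) (tt N21374 (iv F71019)) (tt N20257 (iv F67158)) (tt N22170 (iv F73949)) (tt N21946 (iv F73080)) (tt N21270 (iv F70645)) (tt N18623 F67088))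
theorem Q20226 : ∀ i, i < 20226 → P i := stepQ 20225 Q20225 (allL N20225 (tt N21270 (iv F70642)) (tt N22173 D32530) (tt N19722 F67089) (tt N22172 (iv F73953)) (tt N19719 F67090) (tt N16895 (iv D30578)) (tt N19717 F67091))
theorem Q20227 : ∀ i, i < 20227 → P i := stepQ 20226 Q20226 (allL N20226 (tt N22174 D32531) (tt N16896 (iv D30579)) (tt N22141 (iv F73848)) (tt N21092 (iv F70091)) (tt N22131 (iv F73803)) (tt N22173 (iv F73958)) (tt N21093 (iv F70094)))
theorem Q20228 : ∀ i, i < 20228 → P i := stepQ 20227 Q20227 (allL N20227 (tt N16905 F67092) (tt N22175 D32532) (tt N17942 F67093) (tt N16901 F67094) (tt N20940 (iv F69648)) (tt N16900 (iv D30580)) (tt N20217 F67095))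
theorem Q20229 : ∀ i, i < 20229 → P i := stepQ 20228 Q20228 (allL N20228 (tt N22176 D32533) (tt N16901 (iv D30581)) (tt N19190 F67096) (tt N22175 (iv F73964)) (tt N21616 (iv F71776)) (tt N21616 (iv F71777)) (tt N21709 (iv F72099)))
theorem Q20230 : ∀ i, i < 20230 → P i := stepQ 20229 Q20229 (allL N20229 (tt N20940 (iv F69646)) (tt N21793 (iv F72436)) (tt N18141 F67097) (tt N21791 (iv F72431)) (tt N16905 F67098) (tt N16904 (iv D30582)) (tt N19245 F67099))
theorem Q20231 : ∀ i, i < 20231 → P i := stepQ 20230 Q20230 (allL N20230 (tt N22177 D32534) (tt N16905 (iv D30583)) (tt N22178 D32535) (tt N16906 F67100) (tt N21793 (iv F72437)) (tt N18637 F67101) (tt N22179 D32536))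
theorem Q20232 : ∀ i, i < 20232 → P i := stepQ 20231 Q20231 (allL N20231 (tt N16906 (iv D30584)) (tt N21418 (iv F71159)) (tt N20245 (iv F67130)) (tt N22177 (iv F73968)) (tt N21984 (iv F73225)) (tt N18638 F67102) (tt N21279 (iv F70670)))
theorem Q20233 : ∀ i, i < 20233 → P i := stepQ 20232 Q20232 (allL N20232 (tt N21279 (iv F70667)) (tt N22180 D32537) (tt N19815 F67103) (tt N22179 (iv F73972)) (tt N19812 F67104) (tt N19811 F67105) (tt N16906 (iv D30585)))
theorem Q20234 : ∀ i, i < 20234 → P i := stepQ 20233 Q20233 (allL N20233 (tt N22181 D32538) (tt N16907 (iv D30586)) (tt N22139 (iv F73840)) (tt N21147 (iv F70246)) (tt N22133 (iv F73813)) (tt N21148 (iv F70250)) (tt N22180 (iv F73977)))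
theorem Q20235 : ∀ i, i < 20235 → P i := stepQ 20234 Q20234 (allL N20234 (tt N18612 F67106) (tt N20438 (iv F67799)) (tt N19514 F67107) (tt N16909 F67108) (tt N18309 F67109) (tt N20823 (iv F69226)) (tt N16908 (iv D30587)))
theorem Q20236 : ∀ i, i < 20236 → P i := stepQ 20235 Q20235 (allL N20235 (tt N18614 F67110) (tt N20496 (iv F67982)) (tt N19282 F67111) (tt N16911 F67112) (tt N18252 F67113) (tt N16910 (iv D30588)) (tt N20824 (iv F69232)))
theorem Q20237 : ∀ i, i < 20237 → P i := stepQ 20236 Q20236 (allL N20236 (tt N22079 (iv F73621)) (tt N16913 (iv D30589)) (tt N20300 (iv F67291)) (tt N20625 (iv F68449)) (tt N21203 (iv F70423)) (tt N21321 (iv F70817)) (tt N18738 F67114))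
theorem Q20238 : ∀ i, i < 20238 → P i := stepQ 20237 Q20237 (allL N20237 (tt N20810 (iv F69153)) (tt N21654 (iv F71899)) (tt N16915 (iv D30590)) (tt N22182 D32539) (tt N21996 (iv F73267)) (tt N20313 F67333) (tt N22161 (iv F73922)))
theorem Q20239 : ∀ i, i < 20239 → P i := stepQ 20238 Q20238 (allL N20238 (tt N21126 (iv F70183)) (tt N16916 (iv D30591)) (tt N20289 (iv F67257)) (tt N21016 (iv F69846)) (tt N18547 F67115) (tt N19096 F67116) (tt N21083 (iv F70063)))
theorem Q20240 : ∀ i, i < 20240 → P i := stepQ 20239 Q20239 (allL N20239 (tt N21675 (iv F71985)) (tt N16917 (iv D30592)) (tt N16919 F67117) (tt N22183 D32540) (tt N21670 (iv F71962)) (tt N21674 (iv F71984)) (tt N21669 F71958))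
theorem Q20241 : ∀ i, i < 20241 → P i := stepQ 20240 Q20240 (allL N20240 (tt N18464 F67118) (tt N22183 (iv F73985)) (tt N22184 D32541) (tt N16917 (iv D30593)) (tt N18460 (iv F67120)) (tt N18447 F67119) (tt N22185 D32542))
theorem Q20242 : ∀ i, i < 20242 → P i := stepQ 20241 Q20241 (allL N20241 (tt N18896 F67121) (tt N22186 D32543) (tt N16918 F67122) (tt N22185 (iv F73992)) (tt N20302 (iv F67299)) (tt N18979 F67123) (tt N16917 (iv D30594)))
theorem Q20243 : ∀ i, i < 20243 → P i := stepQ 20242 Q20242 (allL N20242 (tt N16919 (iv D30595)) (tt N22187 D32544) (tt N21675 (iv F71986)) (tt N18231 F67124) (tt N21674 (iv F71983)) (tt N21670 (iv F71963)) (tt N19098 (iv F67125)))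
theorem Q20244 : ∀ i, i < 20244 → P i := stepQ 20243 Q20243 (allL N20243 (tt N19098 F67126) (tt N21648 (iv F71879)) (tt N21669 (iv F71956)) (tt N18230 F67127) (tt N21668 F71950) (tt N19104 (iv F67128)) (tt N16919 (iv D30596)))
theorem Q20245 : ∀ i, i < 20245 → P i := stepQ 20244 Q20244 (allL N20244 (tt N21281 (iv F70675)) (tt N16920 (iv D30597)) (tt N22135 (iv F73822)) (tt N18232 F67129) (tt N22134 (iv F73818)) (tt N21656 (iv F71907)) (tt N21280 (iv F70674)))
theorem Q20246 : ∀ i, i < 20246 → P i := stepQ 20245 Q20245 (allL N20245 (tt N16921 (iv D30598)) (tt N22188 D32545) (tt N20231 F67130) (tt N21440 F71233) (tt N19819 F67131) (tt N19816 F67132) (tt N22001 (iv F73285)))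
theorem Q20247 : ∀ i, i < 20247 → P i := stepQ 20246 Q20246 (allL N20246 (tt N19109 F67135) (tt N16922 (iv D30599)) (tt N21067 (iv F70011)) (tt N19090 F67133) (tt N21068 (iv F70020)) (tt N21014 (iv F69838)) (tt N19116 F67134))
theorem Q20248 : ∀ i, i < 20248 → P i := stepQ 20247 Q20247 (allL N20247 (tt N20140 F67136) (tt N21067 F70016) (tt N16923 (iv D30600)) (tt N21121 (iv F70169)) (tt N20297 (iv F67284)) (tt N18690 F67137) (tt N20139 F67138))
theorem Q20249 : ∀ i, i < 20249 → P i := stepQ 20248 Q20248 (allL N20248 (tt N22092 (iv F73663)) (tt N16925 (iv D30601)) (tt N20320 (iv F67350)) (tt N20652 (iv F68539)) (tt N21223 (iv F70485)) (tt N18792 F67139) (tt N21310 (iv F70774)))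
theorem Q20250 : ∀ i, i < 20250 → P i := stepQ 20249 Q20249 (allL N20249 (tt N20800 (iv F69100)) (tt N21758 (iv F72283)) (tt N16927 (iv D30602)) (tt N22189 D32546) (tt N21958 (iv F73121)) (tt N22152 (iv F73889)) (tt N20292 F67271))
theorem Q20251 : ∀ i, i < 20251 → P i := stepQ 20250 Q20250 (allL N20250 (tt N21179 (iv F70338)) (tt N16928 (iv D30603)) (tt N20309 (iv F67316)) (tt N20990 (iv F69778)) (tt N18554 F67140) (tt N21048 (iv F69949)) (tt N18956 F67141))
theorem Q20252 : ∀ i, i < 20252 → P i := stepQ 20251 Q20251 (allL N20251 (tt N21545 (iv F71571)) (tt N16929 (iv D30604)) (tt N16931 F67142) (tt N22190 D32547) (tt N21540 (iv F71548)) (tt N21539 F71544) (tt N21544 (iv F71570)))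
theorem Q20253 : ∀ i, i < 20253 → P i := stepQ 20252 Q20252 (allL N20252 (tt N18406 F67143) (tt N22190 (iv F74010)) (tt N22191 D32548) (tt N16929 (iv D30605)) (tt N18400 (iv F67145)) (tt N22192 D32549) (tt N18385 F67144))
theorem Q20254 : ∀ i, i < 20254 → P i := stepQ 20253 Q20253 (allL N20253 (tt N18840 F67146) (tt N22193 D32550) (tt N16930 F67147) (tt N22192 (iv F74017)) (tt N20282 (iv F67240)) (tt N16929 (iv D30606)) (tt N19118 F67148))
theorem Q20255 : ∀ i, i < 20255 → P i := stepQ 20254 Q20254 (allL N20254 (tt N16931 (iv D30607)) (tt N22194 D32551) (tt N21545 (iv F71572)) (tt N18206 F67149) (tt N21544 (iv F71569)) (tt N18960 F67150) (tt N21540 (iv F71549)))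
theorem Q20256 : ∀ i, i < 20256 → P i := stepQ 20255 Q20255 (allL N20255 (tt N18960 F67154) (tt N21754 (iv F72268)) (tt N21539 (iv F71542)) (tt N18205 F67155) (tt N21538 F71539) (tt N16931 (iv D30608)) (tt N18964 F67156))
theorem Q20257 : ∀ i, i < 20257 → P i := stepQ 20256 Q20256 (allL N20256 (tt N21272 (iv F70650)) (tt N16932 (iv D30609)) (tt N22134 (iv F73816)) (tt N18207 F67157) (tt N22135 (iv F73824)) (tt N21271 (iv F70649)) (tt N21546 (iv F71579)))
theorem Q20258 : ∀ i, i < 20258 → P i := stepQ 20257 Q20257 (allL N20257 (tt N16933 (iv D30610)) (tt N22195 D32552) (tt N20224 F67158) (tt N21396 F71091) (tt N19723 F67159) (tt N21963 (iv F73139)) (tt N19721 F67160))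
theorem Q20259 : ∀ i, i < 20259 → P i := stepQ 20258 Q20258 (allL N20258 (tt N18969 F67163) (tt N16934 (iv D30611)) (tt N21030 (iv F69896)) (tt N19224 F67161) (tt N21031 (iv F69904)) (tt N18977 F67162) (tt N20988 (iv F69771)))
theorem Q20260 : ∀ i, i < 20260 → P i := stepQ 20259 Q20259 (allL N20259 (tt N20144 F67164) (tt N21030 F69900) (tt N16935 (iv D30612)) (tt N21174 (iv F70321)) (tt N20317 (iv F67343)) (tt N20143 F67165) (tt N18679 F67166))
theorem Q20261 : ∀ i, i < 20261 → P i := stepQ 20260 Q20260 (allL N20260 (tt N20569 F68224) (tt N17212 F67167) (tt N16936 (iv D30613)) (tt N22037 (iv F73425)) (tt N16938 F67168) (tt N22196 D32553) (tt N20195 F67169))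
theorem Q20262 : ∀ i, i < 20262 → P i := stepQ 20261 Q20261 (allL N20261 (tt N21099 (iv F70102)) (tt N19750 F67170) (tt N22196 (iv F74034)) (tt N17390 F67171) (tt N16939 F67172) (tt N16936 (iv D30614)) (tt N18248 (iv F67173)))
theorem Q20263 : ∀ i, i < 20263 → P i := stepQ 20262 Q20262 (allL N20262 (tt N16939 F67174) (tt N20794 (iv F69080)) (tt N21863 (iv F72718)) (tt N16941 F67175) (tt N21099 (iv F70104)) (tt N16937 (iv D30615)) (tt N20154 F67176))
theorem Q20264 : ∀ i, i < 20264 → P i := stepQ 20263 Q20263 (allL N20263 (tt N21863 (iv F72717)) (tt N20274 F67213) (tt N16939 F67177) (tt N21862 (iv F72715)) (tt N22196 (iv F74036)) (tt N16938 (iv D30616)) (tt N22197 D32554))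
theorem Q20265 : ∀ i, i < 20265 → P i := stepQ 20264 Q20264 (allL N20264 (tt N20154 F67178) (tt N18246 F67179) (tt N22197 (iv F74040)) (tt N16943 F67180) (tt N18248 F67181) (tt N20152 F67182) (tt N16939 (iv D30617)))
theorem Q20266 : ∀ i, i < 20266 → P i := stepQ 20265 Q20265 (allL N20265 (tt N20055 F67183) (tt N21252 (iv F70581)) (tt N22198 D32555) (tt N16944 (iv D30618)) (tt N21241 (iv F70539)) (tt N20423 F67740) (tt N21246 (iv F70559)))
theorem Q20267 : ∀ i, i < 20267 → P i := stepQ 20266 Q20266 (allL N20266 (tt N20014 F67184) (tt N16945 (iv D30619)) (tt N20277 (iv F67221)) (tt N21387 (iv F71062)) (tt N17392 F67185) (tt N17240 F67186) (tt N18900 F67187))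
theorem Q20268 : ∀ i, i < 20268 → P i := stepQ 20267 Q20267 (allL N20267 (tt N16947 F67188) (tt N21387 (iv F71060)) (tt N22199 D32556) (tt N16945 (iv D30620)) (tt N17319 F67189) (tt N17318 F67190) (tt N18897 F67191))
theorem Q20269 : ∀ i, i < 20269 → P i := stepQ 20268 Q20268 (allL N20268 (tt N21245 (iv F70550)) (tt N16947 F67192) (tt N21797 (iv F72454)) (tt N16946 (iv D30621)) (tt N17309 F67193) (tt N17308 F67194) (tt N21799 (iv F72468)))
theorem Q20270 : ∀ i, i < 20270 → P i := stepQ 20269 Q20269 (allL N20269 (tt N22199 (iv F74049)) (tt N21193 (iv F70385)) (tt N16947 (iv D30622)) (tt N21190 (iv F70374)) (tt N17325 F67195) (tt N17324 F67196) (tt N22200 D32557))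
theorem Q20271 : ∀ i, i < 20271 → P i := stepQ 20270 Q20270 (allL N20270 (tt N18897 F67197) (tt N19693 (iv F67201)) (tt N22200 (iv F74055)) (tt N16948 F67198) (tt N17327 F67199) (tt N20150 F67200) (tt N16947 (iv D30623)))
theorem Q20272 : ∀ i, i < 20272 → P i := stepQ 20271 Q20271 (allL N20271 (tt N20586 (iv F68293)) (tt N17288 F67202) (tt N16951 (iv D30624)) (tt N22023 (iv F73368)) (tt N16953 F67203) (tt N20178 F67204) (tt N22201 D32558))
theorem Q20273 : ∀ i, i < 20273 → P i := stepQ 20272 Q20272 (allL N20272 (tt N21152 (iv F70256)) (tt N19842 F67205) (tt N22201 (iv F74061)) (tt N17394 F67206) (tt N16954 F67207) (tt N18306 F67208) (tt N16951 (iv D30625)))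
theorem Q20274 : ∀ i, i < 20274 → P i := stepQ 20273 Q20273 (allL N20273 (tt N16954 F67209) (tt N20798 (iv F69093)) (tt N21937 (iv F73037)) (tt N16956 F67210) (tt N21152 (iv F70258)) (tt N20159 F67211) (tt N16952 (iv D30626)))
theorem Q20275 : ∀ i, i < 20275 → P i := stepQ 20274 Q20274 (allL N20274 (tt N21937 (iv F73035)) (tt N20263 (iv F67213)) (tt N16954 F67212) (tt N21936 (iv F73031)) (tt N22201 (iv F74063)) (tt N22202 D32559) (tt N16953 (iv D30627)))
theorem Q20276 : ∀ i, i < 20276 → P i := stepQ 20275 Q20275 (allL N20275 (tt N20159 F67214) (tt N18305 F67215) (tt N22202 (iv F74067)) (tt N16958 F67216) (tt N18306 F67217) (tt N16954 (iv D30628)) (tt N20157 F67218))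
theorem Q20277 : ∀ i, i < 20277 → P i := stepQ 20276 Q20276 (allL N20276 (tt N20035 F67219) (tt N21241 (iv F70538)) (tt N22203 D32560) (tt N16959 (iv D30629)) (tt N21252 (iv F70582)) (tt N21256 (iv F70596)) (tt N20375 F67565))
theorem Q20278 : ∀ i, i < 20278 → P i := stepQ 20277 Q20277 (allL N20277 (tt N19977 F67220) (tt N16960 (iv D30630)) (tt N20266 F67221) (tt N21431 (iv F71204)) (tt N17396 F67222) (tt N18845 F67223) (tt N17315 F67224))
theorem Q20279 : ∀ i, i < 20279 → P i := stepQ 20278 Q20278 (allL N20278 (tt N16962 F67225) (tt N21431 (iv F71202)) (tt N22204 D32561) (tt N16960 (iv D30631)) (tt N17244 F67226) (tt N18841 F67227) (tt N17242 F67228))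
theorem Q20280 : ∀ i, i < 20280 → P i := stepQ 20279 Q20279 (allL N20279 (tt N21249 (iv F70566)) (tt N16962 F67229) (tt N21831 (iv F72601)) (tt N16961 (iv D30632)) (tt N17233 F67230) (tt N21892 (iv F72848)) (tt N17232 F67231))
theorem Q20281 : ∀ i, i < 20281 → P i := stepQ 20280 Q20280 (allL N20280 (tt N22204 (iv F74076)) (tt N21144 (iv F70235)) (tt N16962 (iv D30633)) (tt N21141 (iv F70224)) (tt N17250 F67232) (tt N22205 D32562) (tt N17248 F67233))
theorem Q20282 : ∀ i, i < 20282 → P i := stepQ 20281 Q20281 (allL N20281 (tt N18841 F67234) (tt N19788 (iv F67238)) (tt N22205 (iv F74083)) (tt N16963 F67235) (tt N17252 F67236) (tt N16962 (iv D30634)) (tt N20147 F67237))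
theorem Q20283 : ∀ i, i < 20283 → P i := stepQ 20282 Q20282 (allL N20282 (tt N16968 F67239) (tt N22206 D32563) (tt N16967 (iv D30635)) (tt N22207 D32564) (tt N20253 F67240) (tt N20128 F67241) (tt N16970 F67242))
theorem Q20284 : ∀ i, i < 20284 → P i := stepQ 20283 Q20283 (allL N20283 (tt N22207 (iv F74091)) (tt N18960 F67243) (tt N21548 (iv F71583)) (tt N16968 (iv D30636)) (tt N21542 (iv F71555)) (tt N22208 D32565) (tt N16971 F67244))
theorem Q20285 : ∀ i, i < 20285 → P i := stepQ 20284 Q20284 (allL N20284 (tt N20128 F67245) (tt N21140 (iv F70219)) (tt N16969 F67246) (tt N22208 (iv F74097)) (tt N19122 F67247) (tt N16968 (iv D30637)) (tt N19119 F67248))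
theorem Q20286 : ∀ i, i < 20286 → P i := stepQ 20285 Q20285 (allL N20285 (tt N16971 F67249) (tt N20285 F67250) (tt N20341 (iv F67444)) (tt N16970 (iv D30638)) (tt N22209 D32566) (tt N21681 (iv F72011)) (tt N22207 (iv F74094)))
theorem Q20287 : ∀ i, i < 20287 → P i := stepQ 20286 Q20286 (allL N20286 (tt N20341 (iv F67442)) (tt N22210 D32567) (tt N16971 (iv D30639)) (tt N20339 (iv F67436)) (tt N21549 (iv F71588)) (tt N22006 (iv F73306)) (tt N21548 F71585))
theorem Q20288 : ∀ i, i < 20288 → P i := stepQ 20287 Q20287 (allL N20287 (tt N22209 (iv F74100)) (tt N18954 F67251) (tt N21549 (iv F71587)) (tt N18399 F67252) (tt N16971 (iv D30640)) (tt N18398 (iv F67253)) (tt N21542 (iv F71556)))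
theorem Q20289 : ∀ i, i < 20289 → P i := stepQ 20288 Q20288 (allL N20288 (tt N21681 (iv F72008)) (tt N18401 (iv F67256)) (tt N22006 (iv F73305)) (tt N16972 F67254) (tt N18398 F67255) (tt N16971 (iv D30641)) (tt N21541 (iv F71553)))
theorem Q20290 : ∀ i, i < 20290 → P i := stepQ 20289 Q20289 (allL N20289 (tt N18388 (iv F67261)) (tt N16972 (iv D30642)) (tt N20238 F67257) (tt N18401 F67258) (tt N18386 F67259) (tt N18956 F67260) (tt N22194 (iv F74026)))
theorem Q20291 : ∀ i, i < 20291 → P i := stepQ 20290 Q20290 (allL N20290 (tt N16974 F67262) (tt N20290 F67263) (tt N16973 (iv D30643)) (tt N22211 D32568) (tt N20216 F67264) (tt N20100 F67265) (tt N22152 (iv F73890)))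
theorem Q20292 : ∀ i, i < 20292 → P i := stepQ 20291 Q20291 (allL N20291 (tt N22211 (iv F74107)) (tt N19175 F67266) (tt N22212 D32569) (tt N16974 (iv D30644)) (tt N22213 D32570) (tt N22214 D32571) (tt N22215 D32572))
theorem Q20293 : ∀ i, i < 20293 → P i := stepQ 20292 Q20292 (allL N20292 (tt N20100 F67267) (tt N19704 F67268) (tt N16975 F67269) (tt N22214 (iv F74125)) (tt N19700 F67270) (tt N16974 (iv D30645)) (tt N20249 (iv F67271)))
theorem Q20294 : ∀ i, i < 20294 → P i := stepQ 20293 Q20293 (allL N20293 (tt N22152 (iv F73887)) (tt N19191 F67272) (tt N16976 F67273) (tt N22215 (iv F74130)) (tt N18576 F67274) (tt N20800 (iv F69102)) (tt N16974 (iv D30646)))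
theorem Q20295 : ∀ i, i < 20295 → P i := stepQ 20294 Q20294 (allL N20294 (tt N16978 F67275) (tt N21438 (iv F71223)) (tt N16977 (iv D30647)) (tt N21982 (iv F73215)) (tt N18689 F67276) (tt N16980 F67277) (tt N20301 (iv F67295)))
theorem Q20296 : ∀ i, i < 20296 → P i := stepQ 20295 Q20295 (allL N20295 (tt N22180 (iv F73974)) (tt N16980 (iv D30648)) (tt N22133 (iv F73811)) (tt N22216 D32573) (tt N22139 (iv F73842)) (tt N22217 D32574) (tt N22181 (iv F73982)))
theorem Q20297 : ∀ i, i < 20297 → P i := stepQ 20296 Q20296 (allL N20296 (tt N16982 F67278) (tt N22216 (iv F74132)) (tt N19783 F67279) (tt N16980 (iv D30649)) (tt N22218 D32575) (tt N21982 (iv F73216)) (tt N18320 (iv F67280)))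
theorem Q20298 : ∀ i, i < 20298 → P i := stepQ 20297 Q20297 (allL N20297 (tt N16983 F67281) (tt N18312 (iv F67286)) (tt N16981 F67282) (tt N18320 F67283) (tt N20247 F67284) (tt N19769 F67285) (tt N16980 (iv D30650)))
theorem Q20299 : ∀ i, i < 20299 → P i := stepQ 20298 Q20298 (allL N20298 (tt N22218 (iv F74139)) (tt N20712 F68766) (tt N21990 (iv F73240)) (tt N20713 (iv F68767)) (tt N16982 (iv D30651)) (tt N21983 F73221) (tt N22219 D32576))
theorem Q20300 : ∀ i, i < 20300 → P i := stepQ 20299 Q20299 (allL N20299 (tt N18320 F67287) (tt N22220 D32577) (tt N19779 F67288) (tt N16983 F67289) (tt N22219 (iv F74145)) (tt N19768 (iv F67290)) (tt N16982 (iv D30652)))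
theorem Q20301 : ∀ i, i < 20301 → P i := stepQ 20300 Q20300 (allL N20300 (tt N21005 (iv F69811)) (tt N16983 (iv D30653)) (tt N20236 F67291) (tt N22220 (iv F74148)) (tt N21400 (iv F71103)) (tt N18696 F67297) (tt N20891 (iv F69487)))
theorem Q20302 : ∀ i, i < 20302 → P i := stepQ 20301 Q20301 (allL N20301 (tt N19769 F67292) (tt N18675 F67296) (tt N16984 F67293) (tt N19768 F67294) (tt N21314 (iv F70789)) (tt N16983 (iv D30654)) (tt N20294 F67295))
theorem Q20303 : ∀ i, i < 20303 → P i := stepQ 20302 Q20302 (allL N20302 (tt N16993 F67298) (tt N22221 D32578) (tt N16992 (iv D30655)) (tt N22222 D32579) (tt N20241 F67299) (tt N16995 F67300) (tt N20121 F67301))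
theorem Q20304 : ∀ i, i < 20304 → P i := stepQ 20303 Q20303 (allL N20303 (tt N22222 (iv F74156)) (tt N19098 F67302) (tt N21677 (iv F71992)) (tt N16993 (iv D30656)) (tt N21672 (iv F71969)) (tt N16996 F67303) (tt N22223 D32580))
theorem Q20305 : ∀ i, i < 20305 → P i := stepQ 20304 Q20304 (allL N20304 (tt N20121 F67304) (tt N21189 (iv F70367)) (tt N16994 F67305) (tt N22223 (iv F74162)) (tt N18983 F67306) (tt N18980 F67307) (tt N16993 (iv D30657)))
theorem Q20306 : ∀ i, i < 20306 → P i := stepQ 20305 Q20305 (allL N20305 (tt N16996 F67308) (tt N20305 F67309) (tt N20403 (iv F67671)) (tt N16995 (iv D30658)) (tt N22224 D32581) (tt N22222 (iv F74158)) (tt N21554 (iv F71608)))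
theorem Q20307 : ∀ i, i < 20307 → P i := stepQ 20306 Q20306 (allL N20306 (tt N20403 (iv F67669)) (tt N22225 D32582) (tt N16996 (iv D30659)) (tt N20402 (iv F67668)) (tt N21678 (iv F71997)) (tt N21677 F71994) (tt N21968 (iv F73160)))
theorem Q20308 : ∀ i, i < 20308 → P i := stepQ 20307 Q20307 (allL N20307 (tt N22224 (iv F74165)) (tt N19094 F67310) (tt N21678 (iv F71996)) (tt N18461 F67311) (tt N16996 (iv D30660)) (tt N21672 (iv F71970)) (tt N18402 (iv F67312)))
theorem Q20309 : ∀ i, i < 20309 → P i := stepQ 20308 Q20308 (allL N20308 (tt N21554 (iv F71605)) (tt N18403 (iv F67315)) (tt N21968 (iv F73159)) (tt N16997 F67313) (tt N18402 F67314) (tt N21671 (iv F71967)) (tt N16996 (iv D30661)))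
theorem Q20310 : ∀ i, i < 20310 → P i := stepQ 20309 Q20309 (allL N20309 (tt N18450 (iv F67320)) (tt N16997 (iv D30662)) (tt N20250 F67316) (tt N18403 F67317) (tt N18448 F67318) (tt N22187 (iv F74001)) (tt N19096 F67319))
theorem Q20311 : ∀ i, i < 20311 → P i := stepQ 20310 Q20310 (allL N20310 (tt N16999 F67321) (tt N20310 F67322) (tt N16998 (iv D30663)) (tt N22226 D32583) (tt N20219 F67323) (tt N22161 (iv F73921)) (tt N20101 F67324))
theorem Q20312 : ∀ i, i < 20312 → P i := stepQ 20311 Q20311 (allL N20311 (tt N22226 (iv F74172)) (tt N19038 F67325) (tt N22227 D32584) (tt N16999 (iv D30664)) (tt N22228 D32585) (tt N22229 D32586) (tt N22230 D32587))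
theorem Q20313 : ∀ i, i < 20313 → P i := stepQ 20312 Q20312 (allL N20312 (tt N22161 (iv F73919)) (tt N19053 F67326) (tt N17000 F67327) (tt N22229 (iv F74189)) (tt N18562 F67328) (tt N16999 (iv D30665)) (tt N20810 (iv F69156)))
theorem Q20314 : ∀ i, i < 20314 → P i := stepQ 20313 Q20313 (allL N20313 (tt N20101 F67329) (tt N19798 F67330) (tt N17001 F67331) (tt N22230 (iv F74194)) (tt N19794 F67332) (tt N20237 (iv F67333)) (tt N16999 (iv D30666)))
theorem Q20315 : ∀ i, i < 20315 → P i := stepQ 20314 Q20314 (allL N20314 (tt N17003 F67334) (tt N21393 (iv F71077)) (tt N17002 (iv D30667)) (tt N21944 (iv F73070)) (tt N18678 F67335) (tt N20321 (iv F67354)) (tt N17005 F67336))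
theorem Q20316 : ∀ i, i < 20316 → P i := stepQ 20315 Q20315 (allL N20315 (tt N22173 (iv F73955)) (tt N17005 (iv D30668)) (tt N22131 (iv F73801)) (tt N22231 D32588) (tt N22141 (iv F73850)) (tt N22174 (iv F73963)) (tt N22232 D32589))
theorem Q20317 : ∀ i, i < 20317 → P i := stepQ 20316 Q20316 (allL N20316 (tt N17007 F67337) (tt N22231 (iv F74197)) (tt N19690 F67338) (tt N17005 (iv D30669)) (tt N22233 D32590) (tt N18263 (iv F67339)) (tt N21944 (iv F73071)))
theorem Q20318 : ∀ i, i < 20318 → P i := stepQ 20317 Q20317 (allL N20317 (tt N17008 F67340) (tt N18255 (iv F67345)) (tt N17006 F67341) (tt N18263 F67342) (tt N20259 F67343) (tt N17005 (iv D30670)) (tt N19675 F67344))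
theorem Q20319 : ∀ i, i < 20319 → P i := stepQ 20318 Q20318 (allL N20318 (tt N22233 (iv F74205)) (tt N20675 F68618) (tt N21951 (iv F73091)) (tt N20676 (iv F68619)) (tt N17007 (iv D30671)) (tt N22234 D32591) (tt N21945 F73076))
theorem Q20320 : ∀ i, i < 20320 → P i := stepQ 20319 Q20319 (allL N20319 (tt N18263 F67346) (tt N22235 D32592) (tt N19686 F67347) (tt N17008 F67348) (tt N22234 (iv F74211)) (tt N17007 (iv D30672)) (tt N19674 F67349))
theorem Q20321 : ∀ i, i < 20321 → P i := stepQ 20320 Q20320 (allL N20320 (tt N20979 (iv F69744)) (tt N17008 (iv D30673)) (tt N20248 F67350) (tt N22235 (iv F74214)) (tt N21354 (iv F70954)) (tt N20865 (iv F69384)) (tt N18685 F67356))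
theorem Q20322 : ∀ i, i < 20322 → P i := stepQ 20321 Q20321 (allL N20321 (tt N19675 F67351) (tt N18670 (iv F67355)) (tt N17009 F67352) (tt N19674 F67353) (tt N21303 (iv F70748)) (tt N20314 F67354) (tt N17008 (iv D30674)))
theorem Q20323 : ∀ i, i < 20323 → P i := stepQ 20322 Q20322 (allL N20322 (tt N20324 (iv F67365)) (tt N18552 (iv F67360)) (tt N21359 (iv F70972)) (tt N17027 F67357) (tt N19462 F67358) (tt N17024 (iv D30675)) (tt N19457 F67359))
theorem Q20324 : ∀ i, i < 20324 → P i := stepQ 20323 Q20323 (allL N20323 (tt N22128 (iv F73787)) (tt N17025 (iv D30676)) (tt N22236 D32593) (tt N17028 F67361) (tt N18377 F67362) (tt N18552 F67363) (tt N18372 F67364))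
theorem Q20325 : ∀ i, i < 20325 → P i := stepQ 20324 Q20324 (allL N20324 (tt N20322 F67365) (tt N17029 F67366) (tt N22237 D32594) (tt N17026 (iv D30677)) (tt N18409 F67367) (tt N18392 F67368) (tt N21860 (iv F72708)))
theorem Q20326 : ∀ i, i < 20326 → P i := stepQ 20325 Q20325 (allL N20325 (tt N20166 F67369) (tt N21784 (iv F72399)) (tt N17029 (iv D30678)) (tt N22238 D32595) (tt N21052 (iv F69955)) (tt N21044 (iv F69937)) (tt N17051 F67370))
theorem Q20327 : ∀ i, i < 20327 → P i := stepQ 20326 Q20326 (allL N20326 (tt N17142 F67371) (tt N18446 F67372) (tt N22239 D32596) (tt N17030 (iv D30679)) (tt N17438 F67373) (tt N18326 F67374) (tt N17139 F67375))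
theorem Q20328 : ∀ i, i < 20328 → P i := stepQ 20327 Q20327 (allL N20327 (tt N19364 F67376) (tt N17031 (iv D30680)) (tt N19579 F67377) (tt N17398 F67378) (tt N17033 F67379) (tt N19745 (iv F67381)) (tt N17040 F67380))
theorem Q20329 : ∀ i, i < 20329 → P i := stepQ 20328 Q20328 (allL N20328 (tt N17563 F67382) (tt N19746 F67383) (tt N21018 (iv F69853)) (tt N17399 F67384) (tt N17034 F67385) (tt N17031 (iv D30681)) (tt N17520 F67386))
theorem Q20330 : ∀ i, i < 20330 → P i := stepQ 20329 Q20329 (allL N20329 (tt N21910 F72920) (tt N17032 (iv D30682)) (tt N17136 (iv F67390)) (tt N17035 F67387) (tt N17650 F67388) (tt N20334 (iv F67413)) (tt N17647 F67389))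
theorem Q20331 : ∀ i, i < 20331 → P i := stepQ 20330 Q20330 (allL N20330 (tt N17033 (iv D30683)) (tt N19361 F67392) (tt N17122 (iv F67397)) (tt N17036 F67393) (tt N19364 F67394) (tt N17132 F67396) (tt N17041 F67395))
theorem Q20332 : ∀ i, i < 20332 → P i := stepQ 20331 Q20331 (allL N20331 (tt N17122 F67398) (tt N19576 F67399) (tt N17033 (iv D30684)) (tt N17125 (iv F67402)) (tt N19579 F67400) (tt N17131 (iv F67403)) (tt N17042 F67401))
theorem Q20333 : ∀ i, i < 20333 → P i := stepQ 20332 Q20332 (allL N20332 (tt N17132 F67404) (tt N19743 F67409) (tt N17131 F67405) (tt N17038 F67406) (tt N19745 F67407) (tt N17033 (iv D30685)) (tt N19747 F67408))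
theorem Q20334 : ∀ i, i < 20334 → P i := stepQ 20333 Q20333 (allL N20333 (tt N21974 (iv F73174)) (tt N17034 (iv D30686)) (tt N20419 (iv F67732)) (tt N17039 F67410) (tt N19746 F67411) (tt N19743 F67412) (tt N20453 (iv F67850)))
theorem Q20335 : ∀ i, i < 20335 → P i := stepQ 20334 Q20334 (allL N20334 (tt N20447 F67828) (tt N21860 (iv F72705)) (tt N20399 (iv F67657)) (tt N17037 (iv D30687)) (tt N20687 (iv F68654)) (tt N20329 F67413) (tt N17046 F67414))
theorem Q20336 : ∀ i, i < 20336 → P i := stepQ 20335 Q20335 (allL N20335 (tt N21304 (iv F70750)) (tt N17041 (iv D30688)) (tt N19971 (iv F67418)) (tt N17044 F67415) (tt N19755 F67416) (tt N19752 F67417) (tt N22059 (iv F73535)))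
theorem Q20337 : ∀ i, i < 20337 → P i := stepQ 20336 Q20336 (allL N20336 (tt N17042 F67419) (tt N19836 (iv F67424)) (tt N17041 (iv D30689)) (tt N17127 (iv F67423)) (tt N19838 F67420) (tt N19841 F67421) (tt N17122 F67422))
theorem Q20338 : ∀ i, i < 20338 → P i := stepQ 20337 Q20337 (allL N20337 (tt N21825 F72574) (tt N17124 (iv F67427)) (tt N17046 (iv D30690)) (tt N17129 F67426) (tt N17720 F67425) (tt N17719 (iv F67428)) (tt N20399 (iv F67656)))
theorem Q20339 : ∀ i, i < 20339 → P i := stepQ 20338 Q20338 (allL N20338 (tt N17647 F67430) (tt N20802 (iv F69111)) (tt N17719 F67431) (tt N17047 F67432) (tt N17648 F67433) (tt N17046 (iv D30691)) (tt N21910 (iv F72919)))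
theorem Q20340 : ∀ i, i < 20340 → P i := stepQ 20339 Q20339 (allL N20339 (tt N17051 F67434) (tt N22240 D32597) (tt N17049 (iv D30692)) (tt N20286 F67436) (tt N21868 (iv F72737)) (tt N22241 D32598) (tt N20166 F67435))
theorem Q20341 : ∀ i, i < 20341 → P i := stepQ 20340 Q20340 (allL N20340 (tt N17053 F67437) (tt N18384 F67441) (tt N22241 (iv F74243)) (tt N17050 F67438) (tt N17463 F67439) (tt N17049 (iv D30693)) (tt N18269 F67440))
theorem Q20342 : ∀ i, i < 20342 → P i := stepQ 20341 Q20341 (allL N20341 (tt N20286 F67442) (tt N18217 F67443) (tt N20285 F67444) (tt N17051 (iv D30694)) (tt N20996 (iv F69794)) (tt N20835 (iv F69277)) (tt N22238 (iv F74230)))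
theorem Q20343 : ∀ i, i < 20343 → P i := stepQ 20342 Q20342 (allL N20342 (tt N21868 (iv F72736)) (tt N20649 F68529) (tt N17052 F67445) (tt N22242 D32599) (tt N17051 (iv D30695)) (tt N22005 (iv F73301)) (tt N21052 F69956))
theorem Q20344 : ∀ i, i < 20344 → P i := stepQ 20343 Q20343 (allL N20343 (tt N22241 (iv F74242)) (tt N20834 (iv F69272)) (tt N17053 F67446) (tt N20835 (iv F69275)) (tt N22005 (iv F73300)) (tt N17051 (iv D30696)) (tt N22137 (iv F73835)))
theorem Q20345 : ∀ i, i < 20345 → P i := stepQ 20344 Q20344 (allL N20344 (tt N17190 (iv F67448)) (tt N17053 (iv D30697)) (tt N19295 (iv F67449)) (tt N17054 F67447) (tt N20803 (iv F69120)) (tt N20802 (iv F69113)) (tt N20794 (iv F69083)))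
theorem Q20346 : ∀ i, i < 20346 → P i := stepQ 20345 Q20345 (allL N20345 (tt N17056 F67450) (tt N17149 F67451) (tt N17055 (iv D30698)) (tt N17730 F67455) (tt N17060 F67452) (tt N17729 F67453) (tt N17193 F67454))
theorem Q20347 : ∀ i, i < 20347 → P i := stepQ 20346 Q20346 (allL N20346 (tt N17729 F67456) (tt N19477 (iv F67461)) (tt N17057 F67457) (tt N17728 F67458) (tt N17062 F67459) (tt N17056 (iv D30699)) (tt N17436 F67460))
theorem Q20348 : ∀ i, i < 20348 → P i := stepQ 20347 Q20347 (allL N20347 (tt N17704 F67462) (tt N17057 (iv D30700)) (tt N17703 F67463) (tt N17402 F67464) (tt N17063 F67465) (tt N17058 F67466) (tt N20678 (iv F68627)))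
theorem Q20349 : ∀ i, i < 20349 → P i := stepQ 20348 Q20348 (allL N20348 (tt N17058 (iv D30701)) (tt N19335 F67467) (tt N17147 F67472) (tt N17404 F67468) (tt N17064 F67469) (tt N17704 F67470) (tt N17631 F67471))
theorem Q20350 : ∀ i, i < 20350 → P i := stepQ 20349 Q20349 (allL N20349 (tt N17147 F67473) (tt N19559 F67474) (tt N17058 (iv D30702)) (tt N17422 F67475) (tt N17065 F67476) (tt N17703 F67477) (tt N17632 F67478))
theorem Q20351 : ∀ i, i < 20351 → P i := stepQ 20350 Q20350 (allL N20350 (tt N17059 (iv D30703)) (tt N21304 (iv F70751)) (tt N18345 F67479) (tt N17067 F67480) (tt N18288 F67481) (tt N18272 F67482) (tt N18344 F67483))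
theorem Q20352 : ∀ i, i < 20352 → P i := stepQ 20351 Q20351 (allL N20351 (tt N17145 F67484) (tt N17060 (iv D30704)) (tt N17144 F67485) (tt N17662 F67486) (tt N17149 F67487) (tt N17269 F67488) (tt N17660 F67489))
theorem Q20353 : ∀ i, i < 20353 → P i := stepQ 20352 Q20352 (allL N20352 (tt N19478 F67490) (tt N17062 (iv D30705)) (tt N21865 (iv F72726)) (tt N17533 F67491) (tt N19477 F67492) (tt N20691 (iv F68672)) (tt N17532 F67493))
theorem Q20354 : ∀ i, i < 20354 → P i := stepQ 20353 Q20353 (allL N20353 (tt N17063 (iv D30706)) (tt N21119 (iv F70160)) (tt N17153 (iv F67497)) (tt N17074 F67494) (tt N17704 F67495) (tt N17064 F67496) (tt N20358 (iv F67515)))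
theorem Q20355 : ∀ i, i < 20355 → P i := stepQ 20354 Q20354 (allL N20354 (tt N17153 F67498) (tt N21865 (iv F72725)) (tt N17063 (iv D30707)) (tt N17165 (iv F67501)) (tt N17703 F67499) (tt N17065 F67500) (tt N20411 (iv F67699)))
theorem Q20356 : ∀ i, i < 20356 → P i := stepQ 20355 Q20355 (allL N20355 (tt N20358 (iv F67512)) (tt N20440 (iv F67806)) (tt N20411 (iv F67697)) (tt N17076 F67502) (tt N20678 (iv F68626)) (tt N20356 (iv F67507)) (tt N17063 (iv D30708)))
theorem Q20357 : ∀ i, i < 20357 → P i := stepQ 20356 Q20356 (allL N20356 (tt N17066 F67503) (tt N21761 (iv F72297)) (tt N17152 F67504) (tt N17079 F67505) (tt N17631 F67506) (tt N20355 F67507) (tt N17064 (iv D30709)))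
theorem Q20358 : ∀ i, i < 20358 → P i := stepQ 20357 Q20357 (allL N20357 (tt N17152 F67508) (tt N21172 (iv F70312)) (tt N17066 F67509) (tt N17160 F67510) (tt N17632 F67511) (tt N20412 (iv F67704)) (tt N17065 (iv D30710)))
theorem Q20359 : ∀ i, i < 20359 → P i := stepQ 20358 Q20358 (allL N20358 (tt N20355 F67512) (tt N20632 (iv F68458)) (tt N20412 (iv F67701)) (tt N17082 F67513) (tt N17633 F67514) (tt N17066 (iv D30711)) (tt N20353 F67515))
theorem Q20360 : ∀ i, i < 20360 → P i := stepQ 20359 Q20359 (allL N20359 (tt N17071 F67516) (tt N19958 F67517) (tt N19743 F67518) (tt N17173 F67519) (tt N17069 (iv D30712)) (tt N20419 (iv F67730)) (tt N17214 F67520))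
theorem Q20361 : ∀ i, i < 20361 → P i := stepQ 20360 Q20360 (allL N20360 (tt N19743 F67521) (tt N19230 F67522) (tt N17071 F67523) (tt N19920 F67524) (tt N17070 (iv D30713)) (tt N21974 (iv F73179)) (tt N17220 F67525))
theorem Q20362 : ∀ i, i < 20362 → P i := stepQ 20361 Q20361 (allL N20361 (tt N20419 (iv F67727)) (tt N17185 F67526) (tt N21974 (iv F73176)) (tt N17174 F67527) (tt N17072 F67528) (tt N17071 (iv D30714)) (tt N20450 (iv F67839)))
theorem Q20363 : ∀ i, i < 20363 → P i := stepQ 20362 Q20362 (allL N20362 (tt N22044 (iv F73455)) (tt N17072 (iv D30715)) (tt N22243 D32600) (tt N17073 F67529) (tt N17185 F67530) (tt N17091 F67531) (tt N22087 (iv F73653)))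
theorem Q20364 : ∀ i, i < 20364 → P i := stepQ 20363 Q20363 (allL N20363 (tt N17075 F67532) (tt N20415 (iv F67714)) (tt N17074 (iv D30716)) (tt N22244 D32601) (tt N17405 F67533) (tt N17078 F67534) (tt N20370 (iv F67555)))
theorem Q20365 : ∀ i, i < 20365 → P i := stepQ 20364 Q20364 (allL N20364 (tt N22244 (iv F74257)) (tt N21459 F71294) (tt N20385 (iv F67603)) (tt N17075 (iv D30717)) (tt N19740 F67535) (tt N17080 F67536) (tt N22245 D32602))
theorem Q20366 : ∀ i, i < 20366 → P i := stepQ 20365 Q20365 (allL N20365 (tt N20370 (iv F67551)) (tt N20413 (iv F67706)) (tt N17076 F67537) (tt N22245 (iv F74260)) (tt N17406 F67538) (tt N20368 (iv F67548)) (tt N17075 (iv D30718)))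
theorem Q20367 : ∀ i, i < 20367 → P i := stepQ 20366 Q20366 (allL N20366 (tt N19936 F67539) (tt N20026 F67540) (tt N17077 (iv D30719)) (tt N21893 (iv F72852)) (tt N17407 F67541) (tt N17292 F67542) (tt N19934 F67543))
theorem Q20368 : ∀ i, i < 20368 → P i := stepQ 20367 Q20367 (allL N20367 (tt N17080 F67544) (tt N22070 F73593) (tt N20417 (iv F67724)) (tt N17078 (iv D30720)) (tt N20688 (iv F68658)) (tt N22244 (iv F74259)) (tt N22246 D32603))
theorem Q20369 : ∀ i, i < 20369 → P i := stepQ 20368 Q20368 (allL N20368 (tt N17081 F67545) (tt N22045 (iv F73462)) (tt N17079 F67546) (tt N22246 (iv F74263)) (tt N17408 F67547) (tt N20365 F67548) (tt N17078 (iv D30721)))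
theorem Q20370 : ∀ i, i < 20370 → P i := stepQ 20369 Q20369 (allL N20369 (tt N22246 (iv F74262)) (tt N17178 F67549) (tt N20414 (iv F67712)) (tt N17081 F67550) (tt N20690 (iv F68667)) (tt N22247 D32604) (tt N17080 (iv D30722)))
theorem Q20371 : ∀ i, i < 20371 → P i := stepQ 20370 Q20370 (allL N20370 (tt N20365 F67551) (tt N19918 F67552) (tt N17082 F67553) (tt N22247 (iv F74267)) (tt N17409 F67554) (tt N17081 (iv D30723)) (tt N20363 F67555))
theorem Q20372 : ∀ i, i < 20372 → P i := stepQ 20371 Q20371 (allL N20371 (tt N17085 F67556) (tt N21250 (iv F70572)) (tt N21823 (iv F72564)) (tt N17083 (iv D30724)) (tt N21258 (iv F70603)) (tt N20071 F67557) (tt N21256 (iv F70597)))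
theorem Q20373 : ∀ i, i < 20373 → P i := stepQ 20372 Q20372 (allL N20372 (tt N20380 (iv F67584)) (tt N17085 F67558) (tt N20398 F67653) (tt N17084 (iv D30725)) (tt N17300 F67559) (tt N17298 F67560) (tt N20378 (iv F67577)))
theorem Q20374 : ∀ i, i < 20374 → P i := stepQ 20373 Q20373 (allL N20373 (tt N21823 (iv F72563)) (tt N18298 (iv F67654)) (tt N17085 (iv D30726)) (tt N20997 (iv F69796)) (tt N21821 (iv F72557)) (tt N21001 (iv F69804)) (tt N22248 D32605))
theorem Q20375 : ∀ i, i < 20375 → P i := stepQ 20374 Q20374 (allL N20374 (tt N21258 (iv F70600)) (tt N17300 F67561) (tt N21821 (iv F72556)) (tt N17303 F67562) (tt N17085 (iv D30727)) (tt N22249 D32606) (tt N21255 (iv F70592)))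
theorem Q20376 : ∀ i, i < 20376 → P i := stepQ 20375 Q20375 (allL N20375 (tt N20071 F67563) (tt N21796 (iv F72447)) (tt N21001 F69805) (tt N17086 F67564) (tt N22249 (iv F74278)) (tt N17085 (iv D30728)) (tt N20276 (iv F67565)))
theorem Q20377 : ∀ i, i < 20377 → P i := stepQ 20376 Q20376 (allL N20376 (tt N21256 (iv F70593)) (tt N22063 (iv F73552)) (tt N22248 (iv F74272)) (tt N17087 F67566) (tt N21255 (iv F70591)) (tt N20035 F67567) (tt N17085 (iv D30729)))
theorem Q20378 : ∀ i, i < 20378 → P i := stepQ 20377 Q20377 (allL N20377 (tt N19318 F67572) (tt N17086 (iv D30730)) (tt N17469 F67568) (tt N21796 (iv F72451)) (tt N17411 F67569) (tt N17466 F67570) (tt N18564 F67571))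
theorem Q20379 : ∀ i, i < 20379 → P i := stepQ 20378 Q20378 (allL N20378 (tt N17089 F67573) (tt N19971 F67574) (tt N19836 (iv F67578)) (tt N17088 (iv D30731)) (tt N17156 F67575) (tt N17290 F67576) (tt N20372 F67577))
theorem Q20380 : ∀ i, i < 20380 → P i := stepQ 20379 Q20379 (allL N20379 (tt N19836 F67579) (tt N19467 F67580) (tt N17089 (iv D30732)) (tt N19981 (iv F67583)) (tt N17157 F67581) (tt N17296 F67582) (tt N22012 (iv F73327)))
theorem Q20381 : ∀ i, i < 20381 → P i := stepQ 20380 Q20380 (allL N20380 (tt N20372 F67584) (tt N17106 F67585) (tt N22012 (iv F73324)) (tt N17090 F67586) (tt N17158 F67587) (tt N20508 (iv F68025)) (tt N17089 (iv D30733)))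
theorem Q20382 : ∀ i, i < 20382 → P i := stepQ 20381 Q20381 (allL N20381 (tt N17091 (iv D30734)) (tt N19268 F67588) (tt N21347 (iv F70928)) (tt N17092 F67589) (tt N17183 F67590) (tt N22044 (iv F73458)) (tt N20045 F67591))
theorem Q20383 : ∀ i, i < 20383 → P i := stepQ 20382 Q20382 (allL N20382 (tt N21347 (iv F70926)) (tt N21324 (iv F70826)) (tt N17091 (iv D30735)) (tt N22250 D32607) (tt N17184 F67592) (tt N22243 (iv F74255)) (tt N20049 F67593))
theorem Q20384 : ∀ i, i < 20384 → P i := stepQ 20383 Q20383 (allL N20383 (tt N21448 F71261) (tt N17095 F67594) (tt N19889 (iv F67597)) (tt N17093 (iv D30736)) (tt N18854 F67595) (tt N21459 (iv F71293)) (tt N18852 F67596))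
theorem Q20385 : ∀ i, i < 20385 → P i := stepQ 20384 Q20384 (allL N20384 (tt N17096 (iv D30737)) (tt N22047 (iv F73472)) (tt N17165 F67598) (tt N22251 D32608) (tt N17412 F67599) (tt N17164 F67600) (tt N20415 (iv F67717)))
theorem Q20386 : ∀ i, i < 20386 → P i := stepQ 20385 Q20385 (allL N20385 (tt N22251 (iv F74284)) (tt N17097 F67601) (tt N20364 F67603) (tt N17096 (iv D30738)) (tt N20697 (iv F68695)) (tt N17166 F67602) (tt N22252 D32609))
theorem Q20387 : ∀ i, i < 20387 → P i := stepQ 20386 Q20386 (allL N20386 (tt N20415 (iv F67713)) (tt N19905 F67604) (tt N17167 F67605) (tt N22252 (iv F74289)) (tt N17413 F67606) (tt N20413 (iv F67708)) (tt N17096 (iv D30739)))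
theorem Q20388 : ∀ i, i < 20388 → P i := stepQ 20387 Q20387 (allL N20387 (tt N17238 F67607) (tt N17103 F67608) (tt N18669 F67612) (tt N17102 (iv D30740)) (tt N19501 F67609) (tt N18781 F67610) (tt N18683 F67611))
theorem Q20389 : ∀ i, i < 20389 → P i := stepQ 20388 Q20388 (allL N20388 (tt N17105 F67613) (tt N19501 F67614) (tt N21339 (iv F70894)) (tt N17175 F67615) (tt N17103 (iv D30741)) (tt N20025 F67616) (tt N22046 (iv F73469)))
theorem Q20390 : ∀ i, i < 20390 → P i := stepQ 20389 Q20389 (allL N20389 (tt N21339 (iv F70892)) (tt N21329 (iv F70851)) (tt N17105 F67617) (tt N22253 D32610) (tt N17104 (iv D30742)) (tt N20029 F67618) (tt N22254 D32611))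
theorem Q20391 : ∀ i, i < 20391 → P i := stepQ 20390 Q20390 (allL N20390 (tt N21340 (iv F70896)) (tt N18045 F67619) (tt N17106 F67620) (tt N18048 F67621) (tt N22254 (iv F74299)) (tt N21772 (iv F72344)) (tt N17104 (iv D30743)))
theorem Q20392 : ∀ i, i < 20392 → P i := stepQ 20391 Q20391 (allL N20391 (tt N22046 (iv F73465)) (tt N17158 F67622) (tt N22254 (iv F74297)) (tt N17159 F67623) (tt N17106 F67624) (tt N22074 (iv F73611)) (tt N17105 (iv D30744)))
theorem Q20393 : ∀ i, i < 20393 → P i := stepQ 20392 Q20392 (allL N20392 (tt N20394 (iv F67633)) (tt N18544 (iv F67628)) (tt N21405 (iv F71121)) (tt N17118 F67625) (tt N19662 F67626) (tt N19657 F67627) (tt N17114 (iv D30745)))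
theorem Q20394 : ∀ i, i < 20394 → P i := stepQ 20393 Q20393 (allL N20393 (tt N22124 (iv F73768)) (tt N17115 (iv D30746)) (tt N22255 D32612) (tt N17119 F67629) (tt N18437 F67630) (tt N18433 F67631) (tt N18544 F67632))
theorem Q20395 : ∀ i, i < 20395 → P i := stepQ 20394 Q20394 (allL N20394 (tt N20392 F67633) (tt N17120 F67634) (tt N22256 D32613) (tt N17117 (iv D30747)) (tt N18467 F67635) (tt N21934 (iv F73024)) (tt N18454 F67636))
theorem Q20396 : ∀ i, i < 20396 → P i := stepQ 20395 Q20395 (allL N20395 (tt N20183 F67637) (tt N21881 (iv F72797)) (tt N17120 (iv D30748)) (tt N22257 D32614) (tt N21087 (iv F70068)) (tt N17140 F67638) (tt N21081 (iv F70058)))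
theorem Q20397 : ∀ i, i < 20397 → P i := stepQ 20396 Q20396 (allL N20396 (tt N19579 F67639) (tt N17121 (iv D30749)) (tt N19364 F67640) (tt N17416 F67641) (tt N17122 F67642) (tt N17130 F67643) (tt N19838 F67644))
theorem Q20398 : ∀ i, i < 20398 → P i := stepQ 20397 Q20397 (allL N20397 (tt N17591 F67645) (tt N19839 F67646) (tt N21057 (iv F69976)) (tt N17417 F67647) (tt N17123 F67648) (tt N17521 F67649) (tt N17121 (iv D30750)))
theorem Q20399 : ∀ i, i < 20399 → P i := stepQ 20398 Q20398 (allL N20398 (tt N22012 (iv F73322)) (tt N17123 (iv D30751)) (tt N20372 (iv F67653)) (tt N17128 F67650) (tt N19839 F67651) (tt N20511 (iv F68036)) (tt N19836 F67652))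
theorem Q20400 : ∀ i, i < 20400 → P i := stepQ 20399 Q20399 (allL N20399 (tt N20505 F68014) (tt N21934 (iv F73020)) (tt N20334 F67657) (tt N17126 (iv D30752)) (tt N20724 (iv F68804)) (tt N17136 F67655) (tt N20337 F67656))
theorem Q20401 : ∀ i, i < 20401 → P i := stepQ 20400 Q20400 (allL N20400 (tt N21315 (iv F70791)) (tt N17131 (iv D30753)) (tt N19958 F67658) (tt N17134 F67659) (tt N19852 F67660) (tt N22054 (iv F73508)) (tt N19847 F67661))
theorem Q20402 : ∀ i, i < 20402 → P i := stepQ 20401 Q20401 (allL N20401 (tt N17719 F67662) (tt N20812 (iv F69164)) (tt N17647 F67663) (tt N17137 F67664) (tt N17649 F67665) (tt N21825 (iv F72572)) (tt N17136 (iv D30754)))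
theorem Q20403 : ∀ i, i < 20403 → P i := stepQ 20402 Q20402 (allL N20402 (tt N17140 F67666) (tt N22258 D32615) (tt N17139 (iv D30755)) (tt N20306 F67668) (tt N21764 (iv F72308)) (tt N20183 F67667) (tt N22239 (iv F74236)))
theorem Q20404 : ∀ i, i < 20404 → P i := stepQ 20403 Q20403 (allL N20403 (tt N20306 F67669) (tt N18191 F67670) (tt N20305 F67671) (tt N17140 (iv D30756)) (tt N20970 (iv F69727)) (tt N22257 (iv F74313)) (tt N20832 (iv F69267)))
theorem Q20405 : ∀ i, i < 20405 → P i := stepQ 20404 Q20404 (allL N20404 (tt N21764 (iv F72307)) (tt N20622 F68439) (tt N17141 F67672) (tt N22259 D32616) (tt N17140 (iv D30757)) (tt N21087 F70069) (tt N21967 (iv F73156)))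
theorem Q20406 : ∀ i, i < 20406 → P i := stepQ 20405 Q20405 (allL N20405 (tt N22239 (iv F74232)) (tt N20831 (iv F69262)) (tt N17142 F67673) (tt N20832 (iv F69265)) (tt N21967 (iv F73154)) (tt N22136 (iv F73830)) (tt N17140 (iv D30758)))
theorem Q20407 : ∀ i, i < 20407 → P i := stepQ 20406 Q20406 (allL N20406 (tt N17265 (iv F67675)) (tt N17142 (iv D30759)) (tt N19523 (iv F67676)) (tt N17143 F67674) (tt N20813 (iv F69173)) (tt N20798 (iv F69096)) (tt N20812 (iv F69167)))
theorem Q20408 : ∀ i, i < 20408 → P i := stepQ 20407 Q20407 (allL N20407 (tt N17660 F67677) (tt N19241 (iv F67682)) (tt N17146 F67678) (tt N17659 F67679) (tt N17151 F67680) (tt N17461 F67681) (tt N17145 (iv D30760)))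
theorem Q20409 : ∀ i, i < 20409 → P i := stepQ 20408 Q20408 (allL N20408 (tt N17632 F67683) (tt N17146 (iv D30761)) (tt N17631 F67684) (tt N17420 F67685) (tt N17152 F67686) (tt N20715 (iv F68776)) (tt N17147 F67687))
theorem Q20410 : ∀ i, i < 20410 → P i := stepQ 20409 Q20409 (allL N20409 (tt N17148 (iv D30762)) (tt N21315 (iv F70792)) (tt N18288 F67688) (tt N17154 F67689) (tt N18345 F67690) (tt N18287 F67691) (tt N18329 F67692))
theorem Q20411 : ∀ i, i < 20411 → P i := stepQ 20410 Q20410 (allL N20410 (tt N19242 F67693) (tt N17151 (iv D30763)) (tt N21761 (iv F72298)) (tt N17529 F67694) (tt N19241 F67695) (tt N17528 F67696) (tt N20726 (iv F68814)))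
theorem Q20412 : ∀ i, i < 20412 → P i := stepQ 20411 Q20411 (allL N20411 (tt N20412 (iv F67700)) (tt N20498 (iv F67989)) (tt N20355 F67697) (tt N17162 F67698) (tt N20715 (iv F68775)) (tt N17152 (iv D30764)) (tt N20354 F67699))
theorem Q20413 : ∀ i, i < 20413 → P i := stepQ 20412 Q20412 (allL N20412 (tt N20411 F67700) (tt N20659 (iv F68548)) (tt N20358 F67701) (tt N17167 F67702) (tt N17705 F67703) (tt N20357 F67704) (tt N17153 (iv D30765)))
theorem Q20414 : ∀ i, i < 20414 → P i := stepQ 20413 Q20413 (allL N20413 (tt N17161 F67705) (tt N20365 F67706) (tt N17160 (iv D30766)) (tt N22260 D32617) (tt N17423 F67707) (tt N20386 F67708) (tt N17164 F67709))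
theorem Q20415 : ∀ i, i < 20415 → P i := stepQ 20414 Q20414 (allL N20414 (tt N22260 (iv F74323)) (tt N21501 F71423) (tt N20369 F67712) (tt N17161 (iv D30767)) (tt N19834 F67710) (tt N22261 D32618) (tt N17166 F67711))
theorem Q20416 : ∀ i, i < 20416 → P i := stepQ 20415 Q20415 (allL N20415 (tt N20386 F67713) (tt N20363 F67714) (tt N17162 F67715) (tt N22261 (iv F74332)) (tt N17424 F67716) (tt N17161 (iv D30768)) (tt N20384 F67717))
theorem Q20417 : ∀ i, i < 20417 → P i := stepQ 20416 Q20416 (allL N20416 (tt N19995 F67718) (tt N20046 F67719) (tt N17163 (iv D30769)) (tt N21801 (iv F72479)) (tt N17425 F67720) (tt N19993 F67721) (tt N17216 F67722))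
theorem Q20418 : ∀ i, i < 20418 → P i := stepQ 20417 Q20417 (allL N20417 (tt N17166 F67723) (tt N22083 F73635) (tt N20367 F67724) (tt N17164 (iv D30770)) (tt N20725 (iv F68809)) (tt N22251 (iv F74286)) (tt N22260 (iv F74328)))
theorem Q20419 : ∀ i, i < 20419 → P i := stepQ 20418 Q20418 (allL N20418 (tt N17170 F67725) (tt N21239 (iv F70529)) (tt N21908 (iv F72909)) (tt N17168 (iv D30771)) (tt N21248 (iv F70565)) (tt N21246 (iv F70558)) (tt N20082 F67726))
theorem Q20420 : ∀ i, i < 20420 → P i := stepQ 20419 Q20419 (allL N20419 (tt N20361 F67727) (tt N17170 F67728) (tt N20333 F67732) (tt N17169 (iv D30772)) (tt N17224 F67729) (tt N20359 F67730) (tt N17222 F67731))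
theorem Q20421 : ∀ i, i < 20421 → P i := stepQ 20420 Q20420 (allL N20420 (tt N21908 (iv F72908)) (tt N18240 F67733) (tt N17170 (iv D30773)) (tt N20971 (iv F69729)) (tt N21906 (iv F72902)) (tt N22262 D32619) (tt N20975 (iv F69737)))
theorem Q20422 : ∀ i, i < 20422 → P i := stepQ 20421 Q20421 (allL N20421 (tt N21248 (iv F70562)) (tt N17224 F67734) (tt N21906 (iv F72901)) (tt N17227 F67735) (tt N17170 (iv D30774)) (tt N21244 (iv F70549)) (tt N22263 D32620))
theorem Q20423 : ∀ i, i < 20423 → P i := stepQ 20422 Q20422 (allL N20422 (tt N21246 (iv F70555)) (tt N22058 (iv F73526)) (tt N22262 (iv F74337)) (tt N17171 F67736) (tt N21244 (iv F70548)) (tt N17170 (iv D30775)) (tt N20055 F67737))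
theorem Q20424 : ∀ i, i < 20424 → P i := stepQ 20423 Q20423 (allL N20423 (tt N20082 F67738) (tt N21890 (iv F72833)) (tt N20975 F69738) (tt N17172 F67739) (tt N22263 (iv F74343)) (tt N20265 (iv F67740)) (tt N17170 (iv D30776)))
theorem Q20425 : ∀ i, i < 20425 → P i := stepQ 20424 Q20424 (allL N20424 (tt N19545 F67745) (tt N17172 (iv D30777)) (tt N17444 F67741) (tt N21890 (iv F72837)) (tt N17427 F67742) (tt N18569 F67743) (tt N17441 F67744))
theorem Q20426 : ∀ i, i < 20426 → P i := stepQ 20425 Q20425 (allL N20425 (tt N21490 (iv F71385)) (tt N17177 F67746) (tt N19871 (iv F67749)) (tt N17176 (iv D30778)) (tt N18908 F67747) (tt N18907 F67748) (tt N21501 (iv F71422)))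
theorem Q20427 : ∀ i, i < 20427 → P i := stepQ 20426 Q20426 (allL N20426 (tt N17314 F67750) (tt N17183 F67751) (tt N18674 F67755) (tt N17182 (iv D30779)) (tt N19268 F67752) (tt N18694 F67753) (tt N18832 F67754))
theorem Q20428 : ∀ i, i < 20428 → P i := stepQ 20427 Q20427 (allL N20427 (tt N21348 (iv F70930)) (tt N18074 F67756) (tt N17185 F67757) (tt N18077 F67758) (tt N22243 (iv F74254)) (tt N17184 (iv D30780)) (tt N21788 (iv F72414)))
theorem Q20429 : ∀ i, i < 20429 → P i := stepQ 20428 Q20428 (allL N20428 (tt N20008 F67759) (tt N18068 F67760) (tt N17187 (iv D30781)) (tt N18813 F67761) (tt N18065 F67762) (tt N21768 (iv F72324)) (tt N18649 F67763))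
theorem Q20430 : ∀ i, i < 20430 → P i := stepQ 20429 Q20429 (allL N20429 (tt N17188 (iv D30782)) (tt N19396 F67764) (tt N20475 (iv F67913)) (tt N17626 F67765) (tt N20152 F67766) (tt N18248 F67768) (tt N19399 F67767))
theorem Q20431 : ∀ i, i < 20431 → P i := stepQ 20430 Q20430 (allL N20430 (tt N18248 F67769) (tt N18273 F67770) (tt N22165 (iv F73935)) (tt N17627 F67771) (tt N20154 F67772) (tt N17188 (iv D30783)) (tt N21099 (iv F70106)))
theorem Q20432 : ∀ i, i < 20432 → P i := stepQ 20431 Q20431 (allL N20431 (tt N17189 (iv D30784)) (tt N20698 (iv F68699)) (tt N17528 F67776) (tt N17191 F67773) (tt N19225 F67774) (tt N21761 (iv F72301)) (tt N19230 F67775))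
theorem Q20433 : ∀ i, i < 20433 → P i := stepQ 20432 Q20432 (allL N20432 (tt N17528 F67777) (tt N20169 F67778) (tt N17189 (iv D30785)) (tt N17527 F67779) (tt N19226 F67780) (tt N19242 F67782) (tt N17726 F67781))
theorem Q20434 : ∀ i, i < 20434 → P i := stepQ 20433 Q20433 (allL N20433 (tt N21761 (iv F72296)) (tt N19601 F67783) (tt N19242 F67784) (tt N17192 F67785) (tt N19227 F67786) (tt N17189 (iv D30786)) (tt N20904 (iv F69547)))
theorem Q20435 : ∀ i, i < 20435 → P i := stepQ 20434 Q20434 (allL N20434 (tt N19295 F67787) (tt N22150 (iv F73881)) (tt N17190 (iv D30787)) (tt N19284 F67788) (tt N21091 (iv F70088)) (tt N22167 (iv F73943)) (tt N21098 (iv F70101)))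
theorem Q20436 : ∀ i, i < 20436 → P i := stepQ 20435 Q20435 (allL N20435 (tt N21876 (iv F72773)) (tt N17195 (iv D30788)) (tt N22264 D32621) (tt N17763 F67789) (tt N17203 F67790) (tt N21876 (iv F72776)) (tt N17760 F67791))
theorem Q20437 : ∀ i, i < 20437 → P i := stepQ 20436 Q20436 (allL N20436 (tt N21955 (iv F73103)) (tt N22264 (iv F74346)) (tt N17196 (iv D30789)) (tt N21375 (iv F71022)) (tt N17206 F67792) (tt N17198 F67793) (tt N22265 D32622))
theorem Q20438 : ∀ i, i < 20438 → P i := stepQ 20437 Q20437 (allL N20437 (tt N19234 F67794) (tt N18492 F67795) (tt N22265 (iv F74353)) (tt N17437 F67796) (tt N17207 F67797) (tt N19232 F67798) (tt N17196 (iv D30790)))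
theorem Q20439 : ∀ i, i < 20439 → P i := stepQ 20438 Q20438 (allL N20438 (tt N17201 (iv D30791)) (tt N20234 F67799) (tt N20457 (iv F67864)) (tt N17217 F67800) (tt N17675 F67801) (tt N17674 F67802) (tt N20674 (iv F68613)))
theorem Q20440 : ∀ i, i < 20440 → P i := stepQ 20439 Q20439 (allL N20439 (tt N20457 (iv F67863)) (tt N19547 F67803) (tt N17201 (iv D30792)) (tt N21699 (iv F72070)) (tt N18394 F67804) (tt N18383 F67805) (tt N22266 D32623))
theorem Q20441 : ∀ i, i < 20441 → P i := stepQ 20440 Q20440 (allL N20440 (tt N20674 (iv F68609)) (tt N20355 F67806) (tt N22266 (iv F74357)) (tt N17219 F67807) (tt N18396 F67808) (tt N20698 (iv F68703)) (tt N17201 (iv D30793)))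
theorem Q20442 : ∀ i, i < 20442 → P i := stepQ 20441 Q20441 (allL N20441 (tt N20188 F67809) (tt N17206 F67810) (tt N17203 (iv D30794)) (tt N21489 (iv F71382)) (tt N22264 (iv F74347)) (tt N20188 F67811) (tt N20768 (iv F68997)))
theorem Q20443 : ∀ i, i < 20443 → P i := stepQ 20442 Q20442 (allL N20442 (tt N17206 F67812) (tt N20532 F68100) (tt N17205 (iv D30795)) (tt N20769 (iv F69000)) (tt N21955 (iv F73104)) (tt N17209 F67813) (tt N20449 (iv F67833)))
theorem Q20444 : ∀ i, i < 20444 → P i := stepQ 20443 Q20443 (allL N20443 (tt N20769 (iv F68998)) (tt N21489 (iv F71380)) (tt N22030 (iv F73397)) (tt N17206 (iv D30796)) (tt N18871 (iv F67815)) (tt N17211 F67814) (tt N20786 F69056))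
theorem Q20445 : ∀ i, i < 20445 → P i := stepQ 20444 Q20444 (allL N20444 (tt N20449 (iv F67831)) (tt N17796 (iv F67817)) (tt N17207 F67816) (tt N20786 (iv F69053)) (tt N22265 (iv F74355)) (tt N20446 (iv F67824)) (tt N17206 (iv D30797)))
theorem Q20446 : ∀ i, i < 20446 → P i := stepQ 20445 Q20445 (allL N20445 (tt N20805 (iv F69128)) (tt N18340 F67818) (tt N18338 F67819) (tt N17228 F67820) (tt N20804 (iv F69124)) (tt N17208 (iv D30798)) (tt N19172 F67821))
theorem Q20447 : ∀ i, i < 20447 → P i := stepQ 20446 Q20446 (allL N20446 (tt N17212 F67822) (tt N20504 (iv F68007)) (tt N17210 F67823) (tt N20770 (iv F69004)) (tt N21762 (iv F72303)) (tt N20444 F67824) (tt N17209 (iv D30799)))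
theorem Q20448 : ∀ i, i < 20448 → P i := stepQ 20447 Q20447 (allL N20447 (tt N20334 (iv F67828)) (tt N17210 (iv D30800)) (tt N20505 (iv F68010)) (tt N17229 F67825) (tt N19738 F67826) (tt N21910 (iv F72918)) (tt N19734 F67827))
theorem Q20449 : ∀ i, i < 20449 → P i := stepQ 20448 Q20448 (allL N20448 (tt N20770 (iv F69002)) (tt N22037 (iv F73422)) (tt N20771 F69010) (tt N17212 F67829) (tt N18872 F67830) (tt N22267 D32624) (tt N17211 (iv D30801)))
theorem Q20450 : ∀ i, i < 20450 → P i := stepQ 20449 Q20449 (allL N20449 (tt N20444 F67831) (tt N21065 (iv F70003)) (tt N17213 F67832) (tt N22267 (iv F74362)) (tt N21763 (iv F72306)) (tt N17212 (iv D30802)) (tt N20442 F67833))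
theorem Q20451 : ∀ i, i < 20451 → P i := stepQ 20450 Q20450 (allL N20450 (tt N17222 F67834) (tt N19935 F67835) (tt N19742 F67836) (tt N17439 F67837) (tt N17215 F67838) (tt N17214 (iv D30803)) (tt N20361 F67839))
theorem Q20452 : ∀ i, i < 20452 → P i := stepQ 20451 Q20451 (allL N20451 (tt N21331 (iv F70860)) (tt N17215 (iv D30804)) (tt N21802 (iv F72483)) (tt N17216 F67840) (tt N19935 F67841) (tt N20015 F67842) (tt N21801 (iv F72481)))
theorem Q20453 : ∀ i, i < 20453 → P i := stepQ 20452 Q20452 (allL N20452 (tt N19846 F67843) (tt N21330 (iv F70854)) (tt N21301 F70739) (tt N17218 (iv D30805)) (tt N19848 F67844) (tt N18544 F67845) (tt N21172 (iv F70315)))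
theorem Q20454 : ∀ i, i < 20454 → P i := stepQ 20453 Q20453 (allL N20453 (tt N19742 F67846) (tt N20823 (iv F69222)) (tt N17222 F67847) (tt N18542 F67848) (tt N17221 F67849) (tt N17220 (iv D30806)) (tt N20333 F67850))
theorem Q20455 : ∀ i, i < 20455 → P i := stepQ 20454 Q20454 (allL N20454 (tt N20456 (iv F67859)) (tt N22263 (iv F74340)) (tt N19698 F67851) (tt N17226 F67852) (tt N21890 (iv F72834)) (tt N19694 F67853) (tt N17223 (iv D30807)))
theorem Q20456 : ∀ i, i < 20456 → P i := stepQ 20455 Q20455 (allL N20455 (tt N20064 F67854) (tt N17226 (iv D30808)) (tt N18525 F67855) (tt N22263 (iv F74342)) (tt N17426 F67856) (tt N18560 F67857) (tt N17227 F67858))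
theorem Q20457 : ∀ i, i < 20457 → P i := stepQ 20456 Q20456 (allL N20456 (tt N20454 F67859) (tt N21799 (iv F72464)) (tt N19697 F67860) (tt N17234 F67861) (tt N21892 (iv F72847)) (tt N17233 (iv D30809)) (tt N19693 F67862))
theorem Q20458 : ∀ i, i < 20458 → P i := stepQ 20457 Q20457 (allL N20457 (tt N20439 F67863) (tt N20551 (iv F68161)) (tt N20438 F67864) (tt N19687 F67865) (tt N17236 F67866) (tt N17235 (iv D30810)) (tt N22268 D32625))
theorem Q20459 : ∀ i, i < 20459 → P i := stepQ 20458 Q20458 (allL N20458 (tt N21124 (iv F70180)) (tt N17259 F67867) (tt N20698 (iv F68700)) (tt N19688 F67868) (tt N17237 F67869) (tt N22266 (iv F74360)) (tt N17235 (iv D30811)))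
theorem Q20460 : ∀ i, i < 20460 → P i := stepQ 20459 Q20459 (allL N20459 (tt N20460 (iv F67872)) (tt N22269 D32626) (tt N17624 F67870) (tt N20545 (iv F68141)) (tt N22268 (iv F74369)) (tt N18395 F67871) (tt N17236 (iv D30812)))
theorem Q20461 : ∀ i, i < 20461 → P i := stepQ 20460 Q20460 (allL N20460 (tt N20459 F67872) (tt N20517 (iv F68056)) (tt N18396 F67873) (tt N17739 F67874) (tt N22266 (iv F74359)) (tt N17237 (iv D30813)) (tt N18394 F67875))
theorem Q20462 : ∀ i, i < 20462 → P i := stepQ 20461 Q20461 (allL N20461 (tt N18669 F67876) (tt N19674 F67877) (tt N17238 (iv D30814)) (tt N18670 F67879) (tt N19502 F67878) (tt N18780 (iv F67880)) (tt N18682 (iv F67881)))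
theorem Q20463 : ∀ i, i < 20463 → P i := stepQ 20462 Q20462 (allL N20462 (tt N18781 F67882) (tt N22067 (iv F73574)) (tt N18780 F67883) (tt N17239 F67884) (tt N19496 F67885) (tt N17238 (iv D30815)) (tt N21308 (iv F70766)))
theorem Q20464 : ∀ i, i < 20464 → P i := stepQ 20463 Q20463 (allL N20463 (tt N18683 F67886) (tt N19270 (iv F67890)) (tt N18682 F67887) (tt N17240 F67888) (tt N19503 F67889) (tt N21387 (iv F71064)) (tt N17238 (iv D30816)))
theorem Q20465 : ∀ i, i < 20465 → P i := stepQ 20464 Q20464 (allL N20464 (tt N17248 F67891) (tt N19684 F67892) (tt N17242 F67893) (tt N21123 (iv F70178)) (tt N17241 (iv D30817)) (tt N22142 (iv F73855)) (tt N22204 (iv F74080)))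
theorem Q20466 : ∀ i, i < 20466 → P i := stepQ 20465 Q20465 (allL N20465 (tt N17249 F67894) (tt N17797 F67895) (tt N17243 F67896) (tt N20787 (iv F69057)) (tt N22142 (iv F73854)) (tt N17241 (iv D30818)) (tt N20476 (iv F67917)))
theorem Q20467 : ∀ i, i < 20467 → P i := stepQ 20466 Q20466 (allL N20466 (tt N17250 F67897) (tt N22270 D32627) (tt N17244 F67898) (tt N22015 (iv F73340)) (tt N22204 (iv F74078)) (tt N20474 (iv F67912)) (tt N17241 (iv D30819)))
theorem Q20468 : ∀ i, i < 20468 → P i := stepQ 20467 Q20467 (allL N20467 (tt N20000 (iv F67901)) (tt N17243 (iv D30820)) (tt N21998 (iv F73272)) (tt N17245 F67899) (tt N21992 (iv F73247)) (tt N22067 (iv F73578)) (tt N19996 F67900))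
theorem Q20469 : ∀ i, i < 20469 → P i := stepQ 20468 Q20468 (allL N20468 (tt N21323 (iv F70820)) (tt N17244 (iv D30821)) (tt N21428 (iv F71193)) (tt N17246 F67902) (tt N21431 (iv F71205)) (tt N21427 F71191) (tt N19270 F67903))
theorem Q20470 : ∀ i, i < 20470 → P i := stepQ 20469 Q20469 (allL N20469 (tt N18921 F67904) (tt N20546 (iv F68144)) (tt N17379 F67905) (tt N21130 (iv F70197)) (tt N17247 (iv D30822)) (tt N22271 D32628) (tt N22272 D32629))
theorem Q20471 : ∀ i, i < 20471 → P i := stepQ 20470 Q20470 (allL N20470 (tt N20787 (iv F69060)) (tt N22273 D32630) (tt N20784 (iv F69044)) (tt N17249 F67906) (tt N22271 (iv F74382)) (tt N17247 (iv D30823)) (tt N22274 D32631))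
theorem Q20472 : ∀ i, i < 20472 → P i := stepQ 20471 Q20471 (allL N20471 (tt N22015 (iv F73338)) (tt N22275 D32632) (tt N20785 (iv F69050)) (tt N17250 F67907) (tt N22272 (iv F74387)) (tt N22276 D32633) (tt N17247 (iv D30824)))
theorem Q20473 : ∀ i, i < 20473 → P i := stepQ 20472 Q20472 (allL N20472 (tt N21123 (iv F70176)) (tt N20565 (iv F68206)) (tt N19121 F67908) (tt N17248 (iv D30825)) (tt N21130 (iv F70198)) (tt N22144 (iv F73862)) (tt N21141 (iv F70223)))
theorem Q20474 : ∀ i, i < 20474 → P i := stepQ 20473 Q20473 (allL N20473 (tt N20473 F67909) (tt N17249 (iv D30826)) (tt N20473 F67910) (tt N22273 (iv F74389)) (tt N22143 (iv F73859)) (tt N20568 (iv F68218)) (tt N22277 D32634))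
theorem Q20475 : ∀ i, i < 20475 → P i := stepQ 20474 Q20474 (allL N20474 (tt N20476 (iv F67915)) (tt N22278 D32635) (tt N17251 F67911) (tt N22274 (iv F74391)) (tt N21443 (iv F71241)) (tt N20466 F67912) (tt N17249 (iv D30827)))
theorem Q20476 : ∀ i, i < 20476 → P i := stepQ 20475 Q20475 (allL N20475 (tt N20195 (iv F67914)) (tt N17250 (iv D30828)) (tt N20429 F67913) (tt N22275 (iv F74396)) (tt N21144 F70238) (tt N21027 (iv F69886)) (tt N20569 (iv F68223)))
theorem Q20477 : ∀ i, i < 20477 → P i := stepQ 20476 Q20476 (allL N20476 (tt N20474 F67915) (tt N20500 (iv F67996)) (tt N17252 F67916) (tt N22276 (iv F74400)) (tt N22205 (iv F74084)) (tt N17250 (iv D30829)) (tt N20465 F67917))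
theorem Q20478 : ∀ i, i < 20478 → P i := stepQ 20477 Q20477 (allL N20477 (tt N17253 (iv D30830)) (tt N19993 F67918) (tt N22064 (iv F73558)) (tt N21327 (iv F70843)) (tt N17448 F67919) (tt N20043 F67921) (tt N20477 F67920))
theorem Q20479 : ∀ i, i < 20479 → P i := stepQ 20478 Q20478 (allL N20478 (tt N22064 (iv F73557)) (tt N17696 F67922) (tt N17253 (iv D30831)) (tt N17694 (iv F67925)) (tt N17449 F67923) (tt N22279 D32636) (tt N20478 F67924))
theorem Q20480 : ∀ i, i < 20480 → P i := stepQ 20479 Q20479 (allL N20479 (tt N20043 F67926) (tt N19262 F67927) (tt N22279 (iv F74410)) (tt N21446 (iv F71252)) (tt N17450 F67928) (tt N17253 (iv D30832)) (tt N20043 F67929))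
theorem Q20481 : ∀ i, i < 20481 → P i := stepQ 20480 Q20480 (allL N20480 (tt N18772 F67930) (tt N17255 F67931) (tt N21939 (iv F73045)) (tt N19713 F67932) (tt N17254 (iv D30833)) (tt N22280 D32637) (tt N22281 D32638))
theorem Q20482 : ∀ i, i < 20482 → P i := stepQ 20481 Q20481 (allL N20481 (tt N18773 F67933) (tt N22282 D32639) (tt N21940 (iv F73049)) (tt N20554 (iv F68174)) (tt N22280 (iv F74417)) (tt N17254 (iv D30834)) (tt N21378 (iv F71033)))
theorem Q20483 : ∀ i, i < 20483 → P i := stepQ 20482 Q20482 (allL N20482 (tt N18774 F67934) (tt N20539 (iv F68123)) (tt N21883 (iv F72803)) (tt N20555 (iv F68176)) (tt N22281 (iv F74420)) (tt N20542 (iv F68131)) (tt N17254 (iv D30835)))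
theorem Q20484 : ∀ i, i < 20484 → P i := stepQ 20483 Q20483 (allL N20483 (tt N17258 F67935) (tt N22140 (iv F73844)) (tt N17750 F67936) (tt N20755 (iv F68937)) (tt N17256 F67937) (tt N17255 (iv D30836)) (tt N19320 F67938))
theorem Q20485 : ∀ i, i < 20485 → P i := stepQ 20484 Q20484 (allL N20484 (tt N22283 D32640) (tt N17256 (iv D30837)) (tt N18461 (iv F67940)) (tt N20556 (iv F68177)) (tt N22140 (iv F73845)) (tt N22282 (iv F74423)) (tt N18455 F67939))
theorem Q20486 : ∀ i, i < 20486 → P i := stepQ 20485 Q20485 (allL N20485 (tt N21421 (iv F71168)) (tt N17257 (iv D30838)) (tt N19283 F67941) (tt N20557 (iv F68180)) (tt N21805 (iv F72497)) (tt N18825 (iv F68124)) (tt N20539 F68122))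
theorem Q20487 : ∀ i, i < 20487 → P i := stepQ 20486 Q20486 (allL N20486 (tt N19952 F67942) (tt N18039 F67943) (tt N17263 (iv D30839)) (tt N18762 F67944) (tt N18036 F67945) (tt N18655 F67946) (tt N21830 (iv F72598)))
theorem Q20488 : ∀ i, i < 20488 → P i := stepQ 20487 Q20487 (allL N20487 (tt N17264 (iv D30840)) (tt N19602 F67947) (tt N20531 (iv F68096)) (tt N17698 F67948) (tt N20157 F67949) (tt N19605 F67950) (tt N18306 (iv F67951)))
theorem Q20489 : ∀ i, i < 20489 → P i := stepQ 20488 Q20488 (allL N20488 (tt N18306 F67952) (tt N18330 F67953) (tt N22156 (iv F73902)) (tt N17699 F67954) (tt N20159 F67955) (tt N21152 (iv F70259)) (tt N17264 (iv D30841)))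
theorem Q20490 : ∀ i, i < 20490 → P i := stepQ 20489 Q20489 (allL N20489 (tt N19523 F67956) (tt N22159 (iv F73913)) (tt N17265 (iv D30842)) (tt N19516 F67957) (tt N21146 (iv F70243)) (tt N21151 (iv F70254)) (tt N22158 (iv F73911)))
theorem Q20491 : ∀ i, i < 20491 → P i := stepQ 20490 Q20490 (allL N20490 (tt N17266 (iv D30843)) (tt N20731 (iv F68832)) (tt N17532 F67961) (tt N17267 F67958) (tt N19465 F67959) (tt N19467 F67960) (tt N21865 (iv F72729)))
theorem Q20492 : ∀ i, i < 20492 → P i := stepQ 20491 Q20491 (allL N20491 (tt N17532 F67962) (tt N20186 F67963) (tt N17266 (iv D30844)) (tt N17531 F67964) (tt N19466 F67965) (tt N17657 F67966) (tt N19478 (iv F67967)))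
theorem Q20493 : ∀ i, i < 20493 → P i := stepQ 20492 Q20492 (allL N20492 (tt N21865 (iv F72724)) (tt N19394 F67968) (tt N19478 F67969) (tt N17268 F67970) (tt N19392 F67971) (tt N20880 (iv F69449)) (tt N17266 (iv D30845)))
theorem Q20494 : ∀ i, i < 20494 → P i := stepQ 20493 Q20493 (allL N20493 (tt N21778 (iv F72370)) (tt N17271 (iv D30846)) (tt N22284 D32641) (tt N17695 F67972) (tt N17279 F67973) (tt N17692 F67974) (tt N21778 (iv F72374)))
theorem Q20495 : ∀ i, i < 20495 → P i := stepQ 20494 Q20494 (allL N20494 (tt N21993 (iv F73249)) (tt N22284 (iv F74428)) (tt N17272 (iv D30847)) (tt N21420 (iv F71166)) (tt N17282 F67975) (tt N22285 D32642) (tt N17274 F67976))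
theorem Q20496 : ∀ i, i < 20496 → P i := stepQ 20495 Q20495 (allL N20495 (tt N19476 F67977) (tt N18523 F67978) (tt N22285 (iv F74435)) (tt N17462 F67979) (tt N17283 F67980) (tt N17272 (iv D30848)) (tt N19474 F67981))
theorem Q20497 : ∀ i, i < 20497 → P i := stepQ 20496 Q20496 (allL N20496 (tt N17277 (iv D30849)) (tt N20235 F67982) (tt N20516 (iv F68053)) (tt N17293 F67983) (tt N17744 F67984) (tt N20673 (iv F68607)) (tt N17742 F67985))
theorem Q20498 : ∀ i, i < 20498 → P i := stepQ 20497 Q20497 (allL N20497 (tt N20516 (iv F68052)) (tt N19320 F67986) (tt N17277 (iv D30850)) (tt N21573 (iv F71664)) (tt N18457 F67987) (tt N22286 D32643) (tt N18445 F67988))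
theorem Q20499 : ∀ i, i < 20499 → P i := stepQ 20498 Q20498 (allL N20498 (tt N20673 (iv F68604)) (tt N20411 F67989) (tt N22286 (iv F74440)) (tt N17295 F67990) (tt N18458 F67991) (tt N17277 (iv D30851)) (tt N20731 (iv F68836)))
theorem Q20500 : ∀ i, i < 20500 → P i := stepQ 20499 Q20499 (allL N20499 (tt N20171 F67992) (tt N17282 F67993) (tt N17279 (iv D30852)) (tt N21447 (iv F71256)) (tt N22284 (iv F74430)) (tt N20757 (iv F68948)) (tt N20171 F67994))
theorem Q20501 : ∀ i, i < 20501 → P i := stepQ 20500 Q20500 (allL N20500 (tt N17282 F67995) (tt N20476 F67996) (tt N17281 (iv D30853)) (tt N20785 (iv F69051)) (tt N21993 (iv F73250)) (tt N20507 (iv F68019)) (tt N17285 F67997))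
theorem Q20502 : ∀ i, i < 20502 → P i := stepQ 20501 Q20501 (allL N20501 (tt N20785 (iv F69049)) (tt N21447 (iv F71254)) (tt N22015 (iv F73339)) (tt N17282 (iv D30854)) (tt N18927 (iv F67999)) (tt N20772 F69013) (tt N17287 F67998))
theorem Q20503 : ∀ i, i < 20503 → P i := stepQ 20502 Q20502 (allL N20502 (tt N20507 (iv F68017)) (tt N17781 (iv F68001)) (tt N17283 F68000) (tt N20772 (iv F69011)) (tt N22285 (iv F74437)) (tt N17282 (iv D30855)) (tt N20504 (iv F68009)))
theorem Q20504 : ∀ i, i < 20504 → P i := stepQ 20503 Q20503 (allL N20503 (tt N20815 (iv F69181)) (tt N18283 F68002) (tt N18281 F68003) (tt N17304 F68004) (tt N20814 (iv F69177)) (tt N19035 F68005) (tt N17284 (iv D30856)))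
theorem Q20505 : ∀ i, i < 20505 → P i := stepQ 20504 Q20504 (allL N20504 (tt N17288 F68006) (tt N20446 F68007) (tt N17286 F68008) (tt N20784 (iv F69045)) (tt N21866 (iv F72732)) (tt N17285 (iv D30857)) (tt N20502 F68009))
theorem Q20506 : ∀ i, i < 20506 → P i := stepQ 20505 Q20505 (allL N20505 (tt N20399 (iv F68014)) (tt N17286 (iv D30858)) (tt N20447 F68010) (tt N17305 F68011) (tt N19831 F68012) (tt N19827 F68013) (tt N21825 (iv F72573)))
theorem Q20507 : ∀ i, i < 20507 → P i := stepQ 20506 Q20506 (allL N20506 (tt N20784 (iv F69043)) (tt N22023 (iv F73365)) (tt N20787 F69061) (tt N17288 F68015) (tt N18926 F68016) (tt N17287 (iv D30859)) (tt N22287 D32644))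
theorem Q20508 : ∀ i, i < 20508 → P i := stepQ 20507 Q20507 (allL N20507 (tt N20502 F68017) (tt N21027 (iv F69885)) (tt N17289 F68018) (tt N22287 (iv F74446)) (tt N21867 (iv F72735)) (tt N20500 F68019) (tt N17288 (iv D30860)))
theorem Q20509 : ∀ i, i < 20509 → P i := stepQ 20508 Q20508 (allL N20508 (tt N17298 F68020) (tt N19994 F68021) (tt N19837 F68022) (tt N17464 F68023) (tt N17291 F68024) (tt N20380 F68025) (tt N17290 (iv D30861)))
theorem Q20510 : ∀ i, i < 20510 → P i := stepQ 20509 Q20509 (allL N20509 (tt N21326 (iv F70835)) (tt N17291 (iv D30862)) (tt N21800 (iv F72471)) (tt N17292 F68026) (tt N19994 F68027) (tt N21893 (iv F72854)) (tt N19978 F68028))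
theorem Q20511 : ∀ i, i < 20511 → P i := stepQ 20510 Q20510 (allL N20510 (tt N19753 F68029) (tt N21325 (iv F70829)) (tt N21312 F70780) (tt N17294 (iv D30863)) (tt N19756 F68030) (tt N21119 (iv F70163)) (tt N18552 F68031))
theorem Q20512 : ∀ i, i < 20512 → P i := stepQ 20511 Q20511 (allL N20511 (tt N19837 F68032) (tt N20824 (iv F69228)) (tt N17298 F68033) (tt N18550 F68034) (tt N17297 F68035) (tt N20398 F68036) (tt N17296 (iv D30864)))
theorem Q20513 : ∀ i, i < 20513 → P i := stepQ 20512 Q20512 (allL N20512 (tt N20514 (iv F68045)) (tt N22249 (iv F74275)) (tt N19790 F68037) (tt N17302 F68038) (tt N21796 (iv F72448)) (tt N17299 (iv D30865)) (tt N19787 F68039))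
theorem Q20514 : ∀ i, i < 20514 → P i := stepQ 20513 Q20513 (allL N20513 (tt N20067 F68040) (tt N17302 (iv D30866)) (tt N18497 F68041) (tt N22249 (iv F74277)) (tt N17410 F68042) (tt N17303 F68043) (tt N18574 F68044))
theorem Q20515 : ∀ i, i < 20515 → P i := stepQ 20514 Q20514 (allL N20514 (tt N20512 F68045) (tt N21892 (iv F72845)) (tt N19792 F68046) (tt N17310 F68047) (tt N21799 (iv F72466)) (tt N19788 F68048) (tt N17309 (iv D30867)))
theorem Q20516 : ∀ i, i < 20516 → P i := stepQ 20515 Q20515 (allL N20515 (tt N21177 (iv F70332)) (tt N17334 F68049) (tt N20731 (iv F68833)) (tt N19781 F68050) (tt N17312 F68051) (tt N17311 (iv D30868)) (tt N22286 (iv F74443)))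
theorem Q20517 : ∀ i, i < 20517 → P i := stepQ 20516 Q20516 (allL N20516 (tt N20497 F68052) (tt N20577 (iv F68258)) (tt N20496 F68053) (tt N19782 F68054) (tt N17313 F68055) (tt N22288 D32645) (tt N17311 (iv D30869)))
theorem Q20518 : ∀ i, i < 20518 → P i := stepQ 20517 Q20517 (allL N20517 (tt N20518 (iv F68060)) (tt N20460 F68056) (tt N18458 F68057) (tt N17671 F68058) (tt N22286 (iv F74442)) (tt N18457 F68059) (tt N17312 (iv D30870)))
theorem Q20519 : ∀ i, i < 20519 → P i := stepQ 20518 Q20518 (allL N20518 (tt N20517 F68060) (tt N22289 D32646) (tt N17620 F68061) (tt N20571 (iv F68232)) (tt N22288 (iv F74453)) (tt N17313 (iv D30871)) (tt N18456 F68062))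
theorem Q20520 : ∀ i, i < 20520 → P i := stepQ 20519 Q20519 (allL N20519 (tt N18674 F68063) (tt N19768 F68064) (tt N17314 (iv D30872)) (tt N18675 F68065) (tt N19269 F68066) (tt N18693 (iv F68067)) (tt N18831 (iv F68068)))
theorem Q20521 : ∀ i, i < 20521 → P i := stepQ 20520 Q20520 (allL N20520 (tt N18694 F68069) (tt N19503 (iv F68073)) (tt N18693 F68070) (tt N17315 F68071) (tt N19270 F68072) (tt N17314 (iv D30873)) (tt N21431 (iv F71206)))
theorem Q20522 : ∀ i, i < 20522 → P i := stepQ 20521 Q20521 (allL N20521 (tt N18832 F68074) (tt N22052 (iv F73496)) (tt N18831 F68075) (tt N17316 F68076) (tt N19263 F68077) (tt N21319 (iv F70807)) (tt N17314 (iv D30874)))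
theorem Q20523 : ∀ i, i < 20523 → P i := stepQ 20522 Q20522 (allL N20522 (tt N17324 F68078) (tt N19778 F68079) (tt N17318 F68080) (tt N21176 (iv F70330)) (tt N17317 (iv D30875)) (tt N22199 (iv F74052)) (tt N22145 (iv F73866)))
theorem Q20524 : ∀ i, i < 20524 → P i := stepQ 20523 Q20523 (allL N20523 (tt N17325 F68081) (tt N22290 D32647) (tt N17319 F68082) (tt N22030 (iv F73398)) (tt N22199 (iv F74051)) (tt N17317 (iv D30876)) (tt N20534 (iv F68105)))
theorem Q20525 : ∀ i, i < 20525 → P i := stepQ 20524 Q20524 (allL N20524 (tt N17326 F68083) (tt N17780 F68084) (tt N17320 F68085) (tt N20771 (iv F69006)) (tt N22145 (iv F73865)) (tt N20532 (iv F68099)) (tt N17317 (iv D30877)))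
theorem Q20526 : ∀ i, i < 20526 → P i := stepQ 20525 Q20525 (allL N20525 (tt N21328 (iv F70845)) (tt N17319 (iv D30878)) (tt N21384 (iv F71051)) (tt N17321 F68086) (tt N21387 (iv F71063)) (tt N19503 F68087) (tt N21383 F71049))
theorem Q20527 : ∀ i, i < 20527 → P i := stepQ 20526 Q20526 (allL N20526 (tt N19940 (iv F68090)) (tt N17320 (iv D30879)) (tt N21959 (iv F73124)) (tt N17322 F68088) (tt N21954 (iv F73101)) (tt N19937 F68089) (tt N22052 (iv F73500)))
theorem Q20528 : ∀ i, i < 20528 → P i := stepQ 20527 Q20527 (allL N20527 (tt N18866 F68091) (tt N20572 (iv F68235)) (tt N17351 F68092) (tt N21183 (iv F70357)) (tt N17323 (iv D30880)) (tt N22291 D32648) (tt N22292 D32649))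
theorem Q20529 : ∀ i, i < 20529 → P i := stepQ 20528 Q20528 (allL N20528 (tt N22030 (iv F73396)) (tt N22293 D32650) (tt N20769 (iv F68999)) (tt N17325 F68093) (tt N22291 (iv F74467)) (tt N17323 (iv D30881)) (tt N22294 D32651))
theorem Q20530 : ∀ i, i < 20530 → P i := stepQ 20529 Q20529 (allL N20529 (tt N20771 F69009) (tt N22295 D32652) (tt N20770 (iv F69003)) (tt N17326 F68094) (tt N22292 (iv F74471)) (tt N22296 D32653) (tt N17323 (iv D30882)))
theorem Q20531 : ∀ i, i < 20531 → P i := stepQ 20530 Q20530 (allL N20530 (tt N21176 (iv F70328)) (tt N20584 (iv F68283)) (tt N18982 F68095) (tt N17324 (iv D30883)) (tt N21183 (iv F70358)) (tt N21190 (iv F70373)) (tt N22147 (iv F73873)))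
theorem Q20532 : ∀ i, i < 20532 → P i := stepQ 20531 Q20531 (allL N20531 (tt N20178 F68097) (tt N17325 (iv D30884)) (tt N20487 F68096) (tt N22293 (iv F74474)) (tt N21193 F70388) (tt N20586 (iv F68296)) (tt N21065 (iv F70004)))
theorem Q20533 : ∀ i, i < 20533 → P i := stepQ 20532 Q20532 (allL N20532 (tt N20534 (iv F68103)) (tt N20442 (iv F68100)) (tt N17327 F68098) (tt N22294 (iv F74478)) (tt N22200 (iv F74056)) (tt N20524 F68099) (tt N17325 (iv D30885)))
theorem Q20534 : ∀ i, i < 20534 → P i := stepQ 20533 Q20533 (allL N20533 (tt N20533 F68101) (tt N17326 (iv D30886)) (tt N20533 F68102) (tt N22295 (iv F74483)) (tt N22146 (iv F73870)) (tt N22277 (iv F74405)) (tt N20568 (iv F68219)))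
theorem Q20535 : ∀ i, i < 20535 → P i := stepQ 20534 Q20534 (allL N20534 (tt N20532 F68103) (tt N22297 D32654) (tt N17328 F68104) (tt N22296 (iv F74486)) (tt N21487 (iv F71373)) (tt N17326 (iv D30887)) (tt N20523 F68105))
theorem Q20536 : ∀ i, i < 20536 → P i := stepQ 20535 Q20535 (allL N20535 (tt N17329 (iv D30888)) (tt N19934 F68106) (tt N22048 (iv F73476)) (tt N21332 (iv F70868)) (tt N17473 F68107) (tt N20535 F68108) (tt N20023 (iv F68109)))
theorem Q20537 : ∀ i, i < 20537 → P i := stepQ 20536 Q20536 (allL N20536 (tt N22048 (iv F73475)) (tt N17764 F68110) (tt N17329 (iv D30889)) (tt N17762 (iv F68113)) (tt N17474 F68111) (tt N20536 F68112) (tt N22298 D32655))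
theorem Q20538 : ∀ i, i < 20538 → P i := stepQ 20537 Q20537 (allL N20537 (tt N20023 F68114) (tt N19495 F68115) (tt N22298 (iv F74494)) (tt N21488 (iv F71377)) (tt N17475 F68116) (tt N20023 F68117) (tt N17329 (iv D30890)))
theorem Q20539 : ∀ i, i < 20539 → P i := stepQ 20538 Q20538 (allL N20538 (tt N18823 F68118) (tt N17331 F68119) (tt N21977 (iv F73192)) (tt N19808 F68120) (tt N17330 (iv D30891)) (tt N22299 D32656) (tt N22300 D32657))
theorem Q20540 : ∀ i, i < 20540 → P i := stepQ 20539 Q20539 (allL N20539 (tt N18824 F68121) (tt N20482 F68123) (tt N21786 (iv F72405)) (tt N20579 (iv F68266)) (tt N22299 (iv F74501)) (tt N17330 (iv D30892)) (tt N20485 (iv F68122)))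
theorem Q20541 : ∀ i, i < 20541 → P i := stepQ 20540 Q20540 (allL N20540 (tt N18825 F68125) (tt N22301 D32658) (tt N21978 (iv F73196)) (tt N20580 (iv F68270)) (tt N22300 (iv F74506)) (tt N21421 (iv F71169)) (tt N17330 (iv D30893)))
theorem Q20542 : ∀ i, i < 20542 → P i := stepQ 20541 Q20541 (allL N20541 (tt N17335 F68126) (tt N22138 (iv F73836)) (tt N17682 F68127) (tt N20767 (iv F68990)) (tt N17333 F68128) (tt N19547 F68129) (tt N17331 (iv D30894)))
theorem Q20543 : ∀ i, i < 20543 → P i := stepQ 20542 Q20542 (allL N20542 (tt N21378 (iv F71032)) (tt N17332 (iv D30895)) (tt N19515 F68130) (tt N20581 (iv F68271)) (tt N21896 (iv F72866)) (tt N20482 F68131) (tt N18773 (iv F68132)))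
theorem Q20544 : ∀ i, i < 20544 → P i := stepQ 20543 Q20543 (allL N20543 (tt N22302 D32659) (tt N17333 (iv D30896)) (tt N18399 (iv F68134)) (tt N20582 (iv F68274)) (tt N22138 (iv F73837)) (tt N18393 F68133) (tt N22301 (iv F74508)))
theorem Q20545 : ∀ i, i < 20545 → P i := stepQ 20544 Q20544 (allL N20544 (tt N19978 F68135) (tt N20544 F68136) (tt N19551 F68138) (tt N17339 (iv D30897)) (tt N20570 (iv F68227)) (tt N19549 F68137) (tt N21326 (iv F70838)))
theorem Q20546 : ∀ i, i < 20546 → P i := stepQ 20545 Q20545 (allL N20545 (tt N17739 F68139) (tt N21503 (iv F71426)) (tt N17738 F68140) (tt N20459 F68141) (tt N19857 F68142) (tt N18923 F68143) (tt N17342 (iv D30898)))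
theorem Q20547 : ∀ i, i < 20547 → P i := stepQ 20546 Q20546 (allL N20546 (tt N17344 (iv D30899)) (tt N20469 F68144) (tt N17344 F68147) (tt N19400 F68145) (tt N17360 F68146) (tt N22303 D32660) (tt N20573 (iv F68244)))
theorem Q20548 : ∀ i, i < 20548 → P i := stepQ 20547 Q20547 (allL N20547 (tt N22303 (iv F74513)) (tt N22304 D32661) (tt N22303 (iv F74514)) (tt N19402 F68148) (tt N19858 F68149) (tt N17344 (iv D30900)) (tt N17372 (iv F68150)))
theorem Q20549 : ∀ i, i < 20549 → P i := stepQ 20548 Q20548 (allL N20548 (tt N20573 (iv F68240)) (tt N21935 (iv F73026)) (tt N20573 (iv F68241)) (tt N19403 F68151) (tt N19859 F68152) (tt N20572 (iv F68239)) (tt N17344 (iv D30901)))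
theorem Q20550 : ∀ i, i < 20550 → P i := stepQ 20549 Q20549 (allL N20549 (tt N18886 F68153) (tt N17345 (iv D30902)) (tt N18885 (iv F68157)) (tt N19407 F68154) (tt N19862 F68155) (tt N22304 (iv F74520)) (tt N18916 F68156))
theorem Q20551 : ∀ i, i < 20551 → P i := stepQ 20550 Q20550 (allL N20550 (tt N22305 D32662) (tt N17346 (iv D30903)) (tt N21498 (iv F71411)) (tt N19408 F68158) (tt N19863 F68159) (tt N21492 (iv F71395)) (tt N21935 (iv F73028)))
theorem Q20552 : ∀ i, i < 20552 → P i := stepQ 20551 Q20551 (allL N20551 (tt N19405 F68160) (tt N20457 F68161) (tt N19397 F68162) (tt N19867 F68163) (tt N17348 F68164) (tt N17347 (iv D30904)) (tt N21838 (iv F72625)))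
theorem Q20553 : ∀ i, i < 20553 → P i := stepQ 20552 Q20552 (allL N20552 (tt N19406 F68165) (tt N17365 F68166) (tt N19398 F68167) (tt N19868 F68168) (tt N17349 F68169) (tt N21499 (iv F71415)) (tt N17347 (iv D30905)))
theorem Q20554 : ∀ i, i < 20554 → P i := stepQ 20553 Q20553 (allL N20553 (tt N21491 (iv F71390)) (tt N17350 (iv D30906)) (tt N18908 F68170) (tt N21841 (iv F72632)) (tt N19871 F68171) (tt N18906 (iv F68172)) (tt N21503 (iv F71427)))
theorem Q20555 : ∀ i, i < 20555 → P i := stepQ 20554 Q20554 (allL N20554 (tt N18871 F68173) (tt N22306 D32663) (tt N22291 (iv F74466)) (tt N20481 F68174) (tt N20769 (iv F69001)) (tt N17351 (iv D30907)) (tt N21465 (iv F71307)))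
theorem Q20556 : ∀ i, i < 20556 → P i := stepQ 20555 Q20555 (allL N20555 (tt N18872 F68175) (tt N20579 F68268) (tt N22292 (iv F74469)) (tt N20482 F68176) (tt N20770 (iv F69005)) (tt N20581 (iv F68272)) (tt N17351 (iv D30908)))
theorem Q20557 : ∀ i, i < 20557 → P i := stepQ 20556 Q20556 (allL N20556 (tt N22292 (iv F74468)) (tt N17352 (iv D30909)) (tt N18872 (iv F68179)) (tt N20484 F68177) (tt N20771 (iv F69007)) (tt N22306 (iv F74531)) (tt N18866 F68178))
theorem Q20558 : ∀ i, i < 20558 → P i := stepQ 20557 Q20557 (allL N20557 (tt N21507 (iv F71435)) (tt N17353 (iv D30910)) (tt N21522 (iv F71491)) (tt N20485 F68180) (tt N20772 (iv F69012)) (tt N18927 F68181) (tt N20579 (iv F68267)))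
theorem Q20559 : ∀ i, i < 20559 → P i := stepQ 20558 Q20558 (allL N20558 (tt N17361 F68182) (tt N19404 F68183) (tt N17357 F68184) (tt N19401 F68185) (tt N17356 (iv D30911)) (tt N22307 D32664) (tt N20585 (iv F68291)))
theorem Q20560 : ∀ i, i < 20560 → P i := stepQ 20559 Q20559 (allL N20559 (tt N17362 F68186) (tt N22308 D32665) (tt N17358 F68187) (tt N19858 F68188) (tt N22307 (iv F74537)) (tt N17356 (iv D30912)) (tt N17384 F68189))
theorem Q20561 : ∀ i, i < 20561 → P i := stepQ 20560 Q20560 (allL N20560 (tt N17364 F68190) (tt N22309 D32666) (tt N22307 (iv F74535)) (tt N20775 (iv F69024)) (tt N17358 F68191) (tt N17357 (iv D30913)) (tt N17385 F68192))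
theorem Q20562 : ∀ i, i < 20562 → P i := stepQ 20561 Q20561 (allL N20561 (tt N22310 D32667) (tt N17358 (iv D30914)) (tt N22311 D32668) (tt N17359 F68193) (tt N22309 (iv F74542)) (tt N18881 F68194) (tt N18936 F68195))
theorem Q20563 : ∀ i, i < 20563 → P i := stepQ 20562 Q20562 (allL N20562 (tt N17359 (iv D30915)) (tt N22312 D32669) (tt N22304 F74523) (tt N22310 (iv F74545)) (tt N20777 (iv F69028)) (tt N18885 F68196) (tt N18940 F68197))
theorem Q20564 : ∀ i, i < 20564 → P i := stepQ 20563 Q20563 (allL N20563 (tt N22304 (iv F74522)) (tt N20563 F68198) (tt N17359 (iv D30916)) (tt N22313 D32670) (tt N20778 (iv F69030)) (tt N18886 F68199) (tt N18941 F68200))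
theorem Q20565 : ∀ i, i < 20565 → P i := stepQ 20564 Q20564 (allL N20564 (tt N19858 F68201) (tt N22314 D32671) (tt N19858 F68202) (tt N17362 F68203) (tt N22303 (iv F74516)) (tt N17360 (iv D30917)) (tt N17386 F68204))
theorem Q20566 : ∀ i, i < 20566 → P i := stepQ 20565 Q20565 (allL N20565 (tt N19401 F68205) (tt N20472 F68206) (tt N19415 F68207) (tt N17361 (iv D30918)) (tt N19400 F68208) (tt N22315 D32672) (tt N19454 (iv F68209)))
theorem Q20567 : ∀ i, i < 20567 → P i := stepQ 20566 Q20566 (allL N20566 (tt N22307 (iv F74534)) (tt N22316 D32673) (tt N17364 F68210) (tt N22315 (iv F74561)) (tt N17362 F68211) (tt N17361 (iv D30919)) (tt N17387 (iv F68212)))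
theorem Q20568 : ∀ i, i < 20568 → P i := stepQ 20567 Q20567 (allL N20567 (tt N20585 (iv F68287)) (tt N19460 (iv F68216)) (tt N17365 F68213) (tt N19454 F68214) (tt N17363 F68215) (tt N20583 (iv F68281)) (tt N17361 (iv D30920)))
theorem Q20569 : ∀ i, i < 20569 → P i := stepQ 20568 Q20568 (allL N20568 (tt N20568 F68220) (tt N17362 (iv D30921)) (tt N20568 F68217) (tt N22314 (iv F74556)) (tt N22316 (iv F74565)) (tt N20473 F68218) (tt N20533 F68219))
theorem Q20570 : ∀ i, i < 20570 → P i := stepQ 20569 Q20569 (allL N20569 (tt N20260 (iv F68224)) (tt N17363 (iv D30922)) (tt N19399 F68221) (tt N22033 (iv F73411)) (tt N19460 F68222) (tt N22034 (iv F73417)) (tt N20475 F68223))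
theorem Q20571 : ∀ i, i < 20571 → P i := stepQ 20570 Q20570 (allL N20570 (tt N20015 F68225) (tt N20570 F68226) (tt N19326 F68229) (tt N17367 (iv D30923)) (tt N20544 F68227) (tt N21331 (iv F70863)) (tt N19323 F68228))
theorem Q20572 : ∀ i, i < 20572 → P i := stepQ 20571 Q20571 (allL N20571 (tt N17671 F68230) (tt N21461 (iv F71297)) (tt N17670 F68231) (tt N20518 F68232) (tt N19876 F68233) (tt N17371 (iv D30924)) (tt N18867 F68234))
theorem Q20573 : ∀ i, i < 20573 → P i := stepQ 20572 Q20572 (allL N20572 (tt N17372 (iv D30925)) (tt N20527 F68235) (tt N17372 F68238) (tt N19606 F68236) (tt N17386 F68237) (tt N20548 F68239) (tt N22303 (iv F74517)))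
theorem Q20574 : ∀ i, i < 20574 → P i := stepQ 20573 Q20573 (allL N20573 (tt N20548 F68240) (tt N21861 (iv F72710)) (tt N20548 F68241) (tt N19608 F68242) (tt N19877 F68243) (tt N17372 (iv D30926)) (tt N20546 F68244))
theorem Q20575 : ∀ i, i < 20575 → P i := stepQ 20574 Q20574 (allL N20574 (tt N22317 D32674) (tt N17373 (iv D30927)) (tt N21456 (iv F71283)) (tt N19612 F68245) (tt N19880 F68246) (tt N21861 (iv F72711)) (tt N21450 (iv F71268)))
theorem Q20576 : ∀ i, i < 20576 → P i := stepQ 20575 Q20575 (allL N20575 (tt N18941 F68247) (tt N17374 (iv D30928)) (tt N18940 (iv F68251)) (tt N19614 F68248) (tt N19881 F68249) (tt N18861 F68250) (tt N22304 (iv F74521)))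
theorem Q20577 : ∀ i, i < 20577 → P i := stepQ 20576 Q20576 (allL N20576 (tt N19610 F68252) (tt N17389 F68253) (tt N19603 F68254) (tt N19885 F68255) (tt N17376 F68256) (tt N17375 (iv D30929)) (tt N21457 (iv F71288)))
theorem Q20578 : ∀ i, i < 20578 → P i := stepQ 20577 Q20577 (allL N20577 (tt N19611 F68257) (tt N20516 F68258) (tt N19604 F68259) (tt N19886 F68260) (tt N17377 F68261) (tt N21915 (iv F72944)) (tt N17375 (iv D30930)))
theorem Q20579 : ∀ i, i < 20579 → P i := stepQ 20578 Q20578 (allL N20578 (tt N21449 (iv F71263)) (tt N17378 (iv D30931)) (tt N18854 F68262) (tt N21918 (iv F72953)) (tt N19889 F68263) (tt N21461 (iv F71298)) (tt N18851 F68264))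
theorem Q20580 : ∀ i, i < 20580 → P i := stepQ 20579 Q20579 (allL N20579 (tt N18926 F68265) (tt N20555 (iv F68268)) (tt N22271 (iv F74381)) (tt N20539 F68266) (tt N20784 (iv F69046)) (tt N17379 (iv D30932)) (tt N20557 F68267))
theorem Q20581 : ∀ i, i < 20581 → P i := stepQ 20580 Q20580 (allL N20580 (tt N18927 F68269) (tt N22318 D32675) (tt N22272 (iv F74386)) (tt N20540 F68270) (tt N20785 (iv F69052)) (tt N21507 (iv F71437)) (tt N17379 (iv D30933)))
theorem Q20582 : ∀ i, i < 20582 → P i := stepQ 20581 Q20581 (allL N20581 (tt N21465 (iv F71305)) (tt N17380 (iv D30934)) (tt N21480 (iv F71353)) (tt N20542 F68271) (tt N20786 (iv F69054)) (tt N20555 F68272) (tt N18871 F68273))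
theorem Q20583 : ∀ i, i < 20583 → P i := stepQ 20582 Q20582 (allL N20582 (tt N22271 (iv F74380)) (tt N17381 (iv D30935)) (tt N18926 (iv F68276)) (tt N20543 F68274) (tt N20787 (iv F69058)) (tt N18921 F68275) (tt N22318 (iv F74577)))
theorem Q20584 : ∀ i, i < 20584 → P i := stepQ 20583 Q20583 (allL N20583 (tt N17387 F68277) (tt N19609 F68278) (tt N17385 F68279) (tt N19607 F68280) (tt N17384 (iv D30936)) (tt N20567 F68281) (tt N22307 (iv F74538)))
theorem Q20585 : ∀ i, i < 20585 → P i := stepQ 20584 Q20584 (allL N20584 (tt N19607 F68282) (tt N20530 F68283) (tt N19620 F68284) (tt N17387 (iv D30937)) (tt N19606 F68285) (tt N19654 (iv F68286)) (tt N22315 (iv F74563)))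
theorem Q20586 : ∀ i, i < 20586 → P i := stepQ 20585 Q20585 (allL N20585 (tt N20567 F68287) (tt N19660 (iv F68292)) (tt N17389 F68288) (tt N19654 F68289) (tt N17388 F68290) (tt N17387 (iv D30938)) (tt N20558 F68291))
theorem Q20587 : ∀ i, i < 20587 → P i := stepQ 20586 Q20586 (allL N20586 (tt N20271 F68293) (tt N17388 (iv D30939)) (tt N19605 F68294) (tt N22019 (iv F73355)) (tt N19660 F68295) (tt N20531 F68296) (tt N22021 (iv F73362)))
theorem Q20588 : ∀ i, i < 20588 → P i := stepQ 20587 Q20587 (allL N20587 (tt N21967 (iv F73151)) (tt N21941 (iv F73057)) (tt N17438 (iv D30940)) (tt N21939 F73046) (tt N22239 (iv F74234)) (tt N18331 F68297) (tt N21764 (iv F72309)))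
theorem Q20589 : ∀ i, i < 20589 → P i := stepQ 20588 Q20588 (allL N20588 (tt N20042 F68298) (tt N18598 F68299) (tt N17450 F68300) (tt N18599 F68301) (tt N22279 (iv F74412)) (tt N17449 (iv D30941)) (tt N20042 F68302))
theorem Q20590 : ∀ i, i < 20590 → P i := stepQ 20589 Q20589 (allL N20589 (tt N20671 (iv F68593)) (tt N17453 (iv D30942)) (tt N20593 (iv F68315)) (tt N20672 (iv F68600)) (tt N17454 F68303) (tt N21911 (iv F72925)) (tt N20795 (iv F69087)))
theorem Q20591 : ∀ i, i < 20591 → P i := stepQ 20590 Q20590 (allL N20590 (tt N17858 F68304) (tt N18600 F68305) (tt N17857 F68306) (tt N17873 F68307) (tt N21911 (iv F72924)) (tt N17454 (iv D30943)) (tt N17872 F68308))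
theorem Q20592 : ∀ i, i < 20592 → P i := stepQ 20591 Q20591 (allL N20591 (tt N22005 (iv F73297)) (tt N21979 (iv F73202)) (tt N17463 (iv D30944)) (tt N21977 F73193) (tt N22241 (iv F74245)) (tt N21868 (iv F72738)) (tt N18274 F68309))
theorem Q20593 : ∀ i, i < 20593 → P i := stepQ 20592 Q20592 (allL N20592 (tt N20022 F68310) (tt N18589 F68311) (tt N17475 F68312) (tt N18590 F68313) (tt N22298 (iv F74496)) (tt N20022 F68314) (tt N17474 (iv D30945)))
theorem Q20594 : ∀ i, i < 20594 → P i := stepQ 20593 Q20593 (allL N20593 (tt N20646 (iv F68510)) (tt N17478 (iv D30946)) (tt N20589 F68315) (tt N20647 (iv F68516)) (tt N17479 F68316) (tt N20791 (iv F69074)) (tt N21826 (iv F72580)))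
theorem Q20595 : ∀ i, i < 20595 → P i := stepQ 20594 Q20594 (allL N20594 (tt N17870 F68317) (tt N18591 F68318) (tt N17869 F68319) (tt N17861 F68320) (tt N21826 (iv F72578)) (tt N17860 F68321) (tt N17479 (iv D30947)))
theorem Q20596 : ∀ i, i < 20596 → P i := stepQ 20595 Q20595 (allL N20595 (tt N17482 F68322) (tt N20609 (iv F68390)) (tt N17481 F68323) (tt N18179 F68324) (tt N17480 (iv D30948)) (tt N17481 F68325) (tt N18583 F68326))
theorem Q20597 : ∀ i, i < 20597 → P i := stepQ 20596 Q20596 (allL N20596 (tt N17485 F68327) (tt N19533 F68328) (tt N19904 F68329) (tt N20667 (iv F68575)) (tt N17484 (iv D30949)) (tt N21262 (iv F70622)) (tt N19906 F68330))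
theorem Q20598 : ∀ i, i < 20598 → P i := stepQ 20597 Q20597 (allL N20597 (tt N17491 F68331) (tt N20612 (iv F68403)) (tt N17490 F68332) (tt N18127 F68333) (tt N17489 (iv D30950)) (tt N18594 F68334) (tt N17490 F68335))
theorem Q20599 : ∀ i, i < 20599 → P i := stepQ 20598 Q20598 (allL N20598 (tt N17494 F68336) (tt N19305 F68337) (tt N19917 F68338) (tt N20642 (iv F68492)) (tt N17493 (iv D30951)) (tt N19919 F68339) (tt N21264 (iv F70631)))
theorem Q20600 : ∀ i, i < 20600 → P i := stepQ 20599 Q20599 (allL N20599 (tt N17511 F68340) (tt N19593 (iv F68345)) (tt N17509 F68341) (tt N19666 F68342) (tt N17516 F68343) (tt N17508 (iv D30952)) (tt N17511 F68344))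
theorem Q20601 : ∀ i, i < 20601 → P i := stepQ 20600 Q20600 (allL N20600 (tt N19666 F68346) (tt N20160 F68347) (tt N19315 F68348) (tt N17511 F68349) (tt N20208 F68350) (tt N17510 (iv D30953)) (tt N19666 F68351))
theorem Q20602 : ∀ i, i < 20602 → P i := stepQ 20601 Q20601 (allL N20601 (tt N17515 F68352) (tt N19378 (iv F68357)) (tt N17513 F68353) (tt N19760 F68354) (tt N17518 F68355) (tt N17515 F68356) (tt N17512 (iv D30954)))
theorem Q20603 : ∀ i, i < 20603 → P i := stepQ 20602 Q20602 (allL N20602 (tt N19760 F68358) (tt N20155 F68359) (tt N19542 F68360) (tt N17515 F68361) (tt N20206 F68362) (tt N19760 F68363) (tt N17514 (iv D30955)))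
theorem Q20604 : ∀ i, i < 20604 → P i := stepQ 20603 Q20603 (allL N20603 (tt N18237 F68364) (tt N22259 (iv F74319)) (tt N17523 F68365) (tt N20622 (iv F68436)) (tt N18235 F68366) (tt N20622 (iv F68438)) (tt N17522 (iv D30956)))
theorem Q20605 : ∀ i, i < 20605 → P i := stepQ 20604 Q20604 (allL N20604 (tt N18296 F68367) (tt N22242 (iv F74248)) (tt N17525 F68368) (tt N20649 (iv F68526)) (tt N18294 F68369) (tt N17524 (iv D30957)) (tt N20649 (iv F68528)))
theorem Q20606 : ∀ i, i < 20606 → P i := stepQ 20605 Q20605 (allL N20605 (tt N19763 F68370) (tt N17527 (iv D30958)) (tt N19989 F68371) (tt N20169 F68372) (tt N17907 F68373) (tt N19926 F68374) (tt N20198 F68375))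
theorem Q20607 : ∀ i, i < 20607 → P i := stepQ 20606 Q20606 (allL N20606 (tt N19669 F68376) (tt N17531 (iv D30959)) (tt N19929 F68377) (tt N20186 F68378) (tt N17884 F68379) (tt N20202 F68380) (tt N19987 F68381))
theorem Q20608 : ∀ i, i < 20608 → P i := stepQ 20607 Q20607 (allL N20607 (tt N17762 F68382) (tt N17534 (iv D30960)) (tt N17761 F68383) (tt N22048 (iv F73477)) (tt N17556 F68384) (tt N20607 F68385) (tt N21261 (iv F70618)))
theorem Q20609 : ∀ i, i < 20609 → P i := stepQ 20608 Q20608 (allL N20608 (tt N20670 (iv F68589)) (tt N17535 (iv D30961)) (tt N17615 F68386) (tt N22122 (iv F73761)) (tt N17558 F68387) (tt N20669 (iv F68588)) (tt N18607 (iv F68388)))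
theorem Q20610 : ∀ i, i < 20610 → P i := stepQ 20609 Q20609 (allL N20609 (tt N19922 F68389) (tt N20595 F68390) (tt N19921 F68391) (tt N17537 F68392) (tt N19924 F68393) (tt N18173 F68394) (tt N17536 (iv D30962)))
theorem Q20611 : ∀ i, i < 20611 → P i := stepQ 20610 Q20610 (allL N20610 (tt N17694 F68395) (tt N17538 (iv D30963)) (tt N17693 F68396) (tt N22064 (iv F73559)) (tt N17557 F68397) (tt N21263 (iv F70626)) (tt N20610 F68398))
theorem Q20612 : ∀ i, i < 20612 → P i := stepQ 20611 Q20611 (allL N20611 (tt N20645 (iv F68506)) (tt N17539 (iv D30964)) (tt N17587 F68399) (tt N22126 (iv F73780)) (tt N17559 F68400) (tt N18611 (iv F68401)) (tt N20644 F68505))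
theorem Q20613 : ∀ i, i < 20613 → P i := stepQ 20612 Q20612 (allL N20612 (tt N19983 F68402) (tt N20597 F68403) (tt N19982 F68404) (tt N17541 F68405) (tt N19985 F68406) (tt N17540 (iv D30965)) (tt N18119 F68407))
theorem Q20614 : ∀ i, i < 20614 → P i := stepQ 20613 Q20613 (allL N20613 (tt N20665 (iv F68566)) (tt N21774 (iv F72351)) (tt N22319 D32676) (tt N17544 (iv D30966)) (tt N20618 (iv F68416)) (tt N20639 (iv F68482)) (tt N17545 F68408))
theorem Q20615 : ∀ i, i < 20615 → P i := stepQ 20614 Q20614 (allL N20614 (tt N21827 (iv F72581)) (tt N22320 D32677) (tt N17545 (iv D30967)) (tt N20617 (iv F68414)) (tt N20617 (iv F68413)) (tt N22321 D32678) (tt N22319 (iv F74580)))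
theorem Q20616 : ∀ i, i < 20616 → P i := stepQ 20615 Q20615 (allL N20615 (tt N21828 (iv F72583)) (tt N20742 F68888) (tt N22321 (iv F74583)) (tt N17546 F68409) (tt N20616 (iv F68411)) (tt N17545 (iv D30968)) (tt N17609 (iv F68410)))
theorem Q20617 : ∀ i, i < 20617 → P i := stepQ 20616 Q20616 (allL N20616 (tt N20640 (iv F68483)) (tt N21873 (iv F72759)) (tt N22322 D32679) (tt N17549 (iv D30969)) (tt N20615 F68411) (tt N17550 F68412) (tt N20635 (iv F68468)))
theorem Q20618 : ∀ i, i < 20618 → P i := stepQ 20617 Q20617 (allL N20617 (tt N21912 (iv F72927)) (tt N22323 D32680) (tt N17550 (iv D30970)) (tt N20614 F68414) (tt N20614 F68413) (tt N22322 (iv F74586)) (tt N22324 D32681))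
theorem Q20619 : ∀ i, i < 20619 → P i := stepQ 20618 Q20618 (allL N20618 (tt N21783 (iv F72394)) (tt N20709 F68755) (tt N22324 (iv F74592)) (tt N17551 F68415) (tt N20613 F68416) (tt N17581 (iv F68417)) (tt N17550 (iv D30971)))
theorem Q20620 : ∀ i, i < 20620 → P i := stepQ 20619 Q20619 (allL N20619 (tt N19518 F68418) (tt N19521 F68419) (tt N18002 F68420) (tt N19517 F68421) (tt N19518 F68422) (tt N18002 F68423) (tt N17560 (iv D30972)))
theorem Q20621 : ∀ i, i < 20621 → P i := stepQ 20620 Q20620 (allL N20620 (tt N19289 F68424) (tt N19293 F68425) (tt N18005 F68426) (tt N19288 F68427) (tt N19289 F68428) (tt N17561 (iv D30973)) (tt N18005 F68429))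
theorem Q20622 : ∀ i, i < 20622 → P i := stepQ 20621 Q20621 (allL N20621 (tt N17975 F68430) (tt N17562 (iv D30974)) (tt N17564 F68431) (tt N18666 F68432) (tt N17972 F68433) (tt N18093 F68434) (tt N21344 (iv F70915)))
theorem Q20623 : ∀ i, i < 20623 → P i := stepQ 20622 Q20622 (allL N20622 (tt N21018 (iv F69852)) (tt N20404 (iv F68439)) (tt N17563 F68435) (tt N20603 F68436) (tt N18238 F68437) (tt N20603 F68438) (tt N17562 (iv D30975)))
theorem Q20624 : ∀ i, i < 20624 → P i := stepQ 20623 Q20623 (allL N20623 (tt N17974 F68440) (tt N17565 F68441) (tt N17972 F68442) (tt N17974 F68443) (tt N17564 (iv D30976)) (tt N18089 F68444) (tt N21884 (iv F72811)))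
theorem Q20625 : ∀ i, i < 20625 → P i := stepQ 20624 Q20624 (allL N20624 (tt N20916 (iv F69584)) (tt N22325 D32682) (tt N18096 F68445) (tt N18486 F68446) (tt N17567 F68447) (tt N18483 F68448) (tt N17566 (iv D30977)))
theorem Q20626 : ∀ i, i < 20626 → P i := stepQ 20625 Q20625 (allL N20625 (tt N20032 (iv F73054)) (tt N17567 (iv D30978)) (tt N22105 (iv F73710)) (tt N20236 F68449) (tt N22325 (iv F74597)) (tt N22326 D32683) (tt N17570 F68450))
theorem Q20627 : ∀ i, i < 20627 → P i := stepQ 20626 Q20626 (allL N20626 (tt N20681 (iv F68633)) (tt N22327 D32684) (tt N22130 (iv F73797)) (tt N17569 F68451) (tt N20863 (iv F69378)) (tt N20675 (iv F68617)) (tt N17568 (iv D30979)))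
theorem Q20628 : ∀ i, i < 20628 → P i := stepQ 20627 Q20627 (allL N20627 (tt N22328 D32685) (tt N17569 (iv D30980)) (tt N22329 D32686) (tt N22327 (iv F74602)) (tt N17570 F68452) (tt N22330 D32687) (tt N22325 (iv F74598)))
theorem Q20629 : ∀ i, i < 20629 → P i := stepQ 20628 Q20628 (allL N20628 (tt N17570 (iv D30981)) (tt N22331 D32688) (tt N22107 (iv F73715)) (tt N21353 (iv F70950)) (tt N22328 (iv F74605)) (tt N22332 D32689) (tt N20032 F73055))
theorem Q20630 : ∀ i, i < 20630 → P i := stepQ 20629 Q20629 (allL N20629 (tt N22107 (iv F73714)) (tt N17573 F68453) (tt N17570 (iv D30982)) (tt N22329 (iv F74609)) (tt N22329 (iv F74608)) (tt N22333 D32690) (tt N22105 F73712))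
theorem Q20631 : ∀ i, i < 20631 → P i := stepQ 20630 Q20630 (allL N20630 (tt N22332 (iv F74612)) (tt N20677 (iv F68621)) (tt N22333 (iv F74621)) (tt N21354 (iv F70953)) (tt N22330 (iv F74610)) (tt N17570 (iv D30983)) (tt N22080 (iv F73629)))
theorem Q20632 : ∀ i, i < 20632 → P i := stepQ 20631 Q20631 (allL N20631 (tt N22164 (iv F73929)) (tt N22329 (iv F74607)) (tt N17571 (iv D30984)) (tt N17573 F68456) (tt N17573 F68454) (tt N22334 D32691) (tt N18106 F68455))
theorem Q20633 : ∀ i, i < 20633 → P i := stepQ 20632 Q20632 (allL N20632 (tt N20094 F68457) (tt N20358 F68458) (tt N22334 (iv F74624)) (tt N17830 F68459) (tt N17574 F68460) (tt N17571 (iv D30985)) (tt N20098 F68461))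
theorem Q20634 : ∀ i, i < 20634 → P i := stepQ 20633 Q20633 (allL N20633 (tt N17573 F68462) (tt N22335 D32692) (tt N17572 (iv D30986)) (tt N22164 (iv F73930)) (tt N22164 (iv F73931)) (tt N20933 (iv F69626)) (tt N18108 F68463))
theorem Q20635 : ∀ i, i < 20635 → P i := stepQ 20634 Q20634 (allL N20634 (tt N20933 (iv F69624)) (tt N20661 F68555) (tt N17574 F68464) (tt N22334 (iv F74625)) (tt N22334 (iv F74626)) (tt N17573 (iv D30987)) (tt N20931 (iv F69618)))
theorem Q20636 : ∀ i, i < 20636 → P i := stepQ 20635 Q20635 (allL N20635 (tt N17581 F68465) (tt N20200 F68466) (tt N22336 D32693) (tt N17579 (iv D30988)) (tt N17609 F68467) (tt N21783 (iv F72397)) (tt N20616 F68468))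
theorem Q20637 : ∀ i, i < 20637 → P i := stepQ 20636 Q20636 (allL N20636 (tt N21775 (iv F72356)) (tt N17581 F68469) (tt N18161 F68471) (tt N17580 (iv D30989)) (tt N20204 F68470) (tt N19317 (iv F68472)) (tt N21877 (iv F72783)))
theorem Q20638 : ∀ i, i < 20638 → P i := stepQ 20637 Q20637 (allL N20637 (tt N20754 (iv F68930)) (tt N19928 F68473) (tt N17585 F68474) (tt N19317 F68475) (tt N17831 F68476) (tt N17580 (iv D30990)) (tt N20202 F68477))
theorem Q20639 : ∀ i, i < 20639 → P i := stepQ 20638 Q20638 (allL N20638 (tt N22336 (iv F74628)) (tt N18162 F68478) (tt N17581 (iv D30991)) (tt N22337 D32694) (tt N22337 F74637) (tt N22324 F74595) (tt N22338 D32695))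
theorem Q20640 : ∀ i, i < 20640 → P i := stepQ 20639 Q20639 (allL N20639 (tt N17609 F68479) (tt N20204 F68480) (tt N22337 (iv F74635)) (tt N17607 F68481) (tt N17581 (iv D30992)) (tt N20613 F68482) (tt N21828 (iv F72587)))
theorem Q20641 : ∀ i, i < 20641 → P i := stepQ 20640 Q20640 (allL N20640 (tt N20616 F68483) (tt N19595 (iv F68486)) (tt N22338 (iv F74640)) (tt N17582 F68484) (tt N21828 (iv F72586)) (tt N19597 F68485) (tt N17581 (iv D30993)))
theorem Q20642 : ∀ i, i < 20642 → P i := stepQ 20641 Q20641 (allL N20641 (tt N18123 F68487) (tt N17583 (iv D30994)) (tt N18175 F68488) (tt N20791 (iv F69073)) (tt N17832 F68489) (tt N20647 (iv F68518)) (tt N19377 F68490))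
theorem Q20643 : ∀ i, i < 20643 → P i := stepQ 20642 Q20642 (allL N20642 (tt N17930 F68491) (tt N17585 (iv D30995)) (tt N18611 (iv F68496)) (tt N20598 F68492) (tt N17834 F68493) (tt N17587 F68494) (tt N18611 F68495))
theorem Q20644 : ∀ i, i < 20644 → P i := stepQ 20643 Q20643 (allL N20643 (tt N19931 F68497) (tt N20711 (iv F68759)) (tt N20202 F68498) (tt N21260 (iv F70611)) (tt N17835 F68499) (tt N19929 F68500) (tt N17585 (iv D30996)))
theorem Q20645 : ∀ i, i < 20645 → P i := stepQ 20644 Q20644 (allL N20644 (tt N17587 (iv D30997)) (tt N18113 F68501) (tt N20645 (iv F68508)) (tt N20092 F68502) (tt N17836 F68503) (tt N17930 F68504) (tt N20611 (iv F68505)))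
theorem Q20646 : ∀ i, i < 20646 → P i := stepQ 20645 Q20645 (allL N20645 (tt N20611 F68506) (tt N19370 F68507) (tt N20644 F68508) (tt N21251 (iv F70578)) (tt N17837 F68509) (tt N20820 (iv F69213)) (tt N17587 (iv D30998)))
theorem Q20647 : ∀ i, i < 20647 → P i := stepQ 20646 Q20646 (allL N20646 (tt N20593 F68510) (tt N17588 (iv D30999)) (tt N20671 (iv F68594)) (tt N17589 F68511) (tt N17829 F68512) (tt N17859 F68513) (tt N19376 F68514))
theorem Q20648 : ∀ i, i < 20648 → P i := stepQ 20647 Q20647 (allL N20647 (tt N17589 (iv D31000)) (tt N17856 F68515) (tt N20964 (iv F69710)) (tt N20593 F68516) (tt N17839 F68517) (tt N20641 F68518) (tt N19378 F68519))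
theorem Q20649 : ∀ i, i < 20649 → P i := stepQ 20648 Q20648 (allL N20648 (tt N17981 F68520) (tt N17590 (iv D31001)) (tt N17592 F68521) (tt N18671 F68522) (tt N17978 F68523) (tt N21352 (iv F70948)) (tt N18147 F68524))
theorem Q20650 : ∀ i, i < 20650 → P i := stepQ 20649 Q20649 (allL N20649 (tt N21057 (iv F69975)) (tt N20342 (iv F68529)) (tt N17591 F68525) (tt N20604 F68526) (tt N18299 F68527) (tt N17590 (iv D31002)) (tt N20604 F68528))
theorem Q20651 : ∀ i, i < 20651 → P i := stepQ 20650 Q20650 (allL N20650 (tt N17980 F68530) (tt N17593 F68531) (tt N17978 F68532) (tt N17980 F68533) (tt N17592 (iv D31003)) (tt N21790 (iv F72425)) (tt N18143 F68534))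
theorem Q20652 : ∀ i, i < 20652 → P i := stepQ 20651 Q20651 (allL N20651 (tt N20945 (iv F69662)) (tt N22339 D32696) (tt N18150 F68535) (tt N18513 F68536) (tt N17595 F68537) (tt N17594 (iv D31004)) (tt N18511 F68538))
theorem Q20653 : ∀ i, i < 20653 → P i := stepQ 20652 Q20652 (allL N20652 (tt N20052 (iv F72475)) (tt N17595 (iv D31005)) (tt N22116 (iv F73744)) (tt N20248 F68539) (tt N22339 (iv F74643)) (tt N17598 F68540) (tt N22340 D32697))
theorem Q20654 : ∀ i, i < 20654 → P i := stepQ 20653 Q20653 (allL N20653 (tt N20718 (iv F68782)) (tt N22341 D32698) (tt N22132 (iv F73807)) (tt N17597 F68541) (tt N20888 (iv F69478)) (tt N17596 (iv D31006)) (tt N20712 (iv F68765)))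
theorem Q20655 : ∀ i, i < 20655 → P i := stepQ 20654 Q20654 (allL N20654 (tt N22342 D32699) (tt N17597 (iv D31007)) (tt N22343 D32700) (tt N22341 (iv F74648)) (tt N17598 F68542) (tt N22339 (iv F74644)) (tt N22344 D32701))
theorem Q20656 : ∀ i, i < 20656 → P i := stepQ 20655 Q20655 (allL N20655 (tt N17598 (iv D31008)) (tt N22345 D32702) (tt N22117 (iv F73748)) (tt N21399 (iv F71099)) (tt N22342 (iv F74651)) (tt N20052 F72476) (tt N22346 D32703))
theorem Q20657 : ∀ i, i < 20657 → P i := stepQ 20656 Q20656 (allL N20656 (tt N22117 (iv F73747)) (tt N17601 F68543) (tt N17598 (iv D31009)) (tt N22343 (iv F74655)) (tt N22343 (iv F74654)) (tt N22116 (iv F73745)) (tt N22347 D32704))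
theorem Q20658 : ∀ i, i < 20658 → P i := stepQ 20657 Q20657 (allL N20657 (tt N22346 (iv F74659)) (tt N20714 (iv F68769)) (tt N22347 (iv F74665)) (tt N21400 (iv F71102)) (tt N22344 (iv F74656)) (tt N22093 (iv F73671)) (tt N17598 (iv D31010)))
theorem Q20659 : ∀ i, i < 20659 → P i := stepQ 20658 Q20658 (allL N20658 (tt N22155 (iv F73896)) (tt N22343 (iv F74653)) (tt N17599 (iv D31011)) (tt N17601 F68546) (tt N17601 F68544) (tt N18160 F68545) (tt N22348 D32705))
theorem Q20660 : ∀ i, i < 20660 → P i := stepQ 20659 Q20659 (allL N20659 (tt N20086 F68547) (tt N20412 F68548) (tt N22348 (iv F74668)) (tt N17840 F68549) (tt N17602 F68550) (tt N20090 F68551) (tt N17599 (iv D31012)))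
theorem Q20661 : ∀ i, i < 20661 → P i := stepQ 20660 Q20660 (allL N20660 (tt N17601 F68552) (tt N22349 D32706) (tt N17600 (iv D31013)) (tt N22155 (iv F73897)) (tt N22155 (iv F73898)) (tt N18162 F68553) (tt N20962 (iv F69704)))
theorem Q20662 : ∀ i, i < 20662 → P i := stepQ 20661 Q20661 (allL N20661 (tt N20962 (iv F69702)) (tt N20634 (iv F68555)) (tt N17602 F68554) (tt N22348 (iv F74669)) (tt N22348 (iv F74670)) (tt N20960 (iv F69696)) (tt N17601 (iv D31014)))
theorem Q20663 : ∀ i, i < 20663 → P i := stepQ 20662 Q20662 (allL N20662 (tt N21771 (iv F72337)) (tt N17609 F68556) (tt N18107 F68558) (tt N17608 (iv D31015)) (tt N20200 F68557) (tt N21779 (iv F72379)) (tt N19544 (iv F68559)))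
theorem Q20664 : ∀ i, i < 20664 → P i := stepQ 20663 Q20663 (allL N20663 (tt N20765 (iv F68978)) (tt N19988 F68560) (tt N17613 F68561) (tt N19544 F68562) (tt N17841 F68563) (tt N20198 F68564) (tt N17608 (iv D31016)))
theorem Q20665 : ∀ i, i < 20665 → P i := stepQ 20664 Q20664 (allL N20664 (tt N22337 (iv F74633)) (tt N18108 F68565) (tt N17609 (iv D31017)) (tt N22336 (iv F74632)) (tt N22336 (iv F74630)) (tt N22350 D32707) (tt N22321 F74584))
theorem Q20666 : ∀ i, i < 20666 → P i := stepQ 20665 Q20665 (allL N20665 (tt N20613 F68566) (tt N19380 (iv F68569)) (tt N22350 (iv F74676)) (tt N17610 F68567) (tt N21783 (iv F72396)) (tt N17609 (iv D31018)) (tt N19383 F68568))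
theorem Q20667 : ∀ i, i < 20667 → P i := stepQ 20666 Q20666 (allL N20666 (tt N18175 F68570) (tt N17611 (iv D31019)) (tt N18123 F68571) (tt N20795 (iv F69086)) (tt N17842 F68572) (tt N19592 F68573) (tt N20672 (iv F68603)))
theorem Q20668 : ∀ i, i < 20668 → P i := stepQ 20667 Q20667 (allL N20667 (tt N17927 F68574) (tt N17613 (iv D31020)) (tt N18607 (iv F68579)) (tt N20596 F68575) (tt N17844 F68576) (tt N18607 (iv F68578)) (tt N17615 F68577))
theorem Q20669 : ∀ i, i < 20669 → P i := stepQ 20668 Q20668 (allL N20668 (tt N19991 F68580) (tt N20744 (iv F68892)) (tt N20198 F68581) (tt N21259 (iv F70606)) (tt N17845 F68582) (tt N17613 (iv D31021)) (tt N19989 F68583))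
theorem Q20670 : ∀ i, i < 20670 → P i := stepQ 20669 Q20669 (allL N20669 (tt N17615 (iv D31022)) (tt N18167 F68584) (tt N20670 (iv F68591)) (tt N20084 F68585) (tt N17846 F68586) (tt N20608 F68588) (tt N17927 F68587))
theorem Q20671 : ∀ i, i < 20671 → P i := stepQ 20670 Q20670 (allL N20670 (tt N20608 F68589) (tt N19585 F68590) (tt N20669 F68591) (tt N21240 (iv F70535)) (tt N17847 F68592) (tt N17615 (iv D31023)) (tt N20819 (iv F69208)))
theorem Q20672 : ∀ i, i < 20672 → P i := stepQ 20671 Q20671 (allL N20671 (tt N20589 F68593) (tt N17616 (iv D31024)) (tt N20646 F68594) (tt N17617 F68595) (tt N17828 F68596) (tt N19591 F68597) (tt N17871 F68598))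
theorem Q20673 : ∀ i, i < 20673 → P i := stepQ 20672 Q20672 (allL N20672 (tt N17617 (iv D31025)) (tt N17868 F68599) (tt N20937 (iv F69638)) (tt N20589 F68600) (tt N17849 F68601) (tt N19593 F68602) (tt N20666 F68603))
theorem Q20674 : ∀ i, i < 20674 → P i := stepQ 20673 Q20673 (allL N20673 (tt N20498 F68604) (tt N20181 F68605) (tt N22288 (iv F74451)) (tt N18541 F68606) (tt N17620 (iv D31026)) (tt N20496 F68607) (tt N18446 F68608))
theorem Q20675 : ∀ i, i < 20675 → P i := stepQ 20674 Q20674 (allL N20674 (tt N20440 F68609) (tt N20164 F68610) (tt N22268 (iv F74367)) (tt N18545 F68611) (tt N17624 (iv D31027)) (tt N18384 F68612) (tt N20438 F68613))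
theorem Q20676 : ∀ i, i < 20676 → P i := stepQ 20675 Q20675 (allL N20675 (tt N17641 F68614) (tt N20318 (iv F68618)) (tt N20799 (iv F69098)) (tt N17629 F68615) (tt N19097 F68616) (tt N20626 F68617) (tt N17628 (iv D31028)))
theorem Q20677 : ∀ i, i < 20677 → P i := stepQ 20676 Q20676 (allL N20676 (tt N21173 (iv F70317)) (tt N17629 (iv D31029)) (tt N21172 F70316) (tt N20318 F68619) (tt N17630 F68620) (tt N22351 D32708) (tt N21301 (iv F70738)))
theorem Q20678 : ∀ i, i < 20678 → P i := stepQ 20677 Q20677 (allL N20677 (tt N21174 (iv F70319)) (tt N20630 F68621) (tt N20961 F69701) (tt N20144 F68622) (tt N22351 (iv F74682)) (tt N17630 (iv D31030)) (tt N22014 (iv F73337)))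
theorem Q20679 : ∀ i, i < 20679 → P i := stepQ 20678 Q20678 (allL N20678 (tt N17633 F68623) (tt N18396 F68624) (tt N20715 (iv F68773)) (tt N17635 F68625) (tt N20355 F68626) (tt N17631 (iv D31031)) (tt N20347 F68627))
theorem Q20680 : ∀ i, i < 20680 → P i := stepQ 20679 Q20679 (allL N20679 (tt N20799 (iv F69097)) (tt N21118 (iv F70159)) (tt N17641 F68628) (tt N20109 F68629) (tt N20862 (iv F69375)) (tt N20107 F68630) (tt N17640 (iv D31032)))
theorem Q20681 : ∀ i, i < 20681 → P i := stepQ 20680 Q20680 (allL N20680 (tt N21409 (iv F71131)) (tt N17641 (iv D31033)) (tt N21408 F71130) (tt N17642 F68631) (tt N20864 (iv F69381)) (tt N22352 D32709) (tt N18258 F68632))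
theorem Q20682 : ∀ i, i < 20682 → P i := stepQ 20681 Q20681 (allL N20681 (tt N20626 F68633) (tt N19524 (iv F68638)) (tt N20107 F68634) (tt N17643 F68635) (tt N19525 F68636) (tt N17641 (iv D31034)) (tt N20105 F68637))
theorem Q20683 : ∀ i, i < 20683 → P i := stepQ 20682 Q20682 (allL N20682 (tt N17642 (iv D31035)) (tt N19681 (iv F68641)) (tt N20693 (iv F68680)) (tt N21409 F71133) (tt N17644 F68639) (tt N21040 (iv F69929)) (tt N18260 F68640))
theorem Q20684 : ∀ i, i < 20684 → P i := stepQ 20683 Q20683 (allL N20683 (tt N21040 (iv F69927)) (tt N20818 F69202) (tt N21594 (iv F71718)) (tt N22352 (iv F74686)) (tt N17645 F68642) (tt N17642 (iv D31036)) (tt N21037 (iv F69921)))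
theorem Q20685 : ∀ i, i < 20685 → P i := stepQ 20684 Q20684 (allL N20684 (tt N22158 (iv F73907)) (tt N17643 (iv D31037)) (tt N20812 (iv F69168)) (tt N19524 F68643) (tt N17646 F68644) (tt N20818 (iv F69201)) (tt N19523 (iv F68645)))
theorem Q20686 : ∀ i, i < 20686 → P i := stepQ 20685 Q20685 (allL N20685 (tt N17646 (iv D31038)) (tt N21391 (iv F71071)) (tt N20811 (iv F69159)) (tt N18747 F68646) (tt N22158 (iv F73909)) (tt N18746 F68647) (tt N21146 (iv F70245)))
theorem Q20687 : ∀ i, i < 20687 → P i := stepQ 20686 Q20686 (allL N20686 (tt N21146 (iv F70240)) (tt N19517 F68648) (tt N20813 (iv F69171)) (tt N19521 F68649) (tt N19523 F68650) (tt N21153 (iv F70262)) (tt N17646 (iv D31039)))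
theorem Q20688 : ∀ i, i < 20688 → P i := stepQ 20687 Q20687 (allL N20687 (tt N19738 F68651) (tt N19459 F68652) (tt N20724 (iv F68802)) (tt N17655 F68653) (tt N20334 F68654) (tt N17650 (iv D31040)) (tt N19736 F68655))
theorem Q20689 : ∀ i, i < 20689 → P i := stepQ 20688 Q20688 (allL N20688 (tt N17653 F68656) (tt N20021 F68657) (tt N20725 (iv F68808)) (tt N17651 (iv D31041)) (tt N20367 F68658) (tt N21972 (iv F73169)) (tt N22353 D32710))
theorem Q20690 : ∀ i, i < 20690 → P i := stepQ 20689 Q20689 (allL N20689 (tt N17654 F68659) (tt N18879 F68660) (tt N17652 F68661) (tt N22353 (iv F74691)) (tt N17883 F68662) (tt N19741 F68663) (tt N17651 (iv D31042)))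
theorem Q20691 : ∀ i, i < 20691 → P i := stepQ 20690 Q20690 (allL N20690 (tt N22353 (iv F74688)) (tt N17738 F68664) (tt N19834 F68665) (tt N17654 F68666) (tt N20369 F68667) (tt N21526 (iv F71504)) (tt N17653 (iv D31043)))
theorem Q20692 : ∀ i, i < 20692 → P i := stepQ 20691 Q20691 (allL N20691 (tt N21829 (iv F72588)) (tt N19236 F68668) (tt N19468 F68669) (tt N17658 F68670) (tt N19470 F68671) (tt N20352 F68672) (tt N17657 (iv D31044)))
theorem Q20693 : ∀ i, i < 20693 → P i := stepQ 20692 Q20692 (allL N20692 (tt N17666 F68673) (tt N19028 F68674) (tt N17664 F68675) (tt N19027 F68676) (tt N17663 (iv D31045)) (tt N20707 (iv F68745)) (tt N17679 F68677))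
theorem Q20694 : ∀ i, i < 20694 → P i := stepQ 20693 Q20693 (allL N20693 (tt N19728 F68678) (tt N17666 F68679) (tt N20682 F68680) (tt N21550 (iv F71590)) (tt N17665 (iv D31046)) (tt N22354 D32711) (tt N21036 (iv F69917)))
theorem Q20695 : ∀ i, i < 20695 → P i := stepQ 20694 Q20694 (allL N20694 (tt N19731 F68681) (tt N18999 F68682) (tt N18268 F68683) (tt N18256 F68684) (tt N22354 (iv F74698)) (tt N17665 (iv D31047)) (tt N18267 F68685))
theorem Q20696 : ∀ i, i < 20696 → P i := stepQ 20695 Q20695 (allL N20695 (tt N19775 F68686) (tt N20967 (iv F69718)) (tt N17668 (iv D31048)) (tt N22355 D32712) (tt N19767 F68687) (tt N21792 (iv F72434)) (tt N19765 F68688))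
theorem Q20697 : ∀ i, i < 20697 → P i := stepQ 20696 Q20696 (allL N20696 (tt N17669 (iv D31049)) (tt N18934 F68689) (tt N17722 F68690) (tt N22356 D32713) (tt N17889 F68691) (tt N17721 F68692) (tt N19835 F68693))
theorem Q20698 : ∀ i, i < 20698 → P i := stepQ 20697 Q20697 (allL N20697 (tt N22356 (iv F74703)) (tt N17670 F68694) (tt N19740 F68697) (tt N17669 (iv D31050)) (tt N20385 F68695) (tt N17723 F68696) (tt N21486 (iv F71372)))
theorem Q20699 : ∀ i, i < 20699 → P i := stepQ 20698 Q20698 (allL N20698 (tt N18384 F68698) (tt N20431 F68699) (tt N20458 F68700) (tt N17891 F68701) (tt N17676 F68702) (tt N20440 F68703) (tt N17674 (iv D31051)))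
theorem Q20700 : ∀ i, i < 20700 → P i := stepQ 20699 Q20699 (allL N20699 (tt N17687 F68704) (tt N18335 F68705) (tt N18796 F68706) (tt N17679 (iv D31052)) (tt N18955 F68707) (tt N18954 (iv F68709)) (tt N19027 F68708))
theorem Q20701 : ∀ i, i < 20701 → P i := stepQ 20700 Q20700 (allL N20700 (tt N17688 F68710) (tt N18399 F68711) (tt N17681 F68712) (tt N18954 F68713) (tt N17680 F68714) (tt N17679 (iv D31053)) (tt N18186 F68715))
theorem Q20702 : ∀ i, i < 20702 → P i := stepQ 20701 Q20701 (allL N20701 (tt N17685 F68716) (tt N21959 (iv F73123)) (tt N17780 F68717) (tt N21411 (iv F71136)) (tt N19008 F68718) (tt N17683 (iv D31054)) (tt N19006 F68719))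
theorem Q20703 : ∀ i, i < 20703 → P i := stepQ 20702 Q20702 (allL N20702 (tt N19008 F68720) (tt N20708 (iv F68749)) (tt N17782 F68721) (tt N18795 F68722) (tt N17685 F68723) (tt N17684 (iv D31055)) (tt N19000 F68724))
theorem Q20704 : ∀ i, i < 20704 → P i := stepQ 20703 Q20703 (allL N20703 (tt N20703 F68727) (tt N17685 (iv D31056)) (tt N20703 F68725) (tt N21412 (iv F71139)) (tt N20708 (iv F68751)) (tt N17689 F68726) (tt N20706 (iv F68747)))
theorem Q20705 : ∀ i, i < 20705 → P i := stepQ 20704 Q20704 (allL N20704 (tt N19006 F68728) (tt N20707 F68746) (tt N17784 F68729) (tt N19032 F68730) (tt N19000 F68731) (tt N19031 F68732) (tt N17685 (iv D31057)))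
theorem Q20706 : ∀ i, i < 20706 → P i := stepQ 20705 Q20705 (allL N20705 (tt N18954 F68733) (tt N22357 D32714) (tt N18798 F68734) (tt N17688 F68735) (tt N18952 F68736) (tt N17687 (iv D31058)) (tt N18970 F68737))
theorem Q20707 : ∀ i, i < 20707 → P i := stepQ 20706 Q20706 (allL N20706 (tt N20706 F68740) (tt N17688 (iv D31059)) (tt N20706 F68738) (tt N22357 (iv F74711)) (tt N17689 F68739) (tt N20708 (iv F68752)) (tt N20703 F68747))
theorem Q20708 : ∀ i, i < 20708 → P i := stepQ 20707 Q20707 (allL N20707 (tt N18186 F68741) (tt N20704 (iv F68746)) (tt N17691 F68742) (tt N18970 F68743) (tt N17690 F68744) (tt N20692 F68745) (tt N17688 (iv D31060)))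
theorem Q20709 : ∀ i, i < 20709 → P i := stepQ 20708 Q20708 (allL N20708 (tt N20708 F68748) (tt N20702 F68749) (tt N20708 F68750) (tt N21403 (iv F71114)) (tt N20703 F68751) (tt N20706 F68752) (tt N17689 (iv D31061)))
theorem Q20710 : ∀ i, i < 20710 → P i := stepQ 20709 Q20709 (allL N20709 (tt N17692 (iv D31062)) (tt N20618 (iv F68755)) (tt N22358 D32715) (tt N17693 F68753) (tt N21774 (iv F72353)) (tt N21778 (iv F72373)) (tt N20709 F68754))
theorem Q20711 : ∀ i, i < 20711 → P i := stepQ 20710 Q20710 (allL N20710 (tt N22358 (iv F74715)) (tt N19330 F68756) (tt N17692 (iv D31063)) (tt N19329 (iv F68758)) (tt N20757 (iv F68947)) (tt N22284 (iv F74431)) (tt N20710 F68757))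
theorem Q20712 : ∀ i, i < 20712 → P i := stepQ 20711 Q20711 (allL N20711 (tt N21263 (iv F70623)) (tt N20643 F68759) (tt N17695 F68760) (tt N22279 (iv F74411)) (tt N17901 F68761) (tt N17694 (iv D31064)) (tt N21263 (iv F70627)))
theorem Q20713 : ∀ i, i < 20713 → P i := stepQ 20712 Q20712 (allL N20712 (tt N17713 F68762) (tt N20298 (iv F68766)) (tt N20809 (iv F69151)) (tt N17701 F68763) (tt N18950 F68764) (tt N17700 (iv D31065)) (tt N20653 F68765))
theorem Q20714 : ∀ i, i < 20714 → P i := stepQ 20713 Q20713 (allL N20713 (tt N21120 (iv F70165)) (tt N17701 (iv D31066)) (tt N21119 (iv F70164)) (tt N20298 F68767) (tt N17702 F68768) (tt N21312 (iv F70778)) (tt N22359 D32716))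
theorem Q20715 : ∀ i, i < 20715 → P i := stepQ 20714 Q20714 (allL N20714 (tt N21121 (iv F70167)) (tt N20657 F68769) (tt N20932 F69623) (tt N20140 F68770) (tt N22359 (iv F74724)) (tt N21976 (iv F73189)) (tt N17702 (iv D31067)))
theorem Q20716 : ∀ i, i < 20716 → P i := stepQ 20715 Q20715 (allL N20715 (tt N17705 F68771) (tt N18458 F68772) (tt N20678 F68773) (tt N17707 F68774) (tt N20411 F68775) (tt N20408 F68776) (tt N17703 (iv D31068)))
theorem Q20717 : ∀ i, i < 20717 → P i := stepQ 20716 Q20716 (allL N20716 (tt N20809 (iv F69150)) (tt N21168 (iv F70304)) (tt N17713 F68777) (tt N20117 F68778) (tt N20885 (iv F69468)) (tt N17712 (iv D31069)) (tt N20115 F68779))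
theorem Q20718 : ∀ i, i < 20718 → P i := stepQ 20717 Q20717 (allL N20717 (tt N21364 (iv F70986)) (tt N17713 (iv D31070)) (tt N21363 F70985) (tt N17714 F68780) (tt N20887 (iv F69475)) (tt N18315 F68781) (tt N22360 D32717))
theorem Q20719 : ∀ i, i < 20719 → P i := stepQ 20718 Q20718 (allL N20718 (tt N20653 F68782) (tt N19296 (iv F68787)) (tt N20115 F68783) (tt N17715 F68784) (tt N19297 F68785) (tt N20113 F68786) (tt N17713 (iv D31071)))
theorem Q20720 : ∀ i, i < 20720 → P i := stepQ 20719 Q20719 (allL N20719 (tt N17714 (iv D31072)) (tt N19774 (iv F68790)) (tt N20728 (iv F68822)) (tt N21364 F70988) (tt N17716 F68788) (tt N18317 F68789) (tt N21077 (iv F70050)))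
theorem Q20721 : ∀ i, i < 20721 → P i := stepQ 20720 Q20720 (allL N20720 (tt N21077 (iv F70048)) (tt N20808 F69149) (tt N21712 (iv F72111)) (tt N22360 (iv F74728)) (tt N17717 F68791) (tt N21074 (iv F70042)) (tt N17714 (iv D31073)))
theorem Q20722 : ∀ i, i < 20722 → P i := stepQ 20721 Q20721 (allL N20721 (tt N22167 (iv F73940)) (tt N17715 (iv D31074)) (tt N20802 (iv F69115)) (tt N19296 F68792) (tt N17718 F68793) (tt N19295 (iv F68794)) (tt N20808 (iv F69148)))
theorem Q20723 : ∀ i, i < 20723 → P i := stepQ 20722 Q20722 (allL N20722 (tt N17718 (iv D31075)) (tt N21435 (iv F71213)) (tt N20801 (iv F69106)) (tt N18799 F68795) (tt N22167 (iv F73942)) (tt N21091 (iv F70089)) (tt N18797 F68796))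
theorem Q20724 : ∀ i, i < 20724 → P i := stepQ 20723 Q20723 (allL N20723 (tt N21091 (iv F70085)) (tt N19288 F68797) (tt N20803 (iv F69118)) (tt N19293 F68798) (tt N19295 F68799) (tt N17718 (iv D31076)) (tt N21100 (iv F70109)))
theorem Q20725 : ∀ i, i < 20725 → P i := stepQ 20724 Q20724 (allL N20724 (tt N19831 F68800) (tt N19659 F68801) (tt N20687 F68802) (tt N17724 F68803) (tt N20399 F68804) (tt N19829 F68805) (tt N17720 (iv D31077)))
theorem Q20726 : ∀ i, i < 20726 → P i := stepQ 20725 Q20725 (allL N20725 (tt N17723 F68806) (tt N20041 F68807) (tt N20688 F68808) (tt N17721 (iv D31078)) (tt N20417 F68809) (tt N22356 (iv F74707)) (tt N22010 (iv F73317)))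
theorem Q20727 : ∀ i, i < 20727 → P i := stepQ 20726 Q20726 (allL N20726 (tt N21760 (iv F72290)) (tt N19470 F68810) (tt N19231 F68811) (tt N17727 F68812) (tt N19236 F68813) (tt N17726 (iv D31079)) (tt N20410 F68814))
theorem Q20728 : ∀ i, i < 20728 → P i := stepQ 20727 Q20727 (allL N20727 (tt N17735 F68815) (tt N19165 F68816) (tt N17733 F68817) (tt N19164 F68818) (tt N17732 (iv D31080)) (tt N17747 F68819) (tt N20740 (iv F68880)))
theorem Q20729 : ∀ i, i < 20729 → P i := stepQ 20728 Q20728 (allL N20728 (tt N19821 F68820) (tt N17735 F68821) (tt N20719 F68822) (tt N21679 (iv F72000)) (tt N17734 (iv D31081)) (tt N21073 (iv F70038)) (tt N22361 D32718))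
theorem Q20730 : ∀ i, i < 20730 → P i := stepQ 20729 Q20729 (allL N20729 (tt N19824 F68823) (tt N19138 F68824) (tt N18325 F68825) (tt N18313 F68826) (tt N22361 (iv F74734)) (tt N18324 F68827) (tt N17734 (iv D31082)))
theorem Q20731 : ∀ i, i < 20731 → P i := stepQ 20730 Q20730 (allL N20730 (tt N19680 F68828) (tt N20993 (iv F69785)) (tt N17737 (iv D31083)) (tt N22362 D32719) (tt N19672 F68829) (tt N19671 F68830) (tt N21886 (iv F72820)))
theorem Q20732 : ∀ i, i < 20732 → P i := stepQ 20731 Q20731 (allL N20731 (tt N18446 F68831) (tt N20490 F68832) (tt N20515 F68833) (tt N17913 F68834) (tt N17743 F68835) (tt N17742 (iv D31084)) (tt N20498 F68836))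
theorem Q20733 : ∀ i, i < 20733 → P i := stepQ 20732 Q20732 (allL N20732 (tt N17755 F68837) (tt N18278 F68838) (tt N18745 F68839) (tt N17747 (iv D31085)) (tt N19095 F68840) (tt N19164 F68841) (tt N19094 (iv F68842)))
theorem Q20734 : ∀ i, i < 20734 → P i := stepQ 20733 Q20733 (allL N20733 (tt N17756 F68843) (tt N18461 F68844) (tt N17749 F68845) (tt N19094 F68846) (tt N17748 F68847) (tt N18211 F68848) (tt N17747 (iv D31086)))
theorem Q20735 : ∀ i, i < 20735 → P i := stepQ 20734 Q20734 (allL N20734 (tt N17754 F68849) (tt N21998 (iv F73271)) (tt N17797 F68850) (tt N21366 (iv F70991)) (tt N19146 F68851) (tt N19145 F68852) (tt N17751 (iv D31087)))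
theorem Q20736 : ∀ i, i < 20736 → P i := stepQ 20735 Q20735 (allL N20735 (tt N19146 F68853) (tt N20741 (iv F68882)) (tt N17799 F68854) (tt N18744 F68855) (tt N17754 F68856) (tt N19139 F68857) (tt N17752 (iv D31088)))
theorem Q20737 : ∀ i, i < 20737 → P i := stepQ 20736 Q20736 (allL N20736 (tt N20736 F68860) (tt N17754 (iv D31089)) (tt N20736 F68858) (tt N21367 (iv F70994)) (tt N20741 (iv F68884)) (tt N20739 (iv F68874)) (tt N17757 F68859))
theorem Q20738 : ∀ i, i < 20738 → P i := stepQ 20737 Q20737 (allL N20737 (tt N19145 F68861) (tt N20740 (iv F68876)) (tt N17801 F68862) (tt N19169 F68863) (tt N19139 F68864) (tt N17754 (iv D31090)) (tt N19168 F68865))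
theorem Q20739 : ∀ i, i < 20739 → P i := stepQ 20738 Q20738 (allL N20738 (tt N19094 F68866) (tt N22363 D32720) (tt N18748 F68867) (tt N17756 F68868) (tt N19092 F68869) (tt N19110 F68870) (tt N17755 (iv D31091)))
theorem Q20740 : ∀ i, i < 20740 → P i := stepQ 20739 Q20739 (allL N20739 (tt N20739 F68873) (tt N17756 (iv D31092)) (tt N20739 F68871) (tt N22363 (iv F74741)) (tt N17757 F68872) (tt N20736 F68874) (tt N20741 (iv F68885)))
theorem Q20741 : ∀ i, i < 20741 → P i := stepQ 20740 Q20740 (allL N20740 (tt N18211 F68875) (tt N20737 F68876) (tt N17759 F68877) (tt N19110 F68878) (tt N17758 F68879) (tt N17756 (iv D31093)) (tt N20727 F68880))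
theorem Q20742 : ∀ i, i < 20742 → P i := stepQ 20741 Q20741 (allL N20741 (tt N20741 F68881) (tt N20735 F68882) (tt N20741 F68883) (tt N21358 (iv F70969)) (tt N20736 F68884) (tt N17757 (iv D31094)) (tt N20739 F68885))
theorem Q20743 : ∀ i, i < 20743 → P i := stepQ 20742 Q20742 (allL N20742 (tt N17760 (iv D31095)) (tt N20615 (iv F68888)) (tt N22364 D32721) (tt N17761 F68886) (tt N21873 (iv F72761)) (tt N20742 F68887) (tt N21876 (iv F72777)))
theorem Q20744 : ∀ i, i < 20744 → P i := stepQ 20743 Q20743 (allL N20743 (tt N22364 (iv F74745)) (tt N19556 F68889) (tt N17760 (iv D31096)) (tt N19555 (iv F68891)) (tt N20768 (iv F68995)) (tt N20743 F68890) (tt N22264 (iv F74349)))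
theorem Q20745 : ∀ i, i < 20745 → P i := stepQ 20744 Q20744 (allL N20744 (tt N21261 (iv F70614)) (tt N20668 F68892) (tt N17763 F68893) (tt N22298 (iv F74495)) (tt N17923 F68894) (tt N21261 (iv F70617)) (tt N17762 (iv D31097)))
theorem Q20746 : ∀ i, i < 20746 → P i := stepQ 20745 Q20745 (allL N20745 (tt N17774 F68895) (tt N19630 F68896) (tt N17769 F68897) (tt N19637 F68898) (tt N20758 (iv F68954)) (tt N17767 (iv D31098)) (tt N19635 F68899))
theorem Q20747 : ∀ i, i < 20747 → P i := stepQ 20746 Q20746 (allL N20746 (tt N17775 F68900) (tt N19562 (iv F68905)) (tt N17770 F68901) (tt N19638 F68902) (tt N17792 F68903) (tt N17791 F68904) (tt N17767 (iv D31099)))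
theorem Q20748 : ∀ i, i < 20748 → P i := stepQ 20747 Q20747 (allL N20747 (tt N19551 (iv F68909)) (tt N17769 (iv D31100)) (tt N19978 F68906) (tt N17771 F68907) (tt N20759 (iv F68958)) (tt N19548 F68908) (tt N21800 (iv F72474)))
theorem Q20749 : ∀ i, i < 20749 → P i := stepQ 20748 Q20748 (allL N20748 (tt N19636 F68910) (tt N20779 (iv F69031)) (tt N19631 F68911) (tt N22365 D32722) (tt N17772 (iv D31101)) (tt N22366 D32723) (tt N22367 D32724))
theorem Q20750 : ∀ i, i < 20750 → P i := stepQ 20749 Q20749 (allL N20749 (tt N19637 F68912) (tt N22368 D32725) (tt N19632 F68913) (tt N17774 F68914) (tt N22366 (iv F74757)) (tt N17772 (iv D31102)) (tt N20763 (iv F68973)))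
theorem Q20751 : ∀ i, i < 20751 → P i := stepQ 20750 Q20750 (allL N20750 (tt N19638 F68915) (tt N19341 (iv F68918)) (tt N19633 F68916) (tt N17775 F68917) (tt N22367 (iv F74761)) (tt N21925 (iv F72985)) (tt N17772 (iv D31103)))
theorem Q20752 : ∀ i, i < 20752 → P i := stepQ 20751 Q20751 (allL N20751 (tt N21850 (iv F72669)) (tt N19077 F68919) (tt N19441 F68920) (tt N17773 (iv D31104)) (tt N22365 (iv F74753)) (tt N20762 (iv F68970)) (tt N19436 (iv F68921)))
theorem Q20753 : ∀ i, i < 20753 → P i := stepQ 20752 Q20752 (allL N20752 (tt N17792 F68922) (tt N19342 F68923) (tt N17776 F68924) (tt N19436 F68925) (tt N17775 F68926) (tt N17787 (iv F68927)) (tt N17773 (iv D31105)))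
theorem Q20754 : ∀ i, i < 20754 → P i := stepQ 20753 Q20753 (allL N20753 (tt N20753 F68928) (tt N17774 (iv D31106)) (tt N20753 F68929) (tt N22368 (iv F74765)) (tt N20764 (iv F68977)) (tt N20783 (iv F69040)) (tt N22369 D32726))
theorem Q20755 : ∀ i, i < 20755 → P i := stepQ 20754 Q20754 (allL N20754 (tt N20637 F68930) (tt N19554 F68931) (tt N17945 F68932) (tt N21798 (iv F72459)) (tt N17925 F68933) (tt N19987 F68934) (tt N17778 (iv D31107)))
theorem Q20756 : ∀ i, i < 20756 → P i := stepQ 20755 Q20755 (allL N20755 (tt N17782 F68935) (tt N22145 (iv F73864)) (tt N19008 F68936) (tt N20483 F68937) (tt N17780 F68938) (tt N17779 (iv D31108)) (tt N19005 F68939))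
theorem Q20757 : ∀ i, i < 20757 → P i := stepQ 20756 Q20756 (allL N20756 (tt N17783 F68940) (tt N22285 (iv F74434)) (tt N17960 F68941) (tt N19331 F68942) (tt N17781 F68943) (tt N19330 F68944) (tt N17779 (iv D31109)))
theorem Q20758 : ∀ i, i < 20758 → P i := stepQ 20757 Q20757 (allL N20757 (tt N21524 (iv F71497)) (tt N17784 (iv D31110)) (tt N19258 F68945) (tt N18847 F68946) (tt N20710 F68947) (tt N20499 F68948) (tt N20757 F68949))
theorem Q20759 : ∀ i, i < 20759 → P i := stepQ 20758 Q20758 (allL N20758 (tt N17793 F68950) (tt N19429 F68951) (tt N17788 F68952) (tt N19437 F68953) (tt N20745 F68954) (tt N19434 F68955) (tt N17787 (iv D31111)))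
theorem Q20760 : ∀ i, i < 20760 → P i := stepQ 20759 Q20759 (allL N20759 (tt N19326 (iv F68960)) (tt N17788 (iv D31112)) (tt N20015 F68956) (tt N17789 F68957) (tt N20747 F68958) (tt N21802 (iv F72486)) (tt N19322 F68959))
theorem Q20761 : ∀ i, i < 20761 → P i := stepQ 20760 Q20760 (allL N20760 (tt N19435 F68961) (tt N20789 (iv F69066)) (tt N19430 F68962) (tt N22370 D32727) (tt N17790 (iv D31113)) (tt N22371 D32728) (tt N22372 D32729))
theorem Q20762 : ∀ i, i < 20762 → P i := stepQ 20761 Q20761 (allL N20761 (tt N19436 F68963) (tt N19561 (iv F68966)) (tt N19431 F68964) (tt N17792 F68965) (tt N22371 (iv F74780)) (tt N17790 (iv D31114)) (tt N21850 (iv F72673)))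
theorem Q20763 : ∀ i, i < 20763 → P i := stepQ 20762 Q20762 (allL N20762 (tt N19437 F68967) (tt N22373 D32730) (tt N19432 F68968) (tt N17793 F68969) (tt N22372 (iv F74786)) (tt N20751 F68970) (tt N17790 (iv D31115)))
theorem Q20764 : ∀ i, i < 20764 → P i := stepQ 20763 Q20763 (allL N20763 (tt N21925 (iv F72981)) (tt N19211 F68971) (tt N19643 F68974) (tt N17791 (iv D31116)) (tt N22370 (iv F74774)) (tt N19638 F68972) (tt N20749 F68973))
theorem Q20765 : ∀ i, i < 20765 → P i := stepQ 20764 Q20764 (allL N20764 (tt N20764 F68975) (tt N17793 (iv D31117)) (tt N20764 F68976) (tt N22373 (iv F74790)) (tt N20753 F68977) (tt N22369 (iv F74770)) (tt N20783 (iv F69041)))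
theorem Q20766 : ∀ i, i < 20766 → P i := stepQ 20765 Q20765 (allL N20765 (tt N20663 F68978) (tt N19327 F68979) (tt N17935 F68980) (tt N21891 (iv F72840)) (tt N17924 F68981) (tt N17794 (iv D31118)) (tt N19926 F68982))
theorem Q20767 : ∀ i, i < 20767 → P i := stepQ 20766 Q20766 (allL N20766 (tt N17798 F68983) (tt N22265 (iv F74352)) (tt N17965 F68984) (tt N19557 F68985) (tt N17796 F68986) (tt N17795 (iv D31119)) (tt N19556 F68987))
theorem Q20768 : ∀ i, i < 20768 → P i := stepQ 20767 Q20767 (allL N20767 (tt N17799 F68988) (tt N22142 (iv F73853)) (tt N19146 F68989) (tt N20541 F68990) (tt N17797 F68991) (tt N19144 F68992) (tt N17795 (iv D31120)))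
theorem Q20769 : ∀ i, i < 20769 → P i := stepQ 20768 Q20768 (allL N20768 (tt N21483 (iv F71361)) (tt N17801 (iv D31121)) (tt N19491 F68993) (tt N18902 F68994) (tt N20743 F68995) (tt N20768 F68996) (tt N20441 F68997))
theorem Q20770 : ∀ i, i < 20770 → P i := stepQ 20769 Q20769 (allL N20769 (tt N20443 F68998) (tt N22294 F74480) (tt N20528 F68999) (tt N20442 F69000) (tt N20554 F69001) (tt N17802 (iv D31122)) (tt N22267 (iv F74364)))
theorem Q20771 : ∀ i, i < 20771 → P i := stepQ 20770 Q20770 (allL N20770 (tt N20448 F69002) (tt N20784 F69048) (tt N20529 F69003) (tt N20446 F69004) (tt N20555 F69005) (tt N20786 (iv F69055)) (tt N17802 (iv D31123)))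
theorem Q20772 : ∀ i, i < 20772 → P i := stepQ 20771 Q20771 (allL N20771 (tt N20529 (iv F69009)) (tt N17803 (iv D31124)) (tt N20448 (iv F69010)) (tt N20524 F69006) (tt N20556 F69007) (tt N22294 (iv F74479)) (tt N19873 F69008))
theorem Q20773 : ∀ i, i < 20773 → P i := stepQ 20772 Q20772 (allL N20772 (tt N22287 (iv F74444)) (tt N17804 (iv D31125)) (tt N22274 (iv F74390)) (tt N20502 F69011) (tt N20557 F69012) (tt N20501 (iv F69013)) (tt N20784 (iv F69047)))
theorem Q20774 : ∀ i, i < 20774 → P i := stepQ 20773 Q20773 (allL N20773 (tt N17811 F69014) (tt N19420 F69015) (tt N17811 F69016) (tt N17807 (iv D31126)) (tt N21641 (iv F71857)) (tt N22374 D32731) (tt N20790 (iv F69070)))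
theorem Q20775 : ∀ i, i < 20775 → P i := stepQ 20774 Q20774 (allL N20774 (tt N17813 F69017) (tt N19418 F69018) (tt N17809 F69019) (tt N22374 (iv F74794)) (tt N19419 F69020) (tt N17807 (iv D31127)) (tt N17822 F69021))
theorem Q20776 : ∀ i, i < 20776 → P i := stepQ 20775 Q20775 (allL N20775 (tt N17815 F69022) (tt N22375 D32732) (tt N19419 F69023) (tt N20560 F69024) (tt N17809 F69025) (tt N17808 (iv D31128)) (tt N17823 F69026))
theorem Q20777 : ∀ i, i < 20777 → P i := stepQ 20776 Q20776 (allL N20776 (tt N22376 D32733) (tt N17809 (iv D31129)) (tt N22377 D32734) (tt N17810 F69027) (tt N22375 (iv F74798)) (tt N21475 (iv F71337)) (tt N21517 (iv F71472)))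
theorem Q20778 : ∀ i, i < 20778 → P i := stepQ 20777 Q20777 (allL N20777 (tt N17810 (iv D31130)) (tt N22378 D32735) (tt N22018 F73354) (tt N22376 (iv F74801)) (tt N20562 F69028) (tt N21476 (iv F71339)) (tt N21518 (iv F71474)))
theorem Q20779 : ∀ i, i < 20779 → P i := stepQ 20778 Q20778 (allL N20778 (tt N22018 (iv F73353)) (tt N20778 F69029) (tt N17810 (iv D31131)) (tt N22379 D32736) (tt N20563 F69030) (tt N21477 (iv F71344)) (tt N21519 (iv F71480)))
theorem Q20780 : ∀ i, i < 20780 → P i := stepQ 20779 Q20779 (allL N20779 (tt N21641 F71858) (tt N20748 F69031) (tt N21641 (iv F71855)) (tt N21633 F71834) (tt N17811 (iv D31132)) (tt N22380 D32737) (tt N22381 D32738))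
theorem Q20781 : ∀ i, i < 20781 → P i := stepQ 20780 Q20780 (allL N20780 (tt N22374 (iv F74791)) (tt N22382 D32739) (tt N22374 (iv F74793)) (tt N17813 F69032) (tt N22380 (iv F74817)) (tt N17811 (iv D31133)) (tt N17824 (iv F69033)))
theorem Q20782 : ∀ i, i < 20782 → P i := stepQ 20781 Q20781 (allL N20781 (tt N20790 (iv F69067)) (tt N21808 (iv F72505)) (tt N20790 (iv F69068)) (tt N17814 F69034) (tt N22381 (iv F74820)) (tt N20788 (iv F69064)) (tt N17811 (iv D31134)))
theorem Q20783 : ∀ i, i < 20783 → P i := stepQ 20782 Q20782 (allL N20782 (tt N19419 F69035) (tt N22369 (iv F74767)) (tt N17815 F69036) (tt N21637 (iv F71844)) (tt N17813 F69037) (tt N17812 (iv D31135)) (tt N17825 F69038))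
theorem Q20784 : ∀ i, i < 20784 → P i := stepQ 20783 Q20783 (allL N20783 (tt N20783 F69042) (tt N17813 (iv D31136)) (tt N20783 F69039) (tt N22382 (iv F74823)) (tt N22369 (iv F74769)) (tt N20753 F69040) (tt N20764 F69041))
theorem Q20785 : ∀ i, i < 20785 → P i := stepQ 20784 Q20784 (allL N20784 (tt N20506 F69043) (tt N20770 (iv F69048)) (tt N20470 F69044) (tt N20504 F69045) (tt N20579 F69046) (tt N17817 (iv D31137)) (tt N20772 F69047))
theorem Q20786 : ∀ i, i < 20786 → P i := stepQ 20785 Q20785 (allL N20785 (tt N20501 F69049) (tt N22276 F74402) (tt N20471 F69050) (tt N20500 F69051) (tt N20580 F69052) (tt N22287 (iv F74448)) (tt N17817 (iv D31138)))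
theorem Q20787 : ∀ i, i < 20787 → P i := stepQ 20786 Q20786 (allL N20786 (tt N22267 (iv F74361)) (tt N17818 (iv D31139)) (tt N22296 (iv F74485)) (tt N20444 F69053) (tt N20581 F69054) (tt N20770 F69055) (tt N20443 (iv F69056)))
theorem Q20788 : ∀ i, i < 20788 → P i := stepQ 20787 Q20787 (allL N20787 (tt N20470 F69060) (tt N17819 (iv D31140)) (tt N20506 (iv F69061)) (tt N20465 F69057) (tt N20582 F69058) (tt N19854 F69059) (tt N22276 (iv F74401)))
theorem Q20789 : ∀ i, i < 20789 → P i := stepQ 20788 Q20788 (allL N20788 (tt N17824 F69062) (tt N19622 F69063) (tt N17824 F69065) (tt N17822 (iv D31141)) (tt N21747 (iv F72242)) (tt N20781 F69064) (tt N22374 (iv F74795)))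
theorem Q20790 : ∀ i, i < 20790 → P i := stepQ 20789 Q20789 (allL N20789 (tt N21747 F72243) (tt N20760 F69066) (tt N21747 (iv F72240)) (tt N21744 F72234) (tt N17824 (iv D31142)) (tt N22383 D32740) (tt N22380 F74818))
theorem Q20791 : ∀ i, i < 20791 → P i := stepQ 20790 Q20790 (allL N20790 (tt N20781 F69067) (tt N21898 (iv F72870)) (tt N20781 F69068) (tt N17826 F69069) (tt N22383 (iv F74829)) (tt N17824 (iv D31143)) (tt N20773 F69070))
theorem Q20792 : ∀ i, i < 20792 → P i := stepQ 20791 Q20791 (allL N20791 (tt N17859 F69071) (tt N19306 F69072) (tt N21911 (iv F72922)) (tt N20641 F69073) (tt N17857 (iv D31144)) (tt N20593 F69074) (tt N21236 (iv F70523)))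
theorem Q20793 : ∀ i, i < 20793 → P i := stepQ 20792 Q20792 (allL N20792 (tt N21236 (iv F70518)) (tt N20136 F69075) (tt N21235 (iv F70513)) (tt N20937 (iv F69639)) (tt N17860 F69076) (tt N21826 (iv F72579)) (tt N17859 (iv D31145)))
theorem Q20794 : ∀ i, i < 20794 → P i := stepQ 20793 Q20793 (allL N20793 (tt N20808 (iv F69146)) (tt N18800 (iv F69078)) (tt N17863 (iv D31146)) (tt N21770 (iv F72335)) (tt N18797 F69077) (tt N21769 F72331) (tt N22167 (iv F73944)))
theorem Q20795 : ∀ i, i < 20795 → P i := stepQ 20794 Q20794 (allL N20794 (tt N18357 F69079) (tt N20262 F69080) (tt N21769 (iv F72328)) (tt N17864 F69081) (tt N18358 F69082) (tt N17863 (iv D31147)) (tt N20344 F69083))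
theorem Q20796 : ∀ i, i < 20796 → P i := stepQ 20795 Q20795 (allL N20795 (tt N17871 F69084) (tt N19535 F69085) (tt N21826 (iv F72576)) (tt N20666 F69086) (tt N17869 (iv D31148)) (tt N21235 (iv F70516)) (tt N20589 F69087))
theorem Q20797 : ∀ i, i < 20797 → P i := stepQ 20796 Q20796 (allL N20796 (tt N21235 (iv F70512)) (tt N20133 F69088) (tt N21236 (iv F70519)) (tt N20964 (iv F69711)) (tt N17872 F69089) (tt N17871 (iv D31149)) (tt N21911 (iv F72926)))
theorem Q20798 : ∀ i, i < 20798 → P i := stepQ 20797 Q20797 (allL N20797 (tt N20818 (iv F69199)) (tt N18749 (iv F69091)) (tt N17875 (iv D31150)) (tt N21871 (iv F72753)) (tt N18746 F69090) (tt N22158 (iv F73910)) (tt N21870 (iv F72749)))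
theorem Q20799 : ∀ i, i < 20799 → P i := stepQ 20798 Q20798 (allL N20798 (tt N18419 F69092) (tt N20273 F69093) (tt N21870 (iv F72746)) (tt N17876 F69094) (tt N18420 F69095) (tt N20406 F69096) (tt N17875 (iv D31151)))
theorem Q20800 : ∀ i, i < 20800 → P i := stepQ 20799 Q20799 (allL N20799 (tt N20679 F69097) (tt N21389 F71070) (tt N20675 F69098) (tt N17881 F69099) (tt N20909 (iv F69567)) (tt N22130 (iv F73799)) (tt N17880 (iv D31152)))
theorem Q20801 : ∀ i, i < 20801 → P i := stepQ 20800 Q20800 (allL N20800 (tt N20249 F69100) (tt N21396 (iv F71088)) (tt N17882 (iv D31153)) (tt N22195 (iv F74030)) (tt N20215 F69101) (tt N20293 F69102) (tt N20100 F69103))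
theorem Q20802 : ∀ i, i < 20802 → P i := stepQ 20801 Q20801 (allL N20801 (tt N17887 F69104) (tt N19413 F69105) (tt N20722 F69106) (tt N17885 (iv D31154)) (tt N20197 F69107) (tt N18350 F69108) (tt N17894 F69109))
theorem Q20803 : ∀ i, i < 20803 → P i := stepQ 20802 Q20802 (allL N20802 (tt N20197 F69110) (tt N20338 F69111) (tt N20721 F69115) (tt N17886 (iv D31155)) (tt N17887 F69112) (tt N20344 F69113) (tt N17899 F69114))
theorem Q20804 : ∀ i, i < 20804 → P i := stepQ 20803 Q20803 (allL N20803 (tt N18350 F69116) (tt N19809 F69117) (tt N20723 F69118) (tt N17888 F69119) (tt N20344 F69120) (tt N17887 (iv D31156)) (tt N18358 F69121))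
theorem Q20805 : ∀ i, i < 20805 → P i := stepQ 20804 Q20804 (allL N20804 (tt N17897 F69122) (tt N18286 F69123) (tt N18546 F69127) (tt N17895 (iv D31157)) (tt N20445 F69124) (tt N18373 F69125) (tt N18493 F69126))
theorem Q20806 : ∀ i, i < 20806 → P i := stepQ 20805 Q20805 (allL N20805 (tt N20445 F69128) (tt N17899 F69129) (tt N19166 F69130) (tt N17896 (iv D31158)) (tt N17897 F69131) (tt N18371 F69132) (tt N19589 F69133))
theorem Q20807 : ∀ i, i < 20807 → P i := stepQ 20806 Q20806 (allL N20806 (tt N18546 F69134) (tt N19824 F69135) (tt N17897 (iv D31159)) (tt N20124 F69136) (tt N19166 F69137) (tt N18374 F69138) (tt N19825 (iv F69139)))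
theorem Q20808 : ∀ i, i < 20808 → P i := stepQ 20807 Q20807 (allL N20807 (tt N18493 F69140) (tt N19830 F69141) (tt N19825 F69142) (tt N17898 F69143) (tt N19589 F69144) (tt N18492 F69145) (tt N17897 (iv D31160)))
theorem Q20809 : ∀ i, i < 20809 → P i := stepQ 20808 Q20808 (allL N20808 (tt N20793 F69146) (tt N20720 (iv F69149)) (tt N17899 (iv D31161)) (tt N20934 (iv F69629)) (tt N17900 F69147) (tt N21098 (iv F70100)) (tt N20721 F69148))
theorem Q20810 : ∀ i, i < 20810 → P i := stepQ 20809 Q20809 (allL N20809 (tt N20716 F69150) (tt N21433 F71212) (tt N20712 F69151) (tt N17905 F69152) (tt N20938 (iv F69645)) (tt N17904 (iv D31162)) (tt N22132 (iv F73809)))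
theorem Q20811 : ∀ i, i < 20811 → P i := stepQ 20810 Q20810 (allL N20810 (tt N20237 F69153) (tt N21440 (iv F71230)) (tt N17906 (iv D31163)) (tt N22188 (iv F74005)) (tt N20218 F69154) (tt N20101 F69155) (tt N20312 F69156))
theorem Q20812 : ∀ i, i < 20812 → P i := stepQ 20811 Q20811 (allL N20811 (tt N17910 F69157) (tt N19618 F69158) (tt N20685 F69159) (tt N17908 (iv D31164)) (tt N20180 F69160) (tt N17916 F69161) (tt N18412 F69162))
theorem Q20813 : ∀ i, i < 20813 → P i := stepQ 20812 Q20812 (allL N20812 (tt N20180 F69163) (tt N20401 F69164) (tt N20684 F69168) (tt N17909 (iv D31165)) (tt N17910 F69165) (tt N17921 F69166) (tt N20406 F69167))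
theorem Q20814 : ∀ i, i < 20814 → P i := stepQ 20813 Q20813 (allL N20813 (tt N18412 F69169) (tt N19715 F69170) (tt N20686 F69171) (tt N17911 F69172) (tt N20406 F69173) (tt N18420 F69174) (tt N17910 (iv D31166)))
theorem Q20815 : ∀ i, i < 20815 → P i := stepQ 20814 Q20814 (allL N20814 (tt N17919 F69175) (tt N18343 F69176) (tt N18553 F69180) (tt N17917 (iv D31167)) (tt N20503 F69177) (tt N18524 F69178) (tt N18438 F69179))
theorem Q20816 : ∀ i, i < 20816 → P i := stepQ 20815 Q20815 (allL N20815 (tt N20503 F69181) (tt N17921 F69182) (tt N19029 F69183) (tt N17918 (iv D31168)) (tt N17919 F69184) (tt N19374 F69185) (tt N18434 F69186))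
theorem Q20817 : ∀ i, i < 20817 → P i := stepQ 20816 Q20816 (allL N20816 (tt N18553 F69187) (tt N19731 F69188) (tt N17919 (iv D31169)) (tt N20131 F69189) (tt N19029 F69190) (tt N19732 (iv F69192)) (tt N18439 F69191))
theorem Q20818 : ∀ i, i < 20818 → P i := stepQ 20817 Q20817 (allL N20817 (tt N18524 F69193) (tt N19737 F69194) (tt N19732 F69195) (tt N17920 F69196) (tt N19374 F69197) (tt N17919 (iv D31170)) (tt N18523 F69198))
theorem Q20819 : ∀ i, i < 20819 → P i := stepQ 20818 Q20818 (allL N20818 (tt N20797 F69199) (tt N20683 (iv F69202)) (tt N17921 (iv D31171)) (tt N20936 (iv F69634)) (tt N17922 F69200) (tt N20684 F69201) (tt N21151 (iv F70255)))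
theorem Q20820 : ∀ i, i < 20820 → P i := stepQ 20819 Q20819 (allL N20819 (tt N18607 F69203) (tt N18290 F69204) (tt N17927 F69205) (tt N19901 F69206) (tt N17926 (iv D31172)) (tt N17927 F69207) (tt N20670 F69208))
theorem Q20821 : ∀ i, i < 20821 → P i := stepQ 20820 Q20820 (allL N20820 (tt N18611 F69209) (tt N18347 F69210) (tt N17930 F69211) (tt N19914 F69212) (tt N17929 (iv D31173)) (tt N20645 F69213) (tt N17930 F69214))
theorem Q20822 : ∀ i, i < 20822 → P i := stepQ 20821 Q20821 (allL N20821 (tt N21063 (iv F69992)) (tt N17932 (iv D31174)) (tt N21062 (iv F69989)) (tt N17933 F69215) (tt N18496 F69216) (tt N21820 (iv F72553)) (tt N18491 F69217))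
theorem Q20823 : ∀ i, i < 20823 → P i := stepQ 20822 Q20822 (allL N20822 (tt N21024 (iv F69869)) (tt N17942 (iv D31175)) (tt N21023 (iv F69866)) (tt N17943 F69218) (tt N18522 F69219) (tt N18519 F69220) (tt N21905 (iv F72898)))
theorem Q20824 : ∀ i, i < 20824 → P i := stepQ 20823 Q20823 (allL N20823 (tt N19514 F69221) (tt N20453 F69222) (tt N18612 F69223) (tt N18526 F69224) (tt N17953 F69225) (tt N20234 F69226) (tt N17952 (iv D31176)))
theorem Q20825 : ∀ i, i < 20825 → P i := stepQ 20824 Q20824 (allL N20824 (tt N19282 F69227) (tt N20511 F69228) (tt N18614 F69229) (tt N18527 F69230) (tt N17955 F69231) (tt N17954 (iv D31177)) (tt N20235 F69232))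
theorem Q20826 : ∀ i, i < 20826 → P i := stepQ 20825 Q20825 (allL N20825 (tt N20838 (iv F69286)) (tt N19680 (iv F69236)) (tt N17986 F69233) (tt N18621 F69234) (tt N17957 F69235) (tt N20837 (iv F69285)) (tt N17956 (iv D31178)))
theorem Q20827 : ∀ i, i < 20827 → P i := stepQ 20826 Q20826 (allL N20826 (tt N20842 (iv F69299)) (tt N19775 (iv F69240)) (tt N17994 F69237) (tt N18636 F69238) (tt N17962 F69239) (tt N17961 (iv D31179)) (tt N20841 (iv F69298)))
theorem Q20828 : ∀ i, i < 20828 → P i := stepQ 20827 Q20827 (allL N20827 (tt N18089 F69241) (tt N18003 F69242) (tt N17966 (iv D31180)) (tt N18089 F69244) (tt N18000 (iv F69245)) (tt N17974 F69243) (tt N20852 (iv F69334)))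
theorem Q20829 : ∀ i, i < 20829 → P i := stepQ 20828 Q20828 (allL N20828 (tt N18093 F69246) (tt N18082 F69247) (tt N18000 F69248) (tt N18081 F69249) (tt N17966 (iv D31181)) (tt N17975 F69250) (tt N20853 (iv F69340)))
theorem Q20830 : ∀ i, i < 20830 → P i := stepQ 20829 Q20829 (allL N20829 (tt N18143 F69251) (tt N18007 F69252) (tt N17969 (iv D31182)) (tt N18143 F69254) (tt N18004 (iv F69255)) (tt N20859 (iv F69361)) (tt N17980 F69253))
theorem Q20831 : ∀ i, i < 20831 → P i := stepQ 20830 Q20830 (allL N20830 (tt N18147 F69256) (tt N18136 F69257) (tt N18004 F69258) (tt N18135 F69259) (tt N17969 (iv D31183)) (tt N20860 (iv F69367)) (tt N17981 F69260))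
theorem Q20832 : ∀ i, i < 20832 → P i := stepQ 20831 Q20831 (allL N20831 (tt N17976 F69261) (tt N20405 F69262) (tt N21884 (iv F72808)) (tt N17973 F69263) (tt N21344 (iv F70913)) (tt N18011 F69264) (tt N17972 (iv D31184)))
theorem Q20833 : ∀ i, i < 20833 → P i := stepQ 20832 Q20832 (allL N20832 (tt N21968 (iv F73157)) (tt N17973 (iv D31185)) (tt N21554 (iv F71609)) (tt N20405 F69265) (tt N18667 F69266) (tt N22384 D32741) (tt N20403 F69267))
theorem Q20834 : ∀ i, i < 20834 → P i := stepQ 20833 Q20833 (allL N20833 (tt N17977 (iv D31186)) (tt N21303 (iv F70746)) (tt N20836 (iv F69278)) (tt N21879 (iv F72789)) (tt N18670 F69268) (tt N18046 F69269) (tt N17989 F69270))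
theorem Q20835 : ∀ i, i < 20835 → P i := stepQ 20834 Q20834 (allL N20834 (tt N17982 F69271) (tt N20343 F69272) (tt N21790 (iv F72423)) (tt N17979 F69273) (tt N21352 (iv F70947)) (tt N17978 (iv D31187)) (tt N18017 F69274))
theorem Q20836 : ∀ i, i < 20836 → P i := stepQ 20835 Q20835 (allL N20835 (tt N22006 (iv F73303)) (tt N17979 (iv D31188)) (tt N21681 (iv F72012)) (tt N20343 F69275) (tt N18672 F69276) (tt N20341 F69277) (tt N22385 D32742))
theorem Q20837 : ∀ i, i < 20837 → P i := stepQ 20836 Q20836 (allL N20836 (tt N17983 (iv D31189)) (tt N21314 (iv F70787)) (tt N20833 F69278) (tt N21781 (iv F72386)) (tt N18675 F69279) (tt N17997 F69280) (tt N18075 F69281))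
theorem Q20838 : ∀ i, i < 20838 → P i := stepQ 20837 Q20837 (allL N20837 (tt N17986 F69282) (tt N21945 (iv F73072)) (tt N20838 (iv F69287)) (tt N18676 F69283) (tt N17985 F69284) (tt N20825 F69285) (tt N17984 (iv D31190)))
theorem Q20839 : ∀ i, i < 20839 → P i := stepQ 20838 Q20838 (allL N20838 (tt N20825 F69286) (tt N22025 (iv F73375)) (tt N20837 F69287) (tt N18090 F69288) (tt N17988 F69289) (tt N17986 (iv D31191)) (tt N18003 F69290))
theorem Q20840 : ∀ i, i < 20840 → P i := stepQ 20839 Q20839 (allL N20839 (tt N17987 (iv D31192)) (tt N22080 (iv F73627)) (tt N19595 F69291) (tt N17989 F69292) (tt N21880 (iv F72795)) (tt N19594 F69293) (tt N21879 F72791))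
theorem Q20841 : ∀ i, i < 20841 → P i := stepQ 20840 Q20840 (allL N20840 (tt N21321 (iv F70815)) (tt N17989 (iv D31193)) (tt N21320 F70814) (tt N22080 (iv F73628)) (tt N18685 F69294) (tt N22079 F73625) (tt N21354 (iv F70955)))
theorem Q20842 : ∀ i, i < 20842 → P i := stepQ 20841 Q20841 (allL N20841 (tt N17994 F69295) (tt N21983 (iv F73217)) (tt N20842 (iv F69300)) (tt N18687 F69296) (tt N17993 F69297) (tt N17992 (iv D31194)) (tt N20826 F69298))
theorem Q20843 : ∀ i, i < 20843 → P i := stepQ 20842 Q20842 (allL N20842 (tt N20826 F69299) (tt N22040 (iv F73438)) (tt N20841 F69300) (tt N18144 F69301) (tt N17996 F69302) (tt N18007 F69303) (tt N17994 (iv D31195)))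
theorem Q20844 : ∀ i, i < 20844 → P i := stepQ 20843 Q20843 (allL N20843 (tt N17995 (iv D31196)) (tt N22093 (iv F73669)) (tt N19380 F69304) (tt N17997 F69305) (tt N21782 (iv F72392)) (tt N21781 F72388) (tt N19379 F69306))
theorem Q20845 : ∀ i, i < 20845 → P i := stepQ 20844 Q20844 (allL N20844 (tt N21310 (iv F70773)) (tt N17997 (iv D31197)) (tt N21309 F70772) (tt N22093 (iv F73670)) (tt N18696 F69307) (tt N21400 (iv F71104)) (tt N22092 F73667))
theorem Q20846 : ∀ i, i < 20846 → P i := stepQ 20845 Q20845 (allL N20845 (tt N19424 F69308) (tt N21370 (iv F71003)) (tt N20853 (iv F69338)) (tt N18002 F69309) (tt N20852 F69336) (tt N19517 F69310) (tt N18000 (iv D31198)))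
theorem Q20847 : ∀ i, i < 20847 → P i := stepQ 20846 Q20846 (allL N20846 (tt N19292 F69311) (tt N21414 (iv F71143)) (tt N20860 (iv F69365)) (tt N18005 F69312) (tt N20859 F69363) (tt N18004 (iv D31199)) (tt N19288 F69313))
theorem Q20848 : ∀ i, i < 20848 → P i := stepQ 20847 Q20847 (allL N20847 (tt N18009 F69314) (tt N21127 (iv F70186)) (tt N18008 (iv D31200)) (tt N19124 (iv F69318)) (tt N18717 F69315) (tt N18009 F69316) (tt N19123 F69317))
theorem Q20849 : ∀ i, i < 20849 → P i := stepQ 20848 Q20848 (allL N20848 (tt N21269 (iv F70638)) (tt N18009 (iv D31201)) (tt N18010 F69319) (tt N19721 (iv F69321)) (tt N18718 F69320) (tt N19720 (iv F69322)) (tt N21396 (iv F71090)))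
theorem Q20850 : ∀ i, i < 20850 → P i := stepQ 20849 Q20849 (allL N20849 (tt N19124 F69323) (tt N19721 F69324) (tt N18224 F69328) (tt N18009 (iv D31202)) (tt N18226 F69325) (tt N19124 F69326) (tt N18223 F69327))
theorem Q20851 : ∀ i, i < 20851 → P i := stepQ 20850 Q20850 (allL N20850 (tt N21388 (iv F71065)) (tt N18011 F69329) (tt N22386 D32743) (tt N18010 (iv D31203)) (tt N22387 D32744) (tt N22388 D32745) (tt N21389 (iv F71069)))
theorem Q20852 : ∀ i, i < 20852 → P i := stepQ 20851 Q20851 (allL N20851 (tt N21395 (iv F71084)) (tt N22384 (iv F74831)) (tt N19720 F69330) (tt N22388 (iv F74849)) (tt N18722 F69331) (tt N18010 (iv D31204)) (tt N18788 F69332))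
theorem Q20853 : ∀ i, i < 20853 → P i := stepQ 20852 Q20852 (allL N20852 (tt N18012 F69333) (tt N21847 (iv F72658)) (tt N18011 (iv D31205)) (tt N18012 F69335) (tt N20845 (iv F69336)) (tt N21884 (iv F72810)) (tt N20827 F69334))
theorem Q20854 : ∀ i, i < 20854 → P i := stepQ 20853 Q20853 (allL N20853 (tt N18013 F69337) (tt N22387 (iv F74845)) (tt N20845 F69338) (tt N18724 F69339) (tt N18011 (iv D31206)) (tt N21344 (iv F70914)) (tt N20828 F69340))
theorem Q20855 : ∀ i, i < 20855 → P i := stepQ 20854 Q20854 (allL N20854 (tt N18015 F69341) (tt N21180 (iv F70343)) (tt N18014 (iv D31207)) (tt N18985 (iv F69345)) (tt N18728 F69342) (tt N18984 F69343) (tt N18015 F69344))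
theorem Q20856 : ∀ i, i < 20856 → P i := stepQ 20855 Q20855 (allL N20855 (tt N21278 (iv F70663)) (tt N18015 (iv D31208)) (tt N18016 F69346) (tt N19816 (iv F69348)) (tt N18729 F69347) (tt N21440 (iv F71232)) (tt N19814 (iv F69349)))
theorem Q20857 : ∀ i, i < 20857 → P i := stepQ 20856 Q20856 (allL N20856 (tt N18985 F69350) (tt N19816 F69351) (tt N18199 F69355) (tt N18015 (iv D31209)) (tt N18201 F69352) (tt N18198 F69353) (tt N18985 F69354))
theorem Q20858 : ∀ i, i < 20858 → P i := stepQ 20857 Q20857 (allL N20857 (tt N21432 (iv F71207)) (tt N18017 F69356) (tt N22389 D32746) (tt N18016 (iv D31210)) (tt N22390 D32747) (tt N21433 (iv F71211)) (tt N22391 D32748))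
theorem Q20859 : ∀ i, i < 20859 → P i := stepQ 20858 Q20858 (allL N20858 (tt N21439 (iv F71226)) (tt N22385 (iv F74836)) (tt N19814 F69357) (tt N22391 (iv F74859)) (tt N18734 F69358) (tt N18839 F69359) (tt N18016 (iv D31211)))
theorem Q20860 : ∀ i, i < 20860 → P i := stepQ 20859 Q20859 (allL N20859 (tt N18018 F69360) (tt N21923 (iv F72974)) (tt N18017 (iv D31212)) (tt N18018 F69362) (tt N20846 (iv F69363)) (tt N20829 F69361) (tt N21790 (iv F72426)))
theorem Q20861 : ∀ i, i < 20861 → P i := stepQ 20860 Q20860 (allL N20860 (tt N18019 F69364) (tt N22390 (iv F74855)) (tt N20846 F69365) (tt N18735 F69366) (tt N18017 (iv D31213)) (tt N20830 F69367) (tt N21352 (iv F70949)))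
theorem Q20862 : ∀ i, i < 20862 → P i := stepQ 20861 Q20861 (allL N20861 (tt N20106 F69368) (tt N18473 F69369) (tt N18021 F69370) (tt N18473 F69371) (tt N20103 F69372) (tt N18020 (iv D31214)) (tt N22392 D32749))
theorem Q20863 : ∀ i, i < 20863 → P i := stepQ 20862 Q20862 (allL N20862 (tt N20909 (iv F69564)) (tt N22393 D32750) (tt N18022 F69373) (tt N19489 F69374) (tt N20679 F69375) (tt N21885 (iv F72814)) (tt N18020 (iv D31215)))
theorem Q20864 : ∀ i, i < 20864 → P i := stepQ 20863 Q20863 (allL N20863 (tt N19525 F69376) (tt N21212 (iv F70443)) (tt N22392 (iv F74862)) (tt N18023 F69377) (tt N20626 F69378) (tt N19097 F69379) (tt N18021 (iv D31216)))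
theorem Q20865 : ∀ i, i < 20865 → P i := stepQ 20864 Q20864 (allL N20864 (tt N22394 D32751) (tt N18022 (iv D31217)) (tt N22395 D32752) (tt N18024 F69380) (tt N20680 F69381) (tt N20935 (iv F69632)) (tt N21029 (iv F69895)))
theorem Q20866 : ∀ i, i < 20866 → P i := stepQ 20865 Q20865 (allL N20865 (tt N22396 D32753) (tt N18023 (iv D31218)) (tt N18792 F69382) (tt N21212 (iv F70444)) (tt N18738 F69383) (tt N20320 F69384) (tt N21203 (iv F70424)))
theorem Q20867 : ∀ i, i < 20867 → P i := stepQ 20866 Q20866 (allL N20866 (tt N18024 (iv D31219)) (tt N21270 (iv F70643)) (tt N20988 (iv F69769)) (tt N22394 (iv F74869)) (tt N18739 F69385) (tt N18756 F69386) (tt N21030 (iv F69899)))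
theorem Q20868 : ∀ i, i < 20868 → P i := stepQ 20867 Q20867 (allL N20867 (tt N18756 F69387) (tt N20868 (iv F69390)) (tt N20989 (iv F69774)) (tt N20935 (iv F69631)) (tt N18740 F69388) (tt N18024 (iv D31220)) (tt N18755 F69389))
theorem Q20869 : ∀ i, i < 20869 → P i := stepQ 20868 Q20868 (allL N20868 (tt N18027 (iv D31221)) (tt N20867 F69390) (tt N19095 F69391) (tt N18121 F69392) (tt N18745 F69393) (tt N19522 F69394) (tt N19093 F69395))
theorem Q20870 : ∀ i, i < 20870 → P i := stepQ 20869 Q20869 (allL N20869 (tt N18030 F69396) (tt N21871 (iv F72751)) (tt N20213 F69397) (tt N18749 F69398) (tt N18028 (iv D31222)) (tt N20882 (iv F69458)) (tt N18039 F69399))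
theorem Q20871 : ∀ i, i < 20871 → P i := stepQ 20870 Q20870 (allL N20870 (tt N20881 (iv F69451)) (tt N19035 F69400) (tt N18031 F69401) (tt N18129 F69402) (tt N18503 F69403) (tt N18029 (iv D31223)) (tt N18128 F69404))
theorem Q20872 : ∀ i, i < 20872 → P i := stepQ 20871 Q20871 (allL N20871 (tt N20882 (iv F69455)) (tt N18262 F69405) (tt N18503 F69406) (tt N18753 F69407) (tt N18031 F69408) (tt N18030 (iv D31224)) (tt N18502 F69409))
theorem Q20873 : ∀ i, i < 20873 → P i := stepQ 20872 Q20872 (allL N20872 (tt N18032 (iv D31225)) (tt N22174 (iv F73959)) (tt N19724 F69410) (tt N18265 F69411) (tt N18755 F69412) (tt N18255 F69413) (tt N18740 (iv F69414)))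
theorem Q20874 : ∀ i, i < 20874 → P i := stepQ 20873 Q20873 (allL N20873 (tt N18740 F69415) (tt N20879 (iv F69443)) (tt N20969 (iv F69723)) (tt N18268 F69416) (tt N18756 F69417) (tt N18739 F69418) (tt N18032 (iv D31226)))
theorem Q20875 : ∀ i, i < 20875 → P i := stepQ 20874 Q20874 (allL N20874 (tt N19038 F69419) (tt N21659 (iv F71920)) (tt N18038 F69420) (tt N18645 F69421) (tt N18759 F69422) (tt N18644 F69423) (tt N18033 (iv D31227)))
theorem Q20876 : ∀ i, i < 20876 → P i := stepQ 20875 Q20875 (allL N20875 (tt N18036 F69424) (tt N18684 F69425) (tt N18114 F69426) (tt N18035 (iv D31228)) (tt N19952 F69427) (tt N18652 F69428) (tt N19807 (iv F69429)))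
theorem Q20877 : ∀ i, i < 20877 → P i := stepQ 20876 Q20876 (allL N20876 (tt N18038 F69430) (tt N21394 (iv F71081)) (tt N19038 F69431) (tt N19807 F69432) (tt N18761 F69433) (tt N19064 F69434) (tt N18035 (iv D31229)))
theorem Q20878 : ∀ i, i < 20878 → P i := stepQ 20877 Q20877 (allL N20877 (tt N20948 (iv F69668)) (tt N18037 (iv D31230)) (tt N18822 F69435) (tt N18654 F69436) (tt N18765 F69437) (tt N18041 F69438) (tt N21357 (iv F70966)))
theorem Q20879 : ∀ i, i < 20879 → P i := stepQ 20878 Q20878 (allL N20878 (tt N18472 F69439) (tt N18040 (iv D31231)) (tt N21216 (iv F70454)) (tt N18041 F69440) (tt N21217 (iv F70461)) (tt N18654 F69441) (tt N21043 (iv F69935)))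
theorem Q20880 : ∀ i, i < 20880 → P i := stepQ 20879 Q20879 (allL N20879 (tt N18743 F69442) (tt N20873 F69443) (tt N18817 F69444) (tt N21043 (iv F69934)) (tt N18771 F69445) (tt N22397 D32754) (tt N18041 (iv D31232)))
theorem Q20881 : ∀ i, i < 20881 → P i := stepQ 20880 Q20880 (allL N20880 (tt N19468 F69446) (tt N18042 (iv D31233)) (tt N21829 (iv F72590)) (tt N19982 F69447) (tt N19469 F69448) (tt N20492 F69449) (tt N19467 F69450))
theorem Q20882 : ∀ i, i < 20882 → P i := stepQ 20881 Q20881 (allL N20881 (tt N20870 F69451) (tt N22012 (iv F73323)) (tt N18045 F69452) (tt N18118 F69453) (tt N21219 (iv F70469)) (tt N18117 F69454) (tt N18042 (iv D31234)))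
theorem Q20883 : ∀ i, i < 20883 → P i := stepQ 20882 Q20882 (allL N20882 (tt N20871 F69455) (tt N22254 (iv F74296)) (tt N21219 (iv F70467)) (tt N18779 F69456) (tt N18045 F69457) (tt N20869 F69458) (tt N18043 (iv D31235)))
theorem Q20884 : ∀ i, i < 20884 → P i := stepQ 20883 Q20883 (allL N20883 (tt N18480 F69459) (tt N18046 (iv D31236)) (tt N21202 (iv F70420)) (tt N18488 F69460) (tt N18784 F69461) (tt N21201 F70416) (tt N21103 (iv F70125)))
theorem Q20885 : ∀ i, i < 20885 → P i := stepQ 20884 Q20884 (allL N20884 (tt N21341 (iv F70902)) (tt N19113 F69462) (tt N19726 F69463) (tt N21772 (iv F72343)) (tt N18788 F69464) (tt N18048 (iv D31237)) (tt N18722 F69465))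
theorem Q20886 : ∀ i, i < 20886 → P i := stepQ 20885 Q20885 (allL N20885 (tt N20938 (iv F69642)) (tt N22398 D32755) (tt N18050 F69466) (tt N19245 F69467) (tt N20716 F69468) (tt N18049 (iv D31238)) (tt N21791 (iv F72430)))
theorem Q20887 : ∀ i, i < 20887 → P i := stepQ 20886 Q20886 (allL N20886 (tt N20114 F69469) (tt N18504 F69470) (tt N18051 F69471) (tt N18504 F69472) (tt N20111 F69473) (tt N22399 D32756) (tt N18049 (iv D31239)))
theorem Q20888 : ∀ i, i < 20888 → P i := stepQ 20887 Q20887 (allL N20887 (tt N22400 D32757) (tt N18050 (iv D31240)) (tt N22401 D32758) (tt N18052 F69474) (tt N20717 F69475) (tt N21066 (iv F70007)) (tt N20963 (iv F69707)))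
theorem Q20889 : ∀ i, i < 20889 → P i := stepQ 20888 Q20888 (allL N20888 (tt N19297 F69476) (tt N21231 (iv F70502)) (tt N22399 (iv F74893)) (tt N18054 F69477) (tt N20653 F69478) (tt N18051 (iv D31241)) (tt N18950 F69479))
theorem Q20890 : ∀ i, i < 20890 → P i := stepQ 20889 Q20889 (allL N20889 (tt N18052 (iv D31242)) (tt N21279 (iv F70668)) (tt N21014 (iv F69836)) (tt N22400 (iv F74897)) (tt N18789 F69480) (tt N21067 (iv F70014)) (tt N18807 (iv F69481)))
theorem Q20891 : ∀ i, i < 20891 → P i := stepQ 20890 Q20890 (allL N20890 (tt N18807 F69482) (tt N20892 (iv F69488)) (tt N21015 (iv F69841)) (tt N20963 (iv F69706)) (tt N18790 F69483) (tt N18806 (iv F69484)) (tt N18052 (iv D31243)))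
theorem Q20892 : ∀ i, i < 20892 → P i := stepQ 20891 Q20891 (allL N20891 (tt N22402 D32759) (tt N18054 (iv D31244)) (tt N18738 F69485) (tt N21231 (iv F70503)) (tt N18792 F69486) (tt N21223 (iv F70486)) (tt N20300 F69487))
theorem Q20893 : ∀ i, i < 20893 → P i := stepQ 20892 Q20892 (allL N20892 (tt N18056 (iv D31245)) (tt N20890 F69488) (tt N18955 F69489) (tt N18174 F69490) (tt N18796 F69491) (tt N18953 F69492) (tt N19294 F69493))
theorem Q20894 : ∀ i, i < 20894 → P i := stepQ 20893 Q20893 (allL N20893 (tt N18059 F69494) (tt N21770 (iv F72333)) (tt N20212 F69495) (tt N18800 F69496) (tt N18057 (iv D31246)) (tt N18068 F69497) (tt N20906 (iv F69556)))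
theorem Q20895 : ∀ i, i < 20895 → P i := stepQ 20894 Q20894 (allL N20894 (tt N20905 (iv F69549)) (tt N19172 F69498) (tt N18060 F69499) (tt N18181 F69500) (tt N18476 F69501) (tt N18180 F69502) (tt N18058 (iv D31247)))
theorem Q20896 : ∀ i, i < 20896 → P i := stepQ 20895 Q20895 (allL N20895 (tt N20906 (iv F69553)) (tt N18319 F69503) (tt N18476 F69504) (tt N18804 F69505) (tt N18060 F69506) (tt N18475 F69507) (tt N18059 (iv D31248)))
theorem Q20897 : ∀ i, i < 20897 → P i := stepQ 20896 Q20896 (allL N20896 (tt N18061 (iv D31249)) (tt N22181 (iv F73978)) (tt N19817 F69508) (tt N18322 F69509) (tt N18806 F69510) (tt N18790 F69512) (tt N18312 F69511))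
theorem Q20898 : ∀ i, i < 20898 → P i := stepQ 20897 Q20897 (allL N20897 (tt N18790 F69513) (tt N20903 (iv F69541)) (tt N20995 (iv F69790)) (tt N18325 F69514) (tt N18807 F69515) (tt N18061 (iv D31250)) (tt N18789 F69516))
theorem Q20899 : ∀ i, i < 20899 → P i := stepQ 20898 Q20898 (allL N20898 (tt N19175 F69517) (tt N21528 (iv F71509)) (tt N18066 F69518) (tt N18630 F69519) (tt N18809 F69520) (tt N18062 (iv D31251)) (tt N18629 F69521))
theorem Q20900 : ∀ i, i < 20900 → P i := stepQ 20899 Q20899 (allL N20899 (tt N18065 F69522) (tt N18695 F69523) (tt N18168 F69524) (tt N18064 (iv D31252)) (tt N20008 F69525) (tt N19714 (iv F69527)) (tt N18646 F69526))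
theorem Q20901 : ∀ i, i < 20901 → P i := stepQ 20900 Q20900 (allL N20900 (tt N18066 F69528) (tt N21437 (iv F71219)) (tt N19175 F69529) (tt N19714 F69530) (tt N18812 F69531) (tt N18064 (iv D31253)) (tt N19201 F69532))
theorem Q20902 : ∀ i, i < 20902 → P i := stepQ 20901 Q20901 (allL N20901 (tt N20919 (iv F69590)) (tt N18067 (iv D31254)) (tt N18771 F69533) (tt N18648 F69534) (tt N18817 F69535) (tt N21402 (iv F71111)) (tt N18070 F69536))
theorem Q20903 : ∀ i, i < 20903 → P i := stepQ 20902 Q20902 (allL N20902 (tt N18500 F69537) (tt N18069 (iv D31255)) (tt N21196 (iv F70394)) (tt N18070 F69538) (tt N21197 (iv F70399)) (tt N21080 (iv F70056)) (tt N18648 F69539))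
theorem Q20904 : ∀ i, i < 20904 → P i := stepQ 20903 Q20903 (allL N20903 (tt N18794 F69540) (tt N20897 F69541) (tt N18765 F69542) (tt N21080 (iv F70055)) (tt N18822 F69543) (tt N18070 (iv D31256)) (tt N22403 D32760))
theorem Q20905 : ∀ i, i < 20905 → P i := stepQ 20904 Q20904 (allL N20904 (tt N19231 F69544) (tt N18071 (iv D31257)) (tt N21760 (iv F72292)) (tt N19921 F69545) (tt N19235 F69546) (tt N19230 (iv F69548)) (tt N20433 F69547))
theorem Q20906 : ∀ i, i < 20906 → P i := stepQ 20905 Q20905 (allL N20905 (tt N20894 F69549) (tt N21974 (iv F73175)) (tt N18074 F69550) (tt N18172 F69551) (tt N21199 (iv F70407)) (tt N18071 (iv D31258)) (tt N18171 F69552))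
theorem Q20907 : ∀ i, i < 20907 → P i := stepQ 20906 Q20906 (allL N20906 (tt N20895 F69553) (tt N22243 (iv F74253)) (tt N21199 (iv F70405)) (tt N18830 F69554) (tt N18074 F69555) (tt N18072 (iv D31259)) (tt N20893 F69556))
theorem Q20908 : ∀ i, i < 20908 → P i := stepQ 20907 Q20907 (allL N20907 (tt N18507 F69557) (tt N18075 (iv D31260)) (tt N21222 (iv F70482)) (tt N18515 F69558) (tt N18835 F69559) (tt N21156 (iv F70274)) (tt N21221 F70480))
theorem Q20909 : ∀ i, i < 20909 → P i := stepQ 20908 Q20908 (allL N20908 (tt N21349 (iv F70936)) (tt N18974 F69560) (tt N19820 F69561) (tt N21788 (iv F72412)) (tt N18839 F69562) (tt N18734 F69563) (tt N18077 (iv D31261)))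
theorem Q20910 : ∀ i, i < 20910 → P i := stepQ 20909 Q20909 (allL N20909 (tt N20862 F69564) (tt N22404 D32761) (tt N19097 F69565) (tt N18083 F69566) (tt N20799 F69567) (tt N22392 (iv F74865)) (tt N18082 (iv D31262)))
theorem Q20911 : ∀ i, i < 20911 → P i := stepQ 20910 Q20910 (allL N20910 (tt N22254 (iv F74295)) (tt N18083 (iv D31263)) (tt N22046 (iv F73470)) (tt N22404 (iv F74918)) (tt N21340 (iv F70900)) (tt N22077 (iv F73616)) (tt N21339 F70895))
theorem Q20912 : ∀ i, i < 20912 → P i := stepQ 20911 Q20911 (allL N20911 (tt N20222 F69568) (tt N22405 D32762) (tt N18087 F69569) (tt N22392 (iv F74863)) (tt N20220 F69570) (tt N18083 (iv D31264)) (tt N18473 F69571))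
theorem Q20913 : ∀ i, i < 20913 → P i := stepQ 20912 Q20912 (allL N20912 (tt N19733 F69572) (tt N18084 (iv D31265)) (tt N22061 (iv F73543)) (tt N18528 F69573) (tt N18086 F69574) (tt N22059 (iv F73534)) (tt N18680 F69575))
theorem Q20914 : ∀ i, i < 20914 → P i := stepQ 20913 Q20913 (allL N20913 (tt N18655 (iv F69579)) (tt N18090 (iv D31266)) (tt N18653 F69576) (tt N22025 (iv F73377)) (tt N18652 F69577) (tt N19952 (iv F69580)) (tt N19425 F69578))
theorem Q20915 : ∀ i, i < 20915 → P i := stepQ 20914 Q20914 (allL N20914 (tt N21386 (iv F71056)) (tt N18094 (iv D31267)) (tt N22406 D32763) (tt N21200 (iv F70410)) (tt N21204 (iv F70426)) (tt N22407 D32764) (tt N18367 F69581))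
theorem Q20916 : ∀ i, i < 20916 → P i := stepQ 20915 Q20915 (allL N20915 (tt N21372 F71014) (tt N18096 (iv D31268)) (tt N22408 D32765) (tt N21196 (iv F70395)) (tt N18097 F69582) (tt N22409 D32766) (tt N18101 F69583))
theorem Q20917 : ∀ i, i < 20917 → P i := stepQ 20916 Q20916 (allL N20916 (tt N20624 F69584) (tt N21665 (iv F71942)) (tt N18483 F69585) (tt N18484 F69586) (tt N18098 F69587) (tt N18096 (iv D31269)) (tt N18482 F69588))
theorem Q20918 : ∀ i, i < 20918 → P i := stepQ 20917 Q20917 (allL N20917 (tt N21373 (iv F71016)) (tt N22105 F73711) (tt N18097 (iv D31270)) (tt N22408 (iv F74931)) (tt N22408 (iv F74929)) (tt N22410 D32767) (tt N18103 F69589))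
theorem Q20919 : ∀ i, i < 20919 → P i := stepQ 20918 Q20918 (allL N20918 (tt N20929 (iv F69609)) (tt N21401 (iv F71105)) (tt N22410 (iv F74933)) (tt N21371 (iv F71009)) (tt N22409 (iv F74932)) (tt N18097 (iv D31271)) (tt N20927 (iv F69607)))
theorem Q20920 : ∀ i, i < 20920 → P i := stepQ 20919 Q20919 (allL N20919 (tt N20901 F69590) (tt N18204 F69591) (tt N18099 (iv D31272)) (tt N21218 (iv F70464)) (tt N21355 (iv F70958)) (tt N22403 (iv F74916)) (tt N19529 F69592))
theorem Q20921 : ∀ i, i < 20921 → P i := stepQ 20920 Q20920 (allL N20920 (tt N21374 (iv F71018)) (tt N18197 F69593) (tt N22403 (iv F74913)) (tt N18104 F69594) (tt N21357 (iv F70965)) (tt N18099 (iv D31273)) (tt N18765 F69595))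
theorem Q20922 : ∀ i, i < 20922 → P i := stepQ 20921 Q20921 (allL N20921 (tt N22411 D32768) (tt N18100 (iv D31274)) (tt N18648 F69596) (tt N18101 F69597) (tt N21195 (iv F70392)) (tt N22412 D32769) (tt N21196 (iv F70397)))
theorem Q20923 : ∀ i, i < 20923 → P i := stepQ 20922 Q20922 (allL N20922 (tt N18101 (iv D31275)) (tt N22413 D32770) (tt N22414 D32771) (tt N22411 (iv F74936)) (tt N18102 F69598) (tt N22415 D32772) (tt N21372 F71015))
theorem Q20924 : ∀ i, i < 20924 → P i := stepQ 20923 Q20923 (allL N20923 (tt N22414 (iv F74949)) (tt N18106 F69599) (tt N18101 (iv D31276)) (tt N18103 F69601) (tt N18103 F69600) (tt N22416 D32773) (tt N22408 (iv F74930)))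
theorem Q20925 : ∀ i, i < 20925 → P i := stepQ 20924 Q20924 (allL N20924 (tt N22415 (iv F74953)) (tt N21021 (iv F69860)) (tt N22416 (iv F74957)) (tt N22412 (iv F74940)) (tt N18104 F69602) (tt N18101 (iv D31277)) (tt N22417 D32774))
theorem Q20926 : ∀ i, i < 20926 → P i := stepQ 20925 Q20925 (allL N20925 (tt N20935 (iv F69630)) (tt N18102 (iv D31278)) (tt N22418 D32775) (tt N18756 F69603) (tt N22413 (iv F74945)) (tt N22394 (iv F74871)) (tt N18754 F69604))
theorem Q20927 : ∀ i, i < 20927 → P i := stepQ 20926 Q20926 (allL N20926 (tt N18103 F69605) (tt N22419 D32776) (tt N18102 (iv D31279)) (tt N22414 (iv F74951)) (tt N22414 (iv F74952)) (tt N22420 D32777) (tt N21373 (iv F71017)))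
theorem Q20928 : ∀ i, i < 20928 → P i := stepQ 20927 Q20927 (allL N20927 (tt N18104 F69606) (tt N22170 F73951) (tt N22420 (iv F74976)) (tt N21374 (iv F71020)) (tt N22415 (iv F74954)) (tt N18102 (iv D31280)) (tt N20918 F69607))
theorem Q20929 : ∀ i, i < 20929 → P i := stepQ 20928 Q20928 (allL N20928 (tt N22420 (iv F74975)) (tt N22123 (iv F73764)) (tt N18104 F69608) (tt N22416 (iv F74958)) (tt N22416 (iv F74959)) (tt N18103 (iv D31281)) (tt N22421 D32778))
theorem Q20930 : ∀ i, i < 20930 → P i := stepQ 20929 Q20929 (allL N20929 (tt N20918 F69609) (tt N18763 (iv F69612)) (tt N22421 (iv F74979)) (tt N18765 F69610) (tt N22417 (iv F74963)) (tt N18769 F69611) (tt N18104 (iv D31282)))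
theorem Q20931 : ∀ i, i < 20931 → P i := stepQ 20930 Q20930 (allL N20930 (tt N18106 F69613) (tt N22336 (iv F74629)) (tt N18105 (iv D31283)) (tt N18108 F69614) (tt N18108 F69615) (tt N22129 (iv F73795)) (tt N22164 (iv F73933)))
theorem Q20932 : ∀ i, i < 20932 → P i := stepQ 20931 Q20931 (allL N20931 (tt N18110 F69616) (tt N22347 (iv F74664)) (tt N18109 F69617) (tt N22129 (iv F73793)) (tt N22129 (iv F73794)) (tt N18108 (iv D31284)) (tt N20634 F69618))
theorem Q20933 : ∀ i, i < 20933 → P i := stepQ 20932 Q20932 (allL N20932 (tt N18377 F69619) (tt N18109 (iv D31285)) (tt N20714 (iv F69623)) (tt N18112 F69620) (tt N22128 (iv F73789)) (tt N19758 F69621) (tt N18375 F69622))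
theorem Q20934 : ∀ i, i < 20934 → P i := stepQ 20933 Q20933 (allL N20933 (tt N20634 F69624) (tt N22422 D32779) (tt N18111 F69625) (tt N22127 (iv F73786)) (tt N22127 (iv F73784)) (tt N20633 F69626) (tt N18110 (iv D31286)))
theorem Q20935 : ∀ i, i < 20935 → P i := stepQ 20934 Q20934 (allL N20934 (tt N21770 (iv F72332)) (tt N22360 (iv F74726)) (tt N18120 (iv D31287)) (tt N20808 F69629) (tt N18174 F69627) (tt N21767 (iv F72319)) (tt N19296 F69628))
theorem Q20936 : ∀ i, i < 20936 → P i := stepQ 20935 Q20935 (allL N20935 (tt N20925 F69630) (tt N18121 (iv D31288)) (tt N22360 (iv F74727)) (tt N20867 F69631) (tt N22352 (iv F74687)) (tt N20864 F69632) (tt N21363 (iv F70984)))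
theorem Q20937 : ∀ i, i < 20937 → P i := stepQ 20936 Q20936 (allL N20936 (tt N21871 (iv F72750)) (tt N22352 (iv F74684)) (tt N18122 F69633) (tt N20818 F69634) (tt N18121 (iv D31289)) (tt N19524 F69635) (tt N21869 (iv F72743)))
theorem Q20938 : ∀ i, i < 20938 → P i := stepQ 20937 Q20937 (allL N20937 (tt N19377 F69636) (tt N19464 F69637) (tt N20672 F69638) (tt N20792 F69639) (tt N18529 F69640) (tt N19378 F69641) (tt N18123 (iv D31290)))
theorem Q20939 : ∀ i, i < 20939 → P i := stepQ 20938 Q20938 (allL N20938 (tt N20885 F69642) (tt N22423 D32780) (tt N18950 F69643) (tt N18137 F69644) (tt N20809 F69645) (tt N18136 (iv D31291)) (tt N22399 (iv F74896)))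
theorem Q20940 : ∀ i, i < 20940 → P i := stepQ 20939 Q20939 (allL N20939 (tt N22243 (iv F74252)) (tt N18137 (iv D31292)) (tt N22044 (iv F73460)) (tt N22423 (iv F74986)) (tt N21348 (iv F70934)) (tt N21347 F70929) (tt N22090 (iv F73658)))
theorem Q20941 : ∀ i, i < 20941 → P i := stepQ 20940 Q20940 (allL N20940 (tt N20229 F69646) (tt N22424 D32781) (tt N18140 F69647) (tt N22399 (iv F74894)) (tt N20227 F69648) (tt N18504 F69649) (tt N18137 (iv D31293)))
theorem Q20942 : ∀ i, i < 20942 → P i := stepQ 20941 Q20941 (allL N20941 (tt N19828 F69650) (tt N18138 (iv D31294)) (tt N22056 (iv F73516)) (tt N18530 F69651) (tt N18139 F69652) (tt N18691 F69653) (tt N22054 (iv F73509)))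
theorem Q20943 : ∀ i, i < 20943 → P i := stepQ 20942 Q20942 (allL N20942 (tt N18649 (iv F69657)) (tt N18144 (iv D31295)) (tt N18647 F69654) (tt N22040 (iv F73440)) (tt N18646 F69655) (tt N19626 F69656) (tt N20008 (iv F69658)))
theorem Q20944 : ∀ i, i < 20944 → P i := stepQ 20943 Q20943 (allL N20943 (tt N21430 (iv F71198)) (tt N18148 (iv D31296)) (tt N22425 D32782) (tt N21220 (iv F70472)) (tt N21224 (iv F70488)) (tt N18432 F69659) (tt N22426 D32783))
theorem Q20945 : ∀ i, i < 20945 → P i := stepQ 20944 Q20944 (allL N20944 (tt N21416 F71154) (tt N18150 (iv D31297)) (tt N22427 D32784) (tt N21216 (iv F70455)) (tt N18151 F69660) (tt N18155 F69661) (tt N22428 D32785))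
theorem Q20946 : ∀ i, i < 20946 → P i := stepQ 20945 Q20945 (allL N20945 (tt N20651 F69662) (tt N21534 (iv F71529)) (tt N18511 F69663) (tt N18514 F69664) (tt N18152 F69665) (tt N18510 F69666) (tt N18150 (iv D31298)))
theorem Q20947 : ∀ i, i < 20947 → P i := stepQ 20946 Q20946 (allL N20946 (tt N21417 (iv F71156)) (tt N22116 F73746) (tt N18151 (iv D31299)) (tt N22427 (iv F74999)) (tt N22427 (iv F74997)) (tt N18157 F69667) (tt N22429 D32786))
theorem Q20948 : ∀ i, i < 20948 → P i := stepQ 20947 Q20947 (allL N20947 (tt N20958 (iv F69687)) (tt N21356 (iv F70961)) (tt N22429 (iv F75001)) (tt N21355 F70960) (tt N22428 (iv F75000)) (tt N20956 (iv F69685)) (tt N18151 (iv D31300)))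
theorem Q20949 : ∀ i, i < 20949 → P i := stepQ 20948 Q20948 (allL N20948 (tt N20877 F69668) (tt N18229 F69669) (tt N18153 (iv D31301)) (tt N21198 (iv F70402)) (tt N21371 (iv F71010)) (tt N19301 F69670) (tt N22397 (iv F74888)))
theorem Q20950 : ∀ i, i < 20950 → P i := stepQ 20949 Q20949 (allL N20949 (tt N21418 (iv F71158)) (tt N18222 F69671) (tt N22397 (iv F74885)) (tt N18158 F69672) (tt N21402 (iv F71110)) (tt N18817 F69673) (tt N18153 (iv D31302)))
theorem Q20951 : ∀ i, i < 20951 → P i := stepQ 20950 Q20950 (allL N20950 (tt N22430 D32787) (tt N18154 (iv D31303)) (tt N18654 F69674) (tt N18155 F69675) (tt N21215 (iv F70452)) (tt N21216 (iv F70457)) (tt N22431 D32788))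
theorem Q20952 : ∀ i, i < 20952 → P i := stepQ 20951 Q20951 (allL N20951 (tt N18155 (iv D31304)) (tt N22418 F74970) (tt N22419 (iv F74972)) (tt N22430 (iv F75004)) (tt N18156 F69676) (tt N21416 F71155) (tt N22432 D32789))
theorem Q20953 : ∀ i, i < 20953 → P i := stepQ 20952 Q20952 (allL N20952 (tt N22419 (iv F74971)) (tt N18160 F69677) (tt N18155 (iv D31305)) (tt N18157 F69679) (tt N18157 F69678) (tt N22427 (iv F74998)) (tt N22422 (iv F74984)))
theorem Q20954 : ∀ i, i < 20954 → P i := stepQ 20953 Q20953 (allL N20953 (tt N22432 (iv F75011)) (tt N21060 (iv F69983)) (tt N22422 (iv F74981)) (tt N22431 (iv F75008)) (tt N18158 F69680) (tt N22433 D32790) (tt N18155 (iv D31306)))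
theorem Q20955 : ∀ i, i < 20955 → P i := stepQ 20954 Q20954 (allL N20954 (tt N20963 (iv F69705)) (tt N18156 (iv D31307)) (tt N22413 F74947) (tt N18807 F69681) (tt N22418 (iv F74967)) (tt N18805 F69682) (tt N22400 (iv F74900)))
theorem Q20956 : ∀ i, i < 20956 → P i := stepQ 20955 Q20955 (allL N20955 (tt N18157 F69683) (tt N22414 (iv F74950)) (tt N18156 (iv D31308)) (tt N22419 (iv F74973)) (tt N22419 (iv F74974)) (tt N21417 (iv F71157)) (tt N22434 D32791))
theorem Q20957 : ∀ i, i < 20957 → P i := stepQ 20956 Q20956 (allL N20956 (tt N18158 F69684) (tt N22177 F73970) (tt N22434 (iv F75020)) (tt N21418 (iv F71161)) (tt N22432 (iv F75012)) (tt N20947 F69685) (tt N18156 (iv D31309)))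
theorem Q20958 : ∀ i, i < 20958 → P i := stepQ 20957 Q20957 (allL N20957 (tt N22434 (iv F75019)) (tt N22127 (iv F73783)) (tt N18158 F69686) (tt N22422 (iv F74982)) (tt N22422 (iv F74983)) (tt N22435 D32792) (tt N18157 (iv D31310)))
theorem Q20959 : ∀ i, i < 20959 → P i := stepQ 20958 Q20958 (allL N20958 (tt N20947 F69687) (tt N18815 (iv F69690)) (tt N22435 (iv F75023)) (tt N18817 F69688) (tt N22433 (iv F75017)) (tt N18158 (iv D31311)) (tt N18820 F69689))
theorem Q20960 : ∀ i, i < 20960 → P i := stepQ 20959 Q20959 (allL N20959 (tt N18160 F69691) (tt N22337 (iv F74634)) (tt N18159 (iv D31312)) (tt N18162 F69692) (tt N18162 F69693) (tt N22155 (iv F73899)) (tt N22125 (iv F73776)))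
theorem Q20961 : ∀ i, i < 20961 → P i := stepQ 20960 Q20960 (allL N20960 (tt N18164 F69694) (tt N22333 (iv F74620)) (tt N18163 F69695) (tt N22125 (iv F73774)) (tt N22125 (iv F73775)) (tt N20661 F69696) (tt N18162 (iv D31313)))
theorem Q20962 : ∀ i, i < 20962 → P i := stepQ 20961 Q20961 (allL N20961 (tt N18437 F69697) (tt N18163 (iv D31314)) (tt N20677 (iv F69701)) (tt N18166 F69698) (tt N22124 (iv F73770)) (tt N18435 F69699) (tt N19850 F69700))
theorem Q20963 : ∀ i, i < 20963 → P i := stepQ 20962 Q20962 (allL N20962 (tt N20661 F69702) (tt N22416 (iv F74956)) (tt N18165 F69703) (tt N22123 (iv F73767)) (tt N22123 (iv F73765)) (tt N18164 (iv D31315)) (tt N20660 F69704))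
theorem Q20964 : ∀ i, i < 20964 → P i := stepQ 20963 Q20963 (allL N20963 (tt N20954 F69705) (tt N18174 (iv D31316)) (tt N22352 (iv F74685)) (tt N20890 F69706) (tt N22360 (iv F74729)) (tt N21408 (iv F71128)) (tt N20887 F69707))
theorem Q20965 : ∀ i, i < 20965 → P i := stepQ 20964 Q20964 (allL N20964 (tt N19592 F69708) (tt N19664 F69709) (tt N20647 F69710) (tt N20796 F69711) (tt N18531 F69712) (tt N18175 (iv D31317)) (tt N19593 F69713))
theorem Q20966 : ∀ i, i < 20966 → P i := stepQ 20965 Q20965 (allL N20965 (tt N21565 (iv F71645)) (tt N18184 (iv D31318)) (tt N18963 F69714) (tt N22436 D32793) (tt N18963 F69715) (tt N22437 D32794) (tt N21565 (iv F71648)))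
theorem Q20967 : ∀ i, i < 20967 → P i := stepQ 20966 Q20966 (allL N20966 (tt N18185 F69716) (tt N22436 (iv F75025)) (tt N22438 D32795) (tt N18184 (iv D31319)) (tt N22439 D32796) (tt N21053 (iv F69960)) (tt N18995 F69717))
theorem Q20968 : ∀ i, i < 20968 → P i := stepQ 20967 Q20967 (allL N20967 (tt N22438 (iv F75029)) (tt N20695 F69718) (tt N18185 (iv D31320)) (tt N22440 D32797) (tt N21981 (iv F73210)) (tt N21563 (iv F71640)) (tt N21555 (iv F71614)))
theorem Q20969 : ∀ i, i < 20969 → P i := stepQ 20968 Q20968 (allL N20968 (tt N22439 (iv F75034)) (tt N18186 F69719) (tt N21981 (iv F73208)) (tt N18967 F69720) (tt N18185 (iv D31321)) (tt N21564 (iv F71644)) (tt N21543 (iv F71563)))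
theorem Q20970 : ∀ i, i < 20970 → P i := stepQ 20969 Q20969 (allL N20969 (tt N18266 F69721) (tt N18810 F69722) (tt N20873 F69723) (tt N18264 F69724) (tt N18978 F69725) (tt N19037 (iv F69726)) (tt N18187 (iv D31322)))
theorem Q20971 : ∀ i, i < 20971 → P i := stepQ 20970 Q20970 (allL N20970 (tt N21678 (iv F71995)) (tt N18188 (iv D31323)) (tt N22224 (iv F74167)) (tt N21017 (iv F69849)) (tt N20403 F69727) (tt N21676 (iv F71990)) (tt N18667 F69728))
theorem Q20972 : ∀ i, i < 20972 → P i := stepQ 20971 Q20971 (allL N20971 (tt N22227 (iv F74177)) (tt N18190 (iv D31324)) (tt N22226 (iv F74176)) (tt N20420 F69729) (tt N18192 F69730) (tt N22441 D32798) (tt N18194 F69731))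
theorem Q20973 : ∀ i, i < 20973 → P i := stepQ 20972 Q20972 (allL N20972 (tt N18192 (iv D31325)) (tt N22442 D32799) (tt N22228 (iv F74184)) (tt N19577 F69732) (tt N22227 F74179) (tt N20983 (iv F69755)) (tt N18195 F69733))
theorem Q20974 : ∀ i, i < 20974 → P i := stepQ 20973 Q20973 (allL N20973 (tt N22228 (iv F74182)) (tt N20973 F69734) (tt N18192 (iv D31326)) (tt N22066 (iv F73571)) (tt N22226 (iv F74174)) (tt N22443 D32800) (tt N18196 F69735))
theorem Q20975 : ∀ i, i < 20975 → P i := stepQ 20974 Q20974 (allL N20974 (tt N20983 (iv F69753)) (tt N22441 (iv F75045)) (tt N22443 (iv F75053)) (tt N21019 (iv F69857)) (tt N22441 (iv F75047)) (tt N18192 (iv D31327)) (tt N20981 (iv F69749)))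
theorem Q20976 : ∀ i, i < 20976 → P i := stepQ 20975 Q20975 (allL N20975 (tt N22120 (iv F73750)) (tt N18193 (iv D31328)) (tt N20423 (iv F69738)) (tt N18194 F69736) (tt N21020 (iv F69859)) (tt N22198 (iv F74045)) (tt N20420 F69737))
theorem Q20977 : ∀ i, i < 20977 → P i := stepQ 20976 Q20976 (allL N20976 (tt N18194 (iv D31329)) (tt N22444 D32801) (tt N22230 (iv F74193)) (tt N22120 (iv F73754)) (tt N18195 F69739) (tt N22445 D32802) (tt N22227 F74181))
theorem Q20978 : ∀ i, i < 20978 → P i := stepQ 20977 Q20977 (allL N20977 (tt N22230 (iv F74191)) (tt N18198 F69740) (tt N18194 (iv D31330)) (tt N20101 F69742) (tt N18196 F69741) (tt N22188 (iv F74007)) (tt N22226 (iv F74175)))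
theorem Q20979 : ∀ i, i < 20979 → P i := stepQ 20978 Q20978 (allL N20978 (tt N22445 (iv F75061)) (tt N21357 (iv F70963)) (tt N22188 (iv F74004)) (tt N22198 (iv F74047)) (tt N18197 F69743) (tt N18194 (iv D31331)) (tt N21628 (iv F71815)))
theorem Q20980 : ∀ i, i < 20980 → P i := stepQ 20979 Q20979 (allL N20979 (tt N20320 F69744) (tt N18195 (iv D31332)) (tt N22092 (iv F73666)) (tt N21022 (iv F69864)) (tt N22444 (iv F75058)) (tt N22396 (iv F74881)) (tt N21309 (iv F70770)))
theorem Q20981 : ∀ i, i < 20981 → P i := stepQ 20980 Q20980 (allL N20980 (tt N18196 F69745) (tt N19801 (iv F69747)) (tt N18195 (iv D31333)) (tt N19795 F69746) (tt N22230 (iv F74195)) (tt N22446 D32803) (tt N22228 F74186))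
theorem Q20982 : ∀ i, i < 20982 → P i := stepQ 20981 Q20981 (allL N20981 (tt N18197 F69748) (tt N22169 (iv F73947)) (tt N22446 (iv F75068)) (tt N21023 (iv F69867)) (tt N22445 (iv F75064)) (tt N18195 (iv D31334)) (tt N20974 F69749))
theorem Q20983 : ∀ i, i < 20983 → P i := stepQ 20982 Q20982 (allL N20982 (tt N22446 (iv F75066)) (tt N19819 F69750) (tt N18197 F69751) (tt N19826 F69752) (tt N22188 (iv F74006)) (tt N18196 (iv D31335)) (tt N22447 D32804))
theorem Q20984 : ∀ i, i < 20984 → P i := stepQ 20983 Q20983 (allL N20983 (tt N20974 F69753) (tt N18766 F69754) (tt N22447 (iv F75073)) (tt N21025 (iv F69877)) (tt N21628 (iv F71814)) (tt N20972 F69755) (tt N18197 (iv D31336)))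
theorem Q20985 : ∀ i, i < 20985 → P i := stepQ 20984 Q20984 (allL N20984 (tt N18742 F69756) (tt N19813 F69757) (tt N18202 (iv D31337)) (tt N21981 (iv F73209)) (tt N20985 (iv F69762)) (tt N18204 F69758) (tt N18961 F69759))
theorem Q20986 : ∀ i, i < 20986 → P i := stepQ 20985 Q20985 (allL N20985 (tt N18204 F69760) (tt N18638 F69761) (tt N18203 (iv D31338)) (tt N22448 D32805) (tt N20984 F69762) (tt N18742 F69763) (tt N21530 (iv F71520)))
theorem Q20987 : ∀ i, i < 20987 → P i := stepQ 20986 Q20986 (allL N20986 (tt N22448 (iv F75077)) (tt N21218 (iv F70463)) (tt N21564 (iv F71641)) (tt N18204 (iv D31339)) (tt N21563 (iv F71639)) (tt N21981 F73212) (tt N18518 F69764))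
theorem Q20988 : ∀ i, i < 20988 → P i := stepQ 20987 Q20987 (allL N20987 (tt N18279 (iv F69767)) (tt N18206 (iv D31340)) (tt N18462 F69765) (tt N22194 (iv F74024)) (tt N18277 F69766) (tt N21140 (iv F70221)) (tt N18401 (iv F69768)))
theorem Q20989 : ∀ i, i < 20989 → P i := stepQ 20988 Q20988 (allL N20988 (tt N18207 (iv D31341)) (tt N21739 (iv F72210)) (tt N20866 F69769) (tt N21272 (iv F70652)) (tt N19037 F69770) (tt N18978 F69772) (tt N20258 F69771))
theorem Q20990 : ∀ i, i < 20990 → P i := stepQ 20989 Q20989 (allL N20989 (tt N18978 F69773) (tt N18279 F69777) (tt N20867 F69774) (tt N21271 (iv F70646)) (tt N18266 F69775) (tt N18207 (iv D31342)) (tt N18977 F69776))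
theorem Q20991 : ∀ i, i < 20991 → P i := stepQ 20990 Q20990 (allL N20990 (tt N21140 (iv F70218)) (tt N18208 (iv D31343)) (tt N21016 (iv F69845)) (tt N20250 F69778) (tt N18280 F69779) (tt N18279 F69780) (tt N21089 (iv F70079)))
theorem Q20992 : ∀ i, i < 20992 → P i := stepQ 20991 Q20991 (allL N20991 (tt N21691 (iv F72049)) (tt N18209 (iv D31344)) (tt N19103 F69781) (tt N22449 D32806) (tt N19103 F69782) (tt N21691 (iv F72052)) (tt N22450 D32807))
theorem Q20993 : ∀ i, i < 20993 → P i := stepQ 20992 Q20992 (allL N20992 (tt N18210 F69783) (tt N22449 (iv F75083)) (tt N22451 D32808) (tt N18209 (iv D31345)) (tt N22452 D32809) (tt N19134 F69784) (tt N21088 (iv F70073)))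
theorem Q20994 : ∀ i, i < 20994 → P i := stepQ 20993 Q20993 (allL N20993 (tt N22451 (iv F75087)) (tt N20730 F69785) (tt N18210 (iv D31346)) (tt N22453 D32810) (tt N21942 (iv F73062)) (tt N21682 (iv F72016)) (tt N21689 (iv F72044)))
theorem Q20995 : ∀ i, i < 20995 → P i := stepQ 20994 Q20994 (allL N20994 (tt N22452 (iv F75092)) (tt N18211 F69786) (tt N21942 (iv F73060)) (tt N19107 F69787) (tt N18210 (iv D31347)) (tt N21673 (iv F71977)) (tt N21690 (iv F72048)))
theorem Q20996 : ∀ i, i < 20996 → P i := stepQ 20995 Q20995 (allL N20995 (tt N18323 F69788) (tt N18758 F69789) (tt N20897 F69790) (tt N18321 F69791) (tt N19117 F69792) (tt N18212 (iv D31348)) (tt N19174 F69793))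
theorem Q20997 : ∀ i, i < 20997 → P i := stepQ 20996 Q20996 (allL N20996 (tt N21549 (iv F71586)) (tt N18213 (iv D31349)) (tt N22209 (iv F74102)) (tt N21056 (iv F69972)) (tt N20341 F69794) (tt N18672 F69795) (tt N21547 F71581))
theorem Q20998 : ∀ i, i < 20998 → P i := stepQ 20997 Q20997 (allL N20997 (tt N22212 (iv F74112)) (tt N18215 (iv D31350)) (tt N22211 (iv F74111)) (tt N20373 F69796) (tt N18216 F69797) (tt N18219 F69798) (tt N22454 D32811))
theorem Q20999 : ∀ i, i < 20999 → P i := stepQ 20998 Q20998 (allL N20998 (tt N18216 (iv D31351)) (tt N22455 D32812) (tt N22213 (iv F74119)) (tt N19362 F69799) (tt N22212 (iv F74115)) (tt N18220 F69800) (tt N21009 (iv F69822)))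
theorem Q21000 : ∀ i, i < 21000 → P i := stepQ 20999 Q20999 (allL N20999 (tt N22213 (iv F74117)) (tt N20999 F69801) (tt N18216 (iv D31352)) (tt N22050 (iv F73489)) (tt N22211 (iv F74109)) (tt N18221 F69802) (tt N22456 D32813))
theorem Q21001 : ∀ i, i < 21001 → P i := stepQ 21000 Q21000 (allL N21000 (tt N21009 (iv F69820)) (tt N22454 (iv F75103)) (tt N22456 (iv F75111)) (tt N21058 (iv F69980)) (tt N22454 (iv F75105)) (tt N21007 (iv F69816)) (tt N18216 (iv D31353)))
theorem Q21002 : ∀ i, i < 21002 → P i := stepQ 21001 Q21001 (allL N21001 (tt N22109 (iv F73716)) (tt N18218 (iv D31354)) (tt N20375 (iv F69805)) (tt N18219 F69803) (tt N21059 (iv F69982)) (tt N20373 F69804) (tt N22203 (iv F74073)))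
theorem Q21003 : ∀ i, i < 21003 → P i := stepQ 21002 Q21002 (allL N21002 (tt N18219 (iv D31355)) (tt N22457 D32814) (tt N22214 (iv F74124)) (tt N22109 (iv F73720)) (tt N18220 F69806) (tt N22212 F74114) (tt N22458 D32815))
theorem Q21004 : ∀ i, i < 21004 → P i := stepQ 21003 Q21003 (allL N21003 (tt N22214 (iv F74122)) (tt N18223 F69807) (tt N18219 (iv D31356)) (tt N20100 F69809) (tt N18221 F69808) (tt N22211 (iv F74110)) (tt N22195 (iv F74032)))
theorem Q21005 : ∀ i, i < 21005 → P i := stepQ 21004 Q21004 (allL N21004 (tt N22458 (iv F75119)) (tt N21402 (iv F71107)) (tt N22195 (iv F74029)) (tt N22203 (iv F74074)) (tt N18222 F69810) (tt N21740 (iv F72216)) (tt N18219 (iv D31357)))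
theorem Q21006 : ∀ i, i < 21006 → P i := stepQ 21005 Q21005 (allL N21005 (tt N20300 F69811) (tt N18220 (iv D31358)) (tt N22079 (iv F73624)) (tt N21061 (iv F69987)) (tt N22457 (iv F75116)) (tt N21320 (iv F70812)) (tt N22402 (iv F74910)))
theorem Q21007 : ∀ i, i < 21007 → P i := stepQ 21006 Q21006 (allL N21006 (tt N18221 F69812) (tt N19707 F69814) (tt N18220 (iv D31359)) (tt N19701 F69813) (tt N22214 (iv F74126)) (tt N22213 F74121) (tt N22459 D32816))
theorem Q21008 : ∀ i, i < 21008 → P i := stepQ 21007 Q21007 (allL N21007 (tt N18222 F69815) (tt N22176 (iv F73966)) (tt N22459 (iv F75126)) (tt N21062 (iv F69990)) (tt N22458 (iv F75122)) (tt N21000 F69816) (tt N18220 (iv D31360)))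
theorem Q21009 : ∀ i, i < 21009 → P i := stepQ 21008 Q21008 (allL N21008 (tt N22459 (iv F75124)) (tt N19723 F69817) (tt N18222 F69818) (tt N19730 F69819) (tt N22195 (iv F74031)) (tt N22460 D32817) (tt N18221 (iv D31361)))
theorem Q21010 : ∀ i, i < 21010 → P i := stepQ 21009 Q21009 (allL N21009 (tt N21000 F69820) (tt N18818 F69821) (tt N22460 (iv F75131)) (tt N21064 (iv F70000)) (tt N21740 (iv F72215)) (tt N18222 (iv D31362)) (tt N20998 F69822))
theorem Q21011 : ∀ i, i < 21011 → P i := stepQ 21010 Q21010 (allL N21010 (tt N18793 F69823) (tt N19718 F69824) (tt N18227 (iv D31363)) (tt N21942 (iv F73061)) (tt N21011 (iv F69829)) (tt N19101 F69825) (tt N18229 F69826))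
theorem Q21012 : ∀ i, i < 21012 → P i := stepQ 21011 Q21011 (allL N21011 (tt N18229 F69827) (tt N18623 F69828) (tt N18228 (iv D31364)) (tt N22461 D32818) (tt N21010 F69829) (tt N21661 (iv F71932)) (tt N18793 F69830))
theorem Q21013 : ∀ i, i < 21013 → P i := stepQ 21012 Q21012 (allL N21012 (tt N22461 (iv F75135)) (tt N21198 (iv F70401)) (tt N21690 (iv F72045)) (tt N18229 (iv D31365)) (tt N21689 (iv F72043)) (tt N18487 F69831) (tt N21942 F73064))
theorem Q21014 : ∀ i, i < 21014 → P i := stepQ 21013 Q21013 (allL N21013 (tt N18336 (iv F69834)) (tt N18231 (iv D31366)) (tt N18404 F69832) (tt N22187 (iv F73999)) (tt N18334 F69833) (tt N18403 (iv F69835)) (tt N21189 (iv F70371)))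
theorem Q21015 : ∀ i, i < 21015 → P i := stepQ 21014 Q21014 (allL N21014 (tt N18232 (iv D31367)) (tt N21627 (iv F71810)) (tt N20889 F69836) (tt N21281 (iv F70677)) (tt N19174 F69837) (tt N20246 F69838) (tt N19117 (iv F69839)))
theorem Q21016 : ∀ i, i < 21016 → P i := stepQ 21015 Q21015 (allL N21015 (tt N19117 F69840) (tt N18336 (iv F69844)) (tt N20890 F69841) (tt N21280 (iv F70671)) (tt N18323 F69842) (tt N19116 F69843) (tt N18232 (iv D31368)))
theorem Q21017 : ∀ i, i < 21017 → P i := stepQ 21016 Q21016 (allL N21016 (tt N21189 (iv F70366)) (tt N18233 (iv D31369)) (tt N20990 F69845) (tt N20238 F69846) (tt N18337 F69847) (tt N21054 (iv F69965)) (tt N18336 F69848))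
theorem Q21018 : ∀ i, i < 21018 → P i := stepQ 21017 Q21017 (allL N21017 (tt N21883 (iv F72802)) (tt N18235 (iv D31370)) (tt N18774 (iv F69851)) (tt N20970 F69849) (tt N22259 (iv F74320)) (tt N21881 (iv F72800)) (tt N18725 F69850))
theorem Q21019 : ∀ i, i < 21019 → P i := stepQ 21018 Q21018 (allL N21018 (tt N20622 F69852) (tt N21906 (iv F72900)) (tt N20328 F69853) (tt N18237 F69854) (tt N18240 F69855) (tt N18237 F69856) (tt N18236 (iv D31371)))
theorem Q21020 : ∀ i, i < 21020 → P i := stepQ 21019 Q21019 (allL N21019 (tt N21025 (iv F69875)) (tt N22262 (iv F74336)) (tt N21905 (iv F72895)) (tt N20974 F69857) (tt N21907 (iv F72906)) (tt N18239 (iv D31372)) (tt N21023 (iv F69868)))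
theorem Q21021 : ∀ i, i < 21021 → P i := stepQ 21020 Q21020 (allL N21020 (tt N21233 (iv F70507)) (tt N18241 (iv D31373)) (tt N22263 (iv F74341)) (tt N18242 F69858) (tt N20975 F69859) (tt N22462 D32819) (tt N21906 (iv F72903)))
theorem Q21022 : ∀ i, i < 21022 → P i := stepQ 21021 Q21021 (allL N21021 (tt N21234 (iv F70509)) (tt N20924 F69860) (tt N19584 F69861) (tt N22462 (iv F75143)) (tt N18245 F69862) (tt N18242 (iv D31374)) (tt N19583 F69863))
theorem Q21023 : ∀ i, i < 21023 → P i := stepQ 21022 Q21022 (allL N21022 (tt N22235 (iv F74213)) (tt N18243 (iv D31375)) (tt N21227 (iv F70496)) (tt N20979 F69864) (tt N21230 (iv F70501)) (tt N22463 D32820) (tt N21209 (iv F70440)))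
theorem Q21024 : ∀ i, i < 21024 → P i := stepQ 21023 Q21023 (allL N21023 (tt N18245 F69865) (tt N22464 D32821) (tt N20822 F69866) (tt N20981 F69867) (tt N21234 (iv F70511)) (tt N18243 (iv D31376)) (tt N21019 F69868))
theorem Q21025 : ∀ i, i < 21025 → P i := stepQ 21024 Q21024 (allL N21024 (tt N20822 F69869) (tt N20086 F69870) (tt N18245 F69871) (tt N20007 F69872) (tt N19584 F69873) (tt N18244 (iv D31377)) (tt N19578 F69874))
theorem Q21026 : ∀ i, i < 21026 → P i := stepQ 21025 Q21025 (allL N21025 (tt N21019 F69875) (tt N21369 (iv F70998)) (tt N19578 F69876) (tt N20983 F69877) (tt N19583 F69878) (tt N19577 F69879) (tt N18245 (iv D31378)))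
theorem Q21027 : ∀ i, i < 21027 → P i := stepQ 21026 Q21026 (allL N21026 (tt N18247 F69880) (tt N21889 (iv F72829)) (tt N18308 F69881) (tt N18533 F69882) (tt N18250 F69883) (tt N18246 (iv D31379)) (tt N18307 F69884))
theorem Q21028 : ∀ i, i < 21028 → P i := stepQ 21027 Q21027 (allL N21027 (tt N22165 (iv F73934)) (tt N20507 F69885) (tt N18248 (iv D31380)) (tt N22465 D32822) (tt N22197 (iv F74042)) (tt N20475 F69886) (tt N22196 (iv F74037)))
theorem Q21029 : ∀ i, i < 21029 → P i := stepQ 21028 Q21028 (allL N21028 (tt N18251 F69887) (tt N21795 (iv F72444)) (tt N18250 F69888) (tt N18537 F69889) (tt N18308 F69890) (tt N18249 (iv D31381)) (tt N18305 F69891))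
theorem Q21030 : ∀ i, i < 21030 → P i := stepQ 21029 Q21029 (allL N21029 (tt N21070 (iv F70026)) (tt N18253 (iv D31382)) (tt N21069 F70025) (tt N18254 F69892) (tt N18258 F69893) (tt N18754 F69894) (tt N20864 F69895))
theorem Q21031 : ∀ i, i < 21031 → P i := stepQ 21030 Q21030 (allL N21030 (tt N18254 (iv D31383)) (tt N20259 (iv F69900)) (tt N20258 F69896) (tt N21070 (iv F70028)) (tt N18255 F69897) (tt N18755 F69898) (tt N20866 F69899))
theorem Q21032 : ∀ i, i < 21032 → P i := stepQ 21031 Q21031 (allL N21031 (tt N18256 F69901) (tt N20131 F69902) (tt N18255 (iv D31384)) (tt N19731 F69903) (tt N20258 F69904) (tt N19724 F69905) (tt N19037 F69906))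
theorem Q21033 : ∀ i, i < 21033 → P i := stepQ 21032 Q21032 (allL N21032 (tt N18258 (iv D31385)) (tt N22255 (iv F74300)) (tt N21066 F70009) (tt N18260 F69907) (tt N21070 (iv F70027)) (tt N22401 (iv F74904)) (tt N21409 (iv F71132)))
theorem Q21034 : ∀ i, i < 21034 → P i := stepQ 21033 Q21033 (allL N21033 (tt N21066 (iv F70010)) (tt N21121 F70170) (tt N18258 (iv D31386)) (tt N21067 (iv F70012)) (tt N21069 (iv F70024)) (tt N22400 (iv F74899)) (tt N21408 (iv F71129)))
theorem Q21035 : ∀ i, i < 21035 → P i := stepQ 21034 Q21034 (allL N21034 (tt N22401 (iv F74902)) (tt N18753 F69908) (tt N22400 (iv F74901)) (tt N18262 F69909) (tt N18754 F69910) (tt N18258 (iv D31387)) (tt N22413 (iv F74946)))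
theorem Q21036 : ∀ i, i < 21036 → P i := stepQ 21035 Q21035 (allL N21035 (tt N22234 (iv F74209)) (tt N18260 (iv D31388)) (tt N19688 (iv F69913)) (tt N22255 (iv F74304)) (tt N18263 F69911) (tt N22233 (iv F74208)) (tt N19676 F69912))
theorem Q21037 : ∀ i, i < 21037 → P i := stepQ 21036 Q21036 (allL N21036 (tt N18261 F69914) (tt N19007 F69915) (tt N18260 (iv D31389)) (tt N19009 (iv F69918)) (tt N18264 F69916) (tt N22466 D32823) (tt N20693 F69917))
theorem Q21038 : ∀ i, i < 21038 → P i := stepQ 21037 Q21037 (allL N21037 (tt N18262 F69919) (tt N22467 D32824) (tt N22466 (iv F75160)) (tt N22401 (iv F74906)) (tt N18265 F69920) (tt N18260 (iv D31390)) (tt N20683 F69921))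
theorem Q21039 : ∀ i, i < 21039 → P i := stepQ 21038 Q21038 (allL N21038 (tt N19009 F69922) (tt N18271 F69923) (tt N21656 (iv F71905)) (tt N18261 (iv D31391)) (tt N21271 (iv F70647)) (tt N22135 (iv F73825)) (tt N21596 (iv F71731)))
theorem Q21040 : ∀ i, i < 21040 → P i := stepQ 21039 Q21039 (allL N21039 (tt N22466 (iv F75158)) (tt N19036 F69924) (tt N18262 F69925) (tt N22135 (iv F73823)) (tt N18267 F69926) (tt N18261 (iv D31392)) (tt N22354 (iv F74699)))
theorem Q21041 : ∀ i, i < 21041 → P i := stepQ 21040 Q21040 (allL N21040 (tt N20683 F69927) (tt N22411 (iv F74934)) (tt N22354 (iv F74696)) (tt N22413 (iv F74944)) (tt N18268 F69928) (tt N20682 F69929) (tt N18262 (iv D31393)))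
theorem Q21042 : ∀ i, i < 21042 → P i := stepQ 21041 Q21041 (allL N21041 (tt N18267 F69930) (tt N22468 D32825) (tt N18265 F69931) (tt N19037 F69932) (tt N22466 (iv F75162)) (tt N18264 (iv D31394)) (tt N19731 F69933))
theorem Q21043 : ∀ i, i < 21043 → P i := stepQ 21042 Q21042 (allL N21042 (tt N21092 F70116) (tt N18265 (iv D31395)) (tt N21150 (iv F70252)) (tt N22174 (iv F73961)) (tt N22467 (iv F75165)) (tt N22231 (iv F74198)) (tt N21095 (iv F70115)))
theorem Q21044 : ∀ i, i < 21044 → P i := stepQ 21043 Q21043 (allL N21043 (tt N21195 (iv F70390)) (tt N18268 (iv D31396)) (tt N22469 D32826) (tt N20879 F69934) (tt N22411 (iv F74937)) (tt N21948 (iv F73085)) (tt N20878 F69935))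
theorem Q21045 : ∀ i, i < 21045 → P i := stepQ 21044 Q21044 (allL N21044 (tt N22137 (iv F73832)) (tt N21232 F70506) (tt N18269 (iv D31397)) (tt N22470 D32827) (tt N18274 F69936) (tt N20325 F69937) (tt N22241 (iv F74246)))
theorem Q21046 : ∀ i, i < 21046 → P i := stepQ 21045 Q21045 (allL N21045 (tt N18998 F69938) (tt N18270 (iv D31398)) (tt N21232 (iv F70504)) (tt N21544 (iv F71568)) (tt N18276 F69939) (tt N21543 (iv F71564)) (tt N22190 (iv F74012)))
theorem Q21047 : ∀ i, i < 21047 → P i := stepQ 21046 Q21046 (allL N21046 (tt N18271 F69940) (tt N21544 (iv F71566)) (tt N18328 F69943) (tt N18270 (iv D31399)) (tt N22194 (iv F74025)) (tt N18449 F69941) (tt N18386 F69942))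
theorem Q21048 : ∀ i, i < 21048 → P i := stepQ 21047 Q21047 (allL N21047 (tt N18328 F69944) (tt N21674 (iv F71980)) (tt N18271 (iv D31400)) (tt N18327 F69945) (tt N22187 (iv F74000)) (tt N18448 F69946) (tt N18387 F69947))
theorem Q21049 : ∀ i, i < 21049 → P i := stepQ 21048 Q21048 (allL N21048 (tt N22194 (iv F74022)) (tt N21271 F70648) (tt N22187 (iv F73998)) (tt N18279 F69948) (tt N18271 (iv D31401)) (tt N20250 F69949) (tt N18388 F69950))
theorem Q21050 : ∀ i, i < 21050 → P i := stepQ 21049 Q21049 (allL N21049 (tt N18274 F69951) (tt N22471 D32828) (tt N18273 (iv D31402)) (tt N22472 D32829) (tt N22137 (iv F73833)) (tt N22150 (iv F73883)) (tt N22005 (iv F73302)))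
theorem Q21051 : ∀ i, i < 21051 → P i := stepQ 21050 Q21050 (allL N21050 (tt N18997 (iv F69953)) (tt N18274 (iv D31403)) (tt N18276 F69952) (tt N21555 (iv F71611)) (tt N21232 (iv F70505)) (tt N21555 (iv F71613)) (tt N22440 (iv F75043)))
theorem Q21052 : ∀ i, i < 21052 → P i := stepQ 21051 Q21051 (allL N21051 (tt N22472 (iv F75187)) (tt N21555 (iv F71615)) (tt N22300 (iv F74504)) (tt N18274 (iv D31404)) (tt N21978 (iv F73198)) (tt N22473 D32830) (tt N21977 (iv F73194)))
theorem Q21053 : ∀ i, i < 21053 → P i := stepQ 21052 Q21052 (allL N21052 (tt N22150 (iv F73880)) (tt N22473 (iv F75194)) (tt N18275 F69954) (tt N22473 (iv F75195)) (tt N20325 F69955) (tt N18274 (iv D31405)) (tt N20342 (iv F69956)))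
theorem Q21054 : ∀ i, i < 21054 → P i := stepQ 21053 Q21053 (allL N21053 (tt N18999 F69957) (tt N18400 F69958) (tt N22440 (iv F75041)) (tt N18996 F69959) (tt N22190 (iv F74011)) (tt N20966 F69960) (tt N18276 (iv D31406)))
theorem Q21055 : ∀ i, i < 21055 → P i := stepQ 21054 Q21054 (allL N21054 (tt N18462 F69961) (tt N19095 F69962) (tt N18279 F69963) (tt N19096 F69964) (tt N18278 (iv D31407)) (tt N21016 F69965) (tt N18403 F69966))
theorem Q21056 : ∀ i, i < 21056 → P i := stepQ 21055 Q21055 (allL N21055 (tt N19755 F69967) (tt N18288 (iv D31408)) (tt N19967 (iv F69971)) (tt N18292 F69968) (tt N21304 (iv F70753)) (tt N19754 F69969) (tt N19735 F69970))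
theorem Q21057 : ∀ i, i < 21057 → P i := stepQ 21056 Q21056 (allL N21056 (tt N21786 (iv F72404)) (tt N18294 (iv D31409)) (tt N18824 (iv F69974)) (tt N20996 F69972) (tt N22242 (iv F74249)) (tt N18736 F69973) (tt N21784 F72402))
theorem Q21058 : ∀ i, i < 21058 → P i := stepQ 21057 Q21057 (allL N21057 (tt N20649 F69975) (tt N21821 (iv F72555)) (tt N20397 F69976) (tt N18296 F69977) (tt N18298 F69978) (tt N18295 (iv D31410)) (tt N18296 F69979))
theorem Q21059 : ∀ i, i < 21059 → P i := stepQ 21058 Q21058 (allL N21058 (tt N21064 (iv F69998)) (tt N22248 (iv F74271)) (tt N21820 (iv F72550)) (tt N21000 F69980) (tt N21822 (iv F72561)) (tt N21062 (iv F69991)) (tt N18297 (iv D31411)))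
theorem Q21060 : ∀ i, i < 21060 → P i := stepQ 21059 Q21059 (allL N21059 (tt N21213 (iv F70445)) (tt N18300 (iv D31412)) (tt N22249 (iv F74276)) (tt N18301 F69981) (tt N21001 F69982) (tt N21821 (iv F72558)) (tt N22474 D32831))
theorem Q21061 : ∀ i, i < 21061 → P i := stepQ 21060 Q21060 (allL N21060 (tt N21214 (iv F70447)) (tt N20953 F69983) (tt N19369 F69984) (tt N22474 (iv F75200)) (tt N18304 F69985) (tt N19368 F69986) (tt N18301 (iv D31413)))
theorem Q21062 : ∀ i, i < 21062 → P i := stepQ 21061 Q21061 (allL N21061 (tt N22220 (iv F74147)) (tt N18302 (iv D31414)) (tt N21207 (iv F70434)) (tt N21005 F69987) (tt N21211 (iv F70442)) (tt N21228 (iv F70498)) (tt N22475 D32832))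
theorem Q21063 : ∀ i, i < 21063 → P i := stepQ 21062 Q21062 (allL N21062 (tt N18304 F69988) (tt N22476 D32833) (tt N20821 F69989) (tt N21007 F69990) (tt N21214 (iv F70449)) (tt N21058 F69991) (tt N18302 (iv D31415)))
theorem Q21064 : ∀ i, i < 21064 → P i := stepQ 21063 Q21063 (allL N21063 (tt N20821 F69992) (tt N20094 F69993) (tt N18304 F69994) (tt N19948 F69995) (tt N19369 F69996) (tt N19363 F69997) (tt N18303 (iv D31416)))
theorem Q21065 : ∀ i, i < 21065 → P i := stepQ 21064 Q21064 (allL N21064 (tt N21058 F69998) (tt N21415 (iv F71148)) (tt N19363 F69999) (tt N21009 F70000) (tt N19368 F70001) (tt N18304 (iv D31417)) (tt N19362 F70002))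
theorem Q21066 : ∀ i, i < 21066 → P i := stepQ 21065 Q21065 (allL N21065 (tt N22156 (iv F73901)) (tt N20449 F70003) (tt N18306 (iv D31418)) (tt N22477 D32834) (tt N22202 (iv F74069)) (tt N22201 (iv F74064)) (tt N20531 F70004))
theorem Q21067 : ∀ i, i < 21067 → P i := stepQ 21066 Q21066 (allL N21066 (tt N21033 F70010) (tt N18310 (iv D31419)) (tt N21032 (iv F70009)) (tt N18311 F70005) (tt N18315 F70006) (tt N20887 F70007) (tt N18805 F70008))
theorem Q21068 : ∀ i, i < 21068 → P i := stepQ 21067 Q21067 (allL N21067 (tt N18311 (iv D31420)) (tt N20247 (iv F70016)) (tt N20246 F70011) (tt N21033 F70012) (tt N18312 F70013) (tt N20889 F70014) (tt N18806 F70015))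
theorem Q21069 : ∀ i, i < 21069 → P i := stepQ 21068 Q21068 (allL N21068 (tt N18313 F70017) (tt N20124 F70018) (tt N18312 (iv D31421)) (tt N19824 F70019) (tt N20246 F70020) (tt N19174 F70021) (tt N19817 F70022))
theorem Q21070 : ∀ i, i < 21070 → P i := stepQ 21069 Q21069 (allL N21069 (tt N18315 (iv D31422)) (tt N22236 (iv F74217)) (tt N21029 (iv F70025)) (tt N18317 F70023) (tt N21033 F70024) (tt N21364 (iv F70987)) (tt N22395 (iv F74877)))
theorem Q21071 : ∀ i, i < 21071 → P i := stepQ 21070 Q21070 (allL N21070 (tt N21029 F70026) (tt N21174 F70322) (tt N18315 (iv D31423)) (tt N21030 F70028) (tt N21032 F70027) (tt N21363 (iv F70983)) (tt N22394 (iv F74872)))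
theorem Q21072 : ∀ i, i < 21072 → P i := stepQ 21071 Q21071 (allL N21071 (tt N22395 (iv F74874)) (tt N18804 F70029) (tt N22394 (iv F74873)) (tt N18319 F70030) (tt N18805 F70031) (tt N22418 (iv F74968)) (tt N18315 (iv D31424)))
theorem Q21073 : ∀ i, i < 21073 → P i := stepQ 21072 Q21072 (allL N21072 (tt N22219 (iv F74143)) (tt N18317 (iv D31425)) (tt N19781 (iv F70034)) (tt N22236 (iv F74221)) (tt N18320 F70032) (tt N19770 F70033) (tt N22218 (iv F74142)))
theorem Q21074 : ∀ i, i < 21074 → P i := stepQ 21073 Q21073 (allL N21073 (tt N18318 F70035) (tt N19147 F70036) (tt N18317 (iv D31426)) (tt N19148 F70039) (tt N18321 F70037) (tt N20728 F70038) (tt N22478 D32835))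
theorem Q21075 : ∀ i, i < 21075 → P i := stepQ 21074 Q21074 (allL N21074 (tt N18319 F70040) (tt N22479 D32836) (tt N22478 (iv F75217)) (tt N22395 (iv F74878)) (tt N18322 F70041) (tt N20720 F70042) (tt N18317 (iv D31427)))
theorem Q21076 : ∀ i, i < 21076 → P i := stepQ 21075 Q21075 (allL N21075 (tt N19148 F70043) (tt N18328 F70044) (tt N21546 (iv F71576)) (tt N18318 (iv D31428)) (tt N21280 (iv F70672)) (tt N21552 (iv F71598)) (tt N22134 (iv F73820)))
theorem Q21077 : ∀ i, i < 21077 → P i := stepQ 21076 Q21076 (allL N21076 (tt N22478 (iv F75215)) (tt N19173 F70045) (tt N18319 F70046) (tt N22134 (iv F73817)) (tt N18324 F70047) (tt N22361 (iv F74735)) (tt N18318 (iv D31429)))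
theorem Q21078 : ∀ i, i < 21078 → P i := stepQ 21077 Q21077 (allL N21077 (tt N20720 F70048) (tt N22430 (iv F75002)) (tt N22361 (iv F74732)) (tt N22418 (iv F74966)) (tt N18325 F70049) (tt N18319 (iv D31430)) (tt N20719 F70050))
theorem Q21079 : ∀ i, i < 21079 → P i := stepQ 21078 Q21078 (allL N21078 (tt N18324 F70051) (tt N22480 D32837) (tt N18322 F70052) (tt N19174 F70053) (tt N22478 (iv F75219)) (tt N19824 F70054) (tt N18321 (iv D31431)))
theorem Q21080 : ∀ i, i < 21080 → P i := stepQ 21079 Q21079 (allL N21079 (tt N21147 (iv F70248)) (tt N18322 (iv D31432)) (tt N21097 (iv F70098)) (tt N22181 (iv F73980)) (tt N22479 (iv F75222)) (tt N21096 F70097) (tt N22216 (iv F74133)))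
theorem Q21081 : ∀ i, i < 21081 → P i := stepQ 21080 Q21080 (allL N21080 (tt N21215 (iv F70450)) (tt N18325 (iv D31433)) (tt N22481 D32838) (tt N20903 F70055) (tt N22430 (iv F75005)) (tt N20902 F70056) (tt N21986 (iv F73231)))
theorem Q21082 : ∀ i, i < 21082 → P i := stepQ 21081 Q21081 (allL N21081 (tt N22136 (iv F73828)) (tt N21208 F70438) (tt N18326 (iv D31434)) (tt N22482 D32839) (tt N18331 F70057) (tt N22239 (iv F74235)) (tt N20395 F70058))
theorem Q21083 : ∀ i, i < 21083 → P i := stepQ 21082 Q21082 (allL N21082 (tt N19137 F70059) (tt N18327 (iv D31435)) (tt N21208 (iv F70436)) (tt N21674 (iv F71982)) (tt N18333 F70060) (tt N22183 (iv F73987)) (tt N21673 F71978))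
theorem Q21084 : ∀ i, i < 21084 → P i := stepQ 21083 Q21083 (allL N21083 (tt N22187 (iv F73997)) (tt N21280 F70673) (tt N22194 (iv F74023)) (tt N18336 F70061) (tt N18328 (iv D31436)) (tt N18450 F70062) (tt N20238 F70063))
theorem Q21085 : ∀ i, i < 21085 → P i := stepQ 21084 Q21084 (allL N21084 (tt N18331 F70064) (tt N22483 D32840) (tt N18330 (iv D31437)) (tt N22484 D32841) (tt N22136 (iv F73829)) (tt N21967 (iv F73155)) (tt N22159 (iv F73916)))
theorem Q21086 : ∀ i, i < 21086 → P i := stepQ 21085 Q21085 (allL N21085 (tt N19136 (iv F70066)) (tt N18331 (iv D31438)) (tt N18333 F70065) (tt N21682 (iv F72014)) (tt N21208 (iv F70437)) (tt N22453 (iv F75100)) (tt N21682 (iv F72017)))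
theorem Q21087 : ∀ i, i < 21087 → P i := stepQ 21086 Q21086 (allL N21086 (tt N22484 (iv F75244)) (tt N21682 (iv F72018)) (tt N22280 (iv F74415)) (tt N18331 (iv D31439)) (tt N21940 (iv F73051)) (tt N21939 (iv F73047)) (tt N22485 D32842))
theorem Q21088 : ∀ i, i < 21088 → P i := stepQ 21087 Q21087 (allL N21087 (tt N22159 (iv F73912)) (tt N22485 (iv F75251)) (tt N18332 F70067) (tt N22485 (iv F75252)) (tt N20395 F70068) (tt N20404 (iv F70069)) (tt N18331 (iv D31440)))
theorem Q21089 : ∀ i, i < 21089 → P i := stepQ 21088 Q21088 (allL N21088 (tt N19138 F70070) (tt N18460 F70071) (tt N22453 (iv F75099)) (tt N19135 F70072) (tt N22183 (iv F73986)) (tt N18333 (iv D31441)) (tt N20992 F70073))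
theorem Q21090 : ∀ i, i < 21090 → P i := stepQ 21089 Q21089 (allL N21089 (tt N18404 F70074) (tt N18955 F70075) (tt N18336 F70076) (tt N18956 F70077) (tt N18335 (iv D31442)) (tt N18401 F70078) (tt N20990 F70079))
theorem Q21091 : ∀ i, i < 21091 → P i := stepQ 21090 Q21090 (allL N21090 (tt N19852 F70080) (tt N18345 (iv D31443)) (tt N20011 (iv F70084)) (tt N18349 F70081) (tt N21315 (iv F70794)) (tt N19832 F70082) (tt N19851 F70083))
theorem Q21092 : ∀ i, i < 21092 → P i := stepQ 21091 Q21091 (allL N21091 (tt N20723 F70085) (tt N20166 F70086) (tt N18350 (iv D31444)) (tt N18973 F70087) (tt N20434 F70088) (tt N20722 F70089) (tt N18359 F70090))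
theorem Q21093 : ∀ i, i < 21093 → P i := stepQ 21092 Q21092 (allL N21092 (tt N21042 (iv F70116)) (tt N18351 (iv D31445)) (tt N22240 (iv F74238)) (tt N20226 F70091) (tt N21872 (iv F72756)) (tt N22486 D32843) (tt N18356 F70092))
theorem Q21094 : ∀ i, i < 21094 → P i := stepQ 21093 Q21093 (allL N21093 (tt N22487 D32844) (tt N18353 (iv D31446)) (tt N22488 D32845) (tt N18356 F70093) (tt N21105 (iv F70129)) (tt N22232 (iv F74204)) (tt N20226 F70094))
theorem Q21095 : ∀ i, i < 21095 → P i := stepQ 21094 Q21094 (allL N21094 (tt N22489 D32846) (tt N18355 (iv D31447)) (tt N22490 D32847) (tt N21109 (iv F70139)) (tt N18356 F70095) (tt N22491 D32848) (tt N21872 (iv F72757)))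
theorem Q21096 : ∀ i, i < 21096 → P i := stepQ 21095 Q21095 (allL N21095 (tt N18356 (iv D31448)) (tt N18421 (iv F70114)) (tt N18418 F70113) (tt N22487 (iv F75260)) (tt N22489 (iv F75270)) (tt N22258 (iv F74317)) (tt N21042 F70115))
theorem Q21097 : ∀ i, i < 21097 → P i := stepQ 21096 Q21096 (allL N21096 (tt N18418 (iv F70112)) (tt N18359 F70096) (tt N18356 (iv D31449)) (tt N22492 D32849) (tt N22490 (iv F75275)) (tt N21079 (iv F70097)) (tt N22240 (iv F74240)))
theorem Q21098 : ∀ i, i < 21098 → P i := stepQ 21097 Q21097 (allL N21097 (tt N22258 (iv F74318)) (tt N21112 (iv F70146)) (tt N21079 F70098) (tt N22232 (iv F74203)) (tt N22491 (iv F75278)) (tt N18356 (iv D31450)) (tt N22231 F74200))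
theorem Q21099 : ∀ i, i < 21099 → P i := stepQ 21098 Q21098 (allL N21098 (tt N21769 (iv F72326)) (tt N22490 (iv F75274)) (tt N18357 (iv D31451)) (tt N21767 (iv F72318)) (tt N18359 F70099) (tt N20808 F70100) (tt N20434 F70101))
theorem Q21100 : ∀ i, i < 21100 → P i := stepQ 21099 Q21099 (allL N21099 (tt N20261 F70102) (tt N18358 (iv D31452)) (tt N22034 (iv F73414)) (tt N18360 F70103) (tt N20262 F70104) (tt N19399 F70105) (tt N20430 F70106))
theorem Q21101 : ∀ i, i < 21101 → P i := stepQ 21100 Q21100 (allL N21100 (tt N18359 F70107) (tt N18814 F70111) (tt N18358 (iv D31453)) (tt N18798 F70110) (tt N21769 (iv F72329)) (tt N18797 F70108) (tt N20723 F70109))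
theorem Q21102 : ∀ i, i < 21102 → P i := stepQ 21101 Q21101 (allL N21101 (tt N18798 F70117) (tt N22492 (iv F75280)) (tt N18954 F70118) (tt N18359 (iv D31454)) (tt N18953 (iv F70121)) (tt N18796 F70119) (tt N18973 F70120))
theorem Q21103 : ∀ i, i < 21103 → P i := stepQ 21102 Q21102 (allL N21102 (tt N21394 (iv F71080)) (tt N18361 (iv D31455)) (tt N22493 D32850) (tt N18367 F70122) (tt N18362 F70123) (tt N22493 F75288) (tt N21200 (iv F70412)))
theorem Q21104 : ∀ i, i < 21104 → P i := stepQ 21103 Q21103 (allL N21103 (tt N18362 (iv D31456)) (tt N18761 (iv F70126)) (tt N22442 (iv F75048)) (tt N18368 F70124) (tt N21394 (iv F71083)) (tt N22442 (iv F75050)) (tt N20883 F70125))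
theorem Q21105 : ∀ i, i < 21105 → P i := stepQ 21104 Q21104 (allL N21104 (tt N22442 F75052) (tt N22488 (iv F75264)) (tt N18362 (iv D31457)) (tt N18369 F70417) (tt N22493 (iv F75285)) (tt N18362 F70418) (tt N21201 (iv F70414)))
theorem Q21106 : ∀ i, i < 21106 → P i := stepQ 21105 Q21105 (allL N21105 (tt N21660 (iv F71925)) (tt N18363 (iv D31459)) (tt N22232 (iv F74202)) (tt N18370 F70128) (tt N21093 F70129) (tt N22488 (iv F75266)) (tt N22131 (iv F73805)))
theorem Q21107 : ∀ i, i < 21107 → P i := stepQ 21106 Q21106 (allL N21106 (tt N22494 D32851) (tt N18364 (iv D31460)) (tt N19163 F70130) (tt N18365 F70131) (tt N18367 F70132) (tt N22495 D32852) (tt N21204 (iv F70427)))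
theorem Q21108 : ∀ i, i < 21108 → P i := stepQ 21107 Q21107 (allL N21107 (tt N18365 (iv D31461)) (tt N22026 (iv F73381)) (tt N19575 F70133) (tt N22494 (iv F75290)) (tt N18368 F70134) (tt N19574 F70135) (tt N21205 (iv F70430)))
theorem Q21109 : ∀ i, i < 21109 → P i := stepQ 21108 Q21108 (allL N21108 (tt N19574 F70136) (tt N22496 D32853) (tt N19573 F70137) (tt N22495 (iv F75297)) (tt N18369 F70138) (tt N18365 (iv D31462)) (tt N22497 D32854))
theorem Q21110 : ∀ i, i < 21110 → P i := stepQ 21109 Q21109 (allL N21109 (tt N22498 D32855) (tt N18366 (iv D31463)) (tt N22499 D32856) (tt N21094 F70139) (tt N18370 F70140) (tt N22496 (iv F75302)) (tt N22393 (iv F74868)))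
theorem Q21111 : ∀ i, i < 21111 → P i := stepQ 21110 Q21110 (allL N21110 (tt N18367 (iv D31464)) (tt N19807 (iv F70145)) (tt N19804 F70144) (tt N21394 (iv F71082)) (tt N22494 (iv F75291)) (tt N22500 D32857) (tt N21386 (iv F71058)))
theorem Q21112 : ∀ i, i < 21112 → P i := stepQ 21111 Q21111 (allL N21111 (tt N19804 (iv F70143)) (tt N18374 F70141) (tt N18367 (iv D31465)) (tt N21655 (iv F71904)) (tt N19163 F70142) (tt N22480 (iv F75227)) (tt N22406 (iv F74926)))
theorem Q21113 : ∀ i, i < 21113 → P i := stepQ 21112 Q21112 (allL N21112 (tt N22500 (iv F75314)) (tt N21097 F70146) (tt N22480 (iv F75224)) (tt N22493 (iv F75287)) (tt N22495 (iv F75298)) (tt N18367 (iv D31466)) (tt N22501 D32858))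
theorem Q21114 : ∀ i, i < 21114 → P i := stepQ 21113 Q21113 (allL N21113 (tt N18369 F70147) (tt N19577 (iv F70151)) (tt N19352 F70148) (tt N22442 (iv F75049)) (tt N19574 F70149) (tt N18368 (iv D31467)) (tt N18489 F70150))
theorem Q21115 : ∀ i, i < 21115 → P i := stepQ 21114 Q21114 (allL N21114 (tt N22502 D32859) (tt N18369 (iv D31468)) (tt N21164 (iv F70295)) (tt N22488 (iv F75268)) (tt N22496 (iv F75301)) (tt N18370 F70152) (tt N21167 (iv F70303)))
theorem Q21116 : ∀ i, i < 21116 → P i := stepQ 21115 Q21115 (allL N21115 (tt N18489 F70153) (tt N19849 (iv F70156)) (tt N19343 F70154) (tt N21201 (iv F70415)) (tt N22497 (iv F75306)) (tt N18488 F70155) (tt N18369 (iv D31469)))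
theorem Q21117 : ∀ i, i < 21117 → P i := stepQ 21116 Q21116 (allL N21116 (tt N18370 (iv D31470)) (tt N19481 F70157) (tt N21980 (iv F73205)) (tt N21660 (iv F71926)) (tt N22498 (iv F75311)) (tt N22502 (iv F75326)) (tt N22503 D32860))
theorem Q21118 : ∀ i, i < 21118 → P i := stepQ 21117 Q21117 (allL N21117 (tt N21980 (iv F73204)) (tt N18376 F70158) (tt N18370 (iv D31471)) (tt N22139 (iv F73841)) (tt N22499 (iv F75313)) (tt N21164 F70297) (tt N22504 D32861))
theorem Q21119 : ∀ i, i < 21119 → P i := stepQ 21118 Q21118 (allL N21118 (tt N22503 (iv F75328)) (tt N20679 F70159) (tt N22504 (iv F75335)) (tt N22131 (iv F73802)) (tt N22393 (iv F74867)) (tt N21943 (iv F73067)) (tt N18370 (iv D31472)))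
theorem Q21120 : ∀ i, i < 21120 → P i := stepQ 21119 Q21119 (allL N21119 (tt N18372 (iv D31473)) (tt N20353 F70160) (tt N20713 F70164) (tt N18540 F70161) (tt N18375 F70162) (tt N20510 F70163) (tt N22128 (iv F73791)))
theorem Q21121 : ∀ i, i < 21121 → P i := stepQ 21120 Q21120 (allL N21120 (tt N20713 F70165) (tt N22499 (iv F75312)) (tt N18372 (iv D31474)) (tt N22218 (iv F74141)) (tt N18376 F70166) (tt N21975 (iv F73182)) (tt N22236 (iv F74220)))
theorem Q21122 : ∀ i, i < 21122 → P i := stepQ 21121 Q21121 (allL N21121 (tt N20714 F70167) (tt N21033 (iv F70170)) (tt N18377 F70168) (tt N20247 F70169) (tt N22236 (iv F74218)) (tt N21313 (iv F70785)) (tt N18376 (iv D31475)))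
theorem Q21123 : ∀ i, i < 21123 → P i := stepQ 21122 Q21122 (allL N21122 (tt N19758 F70171) (tt N19462 F70172) (tt N21313 (iv F70782)) (tt N18378 F70173) (tt N18552 F70174) (tt N18377 (iv D31476)) (tt N19756 F70175))
theorem Q21124 : ∀ i, i < 21124 → P i := stepQ 21123 Q21123 (allL N21123 (tt N20472 F70176) (tt N18383 (iv D31477)) (tt N18385 F70177) (tt N20464 F70178) (tt N18393 F70179) (tt N22138 (iv F73838)) (tt N22191 (iv F74015)))
theorem Q21125 : ∀ i, i < 21125 → P i := stepQ 21124 Q21124 (allL N21124 (tt N20458 F70180) (tt N22505 D32862) (tt N18384 F70181) (tt N21949 (iv F73089)) (tt N18395 F70182) (tt N22268 (iv F74370)) (tt N18383 (iv D31478)))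
theorem Q21126 : ∀ i, i < 21126 → P i := stepQ 21125 Q21125 (allL N21125 (tt N21139 (iv F70215)) (tt N18387 (iv D31479)) (tt N21299 (iv F70731)) (tt N21181 (iv F70349)) (tt N22223 (iv F74163)) (tt N21138 F70214) (tt N21672 F71972))
theorem Q21127 : ∀ i, i < 21127 → P i := stepQ 21126 Q21126 (allL N21126 (tt N20238 F70183) (tt N22223 (iv F74161)) (tt N18388 F70184) (tt N21189 (iv F70369)) (tt N18387 (iv D31480)) (tt N21180 F70347) (tt N22187 F74002))
theorem Q21128 : ∀ i, i < 21128 → P i := stepQ 21127 Q21127 (allL N21127 (tt N18956 F70185) (tt N20847 F70186) (tt N21180 (iv F70344)) (tt N18404 F70187) (tt N18389 F70188) (tt N18388 (iv D31481)) (tt N21179 (iv F70341)))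
theorem Q21129 : ∀ i, i < 21129 → P i := stepQ 21128 Q21128 (allL N21128 (tt N18400 F70189) (tt N18391 (iv D31482)) (tt N22506 D32863) (tt N21178 (iv F70336)) (tt N18406 F70190) (tt N21136 (iv F70208)) (tt N18397 F70191))
theorem Q21130 : ∀ i, i < 21130 → P i := stepQ 21129 Q21129 (allL N21129 (tt N18750 F70192) (tt N22506 (iv F75341)) (tt N18392 (iv D31483)) (tt N21454 (iv F71279)) (tt N18408 F70193) (tt N22237 (iv F74225)) (tt N19456 F70194))
theorem Q21131 : ∀ i, i < 21131 → P i := stepQ 21130 Q21130 (allL N21130 (tt N18393 (iv D31484)) (tt N19400 F70195) (tt N18397 F70196) (tt N20469 F70197) (tt N20472 F70198) (tt N22302 (iv F74512)) (tt N22506 (iv F75345)))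
theorem Q21132 : ∀ i, i < 21132 → P i := stepQ 21131 Q21131 (allL N21131 (tt N22506 (iv F75340)) (tt N22507 D32864) (tt N18400 F70199) (tt N21505 (iv F71431)) (tt N22191 (iv F74014)) (tt N22508 D32865) (tt N18393 (iv D31485)))
theorem Q21133 : ∀ i, i < 21133 → P i := stepQ 21132 Q21132 (allL N21132 (tt N21451 (iv F71270)) (tt N18395 (iv D31486)) (tt N21979 (iv F73203)) (tt N20040 F70200) (tt N22505 (iv F75339)) (tt N22509 D32866) (tt N22507 (iv F75349)))
theorem Q21134 : ∀ i, i < 21134 → P i := stepQ 21133 Q21133 (allL N21133 (tt N18398 F70201) (tt N18662 F70202) (tt N18672 F70203) (tt N18397 (iv D31487)) (tt N21681 (iv F72010)) (tt N22209 (iv F74104)) (tt N21178 (iv F70337)))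
theorem Q21135 : ∀ i, i < 21135 → P i := stepQ 21134 Q21134 (allL N21134 (tt N18399 F70204) (tt N21134 F70205) (tt N22302 (iv F74509)) (tt N22209 (iv F74103)) (tt N21680 F72007) (tt N18397 (iv D31488)) (tt N21137 (iv F70210)))
theorem Q21136 : ∀ i, i < 21136 → P i := stepQ 21135 Q21135 (allL N21135 (tt N21178 (iv F70335)) (tt N18996 F70206) (tt N21531 (iv F71522)) (tt N18400 F70207) (tt N21541 (iv F71552)) (tt N22510 D32867) (tt N18398 (iv D31489)))
theorem Q21137 : ∀ i, i < 21137 → P i := stepQ 21136 Q21136 (allL N21136 (tt N21137 (iv F70209)) (tt N21543 (iv F71560)) (tt N22301 (iv F74507)) (tt N21542 F71557) (tt N21142 (iv F70227)) (tt N21128 F70208) (tt N18399 (iv D31490)))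
theorem Q21138 : ∀ i, i < 21138 → P i := stepQ 21137 Q21137 (allL N21137 (tt N21136 F70209) (tt N22511 D32868) (tt N22508 (iv F75353)) (tt N22510 (iv F75362)) (tt N22192 (iv F74018)) (tt N18400 (iv D31491)) (tt N21134 F70210))
theorem Q21139 : ∀ i, i < 21139 → P i := stepQ 21138 Q21138 (allL N21138 (tt N18402 (iv D31492)) (tt N18664 F70211) (tt N18667 F70212) (tt N18459 F70213) (tt N21554 (iv F71607)) (tt N21125 (iv F70214)) (tt N22224 (iv F74169)))
theorem Q21140 : ∀ i, i < 21140 → P i := stepQ 21139 Q21139 (allL N21139 (tt N21125 F70215) (tt N19135 F70216) (tt N21662 (iv F71935)) (tt N18460 F70217) (tt N21671 (iv F71966)) (tt N18402 (iv D31493)) (tt N22512 D32869))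
theorem Q21141 : ∀ i, i < 21141 → P i := stepQ 21140 Q21140 (allL N21140 (tt N20990 F70218) (tt N20284 F70219) (tt N21189 (iv F70368)) (tt N21179 (iv F70340)) (tt N18405 F70220) (tt N20987 F70221) (tt N18404 (iv D31494)))
theorem Q21142 : ∀ i, i < 21142 → P i := stepQ 21141 Q21141 (allL N21141 (tt N22191 (iv F74013)) (tt N18408 F70222) (tt N18406 (iv D31495)) (tt N20280 F70224) (tt N22506 (iv F75343)) (tt N22513 D32870) (tt N20472 F70223))
theorem Q21143 : ∀ i, i < 21143 → P i := stepQ 21142 Q21142 (allL N21142 (tt N22192 (iv F74016)) (tt N18987 F70225) (tt N22513 (iv F75374)) (tt N18840 F70226) (tt N21136 F70227) (tt N18406 (iv D31496)) (tt N20138 F70228))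
theorem Q21144 : ∀ i, i < 21144 → P i := stepQ 21143 Q21143 (allL N21143 (tt N18408 F70229) (tt N18751 F70230) (tt N18407 (iv D31497)) (tt N20153 F70233) (tt N18750 F70231) (tt N21864 (iv F72723)) (tt N19458 F70232))
theorem Q21145 : ∀ i, i < 21145 → P i := stepQ 21144 Q21144 (allL N21144 (tt N20153 F70234) (tt N20280 F70235) (tt N20152 F70236) (tt N18408 (iv D31498)) (tt N20475 (iv F70238)) (tt N22197 (iv F74043)) (tt N19460 F70237))
theorem Q21146 : ∀ i, i < 21146 → P i := stepQ 21145 Q21145 (allL N21145 (tt N21864 (iv F72720)) (tt N22514 D32871) (tt N18409 F70239) (tt N22197 (iv F74041)) (tt N22237 (iv F74224)) (tt N18408 (iv D31499)) (tt N21862 (iv F72716)))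
theorem Q21147 : ∀ i, i < 21147 → P i := stepQ 21146 Q21146 (allL N21146 (tt N20686 F70240) (tt N20183 F70241) (tt N18412 (iv D31500)) (tt N19112 F70242) (tt N20489 F70243) (tt N18421 F70244) (tt N20685 F70245))
theorem Q21148 : ∀ i, i < 21148 → P i := stepQ 21147 Q21147 (allL N21147 (tt N21079 F70248) (tt N18413 (iv D31501)) (tt N22258 (iv F74315)) (tt N20233 F70246) (tt N21766 (iv F72314)) (tt N18418 F70247) (tt N22515 D32872))
theorem Q21149 : ∀ i, i < 21149 → P i := stepQ 21148 Q21148 (allL N21148 (tt N22492 (iv F75279)) (tt N18415 (iv D31502)) (tt N22516 D32873) (tt N18418 F70249) (tt N21158 (iv F70278)) (tt N20233 F70250) (tt N22217 (iv F74138)))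
theorem Q21150 : ∀ i, i < 21150 → P i := stepQ 21149 Q21149 (allL N21149 (tt N22490 (iv F75273)) (tt N18417 (iv D31503)) (tt N22489 F75272) (tt N21162 (iv F70288)) (tt N18418 F70251) (tt N21766 (iv F72315)) (tt N22517 D32874))
theorem Q21151 : ∀ i, i < 21151 → P i := stepQ 21150 Q21150 (allL N21150 (tt N22240 F74241) (tt N21171 (iv F70311)) (tt N21042 F70252) (tt N22217 (iv F74137)) (tt N22517 (iv F75396)) (tt N22216 F74134) (tt N18418 (iv D31504)))
theorem Q21152 : ∀ i, i < 21152 → P i := stepQ 21151 Q21151 (allL N21151 (tt N21870 (iv F72744)) (tt N22489 (iv F75269)) (tt N18419 (iv D31505)) (tt N21869 (iv F72741)) (tt N18421 F70253) (tt N20489 F70254) (tt N20818 F70255))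
theorem Q21153 : ∀ i, i < 21153 → P i := stepQ 21152 Q21152 (allL N21152 (tt N20272 F70256) (tt N18420 (iv D31506)) (tt N22021 (iv F73359)) (tt N18422 F70257) (tt N20273 F70258) (tt N20488 F70259) (tt N19605 F70260))
theorem Q21154 : ∀ i, i < 21154 → P i := stepQ 21153 Q21153 (allL N21153 (tt N18421 F70261) (tt N18764 (iv F70265)) (tt N18420 (iv D31507)) (tt N18748 F70264) (tt N21870 (iv F72747)) (tt N20686 F70262) (tt N18746 F70263))
theorem Q21155 : ∀ i, i < 21155 → P i := stepQ 21154 Q21154 (allL N21154 (tt N18748 F70266) (tt N22487 (iv F75259)) (tt N19094 F70267) (tt N18421 (iv D31508)) (tt N19093 (iv F70270)) (tt N19112 F70268) (tt N18745 F70269))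
theorem Q21156 : ∀ i, i < 21156 → P i := stepQ 21155 Q21155 (allL N21155 (tt N21437 (iv F71218)) (tt N18423 (iv D31509)) (tt N22518 D32875) (tt N18432 F70271) (tt N18424 F70272) (tt N21220 (iv F70474)) (tt N22518 F75401))
theorem Q21157 : ∀ i, i < 21157 → P i := stepQ 21156 Q21156 (allL N21156 (tt N18424 (iv D31510)) (tt N18812 (iv F70275)) (tt N22455 (iv F75106)) (tt N18429 F70273) (tt N21437 (iv F71221)) (tt N20907 F70274) (tt N22455 (iv F75109)))
theorem Q21158 : ∀ i, i < 21158 → P i := stepQ 21157 Q21157 (allL N21157 (tt N22455 (iv F75110)) (tt N22516 (iv F75390)) (tt N18424 (iv D31511)) (tt N18430 F70478) (tt N22518 (iv F75398)) (tt N21221 (iv F70476)) (tt N18424 F70479))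
theorem Q21159 : ∀ i, i < 21159 → P i := stepQ 21158 Q21158 (allL N21158 (tt N21529 (iv F71514)) (tt N18425 (iv D31513)) (tt N22217 (iv F74136)) (tt N18431 F70277) (tt N21148 F70278) (tt N22133 (iv F73814)) (tt N22516 (iv F75393)))
theorem Q21160 : ∀ i, i < 21160 → P i := stepQ 21159 Q21159 (allL N21159 (tt N22519 D32876) (tt N18426 (iv D31514)) (tt N19026 F70279) (tt N18427 F70280) (tt N18432 F70281) (tt N21224 (iv F70489)) (tt N22520 D32877))
theorem Q21161 : ∀ i, i < 21161 → P i := stepQ 21160 Q21160 (allL N21160 (tt N18427 (iv D31515)) (tt N22039 (iv F73432)) (tt N19360 F70282) (tt N22519 (iv F75403)) (tt N18429 F70283) (tt N21225 (iv F70492)) (tt N19359 (iv F70284)))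
theorem Q21162 : ∀ i, i < 21162 → P i := stepQ 21161 Q21161 (allL N21161 (tt N19359 F70285) (tt N22521 D32878) (tt N19358 F70286) (tt N22520 (iv F75410)) (tt N18430 F70287) (tt N22522 D32879) (tt N18427 (iv D31516)))
theorem Q21163 : ∀ i, i < 21163 → P i := stepQ 21162 Q21162 (allL N21162 (tt N22523 D32880) (tt N18428 (iv D31517)) (tt N22524 D32881) (tt N21149 F70288) (tt N18431 F70289) (tt N22398 (iv F74891)) (tt N22521 (iv F75416)))
theorem Q21164 : ∀ i, i < 21164 → P i := stepQ 21163 Q21163 (allL N21163 (tt N18430 F70290) (tt N19362 F70294) (tt N19357 F70291) (tt N22455 (iv F75107)) (tt N19359 F70292) (tt N18516 F70293) (tt N18429 (iv D31518)))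
theorem Q21165 : ∀ i, i < 21165 → P i := stepQ 21164 Q21164 (allL N21164 (tt N22525 D32882) (tt N18430 (iv D31519)) (tt N21114 F70295) (tt N22516 (iv F75394)) (tt N22521 (iv F75415)) (tt N21117 (iv F70297)) (tt N18431 F70296))
theorem Q21166 : ∀ i, i < 21166 → P i := stepQ 21165 Q21165 (allL N21165 (tt N18516 F70298) (tt N19757 F70299) (tt N19447 F70300) (tt N21221 (iv F70477)) (tt N22522 (iv F75422)) (tt N18430 (iv D31520)) (tt N18515 F70301))
theorem Q21167 : ∀ i, i < 21167 → P i := stepQ 21166 Q21166 (allL N21166 (tt N18431 (iv D31521)) (tt N19246 F70310) (tt N21943 (iv F73066)) (tt N21529 (iv F71515)) (tt N22523 (iv F75426)) (tt N22504 (iv F75337)) (tt N22525 (iv F75433)))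
theorem Q21168 : ∀ i, i < 21168 → P i := stepQ 21167 Q21167 (allL N21167 (tt N21943 (iv F73065)) (tt N18436 F70302) (tt N18431 (iv D31522)) (tt N22141 (iv F73849)) (tt N22524 (iv F75428)) (tt N22503 (iv F75332)) (tt N21114 F70303))
theorem Q21169 : ∀ i, i < 21169 → P i := stepQ 21168 Q21168 (allL N21168 (tt N22504 (iv F75333)) (tt N20716 F70304) (tt N22503 (iv F75330)) (tt N22133 (iv F73812)) (tt N22398 (iv F74890)) (tt N18431 (iv D31523)) (tt N21980 (iv F73206)))
theorem Q21170 : ∀ i, i < 21170 → P i := stepQ 21169 Q21169 (allL N21169 (tt N18432 (iv D31524)) (tt N19714 (iv F70309)) (tt N19711 F70308) (tt N21437 (iv F71220)) (tt N22519 (iv F75404)) (tt N21430 (iv F71200)) (tt N22526 D32883))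
theorem Q21171 : ∀ i, i < 21171 → P i := stepQ 21170 Q21170 (allL N21170 (tt N19711 (iv F70307)) (tt N18439 F70305) (tt N18432 (iv D31525)) (tt N21759 (iv F72288)) (tt N19026 F70306) (tt N22425 (iv F74994)) (tt N22468 (iv F75171)))
theorem Q21172 : ∀ i, i < 21172 → P i := stepQ 21171 Q21171 (allL N21171 (tt N22526 (iv F75434)) (tt N21150 F70311) (tt N22468 (iv F75167)) (tt N22518 (iv F75400)) (tt N22520 (iv F75411)) (tt N22527 D32884) (tt N18432 (iv D31526)))
theorem Q21173 : ∀ i, i < 21173 → P i := stepQ 21172 Q21172 (allL N21172 (tt N18433 (iv D31527)) (tt N20357 F70312) (tt N20676 (iv F70316)) (tt N18549 F70313) (tt N18435 F70314) (tt N22124 (iv F73771)) (tt N20452 F70315))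
theorem Q21174 : ∀ i, i < 21174 → P i := stepQ 21173 Q21173 (allL N21173 (tt N20676 F70317) (tt N22524 (iv F75427)) (tt N18433 (iv D31528)) (tt N22233 (iv F74207)) (tt N18436 F70318) (tt N22255 (iv F74302)) (tt N22013 (iv F73331)))
theorem Q21175 : ∀ i, i < 21175 → P i := stepQ 21174 Q21174 (allL N21174 (tt N20677 F70319) (tt N21070 (iv F70322)) (tt N18437 F70320) (tt N20259 F70321) (tt N22255 (iv F74301)) (tt N18436 (iv D31529)) (tt N21302 (iv F70744)))
theorem Q21176 : ∀ i, i < 21176 → P i := stepQ 21175 Q21175 (allL N21175 (tt N19850 F70323) (tt N19662 F70324) (tt N21302 (iv F70741)) (tt N18440 F70325) (tt N18544 F70326) (tt N19848 F70327) (tt N18437 (iv D31530)))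
theorem Q21177 : ∀ i, i < 21177 → P i := stepQ 21176 Q21176 (allL N21176 (tt N20530 F70328) (tt N18445 (iv D31531)) (tt N18447 F70329) (tt N20522 F70330) (tt N18455 F70331) (tt N22184 (iv F73990)) (tt N22140 (iv F73846)))
theorem Q21178 : ∀ i, i < 21178 → P i := stepQ 21177 Q21177 (allL N21177 (tt N20515 F70332) (tt N22528 D32885) (tt N18446 F70333) (tt N21987 (iv F73234)) (tt N18456 F70334) (tt N18445 (iv D31532)) (tt N22288 (iv F74454)))
theorem Q21179 : ∀ i, i < 21179 → P i := stepQ 21178 Q21178 (allL N21178 (tt N21135 F70335) (tt N18449 (iv D31533)) (tt N21300 (iv F70734)) (tt N21128 F70336) (tt N22208 (iv F74098)) (tt N21542 F71558) (tt N21133 F70337))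
theorem Q21180 : ∀ i, i < 21180 → P i := stepQ 21179 Q21179 (allL N21179 (tt N20250 F70338) (tt N22208 (iv F74096)) (tt N18450 F70339) (tt N21140 F70340) (tt N18449 (iv D31534)) (tt N22194 F74027) (tt N21127 F70341))
theorem Q21181 : ∀ i, i < 21181 → P i := stepQ 21180 Q21180 (allL N21180 (tt N19096 F70342) (tt N20854 F70343) (tt N21127 F70344) (tt N18462 F70345) (tt N18451 F70346) (tt N21126 (iv F70347)) (tt N18450 (iv D31535)))
theorem Q21182 : ∀ i, i < 21182 → P i := stepQ 21181 Q21181 (allL N21181 (tt N18460 F70348) (tt N18453 (iv D31536)) (tt N22529 D32886) (tt N21125 F70349) (tt N18464 F70350) (tt N18459 F70351) (tt N21188 (iv F70365)))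
theorem Q21183 : ∀ i, i < 21183 → P i := stepQ 21182 Q21182 (allL N21182 (tt N18801 F70352) (tt N22529 (iv F75448)) (tt N18454 (iv D31537)) (tt N21496 (iv F71407)) (tt N18466 F70353) (tt N19656 F70354) (tt N22256 (iv F74309)))
theorem Q21184 : ∀ i, i < 21184 → P i := stepQ 21183 Q21183 (allL N21183 (tt N18455 (iv D31538)) (tt N19606 F70355) (tt N18459 F70356) (tt N20527 F70357) (tt N20530 F70358) (tt N22529 (iv F75451)) (tt N22283 (iv F74426)))
theorem Q21185 : ∀ i, i < 21185 → P i := stepQ 21184 Q21184 (allL N21184 (tt N22529 (iv F75447)) (tt N22530 D32887) (tt N18460 F70359) (tt N21463 (iv F71301)) (tt N22184 (iv F73989)) (tt N18455 (iv D31539)) (tt N22531 D32888))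
theorem Q21186 : ∀ i, i < 21186 → P i := stepQ 21185 Q21185 (allL N21185 (tt N21493 (iv F71398)) (tt N18456 (iv D31540)) (tt N21941 (iv F73058)) (tt N20020 F70360) (tt N22528 (iv F75446)) (tt N22530 (iv F75456)) (tt N22532 D32889))
theorem Q21187 : ∀ i, i < 21187 → P i := stepQ 21186 Q21186 (allL N21186 (tt N18461 F70361) (tt N21186 F70362) (tt N22283 (iv F74424)) (tt N22224 (iv F74168)) (tt N21553 F71604) (tt N21187 (iv F70363)) (tt N18459 (iv D31541)))
theorem Q21188 : ∀ i, i < 21188 → P i := stepQ 21187 Q21187 (allL N21187 (tt N21188 (iv F70364)) (tt N22533 D32890) (tt N22531 (iv F75460)) (tt N22512 (iv F75371)) (tt N22185 (iv F73993)) (tt N21186 F70363) (tt N18460 (iv D31542)))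
theorem Q21189 : ∀ i, i < 21189 → P i := stepQ 21188 Q21188 (allL N21188 (tt N21187 F70364) (tt N21673 (iv F71974)) (tt N22282 (iv F74422)) (tt N21672 F71971) (tt N21191 (iv F70377)) (tt N18461 (iv D31543)) (tt N21181 F70365))
theorem Q21190 : ∀ i, i < 21190 → P i := stepQ 21189 Q21189 (allL N21189 (tt N21016 F70366) (tt N20304 F70367) (tt N21140 F70368) (tt N21126 F70369) (tt N18463 F70370) (tt N18462 (iv D31544)) (tt N21013 F70371))
theorem Q21191 : ∀ i, i < 21191 → P i := stepQ 21190 Q21190 (allL N21190 (tt N22184 (iv F73988)) (tt N18466 F70372) (tt N18464 (iv D31545)) (tt N20269 F70374) (tt N22529 (iv F75450)) (tt N20530 F70373) (tt N22534 D32891))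
theorem Q21192 : ∀ i, i < 21192 → P i := stepQ 21191 Q21191 (allL N21191 (tt N22185 (iv F73991)) (tt N19126 F70375) (tt N22534 (iv F75470)) (tt N18896 F70376) (tt N21188 F70377) (tt N20142 F70378) (tt N18464 (iv D31546)))
theorem Q21193 : ∀ i, i < 21193 → P i := stepQ 21192 Q21192 (allL N21192 (tt N18466 F70379) (tt N18802 F70380) (tt N18465 (iv D31547)) (tt N20158 F70383) (tt N18801 F70381) (tt N19658 F70382) (tt N21938 (iv F73042)))
theorem Q21194 : ∀ i, i < 21194 → P i := stepQ 21193 Q21193 (allL N21193 (tt N20158 F70384) (tt N20269 F70385) (tt N20157 F70386) (tt N18466 (iv D31548)) (tt N20531 (iv F70388)) (tt N19660 F70387) (tt N22202 (iv F74070)))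
theorem Q21195 : ∀ i, i < 21195 → P i := stepQ 21194 Q21194 (allL N21194 (tt N21938 (iv F73039)) (tt N22535 D32892) (tt N18467 F70389) (tt N22202 (iv F74068)) (tt N22256 (iv F74307)) (tt N21936 (iv F73033)) (tt N18466 (iv D31549)))
theorem Q21196 : ∀ i, i < 21196 → P i := stepQ 21195 Q21195 (allL N21195 (tt N21043 F70390) (tt N18470 (iv D31550)) (tt N21283 (iv F70683)) (tt N18743 F70391) (tt N20921 F70392) (tt N21289 (iv F70697)) (tt N18472 F70393))
theorem Q21197 : ∀ i, i < 21197 → P i := stepQ 21196 Q21196 (allL N21196 (tt N21217 (iv F70459)) (tt N18471 (iv D31551)) (tt N20902 F70394) (tt N20915 F70395) (tt N18472 F70396) (tt N22481 (iv F75232)) (tt N20921 F70397))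
theorem Q21198 : ∀ i, i < 21198 → P i := stepQ 21197 Q21197 (allL N21197 (tt N21216 F70458) (tt N18475 F70398) (tt N18472 (iv D31552)) (tt N21416 (iv F71152)) (tt N20902 F70399) (tt N22430 (iv F75006)) (tt N21283 (iv F70684)))
theorem Q21199 : ∀ i, i < 21199 → P i := stepQ 21198 Q21198 (allL N21198 (tt N18654 F70400) (tt N21012 F70401) (tt N22430 (iv F75003)) (tt N20948 F70402) (tt N22481 (iv F75231)) (tt N18472 (iv D31553)) (tt N21948 (iv F73086)))
theorem Q21200 : ∀ i, i < 21200 → P i := stepQ 21199 Q21199 (allL N21199 (tt N18476 F70403) (tt N19744 F70404) (tt N20906 F70405) (tt N18477 F70406) (tt N20905 F70407) (tt N18474 (iv D31554)) (tt N20212 F70408))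
theorem Q21201 : ∀ i, i < 21201 → P i := stepQ 21200 Q21200 (allL N21200 (tt N18784 F70409) (tt N18478 (iv D31555)) (tt N21393 (iv F71078)) (tt N20914 F70410) (tt N18480 F70411) (tt N21392 F71075) (tt N21102 F70412))
theorem Q21202 : ∀ i, i < 21202 → P i := stepQ 21201 Q21201 (allL N21201 (tt N21202 (iv F70419)) (tt N18678 F70413) (tt N18480 (iv D31556)) (tt N21115 F70415) (tt N21393 (iv F71079)) (tt N20883 (iv F70416)) (tt N21104 F70414))
theorem Q21203 : ∀ i, i < 21203 → P i := stepQ 21202 Q21202 (allL N21202 (tt N21201 F70419) (tt N21309 (iv F70768)) (tt N20883 F70420) (tt N18489 F70421) (tt N21392 (iv F71074)) (tt N18480 (iv D31557)) (tt N22442 (iv F75051)))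
theorem Q21204 : ∀ i, i < 21204 → P i := stepQ 21203 Q21203 (allL N21203 (tt N21311 (iv F70775)) (tt N18481 (iv D31558)) (tt N21400 (iv F71101)) (tt N18490 F70422) (tt N20236 F70423) (tt N21309 (iv F70771)) (tt N20865 F70424))
theorem Q21205 : ∀ i, i < 21205 → P i := stepQ 21204 Q21204 (allL N21204 (tt N22536 D32893) (tt N18483 (iv D31559)) (tt N21688 (iv F72041)) (tt N18485 F70425) (tt N20914 F70426) (tt N22537 D32894) (tt N21106 F70427))
theorem Q21206 : ∀ i, i < 21206 → P i := stepQ 21205 Q21205 (allL N21205 (tt N18485 (iv D31560)) (tt N21874 (iv F72765)) (tt N19342 F70428) (tt N22536 (iv F75483)) (tt N18488 F70429) (tt N22497 (iv F75307)) (tt N21107 F70430))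
theorem Q21207 : ∀ i, i < 21207 → P i := stepQ 21206 Q21206 (allL N21206 (tt N22497 (iv F75303)) (tt N22538 D32895) (tt N19349 F70431) (tt N22537 (iv F75489)) (tt N18489 F70432) (tt N18485 (iv D31561)) (tt N19574 F70433))
theorem Q21208 : ∀ i, i < 21208 → P i := stepQ 21207 Q21207 (allL N21207 (tt N22539 D32896) (tt N18486 (iv D31562)) (tt N21061 F70434) (tt N22325 (iv F74596)) (tt N18490 F70435) (tt N22538 (iv F75494)) (tt N22327 (iv F74604)))
theorem Q21209 : ∀ i, i < 21209 → P i := stepQ 21208 Q21208 (allL N21208 (tt N18487 (iv D31563)) (tt N21081 (iv F70438)) (tt N21082 F70436) (tt N21661 F71934) (tt N21085 F70437) (tt N22461 (iv F75139)) (tt N21663 (iv F71939)))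
theorem Q21210 : ∀ i, i < 21210 → P i := stepQ 21209 Q21209 (allL N21209 (tt N21307 (iv F70761)) (tt N18489 (iv D31564)) (tt N22540 D32897) (tt N21309 (iv F70769)) (tt N22538 (iv F75493)) (tt N18490 F70439) (tt N21022 F70440))
theorem Q21211 : ∀ i, i < 21211 → P i := stepQ 21210 Q21210 (allL N21210 (tt N18490 (iv D31565)) (tt N22541 D32898) (tt N22542 D32899) (tt N21311 (iv F70776)) (tt N22539 (iv F75499)) (tt N21307 F70763) (tt N22463 (iv F75149)))
theorem Q21212 : ∀ i, i < 21212 → P i := stepQ 21211 Q21211 (allL N21211 (tt N22542 (iv F75508)) (tt N18495 F70441) (tt N18490 (iv D31566)) (tt N22543 D32900) (tt N21061 F70442) (tt N22540 (iv F75502)) (tt N22544 D32901))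
theorem Q21213 : ∀ i, i < 21213 → P i := stepQ 21212 Q21212 (allL N21212 (tt N22463 (iv F75146)) (tt N20863 F70443) (tt N22544 (iv F75518)) (tt N20865 F70444) (tt N22327 (iv F74603)) (tt N22235 (iv F74215)) (tt N18490 (iv D31567)))
theorem Q21214 : ∀ i, i < 21214 → P i := stepQ 21213 Q21213 (allL N21213 (tt N21059 F70445) (tt N22543 (iv F75514)) (tt N22104 F73709) (tt N18495 (iv D31568)) (tt N22109 (iv F73717)) (tt N19367 F70446) (tt N22545 D32902))
theorem Q21215 : ∀ i, i < 21215 → P i := stepQ 21214 Q21214 (allL N21214 (tt N21060 F70447) (tt N22546 D32903) (tt N18496 F70448) (tt N22545 (iv F75523)) (tt N21062 F70449) (tt N21822 (iv F72562)) (tt N18495 (iv D31569)))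
theorem Q21216 : ∀ i, i < 21216 → P i := stepQ 21215 Q21215 (allL N21215 (tt N21080 F70450) (tt N18498 (iv D31570)) (tt N21288 (iv F70695)) (tt N18794 F70451) (tt N20950 F70452) (tt N18500 F70453) (tt N21284 (iv F70685)))
theorem Q21217 : ∀ i, i < 21217 → P i := stepQ 21216 Q21216 (allL N21216 (tt N21197 (iv F70458)) (tt N18499 (iv D31571)) (tt N20878 F70454) (tt N20944 F70455) (tt N18500 F70456) (tt N20950 F70457) (tt N22469 (iv F75175)))
theorem Q21218 : ∀ i, i < 21218 → P i := stepQ 21217 Q21217 (allL N21217 (tt N21196 F70459) (tt N18502 F70460) (tt N18500 (iv D31572)) (tt N21372 (iv F71012)) (tt N20878 F70461) (tt N21288 (iv F70696)) (tt N22411 (iv F74938)))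
theorem Q21219 : ∀ i, i < 21219 → P i := stepQ 21218 Q21218 (allL N21218 (tt N18648 F70462) (tt N20986 F70463) (tt N22411 (iv F74935)) (tt N20919 F70464) (tt N22469 (iv F75174)) (tt N21986 (iv F73230)) (tt N18500 (iv D31573)))
theorem Q21220 : ∀ i, i < 21220 → P i := stepQ 21219 Q21219 (allL N21219 (tt N18503 F70465) (tt N19840 F70466) (tt N20882 F70467) (tt N18505 F70468) (tt N20881 F70469) (tt N20213 F70470) (tt N18501 (iv D31574)))
theorem Q21221 : ∀ i, i < 21221 → P i := stepQ 21220 Q21220 (allL N21220 (tt N18835 F70471) (tt N18506 (iv D31575)) (tt N21438 (iv F71224)) (tt N20943 F70472) (tt N18507 F70473) (tt N21155 F70474) (tt N21436 F71217))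
theorem Q21222 : ∀ i, i < 21222 → P i := stepQ 21221 Q21221 (allL N21221 (tt N21222 (iv F70481)) (tt N18689 F70475) (tt N18507 (iv D31576)) (tt N21165 F70477) (tt N21438 (iv F71225)) (tt N21157 F70476) (tt N20907 (iv F70480)))
theorem Q21223 : ∀ i, i < 21223 → P i := stepQ 21222 Q21222 (allL N21222 (tt N21221 F70481) (tt N21320 (iv F70809)) (tt N20907 F70482) (tt N18516 F70483) (tt N21436 (iv F71216)) (tt N22455 (iv F75108)) (tt N18507 (iv D31577)))
theorem Q21224 : ∀ i, i < 21224 → P i := stepQ 21223 Q21223 (allL N21223 (tt N21322 (iv F70818)) (tt N18508 (iv D31578)) (tt N21354 (iv F70952)) (tt N18517 F70484) (tt N20248 F70485) (tt N20891 F70486) (tt N21320 F70813))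
theorem Q21225 : ∀ i, i < 21225 → P i := stepQ 21224 Q21224 (allL N21224 (tt N22547 D32904) (tt N18511 (iv D31579)) (tt N21562 (iv F71637)) (tt N18512 F70487) (tt N20943 F70488) (tt N21159 F70489) (tt N22548 D32905))
theorem Q21226 : ∀ i, i < 21226 → P i := stepQ 21225 Q21225 (allL N21225 (tt N18512 (iv D31580)) (tt N21776 (iv F72362)) (tt N19562 F70490) (tt N22547 (iv F75530)) (tt N18515 F70491) (tt N21160 F70492) (tt N22522 (iv F75423)))
theorem Q21227 : ∀ i, i < 21227 → P i := stepQ 21226 Q21226 (allL N21226 (tt N22522 (iv F75418)) (tt N22540 (iv F75500)) (tt N19351 F70493) (tt N22548 (iv F75536)) (tt N18516 F70494) (tt N19359 F70495) (tt N18512 (iv D31581)))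
theorem Q21228 : ∀ i, i < 21228 → P i := stepQ 21227 Q21227 (allL N21227 (tt N22549 D32906) (tt N18513 (iv D31582)) (tt N21022 F70496) (tt N22339 (iv F74642)) (tt N18517 F70497) (tt N22341 (iv F74650)) (tt N22540 (iv F75503)))
theorem Q21229 : ∀ i, i < 21229 → P i := stepQ 21228 Q21228 (allL N21228 (tt N21318 (iv F70802)) (tt N18516 (iv D31583)) (tt N22538 (iv F75492)) (tt N21320 (iv F70810)) (tt N22540 (iv F75501)) (tt N21061 F70498) (tt N18517 F70499))
theorem Q21230 : ∀ i, i < 21230 → P i := stepQ 21229 Q21229 (allL N21229 (tt N18517 (iv D31584)) (tt N22550 D32907) (tt N22551 D32908) (tt N21322 (iv F70819)) (tt N22549 (iv F75542)) (tt N22475 (iv F75206)) (tt N21318 F70804))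
theorem Q21231 : ∀ i, i < 21231 → P i := stepQ 21230 Q21230 (allL N21230 (tt N22551 (iv F75548)) (tt N18521 F70500) (tt N18517 (iv D31585)) (tt N22552 D32909) (tt N21022 F70501) (tt N22553 D32910) (tt N22538 (iv F75495)))
theorem Q21232 : ∀ i, i < 21232 → P i := stepQ 21231 Q21231 (allL N21231 (tt N22475 (iv F75203)) (tt N20888 F70502) (tt N22553 (iv F75558)) (tt N20891 F70503) (tt N22341 (iv F74649)) (tt N18517 (iv D31586)) (tt N22220 (iv F74150)))
theorem Q21233 : ∀ i, i < 21233 → P i := stepQ 21232 Q21232 (allL N21232 (tt N18518 (iv D31587)) (tt N21044 (iv F70506)) (tt N21045 F70504) (tt N21530 F71521) (tt N21050 F70505) (tt N21532 (iv F71526)) (tt N22448 (iv F75082)))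
theorem Q21234 : ∀ i, i < 21234 → P i := stepQ 21233 Q21233 (allL N21233 (tt N21020 F70507) (tt N22552 (iv F75554)) (tt N22101 F73696) (tt N18521 (iv D31588)) (tt N22120 (iv F73751)) (tt N22554 D32911) (tt N19582 F70508))
theorem Q21235 : ∀ i, i < 21235 → P i := stepQ 21234 Q21234 (allL N21234 (tt N21021 F70509) (tt N22555 D32912) (tt N18522 F70510) (tt N22554 (iv F75564)) (tt N21023 F70511) (tt N18521 (iv D31589)) (tt N21907 (iv F72907)))
theorem Q21236 : ∀ i, i < 21236 → P i := stepQ 21235 Q21235 (allL N21235 (tt N20796 F70512) (tt N18532 (iv D31590)) (tt N20792 F70513) (tt N19592 F70514) (tt N18534 F70515) (tt N20795 F70516) (tt N19591 F70517))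
theorem Q21237 : ∀ i, i < 21237 → P i := stepQ 21236 Q21236 (allL N21236 (tt N20792 F70518) (tt N18536 (iv D31591)) (tt N20796 F70519) (tt N19377 F70520) (tt N18538 F70521) (tt N19376 F70522) (tt N20791 F70523))
theorem Q21238 : ∀ i, i < 21238 → P i := stepQ 21237 Q21237 (allL N21237 (tt N21878 (iv F72786)) (tt N19679 F70525) (tt N18544 (iv D31592)) (tt N19676 F70524) (tt N21302 (iv F70743)) (tt N21301 (iv F70737)) (tt N22255 (iv F74303)))
theorem Q21239 : ∀ i, i < 21239 → P i := stepQ 21238 Q21238 (allL N21238 (tt N21780 F72383) (tt N19773 F70527) (tt N18552 (iv D31593)) (tt N19770 F70526) (tt N21313 (iv F70784)) (tt N22236 (iv F74219)) (tt N21312 (iv F70779)))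
theorem Q21240 : ∀ i, i < 21240 → P i := stepQ 21239 Q21239 (allL N21239 (tt N20192 F70528) (tt N20418 F70529) (tt N19796 (iv F70532)) (tt N18556 (iv D31594)) (tt N22065 (iv F73566)) (tt N19785 F70530) (tt N18561 F70531))
theorem Q21241 : ∀ i, i < 21241 → P i := stepQ 21240 Q21240 (allL N21240 (tt N22122 (iv F73758)) (tt N18559 F70533) (tt N19902 F70534) (tt N20670 F70535) (tt N18558 (iv D31595)) (tt N19906 F70536) (tt N19901 F70537))
theorem Q21242 : ∀ i, i < 21242 → P i := stepQ 21241 Q21241 (allL N21241 (tt N22091 (iv F73659)) (tt N20276 F70538) (tt N22462 (iv F75142)) (tt N18560 (iv D31596)) (tt N20265 F70539) (tt N22263 (iv F74344)) (tt N18566 F70540))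
theorem Q21243 : ∀ i, i < 21243 → P i := stepQ 21242 Q21242 (allL N21242 (tt N21243 (iv F70543)) (tt N22556 D32913) (tt N18561 (iv D31597)) (tt N20184 F70542) (tt N22096 (iv F73674)) (tt N21995 (iv F73263)) (tt N19796 F70541))
theorem Q21244 : ∀ i, i < 21244 → P i := stepQ 21243 Q21243 (allL N21243 (tt N21242 F70543) (tt N21696 (iv F72062)) (tt N20163 F70544) (tt N18562 (iv D31598)) (tt N22009 (iv F73312)) (tt N19797 F70545) (tt N21994 (iv F73258)))
theorem Q21245 : ∀ i, i < 21245 → P i := stepQ 21244 Q21244 (allL N21244 (tt N18566 F70546) (tt N20013 F70547) (tt N22557 D32914) (tt N18563 (iv D31599)) (tt N20422 F70548) (tt N20421 F70549) (tt N22091 (iv F73662)))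
theorem Q21246 : ∀ i, i < 21246 → P i := stepQ 21245 Q21245 (allL N21245 (tt N20268 F70550) (tt N18566 F70551) (tt N19789 F70554) (tt N18564 (iv D31600)) (tt N19787 F70552) (tt N19786 F70553) (tt N21796 (iv F72450)))
theorem Q21247 : ∀ i, i < 21247 → P i := stepQ 21246 Q21246 (allL N21246 (tt N20422 F70555) (tt N19787 F70556) (tt N21292 (iv F70704)) (tt N18565 (iv D31601)) (tt N18566 F70557) (tt N20418 F70558) (tt N20265 F70559))
theorem Q21248 : ∀ i, i < 21248 → P i := stepQ 21247 Q21247 (allL N21247 (tt N22557 (iv F75572)) (tt N21291 F70703) (tt N18566 (iv D31602)) (tt N19583 F70560) (tt N21292 (iv F70705)) (tt N19582 (iv F70561)) (tt N22462 (iv F75145)))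
theorem Q21249 : ∀ i, i < 21249 → P i := stepQ 21248 Q21248 (allL N21248 (tt N20421 F70562) (tt N22065 (iv F73563)) (tt N19582 F70563) (tt N18567 F70564) (tt N20418 F70565) (tt N18566 (iv D31603)) (tt N22101 (iv F73695)))
theorem Q21250 : ∀ i, i < 21250 → P i := stepQ 21249 Q21249 (allL N21249 (tt N20279 F70566) (tt N18579 F70567) (tt N19695 F70570) (tt N18569 (iv D31604)) (tt N19694 F70568) (tt N21890 (iv F72835)) (tt N19692 F70569))
theorem Q21251 : ∀ i, i < 21251 → P i := stepQ 21250 Q21250 (allL N21250 (tt N20176 F70571) (tt N20371 F70572) (tt N19703 (iv F70575)) (tt N18570 (iv D31605)) (tt N22049 (iv F73484)) (tt N18575 F70573) (tt N19691 F70574))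
theorem Q21252 : ∀ i, i < 21252 → P i := stepQ 21251 Q21251 (allL N21251 (tt N22126 (iv F73777)) (tt N18573 F70576) (tt N19915 F70577) (tt N20645 F70578) (tt N18572 (iv D31606)) (tt N19914 F70579) (tt N19919 F70580))
theorem Q21253 : ∀ i, i < 21253 → P i := stepQ 21252 Q21252 (allL N21252 (tt N22078 (iv F73617)) (tt N20265 F70581) (tt N22474 (iv F75199)) (tt N18574 (iv D31607)) (tt N20276 F70582) (tt N18579 F70583) (tt N22249 (iv F74279)))
theorem Q21254 : ∀ i, i < 21254 → P i := stepQ 21253 Q21253 (allL N21253 (tt N21254 (iv F70586)) (tt N22558 D32915) (tt N18575 (iv D31608)) (tt N20167 F70585) (tt N22113 (iv F73737)) (tt N19703 F70584) (tt N21956 (iv F73111)))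
theorem Q21255 : ∀ i, i < 21255 → P i := stepQ 21254 Q21254 (allL N21254 (tt N21253 F70586) (tt N21571 (iv F71658)) (tt N20162 F70587) (tt N18576 (iv D31609)) (tt N21971 (iv F73166)) (tt N21957 (iv F73117)) (tt N19702 F70588))
theorem Q21256 : ∀ i, i < 21256 → P i := stepQ 21255 Q21255 (allL N21255 (tt N18579 F70589) (tt N19975 F70590) (tt N22559 D32916) (tt N18577 (iv D31610)) (tt N20376 F70591) (tt N22078 (iv F73620)) (tt N20374 F70592))
theorem Q21257 : ∀ i, i < 21257 → P i := stepQ 21256 Q21256 (allL N21256 (tt N20376 F70593) (tt N19694 F70594) (tt N21287 (iv F70692)) (tt N18578 (iv D31611)) (tt N18579 F70595) (tt N20276 F70596) (tt N20371 F70597))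
theorem Q21258 : ∀ i, i < 21258 → P i := stepQ 21257 Q21257 (allL N21257 (tt N22559 (iv F75581)) (tt N21286 F70691) (tt N18579 (iv D31612)) (tt N19368 F70598) (tt N21287 (iv F70693)) (tt N22474 (iv F75202)) (tt N19367 (iv F70599)))
theorem Q21259 : ∀ i, i < 21259 → P i := stepQ 21258 Q21258 (allL N21258 (tt N20374 F70600) (tt N22049 (iv F73481)) (tt N19367 F70601) (tt N18580 F70602) (tt N20371 F70603) (tt N22104 (iv F73707)) (tt N18579 (iv D31613)))
theorem Q21260 : ∀ i, i < 21260 → P i := stepQ 21259 Q21259 (allL N21259 (tt N19534 F70604) (tt N22298 (iv F74493)) (tt N19494 F70605) (tt N20668 F70606) (tt N18589 F70607) (tt N19533 F70608) (tt N18588 (iv D31614)))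
theorem Q21261 : ∀ i, i < 21261 → P i := stepQ 21260 Q21260 (allL N21260 (tt N19307 F70609) (tt N22279 (iv F74409)) (tt N19261 F70610) (tt N20643 F70611) (tt N18598 F70612) (tt N18597 (iv D31615)) (tt N19305 F70613))
theorem Q21262 : ∀ i, i < 21262 → P i := stepQ 21261 Q21261 (allL N21261 (tt N20744 F70614) (tt N18607 F70615) (tt N19988 F70616) (tt N22071 (iv F73596)) (tt N18604 (iv D31616)) (tt N20744 F70617) (tt N20607 F70618))
theorem Q21263 : ∀ i, i < 21263 → P i := stepQ 21262 Q21262 (allL N21262 (tt N19901 F70619) (tt N22071 (iv F73594)) (tt N19900 F70620) (tt N18607 F70621) (tt N18606 (iv D31617)) (tt N20596 F70622) (tt N22122 (iv F73763)))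
theorem Q21264 : ∀ i, i < 21264 → P i := stepQ 21263 Q21263 (allL N21263 (tt N20711 F70623) (tt N18611 F70624) (tt N19928 F70625) (tt N22084 (iv F73638)) (tt N18609 (iv D31618)) (tt N20610 F70626) (tt N20711 F70627))
theorem Q21265 : ∀ i, i < 21265 → P i := stepQ 21264 Q21264 (allL N21264 (tt N19914 F70628) (tt N22084 (iv F73636)) (tt N19913 F70629) (tt N18611 F70630) (tt N18610 (iv D31619)) (tt N22126 (iv F73782)) (tt N20598 F70631))
theorem Q21266 : ∀ i, i < 21266 → P i := stepQ 21265 Q21265 (allL N21265 (tt N22362 (iv F74736)) (tt N18621 (iv D31620)) (tt N21841 (iv F72631)) (tt N19680 F70632) (tt N18622 F70633) (tt N19679 (iv F70634)) (tt N21887 (iv F72823)))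
theorem Q21267 : ∀ i, i < 21267 → P i := stepQ 21266 Q21266 (allL N21266 (tt N18622 (iv D31621)) (tt N22461 (iv F75136)) (tt N22560 D32917) (tt N18623 F70635) (tt N22362 (iv F74737)) (tt N21969 (iv F73163)) (tt N22170 (iv F73950)))
theorem Q21268 : ∀ i, i < 21268 → P i := stepQ 21267 Q21267 (allL N21267 (tt N22560 (iv F75587)) (tt N21838 F72626) (tt N18622 (iv D31622)) (tt N22386 (iv F74842)) (tt N21841 (iv F72633)) (tt N22561 D32918) (tt N22171 (iv F73952)))
theorem Q21269 : ∀ i, i < 21269 → P i := stepQ 21268 Q21268 (allL N21268 (tt N21969 (iv F73161)) (tt N21302 (iv F70740)) (tt N22561 (iv F75593)) (tt N18625 F70636) (tt N19679 F70637) (tt N18622 (iv D31623)) (tt N22562 D32919))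
theorem Q21270 : ∀ i, i < 21270 → P i := stepQ 21269 Q21269 (allL N21269 (tt N20848 F70638) (tt N18626 F70639) (tt N18785 F70641) (tt N18624 (iv D31624)) (tt N21337 (iv F70885)) (tt N21962 (iv F73131)) (tt N18787 F70640))
theorem Q21271 : ∀ i, i < 21271 → P i := stepQ 21270 Q21270 (allL N21270 (tt N20225 F70642) (tt N20866 F70643) (tt N21963 (iv F73136)) (tt N22562 (iv F75597)) (tt N19678 F70644) (tt N20224 F70645) (tt N18625 (iv D31625)))
theorem Q21272 : ∀ i, i < 21272 → P i := stepQ 21271 Q21271 (allL N21271 (tt N18627 (iv D31626)) (tt N21048 (iv F70648)) (tt N21713 (iv F72116)) (tt N20989 F70646) (tt N21038 F70647) (tt N20256 F70649) (tt N21551 (iv F71595)))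
theorem Q21273 : ∀ i, i < 21273 → P i := stepQ 21272 Q21272 (allL N21272 (tt N20256 F70650) (tt N19200 F70651) (tt N21698 (iv F72066)) (tt N20988 F70652) (tt N21572 (iv F71661)) (tt N18627 (iv D31627)) (tt N19224 (iv F70653)))
theorem Q21274 : ∀ i, i < 21274 → P i := stepQ 21273 Q21273 (allL N21273 (tt N21273 F70654) (tt N18630 (iv D31628)) (tt N18951 F70655) (tt N21528 (iv F71511)) (tt N21403 (iv F71115)) (tt N21527 F71507) (tt N18951 F70656))
theorem Q21275 : ∀ i, i < 21275 → P i := stepQ 21274 Q21274 (allL N21274 (tt N22355 (iv F74700)) (tt N18636 (iv D31629)) (tt N21918 (iv F72952)) (tt N19775 F70657) (tt N18637 F70658) (tt N21793 (iv F72438)) (tt N19773 (iv F70659)))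
theorem Q21276 : ∀ i, i < 21276 → P i := stepQ 21275 Q21275 (allL N21275 (tt N18637 (iv D31630)) (tt N22448 (iv F75078)) (tt N22563 D32920) (tt N18638 F70660) (tt N22355 (iv F74701)) (tt N22177 (iv F73969)) (tt N22007 (iv F73309)))
theorem Q21277 : ∀ i, i < 21277 → P i := stepQ 21276 Q21276 (allL N21276 (tt N22563 (iv F75600)) (tt N21915 F72945) (tt N18637 (iv D31631)) (tt N22389 (iv F74852)) (tt N21918 (iv F72954)) (tt N22178 (iv F73971)) (tt N22564 D32921))
theorem Q21278 : ∀ i, i < 21278 → P i := stepQ 21277 Q21277 (allL N21277 (tt N22007 (iv F73307)) (tt N21313 (iv F70781)) (tt N22564 (iv F75606)) (tt N18640 F70661) (tt N19773 F70662) (tt N22565 D32922) (tt N18637 (iv D31632)))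
theorem Q21279 : ∀ i, i < 21279 → P i := stepQ 21278 Q21278 (allL N21278 (tt N20855 F70663) (tt N18641 F70664) (tt N18836 F70666) (tt N18639 (iv D31633)) (tt N21345 (iv F70919)) (tt N18838 F70665) (tt N22000 (iv F73277)))
theorem Q21280 : ∀ i, i < 21280 → P i := stepQ 21279 Q21279 (allL N21279 (tt N20232 F70667) (tt N20889 F70668) (tt N22001 (iv F73282)) (tt N22565 (iv F75610)) (tt N19772 F70669) (tt N18640 (iv D31634)) (tt N20231 F70670))
theorem Q21281 : ∀ i, i < 21281 → P i := stepQ 21280 Q21280 (allL N21280 (tt N18642 (iv D31635)) (tt N21083 (iv F70673)) (tt N21595 (iv F71723)) (tt N21015 F70671) (tt N21075 F70672) (tt N21657 (iv F71915)) (tt N20244 F70674))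
theorem Q21282 : ∀ i, i < 21282 → P i := stepQ 21281 Q21281 (allL N21281 (tt N20244 F70675) (tt N19063 F70676) (tt N21572 (iv F71660)) (tt N21014 F70677) (tt N21698 (iv F72067)) (tt N19090 (iv F70678)) (tt N18642 (iv D31636)))
theorem Q21283 : ∀ i, i < 21283 → P i := stepQ 21282 Q21282 (allL N21282 (tt N21282 F70679) (tt N18645 (iv D31637)) (tt N19091 F70680) (tt N21659 (iv F71922)) (tt N21358 (iv F70970)) (tt N19091 F70681) (tt N21658 F71918))
theorem Q21284 : ∀ i, i < 21284 → P i := stepQ 21283 Q21283 (allL N21283 (tt N22469 (iv F75172)) (tt N18649 F70682) (tt N21195 F70683) (tt N22433 (iv F75016)) (tt N18648 (iv D31638)) (tt N22431 (iv F75010)) (tt N21197 F70684))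
theorem Q21285 : ∀ i, i < 21285 → P i := stepQ 21284 Q21284 (allL N21284 (tt N21986 (iv F73232)) (tt N22203 F74075) (tt N22412 (iv F74939)) (tt N21402 (iv F71109)) (tt N22431 (iv F75009)) (tt N18648 (iv D31639)) (tt N21215 F70685))
theorem Q21286 : ∀ i, i < 21286 → P i := stepQ 21285 Q21285 (allL N21285 (tt N22040 (iv F73437)) (tt N22433 (iv F75015)) (tt N21914 (iv F72937)) (tt N18649 (iv D31640)) (tt N18815 F70686) (tt N21824 F72568) (tt N18813 F70687))
theorem Q21287 : ∀ i, i < 21287 → P i := stepQ 21286 Q21286 (allL N21286 (tt N19626 F70688) (tt N21257 (iv F70691)) (tt N18651 F70689) (tt N21824 (iv F72566)) (tt N18650 F70690) (tt N18649 (iv D31641)) (tt N21966 (iv F73150)))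
theorem Q21288 : ∀ i, i < 21288 → P i := stepQ 21287 Q21287 (allL N21287 (tt N22248 (iv F74270)) (tt N18650 (iv D31642)) (tt N21256 F70692) (tt N21740 (iv F72214)) (tt N21257 F70693) (tt N22203 (iv F74072)) (tt N21823 (iv F72565)))
theorem Q21289 : ∀ i, i < 21289 → P i := stepQ 21288 Q21288 (allL N21288 (tt N22481 (iv F75229)) (tt N18655 F70694) (tt N21215 F70695) (tt N22417 (iv F74962)) (tt N18654 (iv D31643)) (tt N21217 F70696) (tt N22412 (iv F74942)))
theorem Q21290 : ∀ i, i < 21290 → P i := stepQ 21289 Q21289 (allL N21289 (tt N21948 (iv F73087)) (tt N22198 F74048) (tt N22431 (iv F75007)) (tt N21357 (iv F70964)) (tt N22412 (iv F74941)) (tt N21195 F70697) (tt N18654 (iv D31644)))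
theorem Q21291 : ∀ i, i < 21291 → P i := stepQ 21290 Q21290 (allL N21290 (tt N22025 (iv F73374)) (tt N22417 (iv F74961)) (tt N21835 (iv F72613)) (tt N18655 (iv D31645)) (tt N18763 F70698) (tt N18762 F70699) (tt N21909 F72914))
theorem Q21292 : ∀ i, i < 21292 → P i := stepQ 21291 Q21291 (allL N21291 (tt N19425 F70700) (tt N21247 (iv F70703)) (tt N18657 F70701) (tt N21909 (iv F72911)) (tt N18656 F70702) (tt N22004 (iv F73295)) (tt N18655 (iv D31646)))
theorem Q21293 : ∀ i, i < 21293 → P i := stepQ 21292 Q21292 (allL N21292 (tt N22262 (iv F74335)) (tt N18656 (iv D31647)) (tt N21246 F70704) (tt N21628 (iv F71813)) (tt N21247 F70705) (tt N21908 (iv F72910)) (tt N22198 (iv F74046)))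
theorem Q21294 : ∀ i, i < 21294 → P i := stepQ 21293 Q21293 (allL N21293 (tt N18659 F70706) (tt N18715 F70707) (tt N18658 (iv D31648)) (tt N22566 D32923) (tt N21293 F70708) (tt N21293 F70709) (tt N21333 (iv F70873)))
theorem Q21295 : ∀ i, i < 21295 → P i := stepQ 21294 Q21294 (allL N21294 (tt N22566 (iv F75613)) (tt N21294 F70710) (tt N19066 F70712) (tt N18659 (iv D31649)) (tt N22567 D32924) (tt N21294 F70711) (tt N21334 (iv F70874)))
theorem Q21296 : ∀ i, i < 21296 → P i := stepQ 21295 Q21295 (allL N21295 (tt N18661 F70713) (tt N18713 F70714) (tt N18660 (iv D31650)) (tt N22568 D32925) (tt N21295 F70715) (tt N21335 (iv F70878)) (tt N21295 F70716))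
theorem Q21297 : ∀ i, i < 21297 → P i := stepQ 21296 Q21296 (allL N21296 (tt N22568 (iv F75621)) (tt N21296 F70717) (tt N19203 F70719) (tt N18661 (iv D31651)) (tt N22569 D32926) (tt N21336 (iv F70880)) (tt N21296 F70718))
theorem Q21298 : ∀ i, i < 21298 → P i := stepQ 21297 Q21297 (allL N21297 (tt N19414 F70720) (tt N19426 F70721) (tt N18663 (iv D31652)) (tt N21629 (iv F71817)) (tt N19128 F70722) (tt N21297 F70723) (tt N19444 F70724))
theorem Q21299 : ∀ i, i < 21299 → P i := stepQ 21298 Q21298 (allL N21298 (tt N19619 F70725) (tt N19627 F70726) (tt N18665 (iv D31653)) (tt N21741 (iv F72218)) (tt N18989 F70727) (tt N19646 F70728) (tt N21298 F70729))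
theorem Q21300 : ∀ i, i < 21300 → P i := stepQ 21299 Q21299 (allL N21299 (tt N21662 (iv F71937)) (tt N18722 F70730) (tt N21125 F70731) (tt N21343 (iv F70909)) (tt N22384 (iv F74834)) (tt N18667 (iv D31654)) (tt N19111 (iv F70732)))
theorem Q21301 : ∀ i, i < 21301 → P i := stepQ 21300 Q21300 (allL N21300 (tt N21531 F71524) (tt N18734 F70733) (tt N21178 F70734) (tt N21351 (iv F70943)) (tt N22385 (iv F74839)) (tt N18972 F70735) (tt N18672 (iv D31655)))
theorem Q21302 : ∀ i, i < 21302 → P i := stepQ 21301 Q21301 (allL N21301 (tt N22013 (iv F73328)) (tt N18676 (iv D31656)) (tt N20452 (iv F70739)) (tt N21945 (iv F73074)) (tt N18677 F70736) (tt N21237 F70737) (tt N20676 F70738))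
theorem Q21303 : ∀ i, i < 21303 → P i := stepQ 21302 Q21302 (allL N21302 (tt N22014 (iv F73332)) (tt N21268 F70740) (tt N21175 F70741) (tt N18679 F70742) (tt N21237 F70743) (tt N18677 (iv D31657)) (tt N21174 F70744))
theorem Q21304 : ∀ i, i < 21304 → P i := stepQ 21303 Q21303 (allL N21303 (tt N18679 F70745) (tt N20833 F70746) (tt N20145 F70747) (tt N22014 (iv F73335)) (tt N20321 F70748) (tt N18678 (iv D31658)) (tt N20144 F70749))
theorem Q21305 : ∀ i, i < 21305 → P i := stepQ 21304 Q21304 (allL N21304 (tt N20335 F70750) (tt N20350 F70751) (tt N22060 (iv F73538)) (tt N19970 F70752) (tt N21055 F70753) (tt N18680 (iv D31659)) (tt N19969 F70754))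
theorem Q21306 : ∀ i, i < 21306 → P i := stepQ 21305 Q21305 (allL N21305 (tt N18681 (iv D31660)) (tt N22570 D32927) (tt N19503 F70755) (tt N21880 (iv F72794)) (tt N18682 F70756) (tt N21384 (iv F71054)) (tt N19502 F70757))
theorem Q21307 : ∀ i, i < 21307 → P i := stepQ 21306 Q21306 (allL N21306 (tt N21384 (iv F71050)) (tt N19952 F70758) (tt N21328 (iv F70849)) (tt N19667 F70759) (tt N18684 F70760) (tt N18681 (iv D31661)) (tt N21382 F71044))
theorem Q21308 : ∀ i, i < 21308 → P i := stepQ 21307 Q21307 (allL N21307 (tt N21209 F70761) (tt N18682 (iv D31662)) (tt N22571 D32928) (tt N18685 F70762) (tt N22570 (iv F75631)) (tt N21210 (iv F70763)) (tt N22235 (iv F74216)))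
theorem Q21309 : ∀ i, i < 21309 → P i := stepQ 21308 Q21308 (allL N21308 (tt N21387 (iv F71059)) (tt N20012 (iv F70767)) (tt N18684 F70764) (tt N20014 F70765) (tt N21328 (iv F70846)) (tt N18683 (iv D31663)) (tt N20462 F70766))
theorem Q21310 : ∀ i, i < 21310 → P i := stepQ 21309 Q21309 (allL N21309 (tt N18685 (iv D31664)) (tt N21202 F70768) (tt N20844 (iv F70772)) (tt N21209 F70769) (tt N21321 (iv F70816)) (tt N21203 F70771) (tt N20979 F70770))
theorem Q21311 : ∀ i, i < 21311 → P i := stepQ 21310 Q21310 (allL N21310 (tt N20844 F70773) (tt N21436 (iv F71215)) (tt N18685 (iv D31665)) (tt N22340 (iv F74647)) (tt N21320 (iv F70811)) (tt N22457 F75118) (tt N20248 F70774))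
theorem Q21312 : ∀ i, i < 21312 → P i := stepQ 21311 Q21311 (allL N21311 (tt N21203 F70775) (tt N21395 (iv F71085)) (tt N22457 (iv F75114)) (tt N21210 F70776) (tt N22079 (iv F73626)) (tt N18685 (iv D31666)) (tt N22396 (iv F74882)))
theorem Q21313 : ∀ i, i < 21313 → P i := stepQ 21312 Q21312 (allL N21312 (tt N21975 (iv F73180)) (tt N18687 (iv D31667)) (tt N20510 (iv F70780)) (tt N21983 (iv F73219)) (tt N18688 F70777) (tt N20713 F70778) (tt N21238 F70779))
theorem Q21314 : ∀ i, i < 21314 → P i := stepQ 21313 Q21313 (allL N21313 (tt N21976 (iv F73184)) (tt N21277 F70781) (tt N21122 F70782) (tt N18690 F70783) (tt N21238 F70784) (tt N21121 F70785) (tt N18688 (iv D31668)))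
theorem Q21315 : ∀ i, i < 21315 → P i := stepQ 21314 Q21314 (allL N21314 (tt N18690 F70786) (tt N20836 F70787) (tt N20141 F70788) (tt N21976 (iv F73187)) (tt N20301 F70789) (tt N20140 F70790) (tt N18689 (iv D31669)))
theorem Q21316 : ∀ i, i < 21316 → P i := stepQ 21315 Q21315 (allL N21315 (tt N20400 F70791) (tt N20409 F70792) (tt N22057 (iv F73521)) (tt N19951 F70793) (tt N21090 F70794) (tt N19950 F70795) (tt N18691 (iv D31670)))
theorem Q21317 : ∀ i, i < 21317 → P i := stepQ 21316 Q21316 (allL N21316 (tt N18692 (iv D31671)) (tt N22571 (iv F75635)) (tt N19270 F70796) (tt N21782 (iv F72391)) (tt N18693 F70797) (tt N19269 F70798) (tt N21428 (iv F71196)))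
theorem Q21318 : ∀ i, i < 21318 → P i := stepQ 21317 Q21317 (allL N21317 (tt N21428 (iv F71192)) (tt N20008 F70799) (tt N21323 (iv F70824)) (tt N19761 F70800) (tt N18695 F70801) (tt N21426 (iv F71186)) (tt N18692 (iv D31672)))
theorem Q21319 : ∀ i, i < 21319 → P i := stepQ 21318 Q21318 (allL N21318 (tt N21228 F70802) (tt N18693 (iv D31673)) (tt N22570 (iv F75630)) (tt N18696 F70803) (tt N22571 (iv F75636)) (tt N22220 (iv F74149)) (tt N21229 (iv F70804)))
theorem Q21320 : ∀ i, i < 21320 → P i := stepQ 21319 Q21319 (allL N21319 (tt N21431 (iv F71201)) (tt N19976 (iv F70808)) (tt N18695 F70805) (tt N19977 F70806) (tt N21323 (iv F70821)) (tt N20521 F70807) (tt N18694 (iv D31674)))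
theorem Q21321 : ∀ i, i < 21321 → P i := stepQ 21320 Q21320 (allL N21320 (tt N18696 (iv D31675)) (tt N21222 F70809) (tt N20840 (iv F70814)) (tt N21228 F70810) (tt N21310 F70811) (tt N21005 F70812) (tt N21223 (iv F70813)))
theorem Q21322 : ∀ i, i < 21322 → P i := stepQ 21321 Q21321 (allL N21321 (tt N20840 F70815) (tt N21392 (iv F71073)) (tt N18696 (iv D31676)) (tt N22326 (iv F74601)) (tt N21309 F70816) (tt N20236 F70817) (tt N22444 (iv F75060)))
theorem Q21323 : ∀ i, i < 21323 → P i := stepQ 21322 Q21322 (allL N21322 (tt N21223 F70818) (tt N21439 (iv F71227)) (tt N22444 (iv F75056)) (tt N21229 F70819) (tt N22092 (iv F73668)) (tt N22402 (iv F74909)) (tt N18696 (iv D31677)))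
theorem Q21324 : ∀ i, i < 21324 → P i := stepQ 21323 Q21323 (allL N21323 (tt N20468 F70820) (tt N22062 (iv F73546)) (tt N21317 F70824) (tt N18699 (iv D31678)) (tt N21319 F70821) (tt N19263 F70822) (tt N20009 F70823))
theorem Q21325 : ∀ i, i < 21325 → P i := stepQ 21324 Q21324 (allL N21324 (tt N19761 F70825) (tt N20382 F70826) (tt N18700 (iv D31679)) (tt N21428 (iv F71194)) (tt N19379 F70827) (tt N19266 F70828) (tt N21782 (iv F72393)))
theorem Q21326 : ∀ i, i < 21326 → P i := stepQ 21325 Q21325 (allL N21325 (tt N18701 (iv D31680)) (tt N20510 F70829) (tt N19473 F70830) (tt N18702 F70831) (tt N19340 F70832) (tt N19472 F70833) (tt N19338 F70834))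
theorem Q21327 : ∀ i, i < 21327 → P i := stepQ 21326 Q21326 (allL N21326 (tt N20509 F70835) (tt N18704 F70836) (tt N19324 F70839) (tt N18703 (iv D31681)) (tt N19323 F70837) (tt N21789 (iv F72418)) (tt N20544 F70838))
theorem Q21328 : ∀ i, i < 21328 → P i := stepQ 21327 Q21327 (allL N21327 (tt N18843 F70840) (tt N19323 F70841) (tt N19329 F70842) (tt N20477 F70843) (tt N18704 (iv D31682)) (tt N22085 (iv F73643)) (tt N21327 F70844))
theorem Q21329 : ∀ i, i < 21329 → P i := stepQ 21328 Q21328 (allL N21328 (tt N20525 F70845) (tt N22055 (iv F73510)) (tt N21306 F70849) (tt N18706 (iv D31683)) (tt N21308 F70846) (tt N19962 F70847) (tt N19496 F70848))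
theorem Q21330 : ∀ i, i < 21330 → P i := stepQ 21329 Q21329 (allL N21329 (tt N19667 F70850) (tt N20389 F70851) (tt N18707 (iv D31684)) (tt N21384 (iv F71052)) (tt N19594 F70852) (tt N21880 (iv F72796)) (tt N19498 F70853))
theorem Q21331 : ∀ i, i < 21331 → P i := stepQ 21330 Q21330 (allL N21330 (tt N18708 (iv D31685)) (tt N20452 F70854) (tt N19239 F70855) (tt N18709 F70856) (tt N19560 F70857) (tt N19337 F70858) (tt N19238 F70859))
theorem Q21332 : ∀ i, i < 21332 → P i := stepQ 21331 Q21331 (allL N21331 (tt N20451 F70860) (tt N18711 F70861) (tt N19550 F70864) (tt N18710 (iv D31686)) (tt N19549 F70862) (tt N20570 F70863) (tt N21765 (iv F72311)))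
theorem Q21333 : ∀ i, i < 21333 → P i := stepQ 21332 Q21332 (allL N21332 (tt N18898 F70865) (tt N19549 F70866) (tt N19555 F70867) (tt N20535 F70868) (tt N18711 (iv D31687)) (tt N21332 F70869) (tt N22072 (iv F73602)))
theorem Q21334 : ∀ i, i < 21334 → P i := stepQ 21333 Q21333 (allL N21333 (tt N18713 F70870) (tt N22572 D32929) (tt N18712 (iv D31688)) (tt N22573 D32930) (tt N21333 F70871) (tt N18713 F70872) (tt N21293 F70873))
theorem Q21335 : ∀ i, i < 21335 → P i := stepQ 21334 Q21334 (allL N21334 (tt N22573 (iv F75642)) (tt N22568 (iv F75622)) (tt N19453 F70875) (tt N18713 (iv D31689)) (tt N22574 D32931) (tt N22573 (iv F75645)) (tt N21294 F70874))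
theorem Q21336 : ∀ i, i < 21336 → P i := stepQ 21335 Q21335 (allL N21335 (tt N18715 F70876) (tt N22575 D32932) (tt N18714 (iv D31690)) (tt N22576 D32933) (tt N21335 F70877) (tt N21295 F70878) (tt N18715 F70879))
theorem Q21337 : ∀ i, i < 21337 → P i := stepQ 21336 Q21336 (allL N21336 (tt N22576 (iv F75656)) (tt N22566 (iv F75614)) (tt N19653 F70881) (tt N18715 (iv D31691)) (tt N22577 D32934) (tt N21296 F70880) (tt N22576 (iv F75660)))
theorem Q21338 : ∀ i, i < 21338 → P i := stepQ 21337 Q21337 (allL N21337 (tt N18718 (iv D31692)) (tt N18808 F70882) (tt N18720 F70883) (tt N19708 F70884) (tt N21269 F70885) (tt N19707 F70886) (tt N19034 (iv F70887)))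
theorem Q21339 : ∀ i, i < 21339 → P i := stepQ 21338 Q21338 (allL N21338 (tt N19034 F70888) (tt N20215 F70889) (tt N18723 F70890) (tt N19727 F70891) (tt N21396 (iv F71089)) (tt N21592 (iv F71710)) (tt N18718 (iv D31693)))
theorem Q21340 : ∀ i, i < 21340 → P i := stepQ 21339 Q21339 (allL N21339 (tt N20389 F70892) (tt N18724 F70893) (tt N20388 F70894) (tt N22387 (iv F74847)) (tt N18721 (iv D31694)) (tt N22073 (iv F73606)) (tt N20910 (iv F70895)))
theorem Q21341 : ∀ i, i < 21341 → P i := stepQ 21340 Q21340 (allL N21340 (tt N20390 F70896) (tt N20214 F70897) (tt N20036 F70898) (tt N18723 F70899) (tt N20910 F70900) (tt N20034 F70901) (tt N18721 (iv D31695)))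
theorem Q21342 : ∀ i, i < 21342 → P i := stepQ 21341 Q21341 (allL N21341 (tt N20884 F70902) (tt N21590 F71706) (tt N21592 (iv F71709)) (tt N20034 F70903) (tt N21397 (iv F71093)) (tt N18723 (iv D31696)) (tt N20033 F70904))
theorem Q21343 : ∀ i, i < 21343 → P i := stepQ 21342 Q21342 (allL N21342 (tt N21939 (iv F73043)) (tt N18726 F70905) (tt N18772 F70906) (tt N21967 (iv F73153)) (tt N18725 (iv D31697)) (tt N22484 (iv F75248)) (tt N22259 (iv F74321)))
theorem Q21344 : ∀ i, i < 21344 → P i := stepQ 21343 Q21343 (allL N21343 (tt N21940 (iv F73048)) (tt N20027 F70907) (tt N18773 F70908) (tt N21299 F70909) (tt N22484 (iv F75247)) (tt N18725 (iv D31698)) (tt N19515 (iv F70910)))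
theorem Q21345 : ∀ i, i < 21345 → P i := stepQ 21344 Q21344 (allL N21344 (tt N19510 F70911) (tt N21967 (iv F73152)) (tt N19517 F70912) (tt N18726 (iv D31699)) (tt N20831 F70913) (tt N20853 F70914) (tt N20621 F70915))
theorem Q21346 : ∀ i, i < 21346 → P i := stepQ 21345 Q21345 (allL N21345 (tt N18729 (iv D31700)) (tt N18757 F70916) (tt N18731 F70917) (tt N19803 F70918) (tt N21278 F70919) (tt N19171 F70921) (tt N19801 F70920))
theorem Q21347 : ∀ i, i < 21347 → P i := stepQ 21346 Q21346 (allL N21346 (tt N19171 F70922) (tt N20218 F70923) (tt N18733 F70924) (tt N19823 F70925) (tt N21440 (iv F71231)) (tt N18729 (iv D31701)) (tt N21710 (iv F72104)))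
theorem Q21348 : ∀ i, i < 21348 → P i := stepQ 21347 Q21347 (allL N21347 (tt N20382 F70926) (tt N18735 F70927) (tt N20381 F70928) (tt N22390 (iv F74857)) (tt N18732 (iv D31702)) (tt N20939 (iv F70929)) (tt N22086 (iv F73648)))
theorem Q21349 : ∀ i, i < 21349 → P i := stepQ 21348 Q21348 (allL N21348 (tt N20427 F70930) (tt N20217 F70931) (tt N20056 F70932) (tt N18733 F70933) (tt N20939 F70934) (tt N18732 (iv D31703)) (tt N20054 F70935))
theorem Q21350 : ∀ i, i < 21350 → P i := stepQ 21349 Q21349 (allL N21349 (tt N20908 F70936) (tt N21709 (iv F72100)) (tt N21710 (iv F72102)) (tt N20054 F70937) (tt N21441 (iv F71235)) (tt N20053 F70938) (tt N18733 (iv D31704)))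
theorem Q21351 : ∀ i, i < 21351 → P i := stepQ 21350 Q21350 (allL N21350 (tt N21977 (iv F73190)) (tt N18737 F70939) (tt N18823 F70940) (tt N22005 (iv F73299)) (tt N18736 (iv D31705)) (tt N22242 (iv F74250)) (tt N22472 (iv F75192)))
theorem Q21352 : ∀ i, i < 21352 → P i := stepQ 21351 Q21351 (allL N21351 (tt N21978 (iv F73195)) (tt N20047 F70941) (tt N18825 F70942) (tt N21300 F70943) (tt N22472 (iv F75190)) (tt N19283 F70944) (tt N18736 (iv D31706)))
theorem Q21353 : ∀ i, i < 21353 → P i := stepQ 21352 Q21352 (allL N21352 (tt N19278 F70945) (tt N22005 (iv F73298)) (tt N19288 F70946) (tt N18737 (iv D31707)) (tt N20834 F70947) (tt N20648 F70948) (tt N20860 F70949))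
theorem Q21354 : ∀ i, i < 21354 → P i := stepQ 21353 Q21353 (allL N21353 (tt N18738 (iv D31708)) (tt N22578 D32935) (tt N22402 (iv F74907)) (tt N20628 F70950) (tt N22396 (iv F74880)) (tt N22444 F75059) (tt N22079 (iv F73623)))
theorem Q21355 : ∀ i, i < 21355 → P i := stepQ 21354 Q21354 (allL N21354 (tt N22444 (iv F75055)) (tt N20144 F70951) (tt N21223 F70952) (tt N20630 F70953) (tt N20320 F70954) (tt N18738 (iv D31709)) (tt N20840 F70955))
theorem Q21356 : ∀ i, i < 21356 → P i := stepQ 21355 Q21355 (allL N21355 (tt N18817 F70956) (tt N18742 (iv D31710)) (tt N18743 F70957) (tt N20947 (iv F70960)) (tt N20919 F70958) (tt N21418 (iv F71162)) (tt N18821 F70959))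
theorem Q21357 : ∀ i, i < 21357 → P i := stepQ 21356 Q21356 (allL N21356 (tt N21981 (iv F73207)) (tt N20947 F70961) (tt N22439 (iv F75035)) (tt N18742 (iv D31711)) (tt N22438 F75033) (tt N22448 (iv F75081)) (tt N18962 F70962))
theorem Q21358 : ∀ i, i < 21358 → P i := stepQ 21357 Q21357 (allL N21357 (tt N22397 (iv F74883)) (tt N20978 F70963) (tt N21418 (iv F71160)) (tt N21289 F70964) (tt N20920 F70965) (tt N18743 (iv D31712)) (tt N20877 F70966))
theorem Q21359 : ∀ i, i < 21359 → P i := stepQ 21358 Q21358 (allL N21358 (tt N21358 F70967) (tt N18744 (iv D31713)) (tt N18760 F70968) (tt N20741 F70969) (tt N21282 F70970) (tt N18760 F70971) (tt N22363 (iv F74744)))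
theorem Q21360 : ∀ i, i < 21360 → P i := stepQ 21359 Q21359 (allL N21359 (tt N22237 (iv F74222)) (tt N21451 (iv F71271)) (tt N20322 F70972) (tt N21450 F71269) (tt N21864 (iv F72722)) (tt N18750 (iv D31714)) (tt N19612 F70973))
theorem Q21361 : ∀ i, i < 21361 → P i := stepQ 21360 Q21360 (allL N21360 (tt N19456 F70974) (tt N18774 F70975) (tt N19455 F70976) (tt N21456 (iv F71284)) (tt N19458 F70977) (tt N21917 (iv F72951)) (tt N18750 (iv D31715)))
theorem Q21362 : ∀ i, i < 21362 → P i := stepQ 21361 Q21361 (allL N21361 (tt N21380 (iv F71035)) (tt N22579 D32936) (tt N18753 F70978) (tt N21842 (iv F72636)) (tt N18752 F70979) (tt N18751 (iv D31716)) (tt N18880 F70980))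
theorem Q21363 : ∀ i, i < 21363 → P i := stepQ 21362 Q21362 (allL N21362 (tt N22509 (iv F75356)) (tt N18752 (iv D31717)) (tt N21985 (iv F73227)) (tt N18888 F70981) (tt N22579 (iv F75669)) (tt N21451 (iv F71272)) (tt N21462 (iv F71299)))
theorem Q21364 : ∀ i, i < 21364 → P i := stepQ 21363 Q21363 (allL N21363 (tt N18754 (iv D31718)) (tt N22503 (iv F75329)) (tt N20717 (iv F70985)) (tt N18755 F70982) (tt N22401 (iv F74903)) (tt N21070 F70983) (tt N20935 F70984))
theorem Q21365 : ∀ i, i < 21365 → P i := stepQ 21364 Q21364 (allL N21364 (tt N20717 F70986) (tt N21985 F73229) (tt N18754 (iv D31719)) (tt N20719 (iv F70988)) (tt N22400 (iv F74898)) (tt N21069 F70987) (tt N22418 (iv F74969)))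
theorem Q21366 : ∀ i, i < 21366 → P i := stepQ 21365 Q21365 (allL N21365 (tt N22131 (iv F73800)) (tt N18755 (iv D31720)) (tt N22173 (iv F73956)) (tt N22503 (iv F75331)) (tt N22174 (iv F73962)) (tt N22141 (iv F73851)) (tt N21660 (iv F71927)))
theorem Q21367 : ∀ i, i < 21367 → P i := stepQ 21366 Q21366 (allL N21366 (tt N18759 F70989) (tt N22228 (iv F74183)) (tt N18761 F70990) (tt N20734 F70991) (tt N19038 F70992) (tt N19065 F70993) (tt N18757 (iv D31721)))
theorem Q21368 : ∀ i, i < 21368 → P i := stepQ 21367 Q21367 (allL N21367 (tt N21367 F70996) (tt N18759 (iv D31722)) (tt N22363 (iv F74740)) (tt N20736 F70994) (tt N21659 (iv F71923)) (tt N22363 (iv F74743)) (tt N18760 F70995))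
theorem Q21369 : ∀ i, i < 21369 → P i := stepQ 21368 Q21368 (allL N21368 (tt N22026 (iv F73380)) (tt N21870 (iv F72745)) (tt N21836 (iv F72617)) (tt N21830 (iv F72596)) (tt N18764 F70997) (tt N21847 (iv F72660)) (tt N18762 (iv D31723)))
theorem Q21370 : ∀ i, i < 21370 → P i := stepQ 21369 Q21369 (allL N21369 (tt N21370 (iv F71002)) (tt N21025 F70998) (tt N19870 F70999) (tt N18766 F71000) (tt N21909 (iv F72912)) (tt N19866 F71001) (tt N18763 (iv D31724)))
theorem Q21371 : ∀ i, i < 21371 → P i := stepQ 21370 Q21370 (allL N21370 (tt N21369 F71002) (tt N20845 F71003) (tt N19869 F71004) (tt N18767 F71005) (tt N21847 (iv F72659)) (tt N18764 (iv D31725)) (tt N19865 F71006))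
theorem Q21372 : ∀ i, i < 21372 → P i := stepQ 21371 Q21371 (allL N21371 (tt N18765 (iv D31726)) (tt N18793 F71007) (tt N18794 F71008) (tt N20918 F71009) (tt N20948 F71010) (tt N18770 F71011) (tt N21374 (iv F71021)))
theorem Q21373 : ∀ i, i < 21373 → P i := stepQ 21372 Q21372 (allL N21372 (tt N20915 (iv F71014)) (tt N18768 (iv D31727)) (tt N22580 D32937) (tt N21217 F71012) (tt N18769 F71013) (tt N22417 (iv F74964)) (tt N20922 (iv F71015)))
theorem Q21374 : ∀ i, i < 21374 → P i := stepQ 21373 Q21373 (allL N21373 (tt N20917 F71016) (tt N21473 (iv F71333)) (tt N18769 (iv D31728)) (tt N22580 (iv F75672)) (tt N22580 (iv F75673)) (tt N22421 (iv F74980)) (tt N20926 F71017))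
theorem Q21375 : ∀ i, i < 21375 → P i := stepQ 21374 Q21374 (allL N21374 (tt N20920 F71018) (tt N20224 F71019) (tt N21402 (iv F71108)) (tt N20927 F71020) (tt N22397 (iv F74887)) (tt N18771 (iv D31729)) (tt N21371 F71021))
theorem Q21376 : ∀ i, i < 21376 → P i := stepQ 21375 Q21375 (allL N21375 (tt N22280 (iv F74414)) (tt N21895 F72864) (tt N22484 (iv F75246)) (tt N20436 F71022) (tt N18773 F71023) (tt N18772 (iv D31730)) (tt N21896 (iv F72867)))
theorem Q21377 : ∀ i, i < 21377 → P i := stepQ 21376 Q21376 (allL N21376 (tt N22281 (iv F74418)) (tt N19458 F71024) (tt N22259 (iv F74322)) (tt N19233 F71025) (tt N18774 F71026) (tt N22535 (iv F75478)) (tt N18772 (iv D31731)))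
theorem Q21378 : ∀ i, i < 21378 → P i := stepQ 21377 Q21377 (allL N21377 (tt N18776 F71031) (tt N18773 (iv D31732)) (tt N20024 F71027) (tt N18903 F71028) (tt N21895 (iv F72862)) (tt N18776 F71029) (tt N18901 F71030))
theorem Q21379 : ∀ i, i < 21379 → P i := stepQ 21378 Q21378 (allL N21378 (tt N20542 F71032) (tt N22256 (iv F74306)) (tt N21881 (iv F72798)) (tt N21465 (iv F71306)) (tt N22535 (iv F75477)) (tt N18774 (iv D31733)) (tt N20481 F71033))
theorem Q21380 : ∀ i, i < 21380 → P i := stepQ 21379 Q21379 (allL N21379 (tt N21895 (iv F72861)) (tt N18775 (iv D31734)) (tt N21488 (iv F71376)) (tt N22162 (iv F73925)) (tt N18776 F71034) (tt N21895 (iv F72863)) (tt N21485 (iv F71370)))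
theorem Q21381 : ∀ i, i < 21381 → P i := stepQ 21380 Q21380 (allL N21380 (tt N21361 F71035) (tt N22581 D32938) (tt N18779 F71036) (tt N21846 (iv F72655)) (tt N18777 F71037) (tt N18858 F71038) (tt N18775 (iv D31735)))
theorem Q21382 : ∀ i, i < 21382 → P i := stepQ 21381 Q21381 (allL N21381 (tt N21425 F71182) (tt N18777 (iv D31736)) (tt N22582 D32939) (tt N18861 F71039) (tt N22581 (iv F75675)) (tt N19614 F71040) (tt N21481 (iv F71357)))
theorem Q21383 : ∀ i, i < 21383 → P i := stepQ 21382 Q21382 (allL N21382 (tt N18778 (iv D31737)) (tt N22536 (iv F75481)) (tt N19496 F71043) (tt N21874 (iv F72766)) (tt N18780 F71041) (tt N19502 F71042) (tt N21306 (iv F71044)))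
theorem Q21384 : ∀ i, i < 21384 → P i := stepQ 21383 Q21383 (allL N21383 (tt N19496 F71045) (tt N21488 (iv F71375)) (tt N18778 (iv D31738)) (tt N19495 F71048) (tt N18781 F71046) (tt N19501 F71047) (tt N20525 (iv F71049)))
theorem Q21385 : ∀ i, i < 21385 → P i := stepQ 21384 Q21384 (allL N21384 (tt N21306 F71050) (tt N22253 (iv F74291)) (tt N20525 F71051) (tt N21329 F71052) (tt N18782 F71053) (tt N21305 F71054) (tt N18778 (iv D31739)))
theorem Q21386 : ∀ i, i < 21386 → P i := stepQ 21385 Q21385 (allL N21385 (tt N22404 F74921) (tt N18779 (iv D31740)) (tt N22583 D32940) (tt N22254 (iv F74298)) (tt N18783 F71055) (tt N22584 D32941) (tt N22253 F74294))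
theorem Q21387 : ∀ i, i < 21387 → P i := stepQ 21386 Q21386 (allL N21386 (tt N20914 F71056) (tt N18780 (iv D31741)) (tt N22003 (iv F73290)) (tt N18784 F71057) (tt N22536 (iv F75484)) (tt N22501 (iv F75324)) (tt N21110 F71058))
theorem Q21388 : ∀ i, i < 21388 → P i := stepQ 21387 Q21387 (allL N21387 (tt N21308 F71059) (tt N20267 F71060) (tt N18782 F71061) (tt N20266 F71062) (tt N20525 F71063) (tt N20463 F71064) (tt N18781 (iv D31742)))
theorem Q21389 : ∀ i, i < 21389 → P i := stepQ 21388 Q21388 (allL N21388 (tt N20850 F71065) (tt N18782 (iv D31743)) (tt N22585 D32942) (tt N18785 F71066) (tt N22253 (iv F74292)) (tt N22541 (iv F75507)) (tt N18783 F71067))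
theorem Q21390 : ∀ i, i < 21390 → P i := stepQ 21389 Q21389 (allL N21389 (tt N18783 (iv D31744)) (tt N20799 (iv F71070)) (tt N22586 D32943) (tt N18786 F71068) (tt N22404 (iv F74919)) (tt N22587 D32944) (tt N20850 F71069))
theorem Q21391 : ∀ i, i < 21391 → P i := stepQ 21390 Q21390 (allL N21390 (tt N22586 (iv F75693)) (tt N22582 (iv F75677)) (tt N18783 (iv D31745)) (tt N22588 D32945) (tt N22583 (iv F75681)) (tt N22589 D32946) (tt N22585 (iv F75692)))
theorem Q21392 : ∀ i, i < 21392 → P i := stepQ 21391 Q21391 (allL N21391 (tt N22587 (iv F75698)) (tt N20685 F71071) (tt N22589 (iv F75706)) (tt N18788 F71072) (tt N22584 (iv F75686)) (tt N18783 (iv D31746)) (tt N22388 (iv F74850)))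
theorem Q21393 : ∀ i, i < 21393 → P i := stepQ 21392 Q21392 (allL N21392 (tt N21393 (iv F71076)) (tt N21321 F71073) (tt N18784 (iv D31747)) (tt N22407 (iv F74928)) (tt N21202 F71074) (tt N21200 (iv F71075)) (tt N22590 D32947))
theorem Q21394 : ∀ i, i < 21394 → P i := stepQ 21393 Q21393 (allL N21393 (tt N21392 F71076) (tt N20314 F71077) (tt N21200 F71078) (tt N22501 (iv F75322)) (tt N21201 F71079) (tt N18784 (iv D31748)) (tt N22493 (iv F75286)))
theorem Q21395 : ∀ i, i < 21395 → P i := stepQ 21394 Q21394 (allL N21394 (tt N21102 F71080) (tt N20876 F71081) (tt N22590 (iv F75710)) (tt N21110 F71082) (tt N21103 F71083) (tt N22590 (iv F75713)) (tt N18784 (iv D31749)))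
theorem Q21396 : ∀ i, i < 21396 → P i := stepQ 21395 Q21395 (allL N21395 (tt N20851 F71084) (tt N21311 F71085) (tt N21962 F73132) (tt N22541 (iv F75505)) (tt N20033 F71086) (tt N18785 (iv D31750)) (tt N21397 (iv F71094)))
theorem Q21397 : ∀ i, i < 21397 → P i := stepQ 21396 Q21396 (allL N21396 (tt N18787 F71087) (tt N20800 F71088) (tt N18786 (iv D31751)) (tt N20257 (iv F71091)) (tt N21338 F71089) (tt N21756 (iv F72278)) (tt N20848 F71090))
theorem Q21398 : ∀ i, i < 21398 → P i := stepQ 21397 Q21397 (allL N21397 (tt N18788 F71092) (tt N21755 (iv F72274)) (tt N21756 (iv F72276)) (tt N22587 (iv F75699)) (tt N21341 F71093) (tt N18786 (iv D31752)) (tt N21395 F71094))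
theorem Q21399 : ∀ i, i < 21399 → P i := stepQ 21398 Q21398 (allL N21398 (tt N21756 (iv F72275)) (tt N21551 F71596) (tt N18788 F71095) (tt N19722 F71096) (tt N19726 F71097) (tt N18787 (iv D31753)) (tt N19720 F71098))
theorem Q21400 : ∀ i, i < 21400 → P i := stepQ 21399 Q21399 (allL N21399 (tt N18792 (iv D31754)) (tt N22591 D32948) (tt N22396 (iv F74879)) (tt N20655 F71099) (tt N22402 (iv F74908)) (tt N22092 (iv F73665)) (tt N22457 (iv F75117)))
theorem Q21401 : ∀ i, i < 21401 → P i := stepQ 21400 Q21400 (allL N21400 (tt N22457 (iv F75113)) (tt N20140 F71100) (tt N21203 F71101) (tt N20657 F71102) (tt N20300 F71103) (tt N20844 F71104) (tt N18792 (iv D31755)))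
theorem Q21402 : ∀ i, i < 21402 → P i := stepQ 21401 Q21401 (allL N21401 (tt N21942 (iv F73059)) (tt N20918 F71105) (tt N22452 (iv F75093)) (tt N18793 (iv D31756)) (tt N22451 F75091) (tt N19102 F71106) (tt N22461 (iv F75140)))
theorem Q21403 : ∀ i, i < 21403 → P i := stepQ 21402 Q21402 (allL N21402 (tt N22403 (iv F74911)) (tt N21004 F71107) (tt N21374 F71108) (tt N21284 F71109) (tt N20949 F71110) (tt N20901 F71111) (tt N18794 (iv D31757)))
theorem Q21404 : ∀ i, i < 21404 → P i := stepQ 21403 Q21403 (allL N21403 (tt N21403 F71112) (tt N18795 (iv D31758)) (tt N18811 F71113) (tt N20708 F71114) (tt N21273 F71115) (tt N22357 (iv F74713)) (tt N18811 F71116))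
theorem Q21405 : ∀ i, i < 21405 → P i := stepQ 21404 Q21404 (allL N21404 (tt N19656 F71117) (tt N18824 F71118) (tt N19655 F71119) (tt N21498 (iv F71412)) (tt N19658 F71120) (tt N18801 (iv D31759)) (tt N21840 (iv F72630)))
theorem Q21406 : ∀ i, i < 21406 → P i := stepQ 21405 Q21405 (allL N21405 (tt N22256 (iv F74305)) (tt N21493 (iv F71399)) (tt N20392 F71121) (tt N21492 F71397) (tt N21938 (iv F73041)) (tt N19408 F71122) (tt N18801 (iv D31760)))
theorem Q21407 : ∀ i, i < 21407 → P i := stepQ 21406 Q21406 (allL N21406 (tt N21424 (iv F71176)) (tt N22592 D32949) (tt N18804 F71123) (tt N21920 (iv F72960)) (tt N18803 F71124) (tt N18935 F71125) (tt N18802 (iv D31761)))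
theorem Q21408 : ∀ i, i < 21408 → P i := stepQ 21407 Q21407 (allL N21407 (tt N22532 (iv F75463)) (tt N18803 (iv D31762)) (tt N21947 (iv F73082)) (tt N18943 F71126) (tt N22592 (iv F75720)) (tt N21504 (iv F71428)) (tt N21493 (iv F71400)))
theorem Q21409 : ∀ i, i < 21409 → P i := stepQ 21408 Q21408 (allL N21408 (tt N18805 (iv D31763)) (tt N22504 (iv F75334)) (tt N20680 (iv F71130)) (tt N18806 F71127) (tt N22395 (iv F74875)) (tt N20963 F71128) (tt N21033 F71129))
theorem Q21410 : ∀ i, i < 21410 → P i := stepQ 21409 Q21409 (allL N21409 (tt N20680 F71131) (tt N21947 F73084) (tt N18805 (iv D31764)) (tt N20682 (iv F71133)) (tt N22394 (iv F74870)) (tt N22413 (iv F74948)) (tt N21032 F71132))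
theorem Q21411 : ∀ i, i < 21411 → P i := stepQ 21410 Q21410 (allL N21410 (tt N22133 (iv F73810)) (tt N18806 (iv D31765)) (tt N22180 (iv F73975)) (tt N22504 (iv F75336)) (tt N22181 (iv F73981)) (tt N21529 (iv F71516)) (tt N22139 (iv F73843)))
theorem Q21412 : ∀ i, i < 21412 → P i := stepQ 21411 Q21411 (allL N21411 (tt N18809 F71134) (tt N22213 (iv F74118)) (tt N18812 F71135) (tt N20701 F71136) (tt N19175 F71137) (tt N18808 (iv D31766)) (tt N19202 F71138))
theorem Q21413 : ∀ i, i < 21413 → P i := stepQ 21412 Q21412 (allL N21412 (tt N21412 F71141) (tt N18809 (iv D31767)) (tt N22357 (iv F74710)) (tt N20703 F71139) (tt N21528 (iv F71512)) (tt N18811 F71140) (tt N22357 (iv F74714)))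
theorem Q21414 : ∀ i, i < 21414 → P i := stepQ 21413 Q21413 (allL N21413 (tt N22039 (iv F73431)) (tt N21769 (iv F72327)) (tt N21913 (iv F72933)) (tt N21768 (iv F72323)) (tt N18814 F71142) (tt N18813 (iv D31768)) (tt N21923 (iv F72976)))
theorem Q21415 : ∀ i, i < 21415 → P i := stepQ 21414 Q21414 (allL N21414 (tt N21415 (iv F71147)) (tt N20846 F71143) (tt N19888 F71144) (tt N18816 F71145) (tt N21923 (iv F72975)) (tt N19884 F71146) (tt N18814 (iv D31769)))
theorem Q21416 : ∀ i, i < 21416 → P i := stepQ 21415 Q21415 (allL N21415 (tt N21414 F71147) (tt N21064 F71148) (tt N19887 F71149) (tt N18818 F71150) (tt N21824 (iv F72567)) (tt N18815 (iv D31770)) (tt N19883 F71151))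
theorem Q21417 : ∀ i, i < 21417 → P i := stepQ 21416 Q21416 (allL N21416 (tt N20944 (iv F71154)) (tt N18819 (iv D31771)) (tt N22593 D32950) (tt N21197 F71152) (tt N18820 F71153) (tt N20951 (iv F71155)) (tt N22433 (iv F75018)))
theorem Q21418 : ∀ i, i < 21418 → P i := stepQ 21417 Q21417 (allL N21417 (tt N20946 F71156) (tt N21515 (iv F71466)) (tt N18820 (iv D31772)) (tt N22593 (iv F75724)) (tt N22593 (iv F75725)) (tt N20955 F71157) (tt N22435 (iv F75024)))
theorem Q21419 : ∀ i, i < 21419 → P i := stepQ 21418 Q21418 (allL N21418 (tt N20949 F71158) (tt N20231 F71159) (tt N21357 F71160) (tt N20956 F71161) (tt N22403 (iv F74915)) (tt N21355 F71162) (tt N18822 (iv D31773)))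
theorem Q21420 : ∀ i, i < 21420 → P i := stepQ 21419 Q21419 (allL N21419 (tt N22299 (iv F74498)) (tt N19658 F71163) (tt N22242 (iv F74251)) (tt N19475 F71164) (tt N18824 F71165) (tt N18823 (iv D31774)) (tt N22514 (iv F75383)))
theorem Q21421 : ∀ i, i < 21421 → P i := stepQ 21420 Q21420 (allL N21420 (tt N22300 (iv F74503)) (tt N21804 F72495) (tt N22472 (iv F75189)) (tt N20494 F71166) (tt N18825 F71167) (tt N21805 (iv F72498)) (tt N18823 (iv D31775)))
theorem Q21422 : ∀ i, i < 21422 → P i := stepQ 21421 Q21421 (allL N21421 (tt N20485 F71168) (tt N22237 (iv F74223)) (tt N21784 (iv F72400)) (tt N21507 (iv F71436)) (tt N22514 (iv F75381)) (tt N20540 F71169) (tt N18824 (iv D31776)))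
theorem Q21423 : ∀ i, i < 21423 → P i := stepQ 21422 Q21422 (allL N21422 (tt N18827 (iv F71174)) (tt N18825 (iv D31777)) (tt N20044 F71170) (tt N18848 F71171) (tt N21804 (iv F72493)) (tt N18846 F71172) (tt N18827 F71173))
theorem Q21424 : ∀ i, i < 21424 → P i := stepQ 21423 Q21423 (allL N21423 (tt N21804 (iv F72492)) (tt N18826 (iv D31778)) (tt N21446 (iv F71251)) (tt N22153 (iv F73893)) (tt N18827 F71175) (tt N21445 (iv F71248)) (tt N21804 (iv F72494)))
theorem Q21425 : ∀ i, i < 21425 → P i := stepQ 21424 Q21424 (allL N21424 (tt N21406 F71176) (tt N22594 D32951) (tt N18830 F71177) (tt N21922 (iv F72970)) (tt N18828 F71178) (tt N18826 (iv D31779)) (tt N18913 F71179))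
theorem Q21426 : ∀ i, i < 21426 → P i := stepQ 21425 Q21425 (allL N21425 (tt N21381 (iv F71182)) (tt N18828 (iv D31780)) (tt N22595 D32952) (tt N18916 F71180) (tt N22594 (iv F75727)) (tt N21444 (iv F71245)) (tt N19407 F71181))
theorem Q21427 : ∀ i, i < 21427 → P i := stepQ 21426 Q21426 (allL N21426 (tt N18829 (iv D31781)) (tt N22547 (iv F75528)) (tt N19263 F71185) (tt N21776 (iv F72363)) (tt N18831 F71183) (tt N21317 F71186) (tt N19269 F71184))
theorem Q21428 : ∀ i, i < 21428 → P i := stepQ 21427 Q21427 (allL N21427 (tt N19263 F71187) (tt N21446 (iv F71250)) (tt N18829 (iv D31782)) (tt N19262 F71190) (tt N18832 F71188) (tt N20468 (iv F71191)) (tt N19268 F71189))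
theorem Q21429 : ∀ i, i < 21429 → P i := stepQ 21428 Q21428 (allL N21428 (tt N21317 F71192) (tt N22250 (iv F74280)) (tt N20468 F71193) (tt N21324 F71194) (tt N18833 F71195) (tt N18829 (iv D31783)) (tt N21316 F71196))
theorem Q21430 : ∀ i, i < 21430 → P i := stepQ 21429 Q21429 (allL N21429 (tt N22423 (iv F74989)) (tt N18830 (iv D31784)) (tt N22596 D32953) (tt N22243 F74256) (tt N18834 F71197) (tt N22250 (iv F74282)) (tt N22597 D32954))
theorem Q21431 : ∀ i, i < 21431 → P i := stepQ 21430 Q21430 (allL N21430 (tt N20943 F71198) (tt N18831 (iv D31785)) (tt N21965 (iv F73144)) (tt N18835 F71199) (tt N22547 (iv F75531)) (tt N21169 F71200) (tt N22527 (iv F75444)))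
theorem Q21432 : ∀ i, i < 21432 → P i := stepQ 21431 Q21431 (allL N21431 (tt N21319 F71201) (tt N20278 F71202) (tt N18833 F71203) (tt N20277 F71204) (tt N20468 F71205) (tt N18832 (iv D31786)) (tt N20520 F71206))
theorem Q21433 : ∀ i, i < 21433 → P i := stepQ 21432 Q21432 (allL N21432 (tt N20857 F71207) (tt N18833 (iv D31787)) (tt N22598 D32955) (tt N18836 F71208) (tt N22250 (iv F74281)) (tt N18834 F71209) (tt N22550 (iv F75547)))
theorem Q21434 : ∀ i, i < 21434 → P i := stepQ 21433 Q21433 (allL N21433 (tt N18834 (iv D31788)) (tt N20809 (iv F71212)) (tt N22599 D32956) (tt N18837 F71210) (tt N22423 (iv F74987)) (tt N20857 F71211) (tt N22600 D32957))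
theorem Q21435 : ∀ i, i < 21435 → P i := stepQ 21434 Q21434 (allL N21434 (tt N22599 (iv F75747)) (tt N22595 (iv F75731)) (tt N18834 (iv D31789)) (tt N22601 D32958) (tt N22596 (iv F75735)) (tt N22598 (iv F75746)) (tt N22602 D32959))
theorem Q21436 : ∀ i, i < 21436 → P i := stepQ 21435 Q21435 (allL N21435 (tt N22600 (iv F75752)) (tt N20722 F71213) (tt N22602 (iv F75761)) (tt N18839 F71214) (tt N22597 (iv F75740)) (tt N22391 (iv F74860)) (tt N18834 (iv D31790)))
theorem Q21437 : ∀ i, i < 21437 → P i := stepQ 21436 Q21436 (allL N21436 (tt N21438 (iv F71222)) (tt N21310 F71215) (tt N18835 (iv D31791)) (tt N22426 (iv F74996)) (tt N21222 F71216) (tt N22603 D32960) (tt N21220 (iv F71217)))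
theorem Q21438 : ∀ i, i < 21438 → P i := stepQ 21437 Q21437 (allL N21437 (tt N21155 F71218) (tt N20900 F71219) (tt N22603 (iv F75766)) (tt N21169 F71220) (tt N21156 F71221) (tt N18835 (iv D31792)) (tt N22603 (iv F75769)))
theorem Q21439 : ∀ i, i < 21439 → P i := stepQ 21438 Q21438 (allL N21438 (tt N21436 F71222) (tt N20294 F71223) (tt N21220 F71224) (tt N22527 (iv F75442)) (tt N21221 F71225) (tt N22518 (iv F75399)) (tt N18835 (iv D31793)))
theorem Q21440 : ∀ i, i < 21440 → P i := stepQ 21439 Q21439 (allL N21439 (tt N20858 F71226) (tt N21322 F71227) (tt N22000 F73278) (tt N22550 (iv F75545)) (tt N20053 F71228) (tt N21441 (iv F71236)) (tt N18836 (iv D31794)))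
theorem Q21441 : ∀ i, i < 21441 → P i := stepQ 21440 Q21440 (allL N21440 (tt N18838 F71229) (tt N20810 F71230) (tt N18837 (iv D31795)) (tt N20245 (iv F71233)) (tt N21346 F71231) (tt N20855 F71232) (tt N21652 (iv F71893)))
theorem Q21442 : ∀ i, i < 21442 → P i := stepQ 21441 Q21441 (allL N21441 (tt N18839 F71234) (tt N21650 F71887) (tt N21652 (iv F71892)) (tt N22600 (iv F75753)) (tt N21349 F71235) (tt N21439 F71236) (tt N18837 (iv D31796)))
theorem Q21443 : ∀ i, i < 21443 → P i := stepQ 21442 Q21442 (allL N21442 (tt N21652 F71894) (tt N21657 (iv F71911)) (tt N18839 F71237) (tt N19815 F71238) (tt N19820 F71239) (tt N19814 F71240) (tt N18838 (iv D31797)))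
theorem Q21444 : ∀ i, i < 21444 → P i := stepQ 21443 Q21443 (allL N21443 (tt N22205 (iv F74081)) (tt N22604 D32961) (tt N18841 (iv D31798)) (tt N22605 D32962) (tt N20474 F71241) (tt N22204 (iv F74079)) (tt N20148 F71242))
theorem Q21445 : ∀ i, i < 21445 → P i := stepQ 21444 Q21444 (allL N21444 (tt N19614 F71243) (tt N18842 (iv D31799)) (tt N22604 (iv F75771)) (tt N18941 F71244) (tt N22606 D32963) (tt N21425 F71245) (tt N22313 (iv F74554)))
theorem Q21446 : ∀ i, i < 21446 → P i := stepQ 21445 Q21445 (allL N21445 (tt N19329 F71246) (tt N22606 (iv F75780)) (tt N18843 F71247) (tt N22358 (iv F74716)) (tt N18842 (iv D31800)) (tt N21423 F71248) (tt N21445 F71249))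
theorem Q21447 : ∀ i, i < 21447 → P i := stepQ 21446 Q21446 (allL N21446 (tt N22085 (iv F73640)) (tt N21427 F71250) (tt N21423 F71251) (tt N20479 F71252) (tt N18844 F71253) (tt N18843 (iv D31801)) (tt N22085 (iv F73644)))
theorem Q21448 : ∀ i, i < 21448 → P i := stepQ 21447 Q21447 (allL N21447 (tt N21508 F71443) (tt N20501 F71254) (tt N18849 F71255) (tt N20499 F71256) (tt N18848 F71257) (tt N18847 (iv D31802)) (tt N21508 (iv F71440)))
theorem Q21449 : ∀ i, i < 21449 → P i := stepQ 21448 Q21448 (allL N21448 (tt N20383 (iv F71261)) (tt N18849 (iv D31803)) (tt N22043 (iv F73450)) (tt N19895 F71258) (tt N18850 F71259) (tt N18862 F71260) (tt N20038 (iv F71262)))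
theorem Q21450 : ∀ i, i < 21450 → P i := stepQ 21449 Q21449 (allL N21449 (tt N20578 F71263) (tt N21505 (iv F71429)) (tt N18850 (iv D31804)) (tt N22507 (iv F75348)) (tt N22043 (iv F73451)) (tt N18864 F71264) (tt N20040 F71265))
theorem Q21451 : ∀ i, i < 21451 → P i := stepQ 21450 Q21450 (allL N21450 (tt N22607 D32964) (tt N18851 (iv D31805)) (tt N18855 F71266) (tt N21359 (iv F71269)) (tt N22038 (iv F73429)) (tt N18855 F71267) (tt N20574 F71268))
theorem Q21452 : ∀ i, i < 21452 → P i := stepQ 21451 Q21451 (allL N21451 (tt N21132 F71270) (tt N21359 F71271) (tt N19773 F71273) (tt N18851 (iv D31806)) (tt N22564 (iv F75607)) (tt N21362 F71272) (tt N21918 (iv F72955)))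
theorem Q21453 : ∀ i, i < 21453 → P i := stepQ 21452 Q21452 (allL N21452 (tt N22016 F73345) (tt N22038 (iv F73427)) (tt N18852 F71274) (tt N22608 D32965) (tt N18851 (iv D31807)) (tt N21479 F71352) (tt N19889 F71275))
theorem Q21454 : ∀ i, i < 21454 → P i := stepQ 21453 Q21453 (allL N21453 (tt N22083 (iv F73631)) (tt N21469 (iv F71322)) (tt N21479 (iv F71349)) (tt N19896 F71276) (tt N18853 F71277) (tt N18852 (iv D31808)) (tt N18862 F71278))
theorem Q21455 : ∀ i, i < 21455 → P i := stepQ 21454 Q21454 (allL N21454 (tt N18855 (iv D31809)) (tt N22272 (iv F74385)) (tt N22607 (iv F75784)) (tt N21129 F71279) (tt N22275 (iv F74397)) (tt N22607 (iv F75787)) (tt N21861 (iv F72712)))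
theorem Q21456 : ∀ i, i < 21456 → P i := stepQ 21455 Q21455 (allL N21455 (tt N22275 (iv F74395)) (tt N18856 F71280) (tt N22038 (iv F73428)) (tt N20195 F71281) (tt N18855 (iv D31810)) (tt N22038 (iv F73430)) (tt N22037 F73426))
theorem Q21457 : ∀ i, i < 21457 → P i := stepQ 21456 Q21456 (allL N21456 (tt N21861 (iv F72709)) (tt N18872 F71282) (tt N20574 F71283) (tt N21360 F71284) (tt N22037 (iv F73423)) (tt N22317 (iv F74573)) (tt N18855 (iv D31811)))
theorem Q21458 : ∀ i, i < 21458 → P i := stepQ 21457 Q21457 (allL N21457 (tt N21915 (iv F72941)) (tt N18858 F71285) (tt N19616 F71286) (tt N21845 (iv F72650)) (tt N18857 (iv D31812)) (tt N19611 F71287) (tt N20576 F71288))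
theorem Q21459 : ∀ i, i < 21459 → P i := stepQ 21458 Q21458 (allL N21458 (tt N21500 F71419) (tt N18860 (iv D31813)) (tt N21478 (iv F71346)) (tt N22163 (iv F73926)) (tt N18861 F71289) (tt N19881 F71290) (tt N21477 F71345))
theorem Q21460 : ∀ i, i < 21460 → P i := stepQ 21459 Q21459 (allL N21459 (tt N18862 (iv D31814)) (tt N20364 (iv F71294)) (tt N22032 (iv F73407)) (tt N19897 F71291) (tt N18863 F71292) (tt N20383 F71293) (tt N22083 (iv F73634)))
theorem Q21461 : ∀ i, i < 21461 → P i := stepQ 21460 Q21460 (allL N21460 (tt N22032 (iv F73406)) (tt N21478 F71348) (tt N18862 (iv D31815)) (tt N22596 (iv F75734)) (tt N18864 F71295) (tt N22043 (iv F73452)) (tt N21479 (iv F71351)))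
theorem Q21462 : ∀ i, i < 21462 → P i := stepQ 21461 Q21461 (allL N21461 (tt N18864 F71296) (tt N20571 F71297) (tt N18863 (iv D31816)) (tt N22289 (iv F74457)) (tt N22032 (iv F73409)) (tt N20578 F71298) (tt N21482 (iv F71360)))
theorem Q21463 : ∀ i, i < 21463 → P i := stepQ 21462 Q21462 (allL N21462 (tt N22289 (iv F74455)) (tt N21474 (iv F71334)) (tt N22609 D32966) (tt N18864 (iv D31817)) (tt N22601 (iv F75757)) (tt N22507 F75350) (tt N21362 F71299))
theorem Q21464 : ∀ i, i < 21464 → P i := stepQ 21463 Q21463 (allL N21463 (tt N22291 (iv F74464)) (tt N21491 (iv F71391)) (tt N18871 F71300) (tt N21184 F71301) (tt N22030 (iv F73399)) (tt N18866 (iv D31818)) (tt N21480 F71354))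
theorem Q21465 : ∀ i, i < 21465 → P i := stepQ 21464 Q21464 (allL N21464 (tt N21468 (iv F71316)) (tt N18869 (iv D31819)) (tt N21467 (iv F71315)) (tt N19899 F71302) (tt N18870 F71303) (tt N18875 F71304) (tt N21484 (iv F71366)))
theorem Q21466 : ∀ i, i < 21466 → P i := stepQ 21465 Q21465 (allL N21465 (tt N20581 F71305) (tt N22610 D32967) (tt N22306 F74532) (tt N21378 F71306) (tt N22267 (iv F74363)) (tt N18872 (iv D31820)) (tt N20554 F71307))
theorem Q21467 : ∀ i, i < 21467 → P i := stepQ 21466 Q21466 (allL N21466 (tt N21489 (iv F71379)) (tt N18873 (iv D31821)) (tt N18890 (iv F71310)) (tt N20188 F71308) (tt N18874 F71309) (tt N21489 (iv F71384)) (tt N18889 (iv F71311)))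
theorem Q21468 : ∀ i, i < 21468 → P i := stepQ 21467 Q21467 (allL N21467 (tt N18875 (iv D31822)) (tt N20018 F71312) (tt N21464 F71315) (tt N19900 F71313) (tt N18876 F71314) (tt N21468 (iv F71320)) (tt N22611 D32968))
theorem Q21469 : ∀ i, i < 21469 → P i := stepQ 21468 Q21468 (allL N21468 (tt N21464 F71316) (tt N18890 F71317) (tt N18875 (iv D31823)) (tt N19904 F71318) (tt N18877 F71319) (tt N21467 F71320) (tt N18891 (iv F71321)))
theorem Q21470 : ∀ i, i < 21470 → P i := stepQ 21469 Q21469 (allL N21469 (tt N22611 (iv F75806)) (tt N21453 F71322) (tt N18891 F71323) (tt N19902 F71324) (tt N18878 F71325) (tt N18891 F71326) (tt N18875 (iv D31824)))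
theorem Q21471 : ∀ i, i < 21471 → P i := stepQ 21470 Q21470 (allL N21470 (tt N18878 F71327) (tt N22353 (iv F74689)) (tt N18893 F71328) (tt N18879 F71329) (tt N22611 (iv F75810)) (tt N18893 F71330) (tt N18876 (iv D31825)))
theorem Q21472 : ∀ i, i < 21472 → P i := stepQ 21471 Q21471 (allL N21471 (tt N22612 D32969) (tt N18880 (iv D31826)) (tt N22613 D32970) (tt N21839 F72629) (tt N18881 F71331) (tt N22309 (iv F74543)) (tt N22614 D32971))
theorem Q21473 : ∀ i, i < 21473 → P i := stepQ 21472 Q21472 (allL N21472 (tt N18881 (iv D31827)) (tt N22531 (iv F75459)) (tt N22615 D32972) (tt N18885 F71332) (tt N22612 (iv F75812)) (tt N22310 (iv F74546)) (tt N21516 (iv F71470)))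
theorem Q21474 : ∀ i, i < 21474 → P i := stepQ 21473 Q21473 (allL N21473 (tt N22615 (iv F75819)) (tt N21373 F71333) (tt N18881 (iv D31828)) (tt N22613 (iv F75815)) (tt N22613 (iv F75814)) (tt N22311 (iv F74548)) (tt N22616 D32973))
theorem Q21475 : ∀ i, i < 21475 → P i := stepQ 21474 Q21474 (allL N21474 (tt N21516 (iv F71467)) (tt N21462 F71334) (tt N22616 (iv F75820)) (tt N18887 F71335) (tt N22614 (iv F75818)) (tt N21514 (iv F71465)) (tt N18881 (iv D31829)))
theorem Q21476 : ∀ i, i < 21476 → P i := stepQ 21475 Q21475 (allL N21475 (tt N22297 (iv F74490)) (tt N18882 (iv D31830)) (tt N21837 (iv F72620)) (tt N18883 F71336) (tt N21839 (iv F72628)) (tt N20776 F71337) (tt N22617 D32974))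
theorem Q21477 : ∀ i, i < 21477 → P i := stepQ 21476 Q21476 (allL N21476 (tt N18883 (iv D31831)) (tt N22296 (iv F74489)) (tt N19862 F71340) (tt N22297 (iv F74491)) (tt N18885 F71338) (tt N20777 F71339) (tt N21520 (iv F71485)))
theorem Q21478 : ∀ i, i < 21478 → P i := stepQ 21477 Q21477 (allL N21477 (tt N19862 F71341) (tt N18889 F71342) (tt N18883 (iv D31832)) (tt N22618 D32975) (tt N18886 F71343) (tt N20778 F71344) (tt N21458 (iv F71345)))
theorem Q21479 : ∀ i, i < 21479 → P i := stepQ 21478 Q21478 (allL N21478 (tt N21520 (iv F71482)) (tt N21460 (iv F71348)) (tt N21458 F71346) (tt N22617 (iv F75823)) (tt N18887 F71347) (tt N21518 (iv F71475)) (tt N18883 (iv D31833)))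
theorem Q21480 : ∀ i, i < 21480 → P i := stepQ 21479 Q21479 (allL N21479 (tt N22619 D32976) (tt N18884 (iv D31834)) (tt N21453 F71349) (tt N22166 (iv F73939)) (tt N18888 F71350) (tt N21452 (iv F71352)) (tt N21460 F71351))
theorem Q21481 : ∀ i, i < 21481 → P i := stepQ 21480 Q21480 (allL N21480 (tt N22306 (iv F74528)) (tt N18885 (iv D31835)) (tt N20581 F71353) (tt N22531 (iv F75461)) (tt N22296 (iv F74487)) (tt N22292 (iv F74472)) (tt N21463 (iv F71354)))
theorem Q21482 : ∀ i, i < 21482 → P i := stepQ 21481 Q21481 (allL N21481 (tt N19407 F71355) (tt N18892 F71356) (tt N22620 D32977) (tt N18886 (iv D31836)) (tt N22621 D32978) (tt N22313 (iv F74553)) (tt N21381 F71357))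
theorem Q21483 : ∀ i, i < 21483 → P i := stepQ 21482 Q21482 (allL N21482 (tt N18888 (iv D31837)) (tt N21523 (iv F71493)) (tt N20041 F71358) (tt N22509 (iv F75357)) (tt N22619 (iv F75831)) (tt N20040 F71359) (tt N21461 F71360))
theorem Q21484 : ∀ i, i < 21484 → P i := stepQ 21483 Q21483 (allL N21483 (tt N20768 F71361) (tt N22618 (iv F75827)) (tt N21873 (iv F72760)) (tt N18889 (iv D31838)) (tt N22364 (iv F74747)) (tt N21483 F71362) (tt N20188 F71363))
theorem Q21485 : ∀ i, i < 21485 → P i := stepQ 21484 Q21484 (allL N21484 (tt N18891 (iv D31839)) (tt N22252 (iv F74287)) (tt N22611 (iv F75808)) (tt N19905 F71364) (tt N18893 F71365) (tt N22611 (iv F75811)) (tt N21464 F71366))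
theorem Q21486 : ∀ i, i < 21486 → P i := stepQ 21485 Q21485 (allL N21485 (tt N19555 F71367) (tt N22621 (iv F75840)) (tt N18898 F71368) (tt N22364 (iv F74746)) (tt N18892 (iv D31840)) (tt N21485 F71369) (tt N21379 F71370))
theorem Q21487 : ∀ i, i < 21487 → P i := stepQ 21486 Q21486 (allL N21486 (tt N22011 (iv F73318)) (tt N18893 (iv D31841)) (tt N21973 (iv F73172)) (tt N18894 F71371) (tt N22252 (iv F74290)) (tt N22010 (iv F73316)) (tt N20697 F71372))
theorem Q21488 : ∀ i, i < 21488 → P i := stepQ 21487 Q21487 (allL N21487 (tt N22200 (iv F74054)) (tt N22620 (iv F75835)) (tt N18897 (iv D31842)) (tt N22622 D32979) (tt N20534 F71373) (tt N20151 F71374) (tt N22199 (iv F74053)))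
theorem Q21489 : ∀ i, i < 21489 → P i := stepQ 21488 Q21488 (allL N21488 (tt N22072 (iv F73598)) (tt N21383 F71375) (tt N21379 F71376) (tt N20537 F71377) (tt N18899 F71378) (tt N22072 (iv F73601)) (tt N18898 (iv D31843)))
theorem Q21490 : ∀ i, i < 21490 → P i := stepQ 21489 Q21489 (allL N21489 (tt N21466 F71379) (tt N20443 F71380) (tt N18904 F71381) (tt N20441 F71382) (tt N18903 F71383) (tt N21466 F71384) (tt N18902 (iv D31844)))
theorem Q21491 : ∀ i, i < 21491 → P i := stepQ 21490 Q21490 (allL N21490 (tt N20425 F71385) (tt N18904 (iv D31845)) (tt N22029 (iv F73393)) (tt N19908 F71386) (tt N18905 F71387) (tt N20018 F71388) (tt N18917 F71389))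
theorem Q21492 : ∀ i, i < 21492 → P i := stepQ 21491 Q21491 (allL N21491 (tt N20553 F71390) (tt N21463 F71391) (tt N18905 (iv D31846)) (tt N22530 (iv F75455)) (tt N22029 (iv F73394)) (tt N20020 F71392) (tt N18919 F71393))
theorem Q21493 : ∀ i, i < 21493 → P i := stepQ 21492 Q21492 (allL N21492 (tt N22610 (iv F75800)) (tt N18906 (iv D31847)) (tt N18910 F71394) (tt N21405 (iv F71397)) (tt N22024 (iv F73372)) (tt N20550 F71395) (tt N18910 F71396))
theorem Q21494 : ∀ i, i < 21494 → P i := stepQ 21493 Q21493 (allL N21493 (tt N21185 F71398) (tt N21405 F71399) (tt N19679 F71401) (tt N18906 (iv D31848)) (tt N22561 (iv F75594)) (tt N21841 (iv F72634)) (tt N21407 F71400))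
theorem Q21495 : ∀ i, i < 21495 → P i := stepQ 21494 Q21494 (allL N21494 (tt N22031 (iv F73405)) (tt N22024 (iv F73370)) (tt N18907 F71402) (tt N22623 D32980) (tt N18906 (iv D31849)) (tt N19871 F71403) (tt N21521 (iv F71490)))
theorem Q21496 : ∀ i, i < 21496 → P i := stepQ 21495 Q21495 (allL N21495 (tt N22070 (iv F73589)) (tt N21511 (iv F71454)) (tt N21521 (iv F71487)) (tt N19909 F71404) (tt N18909 F71405) (tt N18917 F71406) (tt N18907 (iv D31850)))
theorem Q21497 : ∀ i, i < 21497 → P i := stepQ 21496 Q21496 (allL N21496 (tt N18910 (iv D31851)) (tt N22291 (iv F74465)) (tt N22610 (iv F75801)) (tt N21182 F71407) (tt N22293 (iv F74475)) (tt N21935 (iv F73027)) (tt N22610 (iv F75805)))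
theorem Q21498 : ∀ i, i < 21498 → P i := stepQ 21497 Q21497 (allL N21497 (tt N22293 (iv F74473)) (tt N18911 F71408) (tt N22024 (iv F73371)) (tt N20178 F71409) (tt N18910 (iv D31852)) (tt N22023 F73369) (tt N22024 (iv F73373)))
theorem Q21499 : ∀ i, i < 21499 → P i := stepQ 21498 Q21498 (allL N21498 (tt N21935 (iv F73025)) (tt N18926 F71410) (tt N20550 F71411) (tt N21404 F71412) (tt N22023 (iv F73366)) (tt N18910 (iv D31853)) (tt N22305 (iv F74527)))
theorem Q21500 : ∀ i, i < 21500 → P i := stepQ 21499 Q21499 (allL N21499 (tt N21838 (iv F72622)) (tt N18913 F71413) (tt N19410 F71414) (tt N21921 (iv F72964)) (tt N18912 (iv D31854)) (tt N20552 F71415) (tt N19405 F71416))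
theorem Q21501 : ∀ i, i < 21501 → P i := stepQ 21500 Q21500 (allL N21500 (tt N21458 (iv F71419)) (tt N18915 (iv D31855)) (tt N21520 (iv F71483)) (tt N22154 (iv F73894)) (tt N18916 F71417) (tt N21519 F71481) (tt N19862 F71418))
theorem Q21502 : ∀ i, i < 21502 → P i := stepQ 21501 Q21501 (allL N21501 (tt N18917 (iv D31856)) (tt N20414 (iv F71423)) (tt N22017 (iv F73346)) (tt N19910 F71420) (tt N18918 F71421) (tt N22070 (iv F73592)) (tt N20425 F71422))
theorem Q21503 : ∀ i, i < 21503 → P i := stepQ 21502 Q21502 (allL N21502 (tt N22017 (iv F73350)) (tt N21520 F71486) (tt N18917 (iv D31857)) (tt N22583 (iv F75680)) (tt N18919 F71424) (tt N21521 (iv F71489)) (tt N22029 (iv F73395)))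
theorem Q21504 : ∀ i, i < 21504 → P i := stepQ 21503 Q21503 (allL N21503 (tt N18919 F71425) (tt N20545 F71426) (tt N18918 (iv D31858)) (tt N22269 (iv F74372)) (tt N22017 (iv F73348)) (tt N21523 (iv F71495)) (tt N20553 F71427))
theorem Q21505 : ∀ i, i < 21505 → P i := stepQ 21504 Q21504 (allL N21504 (tt N22269 (iv F74375)) (tt N21516 (iv F71468)) (tt N22624 D32981) (tt N18919 (iv D31859)) (tt N22588 (iv F75703)) (tt N21407 F71428) (tt N22530 (iv F75457)))
theorem Q21506 : ∀ i, i < 21506 → P i := stepQ 21505 Q21505 (allL N21505 (tt N22272 (iv F74384)) (tt N21449 F71429) (tt N18927 F71430) (tt N21131 F71431) (tt N22015 (iv F73341)) (tt N21522 (iv F71492)) (tt N18921 (iv D31860)))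
theorem Q21507 : ∀ i, i < 21507 → P i := stepQ 21506 Q21506 (allL N21506 (tt N21510 (iv F71448)) (tt N18924 (iv D31861)) (tt N21509 (iv F71447)) (tt N19912 F71432) (tt N18925 F71433) (tt N21525 (iv F71502)) (tt N18930 F71434))
theorem Q21508 : ∀ i, i < 21508 → P i := stepQ 21507 Q21507 (allL N21507 (tt N20557 F71435) (tt N22607 (iv F75783)) (tt N22318 F74579) (tt N21421 F71436) (tt N22287 (iv F74447)) (tt N20580 F71437) (tt N18926 (iv D31862)))
theorem Q21509 : ∀ i, i < 21509 → P i := stepQ 21508 Q21508 (allL N21508 (tt N21447 (iv F71443)) (tt N18928 (iv D31863)) (tt N18945 (iv F71441)) (tt N20171 F71438) (tt N18929 F71439) (tt N18944 (iv F71442)) (tt N21447 F71440))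
theorem Q21510 : ∀ i, i < 21510 → P i := stepQ 21509 Q21509 (allL N21509 (tt N18930 (iv D31864)) (tt N20038 F71444) (tt N21506 F71447) (tt N19913 F71445) (tt N18931 F71446) (tt N22625 D32982) (tt N21510 (iv F71452)))
theorem Q21511 : ∀ i, i < 21511 → P i := stepQ 21510 Q21510 (allL N21510 (tt N21506 F71448) (tt N18945 F71449) (tt N18930 (iv D31865)) (tt N19917 F71450) (tt N18932 F71451) (tt N18946 (iv F71453)) (tt N21509 F71452))
theorem Q21512 : ∀ i, i < 21512 → P i := stepQ 21511 Q21511 (allL N21511 (tt N22625 (iv F75860)) (tt N21495 F71454) (tt N18946 F71455) (tt N19915 F71456) (tt N18933 F71457) (tt N18930 (iv D31866)) (tt N18946 F71458))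
theorem Q21513 : ∀ i, i < 21513 → P i := stepQ 21512 Q21512 (allL N21512 (tt N18933 F71459) (tt N22356 (iv F74704)) (tt N18947 F71460) (tt N18934 F71461) (tt N22625 (iv F75864)) (tt N18931 (iv D31867)) (tt N18947 F71462))
theorem Q21514 : ∀ i, i < 21514 → P i := stepQ 21513 Q21513 (allL N21513 (tt N22626 D32983) (tt N18935 (iv D31868)) (tt N22627 D32984) (tt N21919 F72958) (tt N18936 F71463) (tt N22628 D32985) (tt N22309 (iv F74544)))
theorem Q21515 : ∀ i, i < 21515 → P i := stepQ 21514 Q21514 (allL N21514 (tt N18936 (iv D31869)) (tt N22508 (iv F75352)) (tt N22629 D32986) (tt N18940 F71464) (tt N22626 (iv F75868)) (tt N21474 F71465) (tt N22310 (iv F74547)))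
theorem Q21516 : ∀ i, i < 21516 → P i := stepQ 21515 Q21515 (allL N21515 (tt N22629 (iv F75878)) (tt N21417 F71466) (tt N18936 (iv D31870)) (tt N22627 (iv F75872)) (tt N22627 (iv F75871)) (tt N22630 D32987) (tt N22311 (iv F74549)))
theorem Q21517 : ∀ i, i < 21517 → P i := stepQ 21516 Q21516 (allL N21516 (tt N21474 F71467) (tt N21504 F71468) (tt N22630 (iv F75881)) (tt N18942 F71469) (tt N22628 (iv F75876)) (tt N18936 (iv D31871)) (tt N21472 F71470))
theorem Q21518 : ∀ i, i < 21518 → P i := stepQ 21517 Q21517 (allL N21517 (tt N22278 (iv F74406)) (tt N18937 (iv D31872)) (tt N21916 (iv F72946)) (tt N18938 F71471) (tt N21919 (iv F72957)) (tt N22631 D32988) (tt N20776 F71472))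
theorem Q21519 : ∀ i, i < 21519 → P i := stepQ 21518 Q21518 (allL N21518 (tt N18938 (iv D31873)) (tt N22274 F74394) (tt N19881 (iv F71476)) (tt N22278 (iv F74407)) (tt N18940 F71473) (tt N21478 F71475) (tt N20777 F71474))
theorem Q21520 : ∀ i, i < 21520 → P i := stepQ 21519 Q21519 (allL N21519 (tt N19881 F71477) (tt N18944 F71478) (tt N18938 (iv D31874)) (tt N22632 D32989) (tt N18941 F71479) (tt N21500 (iv F71481)) (tt N20778 F71480))
theorem Q21521 : ∀ i, i < 21521 → P i := stepQ 21520 Q21520 (allL N21520 (tt N21478 F71482) (tt N21502 (iv F71486)) (tt N21500 F71483) (tt N22631 (iv F75886)) (tt N18942 F71484) (tt N18938 (iv D31875)) (tt N21476 F71485))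
theorem Q21522 : ∀ i, i < 21522 → P i := stepQ 21521 Q21521 (allL N21521 (tt N22633 D32990) (tt N18939 (iv D31876)) (tt N21495 F71487) (tt N22157 (iv F73906)) (tt N18943 F71488) (tt N21502 F71489) (tt N21494 F71490))
theorem Q21523 : ∀ i, i < 21523 → P i := stepQ 21522 Q21522 (allL N21522 (tt N22318 (iv F74574)) (tt N18940 (iv D31877)) (tt N20557 F71491) (tt N22508 (iv F75354)) (tt N22274 (iv F74392)) (tt N21505 F71492) (tt N22271 (iv F74383)))
theorem Q21524 : ∀ i, i < 21524 → P i := stepQ 21523 Q21523 (allL N21523 (tt N18943 (iv D31878)) (tt N21482 F71493) (tt N20021 F71494) (tt N22532 (iv F75465)) (tt N22633 (iv F75895)) (tt N21503 F71495) (tt N20020 F71496))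
theorem Q21525 : ∀ i, i < 21525 → P i := stepQ 21524 Q21524 (allL N21524 (tt N20757 F71497) (tt N22632 (iv F75890)) (tt N21774 (iv F72352)) (tt N18944 (iv D31879)) (tt N22358 (iv F74717)) (tt N20171 F71498) (tt N21524 F71499))
theorem Q21526 : ∀ i, i < 21526 → P i := stepQ 21525 Q21525 (allL N21525 (tt N18946 (iv D31880)) (tt N22247 (iv F74266)) (tt N22625 (iv F75862)) (tt N19918 F71500) (tt N18947 F71501) (tt N21506 F71502) (tt N22625 (iv F75865)))
theorem Q21527 : ∀ i, i < 21527 → P i := stepQ 21526 Q21526 (allL N21526 (tt N21973 (iv F73171)) (tt N18947 (iv D31881)) (tt N22011 (iv F73320)) (tt N18948 F71503) (tt N22247 (iv F74268)) (tt N20690 F71504) (tt N21972 (iv F73170)))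
theorem Q21528 : ∀ i, i < 21528 → P i := stepQ 21527 Q21527 (allL N21527 (tt N21527 F71505) (tt N18952 F71506) (tt N21528 (iv F71510)) (tt N18951 (iv D31882)) (tt N22357 (iv F74712)) (tt N21273 (iv F71507)) (tt N21528 (iv F71513)))
theorem Q21529 : ∀ i, i < 21529 → P i := stepQ 21528 Q21528 (allL N21528 (tt N21528 F71508) (tt N20898 F71509) (tt N21527 F71510) (tt N21273 F71511) (tt N21412 F71512) (tt N18951 (iv D31883)) (tt N21527 F71513))
theorem Q21530 : ∀ i, i < 21530 → P i := stepQ 21529 Q21529 (allL N21529 (tt N21158 F71514) (tt N18953 (iv D31884)) (tt N22210 (iv F74105)) (tt N21166 F71515) (tt N22492 F75283) (tt N21410 F71516) (tt N22634 D32991))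
theorem Q21531 : ∀ i, i < 21531 → P i := stepQ 21530 Q21530 (allL N21530 (tt N18959 F71517) (tt N22470 (iv F75178)) (tt N18958 (iv D31885)) (tt N21232 (iv F71521)) (tt N18961 F71518) (tt N18961 F71519) (tt N20985 F71520))
theorem Q21532 : ∀ i, i < 21532 → P i := stepQ 21531 Q21531 (allL N21531 (tt N21300 (iv F71524)) (tt N18961 (iv D31886)) (tt N21135 F71522) (tt N21978 (iv F73197)) (tt N22470 (iv F75180)) (tt N21547 (iv F71580)) (tt N19810 F71523))
theorem Q21533 : ∀ i, i < 21533 → P i := stepQ 21532 Q21532 (allL N21532 (tt N18962 F71525) (tt N21978 F73200) (tt N21543 (iv F71561)) (tt N18961 (iv D31887)) (tt N21555 (iv F71612)) (tt N21232 F71526) (tt N21981 (iv F73211)))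
theorem Q21534 : ∀ i, i < 21534 → P i := stepQ 21533 Q21533 (allL N21533 (tt N21543 (iv F71559)) (tt N22425 (iv F74992)) (tt N18962 (iv D31888)) (tt N21538 (iv F71538)) (tt N18995 (iv F71528)) (tt N18998 F71527) (tt N22439 (iv F75038)))
theorem Q21535 : ∀ i, i < 21535 → P i := stepQ 21534 Q21534 (allL N21534 (tt N21555 (iv F71610)) (tt N20945 F71529) (tt N18995 F71530) (tt N18997 F71531) (tt N18962 (iv D31889)) (tt N18997 F71532) (tt N22438 (iv F75030)))
theorem Q21536 : ∀ i, i < 21536 → P i := stepQ 21535 Q21535 (allL N21535 (tt N18963 (iv D31890)) (tt N19197 F71533) (tt N21565 (iv F71646)) (tt N22635 D32992) (tt N21565 (iv F71647)) (tt N22636 D32993) (tt N18963 (iv F71534)))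
theorem Q21537 : ∀ i, i < 21537 → P i := stepQ 21536 Q21536 (allL N21536 (tt N22635 (iv F75904)) (tt N18964 F71535) (tt N22637 D32994) (tt N18963 (iv D31891)) (tt N22638 D32995) (tt N22206 (iv F74088)) (tt N22635 (iv F75906)))
theorem Q21538 : ∀ i, i < 21538 → P i := stepQ 21537 Q21537 (allL N21537 (tt N22636 (iv F75907)) (tt N22207 (iv F74092)) (tt N22437 (iv F75026)) (tt N22206 F74090) (tt N22437 (iv F75027)) (tt N18963 (iv D31892)) (tt N21537 F71536))
theorem Q21539 : ∀ i, i < 21539 → P i := stepQ 21538 Q21538 (allL N21538 (tt N18966 F71537) (tt N22639 D32996) (tt N18964 (iv D31893)) (tt N21533 F71538) (tt N20255 (iv F71539)) (tt N20129 (iv F71540)) (tt N21539 (iv F71543)))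
theorem Q21540 : ∀ i, i < 21540 → P i := stepQ 21539 Q21539 (allL N21539 (tt N18967 F71541) (tt N22638 (iv F75910)) (tt N20255 F71542) (tt N22439 (iv F75036)) (tt N18964 (iv D31894)) (tt N20251 (iv F71544)) (tt N21538 F71543))
theorem Q21541 : ∀ i, i < 21541 → P i := stepQ 21540 Q21540 (allL N21540 (tt N18968 F71545) (tt N20128 (iv F71550)) (tt N20129 F71546) (tt N18965 F71547) (tt N20251 F71548) (tt N18964 (iv D31895)) (tt N20254 F71549))
theorem Q21542 : ∀ i, i < 21542 → P i := stepQ 21541 Q21541 (allL N21541 (tt N22208 (iv F74095)) (tt N18965 (iv D31896)) (tt N22470 (iv F75179)) (tt N20128 F71551) (tt N21135 F71552) (tt N22207 (iv F74093)) (tt N20288 F71553))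
theorem Q21543 : ∀ i, i < 21543 → P i := stepQ 21542 Q21542 (allL N21542 (tt N22510 (iv F75359)) (tt N18966 (iv D31897)) (tt N18972 F71554) (tt N21136 (iv F71557)) (tt N20283 F71555) (tt N21178 (iv F71558)) (tt N20287 F71556))
theorem Q21544 : ∀ i, i < 21544 → P i := stepQ 21543 Q21543 (allL N21543 (tt N21533 F71559) (tt N21136 F71560) (tt N21532 F71561) (tt N18966 (iv D31898)) (tt N18987 F71562) (tt N21045 F71564) (tt N20968 F71563))
theorem Q21545 : ∀ i, i < 21545 → P i := stepQ 21544 Q21544 (allL N21544 (tt N20129 F71565) (tt N21046 F71566) (tt N18968 F71567) (tt N21045 F71568) (tt N20254 F71569) (tt N18966 (iv D31899)) (tt N20251 F71570))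
theorem Q21546 : ∀ i, i < 21546 → P i := stepQ 21545 Q21545 (allL N21545 (tt N20251 F71571) (tt N21595 (iv F71722)) (tt N20254 F71572) (tt N21564 (iv F71642)) (tt N18968 F71573) (tt N18967 (iv D31900)) (tt N20129 F71574))
theorem Q21547 : ∀ i, i < 21547 → P i := stepQ 21546 Q21546 (allL N21546 (tt N19224 F71575) (tt N18968 (iv D31901)) (tt N21075 F71576) (tt N18969 F71577) (tt N21595 (iv F71724)) (tt N18976 F71578) (tt N20256 F71579))
theorem Q21548 : ∀ i, i < 21548 → P i := stepQ 21547 Q21547 (allL N21547 (tt N18972 (iv D31902)) (tt N22238 (iv F74228)) (tt N22510 (iv F75361)) (tt N21784 (iv F72401)) (tt N22238 F74231) (tt N21531 F71580) (tt N20996 (iv F71581)))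
theorem Q21549 : ∀ i, i < 21549 → P i := stepQ 21548 Q21548 (allL N21548 (tt N22238 (iv F74227)) (tt N18973 F71582) (tt N20283 F71583) (tt N20166 F71584) (tt N18972 (iv D31903)) (tt N22385 (iv F74840)) (tt N20286 (iv F71585)))
theorem Q21550 : ∀ i, i < 21550 → P i := stepQ 21549 Q21549 (allL N21549 (tt N20996 F71586) (tt N22634 (iv F75899)) (tt N20287 F71587) (tt N21786 (iv F72406)) (tt N20286 F71588) (tt N19810 F71589) (tt N18972 (iv D31904)))
theorem Q21551 : ∀ i, i < 21551 → P i := stepQ 21550 Q21550 (allL N21550 (tt N21596 (iv F71726)) (tt N18975 (iv D31905)) (tt N21657 (iv F71912)) (tt N20693 F71590) (tt N18976 F71591) (tt N21595 (iv F71725)) (tt N19009 F71592))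
theorem Q21552 : ∀ i, i < 21552 → P i := stepQ 21551 Q21551 (allL N21551 (tt N18976 (iv D31906)) (tt N21398 (iv F71596)) (tt N21679 (iv F71999)) (tt N18977 F71593) (tt N21596 (iv F71730)) (tt N19224 F71594) (tt N21271 F71595))
theorem Q21553 : ∀ i, i < 21553 → P i := stepQ 21552 Q21552 (allL N21552 (tt N21679 F72003) (tt N19820 F71597) (tt N18976 (iv D31907)) (tt N19821 F71600) (tt N21657 (iv F71914)) (tt N21075 F71598) (tt N19167 F71599))
theorem Q21554 : ∀ i, i < 21554 → P i := stepQ 21553 Q21553 (allL N21553 (tt N20142 F71601) (tt N21553 F71602) (tt N22147 (iv F73872)) (tt N18979 (iv D31908)) (tt N21186 (iv F71604)) (tt N22185 (iv F73994)) (tt N18982 F71603))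
theorem Q21555 : ∀ i, i < 21555 → P i := stepQ 21554 Q21554 (allL N21554 (tt N20308 F71605) (tt N18984 F71606) (tt N20832 F71609) (tt N18980 (iv D31909)) (tt N21138 F71607) (tt N22223 (iv F74164)) (tt N20305 F71608))
theorem Q21556 : ∀ i, i < 21556 → P i := stepQ 21555 Q21555 (allL N21555 (tt N21534 F71610) (tt N21051 F71615) (tt N18987 (iv D31910)) (tt N21050 F71611) (tt N21532 F71612) (tt N21050 F71613) (tt N20967 F71614))
theorem Q21557 : ∀ i, i < 21557 → P i := stepQ 21556 Q21556 (allL N21556 (tt N21903 (iv F72888)) (tt N18990 F71616) (tt N19016 F71617) (tt N21858 (iv F72698)) (tt N18988 (iv D31911)) (tt N19207 F71618) (tt N22640 D32997))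
theorem Q21558 : ∀ i, i < 21558 → P i := stepQ 21557 Q21557 (allL N21557 (tt N21848 (iv F72661)) (tt N21557 F71619) (tt N19017 F71620) (tt N20003 F71621) (tt N22640 (iv F75921)) (tt N19652 F71622) (tt N18988 (iv D31912)))
theorem Q21559 : ∀ i, i < 21559 → P i := stepQ 21558 Q21558 (allL N21558 (tt N21742 (iv F72222)) (tt N21858 F72700) (tt N22641 D32998) (tt N18990 (iv D31913)) (tt N21741 F72221) (tt N22642 D32999) (tt N21558 F71623))
theorem Q21560 : ∀ i, i < 21560 → P i := stepQ 21559 Q21559 (allL N21559 (tt N19650 F71624) (tt N19641 (iv F71628)) (tt N18992 F71625) (tt N22642 (iv F75930)) (tt N18991 F71626) (tt N18990 (iv D31914)) (tt N19650 F71627))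
theorem Q21561 : ∀ i, i < 21561 → P i := stepQ 21560 Q21560 (allL N21560 (tt N21580 (iv F71679)) (tt N18992 (iv D31915)) (tt N22643 D33000) (tt N21733 F72191) (tt N18993 F71629) (tt N19021 F71630) (tt N21575 (iv F71672)))
theorem Q21562 : ∀ i, i < 21562 → P i := stepQ 21561 Q21561 (allL N21561 (tt N19567 F71631) (tt N19638 F71632) (tt N18993 (iv D31916)) (tt N19562 (iv F71634)) (tt N22643 (iv F75935)) (tt N19023 F71633) (tt N21574 (iv F71670)))
theorem Q21563 : ∀ i, i < 21563 → P i := stepQ 21562 Q21562 (allL N21562 (tt N21571 (iv F71657)) (tt N18995 F71635) (tt N21224 F71637) (tt N18994 (iv D31917)) (tt N22425 (iv F74993)) (tt N19026 F71636) (tt N21566 (iv F71650)))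
theorem Q21564 : ∀ i, i < 21564 → P i := stepQ 21563 Q21563 (allL N21563 (tt N22440 (iv F75039)) (tt N22469 (iv F75173)) (tt N18999 F71638) (tt N22438 (iv F75031)) (tt N20986 F71639) (tt N20967 F71640) (tt N18997 (iv D31918)))
theorem Q21565 : ∀ i, i < 21565 → P i := stepQ 21564 Q21564 (allL N21564 (tt N22190 (iv F74009)) (tt N22354 (iv F74695)) (tt N20986 F71641) (tt N21545 F71642) (tt N18999 F71643) (tt N20968 F71644) (tt N18998 (iv D31919)))
theorem Q21566 : ∀ i, i < 21566 → P i := stepQ 21565 Q21565 (allL N21565 (tt N20965 F71645) (tt N19001 (iv D31920)) (tt N21535 F71646) (tt N22644 D33001) (tt N21535 F71647) (tt N22645 D33002) (tt N20965 F71648))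
theorem Q21567 : ∀ i, i < 21567 → P i := stepQ 21566 Q21566 (allL N21566 (tt N19002 F71649) (tt N22644 (iv F75939)) (tt N22548 (iv F75535)) (tt N19001 (iv D31921)) (tt N22646 D33003) (tt N22647 D33004) (tt N21562 F71650))
theorem Q21568 : ∀ i, i < 21568 → P i := stepQ 21567 Q21567 (allL N21567 (tt N19003 F71651) (tt N22459 (iv F75125)) (tt N19011 F71652) (tt N22647 (iv F75952)) (tt N21737 (iv F72205)) (tt N19001 (iv D31922)) (tt N19025 F71653))
theorem Q21569 : ∀ i, i < 21569 → P i := stepQ 21568 Q21568 (allL N21568 (tt N22548 (iv F75534)) (tt N22648 D33005) (tt N19002 (iv D31923)) (tt N22522 (iv F75421)) (tt N22527 (iv F75443)) (tt N22520 F75412) (tt N22547 F75533))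
theorem Q21570 : ∀ i, i < 21570 → P i := stepQ 21569 Q21569 (allL N21569 (tt N22646 (iv F75946)) (tt N19006 F71654) (tt N22527 (iv F75441)) (tt N21738 (iv F72208)) (tt N19002 (iv D31924)) (tt N22468 (iv F75170)) (tt N21965 F73146))
theorem Q21571 : ∀ i, i < 21571 → P i := stepQ 21570 Q21570 (allL N21570 (tt N22647 (iv F75950)) (tt N22466 (iv F75159)) (tt N22520 (iv F75409)) (tt N19003 F71655) (tt N22468 (iv F75169)) (tt N19002 (iv D31925)) (tt N19026 F71656))
theorem Q21572 : ∀ i, i < 21572 → P i := stepQ 21571 Q21571 (allL N21571 (tt N21562 F71657) (tt N21254 F71658) (tt N22547 (iv F75529)) (tt N19004 F71659) (tt N21965 (iv F73145)) (tt N21593 (iv F71716)) (tt N19002 (iv D31926)))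
theorem Q21573 : ∀ i, i < 21573 → P i := stepQ 21572 Q21572 (allL N21572 (tt N22135 (iv F73827)) (tt N19003 (iv D31927)) (tt N21281 F71660) (tt N22466 (iv F75161)) (tt N21272 F71661) (tt N19009 F71662) (tt N19030 F71663))
theorem Q21574 : ∀ i, i < 21574 → P i := stepQ 21573 Q21573 (allL N21573 (tt N19782 (iv F71666)) (tt N19005 (iv D31928)) (tt N22648 (iv F75956)) (tt N20497 F71664) (tt N19780 F71665) (tt N21989 (iv F73238)) (tt N19778 (iv F71667)))
theorem Q21575 : ∀ i, i < 21575 → P i := stepQ 21574 Q21574 (allL N21574 (tt N19012 F71668) (tt N19184 F71669) (tt N19010 (iv D31929)) (tt N21815 (iv F72531)) (tt N22649 D33006) (tt N21645 (iv F71872)) (tt N21561 F71670))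
theorem Q21576 : ∀ i, i < 21576 → P i := stepQ 21575 Q21575 (allL N21575 (tt N19013 F71671) (tt N21732 (iv F72183)) (tt N22649 (iv F75964)) (tt N21732 (iv F72184)) (tt N19010 (iv D31930)) (tt N22650 D33007) (tt N21560 F71672))
theorem Q21577 : ∀ i, i < 21577 → P i := stepQ 21576 Q21576 (allL N21576 (tt N19014 F71673) (tt N22651 D33008) (tt N21645 (iv F71870)) (tt N19011 F71674) (tt N22650 (iv F75967)) (tt N19010 (iv D31931)) (tt N19022 F71675))
theorem Q21578 : ∀ i, i < 21578 → P i := stepQ 21577 Q21577 (allL N21577 (tt N19190 F71778) (tt N19011 (iv D31932)) (tt N22176 (iv F73967)) (tt N22651 (iv F75969)) (tt N21615 (iv F71779)) (tt N21615 (iv F71780)) (tt N21651 (iv F71891)))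
theorem Q21579 : ∀ i, i < 21579 → P i := stepQ 21578 Q21578 (allL N21578 (tt N22649 (iv F75962)) (tt N21810 (iv F72512)) (tt N19013 F71676) (tt N21899 (iv F72875)) (tt N19012 (iv D31933)) (tt N21644 F71869) (tt N21900 (iv F72879)))
theorem Q21580 : ∀ i, i < 21580 → P i := stepQ 21579 Q21579 (allL N21579 (tt N22650 (iv F75966)) (tt N21620 (iv F71791)) (tt N21644 (iv F71866)) (tt N21734 (iv F72195)) (tt N19014 F71677) (tt N19013 (iv D31934)) (tt N19021 F71678))
theorem Q21581 : ∀ i, i < 21581 → P i := stepQ 21580 Q21580 (allL N21580 (tt N21560 F71679) (tt N19049 F71680) (tt N21900 (iv F72880)) (tt N21726 (iv F72164)) (tt N19015 F71681) (tt N21585 (iv F71697)) (tt N19013 (iv D31935)))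
theorem Q21582 : ∀ i, i < 21582 → P i := stepQ 21581 Q21581 (allL N21581 (tt N21748 (iv F72244)) (tt N19071 F71682) (tt N22640 (iv F75920)) (tt N19156 F71683) (tt N19017 F71684) (tt N19649 F71685) (tt N19016 (iv D31936)))
theorem Q21583 : ∀ i, i < 21583 → P i := stepQ 21582 Q21582 (allL N21582 (tt N21816 (iv F72535)) (tt N19129 F71686) (tt N19018 (iv D31937)) (tt N21932 (iv F73013)) (tt N19127 F71687) (tt N22652 D33009) (tt N19073 F71688))
theorem Q21584 : ∀ i, i < 21584 → P i := stepQ 21583 Q21583 (allL N21583 (tt N21642 (iv F71859)) (tt N19206 F71689) (tt N22652 (iv F75972)) (tt N19019 F71690) (tt N19155 F71691) (tt N19018 (iv D31938)) (tt N19449 F71692))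
theorem Q21585 : ∀ i, i < 21585 → P i := stepQ 21584 Q21584 (allL N21584 (tt N21635 (iv F71837)) (tt N19019 (iv D31939)) (tt N21643 (iv F71863)) (tt N19206 F71693) (tt N19020 F71694) (tt N19205 F71695) (tt N21631 (iv F71825)))
theorem Q21586 : ∀ i, i < 21586 → P i := stepQ 21585 Q21585 (allL N21585 (tt N19021 (iv D31940)) (tt N22653 D33010) (tt N22654 D33011) (tt N21752 (iv F72262)) (tt N19022 F71696) (tt N21580 F71697) (tt N22650 (iv F75968)))
theorem Q21587 : ∀ i, i < 21587 → P i := stepQ 21586 Q21586 (allL N21586 (tt N22654 (iv F75977)) (tt N21643 F71865) (tt N19021 (iv D31941)) (tt N22655 D33012) (tt N19023 F71698) (tt N22643 (iv F75936)) (tt N21644 (iv F71868)))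
theorem Q21588 : ∀ i, i < 21588 → P i := stepQ 21587 Q21587 (allL N21587 (tt N22656 D33013) (tt N19022 (iv D31942)) (tt N21612 (iv F71769)) (tt N19024 F71699) (tt N22653 (iv F75976)) (tt N21613 (iv F71772)) (tt N22657 D33014))
theorem Q21589 : ∀ i, i < 21589 → P i := stepQ 21588 Q21588 (allL N21588 (tt N19023 F71700) (tt N19644 (iv F71703)) (tt N19022 (iv D31943)) (tt N19568 F71702) (tt N22654 (iv F75978)) (tt N19567 F71701) (tt N21645 (iv F71873)))
theorem Q21590 : ∀ i, i < 21590 → P i := stepQ 21589 Q21589 (allL N21589 (tt N19024 (iv D31944)) (tt N21649 (iv F71883)) (tt N22658 D33015) (tt N22656 (iv F75986)) (tt N21591 (iv F71708)) (tt N21617 (iv F71783)) (tt N19220 (iv F71704)))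
theorem Q21591 : ∀ i, i < 21591 → P i := stepQ 21590 Q21590 (allL N21590 (tt N22658 (iv F75991)) (tt N21341 (iv F71706)) (tt N19024 (iv D31945)) (tt N22081 (iv F73630)) (tt N21755 (iv F72272)) (tt N20221 F71705) (tt N22578 (iv F75666)))
theorem Q21592 : ∀ i, i < 21592 → P i := stepQ 21591 Q21591 (allL N21591 (tt N19220 F71707) (tt N21651 (iv F71889)) (tt N22578 F75667) (tt N22657 (iv F75990)) (tt N21589 F71708) (tt N21625 F71808) (tt N19024 (iv D31946)))
theorem Q21593 : ∀ i, i < 21593 → P i := stepQ 21592 Q21592 (allL N21592 (tt N19726 F71711) (tt N19025 (iv D31947)) (tt N21341 F71709) (tt N19709 (iv F71713)) (tt N21756 (iv F72277)) (tt N21338 F71710) (tt N19707 F71712))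
theorem Q21594 : ∀ i, i < 21594 → P i := stepQ 21593 Q21593 (allL N21593 (tt N19026 F71714) (tt N19709 F71715) (tt N22519 (iv F75402)) (tt N19025 (iv D31948)) (tt N19711 (iv F71717)) (tt N21571 F71716) (tt N22647 (iv F75954)))
theorem Q21595 : ∀ i, i < 21595 → P i := stepQ 21594 Q21594 (allL N21594 (tt N22354 (iv F74694)) (tt N19029 (iv D31949)) (tt N20683 F71718) (tt N19030 F71719) (tt N19731 F71720) (tt N19728 F71721) (tt N22466 (iv F75163)))
theorem Q21596 : ∀ i, i < 21596 → P i := stepQ 21595 Q21595 (allL N21595 (tt N19030 (iv D31950)) (tt N21545 F71722) (tt N21280 F71723) (tt N22354 (iv F74697)) (tt N21546 F71724) (tt N21550 F71725) (tt N22135 (iv F73826)))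
theorem Q21597 : ∀ i, i < 21597 → P i := stepQ 21596 Q21596 (allL N21596 (tt N21550 F71726) (tt N19726 F71727) (tt N19115 F71728) (tt N19728 F71729) (tt N21551 F71730) (tt N19030 (iv D31951)) (tt N21038 F71731))
theorem Q21598 : ∀ i, i < 21598 → P i := stepQ 21597 Q21597 (allL N21597 (tt N22659 D33016) (tt N19037 (iv D31952)) (tt N21964 (iv F73141)) (tt N22468 (iv F75168)) (tt N21739 (iv F72212)) (tt N21738 F72209) (tt N21759 (iv F72289)))
theorem Q21599 : ∀ i, i < 21599 → P i := stepQ 21598 Q21598 (allL N21598 (tt N21598 F71732) (tt N22576 (iv F75657)) (tt N19039 (iv D31953)) (tt N22575 (iv F75655)) (tt N22660 D33017) (tt N21715 (iv F72123)) (tt N21715 (iv F72124)))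
theorem Q21600 : ∀ i, i < 21600 → P i := stepQ 21599 Q21599 (allL N21599 (tt N21599 F71733) (tt N19041 F71734) (tt N22660 (iv F76002)) (tt N21716 (iv F72127)) (tt N19039 (iv D31954)) (tt N21716 (iv F72128)) (tt N21716 (iv F72129)))
theorem Q21601 : ∀ i, i < 21601 → P i := stepQ 21600 Q21600 (allL N21600 (tt N19653 F71735) (tt N19040 (iv D31955)) (tt N22576 (iv F75658)) (tt N19646 F71736) (tt N22642 (iv F75931)) (tt N21741 (iv F72219)) (tt N19653 F71737))
theorem Q21602 : ∀ i, i < 21602 → P i := stepQ 21601 Q21601 (allL N21601 (tt N19045 F71738) (tt N22642 (iv F75929)) (tt N19041 F71739) (tt N19641 F71740) (tt N19040 (iv D31956)) (tt N21857 F72695) (tt N19639 F71741))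
theorem Q21603 : ∀ i, i < 21603 → P i := stepQ 21602 Q21602 (allL N21602 (tt N19048 F71742) (tt N21719 (iv F72139)) (tt N21857 (iv F72691)) (tt N21719 (iv F72141)) (tt N19042 F71743) (tt N19041 (iv D31957)) (tt N21611 (iv F71768)))
theorem Q21604 : ∀ i, i < 21604 → P i := stepQ 21603 Q21603 (allL N21603 (tt N19049 F71744) (tt N21720 (iv F72144)) (tt N19639 F71745) (tt N21720 (iv F72145)) (tt N19043 F71746) (tt N21610 (iv F71765)) (tt N19041 (iv D31958)))
theorem Q21605 : ∀ i, i < 21605 → P i := stepQ 21604 Q21604 (allL N21604 (tt N19641 F71747) (tt N21851 (iv F72674)) (tt N22367 (iv F74759)) (tt N19045 (iv D31959)) (tt N19633 F71748) (tt N21930 (iv F73005)) (tt N19631 (iv F71749)))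
theorem Q21606 : ∀ i, i < 21606 → P i := stepQ 21605 Q21605 (allL N21605 (tt N21857 F72694) (tt N22661 D33018) (tt N19048 F71750) (tt N21930 (iv F73003)) (tt N19046 F71751) (tt N19045 (iv D31960)) (tt N21929 (iv F73000)))
theorem Q21607 : ∀ i, i < 21607 → P i := stepQ 21606 Q21606 (allL N21606 (tt N19639 F71752) (tt N21903 (iv F72889)) (tt N19049 F71753) (tt N19631 F71754) (tt N19047 F71755) (tt N22662 D33019) (tt N19045 (iv D31961)))
theorem Q21608 : ∀ i, i < 21608 → P i := stepQ 21607 Q21607 (allL N21607 (tt N19151 (iv F71757)) (tt N19046 (iv D31962)) (tt N19149 F71756) (tt N21809 (iv F72509)) (tt N22661 (iv F76005)) (tt N21687 (iv F72036)) (tt N21751 (iv F72261)))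
theorem Q21609 : ∀ i, i < 21609 → P i := stepQ 21608 Q21608 (allL N21608 (tt N19644 F71758) (tt N21724 (iv F72157)) (tt N19052 F71759) (tt N19634 F71760) (tt N22662 (iv F76010)) (tt N19047 (iv D31963)) (tt N19451 F71761))
theorem Q21610 : ∀ i, i < 21610 → P i := stepQ 21609 Q21609 (allL N21609 (tt N21619 (iv F71786)) (tt N19048 (iv D31964)) (tt N21618 F71785) (tt N21703 (iv F72084)) (tt N19050 F71762) (tt N19056 F71763) (tt N21646 (iv F71875)))
theorem Q21611 : ∀ i, i < 21611 → P i := stepQ 21610 Q21610 (allL N21610 (tt N21611 (iv F71766)) (tt N22663 D33020) (tt N21929 (iv F72997)) (tt N21725 (iv F72161)) (tt N19051 F71764) (tt N21603 F71765) (tt N19048 (iv D31965)))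
theorem Q21612 : ∀ i, i < 21612 → P i := stepQ 21611 Q21611 (allL N21611 (tt N21610 F71766) (tt N22664 D33021) (tt N22662 (iv F76008)) (tt N21727 (iv F72168)) (tt N19052 F71767) (tt N19049 (iv D31966)) (tt N21602 F71768))
theorem Q21613 : ∀ i, i < 21613 → P i := stepQ 21612 Q21612 (allL N21612 (tt N22665 D33022) (tt N19051 (iv D31967)) (tt N21587 F71769) (tt N19054 F71770) (tt N22663 (iv F76013)) (tt N21728 (iv F72173)) (tt N21647 (iv F71877)))
theorem Q21614 : ∀ i, i < 21614 → P i := stepQ 21613 Q21613 (allL N21613 (tt N22666 D33023) (tt N19052 (iv D31968)) (tt N21728 (iv F72171)) (tt N19055 F71771) (tt N22664 (iv F76014)) (tt N21587 F71772) (tt N21729 (iv F72177)))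
theorem Q21615 : ∀ i, i < 21615 → P i := stepQ 21614 Q21614 (allL N21614 (tt N21648 (iv F71878)) (tt N22229 (iv F74187)) (tt N19062 F71774) (tt N19053 (iv D31969)) (tt N22667 D33024) (tt N19062 F71773) (tt N21653 (iv F71896)))
theorem Q21616 : ∀ i, i < 21616 → P i := stepQ 21615 Q21615 (allL N21615 (tt N19054 (iv D31970)) (tt N19198 (iv F71781)) (tt N22668 D33025) (tt N22665 (iv F76017)) (tt N21577 F71779) (tt N21577 F71780) (tt N21649 (iv F71884)))
theorem Q21617 : ∀ i, i < 21617 → P i := stepQ 21616 Q21616 (allL N21616 (tt N22668 (iv F76029)) (tt N20112 F71775) (tt N19054 (iv D31971)) (tt N22669 D33026) (tt N20228 F71776) (tt N20228 F71777) (tt N21650 (iv F71886)))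
theorem Q21618 : ∀ i, i < 21618 → P i := stepQ 21617 Q21617 (allL N21617 (tt N19055 (iv D31972)) (tt N19150 F71782) (tt N22169 (iv F73948)) (tt N22666 (iv F76022)) (tt N21625 (iv F71806)) (tt N21589 F71783) (tt N21625 (iv F71807)))
theorem Q21619 : ∀ i, i < 21619 → P i := stepQ 21618 Q21618 (allL N21618 (tt N19056 (iv D31973)) (tt N21700 (iv F72075)) (tt N21609 (iv F71785)) (tt N21700 (iv F72076)) (tt N19057 F71784) (tt N21619 (iv F71789)) (tt N22670 D33027))
theorem Q21620 : ∀ i, i < 21620 → P i := stepQ 21619 Q21619 (allL N21619 (tt N21609 F71786) (tt N19082 F71787) (tt N19056 (iv D31974)) (tt N21686 (iv F72031)) (tt N19058 F71788) (tt N21618 F71789) (tt N19083 (iv F71790)))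
theorem Q21621 : ∀ i, i < 21621 → P i := stepQ 21620 Q21620 (allL N21620 (tt N22670 (iv F76036)) (tt N21579 F71791) (tt N19083 F71792) (tt N21704 (iv F72086)) (tt N19059 F71793) (tt N19083 F71794) (tt N19056 (iv D31975)))
theorem Q21622 : ∀ i, i < 21622 → P i := stepQ 21621 Q21621 (allL N21621 (tt N19059 F71795) (tt N22671 D33028) (tt N19084 F71796) (tt N19061 F71797) (tt N22670 (iv F76038)) (tt N19084 F71798) (tt N19057 (iv D31976)))
theorem Q21623 : ∀ i, i < 21623 → P i := stepQ 21622 Q21622 (allL N21622 (tt N19103 F71799) (tt N19060 (iv D31977)) (tt N21691 (iv F72050)) (tt N22672 D33029) (tt N21691 (iv F72051)) (tt N19103 F71800) (tt N22673 D33030))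
theorem Q21624 : ∀ i, i < 21624 → P i := stepQ 21623 Q21623 (allL N21623 (tt N19062 F71801) (tt N22672 (iv F76045)) (tt N21648 (iv F71880)) (tt N19060 (iv D31978)) (tt N22674 D33031) (tt N21648 (iv F71881)) (tt N21654 (iv F71902)))
theorem Q21625 : ∀ i, i < 21625 → P i := stepQ 21624 Q21624 (allL N21624 (tt N19063 F71802) (tt N22182 (iv F73983)) (tt N19061 F71803) (tt N21654 (iv F71900)) (tt N21693 (iv F72057)) (tt N19087 F71804) (tt N19060 (iv D31979)))
theorem Q21626 : ∀ i, i < 21626 → P i := stepQ 21625 Q21625 (allL N21625 (tt N19192 F71805) (tt N19061 (iv D31980)) (tt N22675 D33032) (tt N22671 (iv F76041)) (tt N21617 F71806) (tt N21591 (iv F71808)) (tt N21617 F71807))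
theorem Q21627 : ∀ i, i < 21627 → P i := stepQ 21626 Q21626 (allL N21626 (tt N22674 (iv F76049)) (tt N19065 F71809) (tt N22667 (iv F76025)) (tt N21695 (iv F72060)) (tt N19062 (iv D31981)) (tt N22667 (iv F76027)) (tt N21714 (iv F72121)))
theorem Q21628 : ∀ i, i < 21628 → P i := stepQ 21627 Q21627 (allL N21627 (tt N21654 (iv F71898)) (tt N21014 F71810) (tt N21653 (iv F71897)) (tt N19063 F71811) (tt N21714 (iv F72119)) (tt N19088 (iv F71812)) (tt N19062 (iv D31982)))
theorem Q21629 : ∀ i, i < 21629 → P i := stepQ 21628 Q21628 (allL N21628 (tt N22441 (iv F75044)) (tt N19064 (iv D31983)) (tt N22229 (iv F74188)) (tt N21292 F71813) (tt N20983 F71814) (tt N22227 F74180) (tt N20978 F71815))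
theorem Q21630 : ∀ i, i < 21630 → P i := stepQ 21629 Q21629 (allL N21629 (tt N19066 (iv D31984)) (tt N19652 F71816) (tt N22566 (iv F75615)) (tt N21297 F71817) (tt N21684 (iv F72024)) (tt N21629 F71818) (tt N21717 (iv F72133)))
theorem Q21631 : ∀ i, i < 21631 → P i := stepQ 21630 Q21630 (allL N21630 (tt N21684 (iv F72023)) (tt N19067 F71819) (tt N22567 (iv F75618)) (tt N19081 F71820) (tt N19066 (iv D31985)) (tt N21630 F71821) (tt N21859 (iv F72703)))
theorem Q21632 : ∀ i, i < 21632 → P i := stepQ 21631 Q21631 (allL N21631 (tt N19069 F71822) (tt N19081 F71823) (tt N19075 (iv F71826)) (tt N19067 (iv D31986)) (tt N19078 F71824) (tt N22676 D33033) (tt N21584 F71825))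
theorem Q21633 : ∀ i, i < 21633 → P i := stepQ 21632 Q21632 (allL N21632 (tt N19070 F71827) (tt N21632 F71828) (tt N21632 F71829) (tt N22676 (iv F76058)) (tt N19068 F71830) (tt N19067 (iv D31987)) (tt N19204 F71831))
theorem Q21634 : ∀ i, i < 21634 → P i := stepQ 21633 Q21633 (allL N21633 (tt N19075 F71832) (tt N22365 (iv F74751)) (tt N19069 (iv D31988)) (tt N20779 (iv F71834)) (tt N19077 F71833) (tt N22677 D33034) (tt N21749 (iv F72251)))
theorem Q21635 : ∀ i, i < 21635 → P i := stepQ 21634 Q21634 (allL N21634 (tt N22676 (iv F76055)) (tt N22678 D33035) (tt N22677 (iv F76062)) (tt N19070 F71835) (tt N21844 (iv F72647)) (tt N19069 (iv D31989)) (tt N19205 F71836))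
theorem Q21636 : ∀ i, i < 21636 → P i := stepQ 21635 Q21635 (allL N21635 (tt N21584 F71837) (tt N19156 F71838) (tt N21749 (iv F72249)) (tt N19071 F71839) (tt N19157 F71840) (tt N21743 (iv F72229)) (tt N19069 (iv D31990)))
theorem Q21637 : ∀ i, i < 21637 → P i := stepQ 21636 Q21636 (allL N21636 (tt N22677 (iv F76061)) (tt N19070 (iv D31991)) (tt N22676 (iv F76057)) (tt N22678 (iv F76066)) (tt N19072 F71841) (tt N19075 F71842) (tt N19209 F71843))
theorem Q21638 : ∀ i, i < 21638 → P i := stepQ 21637 Q21637 (allL N21637 (tt N19072 (iv D31992)) (tt N22679 D33036) (tt N21844 (iv F72645)) (tt N20782 F71844) (tt N22677 (iv F76064)) (tt N19077 F71845) (tt N19211 F71846))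
theorem Q21639 : ∀ i, i < 21639 → P i := stepQ 21638 Q21638 (allL N21638 (tt N21844 (iv F72644)) (tt N21638 F71847) (tt N19072 (iv D31993)) (tt N21843 (iv F72641)) (tt N22676 (iv F76059)) (tt N19078 F71848) (tt N19212 F71849))
theorem Q21640 : ∀ i, i < 21640 → P i := stepQ 21639 Q21639 (allL N21639 (tt N21855 (iv F72683)) (tt N19073 (iv D31994)) (tt N22365 (iv F74752)) (tt N21931 (iv F73007)) (tt N19441 F71850) (tt N21849 (iv F72668)) (tt N19439 (iv F71851)))
theorem Q21641 : ∀ i, i < 21641 → P i := stepQ 21640 Q21640 (allL N21640 (tt N21858 (iv F72696)) (tt N19631 (iv F71854)) (tt N19074 F71852) (tt N21903 (iv F72890)) (tt N19628 F71853) (tt N19073 (iv D31995)) (tt N22680 D33037))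
theorem Q21642 : ∀ i, i < 21642 → P i := stepQ 21641 Q21641 (allL N21641 (tt N20779 (iv F71858)) (tt N19074 (iv D31996)) (tt N20779 F71855) (tt N19075 F71856) (tt N20773 F71857) (tt N22678 (iv F76068)) (tt N22383 (iv F74830)))
theorem Q21643 : ∀ i, i < 21643 → P i := stepQ 21642 Q21642 (allL N21642 (tt N21583 F71859) (tt N22681 D33038) (tt N22680 (iv F76079)) (tt N19076 F71860) (tt N19356 F71861) (tt N19354 F71862) (tt N19074 (iv D31997)))
theorem Q21644 : ∀ i, i < 21644 → P i := stepQ 21643 Q21643 (allL N21643 (tt N21749 (iv F72248)) (tt N21586 (iv F71865)) (tt N21584 F71863) (tt N22383 (iv F74828)) (tt N19079 F71864) (tt N21744 (iv F72233)) (tt N19075 (iv D31998)))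
theorem Q21645 : ∀ i, i < 21645 → P i := stepQ 21644 Q21644 (allL N21644 (tt N22682 D33039) (tt N19076 (iv D31999)) (tt N21579 F71866) (tt N22681 (iv F76083)) (tt N19080 F71867) (tt N21578 (iv F71869)) (tt N21586 F71868))
theorem Q21646 : ∀ i, i < 21646 → P i := stepQ 21645 Q21645 (allL N21645 (tt N19080 (iv D32000)) (tt N21751 (iv F72257)) (tt N21576 F71870) (tt N19358 F71871) (tt N22682 (iv F76088)) (tt N21574 F71872) (tt N21588 F71873))
theorem Q21647 : ∀ i, i < 21647 → P i := stepQ 21646 Q21646 (allL N21646 (tt N19083 (iv D32001)) (tt N22683 D33040) (tt N22670 (iv F76037)) (tt N21705 (iv F72089)) (tt N19084 F71874) (tt N22670 (iv F76039)) (tt N21609 F71875))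
theorem Q21648 : ∀ i, i < 21648 → P i := stepQ 21647 Q21647 (allL N21647 (tt N22684 D33041) (tt N19084 (iv D32002)) (tt N22657 (iv F75989)) (tt N19086 F71876) (tt N22683 (iv F76091)) (tt N22685 D33042) (tt N21612 F71877))
theorem Q21649 : ∀ i, i < 21649 → P i := stepQ 21648 Q21648 (allL N21648 (tt N21614 F71878) (tt N20243 F71879) (tt N21623 F71880) (tt N19085 (iv D32003)) (tt N22686 D33043) (tt N21623 F71881) (tt N19088 F71882))
theorem Q21650 : ∀ i, i < 21650 → P i := stepQ 21649 Q21649 (allL N21649 (tt N19086 (iv D32004)) (tt N21589 F71883) (tt N22591 F75717) (tt N22684 (iv F76095)) (tt N21651 (iv F71890)) (tt N19161 F71885) (tt N21615 F71884))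
theorem Q21651 : ∀ i, i < 21651 → P i := stepQ 21650 Q21650 (allL N21650 (tt N22591 (iv F75714)) (tt N21441 (iv F71887)) (tt N19086 (iv D32005)) (tt N22687 D33044) (tt N21709 (iv F72098)) (tt N22688 D33045) (tt N21616 F71886))
theorem Q21652 : ∀ i, i < 21652 → P i := stepQ 21651 Q21651 (allL N21651 (tt N19161 F71888) (tt N21591 F71889) (tt N22688 (iv F76114)) (tt N22685 (iv F76101)) (tt N21649 F71890) (tt N19086 (iv D32006)) (tt N21577 F71891))
theorem Q21653 : ∀ i, i < 21653 → P i := stepQ 21652 Q21652 (allL N21652 (tt N21442 (iv F71894)) (tt N19087 (iv D32007)) (tt N21441 F71892) (tt N22001 (iv F73283)) (tt N21710 (iv F72103)) (tt N22000 F73279) (tt N21440 F71893))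
theorem Q21654 : ∀ i, i < 21654 → P i := stepQ 21653 Q21653 (allL N21653 (tt N19088 F71895) (tt N22001 (iv F73281)) (tt N21627 F71897) (tt N19087 (iv D32008)) (tt N22002 (iv F73289)) (tt N21654 (iv F71901)) (tt N21614 F71896))
theorem Q21655 : ∀ i, i < 21655 → P i := stepQ 21654 Q21654 (allL N21654 (tt N21627 F71898) (tt N20237 F71899) (tt N19088 (iv D32009)) (tt N21624 F71900) (tt N22689 D33046) (tt N21653 F71901) (tt N21623 F71902))
theorem Q21656 : ∀ i, i < 21656 → P i := stepQ 21655 Q21655 (allL N21655 (tt N22002 (iv F73286)) (tt N19089 F71903) (tt N22689 (iv F76119)) (tt N21111 F71904) (tt N19088 (iv D32010)) (tt N21714 (iv F72120)) (tt N22686 (iv F76108)))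
theorem Q21657 : ∀ i, i < 21657 → P i := stepQ 21656 Q21656 (allL N21656 (tt N19090 (iv D32011)) (tt N19108 F71909) (tt N21038 F71905) (tt N19109 F71906) (tt N21713 (iv F72117)) (tt N20244 F71907) (tt N19115 (iv F71908)))
theorem Q21658 : ∀ i, i < 21658 → P i := stepQ 21657 Q21657 (allL N21657 (tt N19115 F71910) (tt N21442 F71911) (tt N21550 F71912) (tt N19116 F71913) (tt N21552 F71914) (tt N21280 F71915) (tt N19090 (iv D32012)))
theorem Q21659 : ∀ i, i < 21659 → P i := stepQ 21658 Q21658 (allL N21658 (tt N21658 F71916) (tt N19092 F71917) (tt N21659 (iv F71921)) (tt N19091 (iv D32013)) (tt N22363 (iv F74742)) (tt N21659 (iv F71924)) (tt N21282 (iv F71918)))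
theorem Q21660 : ∀ i, i < 21660 → P i := stepQ 21659 Q21659 (allL N21659 (tt N21659 F71919) (tt N20874 F71920) (tt N21658 F71921) (tt N21282 F71922) (tt N21367 F71923) (tt N21658 F71924) (tt N19091 (iv D32014)))
theorem Q21661 : ∀ i, i < 21661 → P i := stepQ 21660 Q21660 (allL N21660 (tt N21105 F71925) (tt N19093 (iv D32015)) (tt N22225 (iv F74170)) (tt N21116 F71926) (tt N22487 (iv F75261)) (tt N22690 D33047) (tt N21365 F71927))
theorem Q21662 : ∀ i, i < 21662 → P i := stepQ 21661 Q21661 (allL N21661 (tt N19100 F71930) (tt N22482 (iv F75235)) (tt N19099 (iv D32018)) (tt N21208 (iv F71934)) (tt N19101 F71931) (tt N21011 F71932) (tt N19101 F71933))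
theorem Q21663 : ∀ i, i < 21663 → P i := stepQ 21662 Q21662 (allL N21662 (tt N21299 F71937) (tt N19101 (iv D32019)) (tt N21139 F71935) (tt N21940 (iv F73050)) (tt N22482 (iv F75237)) (tt N19716 F71936) (tt N21676 (iv F71989)))
theorem Q21664 : ∀ i, i < 21664 → P i := stepQ 21663 Q21663 (allL N21663 (tt N19102 F71938) (tt N21940 F73053) (tt N21673 (iv F71975)) (tt N19101 (iv D32020)) (tt N21682 (iv F72015)) (tt N21942 (iv F73063)) (tt N21208 F71939))
theorem Q21665 : ∀ i, i < 21665 → P i := stepQ 21664 Q21664 (allL N21664 (tt N21673 (iv F71973)) (tt N22406 (iv F74924)) (tt N19102 (iv D32021)) (tt N21668 (iv F71949)) (tt N19134 (iv F71941)) (tt N22452 (iv F75095)) (tt N19137 F71940))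
theorem Q21666 : ∀ i, i < 21666 → P i := stepQ 21665 Q21665 (allL N21665 (tt N21682 (iv F72013)) (tt N20916 F71942) (tt N19134 F71943) (tt N19136 F71944) (tt N19102 (iv D32022)) (tt N22451 (iv F75088)) (tt N19136 F71945))
theorem Q21667 : ∀ i, i < 21667 → P i := stepQ 21666 Q21666 (allL N21666 (tt N22672 (iv F76044)) (tt N19104 F71946) (tt N22691 D33048) (tt N19103 (iv D32023)) (tt N22692 D33049) (tt N22672 (iv F76046)) (tt N22221 (iv F74154)))
theorem Q21668 : ∀ i, i < 21668 → P i := stepQ 21667 Q21667 (allL N21667 (tt N22673 (iv F76047)) (tt N22222 (iv F74157)) (tt N22450 (iv F75084)) (tt N22221 F74155) (tt N22450 (iv F75085)) (tt N21667 F71947) (tt N19103 (iv D32024)))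
theorem Q21669 : ∀ i, i < 21669 → P i := stepQ 21668 Q21668 (allL N21668 (tt N19106 F71948) (tt N22686 (iv F76104)) (tt N19104 (iv D32025)) (tt N21664 F71949) (tt N20243 (iv F71950)) (tt N21669 (iv F71957)) (tt N20122 (iv F71951)))
theorem Q21670 : ∀ i, i < 21670 → P i := stepQ 21669 Q21669 (allL N21669 (tt N19107 F71955) (tt N22692 (iv F76133)) (tt N20243 F71956) (tt N22452 (iv F75094)) (tt N19104 (iv D32026)) (tt N21668 F71957) (tt N20239 (iv F71958)))
theorem Q21671 : ∀ i, i < 21671 → P i := stepQ 21670 Q21670 (allL N21670 (tt N19108 F71959) (tt N20121 (iv F71964)) (tt N20122 F71960) (tt N19105 F71961) (tt N20239 F71962) (tt N20242 F71963) (tt N19104 (iv D32027)))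
theorem Q21672 : ∀ i, i < 21672 → P i := stepQ 21671 Q21671 (allL N21671 (tt N22223 (iv F74160)) (tt N19105 (iv D32028)) (tt N22482 (iv F75236)) (tt N20121 F71965) (tt N21139 F71966) (tt N20308 F71967) (tt N22222 (iv F74159)))
theorem Q21673 : ∀ i, i < 21673 → P i := stepQ 21672 Q21672 (allL N21672 (tt N22512 (iv F75368)) (tt N19106 (iv D32029)) (tt N19111 F71968) (tt N21188 (iv F71971)) (tt N20303 F71969) (tt N20307 F71970) (tt N21125 (iv F71972)))
theorem Q21674 : ∀ i, i < 21674 → P i := stepQ 21673 Q21673 (allL N21673 (tt N21664 F71973) (tt N21188 F71974) (tt N21663 F71975) (tt N19106 (iv D32030)) (tt N19126 F71976) (tt N20994 F71977) (tt N21082 (iv F71978)))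
theorem Q21675 : ∀ i, i < 21675 → P i := stepQ 21674 Q21674 (allL N21674 (tt N20122 F71979) (tt N21047 F71980) (tt N19108 F71981) (tt N21082 F71982) (tt N20242 F71983) (tt N20239 F71984) (tt N19106 (iv D32031)))
theorem Q21676 : ∀ i, i < 21676 → P i := stepQ 21675 Q21675 (allL N21675 (tt N20239 F71985) (tt N21713 (iv F72115)) (tt N20242 F71986) (tt N21690 (iv F72046)) (tt N19108 F71987) (tt N20122 F71988) (tt N19107 (iv D32032)))
theorem Q21677 : ∀ i, i < 21677 → P i := stepQ 21676 Q21676 (allL N21676 (tt N19111 (iv D32033)) (tt N22257 (iv F74311)) (tt N22512 (iv F75370)) (tt N21881 (iv F72799)) (tt N22257 F74314) (tt N20970 F71990) (tt N21662 F71989))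
theorem Q21678 : ∀ i, i < 21678 → P i := stepQ 21677 Q21677 (allL N21677 (tt N22257 (iv F74310)) (tt N19112 F71991) (tt N20303 F71992) (tt N20183 F71993) (tt N19111 (iv D32034)) (tt N20306 (iv F71994)) (tt N22384 (iv F74835)))
theorem Q21679 : ∀ i, i < 21679 → P i := stepQ 21678 Q21678 (allL N21678 (tt N20970 F71995) (tt N22690 (iv F76124)) (tt N20307 F71996) (tt N21883 (iv F72804)) (tt N20306 F71997) (tt N19111 (iv D32035)) (tt N19716 F71998))
theorem Q21680 : ∀ i, i < 21680 → P i := stepQ 21679 Q21679 (allL N21679 (tt N21552 (iv F72003)) (tt N19114 (iv D32036)) (tt N21551 F71999) (tt N20728 F72000) (tt N19115 F72001) (tt N19148 F72002) (tt N21713 (iv F72118)))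
theorem Q21681 : ∀ i, i < 21681 → P i := stepQ 21680 Q21680 (allL N21680 (tt N20138 F72004) (tt N21680 F72005) (tt N22144 (iv F73861)) (tt N19118 (iv D32037)) (tt N21134 (iv F72007)) (tt N19121 F72006) (tt N22192 (iv F74019)))
theorem Q21682 : ∀ i, i < 21682 → P i := stepQ 21681 Q21681 (allL N21681 (tt N20288 F72008) (tt N19123 F72009) (tt N20835 F72012) (tt N19119 (iv D32038)) (tt N21133 F72010) (tt N20285 F72011) (tt N22208 (iv F74099)))
theorem Q21683 : ∀ i, i < 21683 → P i := stepQ 21682 Q21682 (allL N21682 (tt N21665 F72013) (tt N21086 F72018) (tt N19126 (iv D32039)) (tt N21085 F72014) (tt N21663 F72015) (tt N20993 F72016) (tt N21085 F72017))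
theorem Q21684 : ∀ i, i < 21684 → P i := stepQ 21683 Q21683 (allL N21683 (tt N21817 (iv F72540)) (tt N21683 F72019) (tt N19155 F72020) (tt N19944 F72021) (tt N22652 (iv F75974)) (tt N19127 (iv D32040)) (tt N19452 F72022))
theorem Q21685 : ∀ i, i < 21685 → P i := stepQ 21684 Q21684 (allL N21684 (tt N21630 F72023) (tt N21932 F73015) (tt N22693 D33050) (tt N19129 (iv D32041)) (tt N21629 F72024) (tt N21684 F72025) (tt N22694 D33051))
theorem Q21686 : ∀ i, i < 21686 → P i := stepQ 21685 Q21685 (allL N21685 (tt N19450 F72026) (tt N19439 F72027) (tt N19131 F72028) (tt N22694 (iv F76144)) (tt N19130 F72029) (tt N19450 F72030) (tt N19129 (iv D32042)))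
theorem Q21687 : ∀ i, i < 21687 → P i := stepQ 21686 Q21686 (allL N21686 (tt N21703 (iv F72082)) (tt N19131 (iv D32043)) (tt N22695 D33052) (tt N21619 F72031) (tt N19132 F72032) (tt N21700 (iv F72077)) (tt N19158 F72033))
theorem Q21688 : ∀ i, i < 21688 → P i := stepQ 21687 Q21687 (allL N21687 (tt N19348 F72034) (tt N19436 F72035) (tt N19132 (iv D32044)) (tt N19342 (iv F72038)) (tt N22695 (iv F76149)) (tt N21607 F72036) (tt N19160 F72037))
theorem Q21689 : ∀ i, i < 21689 → P i := stepQ 21688 Q21688 (allL N21688 (tt N21696 (iv F72061)) (tt N19134 F72039) (tt N21204 F72041) (tt N19133 (iv D32045)) (tt N22406 (iv F74925)) (tt N21692 (iv F72054)) (tt N19163 F72040))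
theorem Q21690 : ∀ i, i < 21690 → P i := stepQ 21689 Q21689 (allL N21689 (tt N22453 (iv F75097)) (tt N22481 (iv F75230)) (tt N19138 F72042) (tt N22451 (iv F75089)) (tt N21012 F72043) (tt N19136 (iv D32046)) (tt N20993 F72044))
theorem Q21691 : ∀ i, i < 21691 → P i := stepQ 21690 Q21690 (allL N21690 (tt N22183 (iv F73984)) (tt N22361 (iv F74731)) (tt N21012 F72045) (tt N21675 F72046) (tt N19138 F72047) (tt N19137 (iv D32047)) (tt N20994 F72048))
theorem Q21692 : ∀ i, i < 21692 → P i := stepQ 21691 Q21691 (allL N21691 (tt N20991 F72049) (tt N19140 (iv D32048)) (tt N21622 F72050) (tt N22696 D33053) (tt N21622 F72051) (tt N20991 F72052) (tt N22697 D33054))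
theorem Q21693 : ∀ i, i < 21693 → P i := stepQ 21692 Q21692 (allL N21692 (tt N19141 F72053) (tt N22696 (iv F76154)) (tt N22537 (iv F75488)) (tt N19140 (iv D32049)) (tt N22698 D33055) (tt N21688 F72054) (tt N22699 D33056))
theorem Q21694 : ∀ i, i < 21694 → P i := stepQ 21693 Q21693 (allL N21693 (tt N19143 F72055) (tt N22446 (iv F75067)) (tt N19150 F72056) (tt N22699 (iv F76168)) (tt N21624 F72057) (tt N19162 F72058) (tt N19140 (iv D32050)))
theorem Q21695 : ∀ i, i < 21695 → P i := stepQ 21694 Q21694 (allL N21694 (tt N22537 (iv F75487)) (tt N22700 D33057) (tt N19141 (iv D32051)) (tt N22497 (iv F75305)) (tt N22501 (iv F75323)) (tt N22536 (iv F75486)) (tt N22495 F75299))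
theorem Q21696 : ∀ i, i < 21696 → P i := stepQ 21695 Q21695 (allL N21695 (tt N22698 (iv F76161)) (tt N19145 F72059) (tt N22501 (iv F75321)) (tt N21626 F72060) (tt N19141 (iv D32052)) (tt N22003 (iv F73292)) (tt N22480 (iv F75228)))
theorem Q21697 : ∀ i, i < 21697 → P i := stepQ 21696 Q21696 (allL N21696 (tt N21688 F72061) (tt N21243 F72062) (tt N22536 (iv F75482)) (tt N19142 F72063) (tt N22003 (iv F73291)) (tt N19141 (iv D32053)) (tt N21711 (iv F72109)))
theorem Q21698 : ∀ i, i < 21698 → P i := stepQ 21697 Q21697 (allL N21697 (tt N22699 (iv F76166)) (tt N22478 (iv F75216)) (tt N22495 (iv F75296)) (tt N19143 F72064) (tt N22480 (iv F75226)) (tt N19163 F72065) (tt N19141 (iv D32054)))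
theorem Q21699 : ∀ i, i < 21699 → P i := stepQ 21698 Q21698 (allL N21698 (tt N22134 (iv F73821)) (tt N19143 (iv D32055)) (tt N21272 F72066) (tt N22478 (iv F75218)) (tt N21281 F72067) (tt N19167 F72068) (tt N19148 F72069))
theorem Q21700 : ∀ i, i < 21700 → P i := stepQ 21699 Q21699 (allL N21699 (tt N19687 F72072) (tt N19144 (iv D32056)) (tt N22700 (iv F76172)) (tt N20439 F72070) (tt N19685 F72071) (tt N19684 (iv F72073)) (tt N21952 (iv F73096)))
theorem Q21701 : ∀ i, i < 21701 → P i := stepQ 21700 Q21700 (allL N21700 (tt N19152 F72074) (tt N21618 F72075) (tt N22661 (iv F76004)) (tt N21618 F72076) (tt N19149 (iv D32057)) (tt N21686 F72077) (tt N22701 D33058))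
theorem Q21702 : ∀ i, i < 21702 → P i := stepQ 21701 Q21701 (allL N21701 (tt N19154 F72078) (tt N22666 (iv F76020)) (tt N21751 (iv F72258)) (tt N19150 F72079) (tt N22701 (iv F76180)) (tt N19159 F72080) (tt N19149 (iv D32058)))
theorem Q21703 : ∀ i, i < 21703 → P i := stepQ 21702 Q21702 (allL N21702 (tt N22661 F76006) (tt N21899 (iv F72873)) (tt N19152 F72081) (tt N21810 (iv F72514)) (tt N19151 (iv D32059)) (tt N21812 (iv F72522)) (tt N21750 F72256))
theorem Q21704 : ∀ i, i < 21704 → P i := stepQ 21703 Q21703 (allL N21703 (tt N21686 F72082) (tt N19185 F72083) (tt N21812 (iv F72523)) (tt N21609 F72084) (tt N19153 F72085) (tt N19152 (iv D32060)) (tt N21705 (iv F72091)))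
theorem Q21705 : ∀ i, i < 21705 → P i := stepQ 21704 Q21704 (allL N21704 (tt N22701 (iv F76178)) (tt N21734 (iv F72193)) (tt N21750 (iv F72253)) (tt N21620 F72086) (tt N19154 F72087) (tt N19158 F72088) (tt N19152 (iv D32061)))
theorem Q21706 : ∀ i, i < 21706 → P i := stepQ 21705 Q21705 (allL N21705 (tt N19158 (iv D32062)) (tt N22702 D33059) (tt N22703 D33060) (tt N21646 F72089) (tt N19159 F72090) (tt N22701 (iv F76181)) (tt N21703 F72091))
theorem Q21707 : ∀ i, i < 21707 → P i := stepQ 21706 Q21706 (allL N21706 (tt N22703 (iv F76184)) (tt N21749 F72252) (tt N19158 (iv D32063)) (tt N22704 D33061) (tt N19160 F72092) (tt N21750 (iv F72255)) (tt N22695 (iv F76151)))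
theorem Q21708 : ∀ i, i < 21708 → P i := stepQ 21707 Q21707 (allL N21707 (tt N22685 (iv F76098)) (tt N19159 (iv D32064)) (tt N21729 (iv F72175)) (tt N19161 F72093) (tt N22702 (iv F76183)) (tt N22684 (iv F76097)) (tt N21728 (iv F72174)))
theorem Q21709 : ∀ i, i < 21709 → P i := stepQ 21708 Q21708 (allL N21708 (tt N19160 F72094) (tt N19443 (iv F72097)) (tt N19159 (iv D32065)) (tt N19350 F72096) (tt N22703 (iv F76185)) (tt N21751 (iv F72260)) (tt N19348 F72095))
theorem Q21710 : ∀ i, i < 21710 → P i := stepQ 21709 Q21709 (allL N21709 (tt N22688 (iv F76112)) (tt N21349 F72100) (tt N19161 (iv D32066)) (tt N22094 (iv F73672)) (tt N21650 F72098) (tt N22591 (iv F75716)) (tt N20228 F72099))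
theorem Q21711 : ∀ i, i < 21711 → P i := stepQ 21710 Q21710 (allL N21710 (tt N19820 F72101) (tt N19162 (iv D32067)) (tt N21349 F72102) (tt N19802 F72106) (tt N21652 F72103) (tt N19801 (iv F72105)) (tt N21346 F72104))
theorem Q21712 : ∀ i, i < 21712 → P i := stepQ 21711 Q21711 (allL N21711 (tt N19163 F72107) (tt N19802 F72108) (tt N22494 (iv F75289)) (tt N19162 (iv D32068)) (tt N19804 (iv F72110)) (tt N22699 (iv F76170)) (tt N21696 F72109))
theorem Q21713 : ∀ i, i < 21713 → P i := stepQ 21712 Q21712 (allL N21712 (tt N22361 (iv F74730)) (tt N19166 (iv D32069)) (tt N20720 F72111) (tt N19167 F72112) (tt N19824 F72113) (tt N22478 (iv F75220)) (tt N19821 F72114))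
theorem Q21714 : ∀ i, i < 21714 → P i := stepQ 21713 Q21713 (allL N21713 (tt N19167 (iv D32070)) (tt N21675 F72115) (tt N21271 F72116) (tt N22361 (iv F74733)) (tt N21656 F72117) (tt N22134 (iv F73819)) (tt N21679 F72118))
theorem Q21715 : ∀ i, i < 21715 → P i := stepQ 21714 Q21714 (allL N21714 (tt N22689 (iv F76117)) (tt N19174 (iv D32071)) (tt N22002 (iv F73287)) (tt N22480 (iv F75225)) (tt N21627 F72119) (tt N21655 F72120) (tt N21626 F72121))
theorem Q21716 : ∀ i, i < 21716 → P i := stepQ 21715 Q21715 (allL N21715 (tt N21715 F72122) (tt N22573 (iv F75643)) (tt N19176 (iv D32072)) (tt N22572 (iv F75641)) (tt N22705 D33062) (tt N21598 F72123) (tt N21598 F72124))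
theorem Q21717 : ∀ i, i < 21717 → P i := stepQ 21716 Q21716 (allL N21716 (tt N21716 F72125) (tt N19178 F72126) (tt N22705 (iv F76194)) (tt N21599 F72127) (tt N19176 (iv D32073)) (tt N21599 F72128) (tt N21599 F72129))
theorem Q21718 : ∀ i, i < 21718 → P i := stepQ 21717 Q21717 (allL N21717 (tt N19453 F72130) (tt N19177 (iv D32074)) (tt N22573 (iv F75644)) (tt N19444 F72131) (tt N22694 (iv F76145)) (tt N19453 F72132) (tt N21629 F72133))
theorem Q21719 : ∀ i, i < 21719 → P i := stepQ 21718 Q21718 (allL N21718 (tt N19182 F72134) (tt N22694 (iv F76143)) (tt N19178 F72135) (tt N19439 F72136) (tt N19177 (iv D32075)) (tt N19438 F72137) (tt N21931 F73010))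
theorem Q21720 : ∀ i, i < 21720 → P i := stepQ 21719 Q21719 (allL N21719 (tt N19185 F72138) (tt N21602 F72139) (tt N19438 F72140) (tt N21602 F72141) (tt N19179 F72142) (tt N19178 (iv D32076)) (tt N21727 (iv F72170)))
theorem Q21721 : ∀ i, i < 21721 → P i := stepQ 21720 Q21720 (allL N21720 (tt N19186 F72143) (tt N21603 F72144) (tt N21931 (iv F73006)) (tt N21603 F72145) (tt N19180 F72146) (tt N21725 (iv F72163)) (tt N19178 (iv D32077)))
theorem Q21722 : ∀ i, i < 21722 → P i := stepQ 21721 Q21721 (allL N21721 (tt N19439 F72147) (tt N21926 (iv F72987)) (tt N22371 (iv F74778)) (tt N19182 (iv D32078)) (tt N19431 F72148) (tt N19430 (iv F72149)) (tt N21855 (iv F72686)))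
theorem Q21723 : ∀ i, i < 21723 → P i := stepQ 21722 Q21722 (allL N21722 (tt N19438 F72150) (tt N21816 (iv F72536)) (tt N19185 F72151) (tt N19430 F72152) (tt N19183 F72153) (tt N19182 (iv D32079)) (tt N22706 D33063))
theorem Q21724 : ∀ i, i < 21724 → P i := stepQ 21723 Q21723 (allL N21723 (tt N21931 F73009) (tt N22649 (iv F75963)) (tt N19186 F72154) (tt N21855 (iv F72684)) (tt N19184 F72155) (tt N21854 (iv F72682)) (tt N19182 (iv D32080)))
theorem Q21725 : ∀ i, i < 21725 → P i := stepQ 21724 Q21724 (allL N21724 (tt N19443 F72156) (tt N21608 F72157) (tt N19187 F72158) (tt N19433 F72159) (tt N22706 (iv F76202)) (tt N19651 F72160) (tt N19183 (iv D32081)))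
theorem Q21726 : ∀ i, i < 21726 → P i := stepQ 21725 Q21725 (allL N21725 (tt N21727 (iv F72167)) (tt N22707 D33064) (tt N22706 (iv F76200)) (tt N21610 F72161) (tt N19187 F72162) (tt N21720 F72163) (tt N19185 (iv D32082)))
theorem Q21727 : ∀ i, i < 21727 → P i := stepQ 21726 Q21726 (allL N21726 (tt N21733 (iv F72187)) (tt N19186 (iv D32083)) (tt N21732 F72186) (tt N21580 F72164) (tt N19188 F72165) (tt N21752 (iv F72264)) (tt N19193 F72166))
theorem Q21728 : ∀ i, i < 21728 → P i := stepQ 21727 Q21727 (allL N21727 (tt N21725 F72167) (tt N22708 D33065) (tt N21854 (iv F72679)) (tt N21611 F72168) (tt N19189 F72169) (tt N19186 (iv D32084)) (tt N21719 F72170))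
theorem Q21729 : ∀ i, i < 21729 → P i := stepQ 21728 Q21728 (allL N21728 (tt N22651 (iv F75970)) (tt N19187 (iv D32085)) (tt N21613 F72171) (tt N19190 F72172) (tt N22707 (iv F76206)) (tt N21612 F72173) (tt N21707 F72174))
theorem Q21730 : ∀ i, i < 21730 → P i := stepQ 21729 Q21729 (allL N21729 (tt N22671 (iv F76040)) (tt N19189 (iv D32086)) (tt N21707 F72175) (tt N19192 F72176) (tt N22708 (iv F76211)) (tt N21753 (iv F72266)) (tt N21613 F72177))
theorem Q21731 : ∀ i, i < 21731 → P i := stepQ 21730 Q21730 (allL N21730 (tt N21754 (iv F72267)) (tt N22215 (iv F74128)) (tt N19199 F72179) (tt N19191 (iv D32087)) (tt N22709 D33066) (tt N21757 (iv F72280)) (tt N19199 F72178))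
theorem Q21732 : ∀ i, i < 21732 → P i := stepQ 21731 Q21731 (allL N21731 (tt N22675 (iv F76050)) (tt N20104 F72180) (tt N19192 (iv D32088)) (tt N22710 D33067) (tt N20221 F72181) (tt N21755 (iv F72273)) (tt N20221 F72182))
theorem Q21733 : ∀ i, i < 21733 → P i := stepQ 21732 Q21732 (allL N21732 (tt N19193 (iv D32089)) (tt N21575 F72183) (tt N21726 (iv F72186)) (tt N21575 F72184) (tt N19194 F72185) (tt N22711 D33068) (tt N21733 (iv F72190)))
theorem Q21734 : ∀ i, i < 21734 → P i := stepQ 21733 Q21733 (allL N21733 (tt N21726 F72187) (tt N19216 F72188) (tt N19193 (iv D32090)) (tt N21560 (iv F72191)) (tt N19195 F72189) (tt N19217 F72192) (tt N21732 F72190))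
theorem Q21735 : ∀ i, i < 21735 → P i := stepQ 21734 Q21734 (allL N21734 (tt N22711 (iv F76221)) (tt N21704 F72193) (tt N19217 F72194) (tt N21579 F72195) (tt N19196 F72196) (tt N19193 (iv D32091)) (tt N19217 F72197))
theorem Q21736 : ∀ i, i < 21736 → P i := stepQ 21735 Q21735 (allL N21735 (tt N19196 F72198) (tt N22665 F76019) (tt N19218 F72199) (tt N19198 F72200) (tt N22711 (iv F76224)) (tt N19194 (iv D32092)) (tt N19218 F72201))
theorem Q21737 : ∀ i, i < 21737 → P i := stepQ 21736 Q21736 (allL N21736 (tt N19199 F72202) (tt N22635 (iv F75905)) (tt N21754 (iv F72269)) (tt N19197 (iv D32093)) (tt N22712 D33069) (tt N21758 (iv F72285)) (tt N21754 (iv F72271)))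
theorem Q21738 : ∀ i, i < 21738 → P i := stepQ 21737 Q21737 (allL N21737 (tt N19200 F72203) (tt N22189 (iv F74008)) (tt N19198 F72204) (tt N21758 (iv F72284)) (tt N21567 F72205) (tt N19197 (iv D32094)) (tt N19221 F72206))
theorem Q21739 : ∀ i, i < 21739 → P i := stepQ 21738 Q21738 (allL N21738 (tt N22712 (iv F76226)) (tt N19202 F72207) (tt N22709 (iv F76215)) (tt N21569 F72208) (tt N19199 (iv D32095)) (tt N21597 (iv F72209)) (tt N22709 (iv F76218)))
theorem Q21740 : ∀ i, i < 21740 → P i := stepQ 21739 Q21739 (allL N21739 (tt N21758 (iv F72282)) (tt N20988 F72210) (tt N21757 (iv F72281)) (tt N19200 F72211) (tt N21597 F72212) (tt N19199 (iv D32096)) (tt N19222 (iv F72213)))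
theorem Q21741 : ∀ i, i < 21741 → P i := stepQ 21740 Q21740 (allL N21740 (tt N22454 (iv F75102)) (tt N19201 (iv D32097)) (tt N22215 (iv F74129)) (tt N21287 F72214) (tt N21009 F72215) (tt N21004 F72216) (tt N22212 (iv F74116)))
theorem Q21742 : ∀ i, i < 21742 → P i := stepQ 21741 Q21741 (allL N21741 (tt N19203 (iv D32098)) (tt N19452 F72217) (tt N22568 (iv F75623)) (tt N21298 F72218) (tt N21558 (iv F72221)) (tt N21600 F72219) (tt N21741 F72220))
theorem Q21743 : ∀ i, i < 21743 → P i := stepQ 21742 Q21742 (allL N21742 (tt N21558 F72222) (tt N19204 F72223) (tt N22569 (iv F75626)) (tt N19215 F72224) (tt N19203 (iv D32099)) (tt N21933 (iv F73018)) (tt N21742 F72225))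
theorem Q21744 : ∀ i, i < 21744 → P i := stepQ 21743 Q21743 (allL N21743 (tt N19205 F72226) (tt N19215 F72227) (tt N19209 (iv F72230)) (tt N19204 (iv D32100)) (tt N19212 F72228) (tt N21635 F72229) (tt N22676 (iv F76060)))
theorem Q21745 : ∀ i, i < 21745 → P i := stepQ 21744 Q21744 (allL N21744 (tt N19209 F72231) (tt N22370 (iv F74772)) (tt N19205 (iv D32101)) (tt N20789 (iv F72234)) (tt N19211 F72232) (tt N21643 F72233) (tt N22677 (iv F76065)))
theorem Q21746 : ∀ i, i < 21746 → P i := stepQ 21745 Q21745 (allL N21745 (tt N21930 (iv F73001)) (tt N19207 (iv D32102)) (tt N22370 (iv F74773)) (tt N21857 (iv F72692)) (tt N19643 F72235) (tt N19641 F72236) (tt N21924 (iv F72980)))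
theorem Q21747 : ∀ i, i < 21747 → P i := stepQ 21746 Q21746 (allL N21746 (tt N21932 (iv F73011)) (tt N19430 (iv F72239)) (tt N19208 F72237) (tt N21816 (iv F72539)) (tt N19427 F72238) (tt N22713 D33070) (tt N19207 (iv D32103)))
theorem Q21748 : ∀ i, i < 21748 → P i := stepQ 21747 Q21747 (allL N21747 (tt N20789 (iv F72243)) (tt N19208 (iv D32104)) (tt N20789 F72240) (tt N19209 F72241) (tt N20788 F72242) (tt N22381 (iv F74821)) (tt N22678 (iv F76069)))
theorem Q21749 : ∀ i, i < 21749 → P i := stepQ 21748 Q21748 (allL N21748 (tt N21581 F72244) (tt N22714 D33071) (tt N22713 (iv F76234)) (tt N19210 F72245) (tt N19572 F72246) (tt N19208 (iv D32105)) (tt N19570 F72247))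
theorem Q21750 : ∀ i, i < 21750 → P i := stepQ 21749 Q21749 (allL N21749 (tt N21643 F72248) (tt N21706 (iv F72252)) (tt N21635 F72249) (tt N22381 (iv F74819)) (tt N19213 F72250) (tt N19209 (iv D32106)) (tt N21633 F72251))
theorem Q21751 : ∀ i, i < 21751 → P i := stepQ 21750 Q21750 (allL N21750 (tt N22715 D33072) (tt N19210 (iv D32107)) (tt N21704 F72253) (tt N22714 (iv F76239)) (tt N19214 F72254) (tt N21706 F72255) (tt N21702 (iv F72256)))
theorem Q21752 : ∀ i, i < 21752 → P i := stepQ 21751 Q21751 (allL N21751 (tt N19214 (iv D32108)) (tt N21645 F72257) (tt N21701 F72258) (tt N19573 F72259) (tt N22715 (iv F76245)) (tt N21708 F72260) (tt N21607 F72261))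
theorem Q21753 : ∀ i, i < 21753 → P i := stepQ 21752 Q21752 (allL N21752 (tt N19217 (iv D32109)) (tt N22716 D33073) (tt N22711 (iv F76222)) (tt N21585 F72262) (tt N19218 F72263) (tt N21726 F72264) (tt N22711 (iv F76225)))
theorem Q21754 : ∀ i, i < 21754 → P i := stepQ 21753 Q21753 (allL N21753 (tt N22657 (iv F75988)) (tt N19218 (iv D32110)) (tt N22684 (iv F76094)) (tt N19220 F72265) (tt N22716 (iv F76249)) (tt N21729 F72266) (tt N22656 F75987))
theorem Q21755 : ∀ i, i < 21755 → P i := stepQ 21754 Q21754 (allL N21754 (tt N21730 F72267) (tt N20255 F72268) (tt N21736 F72269) (tt N19219 (iv D32111)) (tt N22639 (iv F75917)) (tt N19222 F72270) (tt N21736 F72271))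
theorem Q21756 : ∀ i, i < 21756 → P i := stepQ 21755 Q21755 (allL N21755 (tt N22578 (iv F75664)) (tt N21397 F72274) (tt N19220 (iv D32112)) (tt N22717 D33074) (tt N21590 F72272) (tt N21731 F72273) (tt N22658 (iv F75995)))
theorem Q21757 : ∀ i, i < 21757 → P i := stepQ 21756 Q21756 (allL N21756 (tt N21398 F72275) (tt N19221 (iv D32113)) (tt N21397 F72276) (tt N21963 (iv F73137)) (tt N21592 F72277) (tt N21396 F72278) (tt N21962 F73133))
theorem Q21758 : ∀ i, i < 21758 → P i := stepQ 21757 Q21757 (allL N21757 (tt N19222 F72279) (tt N21963 (iv F73135)) (tt N21739 F72281) (tt N19221 (iv D32114)) (tt N21964 (iv F73143)) (tt N21730 F72280) (tt N21758 (iv F72286)))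
theorem Q21759 : ∀ i, i < 21759 → P i := stepQ 21758 Q21758 (allL N21758 (tt N21739 F72282) (tt N20249 F72283) (tt N19222 (iv D32115)) (tt N21737 F72284) (tt N22659 (iv F75999)) (tt N21736 F72285) (tt N21757 F72286))
theorem Q21760 : ∀ i, i < 21760 → P i := stepQ 21759 Q21759 (allL N21759 (tt N21964 (iv F73140)) (tt N19223 F72287) (tt N22659 (iv F75997)) (tt N21170 F72288) (tt N19222 (iv D32116)) (tt N22639 (iv F75918)) (tt N21597 F72289))
theorem Q21761 : ∀ i, i < 21761 → P i := stepQ 21760 Q21760 (allL N21760 (tt N20726 F72290) (tt N19267 F72291) (tt N20904 F72292) (tt N19381 F72293) (tt N19229 (iv D32117)) (tt N19382 F72294) (tt N19242 F72295))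
theorem Q21762 : ∀ i, i < 21762 → P i := stepQ 21761 Q21761 (allL N21761 (tt N20433 F72296) (tt N20356 F72297) (tt N20410 F72298) (tt N19923 F72299) (tt N19237 F72300) (tt N20431 F72301) (tt N19231 (iv D32118)))
theorem Q21763 : ∀ i, i < 21763 → P i := stepQ 21762 Q21762 (allL N21762 (tt N19233 F72302) (tt N21866 (iv F72731)) (tt N19232 (iv D32119)) (tt N22281 (iv F74419)) (tt N20446 F72303) (tt N22265 (iv F74356)) (tt N19713 F72304))
theorem Q21764 : ∀ i, i < 21764 → P i := stepQ 21763 Q21763 (allL N21763 (tt N22265 (iv F74351)) (tt N22202 (iv F74066)) (tt N19234 F72305) (tt N22535 (iv F75476)) (tt N20449 F72306) (tt N19233 (iv D32120)) (tt N21955 (iv F73106)))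
theorem Q21765 : ∀ i, i < 21765 → P i := stepQ 21764 Q21764 (allL N21764 (tt N20404 F72307) (tt N22718 D33075) (tt N19240 (iv D32121)) (tt N22719 D33076) (tt N20402 F72308) (tt N22159 (iv F73915)) (tt N20587 F72309))
theorem Q21766 : ∀ i, i < 21766 → P i := stepQ 21765 Q21765 (allL N21765 (tt N21801 (iv F72477)) (tt N20028 F72313) (tt N19244 (iv D32122)) (tt N19995 F72312) (tt N21893 (iv F72853)) (tt N19994 F72310) (tt N21331 F72311))
theorem Q21767 : ∀ i, i < 21767 → P i := stepQ 21766 Q21766 (allL N21766 (tt N22479 (iv F75221)) (tt N19245 (iv D32123)) (tt N22718 (iv F76256)) (tt N22398 (iv F74889)) (tt N21147 F72314) (tt N21149 F72315) (tt N22720 D33077))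
theorem Q21768 : ∀ i, i < 21768 → P i := stepQ 21767 Q21767 (allL N21767 (tt N19250 F72316) (tt N22523 (iv F75424)) (tt N19247 F72317) (tt N21098 F72318) (tt N19246 (iv D32124)) (tt N20934 F72319) (tt N19284 F72320))
theorem Q21769 : ∀ i, i < 21769 → P i := stepQ 21768 Q21768 (allL N21768 (tt N21966 (iv F73147)) (tt N19250 F72321) (tt N19601 F72322) (tt N21413 F72323) (tt N19248 (iv D32125)) (tt N20428 F72324) (tt N19626 F72325))
theorem Q21770 : ∀ i, i < 21770 → P i := stepQ 21769 Q21769 (allL N21769 (tt N21098 F72326) (tt N21413 F72327) (tt N20794 F72328) (tt N19250 (iv D32126)) (tt N21100 F72329) (tt N20793 (iv F72331)) (tt N19295 F72330))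
theorem Q21771 : ∀ i, i < 21771 → P i := stepQ 21770 Q21770 (allL N21770 (tt N20934 F72332) (tt N20893 F72333) (tt N19252 F72334) (tt N20793 F72335) (tt N19251 F72336) (tt N19250 (iv D32127)) (tt N21787 (iv F72411)))
theorem Q21772 : ∀ i, i < 21772 → P i := stepQ 21771 Q21771 (allL N21771 (tt N20662 F72337) (tt N19252 (iv D32128)) (tt N19500 F72338) (tt N19926 F72339) (tt N19253 F72340) (tt N20169 F72341) (tt N21891 (iv F72843)))
theorem Q21773 : ∀ i, i < 21773 → P i := stepQ 21772 Q21772 (allL N21772 (tt N20034 (iv F72346)) (tt N19255 (iv D32129)) (tt N20028 F72342) (tt N20884 F72343) (tt N22721 D33078) (tt N20390 F72344) (tt N20027 F72345))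
theorem Q21774 : ∀ i, i < 21774 → P i := stepQ 21773 Q21773 (allL N21773 (tt N19524 F72347) (tt N22721 (iv F76266)) (tt N19256 F72348) (tt N22158 (iv F73908)) (tt N19255 (iv D32130)) (tt N21871 (iv F72755)) (tt N19516 F72349))
theorem Q21775 : ∀ i, i < 21775 → P i := stepQ 21774 Q21774 (allL N21774 (tt N19258 F72350) (tt N20613 F72351) (tt N21524 F72352) (tt N19257 (iv D32131)) (tt N20709 F72353) (tt N19272 F72354) (tt N21774 F72355))
theorem Q21776 : ∀ i, i < 21776 → P i := stepQ 21775 Q21775 (allL N21775 (tt N20636 F72356) (tt N19486 F72360) (tt N19264 (iv D32132)) (tt N19987 F72357) (tt N19487 F72358) (tt N21798 (iv F72461)) (tt N20186 F72359))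
theorem Q21777 : ∀ i, i < 21777 → P i := stepQ 21776 Q21776 (allL N21776 (tt N19266 F72361) (tt N21225 F72362) (tt N19265 (iv D32133)) (tt N21426 F72363) (tt N19762 F72364) (tt N19761 F72365) (tt N19274 F72366))
theorem Q21778 : ∀ i, i < 21778 → P i := stepQ 21777 Q21777 (allL N21777 (tt N19770 F72369) (tt N19269 (iv D32134)) (tt N19778 F72367) (tt N21780 (iv F72382)) (tt N19768 F72368) (tt N22219 (iv F74146)) (tt N22648 (iv F75959)))
theorem Q21779 : ∀ i, i < 21779 → P i := stepQ 21778 Q21778 (allL N21778 (tt N20493 F72370) (tt N19317 F72371) (tt N22153 (iv F73892)) (tt N19928 F72372) (tt N19272 (iv D32135)) (tt N20709 F72373) (tt N20493 F72374))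
theorem Q21780 : ∀ i, i < 21780 → P i := stepQ 21779 Q21779 (allL N21779 (tt N20169 F72375) (tt N19275 F72376) (tt N19749 F72377) (tt N19763 F72378) (tt N19273 (iv D32136)) (tt N20662 F72379) (tt N19748 F72380))
theorem Q21781 : ∀ i, i < 21781 → P i := stepQ 21780 Q21780 (allL N21780 (tt N21238 (iv F72383)) (tt N19274 (iv D32137)) (tt N20170 F72381) (tt N21777 F72382) (tt N21976 (iv F73188)) (tt N22359 (iv F74725)) (tt N21975 (iv F73183)))
theorem Q21782 : ∀ i, i < 21782 → P i := stepQ 21781 Q21781 (allL N21781 (tt N19280 F72384) (tt N21976 (iv F73185)) (tt N19275 F72385) (tt N20836 F72386) (tt N19274 (iv D32138)) (tt N20843 (iv F72388)) (tt N19762 F72387))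
theorem Q21783 : ∀ i, i < 21783 → P i := stepQ 21782 Q21782 (allL N21782 (tt N19281 F72389) (tt N22722 D33079) (tt N19276 F72390) (tt N21316 F72391) (tt N20843 F72392) (tt N19274 (iv D32139)) (tt N21324 F72393))
theorem Q21784 : ∀ i, i < 21784 → P i := stepQ 21783 Q21783 (allL N21783 (tt N20618 F72394) (tt N19276 (iv D32140)) (tt N22723 D33080) (tt N19277 F72395) (tt N20665 F72396) (tt N20635 F72397) (tt N19597 F72398))
theorem Q21785 : ∀ i, i < 21785 → P i := stepQ 21784 Q21784 (allL N21784 (tt N19283 (iv D32141)) (tt N20325 F72399) (tt N21421 F72400) (tt N21547 F72401) (tt N22473 (iv F75196)) (tt N21978 (iv F73199)) (tt N21056 (iv F72402)))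
theorem Q21786 : ∀ i, i < 21786 → P i := stepQ 21785 Q21785 (allL N21785 (tt N22473 (iv F75193)) (tt N19284 F72403) (tt N21805 (iv F72496)) (tt N22150 (iv F73885)) (tt N19283 (iv D32142)) (tt N22472 (iv F75191)) (tt N22724 D33081))
theorem Q21787 : ∀ i, i < 21787 → P i := stepQ 21786 Q21786 (allL N21786 (tt N21056 F72404) (tt N22525 (iv F75430)) (tt N20539 F72405) (tt N21549 F72406) (tt N22724 (iv F76283)) (tt N19764 (iv F72407)) (tt N19283 (iv D32143)))
theorem Q21788 : ∀ i, i < 21788 → P i := stepQ 21787 Q21787 (allL N21787 (tt N19296 F72408) (tt N22725 D33082) (tt N19286 F72409) (tt N22167 (iv F73941)) (tt N19285 F72410) (tt N19284 (iv D32144)) (tt N21770 F72411))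
theorem Q21789 : ∀ i, i < 21789 → P i := stepQ 21788 Q21788 (allL N21788 (tt N20054 (iv F72415)) (tt N19285 (iv D32145)) (tt N20048 (iv F72416)) (tt N20908 F72412) (tt N22725 (iv F76287)) (tt N20047 F72413) (tt N20427 F72414))
theorem Q21790 : ∀ i, i < 21790 → P i := stepQ 21789 Q21789 (allL N21789 (tt N21893 (iv F72850)) (tt N20048 F72417) (tt N19287 (iv D32146)) (tt N19936 F72420) (tt N21801 (iv F72480)) (tt N21326 F72418) (tt N19935 F72419))
theorem Q21791 : ∀ i, i < 21791 → P i := stepQ 21790 Q21790 (allL N21790 (tt N19290 F72421) (tt N19295 F72422) (tt N20834 F72423) (tt N19290 F72424) (tt N19288 (iv D32147)) (tt N20650 F72425) (tt N20859 F72426))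
theorem Q21792 : ∀ i, i < 21792 → P i := stepQ 21791 Q21791 (allL N21791 (tt N22399 (iv F74892)) (tt N19299 F72427) (tt N19297 (iv D32148)) (tt N20229 F72431) (tt N20115 F72428) (tt N20114 F72429) (tt N20885 F72430))
theorem Q21793 : ∀ i, i < 21793 → P i := stepQ 21792 Q21792 (allL N21792 (tt N19299 F72432) (tt N22726 D33083) (tt N19298 (iv D32149)) (tt N22609 (iv F75795)) (tt N19776 F72433) (tt N20695 F72434) (tt N19774 F72435))
theorem Q21794 : ∀ i, i < 21794 → P i := stepQ 21793 Q21793 (allL N21793 (tt N22609 (iv F75794)) (tt N20229 F72436) (tt N22289 (iv F74456)) (tt N19299 (iv D32150)) (tt N20230 F72437) (tt N21274 F72438) (tt N22727 D33084))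
theorem Q21795 : ∀ i, i < 21795 → P i := stepQ 21794 Q21794 (allL N21794 (tt N19774 F72439) (tt N22728 D33085) (tt N19300 F72440) (tt N22727 (iv F76300)) (tt N19766 F72441) (tt N19765 F72442) (tt N19299 (iv D32151)))
theorem Q21796 : ∀ i, i < 21796 → P i := stepQ 21795 Q21795 (allL N21795 (tt N19310 F72443) (tt N21028 F72444) (tt N21799 (iv F72465)) (tt N19309 (iv D32152)) (tt N19792 F72445) (tt N19311 F72446) (tt N21797 (iv F72457)))
theorem Q21797 : ∀ i, i < 21797 → P i := stepQ 21796 Q21796 (allL N21796 (tt N21799 (iv F72463)) (tt N20375 F72447) (tt N19310 (iv D32153)) (tt N20377 F72451) (tt N20512 F72448) (tt N19312 F72449) (tt N21245 F72450))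
theorem Q21798 : ∀ i, i < 21798 → P i := stepQ 21797 Q21797 (allL N21797 (tt N19789 F72452) (tt N20157 F72453) (tt N20268 F72454) (tt N19314 F72455) (tt N19602 F72456) (tt N19313 (iv D32154)) (tt N21795 F72457))
theorem Q21799 : ∀ i, i < 21799 → P i := stepQ 21798 Q21798 (allL N21798 (tt N19317 F72458) (tt N21800 (iv F72470)) (tt N19316 (iv D32155)) (tt N20754 F72459) (tt N20203 F72460) (tt N21775 F72461) (tt N19844 F72462))
theorem Q21800 : ∀ i, i < 21800 → P i := stepQ 21799 Q21799 (allL N21799 (tt N21796 F72463) (tt N20456 F72464) (tt N21795 F72465) (tt N19318 (iv D32156)) (tt N20514 F72466) (tt N19319 F72467) (tt N20268 F72468))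
theorem Q21801 : ∀ i, i < 21801 → P i := stepQ 21800 Q21800 (allL N21800 (tt N19324 F72469) (tt N21798 F72470) (tt N20509 F72471) (tt N19554 F72472) (tt N19322 (iv D32157)) (tt N19552 F72473) (tt N20747 F72474))
theorem Q21802 : ∀ i, i < 21802 → P i := stepQ 21801 Q21801 (allL N21801 (tt N21765 F72477) (tt N22087 (iv F73650)) (tt N19325 F72478) (tt N20416 F72479) (tt N21789 F72480) (tt N19323 (iv D32158)) (tt N20451 F72481))
theorem Q21803 : ∀ i, i < 21803 → P i := stepQ 21802 Q21802 (allL N21802 (tt N19550 F72482) (tt N21891 (iv F72839)) (tt N20451 F72483) (tt N19327 F72484) (tt N19548 F72485) (tt N20759 F72486) (tt N19325 (iv D32159)))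
theorem Q21804 : ∀ i, i < 21804 → P i := stepQ 21803 Q21803 (allL N21803 (tt N21803 F72487) (tt N19326 (iv D32160)) (tt N21803 F72488) (tt N19328 F72489) (tt N21894 (iv F72858)) (tt N19388 F72490) (tt N19332 F72491))
theorem Q21805 : ∀ i, i < 21805 → P i := stepQ 21804 Q21804 (allL N21804 (tt N21423 F72492) (tt N21420 (iv F72495)) (tt N22085 (iv F73645)) (tt N22284 (iv F74429)) (tt N21422 F72493) (tt N19329 (iv D32161)) (tt N21423 F72494))
theorem Q21806 : ∀ i, i < 21806 → P i := stepQ 21805 Q21805 (allL N21805 (tt N22514 (iv F75384)) (tt N19331 (iv D32162)) (tt N21785 F72496) (tt N22285 (iv F74436)) (tt N20485 F72497) (tt N21420 F72498) (tt N22299 (iv F74502)))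
theorem Q21807 : ∀ i, i < 21807 → P i := stepQ 21806 Q21806 (allL N21806 (tt N19345 F72499) (tt N19642 F72501) (tt N19341 (iv D32163)) (tt N19343 F72500) (tt N22729 D33086) (tt N19341 (iv F72502)) (tt N21814 (iv F72529)))
theorem Q21808 : ∀ i, i < 21808 → P i := stepQ 21807 Q21807 (allL N21807 (tt N19346 F72503) (tt N22367 F74763) (tt N22729 (iv F76310)) (tt N22695 (iv F76152)) (tt N19341 (iv D32164)) (tt N22729 (iv F76312)) (tt N22704 (iv F76192)))
theorem Q21809 : ∀ i, i < 21809 → P i := stepQ 21808 Q21808 (allL N21808 (tt N19347 F72504) (tt N20781 F72505) (tt N21814 (iv F72527)) (tt N19344 F72506) (tt N22704 (iv F76191)) (tt N21811 (iv F72519)) (tt N19341 (iv D32165)))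
theorem Q21810 : ∀ i, i < 21810 → P i := stepQ 21809 Q21809 (allL N21809 (tt N19349 F72507) (tt N19645 F72508) (tt N22497 (iv F75304)) (tt N21607 F72509) (tt N19343 F72510) (tt N19342 (iv D32166)) (tt N19573 F72511))
theorem Q21811 : ∀ i, i < 21811 → P i := stepQ 21810 Q21810 (allL N21810 (tt N22729 (iv F76308)) (tt N21578 F72512) (tt N19346 F72513) (tt N21702 F72514) (tt N19345 (iv D32167)) (tt N19346 F72515) (tt N22714 (iv F76242)))
theorem Q21812 : ∀ i, i < 21812 → P i := stepQ 21811 Q21811 (allL N21811 (tt N21814 (iv F72526)) (tt N19572 F72516) (tt N19347 F72517) (tt N19352 F72518) (tt N22714 (iv F76240)) (tt N21808 F72519) (tt N19345 (iv D32168)))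
theorem Q21813 : ∀ i, i < 21813 → P i := stepQ 21812 Q21812 (allL N21812 (tt N22695 (iv F76147)) (tt N19354 F72520) (tt N21703 F72523) (tt N19346 (iv D32169)) (tt N19348 F72521) (tt N21702 F72522) (tt N22703 (iv F76186)))
theorem Q21814 : ∀ i, i < 21814 → P i := stepQ 21813 Q21813 (allL N21813 (tt N22704 (iv F76189)) (tt N19440 F72524) (tt N22714 (iv F76238)) (tt N22703 F76188) (tt N19347 F72525) (tt N22730 D33087) (tt N19346 (iv D32170)))
theorem Q21815 : ∀ i, i < 21815 → P i := stepQ 21814 Q21814 (allL N21814 (tt N21811 F72526) (tt N21902 (iv F72884)) (tt N21808 F72527) (tt N19353 F72528) (tt N22730 (iv F76316)) (tt N19347 (iv D32171)) (tt N21806 F72529))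
theorem Q21816 : ∀ i, i < 21816 → P i := stepQ 21815 Q21815 (allL N21815 (tt N19351 (iv D32172)) (tt N19446 F72530) (tt N22522 (iv F75420)) (tt N21574 F72531) (tt N19447 F72532) (tt N19358 F72533) (tt N19562 F72534))
theorem Q21817 : ∀ i, i < 21817 → P i := stepQ 21816 Q21816 (allL N21816 (tt N21582 F72535) (tt N21722 F72536) (tt N19354 (iv D32173)) (tt N21746 F72539) (tt N19355 F72537) (tt N22680 (iv F76081)) (tt N19448 F72538))
theorem Q21818 : ∀ i, i < 21818 → P i := stepQ 21817 Q21817 (allL N21817 (tt N21683 F72540) (tt N19637 F72541) (tt N19356 F72542) (tt N19630 F72543) (tt N22680 (iv F76080)) (tt N19355 (iv D32174)) (tt N19628 F72544))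
theorem Q21819 : ∀ i, i < 21819 → P i := stepQ 21818 Q21818 (allL N21818 (tt N21902 (iv F72883)) (tt N19356 (iv D32175)) (tt N19566 F72545) (tt N19357 F72546) (tt N22681 (iv F76084)) (tt N19564 F72547) (tt N21898 (iv F72872)))
theorem Q21820 : ∀ i, i < 21820 → P i := stepQ 21819 Q21819 (allL N21819 (tt N22520 (iv F75407)) (tt N19367 F72548) (tt N22647 (iv F75951)) (tt N19359 (iv D32176)) (tt N22526 (iv F75437)) (tt N22548 (iv F75538)) (tt N22519 (iv F75406)))
theorem Q21821 : ∀ i, i < 21821 → P i := stepQ 21820 Q21820 (allL N21820 (tt N19363 F72549) (tt N22059 (iv F73532)) (tt N21058 F72550) (tt N19947 F72551) (tt N19366 F72552) (tt N20821 F72553) (tt N19361 (iv D32177)))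
theorem Q21822 : ∀ i, i < 21822 → P i := stepQ 21821 Q21821 (allL N21821 (tt N19367 F72554) (tt N21057 F72555) (tt N20374 F72556) (tt N19365 (iv D32178)) (tt N20373 F72557) (tt N21059 F72558) (tt N22559 (iv F75586)))
theorem Q21823 : ∀ i, i < 21823 → P i := stepQ 21822 Q21822 (allL N21822 (tt N19368 F72559) (tt N22559 (iv F75582)) (tt N19366 F72560) (tt N22559 (iv F75583)) (tt N21058 F72561) (tt N21214 F72562) (tt N19365 (iv D32179)))
theorem Q21824 : ∀ i, i < 21824 → P i := stepQ 21823 Q21823 (allL N21823 (tt N20373 F72563) (tt N22526 (iv F75435)) (tt N20371 F72564) (tt N22212 (iv F74113)) (tt N19367 (iv D32180)) (tt N22109 (iv F73718)) (tt N21287 F72565))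
theorem Q21825 : ∀ i, i < 21825 → P i := stepQ 21824 Q21824 (allL N21824 (tt N21923 (iv F72973)) (tt N19368 (iv D32181)) (tt N21845 (iv F72649)) (tt N21286 F72566) (tt N21415 F72567) (tt N21285 (iv F72568)) (tt N22039 (iv F73436)))
theorem Q21826 : ∀ i, i < 21826 → P i := stepQ 21825 Q21825 (allL N21825 (tt N20337 (iv F72574)) (tt N19374 (iv D32182)) (tt N19734 F72569) (tt N19375 F72570) (tt N19737 F72571) (tt N20401 F72572) (tt N20505 F72573))
theorem Q21827 : ∀ i, i < 21827 → P i := stepQ 21826 Q21826 (allL N21826 (tt N19376 (iv D32183)) (tt N19760 F72575) (tt N20795 F72576) (tt N19378 F72577) (tt N20594 F72578) (tt N20792 F72579) (tt N20593 F72580))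
theorem Q21828 : ∀ i, i < 21828 → P i := stepQ 21827 Q21827 (allL N21827 (tt N20614 F72581) (tt N20081 F72582) (tt N19383 (iv D32184)) (tt N21912 (iv F72929)) (tt N21912 (iv F72930)) (tt N22731 D33088) (tt N22350 (iv F74677)))
theorem Q21829 : ∀ i, i < 21829 → P i := stepQ 21828 Q21828 (allL N21828 (tt N20615 F72583) (tt N19509 F72584) (tt N22731 (iv F76319)) (tt N19384 F72585) (tt N20640 F72586) (tt N19383 (iv D32185)) (tt N20639 F72587))
theorem Q21830 : ∀ i, i < 21830 → P i := stepQ 21829 Q21829 (allL N21829 (tt N20691 F72588) (tt N19499 F72589) (tt N20880 F72590) (tt N19596 F72591) (tt N19390 F72592) (tt N19478 F72593) (tt N19389 (iv D32186)))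
theorem Q21831 : ∀ i, i < 21831 → P i := stepQ 21830 Q21830 (allL N21830 (tt N22004 (iv F73293)) (tt N19484 F72594) (tt N19394 F72595) (tt N21368 F72596) (tt N19393 (iv D32187)) (tt N19425 F72597) (tt N20486 F72598))
theorem Q21832 : ∀ i, i < 21832 → P i := stepQ 21831 Q21831 (allL N21831 (tt N19695 F72599) (tt N20152 F72600) (tt N20279 F72601) (tt N19541 F72602) (tt N19396 F72603) (tt N21889 (iv F72831)) (tt N19395 (iv D32188)))
theorem Q21833 : ∀ i, i < 21833 → P i := stepQ 21832 Q21832 (allL N21832 (tt N19402 F72604) (tt N22732 D33089) (tt N19416 F72605) (tt N22303 (iv F74515)) (tt N22315 (iv F74562)) (tt N19400 (iv D32189)) (tt N19606 F72606))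
theorem Q21834 : ∀ i, i < 21834 → P i := stepQ 21833 Q21833 (allL N21833 (tt N22315 (iv F74559)) (tt N22377 (iv F74805)) (tt N19418 F72607) (tt N22307 (iv F74536)) (tt N19402 F72608) (tt N19401 (iv D32190)) (tt N19607 F72609))
theorem Q21835 : ∀ i, i < 21835 → P i := stepQ 21834 Q21834 (allL N21834 (tt N22313 (iv F74551)) (tt N19402 (iv D32191)) (tt N22375 (iv F74796)) (tt N22304 (iv F74518)) (tt N22377 (iv F74806)) (tt N19407 F72610) (tt N19614 F72611))
theorem Q21836 : ∀ i, i < 21836 → P i := stepQ 21835 Q21835 (allL N21835 (tt N19867 F72612) (tt N22733 D33090) (tt N21290 F72613) (tt N19405 F72614) (tt N19860 F72615) (tt N19404 (iv D32192)) (tt N21921 F72967))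
theorem Q21837 : ∀ i, i < 21837 → P i := stepQ 21836 Q21836 (allL N21836 (tt N19868 F72616) (tt N21937 (iv F73036)) (tt N21368 F72617) (tt N19406 F72618) (tt N19861 F72619) (tt N22027 (iv F73390)) (tt N19404 (iv D32193)))
theorem Q21838 : ∀ i, i < 21838 → P i := stepQ 21837 Q21837 (allL N21837 (tt N22621 (iv F75839)) (tt N19405 (iv D32194)) (tt N21475 F72620) (tt N22733 (iv F76325)) (tt N19407 F72621) (tt N22377 (iv F74807)) (tt N22594 (iv F75728)))
theorem Q21839 : ∀ i, i < 21839 → P i := stepQ 21838 Q21838 (allL N21838 (tt N21499 F72622) (tt N21267 (iv F72626)) (tt N19411 F72623) (tt N22027 (iv F73388)) (tt N19409 F72624) (tt N19406 (iv D32195)) (tt N20551 F72625))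
theorem Q21840 : ∀ i, i < 21840 → P i := stepQ 21839 Q21839 (allL N21839 (tt N22620 (iv F75834)) (tt N19412 F72627) (tt N19407 (iv D32196)) (tt N21471 (iv F72629)) (tt N21475 F72628) (tt N22375 (iv F74799)) (tt N22595 (iv F75732)))
theorem Q21841 : ∀ i, i < 21841 → P i := stepQ 21840 Q21840 (allL N21840 (tt N19408 (iv D32197)) (tt N21917 (iv F72948)) (tt N21934 (iv F73021)) (tt N22305 (iv F74525)) (tt N21936 (iv F73032)) (tt N22256 (iv F74308)) (tt N21404 F72630))
theorem Q21842 : ∀ i, i < 21842 → P i := stepQ 21841 Q21841 (allL N21841 (tt N22530 (iv F75453)) (tt N19409 (iv D32198)) (tt N21265 F72631) (tt N20553 F72632) (tt N21267 F72633) (tt N21493 F72634) (tt N22269 (iv F74374)))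
theorem Q21843 : ∀ i, i < 21843 → P i := stepQ 21842 Q21842 (allL N21842 (tt N21846 (iv F72653)) (tt N22602 (iv F75760)) (tt N19413 F72635) (tt N21361 F72636) (tt N20196 F72637) (tt N20194 F72638) (tt N19412 (iv D32199)))
theorem Q21844 : ∀ i, i < 21844 → P i := stepQ 21843 Q21843 (allL N21843 (tt N19418 F72639) (tt N21843 F72640) (tt N22315 (iv F74560)) (tt N21638 F72641) (tt N19416 F72642) (tt N19415 (iv D32200)) (tt N19620 F72643))
theorem Q21845 : ∀ i, i < 21845 → P i := stepQ 21844 Q21844 (allL N21844 (tt N21638 F72644) (tt N22374 (iv F74792)) (tt N21637 F72645) (tt N19418 F72646) (tt N21634 F72647) (tt N19417 (iv D32201)) (tt N19621 F72648))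
theorem Q21846 : ∀ i, i < 21846 → P i := stepQ 21845 Q21845 (allL N21845 (tt N22041 (iv F73443)) (tt N19422 (iv D32202)) (tt N21824 F72649) (tt N21457 F72650) (tt N19887 F72651) (tt N21914 (iv F72940)) (tt N19885 F72652))
theorem Q21847 : ∀ i, i < 21847 → P i := stepQ 21846 Q21846 (allL N21846 (tt N21842 F72653) (tt N22734 D33091) (tt N19423 F72654) (tt N21380 F72655) (tt N20190 F72656) (tt N19422 (iv D32203)) (tt N20189 F72657))
theorem Q21848 : ∀ i, i < 21848 → P i := stepQ 21847 Q21847 (allL N21847 (tt N21909 F72913) (tt N20852 F72658) (tt N22027 (iv F73387)) (tt N19425 (iv D32204)) (tt N21370 F72659) (tt N21368 F72660) (tt N22025 (iv F73379)))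
theorem Q21849 : ∀ i, i < 21849 → P i := stepQ 21848 Q21848 (allL N21848 (tt N21557 F72661) (tt N19437 F72665) (tt N19572 F72662) (tt N19429 F72663) (tt N22713 (iv F76236)) (tt N19427 (iv D32205)) (tt N19571 F72664))
theorem Q21850 : ∀ i, i < 21850 → P i := stepQ 21849 Q21849 (allL N21849 (tt N19440 F72666) (tt N21924 (iv F72978)) (tt N22372 (iv F74784)) (tt N22706 (iv F76201)) (tt N19432 F72667) (tt N21639 F72668) (tt N19430 (iv D32206)))
theorem Q21851 : ∀ i, i < 21851 → P i := stepQ 21850 Q21850 (allL N21850 (tt N20751 F72669) (tt N19431 (iv D32207)) (tt N19442 (iv F72672)) (tt N19434 F72670) (tt N21926 (iv F72988)) (tt N19437 F72671) (tt N20761 F72673))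
theorem Q21852 : ∀ i, i < 21852 → P i := stepQ 21851 Q21851 (allL N21851 (tt N22370 (iv F74771)) (tt N21604 F72674) (tt N21930 (iv F73002)) (tt N19435 (iv D32208)) (tt N21925 (iv F72984)) (tt N22367 (iv F74762)) (tt N21927 F72994))
theorem Q21853 : ∀ i, i < 21853 → P i := stepQ 21852 Q21852 (allL N21852 (tt N22371 (iv F74777)) (tt N22695 (iv F76148)) (tt N19439 F72675) (tt N22367 (iv F74760)) (tt N19436 F72676) (tt N19435 (iv D32209)) (tt N22365 F74754))
theorem Q21854 : ∀ i, i < 21854 → P i := stepQ 21853 Q21853 (allL N21853 (tt N22372 (iv F74783)) (tt N22713 (iv F76233)) (tt N19440 F72677) (tt N21927 (iv F72992)) (tt N19437 F72678) (tt N21926 F72990) (tt N19435 (iv D32210)))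
theorem Q21855 : ∀ i, i < 21855 → P i := stepQ 21854 Q21854 (allL N21854 (tt N22706 (iv F76198)) (tt N22703 F76187) (tt N21727 F72679) (tt N19440 F72680) (tt N19443 F72681) (tt N21723 F72682) (tt N19438 (iv D32211)))
theorem Q21856 : ∀ i, i < 21856 → P i := stepQ 21855 Q21855 (allL N21855 (tt N21639 F72683) (tt N22735 D33092) (tt N21926 (iv F72989)) (tt N21723 F72684) (tt N19442 F72685) (tt N19440 (iv D32212)) (tt N21721 F72686))
theorem Q21857 : ∀ i, i < 21857 → P i := stepQ 21856 Q21856 (allL N21856 (tt N19564 F72687) (tt N19442 (iv D32213)) (tt N19561 F72688) (tt N19447 F72689) (tt N22735 (iv F76333)) (tt N21902 (iv F72887)) (tt N19561 F72690))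
theorem Q21858 : ∀ i, i < 21858 → P i := stepQ 21857 Q21857 (allL N21857 (tt N21605 (iv F72694)) (tt N19448 (iv D32214)) (tt N21602 F72691) (tt N21745 F72692) (tt N19451 F72693) (tt N21601 (iv F72695)) (tt N22662 (iv F76011)))
theorem Q21859 : ∀ i, i < 21859 → P i := stepQ 21858 Q21858 (allL N21858 (tt N21640 F72696) (tt N21558 (iv F72700)) (tt N19449 F72697) (tt N21556 F72698) (tt N19452 F72699) (tt N19448 (iv D32215)) (tt N22652 (iv F75975)))
theorem Q21860 : ∀ i, i < 21860 → P i := stepQ 21859 Q21859 (allL N21859 (tt N22694 (iv F76142)) (tt N19449 (iv D32216)) (tt N22574 (iv F75647)) (tt N19450 F72701) (tt N19453 F72702) (tt N22694 (iv F76146)) (tt N21630 F72703))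
theorem Q21861 : ∀ i, i < 21861 → P i := stepQ 21860 Q21860 (allL N21860 (tt N19457 F72704) (tt N20334 F72705) (tt N21917 (iv F72949)) (tt N19979 F72706) (tt N19459 F72707) (tt N19455 (iv D32217)) (tt N20324 F72708))
theorem Q21862 : ∀ i, i < 21862 → P i := stepQ 21861 Q21861 (allL N21861 (tt N21456 F72709) (tt N20573 F72710) (tt N22317 (iv F74570)) (tt N19456 (iv D32218)) (tt N22033 (iv F73412)) (tt N20574 F72711) (tt N21454 F72712))
theorem Q21863 : ∀ i, i < 21863 → P i := stepQ 21862 Q21862 (allL N21862 (tt N19461 F72713) (tt N21936 F73034) (tt N19459 F72714) (tt N20263 F72715) (tt N21917 (iv F72950)) (tt N19458 (iv D32219)) (tt N21145 F72716))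
theorem Q21864 : ∀ i, i < 21864 → P i := stepQ 21863 Q21863 (allL N21863 (tt N20263 F72717) (tt N21913 (iv F72932)) (tt N20262 F72718) (tt N19461 F72719) (tt N22034 (iv F73416)) (tt N19460 (iv D32220)) (tt N22148 (iv F73876)))
theorem Q21865 : ∀ i, i < 21865 → P i := stepQ 21864 Q21864 (allL N21864 (tt N21145 F72720) (tt N22564 (iv F75605)) (tt N19462 F72721) (tt N22148 (iv F73875)) (tt N21359 F72722) (tt N21143 F72723) (tt N19461 (iv D32221)))
theorem Q21866 : ∀ i, i < 21866 → P i := stepQ 21865 Q21865 (allL N21865 (tt N20492 F72724) (tt N20354 F72725) (tt N20352 F72726) (tt N19984 F72727) (tt N19471 F72728) (tt N19468 (iv D32222)) (tt N20490 F72729))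
theorem Q21867 : ∀ i, i < 21867 → P i := stepQ 21866 Q21866 (allL N21866 (tt N19475 F72730) (tt N21762 F72731) (tt N19474 (iv D32223)) (tt N22299 (iv F74500)) (tt N20504 F72732) (tt N19808 F72733) (tt N22285 (iv F74438)))
theorem Q21868 : ∀ i, i < 21868 → P i := stepQ 21867 Q21867 (allL N21867 (tt N22285 (iv F74433)) (tt N22197 (iv F74039)) (tt N19476 F72734) (tt N22514 (iv F75380)) (tt N20507 F72735) (tt N21993 (iv F73251)) (tt N19475 (iv D32224)))
theorem Q21869 : ∀ i, i < 21869 → P i := stepQ 21868 Q21868 (allL N21868 (tt N20342 F72736) (tt N22736 D33093) (tt N19480 (iv D32225)) (tt N22724 (iv F76282)) (tt N20339 F72737) (tt N20591 F72738) (tt N22150 (iv F73884)))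
theorem Q21870 : ∀ i, i < 21870 → P i := stepQ 21869 Q21869 (allL N21869 (tt N19484 F72739) (tt N22498 (iv F75309)) (tt N19482 F72740) (tt N21151 F72741) (tt N19481 (iv D32226)) (tt N19516 F72742) (tt N20936 F72743))
theorem Q21871 : ∀ i, i < 21871 → P i := stepQ 21870 Q21870 (allL N21870 (tt N21151 F72744) (tt N21368 F72745) (tt N20798 F72746) (tt N19484 (iv D32227)) (tt N21153 F72747) (tt N19523 F72748) (tt N20797 F72749))
theorem Q21872 : ∀ i, i < 21872 → P i := stepQ 21871 Q21871 (allL N21871 (tt N20936 F72750) (tt N20869 F72751) (tt N19486 F72752) (tt N20797 F72753) (tt N19485 F72754) (tt N21773 F72755) (tt N19484 (iv D32228)))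
theorem Q21873 : ∀ i, i < 21873 → P i := stepQ 21872 Q21872 (allL N21872 (tt N22467 (iv F75164)) (tt N19489 (iv D32229)) (tt N22736 (iv F76336)) (tt N22393 (iv F74866)) (tt N21092 F72756) (tt N22737 D33094) (tt N21094 F72757))
theorem Q21874 : ∀ i, i < 21874 → P i := stepQ 21873 Q21873 (allL N21873 (tt N19491 F72758) (tt N20616 F72759) (tt N21483 F72760) (tt N19490 (iv D32230)) (tt N20742 F72761) (tt N21873 F72762) (tt N19505 F72763))
theorem Q21875 : ∀ i, i < 21875 → P i := stepQ 21874 Q21874 (allL N21874 (tt N19498 F72764) (tt N21205 F72765) (tt N19497 (iv D32231)) (tt N21382 F72766) (tt N19668 F72767) (tt N19507 F72768) (tt N19667 F72769))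
theorem Q21876 : ∀ i, i < 21876 → P i := stepQ 21875 Q21875 (allL N21875 (tt N19676 (iv F72772)) (tt N19502 (iv D32232)) (tt N19684 F72770) (tt N21878 (iv F72785)) (tt N19674 F72771) (tt N22700 (iv F76175)) (tt N22234 (iv F74212)))
theorem Q21877 : ∀ i, i < 21877 → P i := stepQ 21876 Q21876 (allL N21876 (tt N20435 F72773) (tt N19544 F72774) (tt N22162 (iv F73924)) (tt N19988 F72775) (tt N19505 (iv D32233)) (tt N20435 F72776) (tt N20742 F72777))
theorem Q21878 : ∀ i, i < 21878 → P i := stepQ 21877 Q21877 (allL N21877 (tt N20186 F72778) (tt N19508 F72779) (tt N19845 F72780) (tt N19669 F72781) (tt N19506 (iv D32234)) (tt N19844 F72782) (tt N20636 F72783))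
theorem Q21879 : ∀ i, i < 21879 → P i := stepQ 21878 Q21878 (allL N21878 (tt N21237 F72786) (tt N19507 (iv D32235)) (tt N20187 F72784) (tt N21875 F72785) (tt N22014 (iv F73336)) (tt N22013 (iv F73330)) (tt N22351 (iv F74683)))
theorem Q21880 : ∀ i, i < 21880 → P i := stepQ 21879 Q21879 (allL N21879 (tt N19512 F72787) (tt N22014 (iv F73333)) (tt N19508 F72788) (tt N20833 F72789) (tt N19507 (iv D32236)) (tt N19668 F72790) (tt N20839 (iv F72791)))
theorem Q21881 : ∀ i, i < 21881 → P i := stepQ 21880 Q21880 (allL N21880 (tt N19513 F72792) (tt N22738 D33095) (tt N19509 F72793) (tt N21305 F72794) (tt N20839 F72795) (tt N21329 F72796) (tt N19507 (iv D32237)))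
theorem Q21882 : ∀ i, i < 21882 → P i := stepQ 21881 Q21881 (allL N21881 (tt N19515 (iv D32238)) (tt N20395 F72797) (tt N21378 F72798) (tt N21676 F72799) (tt N22485 (iv F75253)) (tt N21017 F72800) (tt N21940 (iv F73052)))
theorem Q21883 : ∀ i, i < 21883 → P i := stepQ 21882 Q21882 (allL N21882 (tt N22485 (iv F75250)) (tt N19516 F72801) (tt N21896 (iv F72865)) (tt N22159 (iv F73917)) (tt N19515 (iv D32239)) (tt N22719 (iv F76262)) (tt N22484 (iv F75249)))
theorem Q21884 : ∀ i, i < 21884 → P i := stepQ 21883 Q21883 (allL N21883 (tt N21017 F72802) (tt N22502 (iv F75325)) (tt N20482 F72803) (tt N21678 F72804) (tt N22719 (iv F76261)) (tt N19515 (iv D32240)) (tt N19670 F72805))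
theorem Q21885 : ∀ i, i < 21885 → P i := stepQ 21884 Q21884 (allL N21884 (tt N19519 F72806) (tt N19523 F72807) (tt N20831 F72808) (tt N19519 F72809) (tt N19517 (iv D32241)) (tt N20852 F72810) (tt N20623 F72811))
theorem Q21886 : ∀ i, i < 21886 → P i := stepQ 21885 Q21885 (allL N21885 (tt N22392 (iv F74861)) (tt N19527 F72812) (tt N19525 (iv D32242)) (tt N20222 F72816) (tt N20107 F72813) (tt N20862 F72814) (tt N20106 F72815))
theorem Q21887 : ∀ i, i < 21887 → P i := stepQ 21886 Q21886 (allL N21886 (tt N19527 F72817) (tt N22739 D33096) (tt N19526 (iv D32243)) (tt N22624 (iv F75855)) (tt N19683 F72818) (tt N19681 F72819) (tt N20730 F72820))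
theorem Q21888 : ∀ i, i < 21888 → P i := stepQ 21887 Q21887 (allL N21887 (tt N22624 (iv F75854)) (tt N20222 F72821) (tt N22269 (iv F74371)) (tt N19527 (iv D32244)) (tt N20223 F72822) (tt N22740 D33097) (tt N21265 F72823))
theorem Q21889 : ∀ i, i < 21889 → P i := stepQ 21888 Q21888 (allL N21888 (tt N19681 F72824) (tt N22741 D33098) (tt N19528 F72825) (tt N22740 (iv F76356)) (tt N19673 F72826) (tt N19527 (iv D32245)) (tt N19671 F72827))
theorem Q21890 : ∀ i, i < 21890 → P i := stepQ 21889 Q21889 (allL N21889 (tt N19538 F72828) (tt N21026 F72829) (tt N21892 (iv F72846)) (tt N19537 (iv D32246)) (tt N19697 F72830) (tt N21831 F72831) (tt N19539 F72832))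
theorem Q21891 : ∀ i, i < 21891 → P i := stepQ 21890 Q21890 (allL N21890 (tt N21892 (iv F72844)) (tt N20423 F72833) (tt N19538 (iv D32247)) (tt N20424 F72837) (tt N20454 F72834) (tt N21249 F72835) (tt N19540 F72836))
theorem Q21892 : ∀ i, i < 21892 → P i := stepQ 21891 Q21891 (allL N21891 (tt N19544 F72838) (tt N21802 F72839) (tt N19543 (iv D32248)) (tt N20765 F72840) (tt N20199 F72841) (tt N19748 F72842) (tt N21771 F72843))
theorem Q21893 : ∀ i, i < 21893 → P i := stepQ 21892 Q21892 (allL N21892 (tt N21890 F72844) (tt N20514 F72845) (tt N21889 F72846) (tt N19545 (iv D32249)) (tt N20456 F72847) (tt N20279 F72848) (tt N19546 F72849))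
theorem Q21894 : ∀ i, i < 21894 → P i := stepQ 21893 Q21893 (allL N21893 (tt N21789 F72850) (tt N22074 (iv F73608)) (tt N19552 F72851) (tt N20366 F72852) (tt N21765 F72853) (tt N20509 F72854) (tt N19549 (iv D32250)))
theorem Q21895 : ∀ i, i < 21895 → P i := stepQ 21894 Q21894 (allL N21894 (tt N21894 F72855) (tt N19551 (iv D32251)) (tt N21894 F72856) (tt N19553 F72857) (tt N21803 F72858) (tt N19558 F72859) (tt N19599 F72860))
theorem Q21896 : ∀ i, i < 21896 → P i := stepQ 21895 Q21895 (allL N21895 (tt N21379 F72861) (tt N21375 (iv F72864)) (tt N22072 (iv F73603)) (tt N22264 (iv F74350)) (tt N21377 F72862) (tt N21379 F72863) (tt N19555 (iv D32252)))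
theorem Q21897 : ∀ i, i < 21897 → P i := stepQ 21896 Q21896 (allL N21896 (tt N22535 F75480) (tt N19557 (iv D32253)) (tt N21882 F72865) (tt N22265 (iv F74354)) (tt N20542 F72866) (tt N22281 (iv F74421)) (tt N21375 F72867))
theorem Q21898 : ∀ i, i < 21898 → P i := stepQ 21897 Q21897 (allL N21897 (tt N19565 F72868) (tt N22371 F74782) (tt N22735 (iv F76331)) (tt N22643 (iv F75937)) (tt N19561 (iv D32254)) (tt N22655 (iv F75985)) (tt N22735 (iv F76334)))
theorem Q21899 : ∀ i, i < 21899 → P i := stepQ 21898 Q21898 (allL N21898 (tt N19566 F72869) (tt N20790 F72870) (tt N21902 (iv F72885)) (tt N19563 F72871) (tt N22655 (iv F75984)) (tt N19561 (iv D32255)) (tt N21818 F72872))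
theorem Q21900 : ∀ i, i < 21900 → P i := stepQ 21899 Q21899 (allL N21899 (tt N22735 (iv F76330)) (tt N21702 F72873) (tt N19565 F72874) (tt N21578 F72875) (tt N19564 (iv D32256)) (tt N22681 (iv F76085)) (tt N19565 F72876))
theorem Q21901 : ∀ i, i < 21901 → P i := stepQ 21900 Q21900 (allL N21900 (tt N22643 (iv F75933)) (tt N19570 F72877) (tt N21580 F72880) (tt N19565 (iv D32257)) (tt N19567 F72878) (tt N22654 (iv F75979)) (tt N21578 F72879))
theorem Q21902 : ∀ i, i < 21902 → P i := stepQ 21901 Q21901 (allL N21901 (tt N22655 (iv F75982)) (tt N19640 F72881) (tt N22681 (iv F76082)) (tt N22654 F75981) (tt N19566 F72882) (tt N19565 (iv D32258)) (tt N22742 D33099))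
theorem Q21903 : ∀ i, i < 21903 → P i := stepQ 21902 Q21902 (allL N21902 (tt N21818 F72883) (tt N21814 F72884) (tt N21898 F72885) (tt N19569 F72886) (tt N22742 (iv F76368)) (tt N21856 F72887) (tt N19566 (iv D32259)))
theorem Q21904 : ∀ i, i < 21904 → P i := stepQ 21903 Q21903 (allL N21903 (tt N21556 F72888) (tt N21606 F72889) (tt N19570 (iv D32260)) (tt N21640 F72890) (tt N19571 F72891) (tt N19648 F72892) (tt N22713 (iv F76237)))
theorem Q21905 : ∀ i, i < 21905 → P i := stepQ 21904 Q21904 (allL N21904 (tt N22495 (iv F75294)) (tt N19582 F72893) (tt N22699 (iv F76167)) (tt N19574 (iv D32261)) (tt N22500 (iv F75317)) (tt N22494 (iv F75293)) (tt N22537 (iv F75491)))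
theorem Q21906 : ∀ i, i < 21906 → P i := stepQ 21905 Q21905 (allL N21905 (tt N19578 F72894) (tt N22054 (iv F73506)) (tt N21019 F72895) (tt N20006 F72896) (tt N19581 F72897) (tt N19576 (iv D32262)) (tt N20822 F72898))
theorem Q21907 : ∀ i, i < 21907 → P i := stepQ 21906 Q21906 (allL N21906 (tt N19582 F72899) (tt N21018 F72900) (tt N20421 F72901) (tt N19580 (iv D32263)) (tt N20420 F72902) (tt N22557 (iv F75576)) (tt N21020 F72903))
theorem Q21908 : ∀ i, i < 21908 → P i := stepQ 21907 Q21907 (allL N21907 (tt N19583 F72904) (tt N22557 (iv F75573)) (tt N19581 F72905) (tt N22557 (iv F75574)) (tt N21019 F72906) (tt N19580 (iv D32264)) (tt N21234 F72907))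
theorem Q21909 : ∀ i, i < 21909 → P i := stepQ 21908 Q21908 (allL N21908 (tt N20420 F72908) (tt N22500 (iv F75315)) (tt N20418 F72909) (tt N22227 (iv F74178)) (tt N19582 (iv D32265)) (tt N21292 F72910) (tt N22120 (iv F73753)))
theorem Q21910 : ∀ i, i < 21910 → P i := stepQ 21909 Q21909 (allL N21909 (tt N21847 (iv F72913)) (tt N19583 (iv D32266)) (tt N21921 (iv F72963)) (tt N21291 F72911) (tt N21369 F72912) (tt N22026 (iv F73385)) (tt N21290 (iv F72914)))
theorem Q21911 : ∀ i, i < 21911 → P i := stepQ 21910 Q21910 (allL N21910 (tt N20329 (iv F72920)) (tt N19589 (iv D32267)) (tt N19827 F72915) (tt N19590 F72916) (tt N19830 F72917) (tt N20447 F72918) (tt N20338 F72919))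
theorem Q21912 : ∀ i, i < 21912 → P i := stepQ 21911 Q21911 (allL N21911 (tt N19591 (iv D32268)) (tt N19666 F72921) (tt N20791 F72922) (tt N19593 F72923) (tt N20590 F72924) (tt N20589 F72925) (tt N20796 F72926))
theorem Q21913 : ∀ i, i < 21913 → P i := stepQ 21912 Q21912 (allL N21912 (tt N20617 F72927) (tt N20069 F72928) (tt N19597 (iv D32269)) (tt N21827 F72929) (tt N21827 F72930) (tt N22338 F74641) (tt N22723 (iv F76279)))
theorem Q21914 : ∀ i, i < 21914 → P i := stepQ 21913 Q21913 (allL N21913 (tt N19885 F72931) (tt N21863 F72932) (tt N21413 F72933) (tt N19610 F72934) (tt N19878 F72935) (tt N19609 (iv D32270)) (tt N22041 (iv F73447)))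
theorem Q21915 : ∀ i, i < 21915 → P i := stepQ 21914 Q21914 (allL N21914 (tt N19886 F72936) (tt N22743 D33100) (tt N21285 F72937) (tt N19611 F72938) (tt N19879 F72939) (tt N21845 F72940) (tt N19609 (iv D32271)))
theorem Q21916 : ∀ i, i < 21916 → P i := stepQ 21915 Q21915 (allL N21915 (tt N21457 F72941) (tt N21276 (iv F72945)) (tt N19615 F72942) (tt N22041 (iv F73445)) (tt N19613 F72943) (tt N20577 F72944) (tt N19610 (iv D32272)))
theorem Q21917 : ∀ i, i < 21917 → P i := stepQ 21916 Q21916 (allL N21916 (tt N22606 (iv F75779)) (tt N19611 (iv D32273)) (tt N21517 F72946) (tt N22743 (iv F76370)) (tt N19614 F72947) (tt N22581 (iv F75676)) (tt N22377 (iv F74808)))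
theorem Q21918 : ∀ i, i < 21918 → P i := stepQ 21917 Q21917 (allL N21917 (tt N19612 (iv D32274)) (tt N21840 F72948) (tt N21860 F72949) (tt N22317 (iv F74571)) (tt N21862 F72950) (tt N21360 F72951) (tt N22237 (iv F74226)))
theorem Q21919 : ∀ i, i < 21919 → P i := stepQ 21918 Q21918 (allL N21918 (tt N22507 (iv F75346)) (tt N19613 (iv D32275)) (tt N21274 F72952) (tt N20578 F72953) (tt N21276 F72954) (tt N22289 (iv F74459)) (tt N21451 F72955))
theorem Q21920 : ∀ i, i < 21920 → P i := stepQ 21919 Q21919 (allL N21919 (tt N22604 (iv F75770)) (tt N19617 F72956) (tt N19614 (iv D32276)) (tt N21513 (iv F72958)) (tt N21517 F72957) (tt N22582 (iv F75678)) (tt N22375 (iv F74800)))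
theorem Q21921 : ∀ i, i < 21921 → P i := stepQ 21920 Q21920 (allL N21920 (tt N21922 (iv F72968)) (tt N22589 (iv F75705)) (tt N19618 F72959) (tt N21406 F72960) (tt N20179 F72961) (tt N19617 (iv D32277)) (tt N20177 F72962))
theorem Q21922 : ∀ i, i < 21922 → P i := stepQ 21921 Q21921 (allL N21921 (tt N22027 (iv F73386)) (tt N19624 (iv D32278)) (tt N21909 F72963) (tt N21499 F72964) (tt N19870 F72965) (tt N19868 F72966) (tt N21835 (iv F72967)))
theorem Q21923 : ∀ i, i < 21923 → P i := stepQ 21922 Q21922 (allL N21922 (tt N21920 F72968) (tt N22744 D33101) (tt N19625 F72969) (tt N21424 F72970) (tt N20173 F72971) (tt N20172 F72972) (tt N19624 (iv D32279)))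
theorem Q21924 : ∀ i, i < 21924 → P i := stepQ 21923 Q21923 (allL N21923 (tt N21824 F72973) (tt N20859 F72974) (tt N22041 (iv F73444)) (tt N19626 (iv D32280)) (tt N21414 F72975) (tt N22040 (iv F73442)) (tt N21413 F72976))
theorem Q21925 : ∀ i, i < 21925 → P i := stepQ 21924 Q21924 (allL N21924 (tt N19640 F72977) (tt N21849 F72978) (tt N22366 (iv F74756)) (tt N22662 (iv F76009)) (tt N19632 F72979) (tt N19631 (iv D32281)) (tt N21745 F72980))
theorem Q21926 : ∀ i, i < 21926 → P i := stepQ 21925 Q21925 (allL N21925 (tt N20763 F72981) (tt N19633 (iv D32282)) (tt N19642 F72982) (tt N19635 F72983) (tt N21851 F72984) (tt N20750 F72985) (tt N19637 F72986))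
theorem Q21927 : ∀ i, i < 21927 → P i := stepQ 21926 Q21926 (allL N21926 (tt N22365 (iv F74750)) (tt N21721 F72987) (tt N21855 F72989) (tt N19636 (iv D32283)) (tt N21850 F72988) (tt N21853 (iv F72990)) (tt N22371 (iv F74781)))
theorem Q21928 : ∀ i, i < 21928 → P i := stepQ 21927 Q21927 (allL N21927 (tt N22366 (iv F74755)) (tt N22680 (iv F76078)) (tt N19640 F72991) (tt N21853 F72992) (tt N19637 F72993) (tt N19636 (iv D32284)) (tt N21851 (iv F72994)))
theorem Q21929 : ∀ i, i < 21929 → P i := stepQ 21928 Q21928 (allL N21928 (tt N22367 (iv F74758)) (tt N22643 (iv F75934)) (tt N19641 F72995) (tt N22371 (iv F74779)) (tt N19638 F72996) (tt N22370 F74775) (tt N19636 (iv D32285)))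
theorem Q21930 : ∀ i, i < 21930 → P i := stepQ 21929 Q21929 (allL N21929 (tt N22662 (iv F76007)) (tt N22654 F75980) (tt N21610 F72997) (tt N19640 F72998) (tt N19644 F72999) (tt N19639 (iv D32286)) (tt N21605 F73000))
theorem Q21931 : ∀ i, i < 21931 → P i := stepQ 21930 Q21930 (allL N21930 (tt N21745 F73001) (tt N22729 (iv F76309)) (tt N21851 F73002) (tt N21605 F73003) (tt N19642 F73004) (tt N21604 F73005) (tt N19640 (iv D32287)))
theorem Q21932 : ∀ i, i < 21932 → P i := stepQ 21931 Q21931 (allL N21931 (tt N21723 (iv F73009)) (tt N19648 (iv D32288)) (tt N21720 F73006) (tt N21639 F73007) (tt N19651 F73008) (tt N22706 (iv F76203)) (tt N21718 (iv F73010)))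
theorem Q21933 : ∀ i, i < 21933 → P i := stepQ 21932 Q21932 (allL N21932 (tt N21746 F73011) (tt N21684 (iv F73015)) (tt N19649 F73012) (tt N21582 F73013) (tt N19652 F73014) (tt N22640 (iv F75922)) (tt N19648 (iv D32289)))
theorem Q21934 : ∀ i, i < 21934 → P i := stepQ 21933 Q21933 (allL N21933 (tt N22642 (iv F75928)) (tt N19649 (iv D32290)) (tt N22577 (iv F75661)) (tt N19650 F73016) (tt N19653 F73017) (tt N21742 F73018) (tt N22642 (iv F75932)))
theorem Q21935 : ∀ i, i < 21935 → P i := stepQ 21934 Q21934 (allL N21934 (tt N19657 F73019) (tt N20399 F73020) (tt N21840 F73021) (tt N20016 F73022) (tt N19659 F73023) (tt N20394 F73024) (tt N19655 (iv D32291)))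
theorem Q21936 : ∀ i, i < 21936 → P i := stepQ 21935 Q21935 (allL N21935 (tt N21498 F73025) (tt N20548 F73026) (tt N22305 (iv F74524)) (tt N19656 (iv D32292)) (tt N22019 (iv F73356)) (tt N21496 F73027) (tt N20550 F73028))
theorem Q21937 : ∀ i, i < 21937 → P i := stepQ 21936 Q21936 (allL N21936 (tt N19661 F73029) (tt N21862 (iv F73034)) (tt N19659 F73030) (tt N20274 F73031) (tt N21840 F73032) (tt N21194 F73033) (tt N19658 (iv D32293)))
theorem Q21938 : ∀ i, i < 21938 → P i := stepQ 21937 Q21937 (allL N21937 (tt N20274 F73035) (tt N21836 F73036) (tt N20273 F73037) (tt N19661 F73038) (tt N22021 (iv F73361)) (tt N22149 (iv F73879)) (tt N19660 (iv D32294)))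
theorem Q21939 : ∀ i, i < 21939 → P i := stepQ 21938 Q21938 (allL N21938 (tt N21194 F73039) (tt N22561 (iv F75592)) (tt N19662 F73040) (tt N22149 (iv F73878)) (tt N21405 F73041) (tt N19661 (iv D32295)) (tt N21192 F73042))
theorem Q21940 : ∀ i, i < 21940 → P i := stepQ 21939 Q21939 (allL N21939 (tt N21342 F73043) (tt N19671 F73044) (tt N20480 F73045) (tt N20587 (iv F73046)) (tt N19670 (iv D32296)) (tt N21086 F73047) (tt N22719 (iv F76263)))
theorem Q21941 : ∀ i, i < 21941 → P i := stepQ 21940 Q21940 (allL N21940 (tt N21343 F73048) (tt N21663 (iv F73053)) (tt N20481 F73049) (tt N21662 F73050) (tt N21086 F73051) (tt N19670 (iv D32297)) (tt N21881 F73052))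
theorem Q21942 : ∀ i, i < 21942 → P i := stepQ 21941 Q21941 (allL N21941 (tt N19679 F73056) (tt N20587 F73057) (tt N21185 F73058) (tt N19671 (iv D32298)) (tt N21969 (iv F73162)) (tt N22362 (iv F74738)) (tt N22740 (iv F76358)))
theorem Q21943 : ∀ i, i < 21943 → P i := stepQ 21942 Q21942 (allL N21942 (tt N21401 F73059) (tt N19672 (iv D32299)) (tt N20994 F73060) (tt N21010 F73061) (tt N20993 F73062) (tt N21663 F73063) (tt N21012 (iv F73064)))
theorem Q21944 : ∀ i, i < 21944 → P i := stepQ 21943 Q21943 (allL N21943 (tt N21167 F73065) (tt N19673 (iv D32300)) (tt N21166 F73066) (tt N21970 (iv F73164)) (tt N22741 (iv F76362)) (tt N21118 F73067) (tt N22502 (iv F75327)))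
theorem Q21945 : ∀ i, i < 21945 → P i := stepQ 21944 Q21944 (allL N21944 (tt N19677 F73068) (tt N22501 (iv F75320)) (tt N19685 F73069) (tt N20314 F73070) (tt N22700 (iv F76174)) (tt N19674 (iv D32301)) (tt N20316 F73071))
theorem Q21946 : ∀ i, i < 21946 → P i := stepQ 21945 Q21945 (allL N21945 (tt N22700 (iv F76176)) (tt N20837 F73072) (tt N19687 F73073) (tt N21301 F73074) (tt N19677 F73075) (tt N19676 (iv D32302)) (tt N20318 (iv F73076)))
theorem Q21947 : ∀ i, i < 21947 → P i := stepQ 21946 Q21946 (allL N21946 (tt N20108 F73077) (tt N22397 (iv F74884)) (tt N19723 F73078) (tt N19683 F73079) (tt N20224 F73080) (tt N19678 (iv D32303)) (tt N19718 F73081))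
theorem Q21948 : ∀ i, i < 21948 → P i := stepQ 21947 Q21947 (allL N21947 (tt N22740 (iv F76353)) (tt N21409 (iv F73084)) (tt N21407 F73082) (tt N19681 F73083) (tt N22562 (iv F75598)) (tt N22624 (iv F75857)) (tt N19679 (iv D32304)))
theorem Q21949 : ∀ i, i < 21949 → P i := stepQ 21948 Q21948 (allL N21948 (tt N21289 F73087) (tt N19683 (iv D32305)) (tt N22726 (iv F76291)) (tt N22397 (iv F74886)) (tt N22739 (iv F76349)) (tt N21043 F73085) (tt N21198 F73086))
theorem Q21950 : ∀ i, i < 21950 → P i := stepQ 21949 Q21949 (allL N21949 (tt N19688 F73088) (tt N22745 D33102) (tt N22234 (iv F74210)) (tt N21124 F73089) (tt N19686 F73090) (tt N21951 (iv F73093)) (tt N19684 (iv D32306)))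
theorem Q21951 : ∀ i, i < 21951 → P i := stepQ 21950 Q21950 (allL N21950 (tt N22608 (iv F75789)) (tt N19686 (iv D32307)) (tt N22089 (iv F73655)) (tt N22016 (iv F73343)) (tt N22745 (iv F76380)) (tt N22746 D33103) (tt N22270 (iv F74379)))
theorem Q21952 : ∀ i, i < 21952 → P i := stepQ 21951 Q21951 (allL N21951 (tt N21952 (iv F73094)) (tt N22586 (iv F75694)) (tt N20318 F73091) (tt N22268 (iv F74368)) (tt N19689 F73092) (tt N21949 F73093) (tt N19687 (iv D32308)))
theorem Q21953 : ∀ i, i < 21953 → P i := stepQ 21952 Q21952 (allL N21952 (tt N21951 F73094) (tt N21989 (iv F73236)) (tt N22233 (iv F74206)) (tt N22266 (iv F74358)) (tt N19690 F73095) (tt N19688 (iv D32309)) (tt N21699 F73096))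
theorem Q21954 : ∀ i, i < 21954 → P i := stepQ 21953 Q21953 (allL N21953 (tt N22583 (iv F75679)) (tt N19689 (iv D32310)) (tt N22404 (iv F74917)) (tt N22017 (iv F73347)) (tt N22586 (iv F75695)) (tt N22747 D33104) (tt N22028 (iv F73392)))
theorem Q21955 : ∀ i, i < 21955 → P i := stepQ 21954 Q21954 (allL N21954 (tt N20175 F73097) (tt N20150 F73098) (tt N19702 F73099) (tt N20149 F73100) (tt N20526 F73101) (tt N19691 (iv D32311)) (tt N20162 F73102))
theorem Q21956 : ∀ i, i < 21956 → P i := stepQ 21955 Q21955 (allL N21955 (tt N20436 F73103) (tt N22200 F74058) (tt N19696 (iv D32312)) (tt N22280 (iv F74416)) (tt N20442 F73104) (tt N19713 F73105) (tt N21763 F73106))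
theorem Q21957 : ∀ i, i < 21957 → P i := stepQ 21956 Q21956 (allL N21956 (tt N19702 F73107) (tt N21956 F73108) (tt N20175 F73109) (tt N20216 F73110) (tt N22050 (iv F73490)) (tt N19699 (iv D32313)) (tt N21253 F73111))
theorem Q21958 : ∀ i, i < 21958 → P i := stepQ 21957 Q21957 (allL N21957 (tt N19703 F73112) (tt N19727 F73113) (tt N20176 F73114) (tt N20215 F73115) (tt N19730 F73116) (tt N21254 F73117) (tt N19699 (iv D32314)))
theorem Q21959 : ∀ i, i < 21959 → P i := stepQ 21958 Q21958 (allL N21958 (tt N20215 F73118) (tt N22659 (iv F75996)) (tt N20125 F73119) (tt N19703 F73120) (tt N20249 F73121) (tt N20167 F73122) (tt N19700 (iv D32315)))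
theorem Q21960 : ∀ i, i < 21960 → P i := stepQ 21959 Q21959 (allL N21959 (tt N22050 (iv F73486)) (tt N20701 F73123) (tt N20526 F73124) (tt N22213 (iv F74120)) (tt N19702 F73125) (tt N19701 (iv D32316)) (tt N21971 (iv F73167)))
theorem Q21961 : ∀ i, i < 21961 → P i := stepQ 21960 Q21960 (allL N21960 (tt N19730 F73126) (tt N22647 (iv F75955)) (tt N22049 (iv F73482)) (tt N22459 (iv F75127)) (tt N19703 F73127) (tt N22113 (iv F73738)) (tt N19701 (iv D32317)))
theorem Q21962 : ∀ i, i < 21962 → P i := stepQ 21961 Q21961 (allL N21961 (tt N22468 (iv F75166)) (tt N19703 (iv D32318)) (tt N22526 (iv F75436)) (tt N22659 (iv F75998)) (tt N22647 (iv F75953)) (tt N22646 F75949) (tt N19711 F73128))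
theorem Q21963 : ∀ i, i < 21963 → P i := stepQ 21962 Q21962 (allL N21962 (tt N19720 F73129) (tt N22214 (iv F74123)) (tt N21395 (iv F73132)) (tt N19704 (iv D32319)) (tt N19707 F73130) (tt N21269 F73131) (tt N21756 (iv F73133)))
theorem Q21964 : ∀ i, i < 21964 → P i := stepQ 21963 Q21963 (allL N21963 (tt N19722 F73134) (tt N21757 F73135) (tt N21270 F73136) (tt N21756 F73137) (tt N19706 F73138) (tt N20257 F73139) (tt N19704 (iv D32320)))
theorem Q21965 : ∀ i, i < 21965 → P i := stepQ 21964 Q21964 (allL N21964 (tt N21759 F73140) (tt N19706 (iv D32321)) (tt N21597 F73141) (tt N19711 F73142) (tt N21757 F73143) (tt N22709 (iv F76217)) (tt N22659 (iv F76000)))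
theorem Q21966 : ∀ i, i < 21966 → P i := stepQ 21965 Q21965 (allL N21965 (tt N22425 (iv F74991)) (tt N21971 (iv F73165)) (tt N21430 F73144) (tt N22709 (iv F76216)) (tt N21571 F73145) (tt N19711 (iv D32322)) (tt N21569 (iv F73146)))
theorem Q21967 : ∀ i, i < 21967 → P i := stepQ 21966 Q21966 (allL N21966 (tt N21768 F73147) (tt N22519 F75405) (tt N19712 (iv D32323)) (tt N22039 (iv F73434)) (tt N19714 F73148) (tt N20008 F73149) (tt N21286 F73150))
theorem Q21968 : ∀ i, i < 21968 → P i := stepQ 21967 Q21967 (allL N21967 (tt N20587 F73151) (tt N21344 F73152) (tt N19715 (iv D32324)) (tt N21342 F73153) (tt N20405 F73154) (tt N21084 F73155) (tt N20404 F73156))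
theorem Q21969 : ∀ i, i < 21969 → P i := stepQ 21968 Q21968 (allL N21968 (tt N20832 F73157) (tt N19717 F73158) (tt N20308 F73159) (tt N22239 (iv F74233)) (tt N19716 (iv D32325)) (tt N22482 (iv F75238)) (tt N20306 F73160))
theorem Q21970 : ∀ i, i < 21970 → P i := stepQ 21969 Q21969 (allL N21969 (tt N21268 F73161) (tt N22239 (iv F74237)) (tt N22528 (iv F75445)) (tt N19717 (iv D32326)) (tt N21941 F73162) (tt N21266 F73163) (tt N22172 (iv F73954)))
theorem Q21971 : ∀ i, i < 21971 → P i := stepQ 21970 Q21970 (allL N21970 (tt N22141 (iv F73847)) (tt N19719 (iv D32327)) (tt N22174 (iv F73960)) (tt N21943 F73164) (tt N22173 (iv F73957)) (tt N22131 (iv F73804)) (tt N22690 (iv F76128)))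
theorem Q21972 : ∀ i, i < 21972 → P i := stepQ 21971 Q21971 (allL N21971 (tt N22113 (iv F73736)) (tt N21965 F73165) (tt N22052 (iv F73497)) (tt N22460 (iv F75132)) (tt N21254 F73166) (tt N19730 (iv D32328)) (tt N21959 F73167))
theorem Q21973 : ∀ i, i < 21973 → P i := stepQ 21972 Q21972 (allL N21972 (tt N19740 F73168) (tt N22011 (iv F73319)) (tt N22356 (iv F74705)) (tt N19739 (iv D32329)) (tt N22244 (iv F74258)) (tt N20688 F73169) (tt N21526 F73170))
theorem Q21974 : ∀ i, i < 21974 → P i := stepQ 21973 Q21973 (allL N21973 (tt N21526 F73171) (tt N22010 (iv F73315)) (tt N21486 F73172) (tt N19741 F73173) (tt N22245 (iv F74261)) (tt N22353 (iv F74693)) (tt N19740 (iv D32330)))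
theorem Q21975 : ∀ i, i < 21975 → P i := stepQ 21974 Q21974 (allL N21974 (tt N20333 F73174) (tt N20905 F73175) (tt N20361 F73176) (tt N20201 F73177) (tt N19744 F73178) (tt N20360 F73179) (tt N19742 (iv D32331)))
theorem Q21976 : ∀ i, i < 21976 → P i := stepQ 21975 Q21975 (allL N21975 (tt N21312 F73180) (tt N22522 (iv F75419)) (tt N19753 (iv D32332)) (tt N22648 (iv F75957)) (tt N19757 F73181) (tt N21120 F73182) (tt N21780 F73183))
theorem Q21977 : ∀ i, i < 21977 → P i := stepQ 21976 Q21976 (allL N21976 (tt N21313 F73184) (tt N21781 F73185) (tt N19758 F73186) (tt N21314 F73187) (tt N21780 F73188) (tt N20714 F73189) (tt N19757 (iv D32333)))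
theorem Q21978 : ∀ i, i < 21978 → P i := stepQ 21977 Q21977 (allL N21977 (tt N21350 F73190) (tt N19765 F73191) (tt N20538 F73192) (tt N20591 (iv F73193)) (tt N19764 (iv D32334)) (tt N22724 (iv F76284)) (tt N21051 F73194))
theorem Q21979 : ∀ i, i < 21979 → P i := stepQ 21978 Q21978 (allL N21978 (tt N21351 F73195) (tt N21532 (iv F73200)) (tt N20540 F73196) (tt N21531 F73197) (tt N21051 F73198) (tt N21784 F73199) (tt N19764 (iv D32335)))
theorem Q21980 : ∀ i, i < 21980 → P i := stepQ 21979 Q21979 (allL N21979 (tt N19773 F73201) (tt N20591 F73202) (tt N21132 F73203) (tt N19765 (iv D32336)) (tt N22007 (iv F73308)) (tt N22727 (iv F76302)) (tt N22355 (iv F74702)))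
theorem Q21981 : ∀ i, i < 21981 → P i := stepQ 21980 Q21980 (allL N21980 (tt N21117 F73204) (tt N19766 (iv D32337)) (tt N21116 F73205) (tt N22008 (iv F73310)) (tt N22728 (iv F76306)) (tt N22525 (iv F75432)) (tt N21168 F73206))
theorem Q21982 : ∀ i, i < 21982 → P i := stepQ 21981 Q21981 (allL N21981 (tt N21356 F73207) (tt N19767 (iv D32338)) (tt N20968 F73208) (tt N20984 F73209) (tt N20967 F73210) (tt N20986 (iv F73212)) (tt N21532 F73211))
theorem Q21983 : ∀ i, i < 21983 → P i := stepQ 21982 Q21982 (allL N21982 (tt N19771 F73213) (tt N22527 (iv F75440)) (tt N19780 F73214) (tt N20294 F73215) (tt N22648 (iv F75958)) (tt N20296 F73216) (tt N19768 (iv D32339)))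
theorem Q21984 : ∀ i, i < 21984 → P i := stepQ 21983 Q21983 (allL N21983 (tt N22648 (iv F75960)) (tt N20841 F73217) (tt N19782 F73218) (tt N21312 F73219) (tt N19771 F73220) (tt N20298 (iv F73221)) (tt N19770 (iv D32340)))
theorem Q21985 : ∀ i, i < 21985 → P i := stepQ 21984 Q21984 (allL N21984 (tt N20116 F73222) (tt N22403 (iv F74912)) (tt N19819 F73223) (tt N19776 F73224) (tt N20231 F73225) (tt N19813 F73226) (tt N19772 (iv D32341)))
theorem Q21986 : ∀ i, i < 21986 → P i := stepQ 21985 Q21985 (allL N21985 (tt N22727 (iv F76297)) (tt N21364 (iv F73229)) (tt N21362 F73227) (tt N19774 F73228) (tt N22565 (iv F75611)) (tt N19773 (iv D32342)) (tt N22609 (iv F75798)))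
theorem Q21987 : ∀ i, i < 21987 → P i := stepQ 21986 Q21986 (allL N21986 (tt N21284 F73232) (tt N19776 (iv D32343)) (tt N22739 (iv F76347)) (tt N22403 (iv F74914)) (tt N22726 (iv F76293)) (tt N21218 F73230) (tt N21080 F73231))
theorem Q21988 : ∀ i, i < 21988 → P i := stepQ 21987 Q21987 (allL N21987 (tt N19781 F73233) (tt N22748 D33105) (tt N22219 (iv F74144)) (tt N21177 F73234) (tt N19779 F73235) (tt N19778 (iv D32344)) (tt N21990 (iv F73242)))
theorem Q21989 : ∀ i, i < 21989 → P i := stepQ 21988 Q21988 (allL N21988 (tt N22623 (iv F75849)) (tt N19779 (iv D32345)) (tt N22076 (iv F73613)) (tt N22031 (iv F73402)) (tt N22748 (iv F76391)) (tt N22290 (iv F74463)) (tt N22747 (iv F76388)))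
theorem Q21990 : ∀ i, i < 21990 → P i := stepQ 21989 Q21989 (allL N21989 (tt N21990 (iv F73239)) (tt N21952 F73236) (tt N22218 (iv F74140)) (tt N22286 (iv F74441)) (tt N19783 F73237) (tt N21573 F73238) (tt N19781 (iv D32346)))
theorem Q21991 : ∀ i, i < 21991 → P i := stepQ 21990 Q21990 (allL N21990 (tt N21989 F73239) (tt N22599 (iv F75748)) (tt N20298 F73240) (tt N22288 (iv F74452)) (tt N19784 F73241) (tt N19782 (iv D32347)) (tt N21987 F73242))
theorem Q21992 : ∀ i, i < 21992 → P i := stepQ 21991 Q21991 (allL N21991 (tt N22596 (iv F75733)) (tt N19784 (iv D32348)) (tt N22423 (iv F74985)) (tt N22032 (iv F73408)) (tt N22599 (iv F75749)) (tt N22042 (iv F73449)) (tt N22746 (iv F76384)))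
theorem Q21993 : ∀ i, i < 21993 → P i := stepQ 21992 Q21992 (allL N21992 (tt N20193 F73243) (tt N20147 F73244) (tt N19797 F73245) (tt N20146 F73246) (tt N20467 F73247) (tt N20163 F73248) (tt N19785 (iv D32349)))
theorem Q21994 : ∀ i, i < 21994 → P i := stepQ 21993 Q21993 (allL N21993 (tt N20494 F73249) (tt N22205 (iv F74082)) (tt N19791 (iv D32350)) (tt N22300 (iv F74505)) (tt N20500 F73250) (tt N21867 F73251) (tt N19808 F73252))
theorem Q21995 : ∀ i, i < 21995 → P i := stepQ 21994 Q21994 (allL N21994 (tt N19796 F73253) (tt N19823 F73254) (tt N20192 F73255) (tt N20218 F73256) (tt N19826 F73257) (tt N19793 (iv D32351)) (tt N21243 F73258))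
theorem Q21996 : ∀ i, i < 21996 → P i := stepQ 21995 Q21995 (allL N21995 (tt N19797 F73259) (tt N21995 F73260) (tt N20193 F73261) (tt N20219 F73262) (tt N22066 (iv F73572)) (tt N21242 F73263) (tt N19793 (iv D32352)))
theorem Q21997 : ∀ i, i < 21997 → P i := stepQ 21996 Q21996 (allL N21996 (tt N20218 F73264) (tt N22689 (iv F76118)) (tt N20118 F73265) (tt N19796 F73266) (tt N20237 F73267) (tt N19794 (iv D32353)) (tt N20184 F73268))
theorem Q21998 : ∀ i, i < 21998 → P i := stepQ 21997 Q21997 (allL N21997 (tt N19826 F73269) (tt N22699 F76171) (tt N22065 (iv F73564)) (tt N22446 (iv F75069)) (tt N19796 F73270) (tt N19795 (iv D32354)) (tt N22096 (iv F73676)))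
theorem Q21999 : ∀ i, i < 21999 → P i := stepQ 21998 Q21998 (allL N21998 (tt N22066 (iv F73568)) (tt N20734 F73271) (tt N20467 F73272) (tt N22228 (iv F74185)) (tt N19797 F73273) (tt N22009 (iv F73313)) (tt N19795 (iv D32355)))
theorem Q22000 : ∀ i, i < 22000 → P i := stepQ 21999 Q21999 (allL N21999 (tt N22480 (iv F75223)) (tt N19796 (iv D32356)) (tt N22500 (iv F75316)) (tt N22689 (iv F76122)) (tt N22699 (iv F76169)) (tt N19804 F73274) (tt N22698 F76165))
theorem Q22001 : ∀ i, i < 22001 → P i := stepQ 22000 Q22000 (allL N22000 (tt N19814 F73275) (tt N22230 (iv F74192)) (tt N21439 (iv F73278)) (tt N19798 (iv D32357)) (tt N19801 F73276) (tt N21652 (iv F73279)) (tt N21278 F73277))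
theorem Q22002 : ∀ i, i < 22002 → P i := stepQ 22001 Q22001 (allL N22001 (tt N19815 F73280) (tt N21653 F73281) (tt N21279 F73282) (tt N21652 F73283) (tt N19799 F73284) (tt N19798 (iv D32358)) (tt N20245 F73285))
theorem Q22003 : ∀ i, i < 22003 → P i := stepQ 22002 Q22002 (allL N22002 (tt N21655 F73286) (tt N19799 (iv D32359)) (tt N21714 F73287) (tt N19804 F73288) (tt N21653 F73289) (tt N22689 (iv F76120)) (tt N22667 (iv F76028)))
theorem Q22004 : ∀ i, i < 22004 → P i := stepQ 22003 Q22003 (allL N22003 (tt N22406 (iv F74923)) (tt N22009 (iv F73311)) (tt N21386 F73290) (tt N22667 (iv F76026)) (tt N21696 F73291) (tt N21695 F73292) (tt N19804 (iv D32360)))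
theorem Q22005 : ∀ i, i < 22005 → P i := stepQ 22004 Q22004 (allL N22004 (tt N21830 F73293) (tt N22494 F75292) (tt N19806 (iv D32361)) (tt N22026 (iv F73383)) (tt N19807 F73294) (tt N21291 F73295) (tt N19952 F73296))
theorem Q22006 : ∀ i, i < 22006 → P i := stepQ 22005 Q22005 (allL N22005 (tt N20591 F73297) (tt N21352 F73298) (tt N19809 (iv D32362)) (tt N21350 F73299) (tt N20343 F73300) (tt N20342 F73301) (tt N21049 F73302))
theorem Q22007 : ∀ i, i < 22007 → P i := stepQ 22006 Q22006 (allL N22006 (tt N20835 F73303) (tt N19811 F73304) (tt N20288 F73305) (tt N22241 (iv F74244)) (tt N19810 (iv D32363)) (tt N20286 F73306) (tt N22470 (iv F75182)))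
theorem Q22008 : ∀ i, i < 22008 → P i := stepQ 22007 Q22007 (allL N22007 (tt N21277 F73307) (tt N22241 (iv F74247)) (tt N22505 (iv F75338)) (tt N19811 (iv D32364)) (tt N21979 F73308) (tt N22179 (iv F73973)) (tt N21275 F73309))
theorem Q22009 : ∀ i, i < 22009 → P i := stepQ 22008 Q22008 (allL N22008 (tt N22139 (iv F73839)) (tt N19812 (iv D32365)) (tt N22181 (iv F73979)) (tt N21980 F73310) (tt N22180 (iv F73976)) (tt N22634 (iv F75903)) (tt N22133 (iv F73815)))
theorem Q22010 : ∀ i, i < 22010 → P i := stepQ 22009 Q22009 (allL N22009 (tt N22096 (iv F73673)) (tt N22003 F73311) (tt N22067 (iv F73575)) (tt N22447 (iv F75074)) (tt N21243 F73312) (tt N21998 F73313) (tt N19826 (iv D32366)))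
theorem Q22011 : ∀ i, i < 22011 → P i := stepQ 22010 Q22010 (allL N22010 (tt N19834 F73314) (tt N21973 F73315) (tt N22353 (iv F74690)) (tt N19833 (iv D32367)) (tt N22260 (iv F74326)) (tt N21486 F73316) (tt N20725 F73317))
theorem Q22012 : ∀ i, i < 22012 → P i := stepQ 22011 Q22011 (allL N22011 (tt N21486 F73318) (tt N21972 F73319) (tt N21526 F73320) (tt N19835 F73321) (tt N22261 (iv F74333)) (tt N19834 (iv D32368)) (tt N22356 (iv F74708)))
theorem Q22013 : ∀ i, i < 22013 → P i := stepQ 22012 Q22012 (allL N22012 (tt N20398 F73322) (tt N20881 F73323) (tt N20380 F73324) (tt N20205 F73325) (tt N19840 F73326) (tt N19837 (iv D32369)) (tt N20379 F73327))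
theorem Q22014 : ∀ i, i < 22014 → P i := stepQ 22013 Q22013 (allL N22013 (tt N21301 F73328) (tt N22497 F75308) (tt N19846 (iv D32370)) (tt N22700 (iv F76173)) (tt N19849 F73329) (tt N21878 F73330) (tt N21173 F73331))
theorem Q22015 : ∀ i, i < 22015 → P i := stepQ 22014 Q22014 (allL N22014 (tt N21302 F73332) (tt N21879 F73333) (tt N19850 F73334) (tt N21303 F73335) (tt N21878 F73336) (tt N19849 (iv D32371)) (tt N20677 F73337))
theorem Q22016 : ∀ i, i < 22016 → P i := stepQ 22015 Q22015 (allL N22015 (tt N20471 F73338) (tt N22043 F73454) (tt N20501 F73339) (tt N20466 F73340) (tt N21505 F73341) (tt N22274 (iv F74393)) (tt N19854 (iv D32372)))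
theorem Q22017 : ∀ i, i < 22017 → P i := stepQ 22016 Q22016 (allL N22016 (tt N21452 (iv F73345)) (tt N19856 (iv D32373)) (tt N20038 F73342) (tt N21950 F73343) (tt N20040 F73344) (tt N22619 (iv F75832)) (tt N22043 (iv F73453)))
theorem Q22018 : ∀ i, i < 22018 → P i := stepQ 22017 Q22017 (allL N22017 (tt N21502 F73350) (tt N19857 (iv D32374)) (tt N21501 F73346) (tt N21953 F73347) (tt N21503 F73348) (tt N22633 (iv F75896)) (tt N19871 F73349))
theorem Q22019 : ∀ i, i < 22019 → P i := stepQ 22018 Q22018 (allL N22018 (tt N20778 F73353) (tt N19858 (iv D32375)) (tt N20777 (iv F73354)) (tt N22308 (iv F74539)) (tt N22304 (iv F74519)) (tt N19862 F73351) (tt N19881 F73352))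
theorem Q22020 : ∀ i, i < 22020 → P i := stepQ 22019 Q22019 (allL N22019 (tt N22023 (iv F73364)) (tt N19859 (iv D32376)) (tt N22022 (iv F73363)) (tt N20586 F73355) (tt N21935 F73356) (tt N22293 (iv F74476)) (tt N19863 F73357))
theorem Q22021 : ∀ i, i < 22021 → P i := stepQ 22020 Q22020 (allL N22020 (tt N22618 (iv F75826)) (tt N19860 (iv D32377)) (tt N22749 D33106) (tt N19862 F73358) (tt N22733 (iv F76326)) (tt N22308 (iv F74540)) (tt N22154 (iv F73895)))
theorem Q22022 : ∀ i, i < 22022 → P i := stepQ 22021 Q22021 (allL N22021 (tt N22201 (iv F74059)) (tt N19861 (iv D32378)) (tt N21152 F73359) (tt N19863 F73360) (tt N21937 F73361) (tt N22156 (iv F73905)) (tt N20586 F73362))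
theorem Q22023 : ∀ i, i < 22023 → P i := stepQ 22022 Q22022 (allL N22022 (tt N19863 (iv D32379)) (tt N22036 (iv F73419)) (tt N22019 F73363) (tt N22201 (iv F74062)) (tt N22305 (iv F74526)) (tt N22477 (iv F75213)) (tt N22023 (iv F73367)))
theorem Q22024 : ∀ i, i < 22024 → P i := stepQ 22023 Q22023 (allL N22023 (tt N22019 F73364) (tt N20506 F73365) (tt N19863 (iv D32380)) (tt N20271 F73368) (tt N21498 F73366) (tt N21497 (iv F73369)) (tt N22022 F73367))
theorem Q22025 : ∀ i, i < 22025 → P i := stepQ 22024 Q22024 (allL N22024 (tt N22477 (iv F75210)) (tt N21494 F73370) (tt N21497 F73371) (tt N22156 (iv F73903)) (tt N21492 F73372) (tt N19863 (iv D32381)) (tt N21497 F73373))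
theorem Q22026 : ∀ i, i < 22026 → P i := stepQ 22025 Q22025 (allL N22025 (tt N21290 F73374) (tt N20838 F73375) (tt N19867 F73376) (tt N20913 F73377) (tt N19865 F73378) (tt N19864 (iv D32382)) (tt N21847 F73379))
theorem Q22027 : ∀ i, i < 22027 → P i := stepQ 22026 Q22026 (allL N22026 (tt N21368 F73380) (tt N21107 F73381) (tt N19868 F73382) (tt N22004 F73383) (tt N19866 F73384) (tt N21909 F73385) (tt N19864 (iv D32383)))
theorem Q22028 : ∀ i, i < 22028 → P i := stepQ 22027 Q22027 (allL N22027 (tt N21921 F73386) (tt N22386 (iv F74841)) (tt N21847 F73387) (tt N21838 F73388) (tt N19869 F73389) (tt N21836 F73390) (tt N19867 (iv D32384)))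
theorem Q22029 : ∀ i, i < 22029 → P i := stepQ 22028 Q22028 (allL N22028 (tt N22290 (iv F74460)) (tt N19869 (iv D32385)) (tt N22387 (iv F74846)) (tt N19871 F73391) (tt N22386 (iv F74843)) (tt N22623 (iv F75852)) (tt N21953 F73392))
theorem Q22030 : ∀ i, i < 22030 → P i := stepQ 22029 Q22029 (allL N22029 (tt N19871 (iv D32386)) (tt N22030 (iv F73400)) (tt N21490 F73393) (tt N22290 (iv F74462)) (tt N21491 F73394) (tt N22031 (iv F73404)) (tt N21502 F73395))
theorem Q22031 : ∀ i, i < 22031 → P i := stepQ 22030 Q22030 (allL N22030 (tt N20528 F73396) (tt N22029 F73400) (tt N20443 F73397) (tt N20523 F73398) (tt N21463 F73399) (tt N19873 (iv D32387)) (tt N22296 (iv F74488)))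
theorem Q22032 : ∀ i, i < 22032 → P i := stepQ 22031 Q22031 (allL N22031 (tt N21494 F73405) (tt N19874 (iv D32388)) (tt N20018 F73401) (tt N21988 F73402) (tt N20020 F73403) (tt N22029 F73404) (tt N22633 (iv F75897)))
theorem Q22033 : ∀ i, i < 22033 → P i := stepQ 22032 Q22032 (allL N22032 (tt N21460 F73406) (tt N19876 (iv D32389)) (tt N21459 F73407) (tt N21991 F73408) (tt N21461 F73409) (tt N19889 F73410) (tt N22619 (iv F75833)))
theorem Q22034 : ∀ i, i < 22034 → P i := stepQ 22033 Q22033 (allL N22033 (tt N22037 (iv F73421)) (tt N19877 (iv D32390)) (tt N22036 (iv F73420)) (tt N20569 F73411) (tt N21861 F73412) (tt N19880 F73413) (tt N22275 (iv F74398)))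
theorem Q22035 : ∀ i, i < 22035 → P i := stepQ 22034 Q22034 (allL N22034 (tt N22196 (iv F74033)) (tt N19878 (iv D32391)) (tt N21099 F73414) (tt N19880 F73415) (tt N21863 F73416) (tt N20569 F73417) (tt N22165 (iv F73938)))
theorem Q22036 : ∀ i, i < 22036 → P i := stepQ 22035 Q22035 (allL N22035 (tt N22632 (iv F75889)) (tt N19879 (iv D32392)) (tt N22750 D33107) (tt N19881 F73418) (tt N22743 (iv F76371)) (tt N22163 (iv F73927)) (tt N22308 (iv F74541)))
theorem Q22037 : ∀ i, i < 22037 → P i := stepQ 22036 Q22036 (allL N22036 (tt N19880 (iv D32393)) (tt N22022 F73419) (tt N22033 F73420) (tt N22196 (iv F74035)) (tt N22317 (iv F74572)) (tt N22037 (iv F73424)) (tt N22465 (iv F75157)))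
theorem Q22038 : ∀ i, i < 22038 → P i := stepQ 22037 Q22037 (allL N22037 (tt N22033 F73421) (tt N20448 F73422) (tt N19880 (iv D32394)) (tt N20260 F73425) (tt N21456 F73423) (tt N22036 F73424) (tt N21455 (iv F73426)))
theorem Q22039 : ∀ i, i < 22039 → P i := stepQ 22038 Q22038 (allL N22038 (tt N22465 (iv F75153)) (tt N21452 F73427) (tt N21455 F73428) (tt N22165 (iv F73936)) (tt N21450 F73429) (tt N21455 F73430) (tt N19880 (iv D32395)))
theorem Q22040 : ∀ i, i < 22040 → P i := stepQ 22039 Q22039 (allL N22039 (tt N21413 F73431) (tt N21160 F73432) (tt N19885 F73433) (tt N21966 F73434) (tt N19883 F73435) (tt N19882 (iv D32396)) (tt N21824 F73436))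
theorem Q22041 : ∀ i, i < 22041 → P i := stepQ 22040 Q22040 (allL N22040 (tt N21285 F73437) (tt N20842 F73438) (tt N19886 F73439) (tt N20942 F73440) (tt N19884 F73441) (tt N21923 F73442) (tt N19882 (iv D32397)))
theorem Q22042 : ∀ i, i < 22042 → P i := stepQ 22041 Q22041 (allL N22041 (tt N21845 F73443) (tt N22389 (iv F74851)) (tt N21923 F73444) (tt N21915 F73445) (tt N19888 F73446) (tt N19886 (iv D32398)) (tt N21913 F73447))
theorem Q22043 : ∀ i, i < 22043 → P i := stepQ 22042 Q22042 (allL N22042 (tt N22270 (iv F74376)) (tt N19888 (iv D32399)) (tt N22390 (iv F74856)) (tt N19889 F73448) (tt N22389 (iv F74853)) (tt N21991 F73449) (tt N22608 (iv F75793)))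
theorem Q22044 : ∀ i, i < 22044 → P i := stepQ 22043 Q22043 (allL N22043 (tt N19889 (iv D32400)) (tt N22015 (iv F73454)) (tt N21448 F73450) (tt N22270 (iv F74378)) (tt N21449 F73451) (tt N21460 F73452) (tt N22016 F73453))
theorem Q22045 : ∀ i, i < 22045 → P i := stepQ 22044 Q22044 (allL N22044 (tt N20362 F73455) (tt N20010 F73456) (tt N20939 F73460) (tt N19898 (iv D32401)) (tt N20056 F73457) (tt N20381 F73458) (tt N20050 F73459))
theorem Q22046 : ∀ i, i < 22046 → P i := stepQ 22045 Q22045 (allL N22045 (tt N19902 F73461) (tt N20368 F73462) (tt N22122 (iv F73760)) (tt N22611 (iv F75809)) (tt N19903 F73463) (tt N19905 F73464) (tt N19900 (iv D32402)))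
theorem Q22047 : ∀ i, i < 22047 → P i := stepQ 22046 Q22046 (allL N22046 (tt N20391 F73465) (tt N19968 F73466) (tt N20910 F73470) (tt N19911 (iv D32403)) (tt N20036 F73467) (tt N20030 F73468) (tt N20388 F73469))
theorem Q22048 : ∀ i, i < 22048 → P i := stepQ 22047 Q22047 (allL N22047 (tt N19915 F73471) (tt N20384 F73472) (tt N22126 (iv F73779)) (tt N22625 (iv F75863)) (tt N19916 F73473) (tt N19913 (iv D32404)) (tt N19918 F73474))
theorem Q22049 : ∀ i, i < 22049 → P i := stepQ 22048 Q22048 (allL N22048 (tt N20536 F73475) (tt N19922 (iv D32405)) (tt N20535 F73476) (tt N20607 F73477) (tt N19925 F73478) (tt N22048 F73479) (tt N22071 (iv F73597)))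
theorem Q22050 : ∀ i, i < 22050 → P i := stepQ 22049 Q22049 (allL N22049 (tt N19941 F73480) (tt N21258 F73481) (tt N21960 F73482) (tt N19938 F73483) (tt N21250 F73484) (tt N20076 F73485) (tt N19937 (iv D32406)))
theorem Q22051 : ∀ i, i < 22051 → P i := stepQ 22050 Q22050 (allL N22050 (tt N21959 F73486) (tt N22050 F73487) (tt N19940 F73488) (tt N20999 F73489) (tt N21956 F73490) (tt N19939 (iv D32407)) (tt N22113 (iv F73739)))
theorem Q22052 : ∀ i, i < 22052 → P i := stepQ 22051 Q22051 (allL N22051 (tt N22051 F73491) (tt N19940 (iv D32408)) (tt N22051 F73492) (tt N19942 F73493) (tt N22069 (iv F73588)) (tt N19945 F73494) (tt N22112 (iv F73735)))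
theorem Q22053 : ∀ i, i < 22053 → P i := stepQ 22052 Q22052 (allL N22052 (tt N20076 F73495) (tt N20521 F73496) (tt N21971 F73497) (tt N19943 F73498) (tt N20162 F73499) (tt N19941 (iv D32409)) (tt N20526 F73500))
theorem Q22054 : ∀ i, i < 22054 → P i := stepQ 22053 Q22053 (allL N22053 (tt N22053 F73501) (tt N20193 F73502) (tt N22053 F73503) (tt N19946 F73504) (tt N22068 (iv F73582)) (tt N22112 (iv F73734)) (tt N19945 (iv D32410)))
theorem Q22055 : ∀ i, i < 22055 → P i := stepQ 22054 Q22054 (allL N22054 (tt N19950 F73505) (tt N21905 F73506) (tt N22058 (iv F73527)) (tt N19949 (iv D32411)) (tt N20075 F73507) (tt N20400 F73508) (tt N20941 F73509))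
theorem Q22056 : ∀ i, i < 22056 → P i := stepQ 22055 Q22055 (allL N22055 (tt N22058 (iv F73525)) (tt N21328 F73510) (tt N19950 (iv D32412)) (tt N19959 F73513) (tt N20012 F73511) (tt N22057 (iv F73524)) (tt N19957 F73512))
theorem Q22057 : ∀ i, i < 22057 → P i := stepQ 22056 Q22056 (allL N22056 (tt N19957 F73514) (tt N20056 F73515) (tt N20941 F73516) (tt N19955 F73517) (tt N20010 F73518) (tt N19954 (iv D32413)) (tt N22058 (iv F73530)))
theorem Q22058 : ∀ i, i < 22058 → P i := stepQ 22057 Q22057 (allL N22057 (tt N19958 F73519) (tt N19967 F73520) (tt N21315 F73521) (tt N19956 F73522) (tt N20011 F73523) (tt N22055 F73524) (tt N19954 (iv D32414)))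
theorem Q22059 : ∀ i, i < 22059 → P i := stepQ 22058 Q22058 (allL N22058 (tt N22055 F73525) (tt N20422 F73526) (tt N22054 F73527) (tt N19960 F73528) (tt N20013 F73529) (tt N19958 (iv D32415)) (tt N22056 F73530))
theorem Q22060 : ∀ i, i < 22060 → P i := stepQ 22059 Q22059 (allL N22059 (tt N19969 F73531) (tt N21820 F73532) (tt N22063 (iv F73553)) (tt N19963 (iv D32416)) (tt N20058 F73533) (tt N20912 F73534) (tt N20335 F73535))
theorem Q22061 : ∀ i, i < 22061 → P i := stepQ 22060 Q22060 (allL N22060 (tt N19971 F73536) (tt N20011 F73537) (tt N21304 F73538) (tt N19965 F73539) (tt N19967 F73540) (tt N19964 (iv D32417)) (tt N22062 (iv F73549)))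
theorem Q22062 : ∀ i, i < 22062 → P i := stepQ 22061 Q22061 (allL N22061 (tt N19972 F73541) (tt N20036 F73542) (tt N20912 F73543) (tt N19966 F73544) (tt N19968 F73545) (tt N22063 (iv F73556)) (tt N19964 (iv D32418)))
theorem Q22063 : ∀ i, i < 22063 → P i := stepQ 22062 Q22062 (allL N22062 (tt N22063 (iv F73551)) (tt N21323 F73546) (tt N19969 (iv D32419)) (tt N19974 F73550) (tt N19976 F73547) (tt N19972 F73548) (tt N22060 F73549))
theorem Q22064 : ∀ i, i < 22064 → P i := stepQ 22063 Q22063 (allL N22063 (tt N22062 F73551) (tt N20376 F73552) (tt N22059 F73553) (tt N19973 F73554) (tt N19975 F73555) (tt N22061 F73556) (tt N19971 (iv D32420)))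
theorem Q22065 : ∀ i, i < 22065 → P i := stepQ 22064 Q22064 (allL N22064 (tt N20478 F73557) (tt N19983 (iv D32421)) (tt N20477 F73558) (tt N20610 F73559) (tt N19986 F73560) (tt N22084 (iv F73639)) (tt N22064 F73561))
theorem Q22066 : ∀ i, i < 22066 → P i := stepQ 22065 Q22065 (allL N22065 (tt N19999 F73562) (tt N21248 F73563) (tt N21997 F73564) (tt N19997 F73565) (tt N21239 F73566) (tt N19996 (iv D32422)) (tt N20059 F73567))
theorem Q22067 : ∀ i, i < 22067 → P i := stepQ 22066 Q22066 (allL N22066 (tt N21998 F73568) (tt N22066 F73569) (tt N20000 F73570) (tt N20973 F73571) (tt N21995 F73572) (tt N22096 (iv F73675)) (tt N19998 (iv D32423)))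
theorem Q22068 : ∀ i, i < 22068 → P i := stepQ 22067 Q22067 (allL N22067 (tt N20059 F73573) (tt N20462 F73574) (tt N22009 F73575) (tt N20001 F73576) (tt N20163 F73577) (tt N20467 F73578) (tt N19999 (iv D32424)))
theorem Q22069 : ∀ i, i < 22069 → P i := stepQ 22068 Q22068 (allL N22068 (tt N22068 F73579) (tt N20000 (iv D32425)) (tt N22068 F73580) (tt N20002 F73581) (tt N22053 F73582) (tt N22100 (iv F73690)) (tt N20004 F73583))
theorem Q22070 : ∀ i, i < 22070 → P i := stepQ 22069 Q22069 (allL N22069 (tt N22069 F73584) (tt N20175 F73585) (tt N22069 F73586) (tt N20005 F73587) (tt N22051 F73588) (tt N20004 (iv D32426)) (tt N22100 (iv F73691)))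
theorem Q22071 : ∀ i, i < 22071 → P i := stepQ 22070 Q22070 (allL N22070 (tt N21495 F73589) (tt N20367 (iv F73593)) (tt N22633 (iv F75894)) (tt N20019 F73590) (tt N20021 F73591) (tt N21501 F73592) (tt N20018 (iv D32427)))
theorem Q22072 : ∀ i, i < 22072 → P i := stepQ 22071 Q22071 (allL N22071 (tt N22298 (iv F74492)) (tt N21262 F73594) (tt N20023 F73595) (tt N21261 F73596) (tt N20022 (iv D32428)) (tt N22298 (iv F74497)) (tt N22048 F73597))
theorem Q22073 : ∀ i, i < 22073 → P i := stepQ 22072 Q22072 (allL N22072 (tt N21488 F73598) (tt N20025 F73599) (tt N21895 F73603) (tt N20023 (iv D32429)) (tt N20024 F73600) (tt N21488 F73601) (tt N21332 F73602))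
theorem Q22074 : ∀ i, i < 22074 → P i := stepQ 22073 Q22073 (allL N22073 (tt N20029 F73604) (tt N22484 (iv F75245)) (tt N20025 (iv D32430)) (tt N22483 (iv F75243)) (tt N20027 F73605) (tt N21339 F73606) (tt N22721 (iv F76270)))
theorem Q22075 : ∀ i, i < 22075 → P i := stepQ 22074 Q22074 (allL N22074 (tt N20030 F73607) (tt N21893 F73608) (tt N22721 (iv F76267)) (tt N20026 F73609) (tt N20028 F73610) (tt N20391 F73611) (tt N20025 (iv D32431)))
theorem Q22076 : ∀ i, i < 22076 → P i := stepQ 22075 Q22075 (allL N22075 (tt N22325 F74599) (tt N20029 (iv D32432)) (tt N22102 (iv F73697)) (tt N22539 (iv F75498)) (tt N20032 F73612) (tt N22738 (iv F76345)) (tt N22328 (iv F74606)))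
theorem Q22077 : ∀ i, i < 22077 → P i := stepQ 22076 Q22076 (allL N22076 (tt N22483 (iv F75242)) (tt N22539 (iv F75496)) (tt N21988 F73613) (tt N20029 (iv D32433)) (tt N22541 (iv F75506)) (tt N22253 (iv F74293)) (tt N22751 D33108))
theorem Q22078 : ∀ i, i < 22078 → P i := stepQ 22077 Q22077 (allL N22077 (tt N22721 (iv F76265)) (tt N22752 D33109) (tt N20030 F73614) (tt N22751 (iv F76397)) (tt N20034 F73615) (tt N20910 F73616) (tt N20029 (iv D32434)))
theorem Q22079 : ∀ i, i < 22079 → P i := stepQ 22078 Q22078 (allL N22078 (tt N21252 F73617) (tt N20030 (iv D32435)) (tt N22545 (iv F75522)) (tt N20031 F73618) (tt N20035 F73619) (tt N21255 F73620) (tt N22104 (iv F73708)))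
theorem Q22080 : ∀ i, i < 22080 → P i := stepQ 22079 Q22079 (allL N22079 (tt N20236 F73621) (tt N20033 F73622) (tt N21005 F73624) (tt N20032 (iv D32436)) (tt N21311 F73626) (tt N20840 (iv F73625)) (tt N21353 F73623))
theorem Q22081 : ∀ i, i < 22081 → P i := stepQ 22080 Q22080 (allL N22080 (tt N22326 (iv F74600)) (tt N20839 F73627) (tt N22106 (iv F73713)) (tt N20840 F73628) (tt N22738 (iv F76344)) (tt N20032 (iv D32437)) (tt N20630 F73629))
theorem Q22082 : ∀ i, i < 22082 → P i := stepQ 22081 Q22081 (allL N22081 (tt N22753 D33110) (tt N20034 (iv D32438)) (tt N22754 D33111) (tt N21590 F73630) (tt N22752 (iv F76400)) (tt N22168 (iv F73946)) (tt N22331 (iv F74611)))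
theorem Q22083 : ∀ i, i < 22083 → P i := stepQ 22082 Q22082 (allL N22082 (tt N22203 (iv F74071)) (tt N22754 (iv F76408)) (tt N20035 (iv D32439)) (tt N22458 (iv F75121)) (tt N22545 (iv F75524)) (tt N22248 (iv F74273)) (tt N22109 (iv F73719)))
theorem Q22084 : ∀ i, i < 22084 → P i := stepQ 22083 Q22083 (allL N22083 (tt N21453 F73631) (tt N20417 (iv F73635)) (tt N22619 (iv F75830)) (tt N20039 F73632) (tt N20041 F73633) (tt N20038 (iv D32440)) (tt N21459 F73634))
theorem Q22085 : ∀ i, i < 22085 → P i := stepQ 22084 Q22084 (allL N22084 (tt N22279 (iv F74408)) (tt N21264 F73636) (tt N20043 F73637) (tt N21263 F73638) (tt N20042 (iv D32441)) (tt N22064 F73639) (tt N22279 (iv F74413)))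
theorem Q22086 : ∀ i, i < 22086 → P i := stepQ 22085 Q22085 (allL N22085 (tt N21446 F73640) (tt N20045 F73641) (tt N21804 F73645) (tt N20043 (iv D32442)) (tt N20044 F73642) (tt N21327 F73643) (tt N21446 F73644))
theorem Q22087 : ∀ i, i < 22087 → P i := stepQ 22086 Q22086 (allL N22086 (tt N20049 F73646) (tt N22472 (iv F75188)) (tt N20045 (iv D32443)) (tt N22471 (iv F75185)) (tt N20047 F73647) (tt N22725 (iv F76288)) (tt N21347 F73648))
theorem Q22088 : ∀ i, i < 22088 → P i := stepQ 22087 Q22087 (allL N22087 (tt N20050 F73649) (tt N21801 F73650) (tt N22725 (iv F76285)) (tt N20046 F73651) (tt N20048 F73652) (tt N20045 (iv D32444)) (tt N20362 F73653))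
theorem Q22089 : ∀ i, i < 22089 → P i := stepQ 22088 Q22088 (allL N22088 (tt N22339 F74645) (tt N20049 (iv D32445)) (tt N22115 (iv F73741)) (tt N22549 (iv F75541)) (tt N20052 F73654) (tt N22342 (iv F74652)) (tt N22722 (iv F76274)))
theorem Q22090 : ∀ i, i < 22090 → P i := stepQ 22089 Q22089 (allL N22089 (tt N22471 F75186) (tt N22549 (iv F75539)) (tt N21950 F73655) (tt N20049 (iv D32446)) (tt N22550 (iv F75546)) (tt N22755 D33112) (tt N22250 (iv F74283)))
theorem Q22091 : ∀ i, i < 22091 → P i := stepQ 22090 Q22090 (allL N22090 (tt N22725 (iv F76290)) (tt N22756 D33113) (tt N20050 F73656) (tt N22755 (iv F76414)) (tt N20054 F73657) (tt N20049 (iv D32447)) (tt N20939 F73658))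
theorem Q22092 : ∀ i, i < 22092 → P i := stepQ 22091 Q22091 (allL N22091 (tt N21241 F73659) (tt N20050 (iv D32448)) (tt N22554 (iv F75563)) (tt N20051 F73660) (tt N20055 F73661) (tt N22101 (iv F73694)) (tt N21244 F73662))
theorem Q22093 : ∀ i, i < 22093 → P i := stepQ 22092 Q22092 (allL N22092 (tt N20248 F73663) (tt N20053 F73664) (tt N20979 F73666) (tt N20052 (iv D32449)) (tt N21322 F73668) (tt N21399 F73665) (tt N20844 (iv F73667)))
theorem Q22094 : ∀ i, i < 22094 → P i := stepQ 22093 Q22093 (allL N22093 (tt N22340 (iv F74646)) (tt N20843 F73669) (tt N22118 (iv F73749)) (tt N20844 F73670) (tt N22722 (iv F76272)) (tt N20657 F73671) (tt N20052 (iv D32450)))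
theorem Q22095 : ∀ i, i < 22095 → P i := stepQ 22094 Q22094 (allL N22094 (tt N22757 D33114) (tt N20054 (iv D32451)) (tt N22758 D33115) (tt N21709 F73672) (tt N22756 (iv F76417)) (tt N22345 (iv F74658)) (tt N22175 (iv F73965)))
theorem Q22096 : ∀ i, i < 22096 → P i := stepQ 22095 Q22095 (allL N22095 (tt N22198 (iv F74044)) (tt N22758 (iv F76425)) (tt N20055 (iv D32452)) (tt N22445 (iv F75063)) (tt N22554 (iv F75565)) (tt N22120 (iv F73752)) (tt N22262 (iv F74338)))
theorem Q22097 : ∀ i, i < 22097 → P i := stepQ 22096 Q22096 (allL N22096 (tt N22009 F73673) (tt N22759 D33116) (tt N20059 (iv D32453)) (tt N22443 (iv F75054)) (tt N21242 F73674) (tt N22066 F73675) (tt N21997 F73676))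
theorem Q22098 : ∀ i, i < 22098 → P i := stepQ 22097 Q22097 (allL N22097 (tt N22760 D33117) (tt N20060 (iv D32454)) (tt N22759 (iv F76430)) (tt N22110 (iv F73721)) (tt N22110 (iv F73722)) (tt N22097 F73681) (tt N22761 D33118))
theorem Q22099 : ∀ i, i < 22099 → P i := stepQ 22098 Q22098 (allL N22098 (tt N20069 F73677) (tt N22098 F73680) (tt N20061 F73678) (tt N22111 (iv F73727)) (tt N22111 (iv F73728)) (tt N20060 (iv D32455)) (tt N20083 F73679))
theorem Q22100 : ∀ i, i < 22100 → P i := stepQ 22099 Q22099 (allL N22099 (tt N20070 F73682) (tt N22762 D33119) (tt N20062 F73683) (tt N20080 F73684) (tt N20080 F73685) (tt N20078 F73686) (tt N20060 (iv D32456)))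
theorem Q22101 : ∀ i, i < 22101 → P i := stepQ 22100 Q22100 (allL N22100 (tt N22100 F73687) (tt N20061 (iv D32457)) (tt N22100 F73688) (tt N20063 F73689) (tt N22112 (iv F73733)) (tt N22068 F73690) (tt N22069 F73691))
theorem Q22102 : ∀ i, i < 22102 → P i := stepQ 22101 Q22101 (allL N22101 (tt N22263 (iv F74339)) (tt N20062 (iv D32458)) (tt N21233 (iv F73696)) (tt N20064 F73692) (tt N20082 F73693) (tt N22091 F73694) (tt N21248 F73695))
theorem Q22103 : ∀ i, i < 22103 → P i := stepQ 22102 Q22102 (allL N22102 (tt N22763 D33120) (tt N20065 (iv D32459)) (tt N22075 F73697) (tt N20068 F73698) (tt N20068 F73699) (tt N22764 D33121) (tt N22765 D33122))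
theorem Q22104 : ∀ i, i < 22104 → P i := stepQ 22103 Q22103 (allL N22103 (tt N20080 F73700) (tt N22766 D33123) (tt N20066 F73701) (tt N20070 F73702) (tt N20070 F73703) (tt N20077 (iv F73704)) (tt N20065 (iv D32460)))
theorem Q22105 : ∀ i, i < 22105 → P i := stepQ 22104 Q22104 (allL N22104 (tt N22249 (iv F74274)) (tt N20066 (iv D32461)) (tt N21213 (iv F73709)) (tt N20067 F73705) (tt N20071 F73706) (tt N21258 F73707) (tt N22078 F73708))
theorem Q22106 : ∀ i, i < 22106 → P i := stepQ 22105 Q22105 (allL N22105 (tt N20068 (iv D32462)) (tt N20917 (iv F73711)) (tt N20625 F73710) (tt N22763 (iv F76443)) (tt N22763 (iv F76444)) (tt N22767 D33124) (tt N20629 (iv F73712)))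
theorem Q22107 : ∀ i, i < 22107 → P i := stepQ 22106 Q22106 (allL N22106 (tt N22767 (iv F76459)) (tt N22338 (iv F74639)) (tt N22080 F73713) (tt N22764 (iv F76449)) (tt N22764 (iv F76450)) (tt N20068 (iv D32463)) (tt N22333 (iv F74622)))
theorem Q22108 : ∀ i, i < 22108 → P i := stepQ 22107 Q22107 (allL N22107 (tt N20629 F73714) (tt N22117 F74617) (tt N20628 F73715) (tt N22765 (iv F76453)) (tt N22765 (iv F76454)) (tt N22119 F74616) (tt N20068 (iv D32464)))
theorem Q22109 : ∀ i, i < 22109 → P i := stepQ 22108 Q22108 (allL N22108 (tt N22347 (iv F74663)) (tt N20070 (iv D32465)) (tt N22346 (iv F74660)) (tt N22766 (iv F76457)) (tt N22766 (iv F76458)) (tt N22768 D33125) (tt N22117 (iv F74618)))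
theorem Q22110 : ∀ i, i < 22110 → P i := stepQ 22109 Q22109 (allL N22109 (tt N21001 F73716) (tt N22346 F74662) (tt N20071 (iv D32466)) (tt N21002 F73720) (tt N21213 F73717) (tt N21823 F73718) (tt N22082 F73719))
theorem Q22111 : ∀ i, i < 22111 → P i := stepQ 22110 Q22110 (allL N22110 (tt N22769 D33126) (tt N20072 (iv D32467)) (tt N22556 (iv F75569)) (tt N22097 F73721) (tt N22097 F73722) (tt N22110 F73723) (tt N22770 D33127))
theorem Q22112 : ∀ i, i < 22112 → P i := stepQ 22111 Q22111 (allL N22111 (tt N20081 F73724) (tt N22111 F73725) (tt N20073 F73726) (tt N22098 F73727) (tt N22098 F73728) (tt N20072 (iv D32468)) (tt N20077 F73729))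
theorem Q22113 : ∀ i, i < 22113 → P i := stepQ 22112 Q22112 (allL N22112 (tt N22112 F73730) (tt N20073 (iv D32469)) (tt N22112 F73731) (tt N20074 F73732) (tt N22100 F73733) (tt N22053 F73734) (tt N22051 F73735))
theorem Q22114 : ∀ i, i < 22114 → P i := stepQ 22113 Q22113 (allL N22113 (tt N21971 F73736) (tt N22771 D33128) (tt N20076 (iv D32470)) (tt N22456 (iv F75112)) (tt N21253 F73737) (tt N21960 F73738) (tt N22050 F73739))
theorem Q22115 : ∀ i, i < 22115 → P i := stepQ 22114 Q22114 (allL N22114 (tt N22772 D33129) (tt N20077 (iv D32471)) (tt N22771 (iv F76472)) (tt N22121 (iv F73755)) (tt N22121 (iv F73756)) (tt N22773 D33130) (tt N22114 F73740))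
theorem Q22116 : ∀ i, i < 22116 → P i := stepQ 22115 Q22115 (allL N22115 (tt N22774 D33131) (tt N20078 (iv D32472)) (tt N22088 F73741) (tt N20079 F73742) (tt N20079 F73743) (tt N22775 D33132) (tt N22776 D33133))
theorem Q22117 : ∀ i, i < 22117 → P i := stepQ 22116 Q22116 (allL N22116 (tt N20079 (iv D32473)) (tt N20946 (iv F73746)) (tt N20652 F73744) (tt N22774 (iv F76482)) (tt N22774 (iv F76483)) (tt N20656 F73745) (tt N22768 (iv F76464)))
theorem Q22118 : ∀ i, i < 22118 → P i := stepQ 22117 Q22117 (allL N22117 (tt N20656 F73747) (tt N22107 (iv F74617)) (tt N20655 F73748) (tt N22775 (iv F76489)) (tt N22775 (iv F76490)) (tt N20079 (iv D32474)) (tt N22108 F74618))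
theorem Q22119 : ∀ i, i < 22119 → P i := stepQ 22118 Q22118 (allL N22118 (tt N22768 (iv F76462)) (tt N22350 (iv F74675)) (tt N22093 F73749) (tt N22776 (iv F76494)) (tt N22776 (iv F76495)) (tt N22347 (iv F74666)) (tt N20079 (iv D32475)))
theorem Q22120 : ∀ i, i < 22120 → P i := stepQ 22119 Q22119 (allL N22119 (tt N22333 (iv F74619)) (tt N20080 (iv D32476)) (tt N22332 (iv F74614)) (tt N22762 (iv F76440)) (tt N22762 (iv F76441)) (tt N22107 (iv F74616)) (tt N22767 (iv F76461)))
theorem Q22121 : ∀ i, i < 22121 → P i := stepQ 22120 Q22120 (allL N22120 (tt N20975 F73750) (tt N22332 (iv F74615)) (tt N20082 (iv D32477)) (tt N20976 F73754) (tt N21233 F73751) (tt N22095 F73752) (tt N21908 F73753))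
theorem Q22122 : ∀ i, i < 22122 → P i := stepQ 22121 Q22121 (allL N22121 (tt N22777 D33134) (tt N20083 (iv D32478)) (tt N22558 (iv F75578)) (tt N22114 F73755) (tt N22114 F73756) (tt N22778 D33135) (tt N22121 F73757))
theorem Q22123 : ∀ i, i < 22123 → P i := stepQ 22122 Q22122 (allL N22122 (tt N21240 F73758) (tt N20088 F73759) (tt N22045 F73760) (tt N20608 F73761) (tt N20085 F73762) (tt N20084 (iv D32479)) (tt N21262 F73763))
theorem Q22124 : ∀ i, i < 22124 → P i := stepQ 22123 Q22123 (allL N22123 (tt N22348 (iv F74667)) (tt N20928 F73764) (tt N20086 (iv D32480)) (tt N20962 F73767) (tt N20962 F73765) (tt N20091 F73766) (tt N22155 (iv F73900)))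
theorem Q22125 : ∀ i, i < 22125 → P i := stepQ 22124 Q22124 (allL N22124 (tt N20393 F73768) (tt N20090 F73769) (tt N22351 (iv F74680)) (tt N20089 (iv D32481)) (tt N20961 F73770) (tt N21172 F73771) (tt N20187 F73772))
theorem Q22126 : ∀ i, i < 22126 → P i := stepQ 22125 Q22125 (allL N22125 (tt N20091 F73773) (tt N22779 D33136) (tt N20090 (iv D32482)) (tt N20960 F73774) (tt N20960 F73775) (tt N22348 (iv F74671)) (tt N20959 F73776))
theorem Q22127 : ∀ i, i < 22127 → P i := stepQ 22126 Q22126 (allL N22126 (tt N21251 F73777) (tt N20096 F73778) (tt N22047 F73779) (tt N20611 F73780) (tt N20093 F73781) (tt N21264 F73782) (tt N20092 (iv D32483)))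
theorem Q22128 : ∀ i, i < 22128 → P i := stepQ 22127 Q22127 (allL N22127 (tt N22334 (iv F74623)) (tt N20957 F73783) (tt N20094 (iv D32484)) (tt N20933 F73786) (tt N20933 F73784) (tt N22164 (iv F73932)) (tt N20099 F73785))
theorem Q22129 : ∀ i, i < 22129 → P i := stepQ 22128 Q22128 (allL N22128 (tt N20323 F73787) (tt N20098 F73788) (tt N22359 (iv F74722)) (tt N20097 (iv D32485)) (tt N20932 F73789) (tt N20170 F73790) (tt N21119 F73791))
theorem Q22130 : ∀ i, i < 22130 → P i := stepQ 22129 Q22129 (allL N22129 (tt N20099 F73792) (tt N22780 D33137) (tt N20098 (iv D32486)) (tt N20931 F73793) (tt N20931 F73794) (tt N20930 F73795) (tt N22334 (iv F74627)))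
theorem Q22131 : ∀ i, i < 22131 → P i := stepQ 22130 Q22130 (allL N22130 (tt N20107 F73796) (tt N22710 (iv F76219)) (tt N20626 F73797) (tt N20104 F73798) (tt N22392 (iv F74864)) (tt N20799 F73799) (tt N20103 (iv D32487)))
theorem Q22132 : ∀ i, i < 22132 → P i := stepQ 22131 Q22131 (allL N22131 (tt N21365 F73800) (tt N20109 (iv D32488)) (tt N20315 F73801) (tt N21118 F73802) (tt N20226 F73803) (tt N21970 F73804) (tt N21105 F73805))
theorem Q22133 : ∀ i, i < 22133 → P i := stepQ 22132 Q22132 (allL N22132 (tt N20115 F73806) (tt N22669 (iv F76034)) (tt N20653 F73807) (tt N20112 F73808) (tt N22399 (iv F74895)) (tt N20111 (iv D32489)) (tt N20809 F73809))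
theorem Q22134 : ∀ i, i < 22134 → P i := stepQ 22133 Q22133 (allL N22133 (tt N21410 F73810) (tt N20117 (iv D32490)) (tt N20295 F73811) (tt N21168 F73812) (tt N20233 F73813) (tt N21158 F73814) (tt N22008 F73815))
theorem Q22135 : ∀ i, i < 22135 → P i := stepQ 22134 Q22134 (allL N22134 (tt N21698 F73821) (tt N20123 (iv D32491)) (tt N20256 F73816) (tt N21076 F73817) (tt N20244 F73818) (tt N21713 F73819) (tt N21075 F73820))
theorem Q22136 : ∀ i, i < 22136 → P i := stepQ 22135 Q22135 (allL N22135 (tt N21572 F73827) (tt N20130 (iv D32492)) (tt N20244 F73822) (tt N21039 F73823) (tt N20256 F73824) (tt N21038 F73825) (tt N21595 F73826))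
theorem Q22137 : ∀ i, i < 22137 → P i := stepQ 22136 Q22136 (allL N22136 (tt N21081 F73828) (tt N22388 (iv F74848)) (tt N20132 (iv D32493)) (tt N22384 (iv F74833)) (tt N21084 F73829) (tt N20405 F73830) (tt N20183 F73831))
theorem Q22138 : ∀ i, i < 22138 → P i := stepQ 22137 Q22137 (allL N22137 (tt N21044 F73832) (tt N22391 (iv F74858)) (tt N20135 (iv D32494)) (tt N22385 (iv F74838)) (tt N21049 F73833) (tt N20166 F73834) (tt N20343 F73835))
theorem Q22139 : ∀ i, i < 22139 → P i := stepQ 22138 Q22138 (allL N22138 (tt N22144 (iv F73860)) (tt N20541 F73836) (tt N20138 (iv D32495)) (tt N22142 (iv F73856)) (tt N20543 F73837) (tt N21123 F73838) (tt N22513 (iv F75377)))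
theorem Q22140 : ∀ i, i < 22140 → P i := stepQ 22139 Q22139 (allL N22139 (tt N22008 F73839) (tt N20139 (iv D32496)) (tt N20233 F73840) (tt N21117 F73841) (tt N20295 F73842) (tt N22516 (iv F75392)) (tt N21410 F73843))
theorem Q22141 : ∀ i, i < 22141 → P i := stepQ 22140 Q22140 (allL N22140 (tt N22147 (iv F73871)) (tt N20483 F73844) (tt N20142 (iv D32497)) (tt N22145 (iv F73867)) (tt N20484 F73845) (tt N22534 (iv F75473)) (tt N21176 F73846))
theorem Q22142 : ∀ i, i < 22142 → P i := stepQ 22141 Q22141 (allL N22141 (tt N21970 F73847) (tt N20143 (iv D32498)) (tt N20226 F73848) (tt N21167 F73849) (tt N20315 F73850) (tt N21365 F73851) (tt N22488 (iv F75267)))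
theorem Q22143 : ∀ i, i < 22143 → P i := stepQ 22142 Q22142 (allL N22142 (tt N20148 F73852) (tt N20767 F73853) (tt N20147 (iv D32499)) (tt N22138 F73856) (tt N20465 F73854) (tt N20464 F73855) (tt N22205 (iv F74085)))
theorem Q22144 : ∀ i, i < 22144 → P i := stepQ 22143 Q22143 (allL N22143 (tt N22143 F73857) (tt N20148 (iv D32500)) (tt N22143 F73858) (tt N22781 D33138) (tt N20473 F73859) (tt N22316 (iv F74566)) (tt N22782 D33139))
theorem Q22145 : ∀ i, i < 22145 → P i := stepQ 22144 Q22144 (allL N22144 (tt N22138 F73860) (tt N22781 (iv F76515)) (tt N21680 F73861) (tt N20148 (iv D32501)) (tt N22302 (iv F74511)) (tt N20472 F73862) (tt N22605 (iv F75778)))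
theorem Q22146 : ∀ i, i < 22146 → P i := stepQ 22145 Q22145 (allL N22145 (tt N20151 F73863) (tt N20755 F73864) (tt N20150 (iv D32502)) (tt N22140 F73867) (tt N20524 F73865) (tt N22200 (iv F74057)) (tt N20522 F73866))
theorem Q22147 : ∀ i, i < 22147 → P i := stepQ 22146 Q22146 (allL N22146 (tt N22146 F73868) (tt N20151 (iv D32503)) (tt N22146 F73869) (tt N22783 D33140) (tt N20533 F73870) (tt N22782 (iv F76520)) (tt N22316 (iv F74567)))
theorem Q22148 : ∀ i, i < 22148 → P i := stepQ 22147 Q22147 (allL N22147 (tt N22140 F73871) (tt N22783 (iv F76522)) (tt N21553 F73872) (tt N20151 (iv D32504)) (tt N22283 (iv F74425)) (tt N22622 (iv F75847)) (tt N20530 F73873))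
theorem Q22149 : ∀ i, i < 22149 → P i := stepQ 22148 Q22148 (allL N22148 (tt N22197 (iv F74038)) (tt N22784 D33141) (tt N20154 F73874) (tt N21864 F73875) (tt N22165 (iv F73937)) (tt N20153 (iv D32505)) (tt N21863 F73876))
theorem Q22150 : ∀ i, i < 22150 → P i := stepQ 22149 Q22149 (allL N22149 (tt N22202 (iv F74065)) (tt N22785 D33142) (tt N20159 F73877) (tt N21938 F73878) (tt N22156 (iv F73904)) (tt N21937 F73879) (tt N20158 (iv D32506)))
theorem Q22151 : ∀ i, i < 22151 → P i := stepQ 22150 Q22150 (allL N22150 (tt N21052 F73880) (tt N20434 F73881) (tt N20165 (iv D32507)) (tt N21785 F73885) (tt N20166 F73882) (tt N21049 F73883) (tt N21868 F73884))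
theorem Q22152 : ∀ i, i < 22152 → P i := stepQ 22151 Q22151 (allL N22151 (tt N22193 (iv F74020)) (tt N20167 (iv D32508)) (tt N22206 (iv F74086)) (tt N22558 (iv F75579)) (tt N22786 D33143) (tt N22637 (iv F75909)) (tt N22151 F73886))
theorem Q22153 : ∀ i, i < 22153 → P i := stepQ 22152 Q22152 (allL N22152 (tt N20293 F73887) (tt N22786 (iv F76537)) (tt N20168 F73888) (tt N22787 D33144) (tt N20167 (iv D32509)) (tt N20249 F73889) (tt N20290 F73890))
theorem Q22154 : ∀ i, i < 22154 → P i := stepQ 22153 Q22153 (allL N22153 (tt N22284 (iv F74427)) (tt N20172 F73891) (tt N21778 F73892) (tt N21423 F73893) (tt N20171 (iv D32510)) (tt N22358 (iv F74718)) (tt N22284 (iv F74432)))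
theorem Q22155 : ∀ i, i < 22155 → P i := stepQ 22154 Q22154 (allL N22154 (tt N22163 F73928) (tt N20173 (iv D32511)) (tt N22788 D33145) (tt N21500 F73894) (tt N22744 (iv F76375)) (tt N22632 (iv F75891)) (tt N22020 F73895))
theorem Q22156 : ∀ i, i < 22156 → P i := stepQ 22155 Q22155 (allL N22155 (tt N20658 F73896) (tt N22788 (iv F76548)) (tt N20174 (iv D32512)) (tt N20660 F73897) (tt N20660 F73898) (tt N20959 F73899) (tt N22123 F73900))
theorem Q22157 : ∀ i, i < 22157 → P i := stepQ 22156 Q22156 (allL N22156 (tt N21065 F73901) (tt N22623 (iv F75850)) (tt N20488 F73902) (tt N22024 F73903) (tt N22149 F73904) (tt N22021 F73905) (tt N20178 (iv D32513)))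
theorem Q22158 : ∀ i, i < 22158 → P i := stepQ 22157 Q22157 (allL N22157 (tt N22747 (iv F76385)) (tt N20179 (iv D32514)) (tt N22584 (iv F75685)) (tt N21521 F73906) (tt N22589 (iv F75707)) (tt N22583 (iv F75683)) (tt N22623 (iv F75853)))
theorem Q22159 : ∀ i, i < 22159 → P i := stepQ 22158 Q22158 (allL N22158 (tt N20684 F73907) (tt N22584 (iv F75684)) (tt N20180 (iv D32515)) (tt N21773 F73908) (tt N20685 F73909) (tt N20797 F73910) (tt N20489 F73911))
theorem Q22160 : ∀ i, i < 22160 → P i := stepQ 22159 Q22159 (allL N22159 (tt N21087 F73912) (tt N20489 F73913) (tt N20182 (iv D32516)) (tt N21882 F73917) (tt N20183 F73914) (tt N21764 F73915) (tt N21084 F73916))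
theorem Q22161 : ∀ i, i < 22161 → P i := stepQ 22160 Q22160 (allL N22160 (tt N22186 (iv F73995)) (tt N20184 (iv D32517)) (tt N22221 (iv F74151)) (tt N22556 (iv F75570)) (tt N22789 D33146) (tt N22160 F73918) (tt N22691 (iv F76130)))
theorem Q22162 : ∀ i, i < 22162 → P i := stepQ 22161 Q22161 (allL N22161 (tt N20312 F73919) (tt N22789 (iv F76553)) (tt N20185 F73920) (tt N22790 D33147) (tt N20184 (iv D32518)) (tt N20310 F73921) (tt N20237 F73922))
theorem Q22163 : ∀ i, i < 22163 → P i := stepQ 22162 Q22162 (allL N22162 (tt N22264 (iv F74345)) (tt N20189 F73923) (tt N21876 F73924) (tt N21379 F73925) (tt N20188 (iv D32519)) (tt N22264 (iv F74348)) (tt N22364 (iv F74749)))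
theorem Q22164 : ∀ i, i < 22164 → P i := stepQ 22163 Q22163 (allL N22163 (tt N22154 (iv F73928)) (tt N20190 (iv D32520)) (tt N22791 D33148) (tt N21458 F73926) (tt N22734 (iv F76329)) (tt N22035 F73927) (tt N22618 (iv F75829)))
theorem Q22165 : ∀ i, i < 22165 → P i := stepQ 22164 Q22164 (allL N22164 (tt N20631 F73929) (tt N22791 (iv F76565)) (tt N20191 (iv D32521)) (tt N20633 F73930) (tt N20633 F73931) (tt N22127 F73932) (tt N20930 F73933))
theorem Q22166 : ∀ i, i < 22166 → P i := stepQ 22165 Q22165 (allL N22165 (tt N21027 F73934) (tt N22608 (iv F75790)) (tt N20430 F73935) (tt N22038 F73936) (tt N22148 F73937) (tt N20195 (iv D32522)) (tt N22034 F73938))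
theorem Q22167 : ∀ i, i < 22167 → P i := stepQ 22166 Q22166 (allL N22166 (tt N22746 (iv F76382)) (tt N20196 (iv D32523)) (tt N22597 (iv F75739)) (tt N21479 F73939) (tt N22602 (iv F75763)) (tt N22608 (iv F75792)) (tt N22596 F75737))
theorem Q22168 : ∀ i, i < 22168 → P i := stepQ 22167 Q22167 (allL N22167 (tt N20721 F73940) (tt N22597 (iv F75738)) (tt N20197 (iv D32524)) (tt N21787 F73941) (tt N20722 F73942) (tt N20434 F73943) (tt N20793 F73944))
theorem Q22169 : ∀ i, i < 22169 → P i := stepQ 22168 Q22168 (allL N22168 (tt N22464 (iv F75150)) (tt N20220 (iv D32525)) (tt N22476 (iv F75208)) (tt N20221 F73945) (tt N22405 (iv F74922)) (tt N22081 F73946) (tt N22710 (iv F76220)))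
theorem Q22170 : ∀ i, i < 22170 → P i := stepQ 22169 Q22169 (allL N22169 (tt N20221 (iv D32526)) (tt N20981 F73947) (tt N21617 F73948) (tt N22464 (iv F75152)) (tt N22675 (iv F76052)) (tt N22658 (iv F75994)) (tt N22675 (iv F76054)))
theorem Q22171 : ∀ i, i < 22171 → P i := stepQ 22170 Q22170 (allL N22170 (tt N20223 (iv D32527)) (tt N20927 (iv F73951)) (tt N22588 (iv F75702)) (tt N20224 F73949) (tt N22624 (iv F75856)) (tt N22562 (iv F75599)) (tt N21266 F73950))
theorem Q22172 : ∀ i, i < 22172 → P i := stepQ 22171 Q22171 (allL N22171 (tt N22588 (iv F75701)) (tt N22268 (iv F74366)) (tt N20223 (iv D32528)) (tt N22586 (iv F75697)) (tt N22269 (iv F74373)) (tt N22792 D33149) (tt N21267 F73952))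
theorem Q22173 : ∀ i, i < 22173 → P i := stepQ 22172 Q22172 (allL N22172 (tt N22562 (iv F75595)) (tt N22486 (iv F75256)) (tt N22792 (iv F76570)) (tt N20225 F73953) (tt N22740 (iv F76357)) (tt N20223 (iv D32529)) (tt N21969 F73954))
theorem Q22174 : ∀ i, i < 22174 → P i := stepQ 22173 Q22173 (allL N22173 (tt N20315 F73955) (tt N20225 (iv D32530)) (tt N21365 F73956) (tt N22486 (iv F75257)) (tt N21970 F73957) (tt N20226 F73958) (tt N22225 (iv F74171)))
theorem Q22175 : ∀ i, i < 22175 → P i := stepQ 22174 Q22174 (allL N22174 (tt N20226 (iv D32531)) (tt N20872 F73959) (tt N21970 F73960) (tt N21042 F73961) (tt N21365 F73962) (tt N20315 F73963) (tt N22487 (iv F75263)))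
theorem Q22176 : ∀ i, i < 22176 → P i := stepQ 22175 Q22175 (allL N22175 (tt N22476 (iv F75207)) (tt N20227 (iv D32532)) (tt N22464 (iv F75151)) (tt N20228 F73964) (tt N22424 (iv F74990)) (tt N22669 (iv F76035)) (tt N22094 F73965))
theorem Q22177 : ∀ i, i < 22177 → P i := stepQ 22176 Q22176 (allL N22176 (tt N20228 (iv D32533)) (tt N21007 F73966) (tt N21577 F73967) (tt N22476 (iv F75209)) (tt N22668 (iv F76031)) (tt N22668 (iv F76032)) (tt N22688 (iv F76116)))
theorem Q22178 : ∀ i, i < 22178 → P i := stepQ 22177 Q22177 (allL N22177 (tt N20230 (iv D32534)) (tt N20956 (iv F73970)) (tt N22601 (iv F75756)) (tt N20231 F73968) (tt N22609 (iv F75796)) (tt N21275 F73969) (tt N22565 (iv F75612)))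
theorem Q22179 : ∀ i, i < 22179 → P i := stepQ 22178 Q22178 (allL N22178 (tt N22601 (iv F75755)) (tt N22288 (iv F74450)) (tt N20230 (iv D32535)) (tt N22599 (iv F75751)) (tt N22289 (iv F74458)) (tt N21276 F73971) (tt N22793 D33150))
theorem Q22180 : ∀ i, i < 22180 → P i := stepQ 22179 Q22179 (allL N22179 (tt N22565 (iv F75608)) (tt N22515 (iv F75386)) (tt N22793 (iv F76575)) (tt N20232 F73972) (tt N22727 (iv F76301)) (tt N22007 F73973) (tt N20230 (iv D32536)))
theorem Q22181 : ∀ i, i < 22181 → P i := stepQ 22180 Q22180 (allL N22180 (tt N20295 F73974) (tt N20232 (iv D32537)) (tt N21410 F73975) (tt N22515 (iv F75388)) (tt N22008 F73976) (tt N22210 (iv F74106)) (tt N20233 F73977))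
theorem Q22182 : ∀ i, i < 22182 → P i := stepQ 22181 Q22181 (allL N22181 (tt N20233 (iv D32538)) (tt N20896 F73978) (tt N22008 F73979) (tt N21079 F73980) (tt N21410 F73981) (tt N22492 (iv F75281)) (tt N20295 F73982))
theorem Q22183 : ∀ i, i < 22183 → P i := stepQ 22182 Q22182 (allL N22182 (tt N22188 (iv F74003)) (tt N21624 F73983) (tt N22445 (iv F75062)) (tt N20237 (iv D32539)) (tt N22446 (iv F75070)) (tt N22230 (iv F74196)) (tt N22790 (iv F76563)))
theorem Q22184 : ∀ i, i < 22184 → P i := stepQ 22183 Q22183 (allL N22183 (tt N21690 F73984) (tt N20240 F73985) (tt N22461 (iv F75137)) (tt N20239 (iv D32540)) (tt N21088 F73986) (tt N21082 F73987) (tt N22452 (iv F75096)))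
theorem Q22185 : ∀ i, i < 22185 → P i := stepQ 22184 Q22184 (allL N22184 (tt N21190 F73988) (tt N22560 (iv F75588)) (tt N20240 (iv D32541)) (tt N22199 (iv F74050)) (tt N21184 F73989) (tt N21176 F73990) (tt N22622 (iv F75848)))
theorem Q22186 : ∀ i, i < 22186 → P i := stepQ 22185 Q22185 (allL N22185 (tt N21191 F73991) (tt N22794 D33151) (tt N22622 (iv F75845)) (tt N20241 F73992) (tt N21187 F73993) (tt N21553 F73994) (tt N20240 (iv D32542)))
theorem Q22187 : ∀ i, i < 22187 → P i := stepQ 22186 Q22186 (allL N22186 (tt N22160 F73995) (tt N20241 (iv D32543)) (tt N22789 (iv F76554)) (tt N22794 (iv F76579)) (tt N22221 (iv F74152)) (tt N22186 F73996) (tt N22692 (iv F76136)))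
theorem Q22188 : ∀ i, i < 22188 → P i := stepQ 22187 Q22187 (allL N22187 (tt N21083 F73997) (tt N20242 (iv D32544)) (tt N21048 F73998) (tt N21013 F73999) (tt N21047 F74000) (tt N20309 F74001) (tt N21126 (iv F74002)))
theorem Q22189 : ∀ i, i < 22189 → P i := stepQ 22188 Q22188 (allL N22188 (tt N22182 F74003) (tt N20245 (iv D32545)) (tt N20978 F74004) (tt N20810 F74005) (tt N20982 F74006) (tt N20977 F74007) (tt N22229 (iv F74190)))
theorem Q22190 : ∀ i, i < 22190 → P i := stepQ 22189 Q22189 (allL N22189 (tt N22195 (iv F74028)) (tt N21737 F74008) (tt N22458 (iv F75120)) (tt N20249 (iv D32546)) (tt N22459 (iv F75128)) (tt N22787 (iv F76546)) (tt N22214 F74127))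
theorem Q22191 : ∀ i, i < 22191 → P i := stepQ 22190 Q22190 (allL N22190 (tt N21564 F74009) (tt N20252 F74010) (tt N22448 (iv F75079)) (tt N20251 (iv D32547)) (tt N21053 F74011) (tt N22439 (iv F75037)) (tt N21045 F74012))
theorem Q22192 : ∀ i, i < 22192 → P i := stepQ 22191 Q22191 (allL N22191 (tt N21141 F74013) (tt N22563 (iv F75601)) (tt N20252 (iv D32548)) (tt N22204 (iv F74077)) (tt N21131 F74014) (tt N22605 (iv F75777)) (tt N21123 F74015))
theorem Q22193 : ∀ i, i < 22193 → P i := stepQ 22192 Q22192 (allL N22192 (tt N21142 F74016) (tt N22795 D33152) (tt N22605 (iv F75775)) (tt N20253 F74017) (tt N21137 F74018) (tt N20252 (iv D32549)) (tt N21680 F74019))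
theorem Q22194 : ∀ i, i < 22194 → P i := stepQ 22193 Q22193 (allL N22193 (tt N22151 F74020) (tt N20253 (iv D32550)) (tt N22786 (iv F76538)) (tt N22795 (iv F76584)) (tt N22206 (iv F74087)) (tt N22638 (iv F75911)) (tt N22193 F74021))
theorem Q22195 : ∀ i, i < 22195 → P i := stepQ 22194 Q22194 (allL N22194 (tt N21048 F74022) (tt N20254 (iv D32551)) (tt N21083 F74023) (tt N20987 F74024) (tt N21046 F74025) (tt N21179 (iv F74027)) (tt N20289 F74026))
theorem Q22196 : ∀ i, i < 22196 → P i := stepQ 22195 Q22195 (allL N22195 (tt N22189 F74028) (tt N20257 (iv D32552)) (tt N21004 F74029) (tt N20800 F74030) (tt N21008 F74031) (tt N22215 (iv F74131)) (tt N21003 F74032))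
theorem Q22197 : ∀ i, i < 22197 → P i := stepQ 22196 Q22196 (allL N22196 (tt N22034 F74033) (tt N22201 (iv F74060)) (tt N20261 F74034) (tt N22036 F74035) (tt N20263 F74036) (tt N20260 (iv D32553)) (tt N21027 F74037))
theorem Q22198 : ∀ i, i < 22198 → P i := stepQ 22197 Q22197 (allL N22197 (tt N22148 F74038) (tt N21867 F74039) (tt N20264 F74040) (tt N21145 F74041) (tt N21027 F74042) (tt N21144 F74043) (tt N20263 (iv D32554)))
theorem Q22199 : ∀ i, i < 22199 → P i := stepQ 22198 Q22198 (allL N22198 (tt N22095 F74044) (tt N21289 (iv F74048)) (tt N20265 (iv D32555)) (tt N20978 F74047) (tt N22462 (iv F75144)) (tt N20975 F74045) (tt N21292 F74046))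
theorem Q22200 : ∀ i, i < 22200 → P i := stepQ 22199 Q22199 (allL N22199 (tt N20269 F74049) (tt N22585 (iv F75689)) (tt N20267 (iv D32556)) (tt N22184 F74050) (tt N20523 F74051) (tt N20522 F74052) (tt N21487 F74053))
theorem Q22201 : ∀ i, i < 22201 → P i := stepQ 22200 Q22200 (allL N22200 (tt N21487 F74054) (tt N21955 (iv F74058)) (tt N20270 F74055) (tt N22534 (iv F75471)) (tt N20532 F74056) (tt N22145 F74057) (tt N20269 (iv D32557)))
theorem Q22202 : ∀ i, i < 22202 → P i := stepQ 22201 Q22201 (allL N22201 (tt N22021 F74059) (tt N22196 F74060) (tt N20272 F74061) (tt N22022 F74062) (tt N20274 F74063) (tt N21065 F74064) (tt N20271 (iv D32558)))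
theorem Q22203 : ∀ i, i < 22203 → P i := stepQ 22202 Q22202 (allL N22202 (tt N22149 F74065) (tt N21763 F74066) (tt N20275 F74067) (tt N21194 F74068) (tt N21065 F74069) (tt N20274 (iv D32559)) (tt N21193 F74070))
theorem Q22204 : ∀ i, i < 22204 → P i := stepQ 22203 Q22203 (allL N22203 (tt N22082 F74071) (tt N21284 (iv F74075)) (tt N20276 (iv D32560)) (tt N21004 F74074) (tt N22474 (iv F75201)) (tt N21287 F74072) (tt N21001 F74073))
theorem Q22205 : ∀ i, i < 22205 → P i := stepQ 22204 Q22204 (allL N22204 (tt N20280 F74076) (tt N22598 (iv F75743)) (tt N20278 (iv D32561)) (tt N22191 F74077) (tt N20466 F74078) (tt N21443 F74079) (tt N20464 F74080))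
theorem Q22206 : ∀ i, i < 22206 → P i := stepQ 22205 Q22205 (allL N22205 (tt N21443 F74081) (tt N21993 F74082) (tt N20281 F74083) (tt N22513 (iv F75375)) (tt N20476 F74084) (tt N20280 (iv D32562)) (tt N22142 F74085))
theorem Q22207 : ∀ i, i < 22207 → P i := stepQ 22206 Q22206 (allL N22206 (tt N22786 (iv F76536)) (tt N20282 (iv D32563)) (tt N22151 F74086) (tt N21537 (iv F74090)) (tt N22193 F74087) (tt N21536 F74088) (tt N22206 F74089))
theorem Q22208 : ∀ i, i < 22208 → P i := stepQ 22207 Q22207 (allL N22207 (tt N20283 F74091) (tt N21537 F74092) (tt N22238 (iv F74229)) (tt N20282 (iv D32564)) (tt N22510 (iv F75363)) (tt N21541 F74093) (tt N20285 F74094))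
theorem Q22209 : ∀ i, i < 22209 → P i := stepQ 22208 Q22208 (allL N22208 (tt N21541 F74095) (tt N21179 F74096) (tt N22385 (iv F74837)) (tt N20284 F74097) (tt N21178 F74098) (tt N20283 (iv D32565)) (tt N21681 F74099))
theorem Q22210 : ∀ i, i < 22210 → P i := stepQ 22209 Q22209 (allL N22209 (tt N20287 F74100) (tt N22209 F74101) (tt N20996 F74102) (tt N21134 F74103) (tt N20285 (iv D32566)) (tt N21133 F74104) (tt N22510 (iv F75364)))
theorem Q22211 : ∀ i, i < 22211 → P i := stepQ 22210 Q22210 (allL N22210 (tt N22217 (iv F74135)) (tt N20286 (iv D32567)) (tt N21529 F74105) (tt N22240 (iv F74239)) (tt N22634 (iv F75902)) (tt N22180 F74106) (tt N22492 (iv F75282)))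
theorem Q22212 : ∀ i, i < 22212 → P i := stepQ 22211 Q22211 (allL N22211 (tt N20291 F74107) (tt N22211 F74108) (tt N20997 F74111) (tt N20290 (iv D32568)) (tt N20999 F74109) (tt N21003 F74110) (tt N22787 (iv F76547)))
theorem Q22213 : ∀ i, i < 22213 → P i := stepQ 22212 Q22212 (allL N22212 (tt N20997 F74112) (tt N22603 (iv F75765)) (tt N20291 (iv D32569)) (tt N21823 F74113) (tt N20998 F74115) (tt N21002 (iv F74114)) (tt N21740 F74116))
theorem Q22214 : ∀ i, i < 22214 → P i := stepQ 22213 Q22213 (allL N22213 (tt N20999 F74117) (tt N21411 F74118) (tt N20998 F74119) (tt N21959 F74120) (tt N20291 (iv D32570)) (tt N21006 (iv F74121)) (tt N22460 (iv F75134)))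
theorem Q22215 : ∀ i, i < 22215 → P i := stepQ 22214 Q22214 (allL N22214 (tt N21003 F74122) (tt N21962 F74123) (tt N21002 F74124) (tt N20292 F74125) (tt N21006 F74126) (tt N20291 (iv D32571)) (tt N22189 (iv F74127)))
theorem Q22216 : ∀ i, i < 22216 → P i := stepQ 22215 Q22215 (allL N22215 (tt N22787 (iv F76542)) (tt N21730 F74128) (tt N21740 F74129) (tt N20293 F74130) (tt N22460 (iv F75133)) (tt N22195 F74131) (tt N20291 (iv D32572)))
theorem Q22217 : ∀ i, i < 22217 → P i := stepQ 22216 Q22216 (allL N22216 (tt N22515 (iv F75385)) (tt N20296 F74132) (tt N22231 (iv F74199)) (tt N20295 (iv D32573)) (tt N22796 D33153) (tt N21150 (iv F74134)) (tt N21079 F74133))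
theorem Q22218 : ∀ i, i < 22218 → P i := stepQ 22217 Q22217 (allL N22217 (tt N22210 F74135) (tt N22518 (iv F75397)) (tt N21158 F74136) (tt N21150 F74137) (tt N22516 (iv F75391)) (tt N20295 (iv D32574)) (tt N21148 F74138))
theorem Q22219 : ∀ i, i < 22219 → P i := stepQ 22218 Q22218 (allL N22218 (tt N20298 F74139) (tt N22796 (iv F76589)) (tt N21989 F74140) (tt N21120 F74141) (tt N20296 (iv D32575)) (tt N22648 F75961) (tt N21072 F74142))
theorem Q22220 : ∀ i, i < 22220 → P i := stepQ 22219 Q22219 (allL N22219 (tt N21072 F74143) (tt N22542 (iv F75511)) (tt N21987 F74144) (tt N22359 (iv F74723)) (tt N20299 F74145) (tt N21777 F74146) (tt N20298 (iv D32576)))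
theorem Q22221 : ∀ i, i < 22221 → P i := stepQ 22220 Q22220 (allL N22220 (tt N21061 F74147) (tt N20299 (iv D32577)) (tt N22539 (iv F75497)) (tt N20300 F74148) (tt N22542 (iv F75509)) (tt N21318 F74149) (tt N21231 F74150))
theorem Q22222 : ∀ i, i < 22222 → P i := stepQ 22221 Q22221 (allL N22221 (tt N22789 (iv F76552)) (tt N20302 (iv D32578)) (tt N22160 F74151) (tt N21667 (iv F74155)) (tt N22186 F74152) (tt N22221 F74153) (tt N21666 F74154))
theorem Q22223 : ∀ i, i < 22223 → P i := stepQ 22222 Q22222 (allL N22222 (tt N20303 F74156) (tt N21667 F74157) (tt N22257 (iv F74312)) (tt N20302 (iv D32579)) (tt N22512 (iv F75372)) (tt N20305 F74158) (tt N21671 F74159))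
theorem Q22224 : ∀ i, i < 22224 → P i := stepQ 22223 Q22223 (allL N22223 (tt N21671 F74160) (tt N21126 F74161) (tt N22384 (iv F74832)) (tt N20304 F74162) (tt N21125 F74163) (tt N21554 F74164) (tt N20303 (iv D32580)))
theorem Q22225 : ∀ i, i < 22225 → P i := stepQ 22224 Q22224 (allL N22224 (tt N20307 F74165) (tt N22224 F74166) (tt N20970 F74167) (tt N21186 F74168) (tt N20305 (iv D32581)) (tt N22512 (iv F75373)) (tt N21138 F74169))
theorem Q22226 : ∀ i, i < 22226 → P i := stepQ 22225 Q22225 (allL N22225 (tt N22232 (iv F74201)) (tt N20306 (iv D32582)) (tt N21660 F74170) (tt N22258 (iv F74316)) (tt N22690 (iv F76127)) (tt N22487 (iv F75262)) (tt N22173 F74171))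
theorem Q22227 : ∀ i, i < 22227 → P i := stepQ 22226 Q22226 (allL N22226 (tt N20311 F74172) (tt N22226 F74173) (tt N20971 F74176) (tt N20310 (iv D32583)) (tt N20973 F74174) (tt N22790 (iv F76562)) (tt N20977 F74175))
theorem Q22228 : ∀ i, i < 22228 → P i := stepQ 22227 Q22227 (allL N22227 (tt N20971 F74177) (tt N22590 (iv F75709)) (tt N20311 (iv D32584)) (tt N21908 F74178) (tt N20972 (iv F74179)) (tt N21628 (iv F74180)) (tt N20976 (iv F74181)))
theorem Q22229 : ∀ i, i < 22229 → P i := stepQ 22228 Q22228 (allL N22228 (tt N20973 F74182) (tt N21366 F74183) (tt N20972 F74184) (tt N21998 F74185) (tt N20311 (iv D32585)) (tt N22447 (iv F75076)) (tt N20980 (iv F74186)))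
theorem Q22230 : ∀ i, i < 22230 → P i := stepQ 22229 Q22229 (allL N22229 (tt N22790 (iv F76558)) (tt N21614 F74187) (tt N21628 F74188) (tt N20312 F74189) (tt N22447 (iv F75075)) (tt N20311 (iv D32586)) (tt N22188 F74190))
theorem Q22231 : ∀ i, i < 22231 → P i := stepQ 22230 Q22230 (allL N22230 (tt N20977 F74191) (tt N22000 F74192) (tt N20976 F74193) (tt N20313 F74194) (tt N20980 F74195) (tt N22182 F74196) (tt N20311 (iv D32587)))
theorem Q22232 : ∀ i, i < 22232 → P i := stepQ 22231 Q22231 (allL N22231 (tt N22486 (iv F75255)) (tt N20316 F74197) (tt N22216 F74199) (tt N20315 (iv D32588)) (tt N22797 D33154) (tt N21042 F74198) (tt N21097 (iv F74200)))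
theorem Q22233 : ∀ i, i < 22233 → P i := stepQ 22232 Q22232 (allL N22232 (tt N22225 F74201) (tt N22493 (iv F75284)) (tt N21105 F74202) (tt N21097 F74203) (tt N22488 (iv F75265)) (tt N21093 F74204) (tt N20315 (iv D32589)))
theorem Q22234 : ∀ i, i < 22234 → P i := stepQ 22233 Q22233 (allL N22233 (tt N20318 F74205) (tt N22797 (iv F76594)) (tt N21952 F74206) (tt N21173 F74207) (tt N20316 (iv D32590)) (tt N21035 F74208) (tt N22700 (iv F76177)))
theorem Q22235 : ∀ i, i < 22235 → P i := stepQ 22234 Q22234 (allL N22234 (tt N21035 F74209) (tt N22551 (iv F75551)) (tt N21949 F74210) (tt N22351 (iv F74681)) (tt N20319 F74211) (tt N20318 (iv D32591)) (tt N21875 F74212))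
theorem Q22236 : ∀ i, i < 22236 → P i := stepQ 22235 Q22235 (allL N22235 (tt N21022 F74213) (tt N20319 (iv D32592)) (tt N22549 (iv F75540)) (tt N20320 F74214) (tt N22551 (iv F75549)) (tt N21212 F74215) (tt N21307 F74216))
theorem Q22237 : ∀ i, i < 22237 → P i := stepQ 22236 Q22236 (allL N22236 (tt N22359 (iv F74720)) (tt N21069 F74217) (tt N20323 (iv D32593)) (tt N21072 F74221) (tt N21121 F74218) (tt N21238 F74219) (tt N21120 F74220))
theorem Q22238 : ∀ i, i < 22238 → P i := stepQ 22237 Q22237 (allL N22237 (tt N21359 F74222) (tt N21421 F74223) (tt N20324 (iv D32594)) (tt N22607 (iv F75785)) (tt N21145 F74224) (tt N21129 F74225) (tt N21917 F74226))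
theorem Q22239 : ∀ i, i < 22239 → P i := stepQ 22238 Q22238 (allL N22238 (tt N21548 F74227) (tt N21547 F74228) (tt N22207 F74229) (tt N20325 (iv D32595)) (tt N21547 (iv F74231)) (tt N22470 (iv F75181)) (tt N20341 F74230))
theorem Q22240 : ∀ i, i < 22240 → P i := stepQ 22239 Q22239 (allL N22239 (tt N20405 F74232) (tt N21969 F74237) (tt N20326 (iv D32596)) (tt N21968 F74233) (tt N20587 F74234) (tt N21081 F74235) (tt N20402 F74236))
theorem Q22241 : ∀ i, i < 22241 → P i := stepQ 22240 Q22240 (allL N22240 (tt N21150 (iv F74241)) (tt N20339 (iv D32597)) (tt N21092 F74238) (tt N22210 F74239) (tt N22736 (iv F76337)) (tt N22515 (iv F75389)) (tt N21096 F74240))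
theorem Q22242 : ∀ i, i < 22242 → P i := stepQ 22241 Q22241 (allL N22241 (tt N20343 F74242) (tt N22007 F74247) (tt N20340 F74243) (tt N22006 F74244) (tt N20591 F74245) (tt N20339 (iv D32598)) (tt N21044 F74246))
theorem Q22243 : ∀ i, i < 22243 → P i := stepQ 22242 Q22242 (allL N22242 (tt N22724 (iv F76280)) (tt N20604 F74248) (tt N21419 F74251) (tt N20342 (iv D32599)) (tt N21056 F74249) (tt N21350 F74250) (tt N22473 (iv F75197)))
theorem Q22244 : ∀ i, i < 22244 → P i := stepQ 22243 Q22243 (allL N22243 (tt N20939 F74252) (tt N20906 F74253) (tt N20362 (iv D32600)) (tt N21429 (iv F74256)) (tt N20427 F74254) (tt N20382 F74255) (tt N22725 (iv F76289)))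
theorem Q22245 : ∀ i, i < 22245 → P i := stepQ 22244 Q22244 (allL N22244 (tt N20364 F74257) (tt N22261 (iv F74330)) (tt N22251 (iv F74285)) (tt N20363 (iv D32601)) (tt N21972 F74258) (tt N20367 F74259) (tt N22247 (iv F74269)))
theorem Q22246 : ∀ i, i < 22246 → P i := stepQ 22245 Q22245 (allL N22245 (tt N22247 (iv F74265)) (tt N22260 (iv F74324)) (tt N22252 (iv F74288)) (tt N20365 F74260) (tt N21973 F74261) (tt N22246 (iv F74264)) (tt N20364 (iv D32602)))
theorem Q22247 : ∀ i, i < 22247 → P i := stepQ 22246 Q22246 (allL N22246 (tt N20369 F74262) (tt N22611 (iv F75807)) (tt N22260 (iv F74325)) (tt N20368 F74263) (tt N22353 (iv F74692)) (tt N22245 F74264) (tt N20367 (iv D32603)))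
theorem Q22248 : ∀ i, i < 22248 → P i := stepQ 22247 Q22247 (allL N22247 (tt N22245 F74265) (tt N21525 F74266) (tt N22261 (iv F74331)) (tt N20370 F74267) (tt N21526 F74268) (tt N20369 (iv D32604)) (tt N22244 F74269))
theorem Q22249 : ∀ i, i < 22249 → P i := stepQ 22248 Q22248 (allL N22248 (tt N21287 F74270) (tt N21058 F74271) (tt N20376 F74272) (tt N22454 (iv F75104)) (tt N22559 (iv F75584)) (tt N22082 F74273) (tt N20373 (iv D32605)))
theorem Q22250 : ∀ i, i < 22250 → P i := stepQ 22249 Q22249 (allL N22249 (tt N22104 F74274) (tt N20512 F74275) (tt N21059 F74276) (tt N20513 F74277) (tt N20375 F74278) (tt N20374 (iv D32606)) (tt N21252 F74279))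
theorem Q22251 : ∀ i, i < 22251 → P i := stepQ 22250 Q22250 (allL N22250 (tt N22390 (iv F74854)) (tt N21428 F74280) (tt N22270 (iv F74377)) (tt N20382 (iv D32607)) (tt N21432 F74281) (tt N21429 F74282) (tt N22089 F74283))
theorem Q22252 : ∀ i, i < 22252 → P i := stepQ 22251 Q22251 (allL N22251 (tt N20385 F74284) (tt N22625 (iv F75861)) (tt N22244 F74285) (tt N20384 (iv D32608)) (tt N22356 (iv F74706)) (tt N20417 F74286) (tt N22261 (iv F74334)))
theorem Q22253 : ∀ i, i < 22253 → P i := stepQ 22252 Q22252 (allL N22252 (tt N22261 (iv F74329)) (tt N21484 F74287) (tt N22245 F74288) (tt N20386 F74289) (tt N21486 F74290) (tt N22260 (iv F74327)) (tt N20385 (iv D32609)))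
theorem Q22254 : ∀ i, i < 22254 → P i := stepQ 22253 Q22253 (allL N22253 (tt N22387 (iv F74844)) (tt N21384 F74291) (tt N22290 (iv F74461)) (tt N20389 (iv D32610)) (tt N21388 F74292) (tt N22076 F74293) (tt N21385 (iv F74294)))
theorem Q22255 : ∀ i, i < 22255 → P i := stepQ 22254 Q22254 (allL N22254 (tt N20910 F74295) (tt N20882 F74296) (tt N20391 F74297) (tt N21385 F74298) (tt N20390 F74299) (tt N22721 (iv F76269)) (tt N20389 (iv D32611)))
theorem Q22256 : ∀ i, i < 22256 → P i := stepQ 22255 Q22255 (allL N22255 (tt N22351 (iv F74678)) (tt N21032 F74300) (tt N20393 (iv D32612)) (tt N21035 F74304) (tt N21174 F74301) (tt N21173 F74302) (tt N21237 F74303))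
theorem Q22257 : ∀ i, i < 22257 → P i := stepQ 22256 Q22256 (allL N22256 (tt N21405 F74305) (tt N21378 F74306) (tt N20394 (iv D32613)) (tt N22610 (iv F75802)) (tt N21194 F74307) (tt N21840 F74308) (tt N21182 F74309))
theorem Q22258 : ∀ i, i < 22258 → P i := stepQ 22257 Q22257 (allL N22257 (tt N21677 F74310) (tt N21676 F74311) (tt N22222 F74312) (tt N20395 (iv D32614)) (tt N21676 (iv F74314)) (tt N20403 F74313) (tt N22482 (iv F75239)))
theorem Q22259 : ∀ i, i < 22259 → P i := stepQ 22258 Q22258 (allL N22258 (tt N21097 F74318) (tt N20402 (iv D32615)) (tt N21147 F74315) (tt N22225 F74316) (tt N22718 (iv F76257)) (tt N21095 F74317) (tt N22486 (iv F75258)))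
theorem Q22260 : ∀ i, i < 22260 → P i := stepQ 22259 Q22259 (allL N22259 (tt N22719 (iv F76259)) (tt N20603 F74319) (tt N21376 F74322) (tt N20404 (iv D32616)) (tt N21017 F74320) (tt N22485 (iv F75254)) (tt N21342 F74321))
theorem Q22261 : ∀ i, i < 22261 → P i := stepQ 22260 Q22260 (allL N22260 (tt N20414 F74323) (tt N22245 F74324) (tt N22246 F74325) (tt N20413 (iv D32617)) (tt N22010 F74326) (tt N22252 F74327) (tt N20417 F74328))
theorem Q22262 : ∀ i, i < 22262 → P i := stepQ 22261 Q22261 (allL N22261 (tt N22252 F74329) (tt N22244 F74330) (tt N22247 F74331) (tt N20415 F74332) (tt N22011 F74333) (tt N20414 (iv D32618)) (tt N22251 F74334))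
theorem Q22263 : ∀ i, i < 22263 → P i := stepQ 22262 Q22262 (allL N22262 (tt N21292 F74335) (tt N21019 F74336) (tt N20422 F74337) (tt N22441 (iv F75046)) (tt N22557 (iv F75575)) (tt N20420 (iv D32619)) (tt N22095 F74338))
theorem Q22264 : ∀ i, i < 22264 → P i := stepQ 22263 Q22263 (allL N22263 (tt N22101 F74339) (tt N20454 F74340) (tt N21020 F74341) (tt N20455 F74342) (tt N20423 F74343) (tt N21241 F74344) (tt N20421 (iv D32620)))
theorem Q22265 : ∀ i, i < 22265 → P i := stepQ 22264 Q22264 (allL N22264 (tt N22162 F74345) (tt N20436 F74346) (tt N20435 (iv D32621)) (tt N21895 F74350) (tt N20441 F74347) (tt N22162 F74348) (tt N20743 F74349))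
theorem Q22266 : ∀ i, i < 22266 → P i := stepQ 22265 Q22265 (allL N22265 (tt N21763 F74351) (tt N20766 F74352) (tt N20437 F74353) (tt N21896 F74354) (tt N20444 F74355) (tt N21762 F74356) (tt N20436 (iv D32622)))
theorem Q22267 : ∀ i, i < 22267 → P i := stepQ 22266 Q22266 (allL N22266 (tt N22268 (iv F74365)) (tt N22286 (iv F74439)) (tt N20440 F74357) (tt N21952 F74358) (tt N20460 F74359) (tt N20458 F74360) (tt N20439 (iv D32623)))
theorem Q22268 : ∀ i, i < 22268 → P i := stepQ 22267 Q22267 (allL N22267 (tt N20786 F74361) (tt N22477 (iv F75211)) (tt N22294 (iv F74477)) (tt N20449 F74362) (tt N21465 F74363) (tt N20448 (iv D32624)) (tt N20769 F74364))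
theorem Q22269 : ∀ i, i < 22269 → P i := stepQ 22268 Q22268 (allL N22268 (tt N22266 F74365) (tt N22171 F74366) (tt N20674 F74367) (tt N21951 F74368) (tt N20459 F74369) (tt N21124 F74370) (tt N20457 (iv D32625)))
theorem Q22270 : ∀ i, i < 22270 → P i := stepQ 22269 Q22269 (allL N22269 (tt N21504 F74375) (tt N20459 (iv D32626)) (tt N21887 F74371) (tt N21503 F74372) (tt N22171 F74373) (tt N22532 (iv F75466)) (tt N21841 F74374))
theorem Q22271 : ∀ i, i < 22271 → P i := stepQ 22270 Q22270 (allL N22270 (tt N22042 F74376) (tt N20466 (iv D32627)) (tt N22250 F74377) (tt N22043 F74378) (tt N22598 (iv F75745)) (tt N22596 (iv F75736)) (tt N21950 F74379))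
theorem Q22272 : ∀ i, i < 22272 → P i := stepQ 22271 Q22271 (allL N22271 (tt N20582 F74380) (tt N22798 D33155) (tt N20579 F74381) (tt N22302 (iv F74510)) (tt N20470 F74382) (tt N20469 (iv D32628)) (tt N21522 F74383))
theorem Q22273 : ∀ i, i < 22273 → P i := stepQ 22272 Q22272 (allL N22272 (tt N21505 F74384) (tt N21454 F74385) (tt N20580 F74386) (tt N22506 (iv F75342)) (tt N20471 F74387) (tt N22318 (iv F74578)) (tt N20469 (iv D32629)))
theorem Q22274 : ∀ i, i < 22274 → P i := stepQ 22273 Q22273 (allL N22273 (tt N22273 F74388) (tt N20470 (iv D32630)) (tt N22295 (iv F74482)) (tt N20473 F74389) (tt N22798 (iv F76600)) (tt N22314 (iv F74557)) (tt N22378 (iv F74814)))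
theorem Q22275 : ∀ i, i < 22275 → P i := stepQ 22274 Q22274 (allL N22274 (tt N22276 (iv F74399)) (tt N21518 (iv F74394)) (tt N20772 F74390) (tt N20474 F74391) (tt N21522 F74392) (tt N22015 F74393) (tt N20470 (iv D32631)))
theorem Q22276 : ∀ i, i < 22276 → P i := stepQ 22275 Q22275 (allL N22275 (tt N21455 F74395) (tt N20471 (iv D32632)) (tt N22465 (iv F75155)) (tt N20475 F74396) (tt N21454 F74397) (tt N22465 (iv F75156)) (tt N22033 F74398))
theorem Q22277 : ∀ i, i < 22277 → P i := stepQ 22276 Q22276 (allL N22276 (tt N22274 F74399) (tt N20785 (iv F74402)) (tt N22287 (iv F74445)) (tt N20476 F74400) (tt N22318 (iv F74576)) (tt N20471 (iv D32633)) (tt N20787 F74401))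
theorem Q22278 : ∀ i, i < 22278 → P i := stepQ 22277 Q22277 (allL N22277 (tt N22277 F74403) (tt N22376 F74804) (tt N22277 F74404) (tt N22378 (iv F74811)) (tt N22782 (iv F76519)) (tt N20533 F74405) (tt N20473 (iv D32634)))
theorem Q22279 : ∀ i, i < 22279 → P i := stepQ 22278 Q22278 (allL N22278 (tt N21517 F74406) (tt N20474 (iv D32635)) (tt N22606 (iv F75781)) (tt N21518 F74407) (tt N22604 (iv F75772)) (tt N22617 (iv F75825)) (tt N22376 (iv F74803)))
theorem Q22280 : ∀ i, i < 22280 → P i := stepQ 22279 Q22279 (allL N22279 (tt N22084 F74408) (tt N21260 F74409) (tt N20479 F74410) (tt N20711 F74411) (tt N20588 F74412) (tt N20478 (iv D32636)) (tt N22084 F74413))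
theorem Q22281 : ∀ i, i < 22281 → P i := stepQ 22280 Q22280 (allL N22280 (tt N21375 F74414) (tt N22534 F75474) (tt N21086 F74415) (tt N21955 F74416) (tt N20481 F74417) (tt N20480 (iv D32637)) (tt N22535 (iv F75479)))
theorem Q22282 : ∀ i, i < 22282 → P i := stepQ 22281 Q22281 (allL N22281 (tt N21376 F74418) (tt N22299 (iv F74499)) (tt N22719 (iv F76260)) (tt N21762 F74419) (tt N20482 F74420) (tt N21896 F74421) (tt N20480 (iv D32638)))
theorem Q22283 : ∀ i, i < 22283 → P i := stepQ 22282 Q22282 (allL N22282 (tt N22531 (iv F75458)) (tt N20481 (iv D32639)) (tt N21188 F74422) (tt N22306 (iv F74529)) (tt N22534 (iv F75472)) (tt N20484 F74423) (tt N22529 (iv F75452)))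
theorem Q22284 : ∀ i, i < 22284 → P i := stepQ 22283 Q22283 (allL N22283 (tt N20484 (iv D32640)) (tt N22799 D33156) (tt N21186 F74424) (tt N22292 (iv F74470)) (tt N22147 F74425) (tt N22531 (iv F75462)) (tt N21183 F74426))
theorem Q22285 : ∀ i, i < 22285 → P i := stepQ 22284 Q22284 (allL N22284 (tt N22153 F74427) (tt N20494 F74428) (tt N20493 (iv D32641)) (tt N21804 F74429) (tt N20499 F74430) (tt N20710 F74431) (tt N22153 F74432))
theorem Q22286 : ∀ i, i < 22286 → P i := stepQ 22285 Q22285 (allL N22285 (tt N21867 F74433) (tt N20756 F74434) (tt N20495 F74435) (tt N21805 F74436) (tt N20502 F74437) (tt N20494 (iv D32642)) (tt N21866 F74438))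
theorem Q22287 : ∀ i, i < 22287 → P i := stepQ 22286 Q22286 (allL N22286 (tt N22288 (iv F74449)) (tt N22266 F74439) (tt N20498 F74440) (tt N21989 F74441) (tt N20517 F74442) (tt N20497 (iv D32643)) (tt N20515 F74443))
theorem Q22288 : ∀ i, i < 22288 → P i := stepQ 22287 Q22287 (allL N22287 (tt N20772 F74444) (tt N22465 (iv F75154)) (tt N22276 F74445) (tt N20507 F74446) (tt N21507 F74447) (tt N20785 F74448) (tt N20506 (iv D32644)))
theorem Q22289 : ∀ i, i < 22289 → P i := stepQ 22288 Q22288 (allL N22288 (tt N22286 F74449) (tt N22178 F74450) (tt N20673 F74451) (tt N21990 F74452) (tt N20518 F74453) (tt N20516 (iv D32645)) (tt N21177 F74454))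
theorem Q22290 : ∀ i, i < 22290 → P i := stepQ 22289 Q22289 (allL N22289 (tt N21462 F74455) (tt N20518 (iv D32646)) (tt N21793 F74456) (tt N21461 F74457) (tt N22178 F74458) (tt N21918 F74459) (tt N22509 (iv F75358)))
theorem Q22291 : ∀ i, i < 22291 → P i := stepQ 22290 Q22290 (allL N22290 (tt N22028 F74460) (tt N20523 (iv D32647)) (tt N22253 F74461) (tt N22029 F74462) (tt N22585 (iv F75691)) (tt N21988 F74463) (tt N22583 (iv F75682)))
theorem Q22292 : ∀ i, i < 22292 → P i := stepQ 22291 Q22291 (allL N22291 (tt N21463 F74464) (tt N21496 F74465) (tt N20554 F74466) (tt N22529 (iv F75449)) (tt N20528 F74467) (tt N20527 (iv D32648)) (tt N22306 (iv F74533)))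
theorem Q22293 : ∀ i, i < 22293 → P i := stepQ 22292 Q22292 (allL N22292 (tt N20556 F74468) (tt N22800 D33157) (tt N20555 F74469) (tt N22283 F74470) (tt N20529 F74471) (tt N21480 F74472) (tt N20527 (iv D32649)))
theorem Q22294 : ∀ i, i < 22294 → P i := stepQ 22293 Q22293 (allL N22293 (tt N21497 F74473) (tt N20528 (iv D32650)) (tt N22477 (iv F75212)) (tt N20531 F74474) (tt N21496 F74475) (tt N22019 F74476) (tt N22477 (iv F75214)))
theorem Q22295 : ∀ i, i < 22295 → P i := stepQ 22294 Q22294 (allL N22294 (tt N22296 (iv F74484)) (tt N20769 (iv F74480)) (tt N22267 F74477) (tt N20532 F74478) (tt N22306 (iv F74530)) (tt N20771 F74479) (tt N20528 (iv D32651)))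
theorem Q22296 : ∀ i, i < 22296 → P i := stepQ 22295 Q22295 (allL N22295 (tt N22295 F74481) (tt N20529 (iv D32652)) (tt N22273 F74482) (tt N20533 F74483) (tt N22800 (iv F76609)) (tt N22378 (iv F74813)) (tt N22314 (iv F74558)))
theorem Q22297 : ∀ i, i < 22297 → P i := stepQ 22296 Q22296 (allL N22296 (tt N22294 F74484) (tt N21476 F74489) (tt N20786 F74485) (tt N20534 F74486) (tt N21480 F74487) (tt N20529 (iv D32653)) (tt N22030 F74488))
theorem Q22298 : ∀ i, i < 22298 → P i := stepQ 22297 Q22297 (allL N22297 (tt N21475 F74490) (tt N20534 (iv D32654)) (tt N22621 (iv F75841)) (tt N21476 F74491) (tt N22620 F75838) (tt N22376 (iv F74802)) (tt N22631 (iv F75888)))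
theorem Q22299 : ∀ i, i < 22299 → P i := stepQ 22298 Q22298 (allL N22298 (tt N22071 F74492) (tt N21259 F74493) (tt N20537 F74494) (tt N20744 F74495) (tt N20592 F74496) (tt N22071 F74497) (tt N20536 (iv D32655)))
theorem Q22300 : ∀ i, i < 22300 → P i := stepQ 22299 Q22299 (allL N22299 (tt N21419 F74498) (tt N22281 F74499) (tt N22724 (iv F76281)) (tt N21866 F74500) (tt N20539 F74501) (tt N20538 (iv D32656)) (tt N21805 F74502))
theorem Q22301 : ∀ i, i < 22301 → P i := stepQ 22300 Q22300 (allL N22300 (tt N21420 F74503) (tt N22513 F75378) (tt N21051 F74504) (tt N21993 F74505) (tt N20540 F74506) (tt N22514 (iv F75382)) (tt N20538 (iv D32657)))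
theorem Q22302 : ∀ i, i < 22302 → P i := stepQ 22301 Q22301 (allL N22301 (tt N22508 (iv F75351)) (tt N20540 (iv D32658)) (tt N21136 F74507) (tt N22318 (iv F74575)) (tt N22513 (iv F75376)) (tt N22506 (iv F75344)) (tt N20543 F74508))
theorem Q22303 : ∀ i, i < 22303 → P i := stepQ 22302 Q22302 (allL N22302 (tt N20543 (iv D32659)) (tt N22801 D33158) (tt N21134 F74509) (tt N22271 F74510) (tt N22144 F74511) (tt N21130 F74512) (tt N22508 (iv F75355)))
theorem Q22304 : ∀ i, i < 22304 → P i := stepQ 22303 Q22303 (allL N22303 (tt N20547 F74513) (tt N22802 D33159) (tt N20547 F74514) (tt N21832 F74515) (tt N20564 F74516) (tt N20546 (iv D32660)) (tt N20572 F74517))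
theorem Q22305 : ∀ i, i < 22305 → P i := stepQ 22304 Q22304 (allL N22304 (tt N20563 F74522) (tt N20547 (iv D32661)) (tt N20562 (iv F74523)) (tt N21834 F74518) (tt N22018 F74519) (tt N20549 F74520) (tt N20575 F74521))
theorem Q22306 : ∀ i, i < 22306 → P i := stepQ 22305 Q22305 (allL N22305 (tt N20550 (iv D32662)) (tt N22317 (iv F74569)) (tt N21935 F74524) (tt N21840 F74525) (tt N22022 F74526) (tt N22610 (iv F75804)) (tt N21498 F74527))
theorem Q22307 : ∀ i, i < 22307 → P i := stepQ 22306 Q22306 (allL N22306 (tt N21480 F74528) (tt N20554 (iv D32663)) (tt N21465 (iv F74532)) (tt N22282 F74529) (tt N22294 F74530) (tt N20556 F74531) (tt N22291 F74533))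
theorem Q22308 : ∀ i, i < 22308 → P i := stepQ 22307 Q22307 (allL N22307 (tt N20566 F74534) (tt N22803 D33160) (tt N20560 F74535) (tt N21833 F74536) (tt N20559 F74537) (tt N20558 (iv D32664)) (tt N20583 F74538))
theorem Q22309 : ∀ i, i < 22309 → P i := stepQ 22308 Q22308 (allL N22308 (tt N22379 (iv F74815)) (tt N20559 (iv D32665)) (tt N22804 D33161) (tt N22018 F74539) (tt N22803 (iv F76623)) (tt N22020 F74540) (tt N22035 F74541))
theorem Q22310 : ∀ i, i < 22310 → P i := stepQ 22309 Q22309 (allL N22309 (tt N22805 D33162) (tt N20560 (iv D32666)) (tt N22806 D33163) (tt N22375 (iv F74797)) (tt N20561 F74542) (tt N21471 F74543) (tt N21513 F74544))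
theorem Q22311 : ∀ i, i < 22311 → P i := stepQ 22310 Q22310 (allL N22310 (tt N20561 (iv D32667)) (tt N22807 D33164) (tt N22808 D33165) (tt N20562 F74545) (tt N22805 (iv F76629)) (tt N21472 F74546) (tt N21514 F74547))
theorem Q22312 : ∀ i, i < 22312 → P i := stepQ 22311 Q22311 (allL N22311 (tt N22808 (iv F76641)) (tt N22804 (iv F76626)) (tt N20561 (iv D32668)) (tt N22806 (iv F76635)) (tt N22806 (iv F76632)) (tt N21473 F74548) (tt N21515 F74549))
theorem Q22313 : ∀ i, i < 22313 → P i := stepQ 22312 Q22312 (allL N22312 (tt N22312 F74550) (tt N20562 (iv D32669)) (tt N22802 (iv F76617)) (tt N22807 (iv F76637)) (tt N22378 (iv F74812)) (tt N22800 (iv F76610)) (tt N22798 (iv F76601)))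
theorem Q22314 : ∀ i, i < 22314 → P i := stepQ 22313 Q22313 (allL N22313 (tt N21834 F74551) (tt N22313 F74552) (tt N22809 D33166) (tt N20563 (iv D32670)) (tt N22810 D33167) (tt N21481 F74553) (tt N21444 F74554))
theorem Q22315 : ∀ i, i < 22315 → P i := stepQ 22314 Q22314 (allL N22314 (tt N22314 F74555) (tt N20564 (iv D32671)) (tt N22378 (iv F74810)) (tt N20568 F74556) (tt N22802 (iv F76619)) (tt N22273 F74557) (tt N22295 F74558))
theorem Q22316 : ∀ i, i < 22316 → P i := stepQ 22315 Q22315 (allL N22315 (tt N21833 F74559) (tt N22811 D33168) (tt N21843 F74560) (tt N20566 F74561) (tt N21832 F74562) (tt N20565 (iv D32672)) (tt N20584 F74563))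
theorem Q22317 : ∀ i, i < 22317 → P i := stepQ 22316 Q22316 (allL N22316 (tt N22316 F74568) (tt N20566 (iv D32673)) (tt N22316 F74564) (tt N22811 (iv F76658)) (tt N20568 F74565) (tt N22143 F74566) (tt N22146 F74567))
theorem Q22318 : ∀ i, i < 22318 → P i := stepQ 22317 Q22317 (allL N22317 (tt N20574 (iv D32674)) (tt N22305 F74569) (tt N21861 F74570) (tt N21917 F74571) (tt N22036 F74572) (tt N21456 F74573) (tt N22607 (iv F75788)))
theorem Q22319 : ∀ i, i < 22319 → P i := stepQ 22318 Q22318 (allL N22318 (tt N21522 F74574) (tt N20580 (iv D32675)) (tt N21507 (iv F74579)) (tt N22301 F74575) (tt N22276 F74576) (tt N22272 F74578) (tt N20582 F74577))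
theorem Q22320 : ∀ i, i < 22320 → P i := stepQ 22319 Q22319 (allL N22319 (tt N22350 (iv F74674)) (tt N22812 D33169) (tt N20613 (iv D32676)) (tt N22324 (iv F74593)) (tt N22324 (iv F74594)) (tt N22337 (iv F74636)) (tt N20614 F74580))
theorem Q22321 : ∀ i, i < 22321 → P i := stepQ 22320 Q22320 (allL N22320 (tt N22320 F74581) (tt N20614 (iv D32677)) (tt N22320 F74582) (tt N22323 (iv F74590)) (tt N22323 (iv F74591)) (tt N22813 D33170) (tt N22814 D33171))
theorem Q22322 : ∀ i, i < 22322 → P i := stepQ 22321 Q22321 (allL N22321 (tt N22731 (iv F76318)) (tt N22815 D33172) (tt N20615 F74583) (tt N22322 (iv F74587)) (tt N22322 (iv F74585)) (tt N20614 (iv D32678)) (tt N20664 (iv F74584)))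
theorem Q22323 : ∀ i, i < 22323 → P i := stepQ 22322 Q22322 (allL N22322 (tt N22338 (iv F74638)) (tt N22816 D33173) (tt N20616 (iv D32679)) (tt N22321 F74587) (tt N22321 F74585) (tt N20617 F74586) (tt N22336 (iv F74631)))
theorem Q22324 : ∀ i, i < 22324 → P i := stepQ 22323 Q22323 (allL N22323 (tt N22323 F74588) (tt N20617 (iv D32680)) (tt N22323 F74589) (tt N22320 F74590) (tt N22320 F74591) (tt N22814 (iv F76672)) (tt N22813 F76667))
theorem Q22325 : ∀ i, i < 22325 → P i := stepQ 22324 Q22324 (allL N22324 (tt N22723 (iv F76275)) (tt N22817 D33174) (tt N20618 F74592) (tt N22319 F74593) (tt N22319 F74594) (tt N20638 (iv F74595)) (tt N20617 (iv D32681)))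
theorem Q22326 : ∀ i, i < 22326 → P i := stepQ 22325 Q22325 (allL N22325 (tt N22075 (iv F74599)) (tt N20624 (iv D32682)) (tt N22763 (iv F76442)) (tt N21207 F74596) (tt N20625 F74597) (tt N22818 D33175) (tt N20627 F74598))
theorem Q22327 : ∀ i, i < 22327 → P i := stepQ 22326 Q22326 (allL N22326 (tt N22080 F74600) (tt N22407 (iv F74927)) (tt N22767 (iv F76460)) (tt N21321 F74601) (tt N22818 (iv F76685)) (tt N20625 (iv D32683)) (tt N22332 (iv F74613)))
theorem Q22328 : ∀ i, i < 22328 → P i := stepQ 22327 Q22327 (allL N22327 (tt N22553 (iv F75557)) (tt N20626 (iv D32684)) (tt N22475 (iv F75204)) (tt N20627 F74602) (tt N21212 F74603) (tt N22551 (iv F75550)) (tt N21207 F74604))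
theorem Q22329 : ∀ i, i < 22329 → P i := stepQ 22328 Q22328 (allL N22328 (tt N20627 (iv D32685)) (tt N22819 D33176) (tt N22765 (iv F76452)) (tt N22553 (iv F75559)) (tt N20628 F74605) (tt N22552 F75556) (tt N22075 F74606))
theorem Q22330 : ∀ i, i < 22330 → P i := stepQ 22329 Q22329 (allL N22329 (tt N22765 (iv F76451)) (tt N20631 F74607) (tt N20627 (iv D32686)) (tt N20629 F74609) (tt N20629 F74608) (tt N22779 (iv F76506)) (tt N22763 F76446))
theorem Q22331 : ∀ i, i < 22331 → P i := stepQ 22330 Q22330 (allL N22330 (tt N22552 (iv F75553)) (tt N22351 (iv F74679)) (tt N22779 (iv F76503)) (tt N22551 F75552) (tt N20630 F74610) (tt N20627 (iv D32687)) (tt N22738 (iv F76346)))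
theorem Q22332 : ∀ i, i < 22332 → P i := stepQ 22331 Q22331 (allL N22331 (tt N22717 (iv F76251)) (tt N20628 (iv D32688)) (tt N22345 (iv F74657)) (tt N22578 (iv F75665)) (tt N22819 (iv F76687)) (tt N22758 (iv F76427)) (tt N22081 F74611))
theorem Q22333 : ∀ i, i < 22333 → P i := stepQ 22332 Q22332 (allL N22332 (tt N20630 F74612) (tt N22120 F74615) (tt N22119 F74614) (tt N22444 (iv F75057)) (tt N22552 (iv F75555)) (tt N20628 (iv D32689)) (tt N22326 F74613))
theorem Q22334 : ∀ i, i < 22334 → P i := stepQ 22333 Q22333 (allL N22333 (tt N22119 F74619) (tt N20960 F74620) (tt N20630 F74621) (tt N22779 (iv F76504)) (tt N22779 (iv F76505)) (tt N20629 (iv D32690)) (tt N22106 F74622))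
theorem Q22335 : ∀ i, i < 22335 → P i := stepQ 22334 Q22334 (allL N22334 (tt N22127 F74623) (tt N22348 F74672) (tt N20632 F74624) (tt N20634 F74625) (tt N20634 F74626) (tt N20631 (iv D32691)) (tt N22129 F74627))
theorem Q22336 : ∀ i, i < 22336 → P i := stepQ 22335 Q22335 (allL N22335 (tt N22349 (iv F74673)) (tt N20633 (iv D32692)) (tt N22734 (iv F76327)) (tt N22791 (iv F76566)) (tt N22791 (iv F76567)) (tt N22820 D33177) (tt N22815 (iv F76673)))
theorem Q22337 : ∀ i, i < 22337 → P i := stepQ 22336 Q22336 (allL N22336 (tt N20638 F74628) (tt N20930 F74629) (tt N20635 (iv D32693)) (tt N20664 F74632) (tt N20664 F74630) (tt N22723 (iv F76278)) (tt N22322 F74631))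
theorem Q22338 : ∀ i, i < 22338 → P i := stepQ 22337 Q22337 (allL N22337 (tt N20664 F74633) (tt N20959 F74634) (tt N20639 F74635) (tt N20638 (iv D32694)) (tt N20638 (iv F74637)) (tt N22319 F74636) (tt N22731 (iv F76322)))
theorem Q22339 : ∀ i, i < 22339 → P i := stepQ 22338 Q22338 (allL N22338 (tt N22322 F74638) (tt N22106 F74639) (tt N20640 F74640) (tt N22731 (iv F76320)) (tt N22731 (iv F76321)) (tt N21912 (iv F74641)) (tt N20638 (iv D32695)))
theorem Q22340 : ∀ i, i < 22340 → P i := stepQ 22339 Q22339 (allL N22339 (tt N22088 (iv F74645)) (tt N20651 (iv D32696)) (tt N22774 (iv F76481)) (tt N21227 F74642) (tt N20652 F74643) (tt N20654 F74644) (tt N22821 D33178))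
theorem Q22341 : ∀ i, i < 22341 → P i := stepQ 22340 Q22340 (allL N22340 (tt N22093 F74646) (tt N22426 (iv F74995)) (tt N22768 (iv F76463)) (tt N21310 F74647) (tt N22821 (iv F76696)) (tt N22346 (iv F74661)) (tt N20652 (iv D32697)))
theorem Q22342 : ∀ i, i < 22342 → P i := stepQ 22341 Q22341 (allL N22341 (tt N22544 (iv F75517)) (tt N20653 (iv D32698)) (tt N22463 (iv F75147)) (tt N20654 F74648) (tt N21231 F74649) (tt N21227 F74650) (tt N22542 (iv F75510)))
theorem Q22343 : ∀ i, i < 22343 → P i := stepQ 22342 Q22342 (allL N22342 (tt N20654 (iv D32699)) (tt N22822 D33179) (tt N22775 (iv F76488)) (tt N22544 (iv F75519)) (tt N20655 F74651) (tt N22088 F74652) (tt N22543 F75516))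
theorem Q22344 : ∀ i, i < 22344 → P i := stepQ 22343 Q22343 (allL N22343 (tt N22775 (iv F76486)) (tt N20658 F74653) (tt N20654 (iv D32700)) (tt N20656 F74655) (tt N20656 F74654) (tt N22774 (iv F76484)) (tt N22780 (iv F76513)))
theorem Q22345 : ∀ i, i < 22345 → P i := stepQ 22344 Q22344 (allL N22344 (tt N22543 (iv F75513)) (tt N22359 (iv F74721)) (tt N22780 (iv F76509)) (tt N22542 F75512) (tt N20657 F74656) (tt N22722 (iv F76273)) (tt N20654 (iv D32701)))
theorem Q22346 : ∀ i, i < 22346 → P i := stepQ 22345 Q22345 (allL N22345 (tt N22687 (iv F76109)) (tt N20655 (iv D32702)) (tt N22331 F74657) (tt N22591 (iv F75715)) (tt N22822 (iv F76699)) (tt N22094 F74658) (tt N22754 (iv F76411)))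
theorem Q22347 : ∀ i, i < 22347 → P i := stepQ 22346 Q22346 (allL N22346 (tt N20657 F74659) (tt N22109 (iv F74662)) (tt N22108 F74660) (tt N22457 (iv F75115)) (tt N22543 (iv F75515)) (tt N22340 F74661) (tt N20655 (iv D32703)))
theorem Q22348 : ∀ i, i < 22348 → P i := stepQ 22347 Q22347 (allL N22347 (tt N22108 F74663) (tt N20931 F74664) (tt N20657 F74665) (tt N22780 (iv F76510)) (tt N22780 (iv F76511)) (tt N22118 F74666) (tt N20656 (iv D32704)))
theorem Q22349 : ∀ i, i < 22349 → P i := stepQ 22348 Q22348 (allL N22348 (tt N22123 F74667) (tt N22334 (iv F74672)) (tt N20659 F74668) (tt N20661 F74669) (tt N20661 F74670) (tt N22125 F74671) (tt N20658 (iv D32705)))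
theorem Q22350 : ∀ i, i < 22350 → P i := stepQ 22349 Q22349 (allL N22349 (tt N22335 F74673) (tt N20660 (iv D32706)) (tt N22744 (iv F76373)) (tt N22788 (iv F76551)) (tt N22788 (iv F76549)) (tt N22817 (iv F76681)) (tt N22823 D33180))
theorem Q22351 : ∀ i, i < 22351 → P i := stepQ 22350 Q22350 (allL N22350 (tt N22319 F74674) (tt N22118 F74675) (tt N20665 F74676) (tt N22723 (iv F76276)) (tt N22723 (iv F76277)) (tt N20664 (iv D32707)) (tt N21827 F74677))
theorem Q22352 : ∀ i, i < 22352 → P i := stepQ 22351 Q22351 (allL N22351 (tt N22255 F74678) (tt N22330 F74679) (tt N22124 F74680) (tt N22234 F74681) (tt N20677 F74682) (tt N20676 (iv D32708)) (tt N21878 F74683))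
theorem Q22353 : ∀ i, i < 22353 → P i := stepQ 22352 Q22352 (allL N22352 (tt N22413 (iv F74943)) (tt N20936 F74684) (tt N20963 F74685) (tt N20683 F74686) (tt N20935 F74687) (tt N20680 (iv D32709)) (tt N22401 (iv F74905)))
theorem Q22354 : ∀ i, i < 22354 → P i := stepQ 22353 Q22353 (allL N22353 (tt N20690 F74688) (tt N21470 F74689) (tt N22010 F74690) (tt N20689 F74691) (tt N22246 F74692) (tt N21973 F74693) (tt N20688 (iv D32710)))
theorem Q22355 : ∀ i, i < 22355 → P i := stepQ 22354 Q22354 (allL N22354 (tt N21594 F74694) (tt N21564 F74695) (tt N21040 F74696) (tt N21595 F74697) (tt N20694 F74698) (tt N20693 (iv D32711)) (tt N21039 F74699))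
theorem Q22356 : ∀ i, i < 22356 → P i := stepQ 22355 Q22355 (allL N22355 (tt N21274 F74700) (tt N22440 (iv F75040)) (tt N22507 (iv F75347)) (tt N20695 (iv D32712)) (tt N21275 F74701) (tt N22609 (iv F75797)) (tt N21979 F74702))
theorem Q22357 : ∀ i, i < 22357 → P i := stepQ 22356 Q22356 (allL N22356 (tt N20697 F74703) (tt N21512 F74704) (tt N21972 F74705) (tt N20696 (iv D32713)) (tt N22251 F74706) (tt N20725 F74707) (tt N22011 F74708))
theorem Q22358 : ∀ i, i < 22358 → P i := stepQ 22357 Q22357 (allL N22357 (tt N22357 F74709) (tt N20705 (iv D32714)) (tt N21412 F74710) (tt N20706 F74711) (tt N21527 F74712) (tt N21403 F74713) (tt N21412 F74714))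
theorem Q22359 : ∀ i, i < 22359 → P i := stepQ 22358 Q22358 (allL N22358 (tt N20710 F74715) (tt N22824 D33181) (tt N20709 (iv D32715)) (tt N21445 F74716) (tt N21524 F74717) (tt N22153 F74718) (tt N22358 F74719))
theorem Q22360 : ∀ i, i < 22360 → P i := stepQ 22359 Q22359 (allL N22359 (tt N22236 F74720) (tt N22344 F74721) (tt N22128 F74722) (tt N22219 F74723) (tt N20714 F74724) (tt N21780 F74725) (tt N20713 (iv D32716)))
theorem Q22361 : ∀ i, i < 22361 → P i := stepQ 22360 Q22360 (allL N22360 (tt N22418 (iv F74965)) (tt N20934 F74726) (tt N20935 F74727) (tt N20720 F74728) (tt N20963 F74729) (tt N22395 (iv F74876)) (tt N20717 (iv D32717)))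
theorem Q22362 : ∀ i, i < 22362 → P i := stepQ 22361 Q22361 (allL N22361 (tt N21712 F74730) (tt N21690 F74731) (tt N21077 F74732) (tt N21713 F74733) (tt N20729 F74734) (tt N21076 F74735) (tt N20728 (iv D32718)))
theorem Q22363 : ∀ i, i < 22363 → P i := stepQ 22362 Q22362 (allL N22362 (tt N21265 F74736) (tt N22453 (iv F75098)) (tt N22530 (iv F75454)) (tt N20730 (iv D32719)) (tt N21266 F74737) (tt N21941 F74738) (tt N22624 (iv F75858)))
theorem Q22364 : ∀ i, i < 22364 → P i := stepQ 22363 Q22363 (allL N22363 (tt N22363 F74739) (tt N20738 (iv D32720)) (tt N21367 F74740) (tt N20739 F74741) (tt N21658 F74742) (tt N21367 F74743) (tt N21358 F74744))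
theorem Q22365 : ∀ i, i < 22365 → P i := stepQ 22364 Q22364 (allL N22364 (tt N20743 F74745) (tt N22825 D33182) (tt N20742 (iv D32721)) (tt N21485 F74746) (tt N21483 F74747) (tt N22364 F74748) (tt N22162 F74749))
theorem Q22366 : ∀ i, i < 22366 → P i := stepQ 22365 Q22365 (allL N22365 (tt N21926 F74750) (tt N21633 F74751) (tt N21639 F74752) (tt N20748 (iv D32722)) (tt N20751 F74753) (tt N22372 (iv F74787)) (tt N21852 (iv F74754)))
theorem Q22367 : ∀ i, i < 22367 → P i := stepQ 22366 Q22366 (allL N22366 (tt N21927 F74755) (tt N22826 D33183) (tt N21924 F74756) (tt N22372 (iv F74785)) (tt N20749 F74757) (tt N20748 (iv D32723)) (tt N22370 F74776))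
theorem Q22368 : ∀ i, i < 22368 → P i := stepQ 22367 Q22367 (allL N22367 (tt N21928 F74758) (tt N21807 (iv F74763)) (tt N21604 F74759) (tt N21852 F74760) (tt N20750 F74761) (tt N21851 F74762) (tt N20748 (iv D32724)))
theorem Q22369 : ∀ i, i < 22369 → P i := stepQ 22368 Q22368 (allL N22368 (tt N22368 F74764) (tt N20749 (iv D32725)) (tt N22373 (iv F74789)) (tt N20753 F74765) (tt N22826 (iv F76716)) (tt N22382 (iv F74824)) (tt N22679 (iv F76076)))
theorem Q22370 : ∀ i, i < 22370 → P i := stepQ 22369 Q22369 (allL N22369 (tt N22369 F74766) (tt N20782 F74767) (tt N22369 F74768) (tt N22679 (iv F76074)) (tt N20783 F74769) (tt N20764 F74770) (tt N20753 (iv D32726)))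
theorem Q22371 : ∀ i, i < 22371 → P i := stepQ 22370 Q22370 (allL N22370 (tt N21851 F74771) (tt N21744 F74772) (tt N21745 F74773) (tt N20760 (iv D32727)) (tt N20763 F74774) (tt N21928 (iv F74775)) (tt N22366 (iv F74776)))
theorem Q22372 : ∀ i, i < 22372 → P i := stepQ 22371 Q22371 (allL N22371 (tt N21852 F74777) (tt N21897 (iv F74782)) (tt N21721 F74778) (tt N21928 F74779) (tt N20761 F74780) (tt N20760 (iv D32728)) (tt N21926 F74781))
theorem Q22373 : ∀ i, i < 22373 → P i := stepQ 22372 Q22372 (allL N22372 (tt N21853 F74783) (tt N22827 D33184) (tt N21849 F74784) (tt N22366 F74785) (tt N20762 F74786) (tt N22365 F74787) (tt N20760 (iv D32729)))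
theorem Q22374 : ∀ i, i < 22374 → P i := stepQ 22373 Q22373 (allL N22373 (tt N22373 F74788) (tt N20762 (iv D32730)) (tt N22368 F74789) (tt N20764 F74790) (tt N22827 (iv F76720)) (tt N22679 (iv F76075)) (tt N22382 (iv F74825)))
theorem Q22375 : ∀ i, i < 22375 → P i := stepQ 22374 Q22374 (allL N22374 (tt N20780 F74791) (tt N21844 F74792) (tt N20780 F74793) (tt N20774 F74794) (tt N22678 (iv F76067)) (tt N20773 (iv D32731)) (tt N20788 F74795))
theorem Q22376 : ∀ i, i < 22376 → P i := stepQ 22375 Q22375 (allL N22375 (tt N22809 (iv F76645)) (tt N20775 (iv D32732)) (tt N21834 F74796) (tt N22309 F74797) (tt N20776 F74798) (tt N21839 F74799) (tt N21919 F74800))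
theorem Q22377 : ∀ i, i < 22377 → P i := stepQ 22376 Q22376 (allL N22376 (tt N20776 (iv D32733)) (tt N22277 (iv F74804)) (tt N22810 (iv F76653)) (tt N20777 F74801) (tt N22809 F76650) (tt N22297 F74802) (tt N22278 F74803))
theorem Q22378 : ∀ i, i < 22378 → P i := stepQ 22377 Q22377 (allL N22377 (tt N22810 (iv F76651)) (tt N21833 F74805) (tt N20776 (iv D32734)) (tt N22803 (iv F76622)) (tt N21834 F74806) (tt N21837 F74807) (tt N21916 F74808))
theorem Q22379 : ∀ i, i < 22379 → P i := stepQ 22378 Q22378 (allL N22378 (tt N22378 F74809) (tt N20777 (iv D32735)) (tt N22314 F74810) (tt N22277 F74811) (tt N22312 F74812) (tt N22295 F74813) (tt N22273 F74814))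
theorem Q22380 : ∀ i, i < 22380 → P i := stepQ 22379 Q22379 (allL N22379 (tt N22308 F74815) (tt N22379 F74816) (tt N22828 D33185) (tt N20778 (iv D32736)) (tt N22829 D33186) (tt N22618 (iv F75828)) (tt N22632 (iv F75892)))
theorem Q22381 : ∀ i, i < 22381 → P i := stepQ 22380 Q22380 (allL N22380 (tt N22678 (iv F76070)) (tt N22830 D33187) (tt N22678 F76071) (tt N22677 (iv F76063)) (tt N20780 F74817) (tt N20779 (iv D32737)) (tt N20789 (iv F74818)))
theorem Q22382 : ∀ i, i < 22382 → P i := stepQ 22381 Q22381 (allL N22381 (tt N22383 (iv F74826)) (tt N22704 (iv F76190)) (tt N22383 (iv F74827)) (tt N21749 F74819) (tt N20781 F74820) (tt N21747 F74821) (tt N20779 (iv D32738)))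
theorem Q22383 : ∀ i, i < 22383 → P i := stepQ 22382 Q22382 (allL N22382 (tt N22382 F74822) (tt N20780 (iv D32739)) (tt N22679 (iv F76073)) (tt N20783 F74823) (tt N22830 (iv F76731)) (tt N22368 F74824) (tt N22373 F74825))
theorem Q22384 : ∀ i, i < 22384 → P i := stepQ 22383 Q22383 (allL N22383 (tt N22381 F74826) (tt N22655 (iv F75983)) (tt N22381 F74827) (tt N21643 F74828) (tt N20790 F74829) (tt N20789 (iv D32740)) (tt N21641 F74830))
theorem Q22385 : ∀ i, i < 22385 → P i := stepQ 22384 Q22384 (allL N22384 (tt N22482 (iv F75234)) (tt N20851 F74831) (tt N22223 F74832) (tt N22136 F74833) (tt N21299 F74834) (tt N20832 (iv D32741)) (tt N21677 F74835))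
theorem Q22386 : ∀ i, i < 22386 → P i := stepQ 22385 Q22385 (allL N22385 (tt N22470 (iv F75177)) (tt N20858 F74836) (tt N22208 F74837) (tt N22137 F74838) (tt N21300 F74839) (tt N21548 F74840) (tt N20835 (iv D32742)))
theorem Q22387 : ∀ i, i < 22387 → P i := stepQ 22386 Q22386 (allL N22386 (tt N22585 (iv F75688)) (tt N22027 F74841) (tt N20850 (iv D32743)) (tt N21267 F74842) (tt N22028 F74843) (tt N22785 (iv F76534)) (tt N22586 (iv F75696)))
theorem Q22388 : ∀ i, i < 22388 → P i := stepQ 22387 Q22387 (allL N22387 (tt N22253 F74844) (tt N20853 F74845) (tt N22028 F74846) (tt N21339 F74847) (tt N20850 (iv D32744)) (tt N22483 (iv F75241)) (tt N22404 (iv F74920)))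
theorem Q22389 : ∀ i, i < 22389 → P i := stepQ 22388 Q22388 (allL N22388 (tt N22541 (iv F75504)) (tt N22136 F74848) (tt N22785 (iv F76531)) (tt N20851 F74849) (tt N22483 (iv F75240)) (tt N20850 (iv D32745)) (tt N21391 F74850))
theorem Q22390 : ∀ i, i < 22390 → P i := stepQ 22389 Q22389 (allL N22389 (tt N22598 (iv F75742)) (tt N22041 F74851) (tt N20857 (iv D32746)) (tt N21276 F74852) (tt N22042 F74853) (tt N22599 (iv F75750)) (tt N22784 (iv F76529)))
theorem Q22391 : ∀ i, i < 22391 → P i := stepQ 22390 Q22390 (allL N22390 (tt N22250 F74854) (tt N20860 F74855) (tt N22042 F74856) (tt N21347 F74857) (tt N20857 (iv D32747)) (tt N22423 (iv F74988)) (tt N22471 (iv F75184)))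
theorem Q22392 : ∀ i, i < 22392 → P i := stepQ 22391 Q22391 (allL N22391 (tt N22550 (iv F75544)) (tt N22137 F74858) (tt N22784 (iv F76525)) (tt N20858 F74859) (tt N22471 (iv F75183)) (tt N21435 F74860) (tt N20857 (iv D32748)))
theorem Q22393 : ∀ i, i < 22393 → P i := stepQ 22392 Q22392 (allL N22392 (tt N21885 F74861) (tt N22831 D33188) (tt N20863 F74862) (tt N20911 F74863) (tt N22130 F74864) (tt N20909 F74865) (tt N20861 (iv D32749)))
theorem Q22394 : ∀ i, i < 22394 → P i := stepQ 22393 Q22393 (allL N22393 (tt N22832 D33189) (tt N20862 (iv D32750)) (tt N22833 D33190) (tt N21872 F74866) (tt N21118 F74867) (tt N22741 (iv F76363)) (tt N21109 F74868))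
theorem Q22395 : ∀ i, i < 22395 → P i := stepQ 22394 Q22394 (allL N22394 (tt N20864 (iv D32751)) (tt N22562 (iv F75596)) (tt N21071 F74873) (tt N20866 F74869) (tt N21409 F74870) (tt N20925 F74871) (tt N21070 F74872))
theorem Q22396 : ∀ i, i < 22396 → P i := stepQ 22395 Q22395 (allL N22395 (tt N21071 F74874) (tt N22833 (iv F76744)) (tt N20864 (iv D32752)) (tt N21074 F74878) (tt N21408 F74875) (tt N22360 F74876) (tt N21069 F74877))
theorem Q22397 : ∀ i, i < 22397 → P i := stepQ 22396 Q22396 (allL N22396 (tt N20865 (iv D32753)) (tt N22658 (iv F75992)) (tt N21399 F74879) (tt N22463 (iv F75148)) (tt N21353 F74880) (tt N20979 F74881) (tt N21311 F74882))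
theorem Q22398 : ∀ i, i < 22398 → P i := stepQ 22397 Q22397 (allL N22397 (tt N21357 F74883) (tt N21946 F74884) (tt N20949 F74885) (tt N21948 F74886) (tt N21374 F74887) (tt N20879 (iv D32754)) (tt N20948 F74888))
theorem Q22399 : ∀ i, i < 22399 → P i := stepQ 22398 Q22398 (allL N22398 (tt N22833 (iv F76743)) (tt N20885 (iv D32755)) (tt N22832 F76742) (tt N21766 F74889) (tt N21168 F74890) (tt N21162 F74891) (tt N22728 (iv F76307)))
theorem Q22400 : ∀ i, i < 22400 → P i := stepQ 22399 Q22399 (allL N22399 (tt N21791 F74892) (tt N22834 D33191) (tt N20888 F74893) (tt N20940 F74894) (tt N22132 F74895) (tt N20886 (iv D32756)) (tt N20938 F74896))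
theorem Q22401 : ∀ i, i < 22401 → P i := stepQ 22400 Q22400 (allL N22400 (tt N20887 (iv D32757)) (tt N22565 (iv F75609)) (tt N21034 F74901) (tt N20889 F74897) (tt N21364 F74898) (tt N21033 F74899) (tt N20954 F74900))
theorem Q22402 : ∀ i, i < 22402 → P i := stepQ 22401 Q22401 (allL N22401 (tt N21034 F74902) (tt N22832 (iv F76737)) (tt N20887 (iv D32758)) (tt N21037 F74906) (tt N21363 F74903) (tt N21032 F74904) (tt N22352 F74905))
theorem Q22403 : ∀ i, i < 22403 → P i := stepQ 22402 Q22402 (allL N22402 (tt N20891 (iv D32759)) (tt N22688 (iv F76113)) (tt N21353 F74907) (tt N22475 (iv F75205)) (tt N21399 F74908) (tt N21322 F74909) (tt N21005 F74910))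
theorem Q22404 : ∀ i, i < 22404 → P i := stepQ 22403 Q22403 (allL N22403 (tt N21402 F74911) (tt N21984 F74912) (tt N20920 F74913) (tt N21986 F74914) (tt N21418 F74915) (tt N20919 F74916) (tt N20903 (iv D32760)))
theorem Q22405 : ∀ i, i < 22405 → P i := stepQ 22404 Q22404 (allL N22404 (tt N21385 (iv F74921)) (tt N20909 (iv D32761)) (tt N21953 F74917) (tt N20910 F74918) (tt N21389 F74919) (tt N22751 (iv F76399)) (tt N22387 F74920))
theorem Q22406 : ∀ i, i < 22406 → P i := stepQ 22405 Q22405 (allL N22405 (tt N22555 F75568) (tt N20911 (iv D32762)) (tt N22546 (iv F75525)) (tt N22831 (iv F76734)) (tt N22168 F74922) (tt N22752 (iv F76401)) (tt N22831 (iv F76736)))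
theorem Q22407 : ∀ i, i < 22407 → P i := stepQ 22406 Q22406 (allL N22406 (tt N22003 F74923) (tt N21664 F74924) (tt N20914 (iv D32763)) (tt N22686 (iv F76106)) (tt N21688 F74925) (tt N22698 (iv F76164)) (tt N21111 F74926))
theorem Q22408 : ∀ i, i < 22408 → P i := stepQ 22407 Q22407 (allL N22407 (tt N22501 (iv F75319)) (tt N22326 F74927) (tt N22698 (iv F76162)) (tt N21392 F74928) (tt N22537 (iv F75490)) (tt N20914 (iv D32764)) (tt N22500 (iv F75318)))
theorem Q22409 : ∀ i, i < 22409 → P i := stepQ 22408 Q22408 (allL N22408 (tt N22580 (iv F75671)) (tt N22763 F76445) (tt N20915 (iv D32765)) (tt N20917 F74931) (tt N20917 F74929) (tt N22835 D33192) (tt N20923 F74930))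
theorem Q22410 : ∀ i, i < 22410 → P i := stepQ 22409 Q22409 (allL N22409 (tt N22417 (iv F74960)) (tt N22451 (iv F75090)) (tt N22835 (iv F76752)) (tt N22481 F75233) (tt N20918 F74932) (tt N20915 (iv D32766)) (tt N22415 (iv F74955)))
theorem Q22411 : ∀ i, i < 22411 → P i := stepQ 22410 Q22410 (allL N22410 (tt N22421 (iv F74978)) (tt N22836 D33193) (tt N20918 F74933) (tt N22835 (iv F76753)) (tt N22835 (iv F76754)) (tt N20917 (iv D32767)) (tt N22420 (iv F74977)))
theorem Q22412 : ∀ i, i < 22412 → P i := stepQ 22411 Q22411 (allL N22411 (tt N20921 (iv D32768)) (tt N21040 F74934) (tt N21218 F74935) (tt N20922 F74936) (tt N21043 F74937) (tt N22739 (iv F76350)) (tt N21217 F74938))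
theorem Q22413 : ∀ i, i < 22413 → P i := stepQ 22412 Q22412 (allL N22412 (tt N22739 (iv F76352)) (tt N22462 (iv F75141)) (tt N21284 F74939) (tt N20924 F74940) (tt N21289 F74941) (tt N20921 (iv D32769)) (tt N21288 F74942))
theorem Q22414 : ∀ i, i < 22414 → P i := stepQ 22413 Q22413 (allL N22413 (tt N22352 F74943) (tt N20922 (iv D32770)) (tt N20954 (iv F74947)) (tt N21040 F74944) (tt N20925 F74945) (tt N21409 F74948) (tt N21034 F74946))
theorem Q22415 : ∀ i, i < 22415 → P i := stepQ 22414 Q22414 (allL N22414 (tt N20923 F74949) (tt N20955 F74950) (tt N20922 (iv D32771)) (tt N20926 F74951) (tt N20926 F74952) (tt N22837 D33194) (tt N22580 (iv F75674)))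
theorem Q22416 : ∀ i, i < 22416 → P i := stepQ 22415 Q22415 (allL N22415 (tt N20924 F74953) (tt N22624 (iv F75859)) (tt N22837 (iv F76760)) (tt N22739 (iv F76348)) (tt N20927 F74954) (tt N20922 (iv D32772)) (tt N22409 F74955))
theorem Q22417 : ∀ i, i < 22417 → P i := stepQ 22416 Q22416 (allL N22416 (tt N22837 (iv F76758)) (tt N20962 F74956) (tt N20924 F74957) (tt N20928 F74958) (tt N20928 F74959) (tt N20923 (iv D32773)) (tt N22838 D33195))
theorem Q22418 : ∀ i, i < 22418 → P i := stepQ 22417 Q22417 (allL N22417 (tt N22409 F74960) (tt N21290 F74961) (tt N22838 (iv F76766)) (tt N21288 F74962) (tt N20929 F74963) (tt N21372 F74964) (tt N20924 (iv D32774)))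
theorem Q22419 : ∀ i, i < 22419 → P i := stepQ 22418 Q22418 (allL N22418 (tt N22360 F74965) (tt N20951 (iv F74970)) (tt N20925 (iv D32775)) (tt N21077 F74966) (tt N20954 F74967) (tt N21071 F74968) (tt N21364 F74969))
theorem Q22420 : ∀ i, i < 22420 → P i := stepQ 22419 Q22419 (allL N22419 (tt N20952 F74971) (tt N20926 (iv D32776)) (tt N20951 F74972) (tt N20955 F74973) (tt N20955 F74974) (tt N22593 (iv F75726)) (tt N22839 D33196))
theorem Q22421 : ∀ i, i < 22421 → P i := stepQ 22420 Q22420 (allL N22420 (tt N20928 F74975) (tt N22840 D33197) (tt N20927 F74976) (tt N22837 (iv F76761)) (tt N22837 (iv F76762)) (tt N20926 (iv D32777)) (tt N22410 F74977))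
theorem Q22422 : ∀ i, i < 22422 → P i := stepQ 22421 Q22421 (allL N22421 (tt N22410 F74978) (tt N22749 (iv F76393)) (tt N20929 F74979) (tt N22838 (iv F76767)) (tt N22838 (iv F76768)) (tt N21373 F74980) (tt N20928 (iv D32778)))
theorem Q22423 : ∀ i, i < 22423 → P i := stepQ 22422 Q22422 (allL N22422 (tt N22839 (iv F76770)) (tt N20933 (iv D32779)) (tt N20953 F74981) (tt N20957 F74982) (tt N20957 F74983) (tt N22841 D33198) (tt N20952 F74984))
theorem Q22424 : ∀ i, i < 22424 → P i := stepQ 22423 Q22423 (allL N22423 (tt N21429 F74989) (tt N20938 (iv D32780)) (tt N21991 F74985) (tt N20939 F74986) (tt N21433 F74987) (tt N22390 F74988) (tt N22755 (iv F76416)))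
theorem Q22425 : ∀ i, i < 22425 → P i := stepQ 22424 Q22424 (allL N22424 (tt N22546 F75527) (tt N20940 (iv D32781)) (tt N22555 (iv F75566)) (tt N22834 (iv F76749)) (tt N22175 F74990) (tt N22834 (iv F76751)) (tt N22756 (iv F76418)))
theorem Q22426 : ∀ i, i < 22426 → P i := stepQ 22425 Q22425 (allL N22425 (tt N21965 F74991) (tt N21533 F74992) (tt N20943 (iv D32782)) (tt N22639 (iv F75916)) (tt N21562 F74993) (tt N21170 F74994) (tt N22646 (iv F75948)))
theorem Q22427 : ∀ i, i < 22427 → P i := stepQ 22426 Q22426 (allL N22426 (tt N22527 (iv F75439)) (tt N22340 F74995) (tt N22646 (iv F75947)) (tt N21436 F74996) (tt N22548 (iv F75537)) (tt N22526 (iv F75438)) (tt N20943 (iv D32783)))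
theorem Q22428 : ∀ i, i < 22428 → P i := stepQ 22427 Q22427 (allL N22427 (tt N22593 (iv F75723)) (tt N22774 F76485) (tt N20944 (iv D32784)) (tt N20946 F74999) (tt N20946 F74997) (tt N20952 F74998) (tt N22842 D33199))
theorem Q22429 : ∀ i, i < 22429 → P i := stepQ 22428 Q22428 (allL N22428 (tt N22433 (iv F75014)) (tt N22438 (iv F75032)) (tt N22842 (iv F76785)) (tt N22469 F75176) (tt N20947 F75000) (tt N22432 (iv F75013)) (tt N20944 (iv D32785)))
theorem Q22430 : ∀ i, i < 22430 → P i := stepQ 22429 Q22429 (allL N22429 (tt N22435 (iv F75022)) (tt N22843 D33200) (tt N20947 F75001) (tt N22842 (iv F76786)) (tt N22842 (iv F76787)) (tt N22434 (iv F75021)) (tt N20946 (iv D32786)))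
theorem Q22431 : ∀ i, i < 22431 → P i := stepQ 22430 Q22430 (allL N22430 (tt N20950 (iv D32787)) (tt N21077 F75002) (tt N21198 F75003) (tt N20951 F75004) (tt N21080 F75005) (tt N21197 F75006) (tt N22726 (iv F76295)))
theorem Q22432 : ∀ i, i < 22432 → P i := stepQ 22431 Q22431 (allL N22431 (tt N22726 (iv F76296)) (tt N22474 (iv F75198)) (tt N21289 F75007) (tt N20953 F75008) (tt N21284 F75009) (tt N21283 F75010) (tt N20950 (iv D32788)))
theorem Q22433 : ∀ i, i < 22433 → P i := stepQ 22432 Q22432 (allL N22432 (tt N20953 F75011) (tt N22609 (iv F75799)) (tt N22839 (iv F76772)) (tt N22726 (iv F76292)) (tt N20956 F75012) (tt N22428 F75013) (tt N20951 (iv D32789)))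
theorem Q22434 : ∀ i, i < 22434 → P i := stepQ 22433 Q22433 (allL N22433 (tt N22428 F75014) (tt N21285 F75015) (tt N22841 (iv F76780)) (tt N21283 F75016) (tt N20958 F75017) (tt N20953 (iv D32790)) (tt N21416 F75018))
theorem Q22435 : ∀ i, i < 22435 → P i := stepQ 22434 Q22434 (allL N22434 (tt N20957 F75019) (tt N22844 D33201) (tt N20956 F75020) (tt N22839 (iv F76773)) (tt N22839 (iv F76774)) (tt N22429 F75021) (tt N20955 (iv D32791)))
theorem Q22436 : ∀ i, i < 22436 → P i := stepQ 22435 Q22435 (allL N22435 (tt N22429 F75022) (tt N22750 (iv F76394)) (tt N20958 F75023) (tt N22841 (iv F76781)) (tt N22841 (iv F76782)) (tt N20957 (iv D32792)) (tt N21417 F75024))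
theorem Q22437 : ∀ i, i < 22437 → P i := stepQ 22436 Q22436 (allL N22436 (tt N22644 (iv F75938)) (tt N20966 F75025) (tt N22845 D33202) (tt N20965 (iv D32793)) (tt N22846 D33203) (tt N22511 (iv F75366)) (tt N22644 (iv F75940)))
theorem Q22438 : ∀ i, i < 22438 → P i := stepQ 22437 Q22437 (allL N22437 (tt N22645 (iv F75941)) (tt N22510 (iv F75360)) (tt N21537 F75026) (tt N22511 (iv F75365)) (tt N21537 F75027) (tt N20965 (iv D32794)) (tt N22437 F75028))
theorem Q22439 : ∀ i, i < 22439 → P i := stepQ 22438 Q22438 (allL N22438 (tt N20967 F75029) (tt N22428 F75032) (tt N20966 (iv D32795)) (tt N21563 F75031) (tt N21356 (iv F75033)) (tt N22440 (iv F75042)) (tt N21534 F75030))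
theorem Q22440 : ∀ i, i < 22440 → P i := stepQ 22439 Q22439 (allL N22439 (tt N20968 F75034) (tt N22846 (iv F76803)) (tt N21356 F75035) (tt N21539 F75036) (tt N20966 (iv D32796)) (tt N22190 F75037) (tt N21533 F75038))
theorem Q22441 : ∀ i, i < 22441 → P i := stepQ 22440 Q22440 (allL N22440 (tt N21563 F75039) (tt N22355 F75040) (tt N21053 F75041) (tt N20967 (iv D32797)) (tt N22448 (iv F75080)) (tt N22438 F75042) (tt N21050 F75043))
theorem Q22442 : ∀ i, i < 22442 → P i := stepQ 22441 Q22441 (allL N22441 (tt N21628 F75044) (tt N20974 F75045) (tt N22790 (iv F76560)) (tt N22262 F75046) (tt N20974 F75047) (tt N20971 (iv D32798)) (tt N22445 (iv F75065)))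
theorem Q22443 : ∀ i, i < 22443 → P i := stepQ 22442 Q22442 (allL N22442 (tt N21104 (iv F75052)) (tt N20972 (iv D32799)) (tt N21103 F75048) (tt N21113 F75049) (tt N22590 (iv F75712)) (tt N21103 F75050) (tt N21202 F75051))
theorem Q22444 : ∀ i, i < 22444 → P i := stepQ 22443 Q22443 (allL N22443 (tt N22447 (iv F75072)) (tt N22697 (iv F76157)) (tt N20974 F75053) (tt N22096 F75054) (tt N22790 (iv F76561)) (tt N20973 (iv D32800)) (tt N22446 (iv F75071)))
theorem Q22445 : ∀ i, i < 22445 → P i := stepQ 22444 Q22444 (allL N22444 (tt N21354 F75055) (tt N20976 (iv D32801)) (tt N21322 F75056) (tt N22332 F75057) (tt N20979 F75058) (tt N21353 (iv F75059)) (tt N21321 F75060))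
theorem Q22446 : ∀ i, i < 22446 → P i := stepQ 22445 Q22445 (allL N22445 (tt N20978 F75061) (tt N22675 (iv F76051)) (tt N22182 F75062) (tt N22095 F75063) (tt N20981 F75064) (tt N20976 (iv D32802)) (tt N22441 F75065))
theorem Q22447 : ∀ i, i < 22447 → P i := stepQ 22446 Q22446 (allL N22446 (tt N20982 F75066) (tt N21693 F75067) (tt N20981 F75068) (tt N21997 F75069) (tt N22182 F75070) (tt N20980 (iv D32803)) (tt N22443 F75071))
theorem Q22448 : ∀ i, i < 22448 → P i := stepQ 22447 Q22447 (allL N22447 (tt N22443 F75072) (tt N22667 (iv F76024)) (tt N20983 F75073) (tt N22009 F75074) (tt N22229 F75075) (tt N22228 F75076) (tt N20982 (iv D32804)))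
theorem Q22449 : ∀ i, i < 22449 → P i := stepQ 22448 Q22448 (allL N22448 (tt N20986 F75077) (tt N21275 F75078) (tt N22190 F75079) (tt N20985 (iv D32805)) (tt N22440 F75080) (tt N21356 F75081) (tt N21232 F75082))
theorem Q22450 : ∀ i, i < 22450 → P i := stepQ 22449 Q22449 (allL N22449 (tt N22696 (iv F76153)) (tt N20992 F75083) (tt N22847 D33204) (tt N20991 (iv D32806)) (tt N22848 D33205) (tt N22696 (iv F76155)) (tt N22533 (iv F75469)))
theorem Q22451 : ∀ i, i < 22451 → P i := stepQ 22450 Q22450 (allL N22450 (tt N22697 (iv F76156)) (tt N22512 (iv F75369)) (tt N21667 F75084) (tt N22533 (iv F75467)) (tt N21667 F75085) (tt N22450 F75086) (tt N20991 (iv D32807)))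
theorem Q22452 : ∀ i, i < 22452 → P i := stepQ 22451 Q22451 (allL N22451 (tt N20993 F75087) (tt N22409 F75090) (tt N20992 (iv D32808)) (tt N21689 F75089) (tt N21401 (iv F75091)) (tt N21665 F75088) (tt N22453 (iv F75101)))
theorem Q22453 : ∀ i, i < 22453 → P i := stepQ 22452 Q22452 (allL N22452 (tt N20994 F75092) (tt N22848 (iv F76813)) (tt N21401 F75093) (tt N21669 F75094) (tt N20992 (iv D32809)) (tt N21664 F75095) (tt N22183 F75096))
theorem Q22454 : ∀ i, i < 22454 → P i := stepQ 22453 Q22453 (allL N22453 (tt N21689 F75097) (tt N22362 F75098) (tt N21088 F75099) (tt N20993 (iv D32810)) (tt N22461 (iv F75138)) (tt N21085 F75100) (tt N22451 F75101))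
theorem Q22455 : ∀ i, i < 22455 → P i := stepQ 22454 Q22454 (allL N22454 (tt N21740 F75102) (tt N21000 F75103) (tt N22787 (iv F76544)) (tt N22248 F75104) (tt N21000 F75105) (tt N22458 (iv F75123)) (tt N20997 (iv D32811)))
theorem Q22456 : ∀ i, i < 22456 → P i := stepQ 22455 Q22455 (allL N22455 (tt N21157 F75110) (tt N20998 (iv D32812)) (tt N21156 F75106) (tt N21163 F75107) (tt N22603 (iv F75768)) (tt N21222 F75108) (tt N21156 F75109))
theorem Q22457 : ∀ i, i < 22457 → P i := stepQ 22456 Q22456 (allL N22456 (tt N22460 (iv F75130)) (tt N22645 (iv F75942)) (tt N21000 F75111) (tt N22113 F75112) (tt N22787 (iv F76545)) (tt N22459 (iv F75129)) (tt N20999 (iv D32813)))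
theorem Q22458 : ∀ i, i < 22458 → P i := stepQ 22457 Q22457 (allL N22457 (tt N21400 F75113) (tt N21002 (iv D32814)) (tt N21311 F75114) (tt N22346 F75115) (tt N21005 F75116) (tt N21310 (iv F75118)) (tt N21399 F75117))
theorem Q22459 : ∀ i, i < 22459 → P i := stepQ 22458 Q22458 (allL N22458 (tt N21004 F75119) (tt N22668 (iv F76030)) (tt N22189 F75120) (tt N22082 F75121) (tt N21007 F75122) (tt N22454 F75123) (tt N21002 (iv D32815)))
theorem Q22460 : ∀ i, i < 22460 → P i := stepQ 22459 Q22459 (allL N22459 (tt N21008 F75124) (tt N21567 F75125) (tt N21007 F75126) (tt N21960 F75127) (tt N22189 F75128) (tt N22456 F75129) (tt N21006 (iv D32816)))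
theorem Q22461 : ∀ i, i < 22461 → P i := stepQ 22460 Q22460 (allL N22460 (tt N22456 F75130) (tt N22709 (iv F76214)) (tt N21009 F75131) (tt N21971 F75132) (tt N22215 F75133) (tt N21008 (iv D32817)) (tt N22213 F75134))
theorem Q22462 : ∀ i, i < 22462 → P i := stepQ 22461 Q22461 (allL N22461 (tt N21012 F75135) (tt N21266 F75136) (tt N22183 F75137) (tt N21011 (iv D32818)) (tt N22453 F75138) (tt N21208 F75139) (tt N21401 F75140))
theorem Q22463 : ∀ i, i < 22463 → P i := stepQ 22462 Q22462 (allL N22462 (tt N22554 (iv F75562)) (tt N22412 F75141) (tt N21241 F75142) (tt N21021 F75143) (tt N22198 F75144) (tt N21020 (iv D32819)) (tt N21247 F75145))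
theorem Q22464 : ∀ i, i < 22464 → P i := stepQ 22463 Q22463 (allL N22463 (tt N21212 F75146) (tt N22753 (iv F76402)) (tt N22341 F75147) (tt N22396 F75148) (tt N22553 (iv F75560)) (tt N21022 (iv D32820)) (tt N21210 F75149))
theorem Q22465 : ∀ i, i < 22465 → P i := stepQ 22464 Q22464 (allL N22464 (tt N22168 F75150) (tt N21023 (iv D32821)) (tt N22175 F75151) (tt N22169 F75152) (tt N22555 (iv F75567)) (tt N22753 (iv F76404)) (tt N22758 (iv F76428)))
theorem Q22466 : ∀ i, i < 22466 → P i := stepQ 22465 Q22465 (allL N22465 (tt N22038 F75153) (tt N22287 F75154) (tt N22275 F75155) (tt N21027 (iv D32822)) (tt N22607 (iv F75786)) (tt N22275 F75156) (tt N22036 F75157))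
theorem Q22467 : ∀ i, i < 22467 → P i := stepQ 22466 Q22466 (allL N22466 (tt N21039 F75158) (tt N21570 F75159) (tt N21037 F75160) (tt N21572 F75161) (tt N21041 F75162) (tt N21036 (iv D32823)) (tt N21594 F75163))
theorem Q22468 : ∀ i, i < 22468 → P i := stepQ 22467 Q22467 (allL N22467 (tt N21872 F75164) (tt N21037 (iv D32824)) (tt N22517 (iv F75395)) (tt N22832 (iv F76738)) (tt N21042 F75165) (tt N22797 (iv F76597)) (tt N22489 (iv F75271)))
theorem Q22469 : ∀ i, i < 22469 → P i := stepQ 22468 Q22468 (allL N22468 (tt N21961 F75166) (tt N21041 (iv D32825)) (tt N21171 F75167) (tt N21597 F75168) (tt N21570 F75169) (tt N21569 F75170) (tt N21170 F75171))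
theorem Q22470 : ∀ i, i < 22470 → P i := stepQ 22469 Q22469 (allL N22469 (tt N21283 F75172) (tt N21563 F75173) (tt N21043 (iv D32826)) (tt N22428 (iv F75176)) (tt N21218 F75174) (tt N22726 (iv F76294)) (tt N21216 F75175))
theorem Q22471 : ∀ i, i < 22471 → P i := stepQ 22470 Q22470 (allL N22470 (tt N22385 F75177) (tt N21530 F75178) (tt N21541 F75179) (tt N21044 (iv D32827)) (tt N21531 F75180) (tt N22238 F75181) (tt N22006 F75182))
theorem Q22472 : ∀ i, i < 22472 → P i := stepQ 22471 Q22471 (allL N22471 (tt N22089 (iv F75186)) (tt N21049 (iv D32828)) (tt N22608 (iv F75791)) (tt N22086 F75185) (tt N22391 F75183) (tt N22597 (iv F75741)) (tt N22390 F75184))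
theorem Q22473 : ∀ i, i < 22473 → P i := stepQ 22472 Q22472 (allL N22472 (tt N21051 F75187) (tt N22086 F75188) (tt N21420 F75189) (tt N21049 (iv D32829)) (tt N21351 F75190) (tt N21785 F75191) (tt N21350 F75192))
theorem Q22474 : ∀ i, i < 22474 → P i := stepQ 22473 Q22473 (allL N22473 (tt N21785 F75193) (tt N21052 F75194) (tt N22514 (iv F75379)) (tt N21052 F75195) (tt N21784 F75196) (tt N21051 (iv D32830)) (tt N22242 F75197))
theorem Q22475 : ∀ i, i < 22475 → P i := stepQ 22474 Q22474 (allL N22474 (tt N22545 (iv F75521)) (tt N22431 F75198) (tt N21252 F75199) (tt N21060 F75200) (tt N22203 F75201) (tt N21257 F75202) (tt N21059 (iv D32831)))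
theorem Q22476 : ∀ i, i < 22476 → P i := stepQ 22475 Q22475 (allL N22475 (tt N21231 F75203) (tt N22757 (iv F76419)) (tt N22327 F75204) (tt N22402 F75205) (tt N22544 (iv F75520)) (tt N21229 F75206) (tt N21061 (iv D32832)))
theorem Q22477 : ∀ i, i < 22477 → P i := stepQ 22476 Q22476 (allL N22476 (tt N22175 F75207) (tt N21062 (iv D32833)) (tt N22168 F75208) (tt N22176 F75209) (tt N22546 (iv F75526)) (tt N22754 (iv F76410)) (tt N22757 (iv F76422)))
theorem Q22478 : ∀ i, i < 22478 → P i := stepQ 22477 Q22477 (allL N22477 (tt N22024 F75210) (tt N22267 F75211) (tt N22293 F75212) (tt N21065 (iv D32834)) (tt N22610 (iv F75803)) (tt N22022 F75213) (tt N22293 F75214))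
theorem Q22479 : ∀ i, i < 22479 → P i := stepQ 22478 Q22478 (allL N22478 (tt N21076 F75215) (tt N21697 F75216) (tt N21074 F75217) (tt N21698 F75218) (tt N21078 F75219) (tt N21712 F75220) (tt N21073 (iv D32835)))
theorem Q22480 : ∀ i, i < 22480 → P i := stepQ 22479 Q22479 (allL N22479 (tt N21766 F75221) (tt N21074 (iv D32836)) (tt N22491 (iv F75277)) (tt N22833 (iv F76748)) (tt N21079 F75222) (tt N22490 F75276) (tt N22796 (iv F76592)))
theorem Q22481 : ∀ i, i < 22481 → P i := stepQ 22480 Q22480 (allL N22480 (tt N21999 F75223) (tt N21078 (iv D32837)) (tt N21112 F75224) (tt N21714 F75225) (tt N21697 F75226) (tt N21111 F75227) (tt N21695 F75228))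
theorem Q22482 : ∀ i, i < 22482 → P i := stepQ 22481 Q22481 (allL N22481 (tt N21288 F75229) (tt N21689 F75230) (tt N21080 (iv D32838)) (tt N22409 (iv F75233)) (tt N21198 F75231) (tt N21196 F75232) (tt N22739 (iv F76351)))
theorem Q22483 : ∀ i, i < 22483 → P i := stepQ 22482 Q22482 (allL N22482 (tt N22384 F75234) (tt N21661 F75235) (tt N21671 F75236) (tt N21081 (iv D32839)) (tt N21662 F75237) (tt N21968 F75238) (tt N22257 F75239))
theorem Q22484 : ∀ i, i < 22484 → P i := stepQ 22483 Q22483 (allL N22483 (tt N22076 F75242) (tt N21084 (iv D32840)) (tt N22623 (iv F75851)) (tt N22073 F75243) (tt N22388 F75240) (tt N22387 F75241) (tt N22584 (iv F75687)))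
theorem Q22485 : ∀ i, i < 22485 → P i := stepQ 22484 Q22484 (allL N22484 (tt N21086 F75244) (tt N22073 F75245) (tt N21375 F75246) (tt N21084 (iv D32841)) (tt N21343 F75247) (tt N21342 F75248) (tt N21882 F75249))
theorem Q22486 : ∀ i, i < 22486 → P i := stepQ 22485 Q22485 (allL N22485 (tt N21882 F75250) (tt N21087 F75251) (tt N22535 (iv F75475)) (tt N21087 F75252) (tt N21881 F75253) (tt N22259 F75254) (tt N21086 (iv D32842)))
theorem Q22487 : ∀ i, i < 22487 → P i := stepQ 22486 Q22486 (allL N22486 (tt N22231 F75255) (tt N22172 F75256) (tt N22515 (iv F75387)) (tt N22173 F75257) (tt N22737 (iv F76341)) (tt N21092 (iv D32843)) (tt N22258 F75258))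
theorem Q22488 : ∀ i, i < 22488 → P i := stepQ 22487 Q22487 (allL N22487 (tt N21093 (iv D32844)) (tt N21154 F75259) (tt N22690 (iv F76125)) (tt N21095 F75260) (tt N21660 F75261) (tt N22225 F75262) (tt N22174 F75263))
theorem Q22489 : ∀ i, i < 22489 → P i := stepQ 22488 Q22488 (allL N22488 (tt N22690 (iv F76123)) (tt N21104 F75264) (tt N21093 (iv D32845)) (tt N21114 F75268) (tt N22232 F75265) (tt N21105 F75266) (tt N22141 F75267))
theorem Q22490 : ∀ i, i < 22490 → P i := stepQ 22489 Q22489 (allL N22489 (tt N21094 (iv D32846)) (tt N21151 F75269) (tt N21149 (iv F75272)) (tt N22498 (iv F75310)) (tt N21095 F75270) (tt N22718 (iv F76258)) (tt N22467 F75271))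
theorem Q22491 : ∀ i, i < 22491 → P i := stepQ 22490 Q22490 (allL N22490 (tt N21149 F75273) (tt N21098 F75274) (tt N21094 (iv D32847)) (tt N22523 (iv F75425)) (tt N21096 F75275) (tt N22479 (iv F75276)) (tt N22736 (iv F76339)))
theorem Q22492 : ∀ i, i < 22492 → P i := stepQ 22491 Q22491 (allL N22491 (tt N22718 (iv F76255)) (tt N22495 (iv F75295)) (tt N22479 F75277) (tt N22496 (iv F75300)) (tt N21097 F75278) (tt N21094 (iv D32848)) (tt N22797 (iv F76598)))
theorem Q22493 : ∀ i, i < 22493 → P i := stepQ 22492 Q22492 (allL N22492 (tt N21148 F75279) (tt N21101 F75280) (tt N22634 (iv F75900)) (tt N21096 (iv D32849)) (tt N21529 (iv F75283)) (tt N22181 F75281) (tt N22210 F75282))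
theorem Q22494 : ∀ i, i < 22494 → P i := stepQ 22493 Q22493 (allL N22493 (tt N22590 (iv F75708)) (tt N22232 F75284) (tt N21102 (iv D32850)) (tt N21112 F75287) (tt N21104 F75285) (tt N21102 (iv F75288)) (tt N21393 F75286))
theorem Q22495 : ∀ i, i < 22495 → P i := stepQ 22494 Q22494 (allL N22494 (tt N21106 (iv D32851)) (tt N22004 (iv F75292)) (tt N21711 F75289) (tt N21107 F75290) (tt N21110 F75291) (tt N21904 F75293) (tt N22536 (iv F75485)))
theorem Q22496 : ∀ i, i < 22496 → P i := stepQ 22495 Q22495 (allL N22495 (tt N21904 F75294) (tt N22491 F75295) (tt N21697 F75296) (tt N21108 F75297) (tt N21112 F75298) (tt N21106 (iv D32852)) (tt N21694 (iv F75299)))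
theorem Q22497 : ∀ i, i < 22497 → P i := stepQ 22496 Q22496 (allL N22496 (tt N22849 D33206) (tt N21108 (iv D32853)) (tt N22521 (iv F75413)) (tt N22491 F75300) (tt N21114 F75301) (tt N21109 F75302) (tt N22524 (iv F75429)))
theorem Q22498 : ∀ i, i < 22498 → P i := stepQ 22497 Q22497 (allL N22497 (tt N21206 F75303) (tt N22013 (iv F75308)) (tt N21809 F75304) (tt N21694 F75305) (tt N21115 F75306) (tt N21205 F75307) (tt N21108 (iv D32854)))
theorem Q22499 : ∀ i, i < 22499 → P i := stepQ 22498 Q22498 (allL N22498 (tt N21109 (iv D32855)) (tt N21869 F75309) (tt N22728 (iv F76304)) (tt N22489 F75310) (tt N21116 F75311) (tt N22849 (iv F76820)) (tt N22832 (iv F76741)))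
theorem Q22500 : ∀ i, i < 22500 → P i := stepQ 22499 Q22499 (allL N22499 (tt N22728 (iv F76303)) (tt N21120 F75312) (tt N21109 (iv D32856)) (tt N22796 (iv F76590)) (tt N21117 F75313) (tt N22521 (iv F75417)) (tt N22833 (iv F76747)))
theorem Q22501 : ∀ i, i < 22501 → P i := stepQ 22500 Q22500 (allL N22500 (tt N21112 F75314) (tt N21908 F75315) (tt N21999 F75316) (tt N22590 (iv F75711)) (tt N21904 F75317) (tt N21110 (iv D32857)) (tt N22407 F75318))
theorem Q22502 : ∀ i, i < 22502 → P i := stepQ 22501 Q22501 (allL N22501 (tt N22407 F75319) (tt N21944 F75320) (tt N21695 F75321) (tt N21393 F75322) (tt N21694 F75323) (tt N21386 F75324) (tt N21112 (iv D32858)))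
theorem Q22503 : ∀ i, i < 22503 → P i := stepQ 22502 Q22502 (allL N22502 (tt N21114 (iv D32859)) (tt N21883 F75325) (tt N22525 (iv F75431)) (tt N22690 (iv F76126)) (tt N22849 (iv F76819)) (tt N21116 F75326) (tt N21943 F75327))
theorem Q22504 : ∀ i, i < 22504 → P i := stepQ 22503 Q22503 (allL N22503 (tt N21118 F75328) (tt N21363 F75329) (tt N21168 F75330) (tt N21365 F75331) (tt N22832 (iv F76739)) (tt N21167 F75332) (tt N21116 (iv D32860)))
theorem Q22505 : ∀ i, i < 22505 → P i := stepQ 22504 Q22504 (allL N22504 (tt N21168 F75333) (tt N21408 F75334) (tt N21118 F75335) (tt N21410 F75336) (tt N22833 (iv F76745)) (tt N21166 F75337) (tt N21117 (iv D32861)))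
theorem Q22506 : ∀ i, i < 22506 → P i := stepQ 22505 Q22505 (allL N22505 (tt N22564 (iv F75604)) (tt N21124 (iv D32862)) (tt N22007 F75338) (tt N22745 (iv F76379)) (tt N21132 F75339) (tt N22793 (iv F76577)) (tt N22563 (iv F75603)))
theorem Q22507 : ∀ i, i < 22507 → P i := stepQ 22506 Q22506 (allL N22506 (tt N21131 F75340) (tt N21129 F75341) (tt N21128 (iv D32863)) (tt N22272 F75342) (tt N21141 F75343) (tt N22301 F75344) (tt N21130 F75345))
theorem Q22508 : ∀ i, i < 22508 → P i := stepQ 22507 Q22507 (allL N22507 (tt N21918 F75346) (tt N21131 (iv D32864)) (tt N22355 F75347) (tt N21449 F75348) (tt N22563 (iv F75602)) (tt N21462 (iv F75350)) (tt N21132 F75349))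
theorem Q22509 : ∀ i, i < 22509 → P i := stepQ 22508 Q22508 (allL N22508 (tt N22301 F75351) (tt N21514 F75352) (tt N21137 F75353) (tt N21522 F75354) (tt N22605 (iv F75776)) (tt N21131 (iv D32865)) (tt N22302 F75355))
theorem Q22510 : ∀ i, i < 22510 → P i := stepQ 22509 Q22509 (allL N22509 (tt N21362 F75356) (tt N22532 (iv F75464)) (tt N22727 (iv F76299)) (tt N21482 F75357) (tt N22793 (iv F76576)) (tt N21132 (iv D32866)) (tt N22289 F75358))
theorem Q22511 : ∀ i, i < 22511 → P i := stepQ 22510 Q22510 (allL N22510 (tt N21542 F75359) (tt N22437 F75360) (tt N21547 F75361) (tt N21137 F75362) (tt N22207 F75363) (tt N21135 (iv D32867)) (tt N22209 F75364))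
theorem Q22512 : ∀ i, i < 22512 → P i := stepQ 22511 Q22511 (allL N22511 (tt N22771 (iv F76471)) (tt N21137 (iv D32868)) (tt N22772 (iv F76478)) (tt N22437 F75365) (tt N22795 (iv F76585)) (tt N22436 F75366) (tt N22511 F75367))
theorem Q22513 : ∀ i, i < 22513 → P i := stepQ 22512 Q22512 (allL N22512 (tt N21672 F75368) (tt N22450 F75369) (tt N21676 F75370) (tt N21187 F75371) (tt N22222 F75372) (tt N22224 F75373) (tt N21139 (iv D32869)))
theorem Q22514 : ∀ i, i < 22514 → P i := stepQ 22513 Q22513 (allL N22513 (tt N22605 (iv F75774)) (tt N22300 (iv F75378)) (tt N21142 F75374) (tt N22205 F75375) (tt N22301 F75376) (tt N21141 (iv D32870)) (tt N22138 F75377))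
theorem Q22515 : ∀ i, i < 22515 → P i := stepQ 22514 Q22514 (allL N22514 (tt N21805 F75384) (tt N21145 (iv D32871)) (tt N22473 F75379) (tt N21867 F75380) (tt N21421 F75381) (tt N22300 F75382) (tt N21419 F75383))
theorem Q22516 : ∀ i, i < 22516 → P i := stepQ 22515 Q22515 (allL N22515 (tt N22216 F75385) (tt N22179 F75386) (tt N22486 F75387) (tt N22180 F75388) (tt N22720 (iv F76264)) (tt N22240 F75389) (tt N21147 (iv D32872)))
theorem Q22517 : ∀ i, i < 22517 → P i := stepQ 22516 Q22516 (allL N22516 (tt N22634 (iv F75898)) (tt N21157 F75390) (tt N21148 (iv D32873)) (tt N21164 F75394) (tt N22217 F75391) (tt N22139 F75392) (tt N21158 F75393))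
theorem Q22518 : ∀ i, i < 22518 → P i := stepQ 22517 Q22517 (allL N22517 (tt N22736 (iv F76335)) (tt N22520 (iv F75408)) (tt N22467 F75395) (tt N22521 (iv F75414)) (tt N21150 F75396) (tt N22796 (iv F76591)) (tt N21149 (iv D32874)))
theorem Q22519 : ∀ i, i < 22519 → P i := stepQ 22518 Q22518 (allL N22518 (tt N22603 (iv F75764)) (tt N22217 F75397) (tt N21155 (iv D32875)) (tt N21171 F75400) (tt N21157 F75398) (tt N21438 F75399) (tt N21155 (iv F75401)))
theorem Q22520 : ∀ i, i < 22520 → P i := stepQ 22519 Q22519 (allL N22519 (tt N21159 (iv D32876)) (tt N21966 (iv F75405)) (tt N21593 F75402) (tt N21160 F75403) (tt N21169 F75404) (tt N22547 (iv F75532)) (tt N21819 F75406))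
theorem Q22521 : ∀ i, i < 22521 → P i := stepQ 22520 Q22520 (allL N22520 (tt N21819 F75407) (tt N22517 F75408) (tt N21570 F75409) (tt N21161 F75410) (tt N21171 F75411) (tt N21568 (iv F75412)) (tt N21159 (iv D32877)))
theorem Q22522 : ∀ i, i < 22522 → P i := stepQ 22521 Q22521 (allL N22521 (tt N22850 D33207) (tt N21161 (iv D32878)) (tt N22496 F75413) (tt N22517 F75414) (tt N21164 F75415) (tt N22499 F75417) (tt N21162 F75416))
theorem Q22523 : ∀ i, i < 22523 → P i := stepQ 22522 Q22522 (allL N22522 (tt N21226 F75418) (tt N21975 F75419) (tt N21815 F75420) (tt N21568 F75421) (tt N21165 F75422) (tt N21161 (iv D32879)) (tt N21225 F75423))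
theorem Q22524 : ∀ i, i < 22524 → P i := stepQ 22523 Q22523 (allL N22523 (tt N21162 (iv D32880)) (tt N21767 F75424) (tt N22741 (iv F76360)) (tt N22490 F75425) (tt N21166 F75426) (tt N22833 (iv F76746)) (tt N22850 (iv F76827)))
theorem Q22525 : ∀ i, i < 22525 → P i := stepQ 22524 Q22524 (allL N22524 (tt N22741 (iv F76359)) (tt N21173 F75427) (tt N21162 (iv D32881)) (tt N22797 (iv F76596)) (tt N21167 F75428) (tt N22832 (iv F76740)) (tt N22496 F75429))
theorem Q22526 : ∀ i, i < 22526 → P i := stepQ 22525 Q22525 (allL N22525 (tt N21164 (iv D32882)) (tt N21786 F75430) (tt N22502 F75431) (tt N22634 (iv F75901)) (tt N22850 (iv F76825)) (tt N21980 F75432) (tt N21166 F75433))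
theorem Q22527 : ∀ i, i < 22527 → P i := stepQ 22526 Q22526 (allL N22526 (tt N21171 F75434) (tt N21823 F75435) (tt N21961 F75436) (tt N22603 (iv F75767)) (tt N21819 F75437) (tt N22426 F75438) (tt N21169 (iv D32883)))
theorem Q22528 : ∀ i, i < 22528 → P i := stepQ 22527 Q22527 (allL N22527 (tt N22426 F75439) (tt N21982 F75440) (tt N21569 F75441) (tt N21438 F75442) (tt N21568 F75443) (tt N21171 (iv D32884)) (tt N21430 F75444))
theorem Q22529 : ∀ i, i < 22529 → P i := stepQ 22528 Q22528 (allL N22528 (tt N22561 (iv F75591)) (tt N21177 (iv D32885)) (tt N21969 F75445) (tt N22748 (iv F76390)) (tt N21185 F75446) (tt N22560 (iv F75590)) (tt N22792 (iv F76572)))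
theorem Q22530 : ∀ i, i < 22530 → P i := stepQ 22529 Q22529 (allL N22529 (tt N21184 F75447) (tt N21182 F75448) (tt N21181 (iv D32886)) (tt N22291 F75449) (tt N21190 F75450) (tt N21183 F75451) (tt N22282 F75452))
theorem Q22531 : ∀ i, i < 22531 → P i := stepQ 22530 Q22530 (allL N22530 (tt N21841 F75453) (tt N21184 (iv D32887)) (tt N22362 F75454) (tt N21491 F75455) (tt N22560 (iv F75589)) (tt N21185 F75456) (tt N21504 F75457))
theorem Q22532 : ∀ i, i < 22532 → P i := stepQ 22531 Q22531 (allL N22531 (tt N22282 F75458) (tt N21472 F75459) (tt N21187 F75460) (tt N21480 F75461) (tt N22622 (iv F75846)) (tt N22283 F75462) (tt N21184 (iv D32888)))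
theorem Q22533 : ∀ i, i < 22533 → P i := stepQ 22532 Q22532 (allL N22532 (tt N21407 F75463) (tt N22509 F75464) (tt N22740 (iv F76355)) (tt N21523 F75465) (tt N22792 (iv F76571)) (tt N22269 F75466) (tt N21185 (iv D32889)))
theorem Q22534 : ∀ i, i < 22534 → P i := stepQ 22533 Q22533 (allL N22533 (tt N22759 (iv F76429)) (tt N21187 (iv D32890)) (tt N22760 (iv F76436)) (tt N22450 F75467) (tt N22794 (iv F76580)) (tt N22533 F75468) (tt N22449 F75469))
theorem Q22535 : ∀ i, i < 22535 → P i := stepQ 22534 Q22534 (allL N22534 (tt N22622 (iv F75843)) (tt N22280 (iv F75474)) (tt N21191 F75470) (tt N22200 F75471) (tt N22282 F75472) (tt N22140 F75473) (tt N21190 (iv D32891)))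
theorem Q22536 : ∀ i, i < 22536 → P i := stepQ 22535 Q22535 (allL N22535 (tt N21896 (iv F75480)) (tt N21194 (iv D32892)) (tt N22485 F75475) (tt N21763 F75476) (tt N21378 F75477) (tt N21376 F75478) (tt N22280 F75479))
theorem Q22537 : ∀ i, i < 22537 → P i := stepQ 22536 Q22536 (allL N22536 (tt N21204 (iv D32893)) (tt N21382 F75481) (tt N21696 F75482) (tt N21205 F75483) (tt N21386 F75484) (tt N21694 F75486) (tt N22494 F75485))
theorem Q22538 : ∀ i, i < 22538 → P i := stepQ 22537 Q22537 (allL N22537 (tt N21694 F75487) (tt N22818 (iv F76683)) (tt N21692 F75488) (tt N21206 F75489) (tt N22407 F75490) (tt N21204 (iv D32894)) (tt N21904 F75491))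
theorem Q22539 : ∀ i, i < 22539 → P i := stepQ 22538 Q22538 (allL N22538 (tt N22570 (iv F75629)) (tt N21206 (iv D32895)) (tt N21228 F75492) (tt N22818 (iv F76684)) (tt N21209 F75493) (tt N21207 F75494) (tt N21230 F75495))
theorem Q22540 : ∀ i, i < 22540 → P i := stepQ 22539 Q22539 (allL N22539 (tt N21207 (iv D32896)) (tt N22076 F75496) (tt N22220 F75497) (tt N22075 F75498) (tt N21210 F75499) (tt N22570 (iv F75632)) (tt N22553 (iv F75561)))
theorem Q22541 : ∀ i, i < 22541 → P i := stepQ 22540 Q22540 (allL N22540 (tt N22571 (iv F75634)) (tt N21226 F75500) (tt N21209 (iv D32897)) (tt N22821 (iv F76695)) (tt N21228 F75501) (tt N21211 F75502) (tt N21227 F75503))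
theorem Q22542 : ∀ i, i < 22542 → P i := stepQ 22541 Q22541 (allL N22541 (tt N22388 F75504) (tt N21210 (iv D32898)) (tt N22748 (iv F76389)) (tt N21395 F75505) (tt N22076 F75506) (tt N21388 F75507) (tt N22587 (iv F75700)))
theorem Q22543 : ∀ i, i < 22543 → P i := stepQ 22542 Q22542 (allL N22542 (tt N21211 F75508) (tt N22219 F75511) (tt N21210 (iv D32899)) (tt N22344 (iv F75512)) (tt N22220 F75509) (tt N22571 (iv F75637)) (tt N22341 F75510))
theorem Q22544 : ∀ i, i < 22544 → P i := stepQ 22543 Q22543 (allL N22543 (tt N22344 F75513) (tt N21213 F75514) (tt N22766 (iv F76456)) (tt N21211 (iv D32900)) (tt N22346 F75515) (tt N22821 (iv F76697)) (tt N22342 (iv F75516)))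
theorem Q22545 : ∀ i, i < 22545 → P i := stepQ 22544 Q22544 (allL N22544 (tt N22341 F75517) (tt N22851 D33208) (tt N21212 F75518) (tt N22342 F75519) (tt N22475 F75520) (tt N22549 (iv F75543)) (tt N21211 (iv D32901)))
theorem Q22546 : ∀ i, i < 22546 → P i := stepQ 22545 Q22545 (allL N22545 (tt N22474 F75521) (tt N22852 D33209) (tt N22078 F75522) (tt N21214 F75523) (tt N22082 F75524) (tt N22559 (iv F75585)) (tt N21213 (iv D32902)))
theorem Q22547 : ∀ i, i < 22547 → P i := stepQ 22546 Q22546 (allL N22546 (tt N22424 (iv F75527)) (tt N21214 (iv D32903)) (tt N22405 F75525) (tt N22852 (iv F76835)) (tt N22476 F75526) (tt N22852 (iv F76837)) (tt N22851 (iv F76832)))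
theorem Q22548 : ∀ i, i < 22548 → P i := stepQ 22547 Q22547 (allL N22547 (tt N21224 (iv D32904)) (tt N21426 F75528) (tt N21571 F75529) (tt N21225 F75530) (tt N21430 F75531) (tt N22519 F75532) (tt N21568 (iv F75533)))
theorem Q22549 : ∀ i, i < 22549 → P i := stepQ 22548 Q22548 (allL N22548 (tt N21568 F75534) (tt N22821 (iv F76694)) (tt N21566 F75535) (tt N21226 F75536) (tt N22426 F75537) (tt N21819 F75538) (tt N21224 (iv D32905)))
theorem Q22550 : ∀ i, i < 22550 → P i := stepQ 22549 Q22549 (allL N22549 (tt N21227 (iv D32906)) (tt N22089 F75539) (tt N22235 F75540) (tt N22088 F75541) (tt N21229 F75542) (tt N22544 F75543) (tt N22571 (iv F75638)))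
theorem Q22551 : ∀ i, i < 22551 → P i := stepQ 22550 Q22550 (allL N22550 (tt N22391 F75544) (tt N21229 (iv D32907)) (tt N22745 (iv F76378)) (tt N21439 F75545) (tt N22089 F75546) (tt N22600 (iv F75754)) (tt N21432 F75547))
theorem Q22552 : ∀ i, i < 22552 → P i := stepQ 22551 Q22551 (allL N22551 (tt N21230 F75548) (tt N22234 F75551) (tt N21229 (iv D32908)) (tt N22330 (iv F75552)) (tt N22235 F75549) (tt N22327 F75550) (tt N22570 (iv F75633)))
theorem Q22553 : ∀ i, i < 22553 → P i := stepQ 22552 Q22552 (allL N22552 (tt N22330 F75553) (tt N21233 F75554) (tt N22762 (iv F76439)) (tt N21230 (iv D32909)) (tt N22332 F75555) (tt N22328 (iv F75556)) (tt N22818 (iv F76686)))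
theorem Q22554 : ∀ i, i < 22554 → P i := stepQ 22553 Q22553 (allL N22553 (tt N22327 F75557) (tt N22853 D33210) (tt N21231 F75558) (tt N22328 F75559) (tt N22463 F75560) (tt N21230 (iv D32910)) (tt N22539 F75561))
theorem Q22555 : ∀ i, i < 22555 → P i := stepQ 22554 Q22554 (allL N22554 (tt N22462 F75562) (tt N22854 D33211) (tt N22091 F75563) (tt N21234 F75564) (tt N22095 F75565) (tt N21233 (iv D32911)) (tt N22557 (iv F75577)))
theorem Q22556 : ∀ i, i < 22556 → P i := stepQ 22555 Q22555 (allL N22555 (tt N22405 (iv F75568)) (tt N21234 (iv D32912)) (tt N22424 F75566) (tt N22854 (iv F76846)) (tt N22464 F75567) (tt N22853 (iv F76843)) (tt N22854 (iv F76849)))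
theorem Q22557 : ∀ i, i < 22557 → P i := stepQ 22556 Q22556 (allL N22556 (tt N22794 (iv F76578)) (tt N21242 (iv D32913)) (tt N22110 F75569) (tt N22160 F75570) (tt N22759 (iv F76432)) (tt N22556 F75571) (tt N22855 D33212))
theorem Q22558 : ∀ i, i < 22558 → P i := stepQ 22557 Q22557 (allL N22557 (tt N21247 F75572) (tt N21907 F75573) (tt N21244 (iv D32914)) (tt N21907 F75574) (tt N22262 F75575) (tt N21906 F75576) (tt N22554 F75577))
theorem Q22559 : ∀ i, i < 22559 → P i := stepQ 22558 Q22558 (allL N22558 (tt N22795 (iv F76583)) (tt N21253 (iv D32915)) (tt N22121 F75578) (tt N22151 F75579) (tt N22771 (iv F76474)) (tt N22856 D33213) (tt N22558 F75580))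
theorem Q22560 : ∀ i, i < 22560 → P i := stepQ 22559 Q22559 (allL N22559 (tt N21257 F75581) (tt N21822 F75582) (tt N21255 (iv D32916)) (tt N21822 F75583) (tt N22248 F75584) (tt N22545 F75585) (tt N21821 F75586))
theorem Q22561 : ∀ i, i < 22561 → P i := stepQ 22560 Q22560 (allL N22560 (tt N21267 F75587) (tt N22184 F75588) (tt N21266 (iv D32917)) (tt N22585 (iv F75690)) (tt N22530 F75589) (tt N22528 F75590) (tt N22588 (iv F75704)))
theorem Q22562 : ∀ i, i < 22562 → P i := stepQ 22561 Q22561 (allL N22561 (tt N22528 F75591) (tt N21938 F75592) (tt N21268 F75593) (tt N22785 (iv F76532)) (tt N21493 F75594) (tt N21267 (iv D32918)) (tt N22592 (iv F75721)))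
theorem Q22563 : ∀ i, i < 22563 → P i := stepQ 22562 Q22562 (allL N22562 (tt N22172 F75595) (tt N22394 F75596) (tt N22592 (iv F75718)) (tt N21270 F75597) (tt N21947 F75598) (tt N22170 F75599) (tt N21268 (iv D32919)))
theorem Q22564 : ∀ i, i < 22564 → P i := stepQ 22563 Q22563 (allL N22563 (tt N21276 F75600) (tt N22191 F75601) (tt N21275 (iv D32920)) (tt N22598 (iv F75744)) (tt N22507 F75602) (tt N22601 (iv F75758)) (tt N22505 F75603))
theorem Q22565 : ∀ i, i < 22565 → P i := stepQ 22564 Q22564 (allL N22564 (tt N22505 F75604) (tt N21864 F75605) (tt N21277 F75606) (tt N22784 (iv F76526)) (tt N21451 F75607) (tt N22579 (iv F75670)) (tt N21276 (iv D32921)))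
theorem Q22566 : ∀ i, i < 22566 → P i := stepQ 22565 Q22565 (allL N22565 (tt N22179 F75608) (tt N22400 F75609) (tt N22579 (iv F75668)) (tt N21279 F75610) (tt N21985 F75611) (tt N21277 (iv D32922)) (tt N22177 F75612))
theorem Q22567 : ∀ i, i < 22567 → P i := stepQ 22566 Q22566 (allL N22566 (tt N21294 F75613) (tt N21336 F75614) (tt N21629 F75615) (tt N21293 (iv D32923)) (tt N22693 (iv F76140)) (tt N22566 F75616) (tt N22573 (iv F75646)))
theorem Q22568 : ∀ i, i < 22568 → P i := stepQ 22567 Q22567 (allL N22567 (tt N22693 (iv F76137)) (tt N22567 F75617) (tt N21630 F75618) (tt N22567 F75619) (tt N21294 (iv D32924)) (tt N22567 F75620) (tt N22574 (iv F75649)))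
theorem Q22569 : ∀ i, i < 22569 → P i := stepQ 22568 Q22568 (allL N22568 (tt N21296 F75621) (tt N21334 F75622) (tt N21741 F75623) (tt N21295 (iv D32925)) (tt N22641 (iv F75926)) (tt N22576 (iv F75659)) (tt N22568 F75624))
theorem Q22570 : ∀ i, i < 22570 → P i := stepQ 22569 Q22569 (allL N22569 (tt N22641 (iv F75923)) (tt N22569 F75625) (tt N21742 F75626) (tt N22569 F75627) (tt N21296 (iv D32926)) (tt N22577 (iv F75663)) (tt N22569 F75628))
theorem Q22571 : ∀ i, i < 22571 → P i := stepQ 22570 Q22570 (allL N22570 (tt N22538 F75629) (tt N21305 (iv D32927)) (tt N21318 F75630) (tt N22738 (iv F76343)) (tt N21307 F75631) (tt N22539 F75632) (tt N22551 F75633))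
theorem Q22572 : ∀ i, i < 22572 → P i := stepQ 22571 Q22571 (allL N22571 (tt N22540 F75634) (tt N21316 F75635) (tt N21307 (iv D32928)) (tt N22722 (iv F76271)) (tt N21318 F75636) (tt N22542 F75637) (tt N22549 F75638))
theorem Q22573 : ∀ i, i < 22573 → P i := stepQ 22572 Q22572 (allL N22572 (tt N22572 F75639) (tt N21333 (iv D32929)) (tt N22575 (iv F75651)) (tt N21715 F75641) (tt N22572 F75640) (tt N22575 (iv F75653)) (tt N22575 (iv F75654)))
theorem Q22574 : ∀ i, i < 22574 → P i := stepQ 22573 Q22573 (allL N22573 (tt N21334 F75642) (tt N21715 F75643) (tt N21717 F75644) (tt N21333 (iv D32930)) (tt N22857 D33214) (tt N21334 F75645) (tt N22566 F75646))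
theorem Q22575 : ∀ i, i < 22575 → P i := stepQ 22574 Q22574 (allL N22574 (tt N22857 (iv F76862)) (tt N22641 (iv F75924)) (tt N21859 F75647) (tt N22574 F75648) (tt N21334 (iv D32931)) (tt N22857 (iv F76866)) (tt N22567 F75649))
theorem Q22576 : ∀ i, i < 22576 → P i := stepQ 22575 Q22575 (allL N22575 (tt N22575 F75650) (tt N21335 (iv D32932)) (tt N22572 F75651) (tt N21598 F75655) (tt N22575 F75652) (tt N22572 F75653) (tt N22572 F75654))
theorem Q22577 : ∀ i, i < 22577 → P i := stepQ 22576 Q22576 (allL N22576 (tt N21336 F75656) (tt N21598 F75657) (tt N21600 F75658) (tt N21335 (iv D32933)) (tt N22858 D33215) (tt N22568 F75659) (tt N21336 F75660))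
theorem Q22578 : ∀ i, i < 22578 → P i := stepQ 22577 Q22577 (allL N22577 (tt N22858 (iv F76868)) (tt N22693 (iv F76138)) (tt N21933 F75661) (tt N22577 F75662) (tt N21336 (iv D32934)) (tt N22569 F75663) (tt N22858 (iv F76873)))
theorem Q22579 : ∀ i, i < 22579 → P i := stepQ 22578 Q22578 (allL N22578 (tt N21755 F75664) (tt N21353 (iv D32935)) (tt N21591 (iv F75667)) (tt N22331 F75665) (tt N22658 (iv F75993)) (tt N22675 (iv F76053)) (tt N21590 F75666))
theorem Q22580 : ∀ i, i < 22580 → P i := stepQ 22579 Q22579 (allL N22579 (tt N22793 (iv F76573)) (tt N21361 (iv D32936)) (tt N22565 F75668) (tt N22602 (iv F75762)) (tt N21362 F75669) (tt N22564 F75670) (tt N22601 F75759))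
theorem Q22581 : ∀ i, i < 22581 → P i := stepQ 22580 Q22580 (allL N22580 (tt N22408 F75671) (tt N22613 (iv F75813)) (tt N21372 (iv D32937)) (tt N21373 F75672) (tt N21373 F75673) (tt N22838 (iv F76769)) (tt N22414 F75674))
theorem Q22582 : ∀ i, i < 22582 → P i := stepQ 22581 Q22581 (allL N22581 (tt N22594 (iv F75729)) (tt N21380 (iv D32938)) (tt N22631 (iv F75885)) (tt N22734 (iv F76328)) (tt N21381 F75675) (tt N21916 F75676) (tt N22621 (iv F75842)))
theorem Q22583 : ∀ i, i < 22583 → P i := stepQ 22582 Q22582 (allL N22582 (tt N22595 (iv F75730)) (tt N21390 F75677) (tt N21381 (iv D32939)) (tt N22628 (iv F75875)) (tt N22631 (iv F75887)) (tt N21919 F75678) (tt N22620 (iv F75836)))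
theorem Q22584 : ∀ i, i < 22584 → P i := stepQ 22583 Q22583 (allL N22583 (tt N21953 F75679) (tt N22631 (iv F75884)) (tt N21385 (iv D32940)) (tt N21502 F75680) (tt N21390 F75681) (tt N22157 F75683) (tt N22290 F75682))
theorem Q22585 : ∀ i, i < 22585 → P i := stepQ 22584 Q22584 (allL N22584 (tt N22751 (iv F76395)) (tt N22158 F75684) (tt N22157 F75685) (tt N22721 (iv F76268)) (tt N21391 F75686) (tt N21385 (iv D32941)) (tt N22483 F75687))
theorem Q22586 : ∀ i, i < 22586 → P i := stepQ 22585 Q22585 (allL N22585 (tt N22386 F75688) (tt N22199 F75689) (tt N21388 (iv D32942)) (tt N22560 F75690) (tt N22290 F75691) (tt N22748 (iv F76392)) (tt N21390 F75692))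
theorem Q22587 : ∀ i, i < 22587 → P i := stepQ 22586 Q22586 (allL N22586 (tt N21390 F75693) (tt N21951 F75694) (tt N21389 (iv D32943)) (tt N22171 F75697) (tt N21953 F75695) (tt N22859 D33216) (tt N22386 F75696))
theorem Q22588 : ∀ i, i < 22588 → P i := stepQ 22587 Q22587 (allL N22587 (tt N21391 F75698) (tt N22717 (iv F76252)) (tt N22859 (iv F76875)) (tt N21397 F75699) (tt N22751 (iv F76398)) (tt N21389 (iv D32944)) (tt N22541 F75700))
theorem Q22589 : ∀ i, i < 22589 → P i := stepQ 22588 Q22588 (allL N22588 (tt N22171 F75701) (tt N22628 (iv F75874)) (tt N22170 F75702) (tt N21390 (iv D32945)) (tt N21504 F75703) (tt N22592 F75722) (tt N22560 F75704))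
theorem Q22590 : ∀ i, i < 22590 → P i := stepQ 22589 Q22589 (allL N22589 (tt N22859 (iv F76874)) (tt N21920 F75705) (tt N21391 F75706) (tt N22592 (iv F75719)) (tt N22157 F75707) (tt N21390 (iv D32946)) (tt N22785 (iv F76535)))
theorem Q22591 : ∀ i, i < 22591 → P i := stepQ 22590 Q22590 (allL N22590 (tt N22493 F75708) (tt N22227 F75709) (tt N21394 F75710) (tt N22500 F75711) (tt N22442 F75712) (tt N21394 F75713) (tt N21392 (iv D32947)))
theorem Q22592 : ∀ i, i < 22592 → P i := stepQ 22591 Q22591 (allL N22591 (tt N21650 F75714) (tt N21399 (iv D32948)) (tt N21649 (iv F75717)) (tt N22345 F75715) (tt N22688 (iv F76115)) (tt N21709 F75716) (tt N22668 (iv F76033)))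
theorem Q22593 : ∀ i, i < 22593 → P i := stepQ 22592 Q22592 (allL N22592 (tt N22792 (iv F76569)) (tt N21406 (iv D32949)) (tt N22562 F75718) (tt N22589 F75719) (tt N21407 F75720) (tt N22588 (iv F75722)) (tt N22561 F75721))
theorem Q22594 : ∀ i, i < 22594 → P i := stepQ 22593 Q22593 (allL N22593 (tt N22427 F75723) (tt N22627 (iv F75870)) (tt N21416 (iv D32950)) (tt N21417 F75724) (tt N21417 F75725) (tt N22419 F75726) (tt N22841 (iv F76783)))
theorem Q22595 : ∀ i, i < 22595 → P i := stepQ 22594 Q22594 (allL N22594 (tt N22581 F75729) (tt N21424 (iv D32951)) (tt N22617 (iv F75822)) (tt N22744 (iv F76374)) (tt N21425 F75727) (tt N22606 (iv F75782)) (tt N21837 F75728))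
theorem Q22596 : ∀ i, i < 22596 → P i := stepQ 22595 Q22595 (allL N22595 (tt N22582 F75730) (tt N21434 F75731) (tt N21425 (iv D32952)) (tt N22614 (iv F75817)) (tt N22617 (iv F75824)) (tt N22604 (iv F75773)) (tt N21839 F75732))
theorem Q22597 : ∀ i, i < 22597 → P i := stepQ 22596 Q22596 (allL N22596 (tt N21991 F75733) (tt N22617 (iv F75821)) (tt N21429 (iv D32953)) (tt N21460 F75734) (tt N21434 F75735) (tt N22270 F75736) (tt N22166 (iv F75737)))
theorem Q22598 : ∀ i, i < 22598 → P i := stepQ 22597 Q22597 (allL N22597 (tt N22755 (iv F76412)) (tt N22167 F75738) (tt N22166 F75739) (tt N22725 (iv F76286)) (tt N21435 F75740) (tt N22471 F75741) (tt N21429 (iv D32954)))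
theorem Q22599 : ∀ i, i < 22599 → P i := stepQ 22598 Q22598 (allL N22598 (tt N22389 F75742) (tt N22204 F75743) (tt N21432 (iv D32955)) (tt N22563 F75744) (tt N22270 F75745) (tt N21434 F75746) (tt N22745 (iv F76381)))
theorem Q22600 : ∀ i, i < 22600 → P i := stepQ 22599 Q22599 (allL N22599 (tt N21434 F75747) (tt N21990 F75748) (tt N21433 (iv D32956)) (tt N22178 F75751) (tt N21991 F75749) (tt N22389 F75750) (tt N22860 D33217))
theorem Q22601 : ∀ i, i < 22601 → P i := stepQ 22600 Q22600 (allL N22600 (tt N21435 F75752) (tt N22687 (iv F76110)) (tt N22860 (iv F76881)) (tt N21441 F75753) (tt N22755 (iv F76415)) (tt N22550 F75754) (tt N21433 (iv D32957)))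
theorem Q22602 : ∀ i, i < 22602 → P i := stepQ 22601 Q22601 (allL N22601 (tt N22178 F75755) (tt N22614 (iv F75816)) (tt N22177 F75756) (tt N21434 (iv D32958)) (tt N21462 F75757) (tt N22563 F75758) (tt N22579 (iv F75759)))
theorem Q22603 : ∀ i, i < 22603 → P i := stepQ 22602 Q22602 (allL N22602 (tt N22860 (iv F76879)) (tt N21842 F75760) (tt N21435 F75761) (tt N22579 F75762) (tt N22166 F75763) (tt N22784 (iv F76528)) (tt N21434 (iv D32959)))
theorem Q22604 : ∀ i, i < 22604 → P i := stepQ 22603 Q22603 (allL N22603 (tt N22518 F75764) (tt N22212 F75765) (tt N21437 F75766) (tt N22526 F75767) (tt N22455 F75768) (tt N21436 (iv D32960)) (tt N21437 F75769))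
theorem Q22605 : ∀ i, i < 22605 → P i := stepQ 22604 Q22604 (allL N22604 (tt N21919 F75770) (tt N21443 (iv D32961)) (tt N21444 F75771) (tt N22626 (iv F75867)) (tt N22278 F75772) (tt N22595 F75773) (tt N22809 (iv F76647)))
theorem Q22606 : ∀ i, i < 22606 → P i := stepQ 22605 Q22605 (allL N22605 (tt N22513 F75774) (tt N22626 (iv F75866)) (tt N22192 F75775) (tt N21443 (iv D32962)) (tt N22508 F75776) (tt N22191 F75777) (tt N22144 F75778))
theorem Q22607 : ∀ i, i < 22607 → P i := stepQ 22606 Q22606 (allL N22606 (tt N21916 F75779) (tt N21445 F75780) (tt N22278 F75781) (tt N22824 (iv F76707)) (tt N21444 (iv D32963)) (tt N22594 F75782) (tt N22810 (iv F76655)))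
theorem Q22608 : ∀ i, i < 22608 → P i := stepQ 22607 Q22607 (allL N22607 (tt N21450 (iv D32964)) (tt N21507 F75783) (tt N21454 F75784) (tt N22237 F75785) (tt N22465 F75786) (tt N21454 F75787) (tt N22317 F75788))
theorem Q22609 : ∀ i, i < 22609 → P i := stepQ 22608 Q22608 (allL N22608 (tt N21950 F75789) (tt N22165 F75790) (tt N22471 F75791) (tt N21452 (iv D32965)) (tt N22784 (iv F76527)) (tt N22166 F75792) (tt N22042 F75793))
theorem Q22610 : ∀ i, i < 22610 → P i := stepQ 22609 Q22609 (allL N22609 (tt N21793 F75794) (tt N22432 F75799) (tt N21462 (iv D32966)) (tt N21792 F75795) (tt N22177 F75796) (tt N22355 F75797) (tt N21985 F75798))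
theorem Q22611 : ∀ i, i < 22611 → P i := stepQ 22610 Q22610 (allL N22610 (tt N21492 F75800) (tt N21465 (iv D32967)) (tt N21496 F75801) (tt N22256 F75802) (tt N22477 F75803) (tt N22305 F75804) (tt N21496 F75805))
theorem Q22612 : ∀ i, i < 22612 → P i := stepQ 22611 Q22611 (allL N22611 (tt N21469 F75806) (tt N22246 F75807) (tt N21484 F75808) (tt N22045 F75809) (tt N21470 F75810) (tt N21484 F75811) (tt N21467 (iv D32968)))
theorem Q22613 : ∀ i, i < 22613 → P i := stepQ 22612 Q22612 (allL N22612 (tt N21471 (iv D32969)) (tt N22622 (iv F75844)) (tt N22861 D33218) (tt N22620 (iv F75837)) (tt N21472 F75812) (tt N22805 (iv F76630)) (tt N22628 (iv F75877)))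
theorem Q22614 : ∀ i, i < 22614 → P i := stepQ 22613 Q22613 (allL N22613 (tt N22861 (iv F76885)) (tt N22580 F75813) (tt N21471 (iv D32970)) (tt N21473 F75815) (tt N21473 F75814) (tt N22806 (iv F76633)) (tt N22844 (iv F76796)))
theorem Q22615 : ∀ i, i < 22615 → P i := stepQ 22614 Q22614 (allL N22614 (tt N22628 (iv F75873)) (tt N22601 F75816) (tt N22844 (iv F76793)) (tt N22595 F75817) (tt N21474 F75818) (tt N22626 (iv F75869)) (tt N21471 (iv D32971)))
theorem Q22616 : ∀ i, i < 22616 → P i := stepQ 22615 Q22615 (allL N22615 (tt N21473 F75819) (tt N22760 (iv F76435)) (tt N21472 (iv D32972)) (tt N22861 (iv F76887)) (tt N22861 (iv F76888)) (tt N22808 (iv F76643)) (tt N22630 (iv F75882)))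
theorem Q22617 : ∀ i, i < 22617 → P i := stepQ 22616 Q22616 (allL N22616 (tt N22630 (iv F75880)) (tt N22839 (iv F76771)) (tt N21474 F75820) (tt N22844 (iv F76794)) (tt N22844 (iv F76795)) (tt N22629 (iv F75879)) (tt N21473 (iv D32973)))
theorem Q22618 : ∀ i, i < 22618 → P i := stepQ 22617 Q22617 (allL N22617 (tt N22631 (iv F75883)) (tt N22596 F75821) (tt N22594 F75822) (tt N21478 F75823) (tt N22595 F75824) (tt N22278 F75825) (tt N21475 (iv D32974)))
theorem Q22619 : ∀ i, i < 22619 → P i := stepQ 22618 Q22618 (allL N22618 (tt N22020 F75826) (tt N21483 F75827) (tt N22816 (iv F76674)) (tt N21477 (iv D32975)) (tt N22825 (iv F76713)) (tt N22379 F75828) (tt N22163 F75829))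
theorem Q22620 : ∀ i, i < 22620 → P i := stepQ 22619 Q22619 (allL N22619 (tt N21479 (iv D32976)) (tt N22633 (iv F75893)) (tt N22083 F75830) (tt N22746 (iv F76383)) (tt N21482 F75831) (tt N22016 F75832) (tt N22032 F75833))
theorem Q22621 : ∀ i, i < 22621 → P i := stepQ 22620 Q22620 (allL N22620 (tt N21839 F75834) (tt N21487 F75835) (tt N21481 (iv D32977)) (tt N22612 F75837) (tt N22297 (iv F75838)) (tt N22809 (iv F76646)) (tt N22582 F75836))
theorem Q22622 : ∀ i, i < 22622 → P i := stepQ 22621 Q22621 (allL N22621 (tt N21837 F75839) (tt N21485 F75840) (tt N22297 F75841) (tt N22825 (iv F76712)) (tt N21481 (iv D32978)) (tt N22810 (iv F76654)) (tt N22581 F75842))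
theorem Q22623 : ∀ i, i < 22623 → P i := stepQ 22622 Q22622 (allL N22622 (tt N22534 F75843) (tt N22612 F75844) (tt N22185 F75845) (tt N21487 (iv D32979)) (tt N22531 F75846) (tt N22147 F75847) (tt N22184 F75848))
theorem Q22624 : ∀ i, i < 22624 → P i := stepQ 22623 Q22623 (allL N22623 (tt N21988 F75849) (tt N22156 F75850) (tt N22483 F75851) (tt N21494 (iv D32980)) (tt N22785 (iv F76533)) (tt N22028 F75852) (tt N22157 F75853))
theorem Q22625 : ∀ i, i < 22625 → P i := stepQ 22624 Q22624 (allL N22624 (tt N21887 F75854) (tt N22415 F75859) (tt N21504 (iv D32981)) (tt N21886 F75855) (tt N22170 F75856) (tt N21947 F75857) (tt N22362 F75858))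
theorem Q22626 : ∀ i, i < 22626 → P i := stepQ 22625 Q22625 (allL N22625 (tt N21511 F75860) (tt N22251 F75861) (tt N21525 F75862) (tt N22047 F75863) (tt N21512 F75864) (tt N21509 (iv D32982)) (tt N21525 F75865))
theorem Q22627 : ∀ i, i < 22627 → P i := stepQ 22626 Q22626 (allL N22626 (tt N21513 (iv D32983)) (tt N22605 F75866) (tt N22862 D33219) (tt N22604 F75867) (tt N21514 F75868) (tt N22614 F75869) (tt N22805 (iv F76631)))
theorem Q22628 : ∀ i, i < 22628 → P i := stepQ 22627 Q22627 (allL N22627 (tt N22862 (iv F76890)) (tt N22593 F75870) (tt N21513 (iv D32984)) (tt N21515 F75872) (tt N21515 F75871) (tt N22840 (iv F76778)) (tt N22806 (iv F76634)))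
theorem Q22629 : ∀ i, i < 22629 → P i := stepQ 22628 Q22628 (allL N22628 (tt N22614 F75873) (tt N22588 F75874) (tt N22840 (iv F76775)) (tt N22582 F75875) (tt N21516 F75876) (tt N21513 (iv D32985)) (tt N22612 F75877))
theorem Q22630 : ∀ i, i < 22630 → P i := stepQ 22629 Q22629 (allL N22629 (tt N21515 F75878) (tt N22772 (iv F76477)) (tt N21514 (iv D32986)) (tt N22862 (iv F76892)) (tt N22862 (iv F76893)) (tt N22616 F75879) (tt N22808 (iv F76644)))
theorem Q22631 : ∀ i, i < 22631 → P i := stepQ 22630 Q22630 (allL N22630 (tt N22616 F75880) (tt N22837 (iv F76759)) (tt N21516 F75881) (tt N22840 (iv F76776)) (tt N22840 (iv F76777)) (tt N21515 (iv D32987)) (tt N22615 F75882))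
theorem Q22632 : ∀ i, i < 22632 → P i := stepQ 22631 Q22631 (allL N22631 (tt N22617 F75883) (tt N22583 F75884) (tt N22581 F75885) (tt N21520 F75886) (tt N22582 F75887) (tt N21517 (iv D32988)) (tt N22297 F75888))
theorem Q22633 : ∀ i, i < 22633 → P i := stepQ 22632 Q22632 (allL N22632 (tt N22035 F75889) (tt N21524 F75890) (tt N22812 (iv F76662)) (tt N21519 (iv D32989)) (tt N22824 (iv F76708)) (tt N22154 F75891) (tt N22379 F75892))
theorem Q22634 : ∀ i, i < 22634 → P i := stepQ 22633 Q22633 (allL N22633 (tt N21521 (iv D32990)) (tt N22619 F75893) (tt N22070 F75894) (tt N22747 (iv F76387)) (tt N21523 F75895) (tt N22017 F75896) (tt N22031 F75897))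
theorem Q22635 : ∀ i, i < 22635 → P i := stepQ 22634 Q22634 (allL N22634 (tt N22516 F75898) (tt N21549 F75899) (tt N22492 F75900) (tt N22525 F75901) (tt N22210 F75902) (tt N22008 F75903) (tt N21529 (iv D32991)))
theorem Q22636 : ∀ i, i < 22636 → P i := stepQ 22635 Q22635 (allL N22635 (tt N21536 F75904) (tt N21736 F75905) (tt N22638 (iv F75914)) (tt N21535 (iv D32992)) (tt N22637 F75915) (tt N22786 (iv F76540)) (tt N21536 F75906))
theorem Q22637 : ∀ i, i < 22637 → P i := stepQ 22636 Q22636 (allL N22636 (tt N21537 F75907) (tt N22787 (iv F76543)) (tt N22645 (iv F75943)) (tt N22786 (iv F76539)) (tt N22645 (iv F75944)) (tt N21535 (iv D32993)) (tt N22636 F75908))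
theorem Q22638 : ∀ i, i < 22638 → P i := stepQ 22637 Q22637 (allL N22637 (tt N22638 F75912) (tt N22712 (iv F76227)) (tt N21536 (iv D32994)) (tt N22856 (iv F76859)) (tt N22635 (iv F75915)) (tt N22151 F75909) (tt N22638 (iv F75913)))
theorem Q22639 : ∀ i, i < 22639 → P i := stepQ 22638 Q22638 (allL N22638 (tt N22637 (iv F75912)) (tt N21539 F75910) (tt N22635 F75914) (tt N22846 (iv F76805)) (tt N21536 (iv D32995)) (tt N22193 F75911) (tt N22637 F75913))
theorem Q22640 : ∀ i, i < 22640 → P i := stepQ 22639 Q22639 (allL N22639 (tt N22709 (iv F76213)) (tt N21538 (iv D32996)) (tt N22712 (iv F76228)) (tt N22425 F75916) (tt N21754 F75917) (tt N21759 F75918) (tt N22712 (iv F76231)))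
theorem Q22641 : ∀ i, i < 22641 → P i := stepQ 22640 Q22640 (allL N22640 (tt N22713 (iv F76232)) (tt N22640 F75919) (tt N21581 F75920) (tt N22652 (iv F75973)) (tt N21557 F75921) (tt N21932 F75922) (tt N21556 (iv D32997)))
theorem Q22642 : ∀ i, i < 22642 → P i := stepQ 22641 Q22641 (allL N22641 (tt N22569 F75923) (tt N22574 F75924) (tt N21558 (iv D32998)) (tt N22641 F75925) (tt N22568 F75926) (tt N22858 (iv F76872)) (tt N22641 F75927))
theorem Q22643 : ∀ i, i < 22643 → P i := stepQ 22642 Q22642 (allL N22642 (tt N21933 F75928) (tt N21601 F75929) (tt N22858 (iv F76870)) (tt N21559 F75930) (tt N21600 F75931) (tt N21558 (iv D32999)) (tt N21933 F75932))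
theorem Q22644 : ∀ i, i < 22644 → P i := stepQ 22643 Q22643 (allL N22643 (tt N21900 F75933) (tt N21928 F75934) (tt N21560 (iv D33000)) (tt N21897 F75937) (tt N21561 F75935) (tt N21586 F75936) (tt N22649 (iv F75965)))
theorem Q22645 : ∀ i, i < 22645 → P i := stepQ 22644 Q22644 (allL N22644 (tt N22436 F75938) (tt N21566 F75939) (tt N22773 (iv F76480)) (tt N21565 (iv D33001)) (tt N22856 (iv F76860)) (tt N22771 (iv F76475)) (tt N22436 F75940))
theorem Q22646 : ∀ i, i < 22646 → P i := stepQ 22645 Q22645 (allL N22645 (tt N22437 F75941) (tt N22456 F75942) (tt N22636 F75943) (tt N22771 (iv F76473)) (tt N22636 F75944) (tt N21565 (iv D33002)) (tt N22645 F75945))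
theorem Q22647 : ∀ i, i < 22647 → P i := stepQ 22646 Q22646 (allL N22646 (tt N21569 F75946) (tt N22856 (iv F76857)) (tt N22426 F75947) (tt N22712 (iv F76229)) (tt N21566 (iv D33003)) (tt N21961 (iv F75949)) (tt N22425 F75948))
theorem Q22648 : ∀ i, i < 22648 → P i := stepQ 22647 Q22647 (allL N22647 (tt N21570 F75950) (tt N21960 F75955) (tt N21819 F75951) (tt N21567 F75952) (tt N21961 F75953) (tt N21566 (iv D33004)) (tt N21593 F75954))
theorem Q22649 : ∀ i, i < 22649 → P i := stepQ 22648 Q22648 (allL N22648 (tt N21983 F75960) (tt N21568 (iv D33005)) (tt N21573 F75956) (tt N21975 F75957) (tt N21982 F75958) (tt N22218 (iv F75961)) (tt N21777 F75959))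
theorem Q22650 : ∀ i, i < 22650 → P i := stepQ 22649 Q22649 (allL N22649 (tt N21578 F75962) (tt N21723 F75963) (tt N21575 F75964) (tt N22735 (iv F76332)) (tt N21574 (iv D33006)) (tt N22682 (iv F76089)) (tt N22643 F75965))
theorem Q22651 : ∀ i, i < 22651 → P i := stepQ 22650 Q22650 (allL N22650 (tt N21579 F75966) (tt N22863 D33220) (tt N22682 (iv F76087)) (tt N22711 (iv F76223)) (tt N21576 F75967) (tt N21575 (iv D33007)) (tt N21585 F75968))
theorem Q22652 : ∀ i, i < 22652 → P i := stepQ 22651 Q22651 (allL N22651 (tt N21728 F75970) (tt N21576 (iv D33008)) (tt N22666 (iv F76021)) (tt N21577 F75969) (tt N22863 (iv F76895)) (tt N22665 (iv F76018)) (tt N22685 (iv F76102)))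
theorem Q22653 : ∀ i, i < 22653 → P i := stepQ 22652 Q22652 (allL N22652 (tt N22680 (iv F76077)) (tt N22652 F75971) (tt N21583 F75972) (tt N22640 F75973) (tt N21683 F75974) (tt N21582 (iv D33009)) (tt N21858 F75975))
theorem Q22654 : ∀ i, i < 22654 → P i := stepQ 22653 Q22653 (allL N22653 (tt N22864 D33221) (tt N21585 (iv D33010)) (tt N22663 (iv F76012)) (tt N22716 (iv F76248)) (tt N21587 F75976) (tt N22664 (iv F76015)) (tt N22865 D33222))
theorem Q22655 : ∀ i, i < 22655 → P i := stepQ 22654 Q22654 (allL N22654 (tt N21586 F75977) (tt N21929 (iv F75980)) (tt N21585 (iv D33011)) (tt N21901 (iv F75981)) (tt N21588 F75978) (tt N21900 F75979) (tt N22682 (iv F76090)))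
theorem Q22656 : ∀ i, i < 22656 → P i := stepQ 22655 Q22655 (allL N22655 (tt N21901 F75982) (tt N22383 F75983) (tt N22742 (iv F76366)) (tt N21586 (iv D33012)) (tt N21898 F75984) (tt N21897 F75985) (tt N22681 (iv F76086)))
theorem Q22657 : ∀ i, i < 22657 → P i := stepQ 22656 Q22656 (allL N22656 (tt N21587 (iv D33013)) (tt N22684 (iv F76093)) (tt N22665 (iv F76016)) (tt N21589 F75986) (tt N22864 (iv F76897)) (tt N22666 (iv F76023)) (tt N21753 (iv F75987)))
theorem Q22658 : ∀ i, i < 22658 → P i := stepQ 22657 Q22657 (allL N22657 (tt N21753 F75988) (tt N22685 (iv F76099)) (tt N21647 F75989) (tt N21591 F75990) (tt N22865 (iv F76902)) (tt N22671 F76043) (tt N21587 (iv D33014)))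
theorem Q22659 : ∀ i, i < 22659 → P i := stepQ 22658 Q22658 (allL N22658 (tt N21590 F75991) (tt N22396 F75992) (tt N21589 (iv D33015)) (tt N22753 (iv F76403)) (tt N22578 F75993) (tt N22169 F75994) (tt N21755 F75995))
theorem Q22660 : ∀ i, i < 22660 → P i := stepQ 22659 Q22659 (allL N22659 (tt N21597 (iv D33016)) (tt N21958 F75996) (tt N21759 F75997) (tt N21961 F75998) (tt N21758 F75999) (tt N22712 (iv F76230)) (tt N21964 F76000))
theorem Q22661 : ∀ i, i < 22661 → P i := stepQ 22660 Q22660 (allL N22660 (tt N22660 F76001) (tt N22858 (iv F76869)) (tt N21599 F76002) (tt N22660 F76003) (tt N21598 (iv D33017)) (tt N22705 (iv F76196)) (tt N22705 (iv F76197)))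
theorem Q22662 : ∀ i, i < 22662 → P i := stepQ 22661 Q22661 (allL N22661 (tt N21702 (iv F76006)) (tt N21605 (iv D33018)) (tt N21700 F76004) (tt N22729 (iv F76311)) (tt N21607 F76005) (tt N22695 (iv F76150)) (tt N22715 (iv F76247)))
theorem Q22663 : ∀ i, i < 22663 → P i := stepQ 22662 Q22662 (allL N22662 (tt N21929 F76007) (tt N22706 (iv F76199)) (tt N21611 F76008) (tt N21924 F76009) (tt N21608 F76010) (tt N21606 (iv D33019)) (tt N21857 F76011))
theorem Q22664 : ∀ i, i < 22664 → P i := stepQ 22663 Q22663 (allL N22663 (tt N22866 D33223) (tt N21610 (iv D33020)) (tt N22653 F76012) (tt N22707 (iv F76205)) (tt N21612 F76013) (tt N22707 (iv F76207)) (tt N22683 (iv F76092)))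
theorem Q22665 : ∀ i, i < 22665 → P i := stepQ 22664 Q22664 (allL N22664 (tt N22867 D33224) (tt N21611 (iv D33021)) (tt N22707 (iv F76204)) (tt N22708 (iv F76210)) (tt N21613 F76014) (tt N22653 F76015) (tt N22708 (iv F76212)))
theorem Q22666 : ∀ i, i < 22666 → P i := stepQ 22665 Q22665 (allL N22665 (tt N21612 (iv D33022)) (tt N21735 (iv F76019)) (tt N22656 F76016) (tt N21615 F76017) (tt N22866 (iv F76905)) (tt N22651 F76018) (tt N22684 (iv F76096)))
theorem Q22667 : ∀ i, i < 22667 → P i := stepQ 22666 Q22666 (allL N22666 (tt N21613 (iv D33023)) (tt N21701 F76020) (tt N22651 F76021) (tt N21617 F76022) (tt N22867 (iv F76910)) (tt N22656 F76023) (tt N22671 (iv F76042)))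
theorem Q22668 : ∀ i, i < 22668 → P i := stepQ 22667 Q22667 (allL N22667 (tt N22686 (iv F76103)) (tt N22447 F76024) (tt N21626 F76025) (tt N22003 F76026) (tt N21614 (iv D33024)) (tt N21626 F76027) (tt N22002 F76028))
theorem Q22669 : ∀ i, i < 22669 → P i := stepQ 22668 Q22668 (allL N22668 (tt N21616 F76029) (tt N22458 F76030) (tt N21615 (iv D33025)) (tt N22754 (iv F76409)) (tt N22176 F76031) (tt N22176 F76032) (tt N22591 F76033))
theorem Q22670 : ∀ i, i < 22670 → P i := stepQ 22669 Q22669 (allL N22669 (tt N22754 (iv F76407)) (tt N22132 F76034) (tt N22753 (iv F76406)) (tt N21616 (iv D33026)) (tt N22834 (iv F76750)) (tt N22175 F76035) (tt N22687 (iv F76111)))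
theorem Q22671 : ∀ i, i < 22671 → P i := stepQ 22670 Q22670 (allL N22670 (tt N21620 F76036) (tt N22868 D33225) (tt N21646 F76037) (tt N22701 (iv F76179)) (tt N21621 F76038) (tt N21646 F76039) (tt N21618 (iv D33027)))
theorem Q22672 : ∀ i, i < 22672 → P i := stepQ 22671 Q22671 (allL N22671 (tt N21729 F76040) (tt N21621 (iv D33028)) (tt N22685 (iv F76100)) (tt N21625 F76041) (tt N22868 (iv F76914)) (tt N22657 (iv F76043)) (tt N22666 F76042))
theorem Q22673 : ∀ i, i < 22673 → P i := stepQ 22672 Q22672 (allL N22672 (tt N21666 F76044) (tt N21623 F76045) (tt N22692 (iv F76134)) (tt N21622 (iv D33029)) (tt N22691 F76131) (tt N21666 F76046) (tt N22789 (iv F76557)))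
theorem Q22674 : ∀ i, i < 22674 → P i := stepQ 22673 Q22673 (allL N22673 (tt N21667 F76047) (tt N22790 (iv F76559)) (tt N22697 (iv F76158)) (tt N22789 (iv F76555)) (tt N22697 (iv F76159)) (tt N22673 F76048) (tt N21622 (iv D33030)))
theorem Q22675 : ∀ i, i < 22675 → P i := stepQ 22674 Q22674 (allL N22674 (tt N21626 F76049) (tt N22691 (iv F76129)) (tt N22686 (iv F76105)) (tt N22698 (iv F76163)) (tt N21623 (iv D33031)) (tt N22686 (iv F76107)) (tt N22689 (iv F76121)))
theorem Q22676 : ∀ i, i < 22676 → P i := stepQ 22675 Q22675 (allL N22675 (tt N21731 F76050) (tt N22445 F76051) (tt N21625 (iv D33032)) (tt N22758 (iv F76426)) (tt N22169 F76052) (tt N22578 F76053) (tt N22169 F76054))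
theorem Q22677 : ∀ i, i < 22677 → P i := stepQ 22676 Q22676 (allL N22676 (tt N21634 F76055) (tt N22676 F76056) (tt N21636 F76057) (tt N21632 F76058) (tt N21638 F76059) (tt N21631 (iv D33033)) (tt N21743 F76060))
theorem Q22678 : ∀ i, i < 22678 → P i := stepQ 22677 Q22677 (allL N22677 (tt N21636 F76061) (tt N22869 D33226) (tt N21634 F76062) (tt N22380 F76063) (tt N21637 F76064) (tt N21633 (iv D33034)) (tt N21744 F76065))
theorem Q22679 : ∀ i, i < 22679 → P i := stepQ 22678 Q22678 (allL N22678 (tt N22380 F76070) (tt N21634 (iv D33035)) (tt N22380 (iv F76071)) (tt N21636 F76066) (tt N22374 F76067) (tt N21641 F76068) (tt N21747 F76069))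
theorem Q22680 : ∀ i, i < 22680 → P i := stepQ 22679 Q22679 (allL N22679 (tt N22679 F76072) (tt N21637 (iv D33036)) (tt N22382 F76073) (tt N22369 F76074) (tt N22869 (iv F76920)) (tt N22373 F76075) (tt N22368 F76076))
theorem Q22681 : ∀ i, i < 22681 → P i := stepQ 22680 Q22680 (allL N22680 (tt N22652 F76077) (tt N21927 F76078) (tt N21642 F76079) (tt N22713 (iv F76235)) (tt N21817 F76080) (tt N21816 F76081) (tt N21640 (iv D33037)))
theorem Q22682 : ∀ i, i < 22682 → P i := stepQ 22681 Q22681 (allL N22681 (tt N22742 (iv F76364)) (tt N21642 (iv D33038)) (tt N21901 F76082) (tt N21644 F76083) (tt N21818 F76084) (tt N21899 F76085) (tt N22655 F76086))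
theorem Q22683 : ∀ i, i < 22683 → P i := stepQ 22682 Q22682 (allL N22682 (tt N21644 (iv D33039)) (tt N22715 (iv F76243)) (tt N22650 F76087) (tt N22742 (iv F76367)) (tt N21645 F76088) (tt N22649 F76089) (tt N22654 F76090))
theorem Q22684 : ∀ i, i < 22684 → P i := stepQ 22683 Q22683 (allL N22683 (tt N22870 D33227) (tt N21646 (iv D33040)) (tt N22865 (iv F76900)) (tt N22702 (iv F76182)) (tt N21647 F76091) (tt N22871 D33228) (tt N22663 F76092))
theorem Q22685 : ∀ i, i < 22685 → P i := stepQ 22684 Q22684 (allL N22684 (tt N21647 (iv D33041)) (tt N22656 F76093) (tt N21753 F76094) (tt N21649 F76095) (tt N22870 (iv F76925)) (tt N21707 F76097) (tt N22665 F76096))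
theorem Q22686 : ∀ i, i < 22686 → P i := stepQ 22685 Q22685 (allL N22685 (tt N21707 F76098) (tt N22657 F76099) (tt N22671 F76100) (tt N21651 F76101) (tt N22871 (iv F76932)) (tt N21647 (iv D33042)) (tt N22651 F76102))
theorem Q22687 : ∀ i, i < 22687 → P i := stepQ 22686 Q22686 (allL N22686 (tt N22667 F76103) (tt N21668 F76104) (tt N22674 F76105) (tt N22406 F76106) (tt N21648 (iv D33043)) (tt N22674 F76107) (tt N21655 F76108))
theorem Q22688 : ∀ i, i < 22688 → P i := stepQ 22687 Q22687 (allL N22687 (tt N22345 F76109) (tt N22600 F76110) (tt N22717 (iv F76253)) (tt N21650 (iv D33044)) (tt N22872 D33229) (tt N22757 (iv F76421)) (tt N22669 F76111))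
theorem Q22689 : ∀ i, i < 22689 → P i := stepQ 22688 Q22688 (allL N22688 (tt N21709 F76112) (tt N22402 F76113) (tt N21651 F76114) (tt N22757 (iv F76420)) (tt N22591 F76115) (tt N21650 (iv D33045)) (tt N22176 F76116))
theorem Q22690 : ∀ i, i < 22690 → P i := stepQ 22689 Q22689 (allL N22689 (tt N21714 F76117) (tt N21996 F76118) (tt N21655 F76119) (tt N21999 F76122) (tt N21654 (iv D33046)) (tt N22002 F76120) (tt N22674 F76121))
theorem Q22691 : ∀ i, i < 22691 → P i := stepQ 22690 Q22690 (allL N22690 (tt N22488 F76123) (tt N21678 F76124) (tt N22487 F76125) (tt N22502 F76126) (tt N22225 F76127) (tt N21660 (iv D33047)) (tt N21970 F76128))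
theorem Q22692 : ∀ i, i < 22692 → P i := stepQ 22691 Q22691 (allL N22691 (tt N22692 (iv F76132)) (tt N22674 F76129) (tt N21666 (iv D33048)) (tt N22855 (iv F76853)) (tt N22672 (iv F76131)) (tt N22692 (iv F76135)) (tt N22160 F76130))
theorem Q22693 : ∀ i, i < 22693 → P i := stepQ 22692 Q22692 (allL N22692 (tt N22691 F76132) (tt N21669 F76133) (tt N22672 F76134) (tt N22848 (iv F76815)) (tt N21666 (iv D33049)) (tt N22691 F76135) (tt N22186 F76136))
theorem Q22694 : ∀ i, i < 22694 → P i := stepQ 22693 Q22693 (allL N22693 (tt N22567 F76137) (tt N22577 F76138) (tt N21684 (iv D33050)) (tt N22693 F76139) (tt N22566 F76140) (tt N22693 F76141) (tt N22857 (iv F76867)))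
theorem Q22695 : ∀ i, i < 22695 → P i := stepQ 22694 Q22694 (allL N22694 (tt N21859 F76142) (tt N21718 F76143) (tt N22857 (iv F76864)) (tt N21685 F76144) (tt N21717 F76145) (tt N21859 F76146) (tt N21684 (iv D33051)))
theorem Q22696 : ∀ i, i < 22696 → P i := stepQ 22695 Q22695 (allL N22695 (tt N21812 F76147) (tt N21852 F76148) (tt N21686 (iv D33052)) (tt N21807 F76152) (tt N21687 F76149) (tt N22661 F76150) (tt N21706 F76151))
theorem Q22697 : ∀ i, i < 22697 → P i := stepQ 22696 Q22696 (allL N22696 (tt N22449 F76153) (tt N21692 F76154) (tt N22761 (iv F76438)) (tt N21691 (iv D33053)) (tt N22855 (iv F76854)) (tt N22449 F76155) (tt N22759 (iv F76434)))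
theorem Q22698 : ∀ i, i < 22698 → P i := stepQ 22697 Q22697 (allL N22697 (tt N22450 F76156) (tt N22443 F76157) (tt N22673 F76158) (tt N22759 (iv F76431)) (tt N22673 F76159) (tt N22697 F76160) (tt N21691 (iv D33054)))
theorem Q22699 : ∀ i, i < 22699 → P i := stepQ 22698 Q22698 (allL N22698 (tt N21695 F76161) (tt N22855 (iv F76851)) (tt N22407 F76162) (tt N22674 F76163) (tt N21692 (iv D33055)) (tt N22406 F76164) (tt N21999 (iv F76165)))
theorem Q22700 : ∀ i, i < 22700 → P i := stepQ 22699 Q22699 (allL N22699 (tt N21697 F76166) (tt N21997 (iv F76171)) (tt N21904 F76167) (tt N21693 F76168) (tt N21999 F76169) (tt N21711 F76170) (tt N21692 (iv D33056)))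
theorem Q22701 : ∀ i, i < 22701 → P i := stepQ 22700 Q22700 (allL N22700 (tt N21945 F76176) (tt N21694 (iv D33057)) (tt N21699 F76172) (tt N22013 F76173) (tt N21944 F76174) (tt N21875 F76175) (tt N22233 F76177))
theorem Q22702 : ∀ i, i < 22702 → P i := stepQ 22701 Q22701 (allL N22701 (tt N21704 F76178) (tt N22867 (iv F76908)) (tt N22715 (iv F76244)) (tt N22670 F76179) (tt N21701 F76180) (tt N21705 F76181) (tt N21700 (iv D33058)))
theorem Q22703 : ∀ i, i < 22703 → P i := stepQ 22702 Q22702 (allL N22702 (tt N22871 (iv F76928)) (tt N21705 (iv D33059)) (tt N22708 (iv F76209)) (tt N22683 F76182) (tt N21707 F76183) (tt N22870 (iv F76927)) (tt N22707 (iv F76208)))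
theorem Q22704 : ∀ i, i < 22704 → P i := stepQ 22703 Q22703 (allL N22703 (tt N21706 F76184) (tt N21854 (iv F76187)) (tt N21705 (iv D33060)) (tt N21813 (iv F76188)) (tt N21708 F76185) (tt N22715 (iv F76246)) (tt N21812 F76186))
theorem Q22705 : ∀ i, i < 22705 → P i := stepQ 22704 Q22704 (allL N22704 (tt N21813 F76189) (tt N22381 F76190) (tt N22730 (iv F76314)) (tt N21706 (iv D33061)) (tt N21808 F76191) (tt N22714 (iv F76241)) (tt N21807 F76192))
theorem Q22706 : ∀ i, i < 22706 → P i := stepQ 22705 Q22705 (allL N22705 (tt N22705 F76193) (tt N22857 (iv F76863)) (tt N21716 F76194) (tt N22705 F76195) (tt N21715 (iv D33062)) (tt N22660 F76196) (tt N22660 F76197))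
theorem Q22707 : ∀ i, i < 22707 → P i := stepQ 22706 Q22706 (allL N22706 (tt N21854 F76198) (tt N22662 F76199) (tt N21725 F76200) (tt N21849 F76201) (tt N21724 F76202) (tt N21931 F76203) (tt N21722 (iv D33063)))
theorem Q22708 : ∀ i, i < 22708 → P i := stepQ 22707 Q22707 (allL N22707 (tt N22863 (iv F76896)) (tt N21725 (iv D33064)) (tt N22664 F76204) (tt N22663 F76205) (tt N21728 F76206) (tt N22663 F76207) (tt N22702 F76208))
theorem Q22709 : ∀ i, i < 22709 → P i := stepQ 22708 Q22708 (allL N22708 (tt N22868 (iv F76912)) (tt N21727 (iv D33065)) (tt N22702 F76209) (tt N22664 F76210) (tt N21729 F76211) (tt N22716 (iv F76250)) (tt N22664 F76212))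
theorem Q22710 : ∀ i, i < 22710 → P i := stepQ 22709 Q22709 (allL N22709 (tt N22639 F76213) (tt N22460 F76214) (tt N21738 F76215) (tt N21965 F76216) (tt N21730 (iv D33066)) (tt N21964 F76217) (tt N21738 F76218))
theorem Q22711 : ∀ i, i < 22711 → P i := stepQ 22710 Q22710 (allL N22710 (tt N22758 (iv F76424)) (tt N22130 F76219) (tt N22757 (iv F76423)) (tt N21731 (iv D33067)) (tt N22831 (iv F76735)) (tt N22717 (iv F76254)) (tt N22168 F76220))
theorem Q22712 : ∀ i, i < 22712 → P i := stepQ 22711 Q22711 (allL N22711 (tt N21734 F76221) (tt N22866 F76907) (tt N21752 F76222) (tt N22650 F76223) (tt N21735 F76224) (tt N21732 (iv D33068)) (tt N21752 F76225))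
theorem Q22713 : ∀ i, i < 22713 → P i := stepQ 22712 Q22712 (allL N22712 (tt N21738 F76226) (tt N22637 F76227) (tt N22639 F76228) (tt N22646 F76229) (tt N21736 (iv D33069)) (tt N22659 F76230) (tt N22639 F76231))
theorem Q22714 : ∀ i, i < 22714 → P i := stepQ 22713 Q22713 (allL N22713 (tt N22640 F76232) (tt N21853 F76233) (tt N21748 F76234) (tt N22680 F76235) (tt N21848 F76236) (tt N21746 (iv D33070)) (tt N21903 F76237))
theorem Q22715 : ∀ i, i < 22715 → P i := stepQ 22714 Q22714 (allL N22714 (tt N22730 (iv F76313)) (tt N21748 (iv D33071)) (tt N21813 F76238) (tt N21750 F76239) (tt N21811 F76240) (tt N22704 F76241) (tt N21810 F76242))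
theorem Q22716 : ∀ i, i < 22716 → P i := stepQ 22715 Q22715 (allL N22715 (tt N21750 (iv D33072)) (tt N22682 F76243) (tt N22701 F76244) (tt N22730 (iv F76315)) (tt N21751 F76245) (tt N22703 F76246) (tt N22661 F76247))
theorem Q22717 : ∀ i, i < 22717 → P i := stepQ 22716 Q22716 (allL N22716 (tt N22865 (iv F76899)) (tt N21752 (iv D33073)) (tt N22870 (iv F76924)) (tt N22653 F76248) (tt N21753 F76249) (tt N22708 F76250) (tt N22864 F76898))
theorem Q22718 : ∀ i, i < 22718 → P i := stepQ 22717 Q22717 (allL N22717 (tt N22331 F76251) (tt N22587 F76252) (tt N22687 F76253) (tt N21755 (iv D33074)) (tt N22873 D33230) (tt N22710 F76254) (tt N22753 (iv F76405)))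
theorem Q22719 : ∀ i, i < 22719 → P i := stepQ 22718 Q22718 (allL N22718 (tt N22491 F76255) (tt N21764 (iv D33075)) (tt N21766 F76256) (tt N22849 (iv F76818)) (tt N22258 F76257) (tt N22489 F76258) (tt N22737 (iv F76342)))
theorem Q22720 : ∀ i, i < 22720 → P i := stepQ 22719 Q22719 (allL N22719 (tt N22259 F76259) (tt N22849 (iv F76817)) (tt N22281 F76260) (tt N21764 (iv D33076)) (tt N21883 F76261) (tt N21882 F76262) (tt N21939 F76263))
theorem Q22721 : ∀ i, i < 22721 → P i := stepQ 22720 Q22720 (allL N22720 (tt N22796 (iv F76588)) (tt N22727 (iv F76298)) (tt N22737 (iv F76340)) (tt N22728 (iv F76305)) (tt N22515 F76264) (tt N22736 (iv F76338)) (tt N21766 (iv D33077)))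
theorem Q22722 : ∀ i, i < 22722 → P i := stepQ 22721 Q22721 (allL N22721 (tt N22077 F76265) (tt N21773 F76266) (tt N22074 F76267) (tt N22584 F76268) (tt N21772 (iv D33078)) (tt N22254 F76269) (tt N22073 F76270))
theorem Q22723 : ∀ i, i < 22723 → P i := stepQ 22722 Q22722 (allL N22722 (tt N22821 (iv F76693)) (tt N21782 (iv D33079)) (tt N22776 (iv F76493)) (tt N22571 F76271) (tt N22093 F76272) (tt N22344 F76273) (tt N22088 F76274))
theorem Q22724 : ∀ i, i < 22724 → P i := stepQ 22723 Q22723 (allL N22723 (tt N22324 F76275) (tt N22776 (iv F76492)) (tt N21783 (iv D33080)) (tt N22350 F76276) (tt N22350 F76277) (tt N22336 F76278) (tt N21912 F76279))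
theorem Q22725 : ∀ i, i < 22725 → P i := stepQ 22724 Q22724 (allL N22724 (tt N22242 F76280) (tt N22850 (iv F76822)) (tt N22299 F76281) (tt N21868 F76282) (tt N21786 F76283) (tt N21977 F76284) (tt N21785 (iv D33081)))
theorem Q22726 : ∀ i, i < 22726 → P i := stepQ 22725 Q22725 (allL N22725 (tt N22090 F76290) (tt N21787 (iv D33082)) (tt N22087 F76285) (tt N22597 F76286) (tt N21788 F76287) (tt N22086 F76288) (tt N22243 F76289))
theorem Q22727 : ∀ i, i < 22727 → P i := stepQ 22726 Q22726 (allL N22726 (tt N22431 F76296) (tt N21792 (iv D33083)) (tt N21948 F76291) (tt N22432 F76292) (tt N21986 F76293) (tt N22469 F76294) (tt N22430 F76295))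
theorem Q22728 : ∀ i, i < 22728 → P i := stepQ 22727 Q22727 (allL N22727 (tt N21985 F76297) (tt N22720 F76298) (tt N22509 F76299) (tt N21794 F76300) (tt N22179 F76301) (tt N21979 F76302) (tt N21793 (iv D33084)))
theorem Q22729 : ∀ i, i < 22729 → P i := stepQ 22728 Q22728 (allL N22728 (tt N22499 F76303) (tt N21794 (iv D33085)) (tt N22498 F76304) (tt N22720 F76305) (tt N21980 F76306) (tt N22850 (iv F76826)) (tt N22398 F76307))
theorem Q22730 : ∀ i, i < 22730 → P i := stepQ 22729 Q22729 (allL N22729 (tt N21810 F76308) (tt N21930 F76309) (tt N21807 F76310) (tt N22661 F76311) (tt N21806 (iv D33086)) (tt N21807 F76312) (tt N22730 (iv F76317)))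
theorem Q22731 : ∀ i, i < 22731 → P i := stepQ 22730 Q22730 (allL N22730 (tt N22714 F76313) (tt N22742 (iv F76365)) (tt N22704 F76314) (tt N22715 F76315) (tt N21814 F76316) (tt N21813 (iv D33087)) (tt N22729 F76317))
theorem Q22732 : ∀ i, i < 22732 → P i := stepQ 22731 Q22731 (allL N22731 (tt N22321 F76318) (tt N22764 (iv F76447)) (tt N21828 F76319) (tt N22338 F76320) (tt N22338 F76321) (tt N21827 (iv D33088)) (tt N22337 F76322))
theorem Q22733 : ∀ i, i < 22733 → P i := stepQ 22732 Q22732 (allL N22732 (tt N22732 F76323) (tt N21832 (iv D33089)) (tt N22732 F76324) (tt N22802 (iv F76618)) (tt N22811 (iv F76659)) (tt N22801 (iv F76615)) (tt N22799 (iv F76605)))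
theorem Q22734 : ∀ i, i < 22734 → P i := stepQ 22733 Q22733 (allL N22733 (tt N22825 (iv F76710)) (tt N21835 (iv D33090)) (tt N22823 (iv F76702)) (tt N21837 F76325) (tt N22020 F76326) (tt N22803 (iv F76624)) (tt N22744 (iv F76376)))
theorem Q22735 : ∀ i, i < 22735 → P i := stepQ 22734 Q22734 (allL N22734 (tt N22744 F76377) (tt N21846 (iv D33091)) (tt N22335 F76327) (tt N22581 F76328) (tt N22163 F76329) (tt N22743 (iv F76372)) (tt N22825 (iv F76714)))
theorem Q22736 : ∀ i, i < 22736 → P i := stepQ 22735 Q22735 (allL N22735 (tt N21899 F76330) (tt N21855 (iv D33092)) (tt N21897 F76331) (tt N22649 F76332) (tt N21856 F76333) (tt N22742 (iv F76369)) (tt N21897 F76334))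
theorem Q22737 : ∀ i, i < 22737 → P i := stepQ 22736 Q22736 (allL N22736 (tt N22517 F76335) (tt N21868 (iv D33093)) (tt N21872 F76336) (tt N22850 (iv F76824)) (tt N22240 F76337) (tt N22720 F76338) (tt N22490 F76339))
theorem Q22738 : ∀ i, i < 22738 → P i := stepQ 22737 Q22737 (allL N22737 (tt N22797 (iv F76593)) (tt N22740 (iv F76354)) (tt N22720 F76340) (tt N22741 (iv F76361)) (tt N22486 F76341) (tt N21872 (iv D33094)) (tt N22718 F76342))
theorem Q22739 : ∀ i, i < 22739 → P i := stepQ 22738 Q22738 (allL N22738 (tt N22818 (iv F76682)) (tt N21880 (iv D33095)) (tt N22764 (iv F76448)) (tt N22570 F76343) (tt N22080 F76344) (tt N22075 F76345) (tt N22330 F76346))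
theorem Q22740 : ∀ i, i < 22740 → P i := stepQ 22739 Q22739 (allL N22739 (tt N22412 F76352) (tt N21886 (iv D33096)) (tt N21986 F76347) (tt N22415 F76348) (tt N21948 F76349) (tt N22411 F76350) (tt N22481 F76351))
theorem Q22741 : ∀ i, i < 22741 → P i := stepQ 22740 Q22740 (allL N22740 (tt N21947 F76353) (tt N22737 F76354) (tt N22532 F76355) (tt N21888 F76356) (tt N22172 F76357) (tt N21887 (iv D33097)) (tt N21941 F76358))
theorem Q22742 : ∀ i, i < 22742 → P i := stepQ 22741 Q22741 (allL N22741 (tt N22524 F76359) (tt N21888 (iv D33098)) (tt N22523 F76360) (tt N22737 F76361) (tt N21943 F76362) (tt N22393 F76363) (tt N22849 (iv F76821)))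
theorem Q22743 : ∀ i, i < 22743 → P i := stepQ 22742 Q22742 (allL N22742 (tt N22681 F76364) (tt N22730 F76365) (tt N22655 F76366) (tt N22682 F76367) (tt N21902 F76368) (tt N22735 F76369) (tt N21901 (iv D33099)))
theorem Q22744 : ∀ i, i < 22744 → P i := stepQ 22743 Q22743 (allL N22743 (tt N22824 (iv F76705)) (tt N21914 (iv D33100)) (tt N22820 (iv F76690)) (tt N21916 F76370) (tt N22035 F76371) (tt N22734 F76372) (tt N22803 (iv F76625)))
theorem Q22745 : ∀ i, i < 22745 → P i := stepQ 22744 Q22744 (allL N22744 (tt N22734 (iv F76377)) (tt N21922 (iv D33101)) (tt N22349 F76373) (tt N22594 F76374) (tt N22154 F76375) (tt N22824 (iv F76709)) (tt N22733 F76376))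
theorem Q22746 : ∀ i, i < 22746 → P i := stepQ 22745 Q22745 (allL N22745 (tt N22784 (iv F76524)) (tt N21949 (iv D33102)) (tt N22550 F76378) (tt N22505 F76379) (tt N21950 F76380) (tt N22860 (iv F76884)) (tt N22598 F76381))
theorem Q22747 : ∀ i, i < 22747 → P i := stepQ 22746 Q22746 (allL N22746 (tt N22166 F76382) (tt N22747 (iv F76386)) (tt N22755 (iv F76413)) (tt N22619 F76383) (tt N22860 (iv F76883)) (tt N21950 (iv D33103)) (tt N21991 F76384))
theorem Q22748 : ∀ i, i < 22748 → P i := stepQ 22747 Q22747 (allL N22747 (tt N22157 F76385) (tt N22746 F76386) (tt N22751 (iv F76396)) (tt N22633 F76387) (tt N22859 (iv F76877)) (tt N21953 (iv D33104)) (tt N21988 F76388))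
theorem Q22749 : ∀ i, i < 22749 → P i := stepQ 22748 Q22748 (allL N22748 (tt N22785 (iv F76530)) (tt N21987 (iv D33105)) (tt N22541 F76389) (tt N22528 F76390) (tt N21988 F76391) (tt N22585 F76392) (tt N22859 (iv F76878)))
theorem Q22750 : ∀ i, i < 22750 → P i := stepQ 22749 Q22749 (allL N22749 (tt N22816 (iv F76678)) (tt N22421 F76393) (tt N22020 (iv D33106)) (tt N22823 (iv F76703)) (tt N22823 (iv F76704)) (tt N22804 (iv F76627)) (tt N22788 (iv F76550)))
theorem Q22751 : ∀ i, i < 22751 → P i := stepQ 22750 Q22750 (allL N22750 (tt N22812 (iv F76664)) (tt N22435 F76394) (tt N22035 (iv D33107)) (tt N22820 (iv F76691)) (tt N22820 (iv F76692)) (tt N22791 (iv F76568)) (tt N22804 (iv F76628)))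
theorem Q22752 : ∀ i, i < 22752 → P i := stepQ 22751 Q22751 (allL N22751 (tt N22584 F76395) (tt N22873 (iv F76940)) (tt N22747 F76396) (tt N22077 F76397) (tt N22587 F76398) (tt N22404 F76399) (tt N22076 (iv D33108)))
theorem Q22753 : ∀ i, i < 22753 → P i := stepQ 22752 Q22752 (allL N22752 (tt N22853 (iv F76839)) (tt N22077 (iv D33109)) (tt N22852 (iv F76834)) (tt N22873 (iv F76942)) (tt N22081 F76400) (tt N22405 F76401) (tt N22819 (iv F76688)))
theorem Q22754 : ∀ i, i < 22754 → P i := stepQ 22753 Q22753 (allL N22753 (tt N22081 (iv D33110)) (tt N22463 F76402) (tt N22669 F76406) (tt N22658 F76403) (tt N22853 (iv F76842)) (tt N22464 F76404) (tt N22717 F76405))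
theorem Q22755 : ∀ i, i < 22755 → P i := stepQ 22754 Q22754 (allL N22754 (tt N22669 F76407) (tt N22082 F76408) (tt N22081 (iv D33111)) (tt N22668 F76409) (tt N22852 (iv F76836)) (tt N22476 F76410) (tt N22345 F76411))
theorem Q22756 : ∀ i, i < 22756 → P i := stepQ 22755 Q22755 (allL N22755 (tt N22597 F76412) (tt N22872 (iv F76935)) (tt N22746 F76413) (tt N22090 F76414) (tt N22600 F76415) (tt N22089 (iv D33112)) (tt N22423 F76416))
theorem Q22757 : ∀ i, i < 22757 → P i := stepQ 22756 Q22756 (allL N22756 (tt N22851 (iv F76828)) (tt N22090 (iv D33113)) (tt N22854 (iv F76845)) (tt N22872 (iv F76936)) (tt N22094 F76417) (tt N22822 (iv F76700)) (tt N22424 F76418))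
theorem Q22758 : ∀ i, i < 22758 → P i := stepQ 22757 Q22757 (allL N22757 (tt N22094 (iv D33114)) (tt N22475 F76419) (tt N22710 F76423) (tt N22688 F76420) (tt N22851 (iv F76831)) (tt N22687 F76421) (tt N22476 F76422))
theorem Q22759 : ∀ i, i < 22759 → P i := stepQ 22758 Q22758 (allL N22758 (tt N22710 F76424) (tt N22095 F76425) (tt N22094 (iv D33115)) (tt N22675 F76426) (tt N22854 (iv F76847)) (tt N22331 F76427) (tt N22464 F76428))
theorem Q22760 : ∀ i, i < 22760 → P i := stepQ 22759 Q22759 (allL N22759 (tt N22533 F76429) (tt N22096 (iv D33116)) (tt N22097 F76430) (tt N22697 F76431) (tt N22556 F76432) (tt N22759 F76433) (tt N22696 F76434))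
theorem Q22761 : ∀ i, i < 22761 → P i := stepQ 22760 Q22760 (allL N22760 (tt N22097 (iv D33117)) (tt N22615 F76435) (tt N22533 F76436) (tt N22769 (iv F76465)) (tt N22769 (iv F76466)) (tt N22760 F76437) (tt N22847 (iv F76810)))
theorem Q22762 : ∀ i, i < 22762 → P i := stepQ 22761 Q22761 (allL N22761 (tt N22847 (iv F76807)) (tt N22874 D33231) (tt N22696 F76438) (tt N22770 (iv F76469)) (tt N22770 (iv F76470)) (tt N22847 (iv F76809)) (tt N22097 (iv D33118)))
theorem Q22763 : ∀ i, i < 22763 → P i := stepQ 22762 Q22762 (allL N22762 (tt N22779 (iv F76502)) (tt N22099 (iv D33119)) (tt N22552 F76439) (tt N22119 F76440) (tt N22119 F76441) (tt N22765 (iv F76455)) (tt N22874 (iv F76950)))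
theorem Q22764 : ∀ i, i < 22764 → P i := stepQ 22763 Q22763 (allL N22763 (tt N22102 (iv D33120)) (tt N22408 (iv F76445)) (tt N22325 F76442) (tt N22105 F76443) (tt N22105 F76444) (tt N22874 (iv F76949)) (tt N22329 (iv F76446)))
theorem Q22765 : ∀ i, i < 22765 → P i := stepQ 22764 Q22764 (allL N22764 (tt N22874 (iv F76945)) (tt N22731 F76447) (tt N22738 F76448) (tt N22106 F76449) (tt N22106 F76450) (tt N22102 (iv D33121)) (tt N22779 (iv F76507)))
theorem Q22766 : ∀ i, i < 22766 → P i := stepQ 22765 Q22765 (allL N22765 (tt N22329 F76451) (tt N22775 (iv F76487)) (tt N22328 F76452) (tt N22107 F76453) (tt N22107 F76454) (tt N22762 F76455) (tt N22102 (iv D33122)))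
theorem Q22767 : ∀ i, i < 22767 → P i := stepQ 22766 Q22766 (allL N22766 (tt N22780 (iv F76508)) (tt N22103 (iv D33123)) (tt N22543 F76456) (tt N22108 F76457) (tt N22108 F76458) (tt N22875 D33232) (tt N22775 F76491))
theorem Q22768 : ∀ i, i < 22768 → P i := stepQ 22767 Q22767 (allL N22767 (tt N22106 F76459) (tt N22770 (iv F76468)) (tt N22326 F76460) (tt N22874 (iv F76947)) (tt N22874 (iv F76948)) (tt N22105 (iv D33124)) (tt N22119 F76461))
theorem Q22769 : ∀ i, i < 22769 → P i := stepQ 22768 Q22768 (allL N22768 (tt N22118 F76462) (tt N22778 (iv F76499)) (tt N22340 F76463) (tt N22875 (iv F76954)) (tt N22875 (iv F76955)) (tt N22108 (iv D33125)) (tt N22116 F76464))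
theorem Q22770 : ∀ i, i < 22770 → P i := stepQ 22769 Q22769 (allL N22769 (tt N22110 (iv D33126)) (tt N22861 (iv F76886)) (tt N22794 F76582) (tt N22760 F76465) (tt N22760 F76466) (tt N22769 F76467) (tt N22836 F76757))
theorem Q22771 : ∀ i, i < 22771 → P i := stepQ 22770 Q22770 (allL N22770 (tt N22836 (iv F76755)) (tt N22767 F76468) (tt N22855 (iv F76852)) (tt N22761 F76469) (tt N22761 F76470) (tt N22836 (iv F76756)) (tt N22110 (iv D33127)))
theorem Q22772 : ∀ i, i < 22772 → P i := stepQ 22771 Q22771 (allL N22771 (tt N22511 F76471) (tt N22113 (iv D33128)) (tt N22114 F76472) (tt N22645 F76473) (tt N22558 F76474) (tt N22644 F76475) (tt N22771 F76476))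
theorem Q22773 : ∀ i, i < 22773 → P i := stepQ 22772 Q22772 (allL N22772 (tt N22114 (iv D33129)) (tt N22629 F76477) (tt N22511 F76478) (tt N22777 (iv F76496)) (tt N22777 (iv F76497)) (tt N22845 (iv F76799)) (tt N22772 F76479))
theorem Q22774 : ∀ i, i < 22774 → P i := stepQ 22773 Q22773 (allL N22773 (tt N22845 (iv F76797)) (tt N22875 (iv F76952)) (tt N22644 F76480) (tt N22778 (iv F76500)) (tt N22778 (iv F76501)) (tt N22114 (iv D33130)) (tt N22845 (iv F76800)))
theorem Q22775 : ∀ i, i < 22775 → P i := stepQ 22774 Q22774 (allL N22774 (tt N22115 (iv D33131)) (tt N22427 (iv F76485)) (tt N22339 F76481) (tt N22116 F76482) (tt N22116 F76483) (tt N22343 F76484) (tt N22875 (iv F76956)))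
theorem Q22776 : ∀ i, i < 22776 → P i := stepQ 22775 Q22775 (allL N22775 (tt N22343 F76486) (tt N22765 F76487) (tt N22342 F76488) (tt N22117 F76489) (tt N22117 F76490) (tt N22115 (iv D33132)) (tt N22766 (iv F76491)))
theorem Q22777 : ∀ i, i < 22777 → P i := stepQ 22776 Q22776 (allL N22776 (tt N22875 (iv F76951)) (tt N22723 F76492) (tt N22722 F76493) (tt N22118 F76494) (tt N22118 F76495) (tt N22780 (iv F76512)) (tt N22115 (iv D33133)))
theorem Q22778 : ∀ i, i < 22778 → P i := stepQ 22777 Q22777 (allL N22777 (tt N22121 (iv D33134)) (tt N22862 (iv F76891)) (tt N22795 F76587) (tt N22772 F76496) (tt N22772 F76497) (tt N22843 F76791) (tt N22777 F76498))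
theorem Q22779 : ∀ i, i < 22779 → P i := stepQ 22778 Q22778 (allL N22778 (tt N22843 (iv F76789)) (tt N22768 F76499) (tt N22856 (iv F76858)) (tt N22773 F76500) (tt N22773 F76501) (tt N22121 (iv D33135)) (tt N22843 (iv F76790)))
theorem Q22780 : ∀ i, i < 22780 → P i := stepQ 22779 Q22779 (allL N22779 (tt N22762 F76502) (tt N22125 (iv D33136)) (tt N22330 F76503) (tt N22333 F76504) (tt N22333 F76505) (tt N22329 F76506) (tt N22764 F76507))
theorem Q22781 : ∀ i, i < 22781 → P i := stepQ 22780 Q22780 (allL N22780 (tt N22766 F76508) (tt N22129 (iv D33137)) (tt N22344 F76509) (tt N22347 F76510) (tt N22347 F76511) (tt N22776 F76512) (tt N22343 F76513))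
theorem Q22782 : ∀ i, i < 22782 → P i := stepQ 22781 Q22781 (allL N22781 (tt N22781 F76514) (tt N22144 F76515) (tt N22781 F76516) (tt N22143 (iv D33138)) (tt N22801 (iv F76614)) (tt N22811 (iv F76660)) (tt N22876 D33233))
theorem Q22783 : ∀ i, i < 22783 → P i := stepQ 22782 Q22782 (allL N22782 (tt N22782 F76517) (tt N22809 (iv F76649)) (tt N22782 F76518) (tt N22876 (iv F76960)) (tt N22277 F76519) (tt N22146 F76520) (tt N22143 (iv D33139)))
theorem Q22784 : ∀ i, i < 22784 → P i := stepQ 22783 Q22783 (allL N22783 (tt N22783 F76521) (tt N22147 F76522) (tt N22783 F76523) (tt N22146 (iv D33140)) (tt N22799 (iv F76604)) (tt N22876 (iv F76962)) (tt N22811 (iv F76661)))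
theorem Q22785 : ∀ i, i < 22785 → P i := stepQ 22784 Q22784 (allL N22784 (tt N22745 F76524) (tt N22148 (iv D33141)) (tt N22391 F76525) (tt N22564 F76526) (tt N22608 F76527) (tt N22602 F76528) (tt N22389 F76529))
theorem Q22786 : ∀ i, i < 22786 → P i := stepQ 22785 Q22785 (allL N22785 (tt N22748 F76530) (tt N22149 (iv D33142)) (tt N22388 F76531) (tt N22561 F76532) (tt N22623 F76533) (tt N22386 F76534) (tt N22589 F76535))
theorem Q22787 : ∀ i, i < 22787 → P i := stepQ 22786 Q22786 (allL N22786 (tt N22206 F76536) (tt N22152 F76537) (tt N22193 F76538) (tt N22636 F76539) (tt N22151 (iv D33143)) (tt N22635 F76540) (tt N22786 F76541))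
theorem Q22788 : ∀ i, i < 22788 → P i := stepQ 22787 Q22787 (allL N22787 (tt N22215 F76542) (tt N22636 F76543) (tt N22454 F76544) (tt N22152 (iv D33144)) (tt N22456 F76545) (tt N22189 F76546) (tt N22211 F76547))
theorem Q22789 : ∀ i, i < 22789 → P i := stepQ 22788 Q22788 (allL N22788 (tt N22791 (iv F76564)) (tt N22155 F76548) (tt N22154 (iv D33145)) (tt N22349 F76551) (tt N22349 F76549) (tt N22812 (iv F76663)) (tt N22749 F76550))
theorem Q22790 : ∀ i, i < 22790 → P i := stepQ 22789 Q22789 (allL N22789 (tt N22221 F76552) (tt N22161 F76553) (tt N22186 F76554) (tt N22673 F76555) (tt N22160 (iv D33146)) (tt N22789 F76556) (tt N22672 F76557))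
theorem Q22791 : ∀ i, i < 22791 → P i := stepQ 22790 Q22790 (allL N22790 (tt N22229 F76558) (tt N22673 F76559) (tt N22441 F76560) (tt N22161 (iv D33147)) (tt N22443 F76561) (tt N22226 F76562) (tt N22182 F76563))
theorem Q22792 : ∀ i, i < 22792 → P i := stepQ 22791 Q22791 (allL N22791 (tt N22788 F76564) (tt N22164 F76565) (tt N22163 (iv D33148)) (tt N22335 F76566) (tt N22335 F76567) (tt N22750 F76568) (tt N22816 (iv F76677)))
theorem Q22793 : ∀ i, i < 22793 → P i := stepQ 22792 Q22792 (allL N22792 (tt N22592 F76569) (tt N22793 (iv F76574)) (tt N22172 F76570) (tt N22859 (iv F76876)) (tt N22532 F76571) (tt N22171 (iv D33149)) (tt N22528 F76572))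
theorem Q22794 : ∀ i, i < 22794 → P i := stepQ 22793 Q22793 (allL N22793 (tt N22579 F76573) (tt N22792 F76574) (tt N22179 F76575) (tt N22860 (iv F76882)) (tt N22509 F76576) (tt N22505 F76577) (tt N22178 (iv D33150)))
theorem Q22795 : ∀ i, i < 22795 → P i := stepQ 22794 Q22794 (allL N22794 (tt N22556 F76578) (tt N22185 (iv D33151)) (tt N22769 (iv F76582)) (tt N22186 F76579) (tt N22533 F76580) (tt N22794 F76581) (tt N22848 (iv F76816)))
theorem Q22796 : ∀ i, i < 22796 → P i := stepQ 22795 Q22795 (allL N22795 (tt N22558 F76583) (tt N22192 (iv D33152)) (tt N22777 (iv F76587)) (tt N22193 F76584) (tt N22511 F76585) (tt N22846 (iv F76806)) (tt N22795 F76586))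
theorem Q22797 : ∀ i, i < 22797 → P i := stepQ 22796 Q22796 (allL N22796 (tt N22720 F76588) (tt N22218 F76589) (tt N22797 (iv F76595)) (tt N22499 F76590) (tt N22216 (iv D33153)) (tt N22517 F76591) (tt N22479 F76592))
theorem Q22798 : ∀ i, i < 22798 → P i := stepQ 22797 Q22797 (allL N22797 (tt N22737 F76593) (tt N22233 F76594) (tt N22796 F76595) (tt N22524 F76596) (tt N22231 (iv D33154)) (tt N22467 F76597) (tt N22491 F76598))
theorem Q22799 : ∀ i, i < 22799 → P i := stepQ 22798 Q22798 (allL N22798 (tt N22798 F76599) (tt N22271 (iv D33155)) (tt N22800 (iv F76607)) (tt N22801 (iv F76613)) (tt N22273 F76600) (tt N22802 (iv F76620)) (tt N22312 F76601))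
theorem Q22800 : ∀ i, i < 22800 → P i := stepQ 22799 Q22799 (allL N22799 (tt N22799 F76602) (tt N22283 (iv D33156)) (tt N22799 F76603) (tt N22800 (iv F76608)) (tt N22783 F76604) (tt N22807 (iv F76638)) (tt N22732 F76605))
theorem Q22801 : ∀ i, i < 22801 → P i := stepQ 22800 Q22800 (allL N22800 (tt N22800 F76606) (tt N22292 (iv D33157)) (tt N22798 F76607) (tt N22799 F76608) (tt N22295 F76609) (tt N22312 F76610) (tt N22802 (iv F76621)))
theorem Q22802 : ∀ i, i < 22802 → P i := stepQ 22801 Q22801 (allL N22801 (tt N22801 F76611) (tt N22302 (iv D33158)) (tt N22801 F76612) (tt N22798 F76613) (tt N22781 F76614) (tt N22732 F76615) (tt N22807 (iv F76639)))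
theorem Q22803 : ∀ i, i < 22803 → P i := stepQ 22802 Q22802 (allL N22802 (tt N22802 F76616) (tt N22303 (iv D33159)) (tt N22312 F76617) (tt N22732 F76618) (tt N22314 F76619) (tt N22798 F76620) (tt N22800 F76621))
theorem Q22804 : ∀ i, i < 22804 → P i := stepQ 22803 Q22803 (allL N22803 (tt N22829 (iv F76725)) (tt N22307 (iv D33160)) (tt N22877 D33234) (tt N22377 F76622) (tt N22308 F76623) (tt N22733 F76624) (tt N22743 F76625))
theorem Q22805 : ∀ i, i < 22805 → P i := stepQ 22804 Q22804 (allL N22804 (tt N22828 (iv F76721)) (tt N22311 F76626) (tt N22308 (iv D33161)) (tt N22877 (iv F76967)) (tt N22877 (iv F76964)) (tt N22749 F76627) (tt N22750 F76628))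
theorem Q22806 : ∀ i, i < 22806 → P i := stepQ 22805 Q22805 (allL N22805 (tt N22309 (iv D33162)) (tt N22876 (iv F76958)) (tt N22878 D33235) (tt N22809 (iv F76648)) (tt N22310 F76629) (tt N22612 F76630) (tt N22626 F76631))
theorem Q22807 : ∀ i, i < 22807 → P i := stepQ 22806 Q22806 (allL N22806 (tt N22878 (iv F76968)) (tt N22877 (iv F76963)) (tt N22309 (iv D33163)) (tt N22311 F76635) (tt N22311 F76632) (tt N22613 F76633) (tt N22627 F76634))
theorem Q22808 : ∀ i, i < 22808 → P i := stepQ 22807 Q22807 (allL N22807 (tt N22807 F76636) (tt N22310 (iv D33164)) (tt N22807 F76640) (tt N22312 F76637) (tt N22876 (iv F76961)) (tt N22799 F76638) (tt N22801 F76639))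
theorem Q22809 : ∀ i, i < 22809 → P i := stepQ 22808 Q22808 (allL N22808 (tt N22311 F76641) (tt N22808 F76642) (tt N22310 (iv D33165)) (tt N22878 (iv F76970)) (tt N22878 (iv F76971)) (tt N22615 F76643) (tt N22629 F76644))
theorem Q22810 : ∀ i, i < 22810 → P i := stepQ 22809 Q22809 (allL N22809 (tt N22375 F76645) (tt N22782 F76649) (tt N22313 (iv D33166)) (tt N22805 F76648) (tt N22376 (iv F76650)) (tt N22620 F76646) (tt N22604 F76647))
theorem Q22811 : ∀ i, i < 22811 → P i := stepQ 22810 Q22810 (allL N22810 (tt N22377 F76651) (tt N22810 F76652) (tt N22376 F76653) (tt N22829 (iv F76727)) (tt N22313 (iv D33167)) (tt N22621 F76654) (tt N22606 F76655))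
theorem Q22812 : ∀ i, i < 22812 → P i := stepQ 22811 Q22811 (allL N22811 (tt N22811 F76656) (tt N22315 (iv D33168)) (tt N22811 F76657) (tt N22316 F76658) (tt N22732 F76659) (tt N22781 F76660) (tt N22783 F76661))
theorem Q22813 : ∀ i, i < 22813 → P i := stepQ 22812 Q22812 (allL N22812 (tt N22750 F76664) (tt N22319 (iv D33169)) (tt N22632 F76662) (tt N22817 (iv F76679)) (tt N22817 (iv F76680)) (tt N22788 F76663) (tt N22828 (iv F76723)))
theorem Q22814 : ∀ i, i < 22814 → P i := stepQ 22813 Q22813 (allL N22813 (tt N22813 F76665) (tt N22879 D33236) (tt N22813 F76666) (tt N22814 (iv F76670)) (tt N22814 (iv F76671)) (tt N22320 (iv D33170)) (tt N22323 (iv F76667)))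
theorem Q22815 : ∀ i, i < 22815 → P i := stepQ 22814 Q22814 (allL N22814 (tt N22814 F76668) (tt N22828 (iv F76724)) (tt N22814 F76669) (tt N22813 F76670) (tt N22813 F76671) (tt N22323 F76672) (tt N22320 (iv D33171)))
theorem Q22816 : ∀ i, i < 22816 → P i := stepQ 22815 Q22815 (allL N22815 (tt N22823 (iv F76701)) (tt N22321 (iv D33172)) (tt N22825 (iv F76711)) (tt N22816 (iv F76675)) (tt N22816 (iv F76676)) (tt N22879 (iv F76976)) (tt N22335 F76673))
theorem Q22817 : ∀ i, i < 22817 → P i := stepQ 22816 Q22816 (allL N22816 (tt N22749 F76678) (tt N22322 (iv D33173)) (tt N22618 F76674) (tt N22815 F76675) (tt N22815 F76676) (tt N22828 (iv F76722)) (tt N22791 F76677))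
theorem Q22818 : ∀ i, i < 22818 → P i := stepQ 22817 Q22817 (allL N22817 (tt N22820 (iv F76689)) (tt N22324 (iv D33174)) (tt N22824 (iv F76706)) (tt N22812 F76679) (tt N22812 F76680) (tt N22349 F76681) (tt N22879 (iv F76977)))
theorem Q22819 : ∀ i, i < 22819 → P i := stepQ 22818 Q22818 (allL N22818 (tt N22738 F76682) (tt N22537 F76683) (tt N22874 (iv F76946)) (tt N22538 F76684) (tt N22326 F76685) (tt N22325 (iv D33175)) (tt N22552 F76686))
theorem Q22820 : ∀ i, i < 22820 → P i := stepQ 22819 Q22819 (allL N22819 (tt N22873 (iv F76939)) (tt N22328 (iv D33176)) (tt N22822 (iv F76698)) (tt N22853 (iv F76841)) (tt N22331 F76687) (tt N22854 (iv F76848)) (tt N22752 F76688))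
theorem Q22821 : ∀ i, i < 22821 → P i := stepQ 22820 Q22820 (allL N22820 (tt N22817 F76689) (tt N22841 (iv F76779)) (tt N22743 F76690) (tt N22750 F76691) (tt N22750 F76692) (tt N22335 (iv D33177)) (tt N22877 (iv F76966)))
theorem Q22822 : ∀ i, i < 22822 → P i := stepQ 22821 Q22821 (allL N22821 (tt N22722 F76693) (tt N22548 F76694) (tt N22875 (iv F76953)) (tt N22540 F76695) (tt N22340 F76696) (tt N22543 F76697) (tt N22339 (iv D33178)))
theorem Q22823 : ∀ i, i < 22823 → P i := stepQ 22822 Q22822 (allL N22822 (tt N22872 (iv F76934)) (tt N22342 (iv D33179)) (tt N22819 F76698) (tt N22851 (iv F76830)) (tt N22345 F76699) (tt N22756 F76700) (tt N22852 (iv F76838)))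
theorem Q22824 : ∀ i, i < 22824 → P i := stepQ 22823 Q22823 (allL N22823 (tt N22815 F76701) (tt N22838 (iv F76765)) (tt N22733 F76702) (tt N22749 F76703) (tt N22749 F76704) (tt N22877 (iv F76965)) (tt N22349 (iv D33180)))
theorem Q22825 : ∀ i, i < 22825 → P i := stepQ 22824 Q22824 (allL N22824 (tt N22743 F76705) (tt N22358 (iv D33181)) (tt N22817 F76706) (tt N22606 F76707) (tt N22632 F76708) (tt N22744 F76709) (tt N22829 (iv F76729)))
theorem Q22826 : ∀ i, i < 22826 → P i := stepQ 22825 Q22825 (allL N22825 (tt N22733 F76710) (tt N22364 (iv D33182)) (tt N22815 F76711) (tt N22621 F76712) (tt N22618 F76713) (tt N22829 (iv F76728)) (tt N22734 F76714))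
theorem Q22827 : ∀ i, i < 22827 → P i := stepQ 22826 Q22826 (allL N22826 (tt N22826 F76715) (tt N22366 (iv D33183)) (tt N22827 (iv F76718)) (tt N22827 (iv F76719)) (tt N22368 F76716) (tt N22830 (iv F76732)) (tt N22869 (iv F76922)))
theorem Q22828 : ∀ i, i < 22828 → P i := stepQ 22827 Q22827 (allL N22827 (tt N22827 F76717) (tt N22372 (iv D33184)) (tt N22826 F76718) (tt N22826 F76719) (tt N22373 F76720) (tt N22869 (iv F76921)) (tt N22830 (iv F76733)))
theorem Q22829 : ∀ i, i < 22829 → P i := stepQ 22828 Q22828 (allL N22828 (tt N22804 F76721) (tt N22814 F76724) (tt N22379 (iv D33185)) (tt N22879 (iv F76974)) (tt N22879 (iv F76975)) (tt N22816 F76722) (tt N22812 F76723))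
theorem Q22830 : ∀ i, i < 22830 → P i := stepQ 22829 Q22829 (allL N22829 (tt N22803 F76725) (tt N22829 F76726) (tt N22879 F76979) (tt N22810 F76727) (tt N22379 (iv D33186)) (tt N22825 F76728) (tt N22824 F76729))
theorem Q22831 : ∀ i, i < 22831 → P i := stepQ 22830 Q22830 (allL N22830 (tt N22830 F76730) (tt N22380 (iv D33187)) (tt N22869 (iv F76918)) (tt N22869 (iv F76919)) (tt N22382 F76731) (tt N22826 F76732) (tt N22827 F76733))
theorem Q22832 : ∀ i, i < 22832 → P i := stepQ 22831 Q22831 (allL N22831 (tt N22854 (iv F76844)) (tt N22392 (iv D33188)) (tt N22851 (iv F76829)) (tt N22405 F76734) (tt N22710 F76735) (tt N22873 (iv F76943)) (tt N22405 F76736))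
theorem Q22833 : ∀ i, i < 22833 → P i := stepQ 22832 Q22832 (allL N22832 (tt N22393 (iv D33189)) (tt N22401 F76737) (tt N22398 (iv F76742)) (tt N22467 F76738) (tt N22503 F76739) (tt N22524 F76740) (tt N22498 F76741))
theorem Q22834 : ∀ i, i < 22834 → P i := stepQ 22833 Q22833 (allL N22833 (tt N22398 F76743) (tt N22395 F76744) (tt N22393 (iv D33190)) (tt N22479 F76748) (tt N22504 F76745) (tt N22523 F76746) (tt N22499 F76747))
theorem Q22835 : ∀ i, i < 22835 → P i := stepQ 22834 Q22834 (allL N22834 (tt N22852 (iv F76833)) (tt N22399 (iv D33191)) (tt N22853 (iv F76840)) (tt N22424 F76749) (tt N22669 F76750) (tt N22424 F76751) (tt N22872 (iv F76938)))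
theorem Q22836 : ∀ i, i < 22836 → P i := stepQ 22835 Q22835 (allL N22835 (tt N22838 (iv F76764)) (tt N22847 (iv F76808)) (tt N22409 F76752) (tt N22410 F76753) (tt N22410 F76754) (tt N22408 (iv D33192)) (tt N22837 (iv F76763)))
theorem Q22837 : ∀ i, i < 22837 → P i := stepQ 22836 Q22836 (allL N22836 (tt N22770 F76755) (tt N22410 (iv D33193)) (tt N22848 (iv F76814)) (tt N22847 F76811) (tt N22847 (iv F76812)) (tt N22770 F76756) (tt N22769 (iv F76757)))
theorem Q22838 : ∀ i, i < 22838 → P i := stepQ 22837 Q22837 (allL N22837 (tt N22416 F76758) (tt N22630 F76759) (tt N22415 F76760) (tt N22420 F76761) (tt N22420 F76762) (tt N22414 (iv D33194)) (tt N22835 F76763))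
theorem Q22839 : ∀ i, i < 22839 → P i := stepQ 22838 Q22838 (allL N22838 (tt N22835 F76764) (tt N22823 F76765) (tt N22417 F76766) (tt N22421 F76767) (tt N22421 F76768) (tt N22580 F76769) (tt N22416 (iv D33195)))
theorem Q22840 : ∀ i, i < 22840 → P i := stepQ 22839 Q22839 (allL N22839 (tt N22422 F76770) (tt N22616 F76771) (tt N22432 F76772) (tt N22434 F76773) (tt N22434 F76774) (tt N22842 (iv F76788)) (tt N22419 (iv D33196)))
theorem Q22841 : ∀ i, i < 22841 → P i := stepQ 22840 Q22840 (allL N22840 (tt N22844 (iv F76792)) (tt N22420 (iv D33197)) (tt N22628 F76775) (tt N22630 F76776) (tt N22630 F76777) (tt N22627 F76778) (tt N22861 (iv F76889)))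
theorem Q22842 : ∀ i, i < 22842 → P i := stepQ 22841 Q22841 (allL N22841 (tt N22842 (iv F76784)) (tt N22820 F76779) (tt N22433 F76780) (tt N22435 F76781) (tt N22435 F76782) (tt N22422 (iv D33198)) (tt N22593 F76783))
theorem Q22843 : ∀ i, i < 22843 → P i := stepQ 22842 Q22842 (allL N22842 (tt N22841 F76784) (tt N22845 (iv F76798)) (tt N22428 F76785) (tt N22429 F76786) (tt N22429 F76787) (tt N22839 F76788) (tt N22427 (iv D33199)))
theorem Q22844 : ∀ i, i < 22844 → P i := stepQ 22843 Q22843 (allL N22843 (tt N22778 F76789) (tt N22429 (iv D33200)) (tt N22846 (iv F76804)) (tt N22845 F76801) (tt N22845 (iv F76802)) (tt N22777 (iv F76791)) (tt N22778 F76790))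
theorem Q22845 : ∀ i, i < 22845 → P i := stepQ 22844 Q22844 (allL N22844 (tt N22840 F76792) (tt N22434 (iv D33201)) (tt N22614 F76793) (tt N22616 F76794) (tt N22616 F76795) (tt N22862 (iv F76894)) (tt N22613 F76796))
theorem Q22846 : ∀ i, i < 22846 → P i := stepQ 22845 Q22845 (allL N22845 (tt N22773 F76797) (tt N22842 F76798) (tt N22436 (iv D33202)) (tt N22843 (iv F76801)) (tt N22843 F76802) (tt N22772 F76799) (tt N22773 F76800))
theorem Q22847 : ∀ i, i < 22847 → P i := stepQ 22846 Q22846 (allL N22846 (tt N22856 (iv F76856)) (tt N22439 F76803) (tt N22843 F76804) (tt N22638 F76805) (tt N22436 (iv D33203)) (tt N22795 F76806) (tt N22856 (iv F76861)))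
theorem Q22848 : ∀ i, i < 22848 → P i := stepQ 22847 Q22847 (allL N22847 (tt N22761 F76807) (tt N22835 F76808) (tt N22449 (iv D33204)) (tt N22836 (iv F76811)) (tt N22836 F76812) (tt N22761 F76809) (tt N22760 F76810))
theorem Q22849 : ∀ i, i < 22849 → P i := stepQ 22848 Q22848 (allL N22848 (tt N22855 (iv F76850)) (tt N22452 F76813) (tt N22836 F76814) (tt N22692 F76815) (tt N22449 (iv D33205)) (tt N22855 (iv F76855)) (tt N22794 F76816))
theorem Q22850 : ∀ i, i < 22850 → P i := stepQ 22849 Q22849 (allL N22849 (tt N22496 (iv D33206)) (tt N22719 F76817) (tt N22850 (iv F76823)) (tt N22718 F76818) (tt N22502 F76819) (tt N22498 F76820) (tt N22741 F76821))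
theorem Q22851 : ∀ i, i < 22851 → P i := stepQ 22850 Q22850 (allL N22850 (tt N22521 (iv D33207)) (tt N22724 F76822) (tt N22849 F76823) (tt N22736 F76824) (tt N22525 F76825) (tt N22728 F76826) (tt N22523 F76827))
theorem Q22852 : ∀ i, i < 22852 → P i := stepQ 22851 Q22851 (allL N22851 (tt N22756 F76828) (tt N22544 (iv D33208)) (tt N22831 F76829) (tt N22822 F76830) (tt N22757 F76831) (tt N22872 (iv F76937)) (tt N22546 F76832))
theorem Q22853 : ∀ i, i < 22853 → P i := stepQ 22852 Q22852 (allL N22852 (tt N22834 F76833) (tt N22545 (iv D33209)) (tt N22752 F76834) (tt N22546 F76835) (tt N22754 F76836) (tt N22546 F76837) (tt N22822 F76838))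
theorem Q22854 : ∀ i, i < 22854 → P i := stepQ 22853 Q22853 (allL N22853 (tt N22752 F76839) (tt N22553 (iv D33210)) (tt N22834 F76840) (tt N22819 F76841) (tt N22753 F76842) (tt N22555 F76843) (tt N22873 (iv F76944)))
theorem Q22855 : ∀ i, i < 22855 → P i := stepQ 22854 Q22854 (allL N22854 (tt N22831 F76844) (tt N22554 (iv D33211)) (tt N22756 F76845) (tt N22555 F76846) (tt N22758 F76847) (tt N22819 F76848) (tt N22555 F76849))
theorem Q22856 : ∀ i, i < 22856 → P i := stepQ 22855 Q22855 (allL N22855 (tt N22848 F76850) (tt N22698 F76851) (tt N22770 F76852) (tt N22691 F76853) (tt N22696 F76854) (tt N22848 F76855) (tt N22556 (iv D33212)))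
theorem Q22857 : ∀ i, i < 22857 → P i := stepQ 22856 Q22856 (allL N22856 (tt N22846 F76856) (tt N22646 F76857) (tt N22778 F76858) (tt N22637 F76859) (tt N22644 F76860) (tt N22558 (iv D33213)) (tt N22846 F76861))
theorem Q22858 : ∀ i, i < 22858 → P i := stepQ 22857 Q22857 (allL N22857 (tt N22574 F76862) (tt N22705 F76863) (tt N22694 F76864) (tt N22857 F76865) (tt N22573 (iv D33214)) (tt N22574 F76866) (tt N22693 F76867))
theorem Q22859 : ∀ i, i < 22859 → P i := stepQ 22858 Q22858 (allL N22858 (tt N22577 F76868) (tt N22660 F76869) (tt N22642 F76870) (tt N22858 F76871) (tt N22576 (iv D33215)) (tt N22641 F76872) (tt N22577 F76873))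
theorem Q22860 : ∀ i, i < 22860 → P i := stepQ 22859 Q22859 (allL N22859 (tt N22589 F76874) (tt N22860 (iv F76880)) (tt N22587 F76875) (tt N22792 F76876) (tt N22747 F76877) (tt N22586 (iv D33216)) (tt N22748 F76878))
theorem Q22861 : ∀ i, i < 22861 → P i := stepQ 22860 Q22860 (allL N22860 (tt N22602 F76879) (tt N22859 F76880) (tt N22600 F76881) (tt N22793 F76882) (tt N22746 F76883) (tt N22745 F76884) (tt N22599 (iv D33217)))
theorem Q22862 : ∀ i, i < 22862 → P i := stepQ 22861 Q22861 (allL N22861 (tt N22613 F76885) (tt N22769 F76886) (tt N22612 (iv D33218)) (tt N22615 F76887) (tt N22615 F76888) (tt N22878 (iv F76972)) (tt N22840 F76889))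
theorem Q22863 : ∀ i, i < 22863 → P i := stepQ 22862 Q22862 (allL N22862 (tt N22627 F76890) (tt N22777 F76891) (tt N22626 (iv D33219)) (tt N22629 F76892) (tt N22629 F76893) (tt N22844 F76894) (tt N22878 (iv F76973)))
theorem Q22864 : ∀ i, i < 22864 → P i := stepQ 22863 Q22863 (allL N22863 (tt N22707 F76896) (tt N22650 (iv D33220)) (tt N22867 (iv F76909)) (tt N22866 (iv F76904)) (tt N22651 F76895) (tt N22866 (iv F76906)) (tt N22871 (iv F76933)))
theorem Q22865 : ∀ i, i < 22865 → P i := stepQ 22864 Q22864 (allL N22864 (tt N22653 (iv D33221)) (tt N22870 (iv F76923)) (tt N22866 (iv F76903)) (tt N22865 (iv F76901)) (tt N22656 F76897) (tt N22867 (iv F76911)) (tt N22716 (iv F76898)))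
theorem Q22866 : ∀ i, i < 22866 → P i := stepQ 22865 Q22865 (allL N22865 (tt N22716 F76899) (tt N22871 (iv F76929)) (tt N22683 F76900) (tt N22864 F76901) (tt N22657 F76902) (tt N22868 F76916) (tt N22653 (iv D33222)))
theorem Q22867 : ∀ i, i < 22867 → P i := stepQ 22866 Q22866 (allL N22866 (tt N22663 (iv D33223)) (tt N22711 (iv F76907)) (tt N22864 F76903) (tt N22863 F76904) (tt N22665 F76905) (tt N22863 F76906) (tt N22870 (iv F76926)))
theorem Q22868 : ∀ i, i < 22868 → P i := stepQ 22867 Q22867 (allL N22867 (tt N22664 (iv D33224)) (tt N22701 F76908) (tt N22863 F76909) (tt N22868 (iv F76913)) (tt N22666 F76910) (tt N22864 F76911) (tt N22868 (iv F76915)))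
theorem Q22869 : ∀ i, i < 22869 → P i := stepQ 22868 Q22868 (allL N22868 (tt N22708 F76912) (tt N22670 (iv D33225)) (tt N22871 (iv F76930)) (tt N22867 F76913) (tt N22671 F76914) (tt N22865 (iv F76916)) (tt N22867 F76915))
theorem Q22870 : ∀ i, i < 22870 → P i := stepQ 22869 Q22869 (allL N22869 (tt N22869 F76917) (tt N22677 (iv D33226)) (tt N22830 F76918) (tt N22830 F76919) (tt N22679 F76920) (tt N22827 F76921) (tt N22826 F76922))
theorem Q22871 : ∀ i, i < 22871 → P i := stepQ 22870 Q22870 (allL N22870 (tt N22683 (iv D33227)) (tt N22864 F76923) (tt N22716 F76924) (tt N22871 (iv F76931)) (tt N22684 F76925) (tt N22702 F76927) (tt N22866 F76926))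
theorem Q22872 : ∀ i, i < 22872 → P i := stepQ 22871 Q22871 (allL N22871 (tt N22702 F76928) (tt N22865 F76929) (tt N22868 F76930) (tt N22870 F76931) (tt N22685 F76932) (tt N22683 (iv D33228)) (tt N22863 F76933))
theorem Q22873 : ∀ i, i < 22873 → P i := stepQ 22872 Q22872 (allL N22872 (tt N22822 F76934) (tt N22755 F76935) (tt N22873 (iv F76941)) (tt N22756 F76936) (tt N22687 (iv D33229)) (tt N22851 F76937) (tt N22834 F76938))
theorem Q22874 : ∀ i, i < 22874 → P i := stepQ 22873 Q22873 (allL N22873 (tt N22819 F76939) (tt N22751 F76940) (tt N22872 F76941) (tt N22752 F76942) (tt N22717 (iv D33230)) (tt N22831 F76943) (tt N22853 F76944))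
theorem Q22875 : ∀ i, i < 22875 → P i := stepQ 22874 Q22874 (allL N22874 (tt N22764 F76945) (tt N22761 (iv D33231)) (tt N22818 F76946) (tt N22767 F76947) (tt N22767 F76948) (tt N22763 F76949) (tt N22762 F76950))
theorem Q22876 : ∀ i, i < 22876 → P i := stepQ 22875 Q22875 (allL N22875 (tt N22776 F76951) (tt N22773 F76952) (tt N22821 F76953) (tt N22768 F76954) (tt N22768 F76955) (tt N22766 (iv D33232)) (tt N22774 F76956))
theorem Q22877 : ∀ i, i < 22877 → P i := stepQ 22876 Q22876 (allL N22876 (tt N22876 F76957) (tt N22805 F76958) (tt N22876 F76959) (tt N22782 F76960) (tt N22807 F76961) (tt N22783 F76962) (tt N22781 (iv D33233)))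
theorem Q22878 : ∀ i, i < 22878 → P i := stepQ 22877 Q22877 (allL N22877 (tt N22879 (iv F76978)) (tt N22806 F76963) (tt N22803 (iv D33234)) (tt N22804 F76967) (tt N22804 F76964) (tt N22823 F76965) (tt N22820 F76966))
theorem Q22879 : ∀ i, i < 22879 → P i := stepQ 22878 Q22878 (allL N22878 (tt N22806 F76968) (tt N22878 F76969) (tt N22805 (iv D33235)) (tt N22808 F76970) (tt N22808 F76971) (tt N22861 F76972) (tt N22862 F76973))
theorem Q22880 : ∀ i, i < 22880 → P i := stepQ 22879 Q22879 (allL N22879 (tt N22877 F76978) (tt N22813 (iv D33236)) (tt N22829 (iv F76979)) (tt N22828 F76974) (tt N22828 F76975) (tt N22815 F76976) (tt N22817 F76977))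

theorem closedN : ∀ i, i < N → P i := Q22880

end Cfsg.Agent.Helper17.SuzbTC
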